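import Mathlib
import Cfsg.Agent.Lib.Helper2.BNPair

/-!
# Coxeter combinatorics of the Weyl group of a (B, N)-pair (helper17)

Built on helper2's exchange and deletion conditions:
* `WA P A`: the parabolic subgroup of the Weyl group generated by a set `A` of distinguished generators;
* `DC P A B`: the double coset relation, `IsRed P A B w`: `w` has no left descent in `A` and no right
  descent in `B`;
* `exists_decomp`: elements of a double coset factor through a minimal element with additive lengths;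
* `isRed_unique`, `exists_isRed`: every double coset contains exactly one reduced element;
* `allDescL_unique`, `exists_allDesc`: the longest element.
-/

set_option autoImplicit false
set_option linter.unusedSectionVars false

namespace Cfsg.Agent.Helper17.BNCox

open Cfsg Cfsg.Agent.Helper2.WordLen Cfsg.Agent.Helper2.BN

variable {G : Type*} [Group G] (P : Cfsg.BNPair G)

/-- the parabolic subgroup of the Weyl group attached to a set of distinguished generators -/
def WA (A : Set P.S) : Subgroup (W P) where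
  carrier := {w | ∃ l : List P.S, (∀ x ∈ l, x ∈ A) ∧ wp (σ P) l = w}
  one_mem' := ⟨[], by simp, by simp⟩
  mul_mem' := by
    rintro _ _ ⟨l, hl, rfl⟩ ⟨l', hl', rfl⟩
    refine ⟨l ++ l', ?_, by simp⟩
    intro x hx
    rcases List.mem_append.1 hx with h | h
    · exact hl x h
    · exact hl' x h
  inv_mem' := by
    rintro _ ⟨l, hl, rfl⟩
    refine ⟨l.reverse, ?_, wp_reverse (σ P) (σ_mul_self P) l⟩
    intro x hx
    exact hl x (List.mem_reverse.1 hx)

theorem mem_WA (A : Set P.S) (w : W P) :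
    w ∈ WA P A ↔ ∃ l : List P.S, (∀ x ∈ l, x ∈ A) ∧ wp (σ P) l = w := Iff.rfl

theorem σ_mem_WA {A : Set P.S} {s : P.S} (hs : s ∈ A) : σ P s ∈ WA P A :=
  ⟨[s], by simpa using hs, by simp⟩

/-- elements of a parabolic subgroup have reduced words in its generators -/
theorem exists_reduced_word {A : Set P.S} {w : W P} (hw : w ∈ WA P A) :
    ∃ l : List P.S, (∀ x ∈ l, x ∈ A) ∧ wp (σ P) l = w ∧ l.length = ℓ P w := by
  obtain ⟨l, hl, rfl⟩ := hw
  obtain ⟨l', hl', hwp, hred⟩ := exists_reduced_pword P (fun x => x ∈ A) l hl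
  exact ⟨l', hl', hwp, hred.symm.trans (by rw [hwp])⟩

theorem ℓ_mul_le (w w' : W P) : ℓ P (w * w') ≤ ℓ P w + ℓ P w' := len_mul_le (σ P) (wp_surj P) w w'

theorem ℓ_inv (w : W P) : ℓ P w⁻¹ = ℓ P w := len_inv (σ P) (wp_surj P) (σ_mul_self P) w

theorem ℓ_one : ℓ P (1 : W P) = 0 := len_one (σ P)

theorem ℓ_eq_zero_iff (w : W P) : ℓ P w = 0 ↔ w = 1 := len_eq_zero_iff (σ P) (wp_surj P) w

theorem ℓ_mul_gen_ne (s : P.S) (w : W P) : ℓ P (w * σ P s) ≠ ℓ P w := by
  have h := ℓ_gen_mul_ne P s w⁻¹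
  rw [ℓ_inv] at h
  intro h'
  apply h
  rw [← h', ← ℓ_inv P (w * σ P s), mul_inv_rev, σ_inv]

/-- the double coset relation -/
def DC (A B : Set P.S) (w w' : W P) : Prop := ∃ x ∈ WA P A, ∃ y ∈ WA P B, w' = x * w * y

theorem DC_refl (A B : Set P.S) (w : W P) : DC P A B w w :=
  ⟨1, (WA P A).one_mem, 1, (WA P B).one_mem, by simp⟩

theorem DC_symm {A B : Set P.S} {w w' : W P} (h : DC P A B w w') : DC P A B w' w := by
  obtain ⟨x, hx, y, hy, rfl⟩ := h
  exact ⟨x⁻¹, (WA P A).inv_mem hx, y⁻¹, (WA P B).inv_mem hy, by group⟩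

theorem DC_trans {A B : Set P.S} {w w' w'' : W P} (h : DC P A B w w') (h' : DC P A B w' w'') :
    DC P A B w w'' := by
  obtain ⟨x, hx, y, hy, rfl⟩ := h
  obtain ⟨x', hx', y', hy', rfl⟩ := h'
  exact ⟨x' * x, (WA P A).mul_mem hx' hx, y * y', (WA P B).mul_mem hy hy', by group⟩

/-- the double coset setoid -/
def DCsetoid (A B : Set P.S) : Setoid (W P) where
  r := DC P A B
  iseqv := ⟨DC_refl P A B, DC_symm P, DC_trans P⟩

/-- no left descent in `A`, no right descent in `B` -/
def IsRed (A B : Set P.S) (w : W P) : Prop :=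
  (∀ s ∈ A, ℓ P w < ℓ P (σ P s * w)) ∧ (∀ t ∈ B, ℓ P w < ℓ P (w * σ P t))

/-- the factorisation through a minimal element of the double coset, with additive lengths -/
theorem exists_decomp (A B : Set P.S) (d : W P) (hmin : ∀ w', DC P A B d w' → ℓ P d ≤ ℓ P w')
    (w' : W P) (h : DC P A B d w') :
    ∃ x ∈ WA P A, ∃ y ∈ WA P B, w' = x * d * y ∧ ℓ P w' = ℓ P x + ℓ P d + ℓ P y := by
  have key : ∀ k : ℕ, ∀ x ∈ WA P A, ∀ y ∈ WA P B, w' = x * d * y → ℓ P x + ℓ P y = k →
      ∃ x ∈ WA P A, ∃ y ∈ WA P B, w' = x * d * y ∧ ℓ P w' = ℓ P x + ℓ P d + ℓ P y := by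
    intro k
    induction k using Nat.strong_induction_on with
    | _ k ih =>
      intro x hx y hy hw hk
      obtain ⟨lx, hlx, hwx, hlenx⟩ := exists_reduced_word P hx
      obtain ⟨ly, hly, hwy, hleny⟩ := exists_reduced_word P hy
      obtain ⟨ld, hwd, hlend⟩ := exists_reduced (σ P) (wp_surj P) d
      by_cases hred : IsReduced (σ P) (lx ++ (ld ++ ly))
      · refine ⟨x, hx, y, hy, hw, ?_⟩
        have hred' : ℓ P (wp (σ P) (lx ++ (ld ++ ly))) = (lx ++ (ld ++ ly)).length := hred
        rw [wp_append, wp_append, hwx, hwd, hwy, ← mul_assoc, ← hw] at hred'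
        have hlend' : ld.length = ℓ P d := hlend
        rw [hred', List.length_append, List.length_append, hlenx, hlend', hleny]
        ring
      · obtain ⟨l', hsub, hlen, hwp⟩ := deletion P _ hred
        rw [List.sublist_append_iff] at hsub
        obtain ⟨lx', l₂, rfl, hsx, hs₂⟩ := hsub
        rw [List.sublist_append_iff] at hs₂
        obtain ⟨ld', ly', rfl, hsd, hsy⟩ := hs₂
        have hx' : wp (σ P) lx' ∈ WA P A := ⟨lx', fun z hz => hlx z (hsx.subset hz), rfl⟩
        have hy' : wp (σ P) ly' ∈ WA P B := ⟨ly', fun z hz => hly z (hsy.subset hz), rfl⟩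
        rw [wp_append, wp_append, wp_append, wp_append, hwx, hwd, hwy, ← mul_assoc,
          ← mul_assoc, ← hw] at hwp
        -- the middle part is again in the double coset
        have hd' : DC P A B d (wp (σ P) ld') := by
          apply DC_trans P h
          refine ⟨(wp (σ P) lx')⁻¹, (WA P A).inv_mem hx', (wp (σ P) ly')⁻¹,
            (WA P B).inv_mem hy', ?_⟩
          rw [← hwp]
          group
        have h1 := hmin _ hd'
        have h2 : ℓ P (wp (σ P) ld') ≤ ld'.length := len_le (σ P) ld'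
        have h3 := hsd.length_le
        have hlend' : ld.length = ℓ P d := hlend
        have h4 : ld'.length = ld.length := by
          omega
        have h5 : ld' = ld := hsd.eq_of_length h4
        subst h5
        rw [hwd] at hwp
        have h8 : ℓ P (wp (σ P) lx') ≤ lx'.length := len_le (σ P) lx'
        have h9 : ℓ P (wp (σ P) ly') ≤ ly'.length := len_le (σ P) ly'
        simp only [List.length_append] at hlen
        exact ih (ℓ P (wp (σ P) lx') + ℓ P (wp (σ P) ly')) (by omega) _ hx' _ hy' hwp.symm rfl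
  obtain ⟨x, hx, y, hy, hw⟩ := h
  exact key _ x hx y hy hw rfl

/-- a reduced element of a double coset is the element of minimal length -/
theorem isRed_eq_of_min (A B : Set P.S) (d : W P) (hmin : ∀ w', DC P A B d w' → ℓ P d ≤ ℓ P w')
    (w : W P) (h : DC P A B d w) (hw : IsRed P A B w) : w = d := by
  obtain ⟨x, hx, y, hy, hwe, hlen⟩ := exists_decomp P A B d hmin w h
  have hx1 : x = 1 := by
    by_contra hne
    have hpos : ℓ P x ≠ 0 := fun h0 => hne ((ℓ_eq_zero_iff P x).1 h0)
    obtain ⟨lx, hlx, hwx, hlenx⟩ := exists_reduced_word P hx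
    match lx, hlx, hwx, hlenx with
    | [], _, _, hlenx => simp at hlenx; omega
    | s :: lx', hlx, hwx, hlenx =>
      have hs : s ∈ A := hlx s List.mem_cons_self
      have h1 := hw.1 s hs
      have h2 : σ P s * w = wp (σ P) lx' * d * y := by
        rw [hwe, ← hwx, wp_cons, ← mul_assoc, ← mul_assoc, σ_mul_cancel]
      have h3 : ℓ P (σ P s * w) ≤ ℓ P (wp (σ P) lx') + ℓ P d + ℓ P y := by
        rw [h2]
        exact (ℓ_mul_le P _ _).trans (Nat.add_le_add_right (ℓ_mul_le P _ _) _)
      have h4 : ℓ P (wp (σ P) lx') ≤ lx'.length := len_le (σ P) lx'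
      simp only [List.length_cons] at hlenx
      omega
  have hy1 : y = 1 := by
    by_contra hne
    have hpos : ℓ P y ≠ 0 := fun h0 => hne ((ℓ_eq_zero_iff P y).1 h0)
    obtain ⟨ly, hly, hwy, hleny⟩ := exists_reduced_word P hy
    rcases List.eq_nil_or_concat ly with hnil | ⟨ly', t, rfl⟩
    · subst hnil; simp at hleny; omega
    · rw [List.concat_eq_append] at hly hwy hleny
      have ht : t ∈ B := hly t (by simp)
      have h1 := hw.2 t ht
      have h2 : w * σ P t = x * d * wp (σ P) ly' := by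
        rw [hwe, ← hwy, wp_append, wp_singleton, mul_assoc, mul_assoc, mul_assoc, σ_mul_self,
          mul_one, ← mul_assoc]
      have h3 : ℓ P (w * σ P t) ≤ ℓ P x + ℓ P d + ℓ P (wp (σ P) ly') := by
        rw [h2]
        exact (ℓ_mul_le P _ _).trans (Nat.add_le_add_right (ℓ_mul_le P _ _) _)
      have h4 : ℓ P (wp (σ P) ly') ≤ ly'.length := len_le (σ P) ly'
      simp only [List.length_append, List.length_singleton] at hleny
      omega
  rw [hwe, hx1, hy1]
  simp

/-- every double coset has an element of minimal length -/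
theorem exists_min (A B : Set P.S) (w : W P) :
    ∃ d, DC P A B w d ∧ ∀ w', DC P A B d w' → ℓ P d ≤ ℓ P w' := by
  classical
  have hne : ∃ k, ∃ d, DC P A B w d ∧ ℓ P d = k := ⟨_, w, DC_refl P A B w, rfl⟩
  obtain ⟨d, hd, hk⟩ := Nat.find_spec hne
  refine ⟨d, hd, ?_⟩
  intro w' hw'
  rw [hk]
  exact Nat.find_min' hne ⟨w', DC_trans P hd hw', rfl⟩

/-- an element of minimal length in its double coset is reduced -/
theorem isRed_of_min (A B : Set P.S) (d : W P) (hmin : ∀ w', DC P A B d w' → ℓ P d ≤ ℓ P w') :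
    IsRed P A B d := by
  constructor
  · intro s hs
    have h1 := hmin (σ P s * d) ⟨σ P s, σ_mem_WA P hs, 1, (WA P B).one_mem, by simp⟩
    have h2 := ℓ_gen_mul_ne P s d
    omega
  · intro t ht
    have h1 := hmin (d * σ P t) ⟨1, (WA P A).one_mem, σ P t, σ_mem_WA P ht, by simp⟩
    have h2 := ℓ_mul_gen_ne P t d
    omega

theorem exists_isRed (A B : Set P.S) (w : W P) : ∃ d, DC P A B w d ∧ IsRed P A B d := by
  obtain ⟨d, hd, hmin⟩ := exists_min P A B w
  exact ⟨d, hd, isRed_of_min P A B d hmin⟩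

theorem isRed_unique (A B : Set P.S) (w w' : W P) (hw : IsRed P A B w) (hw' : IsRed P A B w')
    (h : DC P A B w w') : w = w' := by
  obtain ⟨d, hd, hmin⟩ := exists_min P A B w
  have h1 := isRed_eq_of_min P A B d hmin w (DC_symm P hd) hw
  have h2 := isRed_eq_of_min P A B d hmin w' (DC_trans P (DC_symm P hd) h) hw'
  rw [h1, h2]

/-- the reduced elements are representatives of the double cosets -/
theorem card_quotient_DC (A B : Set P.S) :
    Nat.card (Quotient (DCsetoid P A B)) = Nat.card {w : W P // IsRed P A B w} := by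
  symm
  refine Nat.card_eq_of_bijective
    (fun w : {w : W P // IsRed P A B w} => (Quotient.mk (DCsetoid P A B) w.1)) ⟨?_, ?_⟩
  · intro w w' h
    have h1 : DC P A B w.1 w'.1 := Quotient.exact h
    exact Subtype.ext (isRed_unique P A B _ _ w.2 w'.2 h1)
  · intro c
    induction c using Quotient.inductionOn with | h w => ?_
    obtain ⟨d, hd, hred⟩ := exists_isRed P A B w
    refine ⟨⟨d, hred⟩, ?_⟩
    exact Quotient.sound (DC_symm P hd)

/-! ### The longest element -/

/-- an element all of whose left products with generators are shorter absorbs lengths -/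
theorem ℓ_mul_of_allDescL (w : W P) (hw : ∀ s : P.S, ℓ P (σ P s * w) < ℓ P w) :
    ∀ (k : ℕ) (v : W P), ℓ P v = k → ℓ P (v * w) + ℓ P v = ℓ P w := by
  intro k
  induction k with
  | zero =>
    intro v hv
    rw [(ℓ_eq_zero_iff P v).1 hv, ℓ_one]
    simp
  | succ k ih =>
    intro v hv
    obtain ⟨s, v', hvv', hv'⟩ := len_succ_right (σ P) (wp_surj P) hv
    have hv'' : ℓ P v' = k := hv'
    have ih' := ih v' hv'
    obtain ⟨l₁, hl₁, hlen₁⟩ := exists_reduced (σ P) (wp_surj P) v'⁻¹
    obtain ⟨l₂, hl₂, hlen₂⟩ := exists_reduced (σ P) (wp_surj P) (v' * w)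
    have hlen₁' : l₁.length = k := by
      have : l₁.length = ℓ P v'⁻¹ := hlen₁
      rw [this, ℓ_inv, hv'']
    have hlen₂' : l₂.length = ℓ P (v' * w) := hlen₂
    have hw12 : wp (σ P) (l₁ ++ l₂) = w := by
      rw [wp_append, hl₁, hl₂]
      group
    have hnot : ¬ Up P s (wp (σ P) (l₁ ++ l₂)) := by
      rw [not_Up_iff_lt, hw12]
      exact hw s
    obtain ⟨j, hj, hjeq⟩ := exchange P s _ hnot
    have hge : ℓ P w ≤ ℓ P v + ℓ P (v * w) := by
      have := ℓ_mul_le P v⁻¹ (v * w)
      rw [ℓ_inv, inv_mul_cancel_left] at this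
      exact this
    by_cases hjk : j < l₁.length
    · exfalso
      rw [List.eraseIdx_append_of_lt_length hjk, wp_append, wp_append, ← mul_assoc] at hjeq
      have h1 : σ P s * wp (σ P) l₁ = wp (σ P) (l₁.eraseIdx j) := mul_right_cancel hjeq
      have h2 : σ P s * wp (σ P) l₁ = v⁻¹ := by
        rw [hl₁, hvv', mul_inv_rev, σ_inv]
      have h3 : ℓ P (wp (σ P) (l₁.eraseIdx j)) ≤ (l₁.eraseIdx j).length := len_le (σ P) _
      rw [← h1, h2, ℓ_inv, List.length_eraseIdx_of_lt hjk] at h3
      have hv3 : ℓ P v = k + 1 := hv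
      omega
    · have hjk' : l₁.length ≤ j := by omega
      rw [List.eraseIdx_append_of_length_le hjk', wp_append, wp_append, hl₁, hl₂] at hjeq
      have h1 : v * w = wp (σ P) (l₂.eraseIdx (j - l₁.length)) := by
        have : v * w = v' * (σ P s * (v'⁻¹ * (v' * w))) := by
          rw [hvv']
          group
        rw [this, hjeq]
        group
      have hj2 : j - l₁.length < l₂.length := by
        rw [List.length_append] at hj
        omega
      have h3 : ℓ P (wp (σ P) (l₂.eraseIdx (j - l₁.length))) ≤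
          (l₂.eraseIdx (j - l₁.length)).length := len_le (σ P) _
      rw [← h1, List.length_eraseIdx_of_lt hj2] at h3
      have hv3 : ℓ P v = k + 1 := hv
      omega

/-- the element with all left descents is unique -/
theorem allDescL_unique (w w' : W P) (hw : ∀ s : P.S, ℓ P (σ P s * w) < ℓ P w)
    (hw' : ∀ s : P.S, ℓ P (σ P s * w') < ℓ P w') : w = w' := by
  have h1 := ℓ_mul_of_allDescL P w hw _ (w' * w⁻¹) rfl
  have h2 := ℓ_mul_of_allDescL P w' hw' _ (w * w'⁻¹) rfl
  rw [inv_mul_cancel_right] at h1 h2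
  have h3 : ℓ P (w' * w⁻¹) = 0 := by omega
  have h4 := (ℓ_eq_zero_iff P _).1 h3
  exact (mul_inv_eq_one.1 h4).symm

theorem allDescR_inv (w : W P) (hw : ∀ s : P.S, ℓ P (w * σ P s) < ℓ P w) (s : P.S) :
    ℓ P (σ P s * w⁻¹) < ℓ P w⁻¹ := by
  have h : σ P s * w⁻¹ = (w * σ P s)⁻¹ := by rw [mul_inv_rev, σ_inv]
  rw [h, ℓ_inv, ℓ_inv]
  exact hw s

theorem allDescL_inv (w : W P) (hw : ∀ s : P.S, ℓ P (σ P s * w) < ℓ P w) (s : P.S) :
    ℓ P (w⁻¹ * σ P s) < ℓ P w⁻¹ := by
  have h : w⁻¹ * σ P s = (σ P s * w)⁻¹ := by rw [mul_inv_rev, σ_inv]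
  rw [h, ℓ_inv, ℓ_inv]
  exact hw s

/-- the longest element: it has all descents on both sides, and is the only element with all descents
on one side -/
theorem exists_longest [Finite (W P)] :
    ∃ w₀ : W P, (∀ s : P.S, ℓ P (σ P s * w₀) < ℓ P w₀) ∧ (∀ s : P.S, ℓ P (w₀ * σ P s) < ℓ P w₀) ∧
      (∀ w : W P, (∀ s : P.S, ℓ P (σ P s * w) < ℓ P w) → w = w₀) ∧
      (∀ w : W P, (∀ s : P.S, ℓ P (w * σ P s) < ℓ P w) → w = w₀) := by
  obtain ⟨w₀, hmax⟩ := Finite.exists_max (fun w : W P => ℓ P w)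
  have hL : ∀ s : P.S, ℓ P (σ P s * w₀) < ℓ P w₀ := by
    intro s
    have h1 := hmax (σ P s * w₀)
    have h2 := ℓ_gen_mul_ne P s w₀
    omega
  have hR : ∀ s : P.S, ℓ P (w₀ * σ P s) < ℓ P w₀ := by
    intro s
    have h1 := hmax (w₀ * σ P s)
    have h2 := ℓ_mul_gen_ne P s w₀
    omega
  refine ⟨w₀, hL, hR, fun w hw => allDescL_unique P w w₀ hw hL, ?_⟩
  intro w hw
  have h1 := allDescL_unique P w⁻¹ w₀⁻¹ (allDescR_inv P w hw) (allDescR_inv P w₀ hR)
  exact inv_injective h1

end Cfsg.Agent.Helper17.BNCox
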