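import Mathlib
import Cfsg.Agent.Lib.Helper2.BNPair

/-!
# Double cosets of parabolic subgroups in a (B, N)-pair (helper17)

For subgroups `M, M' ≥ B` of a group with a (B, N)-pair and `n, n' ∈ N`: if `n' ∈ M n M'` then
`n' ≡ u n v` modulo `B ∩ N` for some `u ∈ N ∩ M`, `v ∈ N ∩ M'` (`exists_of_mem_doubleCoset`).
-/

set_option autoImplicit false
set_option linter.unusedSectionVars false

namespace Cfsg.Agent.Helper17.BNDC

open Cfsg Cfsg.Agent.Helper2.WordLen Cfsg.Agent.Helper2.BN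

variable {G : Type*} [Group G] (P : Cfsg.BNPair G)

/-- absorbing a word on the left -/
theorem gp_mul_mem (l : List P.S) : ∀ (w : W P) (g : G), g ∈ C P w →
    ∃ l' : List P.S, (∀ x ∈ l', x ∈ l) ∧ gp P l * g ∈ C P (wp (σ P) l' * w) := by
  induction l with
  | nil =>
    intro w g hg
    exact ⟨[], by simp, by simpa using hg⟩
  | cons s l ih =>
    intro w g hg
    obtain ⟨l', hl', h⟩ := ih w g hg
    rw [gp_cons, mul_assoc]
    rcases L1 P s h with h1 | h1
    · refine ⟨s :: l', ?_, ?_⟩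
      · intro x hx
        rcases List.mem_cons.mp hx with rfl | hx
        · exact List.mem_cons_self
        · exact List.mem_cons_of_mem _ (hl' x hx)
      · rw [wp_cons, mul_assoc]; exact h1
    · exact ⟨l', fun x hx => List.mem_cons_of_mem _ (hl' x hx), h1⟩

/-- absorbing a word on the right -/
theorem mul_gp_mem (l : List P.S) : ∀ (w : W P) (g : G), g ∈ C P w →
    ∃ l' : List P.S, (∀ x ∈ l', x ∈ l) ∧ g * gp P l ∈ C P (w * wp (σ P) l') := by
  induction l with
  | nil =>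
    intro w g hg
    exact ⟨[], by simp, by simpa using hg⟩
  | cons s l ih =>
    intro w g hg
    rw [gp_cons, ← mul_assoc]
    rcases L1r P s hg with h1 | h1
    · obtain ⟨l', hl', h⟩ := ih _ _ h1
      refine ⟨s :: l', ?_, ?_⟩
      · intro x hx
        rcases List.mem_cons.mp hx with rfl | hx
        · exact List.mem_cons_self
        · exact List.mem_cons_of_mem _ (hl' x hx)
      · rw [wp_cons, ← mul_assoc]; exact h
    · obtain ⟨l', hl', h⟩ := ih _ _ h1
      exact ⟨l', fun x hx => List.mem_cons_of_mem _ (hl' x hx), h⟩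

/-- elements of a subgroup containing `B` lie in cells of words with letters in the subgroup -/
theorem exists_word (M : Subgroup G) (hM : P.B ≤ M) (m : G) (hm : m ∈ M) :
    ∃ l : List P.S, (∀ x ∈ l, (x : G) ∈ M) ∧ m ∈ C P (wp (σ P) l) := by
  have h := eq_parabolic P M hM
  rw [h, mem_parabolic_iff P (fun s hs => hs.1)] at hm
  obtain ⟨l, hl, hm⟩ := hm
  exact ⟨l, fun x hx => (hl x hx).2, hm⟩

theorem gp_mem_of_letters (M : Subgroup G) (l : List P.S) (hl : ∀ x ∈ l, (x : G) ∈ M) :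
    gp P l ∈ M := by
  induction l with
  | nil => simp
  | cons s l ih =>
    rw [gp_cons]
    exact M.mul_mem (hl s List.mem_cons_self) (ih fun x hx => hl x (List.mem_cons_of_mem _ hx))

/-- the double cosets of `N`-elements with respect to two subgroups containing `B` -/
theorem exists_of_mem_doubleCoset (M M' : Subgroup G) (hM : P.B ≤ M) (hM' : P.B ≤ M')
    (n n' : P.N) (h : (n' : G) ∈ DoubleCoset.doubleCoset (n : G) (M : Set G) M') :
    ∃ u v : P.N, (u : G) ∈ M ∧ (v : G) ∈ M' ∧ π P n' = π P u * π P n * π P v := by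
  rw [DoubleCoset.mem_doubleCoset] at h
  obtain ⟨m, hm, m', hm', hn'⟩ := h
  obtain ⟨l₁, hl₁, hm₁⟩ := exists_word P M hM m hm
  obtain ⟨l₂, hl₂, hm₂⟩ := exists_word P M' hM' m' hm'
  -- write `m = b * gp l₁ * b'` and `m' = c * gp l₂ * c'`
  rw [← π_gp, mem_C_iff] at hm₁ hm₂
  obtain ⟨b, hb, b', hb', rfl⟩ := hm₁
  obtain ⟨c, hc, c', hc', rfl⟩ := hm₂
  have h0 : b' * (n : G) * c ∈ C P (π P n) := by
    rw [mem_C_iff]; exact ⟨b', hb', c, hc, rfl⟩
  obtain ⟨l₁', hl₁', h1⟩ := gp_mul_mem P l₁ _ _ h0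
  obtain ⟨l₂', hl₂', h2⟩ := mul_gp_mem P l₂ _ _ h1
  have h3 : (n' : G) ∈ C P (wp (σ P) l₁' * π P n * wp (σ P) l₂') := by
    have e : (n' : G) = b * (gp P l₁ * (b' * (n : G) * c) * gp P l₂) * c' := by
      rw [hn']
      simp only [Subgroup.coe_mk]
      group
    rw [e]
    exact C_mul_B P (B_mul_C P hb h2) hc'
  have h4 := C_inj P (mem_C_self P n') h3
  refine ⟨⟨gp P l₁', gp_mem P l₁'⟩, ⟨gp P l₂', gp_mem P l₂'⟩, ?_, ?_, ?_⟩
  · exact gp_mem_of_letters P M l₁' (fun x hx => hl₁ x (hl₁' x hx))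
  · exact gp_mem_of_letters P M' l₂' (fun x hx => hl₂ x (hl₂' x hx))
  · rw [π_gp, π_gp]
    exact h4

/-- Bruhat decomposition: every element lies in `B n B` for some `n ∈ N` -/
theorem exists_mem_doubleCoset (g : G) :
    ∃ n : P.N, g ∈ DoubleCoset.doubleCoset (n : G) (P.B : Set G) P.B := by
  obtain ⟨w, hw⟩ := exists_C P g
  obtain ⟨n, rfl⟩ := π_surj P w
  exact ⟨n, (mem_C_iff_doubleCoset P n g).1 hw⟩

end Cfsg.Agent.Helper17.BNDC
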