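import Mathlib
import Cfsg.Agent.Lib.Helper17.BNCox1
import Cfsg.Agent.Lib.Helper17.BNDoubleCoset

/-!
# Parabolic double cosets in a group with a (B, N)-pair (helper17)

* `cell P g`: the Weyl group element `w` with `g ∈ B w B`;
* `par P A`: the parabolic subgroup attached to a set `A` of distinguished generators;
* `card_doubleCoset`: `#(P_A \ G / P_B)` is the number of `(A, B)`-reduced Weyl group elements.
-/

set_option autoImplicit false
set_option linter.unusedSectionVars false

namespace Cfsg.Agent.Helper17.BNCox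

open Cfsg Cfsg.Agent.Helper2.WordLen Cfsg.Agent.Helper2.BN

variable {G : Type*} [Group G] (P : Cfsg.BNPair G)

/-- the cell of an element -/
noncomputable def cell (g : G) : W P := Classical.choose (exists_C P g)

theorem mem_C_cell (g : G) : g ∈ C P (cell P g) := Classical.choose_spec (exists_C P g)

theorem cell_eq {g : G} {w : W P} (h : g ∈ C P w) : cell P g = w := C_inj P (mem_C_cell P g) h

theorem cell_mul_B (g : G) {b : G} (hb : b ∈ P.B) : cell P (g * b) = cell P g :=
  cell_eq P (C_mul_B P (mem_C_cell P g) hb)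

theorem cell_B_mul {b : G} (hb : b ∈ P.B) (g : G) : cell P (b * g) = cell P g :=
  cell_eq P (B_mul_C P hb (mem_C_cell P g))

theorem cell_coe (n : P.N) : cell P (n : G) = π P n := cell_eq P (mem_C_self P n)

theorem cell_eq_one_iff (g : G) : cell P g = 1 ↔ g ∈ P.B := by
  constructor
  · intro h
    have := mem_C_cell P g
    rwa [h, C_one] at this
  · intro h
    exact cell_eq P ((C_one P g).2 h)

/-- the parabolic subgroup attached to a set of distinguished generators -/
def par (A : Set P.S) : Subgroup G := P.parabolic (Subtype.val '' A)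

theorem B_le_par (A : Set P.S) : P.B ≤ par P A := B_le_parabolic P _

theorem mem_par_iff (A : Set P.S) (g : G) : g ∈ par P A ↔ cell P g ∈ WA P A := by
  unfold par
  rw [mem_parabolic_iff P (by rintro _ ⟨x, _, rfl⟩; exact x.2), mem_WA]
  constructor
  · rintro ⟨l, hl, hg⟩
    refine ⟨l, ?_, (cell_eq P hg).symm⟩
    intro x hx
    obtain ⟨y, hy, hxy⟩ := hl x hx
    rwa [← Subtype.ext hxy]
  · rintro ⟨l, hl, hw⟩
    refine ⟨l, fun x hx => ⟨x, hl x hx, rfl⟩, ?_⟩
    rw [hw]
    exact mem_C_cell P g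

theorem coe_mem_par_iff (A : Set P.S) (n : P.N) : (n : G) ∈ par P A ↔ π P n ∈ WA P A := by
  rw [mem_par_iff, cell_coe]

theorem par_empty : par P (∅ : Set P.S) = P.B := by
  apply le_antisymm
  · intro g hg
    rw [mem_par_iff] at hg
    obtain ⟨l, hl, hw⟩ := hg
    have : l = [] := by
      cases l with
      | nil => rfl
      | cons x l => exact absurd (hl x List.mem_cons_self) (Set.notMem_empty x)
    subst this
    rw [wp_nil] at hw
    exact (cell_eq_one_iff P g).1 hw.symm
  · exact B_le_par P ∅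

/-- elements of the same parabolic double coset have cells in the same double coset -/
theorem DC_cell_of_mem (A B : Set P.S) (g g' : G)
    (h : g' ∈ DoubleCoset.doubleCoset g (par P A : Set G) (par P B)) :
    DC P A B (cell P g) (cell P g') := by
  rw [DoubleCoset.mem_doubleCoset] at h
  obtain ⟨p, hp, p', hp', hg'⟩ := h
  obtain ⟨n, hn⟩ := π_surj P (cell P g)
  obtain ⟨n', hn'⟩ := π_surj P (cell P g')
  have h1 := mem_C_cell P g
  have h2 := mem_C_cell P g'
  rw [← hn, mem_C_iff] at h1
  rw [← hn', mem_C_iff] at h2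
  obtain ⟨b, hb, c, hc, hg⟩ := h1
  obtain ⟨b', hb', c', hc', hg2⟩ := h2
  have hmem : (n' : G) ∈ DoubleCoset.doubleCoset (n : G) (par P A : Set G) (par P B) := by
    rw [DoubleCoset.mem_doubleCoset]
    refine ⟨b'⁻¹ * p * b, ?_, c * p' * c'⁻¹, ?_, ?_⟩
    · exact (par P A).mul_mem ((par P A).mul_mem ((par P A).inv_mem (B_le_par P A hb')) hp)
        (B_le_par P A hb)
    · exact (par P B).mul_mem ((par P B).mul_mem (B_le_par P B hc) hp')
        ((par P B).inv_mem (B_le_par P B hc'))
    · have e1 : (n' : G) = b'⁻¹ * g' * c'⁻¹ := by rw [hg2]; group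
      rw [e1, hg', hg]
      group
  obtain ⟨u, v, hu, hv, huv⟩ :=
    BNDC.exists_of_mem_doubleCoset P (par P A) (par P B) (B_le_par P A) (B_le_par P B) n n' hmem
  refine ⟨π P u, (coe_mem_par_iff P A u).1 hu, π P v, (coe_mem_par_iff P B v).1 hv, ?_⟩
  rw [← hn, ← hn']
  exact huv

/-- elements with cells in the same double coset lie in the same parabolic double coset -/
theorem mem_of_DC_cell (A B : Set P.S) (g g' : G) (h : DC P A B (cell P g) (cell P g')) :
    g' ∈ DoubleCoset.doubleCoset g (par P A : Set G) (par P B) := by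
  obtain ⟨x, hx, y, hy, hxy⟩ := h
  obtain ⟨n, hn⟩ := π_surj P (cell P g)
  obtain ⟨u, hu⟩ := π_surj P x
  obtain ⟨v, hv⟩ := π_surj P y
  have h1 := mem_C_cell P g
  have h2 := mem_C_cell P g'
  rw [← hn, mem_C_iff] at h1
  rw [hxy, ← hn, ← hu, ← hv, ← map_mul, ← map_mul, mem_C_iff] at h2
  obtain ⟨c, hc, c', hc', hg⟩ := h1
  obtain ⟨b, hb, b', hb', hg2⟩ := h2
  have hup : (u : G) ∈ par P A := by rw [coe_mem_par_iff, hu]; exact hx
  have hvp : (v : G) ∈ par P B := by rw [coe_mem_par_iff, hv]; exact hy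
  rw [DoubleCoset.mem_doubleCoset]
  refine ⟨b * u * c⁻¹, ?_, c'⁻¹ * v * b', ?_, ?_⟩
  · exact (par P A).mul_mem ((par P A).mul_mem (B_le_par P A hb) hup)
      ((par P A).inv_mem (B_le_par P A hc))
  · exact (par P B).mul_mem ((par P B).mul_mem ((par P B).inv_mem (B_le_par P B hc')) hvp)
      (B_le_par P B hb')
  · rw [hg2, hg]
    simp only [Subgroup.coe_mul]
    group

/-- the parabolic double cosets correspond to the double cosets in the Weyl group -/
theorem card_doubleCoset_eq_card_quotient (A B : Set P.S) :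
    Nat.card (DoubleCoset.Quotient (par P A : Set G) (par P B)) =
      Nat.card (Quotient (DCsetoid P A B)) := by
  let f : DoubleCoset.Quotient (par P A : Set G) (par P B) → Quotient (DCsetoid P A B) :=
    Quotient.lift (s := DoubleCoset.setoid (par P A : Set G) (par P B))
      (fun g => Quotient.mk (DCsetoid P A B) (cell P g)) (by
        intro g g' hgg'
        apply Quotient.sound
        have h1 : g' ∈ DoubleCoset.doubleCoset g (par P A : Set G) (par P B) := by
          have := (DoubleCoset.rel_iff (H := par P A) (K := par P B)).1 hgg'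
          rw [DoubleCoset.mem_doubleCoset]
          obtain ⟨a, ha, b, hb, hab⟩ := this
          exact ⟨a, ha, b, hb, hab⟩
        exact DC_cell_of_mem P A B g g' h1)
  refine Nat.card_eq_of_bijective f ⟨?_, ?_⟩
  · intro c c' hcc'
    induction c using Quotient.inductionOn with | h g => ?_
    induction c' using Quotient.inductionOn with | h g' => ?_
    have h1 : DC P A B (cell P g) (cell P g') := Quotient.exact hcc'
    have h2 := mem_of_DC_cell P A B g g' h1
    apply Quotient.sound
    rw [DoubleCoset.mem_doubleCoset] at h2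
    obtain ⟨a, ha, b, hb, hab⟩ := h2
    exact (DoubleCoset.rel_iff (H := par P A) (K := par P B)).2 ⟨a, ha, b, hb, hab⟩
  · intro c
    induction c using Quotient.inductionOn with | h w => ?_
    obtain ⟨n, rfl⟩ := π_surj P w
    refine ⟨Quotient.mk _ (n : G), ?_⟩
    show Quotient.mk (DCsetoid P A B) (cell P (n : G)) = _
    rw [cell_coe]

theorem card_doubleCoset (A B : Set P.S) :
    Nat.card (DoubleCoset.Quotient (par P A : Set G) (par P B)) =
      Nat.card {w : W P // IsRed P A B w} := by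
  rw [card_doubleCoset_eq_card_quotient, card_quotient_DC]

/-! ### Multiplication of cells -/

/-- right multiplication by a generator that lengthens -/
theorem mul_gen_mem_C {w : W P} {t : P.S} (h : ℓ P w < ℓ P (w * σ P t)) {g : G}
    (hg : g ∈ C P w) : g * (t : G) ∈ C P (w * σ P t) := by
  have hup : Up P t w⁻¹ := by
    rw [Up_iff_lt]
    have e : σ P t * w⁻¹ = (w * σ P t)⁻¹ := by rw [mul_inv_rev, σ_inv]
    rw [e, ℓ_inv, ℓ_inv]
    exact h
  have h1 := hup _ (C_inv P hg)
  have h2 := C_inv P h1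
  have h3 : g * (t : G) = ((t : G) * g⁻¹)⁻¹ * ((t : G) * t) := by group
  rw [h3]
  have e : (σ P t * w⁻¹)⁻¹ = w * σ P t := by rw [mul_inv_rev, inv_inv, σ_inv]
  rw [e] at h2
  exact C_mul_B P h2 (P.sq_mem t t.2)

theorem ℓ_mul_gen_le' (t : P.S) (w : W P) : ℓ P (w * σ P t) ≤ ℓ P w + 1 :=
  len_mul_gen_le (σ P) (wp_surj P) t w

/-- right multiplication by a word that lengthens maximally -/
theorem mul_gp_mem_C : ∀ (l : List P.S) (w : W P) (g : G), g ∈ C P w →
    ℓ P (w * wp (σ P) l) = ℓ P w + l.length → g * gp P l ∈ C P (w * wp (σ P) l)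
  | [], w, g, hg, _ => by simpa using hg
  | t :: l, w, g, hg, hlen => by
    rw [wp_cons, ← mul_assoc] at hlen ⊢
    rw [gp_cons, ← mul_assoc]
    have h1 : ℓ P (w * σ P t * wp (σ P) l) ≤ ℓ P (w * σ P t) + l.length := by
      have h0 : ℓ P (wp (σ P) l) ≤ l.length := len_le (σ P) l
      have := ℓ_mul_le P (w * σ P t) (wp (σ P) l)
      omega
    have h2 := ℓ_mul_gen_le' P t w
    simp only [List.length_cons] at hlen
    have h3 : ℓ P w < ℓ P (w * σ P t) := by omega
    exact mul_gp_mem_C l (w * σ P t) (g * t) (mul_gen_mem_C P h3 hg) (by omega)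

/-- cells multiply when lengths add -/
theorem mul_mem_C {w v : W P} (hlen : ℓ P (w * v) = ℓ P w + ℓ P v) {g p : G} (hg : g ∈ C P w)
    (hp : p ∈ C P v) : g * p ∈ C P (w * v) := by
  obtain ⟨l, hl, hll⟩ := exists_reduced (σ P) (wp_surj P) v
  have hll' : l.length = ℓ P v := hll
  rw [← hl, ← π_gp, mem_C_iff] at hp
  obtain ⟨b, hb, b', hb', rfl⟩ := hp
  have h1 := mul_gp_mem_C P l w (g * b) (C_mul_B P hg hb) (by rw [hl, hlen, hll'])
  rw [hl] at h1
  have h2 := C_mul_B P h1 hb'
  have e : g * (b * gp P l * b') = g * b * gp P l * b' := by group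
  rw [e]
  exact h2

/-! ### Reduced elements of right cosets of parabolic subgroups -/

/-- no right descent in `A` -/
def IsRedR (A : Set P.S) (w : W P) : Prop := ∀ t ∈ A, ℓ P w < ℓ P (w * σ P t)

theorem isRed_empty_left (A : Set P.S) (w : W P) : IsRed P ∅ A w ↔ IsRedR P A w := by
  unfold IsRed IsRedR
  simp

theorem WA_empty : WA P (∅ : Set P.S) = ⊥ := by
  rw [eq_bot_iff]
  rintro w ⟨l, hl, rfl⟩
  have : l = [] := by
    cases l with
    | nil => rfl
    | cons x l => exact absurd (hl x List.mem_cons_self) (Set.notMem_empty x)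
  subst this
  simp

theorem ℓ_mul_of_isRedR {A : Set P.S} {w v : W P} (hw : IsRedR P A w) (hv : v ∈ WA P A) :
    ℓ P (w * v) = ℓ P w + ℓ P v := by
  obtain ⟨d, hd, hmin⟩ := exists_min P ∅ A w
  have hwd := isRed_eq_of_min P ∅ A d hmin w (DC_symm P hd) ((isRed_empty_left P A w).2 hw)
  subst hwd
  obtain ⟨x, hx, y, hy, hxy, hlen⟩ := exists_decomp P ∅ A w hmin (w * v)
    ⟨1, (WA P ∅).one_mem, v, hv, by simp⟩
  rw [WA_empty, Subgroup.mem_bot] at hx
  subst hx
  rw [one_mul] at hxy
  have : v = y := mul_left_cancel hxy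
  subst this
  rw [hlen, ℓ_one]
  ring

theorem eq_one_of_isRedR {A : Set P.S} {w v : W P} (hw : IsRedR P A w) (hv : v ∈ WA P A)
    (hwv : IsRedR P A (w * v)) : v = 1 := by
  have h1 := ℓ_mul_of_isRedR P hw hv
  have h2 := ℓ_mul_of_isRedR P hwv ((WA P A).inv_mem hv)
  rw [mul_inv_cancel_right, ℓ_inv] at h2
  have h3 : ℓ P v = 0 := by omega
  exact (ℓ_eq_zero_iff P v).1 h3

theorem exists_isRedR (A : Set P.S) (w : W P) :
    ∃ d v, IsRedR P A d ∧ v ∈ WA P A ∧ w = d * v := by
  obtain ⟨d, ⟨x, hx, y, hy, hxy⟩, hred⟩ := exists_isRed P ∅ A w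
  rw [WA_empty, Subgroup.mem_bot] at hx
  subst hx
  rw [one_mul] at hxy
  refine ⟨d, y⁻¹, (isRed_empty_left P A d).1 hred, (WA P A).inv_mem hy, ?_⟩
  rw [hxy]
  group

/-- two elements with reduced cells in the same coset of a parabolic subgroup lie in the same coset
of `B` -/
theorem mem_B_of_isRedR {A : Set P.S} {y y' : G} (hy : IsRedR P A (cell P y))
    (hy' : IsRedR P A (cell P y')) (h : y⁻¹ * y' ∈ par P A) : y⁻¹ * y' ∈ P.B := by
  have hv : cell P (y⁻¹ * y') ∈ WA P A := (mem_par_iff P A _).1 h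
  have hlen := ℓ_mul_of_isRedR P hy hv
  have h1 := mul_mem_C P hlen (mem_C_cell P y) (mem_C_cell P (y⁻¹ * y'))
  rw [mul_inv_cancel_left] at h1
  have h2 := cell_eq P h1
  rw [h2] at hy'
  have h3 := eq_one_of_isRedR P hy hv hy'
  exact (cell_eq_one_iff P _).1 h3

/-- every coset of a parabolic subgroup contains an element with reduced cell -/
theorem exists_isRedR_rep (A : Set P.S) (x : G) :
    ∃ y : G, IsRedR P A (cell P y) ∧ y⁻¹ * x ∈ par P A := by
  obtain ⟨d, v, hd, hv, hdv⟩ := exists_isRedR P A (cell P x)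
  obtain ⟨nd, hnd⟩ := π_surj P d
  obtain ⟨nv, hnv⟩ := π_surj P v
  have h1 := mem_C_cell P x
  rw [hdv, ← hnd, ← hnv, ← map_mul, mem_C_iff] at h1
  obtain ⟨b, hb, b', hb', hx⟩ := h1
  refine ⟨b * nd, ?_, ?_⟩
  · have : cell P (b * (nd : G)) = d := by
      rw [cell_B_mul P hb, cell_coe, hnd]
    rw [this]
    exact hd
  · have e : (b * (nd : G))⁻¹ * x = nv * b' := by
      rw [hx]
      simp only [Subgroup.coe_mul]
      group
    rw [e]
    refine (par P A).mul_mem ?_ (B_le_par P A hb')
    rw [coe_mem_par_iff, hnv]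
    exact hv

end Cfsg.Agent.Helper17.BNCox
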