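import Mathlib
import Cfsg.Prelude.Def_ParabolicCharacters

/-!
# Inner products of permutation characters on cosets = numbers of double cosets (helper17)

`inner_fixedPointCharacter`: for subgroups `H, K` of a finite group `G`,
`|G|⁻¹ ∑_g 1_H^G(g) 1_K^G(g) = #(H \ G / K)`.
-/

set_option autoImplicit false
set_option linter.unusedSectionVars false

namespace Cfsg.Agent.Helper17.PermDC

open MulAction

variable {G : Type*} [Group G]

/-- the fixed points of a product action -/
def fixedByProdEquiv (X Y : Type*) [MulAction G X] [MulAction G Y] (g : G) :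
    fixedBy (X × Y) g ≃ fixedBy X g × fixedBy Y g where
  toFun p := (⟨p.1.1, congrArg Prod.fst p.2⟩, ⟨p.1.2, congrArg Prod.snd p.2⟩)
  invFun p := ⟨(p.1.1, p.2.1), Prod.ext p.1.2 p.2.2⟩
  left_inv _ := rfl
  right_inv _ := rfl

variable (H K : Subgroup G)

/-- the invariant of a pair of cosets -/
def pairInv : (G ⧸ H) × (G ⧸ K) → DoubleCoset.Quotient (H : Set G) K := fun p =>
  Quotient.liftOn₂' p.1 p.2 (fun x y => DoubleCoset.mk H K (x⁻¹ * y)) (by
    intro x y x' y' hx hy
    rw [QuotientGroup.leftRel_apply] at hx hy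
    show DoubleCoset.mk H K (x⁻¹ * y) = DoubleCoset.mk H K (x'⁻¹ * y')
    rw [DoubleCoset.eq]
    refine ⟨(x⁻¹ * x')⁻¹, H.inv_mem hx, y⁻¹ * y', hy, ?_⟩
    group)

theorem pairInv_mk (x y : G) :
    pairInv H K ((x : G ⧸ H), (y : G ⧸ K)) = DoubleCoset.mk H K (x⁻¹ * y) := rfl

theorem pairInv_smul (g : G) (p : (G ⧸ H) × (G ⧸ K)) : pairInv H K (g • p) = pairInv H K p := by
  obtain ⟨a, b⟩ := p
  induction a using QuotientGroup.induction_on with | H x => ?_
  induction b using QuotientGroup.induction_on with | H y => ?_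
  show pairInv H K (((g * x : G) : G ⧸ H), ((g * y : G) : G ⧸ K)) = _
  rw [pairInv_mk, pairInv_mk]
  congr 1
  group

/-- the orbits of `G` on pairs of cosets correspond to the double cosets -/
noncomputable def orbitInv :
    orbitRel.Quotient G ((G ⧸ H) × (G ⧸ K)) → DoubleCoset.Quotient (H : Set G) K :=
  Quotient.lift (pairInv H K) (by
    intro p q hpq
    obtain ⟨g, rfl⟩ := hpq
    exact pairInv_smul H K g q)

theorem orbitInv_bijective : Function.Bijective (orbitInv H K) := by
  constructor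
  · intro a b hab
    induction a using Quotient.inductionOn' with | h p => ?_
    induction b using Quotient.inductionOn' with | h q => ?_
    obtain ⟨a, b⟩ := p
    obtain ⟨c, d⟩ := q
    induction a using QuotientGroup.induction_on with | H x => ?_
    induction b using QuotientGroup.induction_on with | H y => ?_
    induction c using QuotientGroup.induction_on with | H x' => ?_
    induction d using QuotientGroup.induction_on with | H y' => ?_
    have h1 : DoubleCoset.mk H K (x⁻¹ * y) = DoubleCoset.mk H K (x'⁻¹ * y') := hab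
    rw [DoubleCoset.eq] at h1
    obtain ⟨h, hh, k, hk, e⟩ := h1
    apply Quotient.sound'
    show ((x : G ⧸ H), (y : G ⧸ K)) ∈ orbit G (((x' : G ⧸ H)), ((y' : G ⧸ K)))
    refine ⟨x * h⁻¹ * x'⁻¹, ?_⟩
    show ((((x * h⁻¹ * x'⁻¹) * x' : G) : G ⧸ H), (((x * h⁻¹ * x'⁻¹) * y' : G) : G ⧸ K)) = _
    apply Prod.ext
    · show (((x * h⁻¹ * x'⁻¹) * x' : G) : G ⧸ H) = (x : G ⧸ H)
      rw [QuotientGroup.eq]
      have : (x * h⁻¹ * x'⁻¹ * x')⁻¹ * x = h := by group
      rw [this]; exact hh
    · show (((x * h⁻¹ * x'⁻¹) * y' : G) : G ⧸ K) = (y : G ⧸ K)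
      rw [QuotientGroup.eq]
      have : (x * h⁻¹ * x'⁻¹ * y')⁻¹ * y = k⁻¹ := by
        have e' : y' = x' * (h * (x⁻¹ * y) * k) := by rw [← e]; group
        rw [e']; group
      rw [this]; exact K.inv_mem hk
  · intro z
    induction z using Quotient.inductionOn' with | h g => ?_
    refine ⟨Quotient.mk'' (((1 : G) : G ⧸ H), (g : G ⧸ K)), ?_⟩
    show DoubleCoset.mk H K ((1 : G)⁻¹ * g) = DoubleCoset.mk H K g
    rw [inv_one, one_mul]

theorem card_orbits_eq : Nat.card (orbitRel.Quotient G ((G ⧸ H) × (G ⧸ K))) =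
    Nat.card (DoubleCoset.Quotient (H : Set G) K) :=
  Nat.card_eq_of_bijective _ (orbitInv_bijective H K)

/-- the inner product of two permutation characters on cosets is the number of double cosets -/
theorem inner_fixedPointCharacter [Fintype G] :
    (Nat.card G : ℂ)⁻¹ * ∑ g : G, Cfsg.fixedPointCharacter H g * Cfsg.fixedPointCharacter K g =
      (Nat.card (DoubleCoset.Quotient (H : Set G) K) : ℂ) := by
  classical
  have : Fintype (orbitRel.Quotient G ((G ⧸ H) × (G ⧸ K))) := Fintype.ofFinite _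
  have hB := MulAction.sum_card_fixedBy_eq_card_orbits_mul_card_group G ((G ⧸ H) × (G ⧸ K))
  have h1 : ∀ g : G, Cfsg.fixedPointCharacter H g * Cfsg.fixedPointCharacter K g =
      ((Fintype.card (fixedBy ((G ⧸ H) × (G ⧸ K)) g) : ℕ) : ℂ) := by
    intro g
    unfold Cfsg.fixedPointCharacter
    rw [← Nat.cast_mul, ← Nat.card_prod, ← Nat.card_congr (fixedByProdEquiv (G ⧸ H) (G ⧸ K) g),
      Nat.card_eq_fintype_card]
  simp only [h1]
  rw [← Nat.cast_sum, hB, ← card_orbits_eq, Nat.card_eq_fintype_card, Nat.card_eq_fintype_card]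
  have hG0 : ((Fintype.card G : ℕ) : ℂ) ≠ 0 := by
    exact_mod_cast Fintype.card_ne_zero
  push_cast
  field_simp

end Cfsg.Agent.Helper17.PermDC
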