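import Mathlib
import Cfsg.Agent.Lib.Helper17.BNCox2
import Cfsg.Agent.Lib.Helper17.PermCharDC

/-!
# The Steinberg function of a finite group with a (B, N)-pair (helper17)

`St P g = ∑_A (-1)^|A| 1_{P_A}^G (g)`, the sum over all sets `A` of distinguished generators.
* `St_norm`: `|G|⁻¹ ∑_g St(g)² = 1`;
* `St_apply_B`: on `B` it is the permutation character of `B` on the cosets of `B ∩ n₀ B n₀⁻¹`,
  `n₀` a representative of the longest element.
-/

set_option autoImplicit false
set_option linter.unusedSectionVars false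

namespace Cfsg.Agent.Helper17.BNCox

open Cfsg Cfsg.Agent.Helper2.WordLen Cfsg.Agent.Helper2.BN

variable {G : Type*} [Group G] (P : Cfsg.BNPair G)

/-- the cell of a coset of `B` -/
noncomputable def cellQ (c : G ⧸ P.B) : W P :=
  Quotient.liftOn' c (cell P) (by
    intro a b hab
    rw [QuotientGroup.leftRel_apply] at hab
    have e : b = a * (a⁻¹ * b) := by group
    show cell P a = cell P b
    rw [e, cell_mul_B P _ hab])

theorem cellQ_mk (g : G) : cellQ P (g : G ⧸ P.B) = cell P g := rfl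

theorem cellQ_smul {b : G} (hb : b ∈ P.B) (c : G ⧸ P.B) : cellQ P (b • c) = cellQ P c := by
  induction c using QuotientGroup.induction_on with | H g => ?_
  rw [MulAction.Quotient.smul_mk, smul_eq_mul, cellQ_mk, cellQ_mk, cell_B_mul P hb]

/-- the fixed points of an element of `B` on the cosets of a parabolic subgroup -/
theorem card_fixedBy_par (A : Set P.S) {b : G} (hb : b ∈ P.B) :
    Nat.card (MulAction.fixedBy (G ⧸ par P A) b) =
      Nat.card {c : G ⧸ P.B // b • c = c ∧ IsRedR P A (cellQ P c)} := by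
  symm
  have hfix : ∀ c : {c : G ⧸ P.B // b • c = c ∧ IsRedR P A (cellQ P c)},
      Subgroup.quotientMapOfLE (B_le_par P A) c.1 ∈ MulAction.fixedBy (G ⧸ par P A) b := by
    rintro ⟨c, hc, -⟩
    induction c using QuotientGroup.induction_on with | H y => ?_
    rw [MulAction.mem_fixedBy]
    simp only [Subgroup.quotientMapOfLE_apply_mk]
    rw [MulAction.Quotient.smul_mk, smul_eq_mul] at hc ⊢
    rw [QuotientGroup.eq] at hc ⊢
    exact B_le_par P A hc
  refine Nat.card_eq_of_bijective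
    (fun c => (⟨Subgroup.quotientMapOfLE (B_le_par P A) c.1, hfix c⟩ :
      MulAction.fixedBy (G ⧸ par P A) b)) ⟨?_, ?_⟩
  · rintro ⟨c, hc, hred⟩ ⟨c', hc', hred'⟩ h
    have h' : Subgroup.quotientMapOfLE (B_le_par P A) c =
        Subgroup.quotientMapOfLE (B_le_par P A) c' := congrArg Subtype.val h
    apply Subtype.ext
    show c = c'
    induction c using QuotientGroup.induction_on with | H y => ?_
    induction c' using QuotientGroup.induction_on with | H y' => ?_
    simp only [Subgroup.quotientMapOfLE_apply_mk] at h'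
    rw [QuotientGroup.eq] at h' ⊢
    exact mem_B_of_isRedR P hred hred' h'
  · rintro ⟨X, hX⟩
    induction X using QuotientGroup.induction_on with | H x => ?_
    obtain ⟨y, hy, hyx⟩ := exists_isRedR_rep P A x
    rw [MulAction.mem_fixedBy, MulAction.Quotient.smul_mk, smul_eq_mul, QuotientGroup.eq] at hX
    have hfixy : b • (y : G ⧸ P.B) = (y : G ⧸ P.B) := by
      rw [MulAction.Quotient.smul_mk, smul_eq_mul, QuotientGroup.eq]
      apply mem_B_of_isRedR P (A := A)
      · rw [cell_B_mul P hb]; exact hy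
      · exact hy
      · have e : (b * y)⁻¹ * y = (y⁻¹ * x) * ((b * x)⁻¹ * x) * (y⁻¹ * x)⁻¹ := by group
        rw [e]
        exact (par P A).mul_mem ((par P A).mul_mem hyx hX) ((par P A).inv_mem hyx)
    refine ⟨⟨(y : G ⧸ P.B), hfixy, hy⟩, ?_⟩
    apply Subtype.ext
    show Subgroup.quotientMapOfLE (B_le_par P A) (y : G ⧸ P.B) = (x : G ⧸ par P A)
    rw [Subgroup.quotientMapOfLE_apply_mk, QuotientGroup.eq]
    exact hyx

/-! ### Alternating sums over sets of generators -/

section Sums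

variable [Fintype P.S]

/-- no left descent in `A` -/
def IsRedL (A : Set P.S) (w : W P) : Prop := ∀ s ∈ A, ℓ P w < ℓ P (σ P s * w)

theorem isRed_iff (A B : Set P.S) (w : W P) : IsRed P A B w ↔ IsRedL P A w ∧ IsRedR P B w := Iff.rfl

theorem isRedL_iff_inv (A : Set P.S) (w : W P) : IsRedL P A w ↔ IsRedR P A w⁻¹ := by
  unfold IsRedL IsRedR
  have e : ∀ s : P.S, w⁻¹ * σ P s = (σ P s * w)⁻¹ := fun s => by rw [mul_inv_rev, σ_inv]
  constructor
  · intro h s hs
    rw [e, ℓ_inv, ℓ_inv]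
    exact h s hs
  · intro h s hs
    have := h s hs
    rwa [e, ℓ_inv, ℓ_inv] at this

open Classical in
theorem sum_isRedR (w : W P) :
    ∑ A : Finset P.S, (-1 : ℤ) ^ A.card * (if IsRedR P (↑A) w then 1 else 0) =
      if (∀ t : P.S, ℓ P (w * σ P t) < ℓ P w) then 1 else 0 := by
  set Asc : Finset P.S := Finset.univ.filter (fun t => ℓ P w < ℓ P (w * σ P t)) with hAsc
  have h1 : ∀ A : Finset P.S, IsRedR P (↑A) w ↔ A ⊆ Asc := by
    intro A
    constructor
    · intro h t ht
      rw [hAsc, Finset.mem_filter]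
      exact ⟨Finset.mem_univ _, h t (by exact_mod_cast ht)⟩
    · intro h t ht
      exact (Finset.mem_filter.1 (h (by exact_mod_cast ht))).2
  have h2 : ∑ A : Finset P.S, (-1 : ℤ) ^ A.card * (if IsRedR P (↑A) w then 1 else 0) =
      ∑ A ∈ Asc.powerset, (-1 : ℤ) ^ A.card := by
    rw [Finset.sum_congr rfl (fun A _ => by rw [mul_ite, mul_one, mul_zero] :
      ∀ A ∈ (Finset.univ : Finset (Finset P.S)),
        (-1 : ℤ) ^ A.card * (if IsRedR P (↑A) w then 1 else 0) =
          if IsRedR P (↑A) w then (-1 : ℤ) ^ A.card else 0), ← Finset.sum_filter]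
    apply Finset.sum_congr _ (fun _ _ => rfl)
    ext A
    rw [Finset.mem_filter, Finset.mem_powerset, h1]
    simp
  rw [h2, Finset.sum_powerset_neg_one_pow_card]
  have h3 : Asc = ∅ ↔ ∀ t : P.S, ℓ P (w * σ P t) < ℓ P w := by
    rw [hAsc, Finset.filter_eq_empty_iff]
    constructor
    · intro h t
      have h4 := h (Finset.mem_univ t)
      have h5 := ℓ_mul_gen_ne P t w
      omega
    · intro h t _
      have := h t
      omega
  by_cases h : Asc = ∅
  · rw [if_pos h, if_pos (h3.1 h)]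
  · rw [if_neg h, if_neg (fun h' => h (h3.2 h'))]

open Classical in
theorem sum_isRedL (w : W P) :
    ∑ A : Finset P.S, (-1 : ℤ) ^ A.card * (if IsRedL P (↑A) w then 1 else 0) =
      if (∀ t : P.S, ℓ P (σ P t * w) < ℓ P w) then 1 else 0 := by
  have h := sum_isRedR P w⁻¹
  have e : ∀ s : P.S, w⁻¹ * σ P s = (σ P s * w)⁻¹ := fun s => by rw [mul_inv_rev, σ_inv]
  have h1 : (∀ t : P.S, ℓ P (w⁻¹ * σ P t) < ℓ P w⁻¹) ↔ ∀ t : P.S, ℓ P (σ P t * w) < ℓ P w := by
    constructor
    · intro h t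
      have := h t
      rwa [e, ℓ_inv, ℓ_inv] at this
    · intro h t
      rw [e, ℓ_inv, ℓ_inv]
      exact h t
  have h2 : (if (∀ t : P.S, ℓ P (σ P t * w) < ℓ P w) then (1 : ℤ) else 0) =
      if (∀ t : P.S, ℓ P (w⁻¹ * σ P t) < ℓ P w⁻¹) then 1 else 0 := by
    by_cases hh : ∀ t : P.S, ℓ P (σ P t * w) < ℓ P w
    · rw [if_pos hh, if_pos (h1.2 hh)]
    · rw [if_neg hh, if_neg (fun h' => hh (h1.1 h'))]
  rw [h2, ← h]
  apply Finset.sum_congr rfl
  intro A _
  by_cases hA : IsRedL P (↑A) w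
  · rw [if_pos hA, if_pos ((isRedL_iff_inv P _ w).1 hA)]
  · rw [if_neg hA, if_neg (fun h' => hA ((isRedL_iff_inv P _ w).2 h'))]

end Sums

/-! ### The Steinberg function -/

section Steinberg

variable [Fintype P.S]

/-- the Steinberg function: the alternating sum of the permutation characters on the cosets of the
parabolic subgroups -/
noncomputable def St (g : G) : ℂ :=
  ∑ A : Finset P.S, (-1 : ℂ) ^ A.card * Cfsg.fixedPointCharacter (par P (↑A : Set P.S)) g

open Classical in
theorem sum_isRedR_complex (w : W P) :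
    ∑ A : Finset P.S, (-1 : ℂ) ^ A.card * (if IsRedR P (↑A) w then 1 else 0) =
      if (∀ t : P.S, ℓ P (w * σ P t) < ℓ P w) then 1 else 0 := by
  have h := congrArg (Int.cast : ℤ → ℂ) (sum_isRedR P w)
  push_cast at h
  exact h

open Classical in
theorem sum_isRedL_complex (w : W P) :
    ∑ A : Finset P.S, (-1 : ℂ) ^ A.card * (if IsRedL P (↑A) w then 1 else 0) =
      if (∀ t : P.S, ℓ P (σ P t * w) < ℓ P w) then 1 else 0 := by
  have h := congrArg (Int.cast : ℤ → ℂ) (sum_isRedL P w)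
  push_cast at h
  exact h

open Classical in
theorem card_isRed_complex [Fintype (W P)] (A B : Set P.S) :
    (Nat.card {w : W P // IsRed P A B w} : ℂ) =
      ∑ w : W P, (if IsRedL P A w then (1 : ℂ) else 0) * (if IsRedR P B w then 1 else 0) := by
  rw [Nat.card_eq_fintype_card, Fintype.card_subtype, Finset.card_filter]
  push_cast
  apply Finset.sum_congr rfl
  intro w _
  by_cases h1 : IsRedL P A w <;> by_cases h2 : IsRedR P B w <;> simp [isRed_iff, h1, h2]

open Classical in
/-- the Steinberg function has norm one -/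
theorem St_norm [Fintype G] : (Nat.card G : ℂ)⁻¹ * ∑ g : G, St P g * St P g = 1 := by
  have : Fintype (W P) := Fintype.ofFinite _
  obtain ⟨w₀, hL, hR, huL, huR⟩ := exists_longest P
  have key : ∀ A B : Finset P.S, (Nat.card G : ℂ)⁻¹ *
      ∑ g : G, Cfsg.fixedPointCharacter (par P (↑A : Set P.S)) g *
        Cfsg.fixedPointCharacter (par P (↑B : Set P.S)) g =
      ∑ w : W P, (if IsRedL P (↑A) w then (1 : ℂ) else 0) * (if IsRedR P (↑B) w then 1 else 0) := by
    intro A B
    rw [PermDC.inner_fixedPointCharacter, card_doubleCoset, card_isRed_complex]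
  have h1 : ∀ g : G, St P g * St P g = ∑ A : Finset P.S, ∑ B : Finset P.S,
      ((-1 : ℂ) ^ A.card * (-1) ^ B.card) *
        (Cfsg.fixedPointCharacter (par P (↑A : Set P.S)) g *
          Cfsg.fixedPointCharacter (par P (↑B : Set P.S)) g) := by
    intro g
    unfold St
    rw [Finset.sum_mul_sum]
    apply Finset.sum_congr rfl
    intro A _
    apply Finset.sum_congr rfl
    intro B _
    ring
  simp only [h1]
  rw [Finset.sum_comm, Finset.mul_sum]
  have h2 : ∀ A : Finset P.S, (Nat.card G : ℂ)⁻¹ * ∑ g : G, ∑ B : Finset P.S,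
      ((-1 : ℂ) ^ A.card * (-1) ^ B.card) *
        (Cfsg.fixedPointCharacter (par P (↑A : Set P.S)) g *
          Cfsg.fixedPointCharacter (par P (↑B : Set P.S)) g) =
      ∑ B : Finset P.S, ((-1 : ℂ) ^ A.card * (-1) ^ B.card) *
        ∑ w : W P, (if IsRedL P (↑A) w then (1 : ℂ) else 0) *
          (if IsRedR P (↑B) w then 1 else 0) := by
    intro A
    rw [Finset.sum_comm, Finset.mul_sum]
    apply Finset.sum_congr rfl
    intro B _
    rw [← Finset.mul_sum, ← key A B]
    ring
  rw [Finset.sum_congr rfl (fun A _ => h2 A)]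
  -- now a sum over the Weyl group
  have h3 : ∑ A : Finset P.S, ∑ B : Finset P.S, ((-1 : ℂ) ^ A.card * (-1) ^ B.card) *
      ∑ w : W P, (if IsRedL P (↑A) w then (1 : ℂ) else 0) *
        (if IsRedR P (↑B) w then 1 else 0) =
      ∑ w : W P, (∑ A : Finset P.S, (-1 : ℂ) ^ A.card * (if IsRedL P (↑A) w then 1 else 0)) *
        (∑ B : Finset P.S, (-1 : ℂ) ^ B.card * (if IsRedR P (↑B) w then 1 else 0)) := by
    have e : ∀ w : W P,
        (∑ A : Finset P.S, (-1 : ℂ) ^ A.card * (if IsRedL P (↑A) w then 1 else 0)) *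
          (∑ B : Finset P.S, (-1 : ℂ) ^ B.card * (if IsRedR P (↑B) w then 1 else 0)) =
        ∑ A : Finset P.S, ∑ B : Finset P.S, ((-1 : ℂ) ^ A.card * (-1) ^ B.card) *
          ((if IsRedL P (↑A) w then (1 : ℂ) else 0) * (if IsRedR P (↑B) w then 1 else 0)) := by
      intro w
      rw [Finset.sum_mul_sum]
      apply Finset.sum_congr rfl
      intro A _
      apply Finset.sum_congr rfl
      intro B _
      ring
    rw [Finset.sum_congr rfl (fun w _ => e w)]
    conv_lhs => simp only [Finset.mul_sum]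
    symm
    rw [Finset.sum_comm]
    apply Finset.sum_congr rfl
    intro A _
    rw [Finset.sum_comm]
  rw [h3]
  simp only [sum_isRedL_complex, sum_isRedR_complex]
  have h4 : ∀ w : W P, ((if (∀ t : P.S, ℓ P (σ P t * w) < ℓ P w) then (1 : ℂ) else 0) *
      (if (∀ t : P.S, ℓ P (w * σ P t) < ℓ P w) then 1 else 0)) = if w = w₀ then 1 else 0 := by
    intro w
    by_cases hw : w = w₀
    · subst hw
      rw [if_pos hL, if_pos hR, if_pos rfl, mul_one]
    · rw [if_neg hw, if_neg (fun h => hw (huL w h)), zero_mul]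
  rw [Finset.sum_congr rfl (fun w _ => h4 w), Finset.sum_ite_eq' Finset.univ w₀]
  simp

end Steinberg

/-! ### The restriction of the Steinberg function to `B` -/

section Restrict

/-- the cosets of `B` in a cell `B n B` -/
theorem card_fixedBy_cell (n₀ : P.N) (H₀ : Subgroup G)
    (hH₀ : ∀ x ∈ P.B, x ∈ H₀ ↔ (n₀ : G)⁻¹ * x * n₀ ∈ P.B) (b : P.B) :
    Nat.card (MulAction.fixedBy (P.B ⧸ H₀.subgroupOf P.B) b) =
      Nat.card {c : G ⧸ P.B // (b : G) • c = c ∧ cellQ P c = π P n₀} := by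
  let ψ : P.B ⧸ H₀.subgroupOf P.B → G ⧸ P.B :=
    fun X => Quotient.liftOn' X (fun b' : P.B => (((b' : G) * n₀ : G) : G ⧸ P.B)) (by
      intro x y hxy
      rw [QuotientGroup.leftRel_apply, Subgroup.mem_subgroupOf] at hxy
      show (((x : G) * n₀ : G) : G ⧸ P.B) = (((y : G) * n₀ : G) : G ⧸ P.B)
      rw [QuotientGroup.eq]
      have h1 := (hH₀ _ (x⁻¹ * y).2).1 hxy
      have e : ((x : G) * n₀)⁻¹ * ((y : G) * n₀) = (n₀ : G)⁻¹ * ((x⁻¹ * y : P.B) : G) * n₀ := by
        simp only [Subgroup.coe_mul, Subgroup.coe_inv]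
        group
      rw [e]
      exact h1)
  have hψ_mk : ∀ b' : P.B, ψ (b' : P.B ⧸ H₀.subgroupOf P.B) = (((b' : G) * n₀ : G) : G ⧸ P.B) :=
    fun _ => rfl
  have hψ_inj : Function.Injective ψ := by
    intro X Y hXY
    induction X using QuotientGroup.induction_on with | H x => ?_
    induction Y using QuotientGroup.induction_on with | H y => ?_
    rw [hψ_mk, hψ_mk, QuotientGroup.eq] at hXY
    rw [QuotientGroup.eq, Subgroup.mem_subgroupOf]
    apply (hH₀ _ (x⁻¹ * y).2).2
    have e : ((x : G) * n₀)⁻¹ * ((y : G) * n₀) = (n₀ : G)⁻¹ * ((x⁻¹ * y : P.B) : G) * n₀ := by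
      simp only [Subgroup.coe_mul, Subgroup.coe_inv]
      group
    rw [← e]
    exact hXY
  have hψ_smul : ∀ X : P.B ⧸ H₀.subgroupOf P.B, ψ (b • X) = (b : G) • ψ X := by
    intro X
    induction X using QuotientGroup.induction_on with | H x => ?_
    rw [MulAction.Quotient.smul_mk, smul_eq_mul, hψ_mk, hψ_mk, MulAction.Quotient.smul_mk,
      smul_eq_mul, Subgroup.coe_mul, mul_assoc]
  have hψ_cell : ∀ X : P.B ⧸ H₀.subgroupOf P.B, cellQ P (ψ X) = π P n₀ := by
    intro X
    induction X using QuotientGroup.induction_on with | H x => ?_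
    rw [hψ_mk, cellQ_mk, cell_B_mul P x.2, cell_coe]
  refine Nat.card_eq_of_bijective
    (fun X : MulAction.fixedBy (P.B ⧸ H₀.subgroupOf P.B) b =>
      (⟨ψ X.1, by
        have hX : b • X.1 = X.1 := X.2
        rw [← hψ_smul, hX], hψ_cell X.1⟩ :
        {c : G ⧸ P.B // (b : G) • c = c ∧ cellQ P c = π P n₀})) ⟨?_, ?_⟩
  · intro X Y hXY
    apply Subtype.ext
    exact hψ_inj (congrArg Subtype.val hXY)
  · rintro ⟨c, hc, hcell⟩
    induction c using QuotientGroup.induction_on with | H y => ?_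
    rw [cellQ_mk] at hcell
    have h1 := mem_C_cell P y
    rw [hcell, mem_C_iff] at h1
    obtain ⟨b₁, hb₁, b₂, hb₂, hy⟩ := h1
    have hy' : (y : G ⧸ P.B) = ψ ((⟨b₁, hb₁⟩ : P.B) : P.B ⧸ H₀.subgroupOf P.B) := by
      rw [hψ_mk, QuotientGroup.eq, hy]
      have e : (b₁ * (n₀ : G) * b₂)⁻¹ * (b₁ * (n₀ : G)) = b₂⁻¹ := by group
      show (b₁ * (n₀ : G) * b₂)⁻¹ * (b₁ * (n₀ : G)) ∈ P.B
      rw [e]
      exact P.B.inv_mem hb₂
    refine ⟨⟨((⟨b₁, hb₁⟩ : P.B) : P.B ⧸ H₀.subgroupOf P.B), ?_⟩, ?_⟩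
    · rw [MulAction.mem_fixedBy]
      apply hψ_inj
      rw [hψ_smul, ← hy']
      exact hc
    · apply Subtype.ext
      exact hy'.symm

variable [Fintype P.S]

open Classical in
/-- on `B` the Steinberg function is the permutation character on the cosets of `B ∩ n₀ B n₀⁻¹`,
`n₀` a representative of the longest element -/
theorem St_apply_B [Finite G] (n₀ : P.N)
    (hn₀ : ∀ t : P.S, ℓ P (π P n₀ * σ P t) < ℓ P (π P n₀)) (H₀ : Subgroup G)
    (hH₀ : ∀ x ∈ P.B, x ∈ H₀ ↔ (n₀ : G)⁻¹ * x * n₀ ∈ P.B) (b : P.B) :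
    St P (b : G) = Cfsg.fixedPointCharacter (H₀.subgroupOf P.B) b := by
  have : Fintype (G ⧸ P.B) := Fintype.ofFinite _
  obtain ⟨w₀, hL, hR, huL, huR⟩ := exists_longest P
  have hw₀ : π P n₀ = w₀ := huR _ hn₀
  unfold St Cfsg.fixedPointCharacter
  rw [card_fixedBy_cell P n₀ H₀ hH₀ b]
  have h1 : ∀ A : Finset P.S,
      (Nat.card (MulAction.fixedBy (G ⧸ par P (↑A : Set P.S)) (b : G)) : ℂ) =
        ∑ c : G ⧸ P.B, (if (b : G) • c = c then (1 : ℂ) else 0) *
          (if IsRedR P (↑A) (cellQ P c) then 1 else 0) := by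
    intro A
    rw [card_fixedBy_par P _ b.2, Nat.card_eq_fintype_card, Fintype.card_subtype,
      Finset.card_filter]
    push_cast
    apply Finset.sum_congr rfl
    intro c _
    by_cases h1 : (b : G) • c = c <;> by_cases h2 : IsRedR P (↑A) (cellQ P c) <;> simp [h1, h2]
  simp only [h1, Finset.mul_sum]
  rw [Finset.sum_comm]
  have h2 : ∀ c : G ⧸ P.B, ∑ A : Finset P.S, (-1 : ℂ) ^ A.card *
      ((if (b : G) • c = c then (1 : ℂ) else 0) * (if IsRedR P (↑A) (cellQ P c) then 1 else 0)) =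
      if ((b : G) • c = c ∧ cellQ P c = π P n₀) then 1 else 0 := by
    intro c
    have e : ∀ A : Finset P.S, (-1 : ℂ) ^ A.card *
        ((if (b : G) • c = c then (1 : ℂ) else 0) * (if IsRedR P (↑A) (cellQ P c) then 1 else 0)) =
        (if (b : G) • c = c then (1 : ℂ) else 0) *
          ((-1 : ℂ) ^ A.card * (if IsRedR P (↑A) (cellQ P c) then 1 else 0)) := fun A => by ring
    rw [Finset.sum_congr rfl (fun A _ => e A), ← Finset.mul_sum, sum_isRedR_complex]
    by_cases hc : (b : G) • c = c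
    · by_cases hw : cellQ P c = π P n₀
      · have hall : ∀ t : P.S, ℓ P (cellQ P c * σ P t) < ℓ P (cellQ P c) := by rw [hw]; exact hn₀
        have hboth : (b : G) • c = c ∧ cellQ P c = π P n₀ := ⟨hc, hw⟩
        rw [if_pos hc, if_pos hall, if_pos hboth, mul_one]
      · have hall : ¬ ∀ t : P.S, ℓ P (cellQ P c * σ P t) < ℓ P (cellQ P c) :=
          fun h => hw ((huR _ h).trans hw₀.symm)
        have hboth : ¬ ((b : G) • c = c ∧ cellQ P c = π P n₀) := fun h => hw h.2
        rw [if_pos hc, if_neg hall, if_neg hboth, mul_zero]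
    · have hboth : ¬ ((b : G) • c = c ∧ cellQ P c = π P n₀) := fun h => hc h.1
      rw [if_neg hc, if_neg hboth, zero_mul]
  rw [Finset.sum_congr rfl (fun c _ => h2 c), Nat.card_eq_fintype_card, Fintype.card_subtype,
    Finset.card_filter]
  push_cast
  rfl

end Restrict

end Cfsg.Agent.Helper17.BNCox
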