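import Mathlib
import Cfsg.Prelude.Def_Blocks
import Cfsg.Agent.Lib.Helper24.CharLinear
import Cfsg.Agent.Lib.Helper24.CharComplete
import Cfsg.Agent.Lib.Helper24.GlaubPGroup
import Cfsg.Agent.Lib.Helper23.BlockRank
import Cfsg.Agent.Lib.Helper23.BlockDefectZero
import Cfsg.Agent.Lib.Helper23.BlockBrauer

/-!
# Simple groups of order 7920: piece T3 (`dz_vanish`) (helper17)

Characters of `p`-defect zero vanish on the `p`-singular elements.
-/

set_option autoImplicit false
set_option linter.unusedSectionVars false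
set_option linter.unusedVariables false

namespace Cfsg.Agent.Helper17.M11

open scoped ComplexConjugate
open Cfsg Cfsg.Agent.Helper24 Cfsg.Agent.Helper23.Blk

universe u

variable {G : Type u} [Group G] [Fintype G]

theorem dz_vanish (p : ℕ) [Fact p.Prime] (χ : IrrCharacter G)
    (h : ¬ p ∣ Nat.card G / charDegree (χ : G → ℂ)) :
    ∀ y : G, p ∣ orderOf y → (χ : G → ℂ) y = 0 := by
  classical
  intro y hy
  have hp : p.Prime := Fact.out
  obtain ⟨M, hM⟩ := Cfsg.Agent.Helper24.Glaub.exists_isPModular hp
  have h2 := (not_dvd_iff_blockOf_eq_singleton hM χ).1 h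
  have hB : IsPBlock M ({χ} : Set (IrrCharacter G)) := ⟨χ, h2.symm⟩
  have hli : LinearIndependent ℂ (fun ψ : ({χ} : Set (IrrCharacter G)) =>
      pRegularPart p (((ψ : IrrCharacter G)) : G → ℂ)) := by
    haveI : Unique ({χ} : Set (IrrCharacter G)) := Set.uniqueSingleton χ
    rw [linearIndependent_unique_iff]
    exact pRegularPart_ne_zero p hp _
  exact vanish_of_linearIndependent p hM hB hli (Set.mem_singleton χ) hy

end Cfsg.Agent.Helper17.M11
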