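import Mathlib
import Cfsg.Prelude.Def_Blocks
import Cfsg.Agent.Lib.Helper24.CharLinear
import Cfsg.Agent.Lib.Helper24.CharOrtho
import Cfsg.Agent.Lib.Helper5.TLDDefs
import Cfsg.Agent.Lib.Helper12.TLGEXTPOW
import Cfsg.Agent.Lib.Helper12.TLGPOWCHAR
import Cfsg.Agent.Lib.Helper18.PConjCount
import Cfsg.Agent.Lib.Helper18.TLGGALVAL
import Cfsg.Agent.Lib.Helper14.BRBGALIRR

/-!
# S4503 PIECE PARTNER (helper17): the `p`-conjugate `ζ'` of `ζ` whose restriction to `P` is disjoint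
from that of `ζ`
-/

set_option autoImplicit false
set_option linter.unusedSectionVars false
set_option linter.unusedVariables false

namespace Cfsg.Agent.Helper14.BRB

open scoped ComplexConjugate
open Cfsg Cfsg.Agent.Helper24 Cfsg.Agent.Helper5.TLD

universe u

section PartnerAux

variable {A : Type u} [Group A] [Fintype A]

/-- distinct irreducible characters are orthogonal (as a plain sum) -/
theorem partner_sum_eq_zero (φ₁ φ₂ : IrrCharacter A) (hne : φ₁ ≠ φ₂) :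
    ∑ a : A, (φ₁ : A → ℂ) a * conj ((φ₂ : A → ℂ) a) = 0 := by
  have h := irr_orthogonality' φ₁ φ₂
  rw [if_neg hne] at h
  unfold classInner at h
  have hcard : (Nat.card A : ℂ) ≠ 0 := by exact_mod_cast (Nat.card_pos (α := A)).ne'
  rcases mul_eq_zero.1 h with h0 | h0
  · exact absurd (inv_eq_zero.1 h0) hcard
  · exact h0

/-- the twist of a linear character of a group of prime order by an automorphism -/
theorem partner_twist (p : ℕ) [Fact p.Prime] (hA : Nat.card A = p) (ψ : IrrCharacter A)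
    (τ : MulAut A) : ∃ φ : IrrCharacter A, ∀ a : A, (φ : A → ℂ) a = (ψ : A → ℂ) (τ a) := by
  haveI : Finite A := Finite.of_fintype A
  obtain ⟨F, hF⟩ := Cfsg.Agent.Helper5.TLG.powchar_hom p hA ψ
  refine ⟨⟨fun a => (((F.comp τ.toMonoidHom) a : ℂˣ) : ℂ),
    isIrrCharacter_of_monoidHom (F.comp τ.toMonoidHom)⟩, fun a => ?_⟩
  show ((F (τ a) : ℂˣ) : ℂ) = _
  exact hF (τ a)

/-- powers of `ν` reduce modulo `f` -/
theorem partner_pow_mod {M : Type*} [Monoid M] (ν : M) (f : ℕ) (hν : ν ^ f = 1) (n : ℕ) :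
    ν ^ n = ν ^ (n % f) := pow_eq_pow_mod n hν

/-- choice of the exponent `u`: `ψ ^ u` differs from every `ψ ∘ ν ^ j`, `j < f` -/
theorem partner_exists_u (p : ℕ) [Fact p.Prime] (hA : Nat.card A = p) (ψ : IrrCharacter A)
    (hψ : ψ ≠ principalChar A) (ν : MulAut A) (f : ℕ) (hf1 : f < p - 1) :
    ∃ u : ℕ, 1 ≤ u ∧ u < p ∧ ∃ a₀ : A, ∀ j < f,
      (ψ : A → ℂ) ((ν ^ j) a₀) ≠ ((ψ : A → ℂ) a₀) ^ u := by
  have hp : p.Prime := Fact.out
  haveI : NeZero p := ⟨hp.ne_zero⟩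
  haveI : Finite A := Finite.of_fintype A
  obtain ⟨a₀, ha₀⟩ := Cfsg.Agent.Helper5.TLG.powchar_exists_ne_one ψ hψ
  have hζp := Cfsg.Agent.Helper5.TLG.irr_pow_card p hA ψ a₀
  have hprim : IsPrimitiveRoot ((ψ : A → ℂ) a₀) p := by
    refine IsPrimitiveRoot.mk_of_lt _ hp.pos hζp ?_
    intro l hl0 hlp hl
    have h3 : ((ψ : A → ℂ) a₀) ^ Nat.gcd l p = 1 := pow_gcd_eq_one.2 ⟨hl, hζp⟩
    have hcop : Nat.gcd l p = 1 :=
      Nat.Coprime.symm ((Nat.Prime.coprime_iff_not_dvd hp).2 (Nat.not_dvd_of_pos_of_lt hl0 hlp))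
    rw [hcop, pow_one] at h3
    exact ha₀ h3
  have hex : ∀ j : ℕ, ∃ i < p, ((ψ : A → ℂ) a₀) ^ i = (ψ : A → ℂ) ((ν ^ j) a₀) := fun j =>
    hprim.eq_pow_of_pow_eq_one (Cfsg.Agent.Helper5.TLG.irr_pow_card p hA ψ _)
  choose e he1 he2 using hex
  have hcard : ((Finset.range f).image e).card < (Finset.Icc 1 (p - 1)).card := by
    calc ((Finset.range f).image e).card ≤ (Finset.range f).card := Finset.card_image_le
      _ = f := Finset.card_range f
      _ < p - 1 := hf1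
      _ = (Finset.Icc 1 (p - 1)).card := by rw [Nat.card_Icc]; omega
  obtain ⟨u, huT, huS⟩ := Finset.exists_mem_notMem_of_card_lt_card hcard
  rw [Finset.mem_Icc] at huT
  have hup : u < p := by have := hp.pos; omega
  refine ⟨u, huT.1, hup, a₀, fun j hj heq => ?_⟩
  apply huS
  rw [Finset.mem_image]
  refine ⟨j, Finset.mem_range.2 hj, ?_⟩
  rw [← he2 j] at heq
  exact hprim.pow_inj (he1 j) hup heq

end PartnerAux

variable {G : Type u} [Group G] [Fintype G] (p : ℕ) [Fact p.Prime]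

variable (P : Sylow p G)

/-- PIECE PARTNER. -/
theorem exists_partner (hP : Nat.card P = p) (f : ℕ) (hf1 : f < p - 1)
    (ν : MulAut (P : Subgroup G)) (hνf : ν ^ f = 1)
    (ζ : IrrCharacter G) (ψ : IrrCharacter (P : Subgroup G)) (m : ℕ)
    (hψ : ψ ≠ principalChar _)
    (hζ : ∀ a : (P : Subgroup G), (ζ : G → ℂ) (a : G) =
      (m : ℂ) * ∑ k ∈ Finset.range f, (ψ : ↥(P : Subgroup G) → ℂ) ((ν ^ k) a)) :
    ∃ ζ' : IrrCharacter G, (∀ g : G, ¬ p ∣ orderOf g → (ζ' : G → ℂ) g = (ζ : G → ℂ) g) ∧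
      ∑ᶠ a : (P : Subgroup G), (ζ : G → ℂ) (a : G) * conj ((ζ' : G → ℂ) (a : G)) = 0 := by
  classical
  have hp : p.Prime := Fact.out
  haveI : Fintype (P : Subgroup G) := Fintype.ofFinite _
  obtain ⟨u, hu1, hup, a₀, hu⟩ := partner_exists_u p hP ψ hψ ν f hf1
  obtain ⟨ψ₁, hψ₁, hpow⟩ := Cfsg.Agent.Helper5.TLG.exists_powChar p hP ψ hψ u hu1 hup
  have hG0 : Nat.card G ≠ 0 := Nat.card_pos.ne'
  have hm0 : 0 < Nat.card G / p ^ (Nat.card G).factorization p := Nat.ordCompl_pos p hG0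
  have hpm : ¬ p ∣ Nat.card G / p ^ (Nat.card G).factorization p := Nat.not_dvd_ordCompl hp hG0
  obtain ⟨σ, hσm, hσp⟩ := Cfsg.Agent.Helper5.TLG.exists_ringEquiv_pow p _ hm0 hpm u hu1 hup
  have hprim := Complex.isPrimitiveRoot_exp (Nat.card G / p ^ (Nat.card G).factorization p) hm0.ne'
  refine ⟨⟨fun g => σ ((ζ : G → ℂ) g), isIrrCharacter_ringEquiv σ ζ.2⟩, ?_, ?_⟩
  · intro g hg
    exact Cfsg.Agent.Helper18.PConj.map_char_eq_of_pow_eq_one (isCharacter_of_isIrrCharacter ζ.2) σ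
      hm0 hprim (hσm _ hprim.pow_eq_one) (Cfsg.Agent.Helper5.TLG.galval_pow_eq_one p g hg)
  · rw [finsum_eq_sum_of_fintype]
    -- values of `ζ'` on `P`
    have hζ' : ∀ a : (P : Subgroup G), σ ((ζ : G → ℂ) (a : G)) =
        (m : ℂ) * ∑ k ∈ Finset.range f, (ψ₁ : ↥(P : Subgroup G) → ℂ) ((ν ^ k) a) := by
      intro a
      rw [hζ a, map_mul, map_natCast, map_sum]
      congr 1
      refine Finset.sum_congr rfl fun k _ => ?_
      rw [hσp _ (Cfsg.Agent.Helper5.TLG.irr_pow_card p hP ψ _), hpow]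
    -- orthogonality of the twists
    have horth : ∀ k ∈ Finset.range f, ∀ k' ∈ Finset.range f,
        ∑ a : (P : Subgroup G), (ψ : ↥(P : Subgroup G) → ℂ) ((ν ^ k) a) *
          conj ((ψ₁ : ↥(P : Subgroup G) → ℂ) ((ν ^ k') a)) = 0 := by
      intro k hk k' hk'
      rw [Finset.mem_range] at hk hk'
      have hf0 : 0 < f := by omega
      set j := (k + (f - k')) % f with hj
      have hjf : j < f := Nat.mod_lt _ hf0
      have hjk : ν ^ j * ν ^ k' = ν ^ k := by
        rw [← pow_add, partner_pow_mod ν f hνf (j + k'), hj, Nat.mod_add_mod]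
        have : k + (f - k') + k' = k + f := by omega
        rw [this, Nat.add_mod_right, Nat.mod_eq_of_lt hk]
      obtain ⟨φ, hφ⟩ := partner_twist p hP ψ (ν ^ j)
      have hne : φ ≠ ψ₁ := by
        intro h
        apply hu j hjf
        rw [← hφ a₀, h, hpow]
      have h0 := partner_sum_eq_zero φ ψ₁ hne
      rw [← Equiv.sum_comp (ν ^ k').toEquiv] at h0
      rw [← h0]
      refine Finset.sum_congr rfl fun a _ => ?_
      rw [hφ]
      show _ = (ψ : ↥(P : Subgroup G) → ℂ) ((ν ^ j) ((ν ^ k') a)) * _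
      rw [← MulAut.mul_apply, hjk]
      rfl
    calc ∑ a : (P : Subgroup G), (ζ : G → ℂ) (a : G) * conj (σ ((ζ : G → ℂ) (a : G)))
        = ∑ a : (P : Subgroup G), ∑ k ∈ Finset.range f, ∑ k' ∈ Finset.range f,
            (m : ℂ) * (m : ℂ) * ((ψ : ↥(P : Subgroup G) → ℂ) ((ν ^ k) a) *
              conj ((ψ₁ : ↥(P : Subgroup G) → ℂ) ((ν ^ k') a))) := by
          refine Finset.sum_congr rfl fun a _ => ?_
          rw [hζ' a, hζ a, map_mul, map_natCast, map_sum, mul_mul_mul_comm, Finset.sum_mul_sum,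
            Finset.mul_sum]
          refine Finset.sum_congr rfl fun k _ => ?_
          rw [Finset.mul_sum]
      _ = ∑ k ∈ Finset.range f, ∑ k' ∈ Finset.range f, (m : ℂ) * (m : ℂ) *
            ∑ a : (P : Subgroup G), ((ψ : ↥(P : Subgroup G) → ℂ) ((ν ^ k) a) *
              conj ((ψ₁ : ↥(P : Subgroup G) → ℂ) ((ν ^ k') a))) := by
          rw [Finset.sum_comm]
          refine Finset.sum_congr rfl fun k _ => ?_
          rw [Finset.sum_comm]
          refine Finset.sum_congr rfl fun k' _ => ?_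
          rw [Finset.mul_sum]
      _ = 0 := by
          refine Finset.sum_eq_zero fun k hk => Finset.sum_eq_zero fun k' hk' => ?_
          rw [horth k hk k' hk', mul_zero]

end Cfsg.Agent.Helper14.BRB
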