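import Mathlib
import Cfsg.Prelude.Def_Characters
import Cfsg.Agent.Lib.Helper22.SelfCent
import Cfsg.Agent.Lib.Helper15.TLGT
import Cfsg.Agent.Lib.Helper24.CharBasic

/-!
# Brauer-Reynolds reduction: group theory   (helper17)

`G` perfect, `P` a Sylow `p`-subgroup of order `p`.
-/

set_option autoImplicit false

namespace Cfsg.Agent.Helper17.BRRed

open Subgroup Cfsg
open scoped commutatorElement

set_option linter.style.haveILetI false

variable {G : Type*} [Group G] [Finite G] {p : ℕ} [hpF : Fact p.Prime]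

/-- Commutators of elements normalizing a cyclic subgroup centralize it. -/
theorem commutator_mem_centralizer (P : Subgroup G) [IsCyclic P] {a b : G}
    (ha : a ∈ normalizer (P : Set G)) (hb : b ∈ normalizer (P : Set G)) :
    ⁅a, b⁆ ∈ centralizer (P : Set G) := by
  let φ := P.normalizerMonoidHom
  let e := IsCyclic.mulAutMulEquiv P
  have h1 : φ ⁅(⟨a, ha⟩ : normalizer (P : Set G)), ⟨b, hb⟩⁆ = 1 := by
    rw [map_commutatorElement]
    apply e.injective
    rw [map_commutatorElement, map_one]
    exact commutatorElement_eq_one_iff_commute.mpr (Commute.all _ _)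
  have hk : ⁅(⟨a, ha⟩ : normalizer (P : Set G)), ⟨b, hb⟩⁆ ∈ φ.ker := h1
  rw [Subgroup.normalizerMonoidHom_ker, Subgroup.mem_subgroupOf] at hk
  exact hk

/-- Burnside: in a perfect group a Sylow subgroup of order `p` is not central in its normalizer. -/
theorem not_normalizer_le_centralizer (hperf : commutator G = ⊤) (P : Sylow p G)
    (hP : Nat.card P = p) : ¬ normalizer ((P : Subgroup G) : Set G) ≤ centralizer ((P : Subgroup G) : Set G) := by
  intro h
  have hc := MonoidHom.ker_transferSylow_isComplement' P h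
  have hker : (MonoidHom.transferSylow P h).ker = ⊤ := by
    rw [eq_top_iff, ← hperf, commutator_def, Subgroup.commutator_le]
    intro a _ b _
    rw [MonoidHom.mem_ker, map_commutatorElement, commutatorElement_eq_one_iff_commute]
    have hab := Cfsg.Agent.Helper5.TL.gt_comm_of_card p P hP _ _
      (MonoidHom.transferSylow P h a).2 (MonoidHom.transferSylow P h b).2
    exact Subtype.ext hab
  rw [hker] at hc
  have h1 := hc.card_mul_card
  rw [Subgroup.card_top] at h1
  have h2 : Nat.card (P : Subgroup G) = 1 := by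
    have hpos : 0 < Nat.card G := Nat.card_pos
    have : Nat.card G * Nat.card (P : Subgroup G) = Nat.card G * 1 := by rw [h1, mul_one]
    exact Nat.eq_of_mul_eq_mul_left hpos this
  rw [hP] at h2
  exact hpF.out.one_lt.ne' h2

theorem normalizer_ne_top (hperf : commutator G = ⊤) (P : Sylow p G)
    (hP : Nat.card P = p) : normalizer ((P : Subgroup G) : Set G) ≠ ⊤ := by
  intro htop
  haveI : IsCyclic (P : Subgroup G) := isCyclic_of_prime_card hP
  apply not_normalizer_le_centralizer hperf P hP
  have : (⊤ : Subgroup G) ≤ centralizer ((P : Subgroup G) : Set G) := by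
    rw [← hperf, commutator_def, Subgroup.commutator_le]
    intro a _ b _
    exact commutator_mem_centralizer (P : Subgroup G) (by rw [htop]; trivial) (by rw [htop]; trivial)
  exact le_top.trans this

/-- The numerical data of the configuration. -/
theorem numerics (hperf : commutator G = ⊤) (P : Sylow p G) (hP : Nat.card P = p) :
    ∃ q v n : ℕ, q = (centralizer ((P : Subgroup G) : Set G)).relIndex (normalizer ((P : Subgroup G) : Set G)) ∧
      2 ≤ q ∧ q ∣ p - 1 ∧ 1 ≤ n ∧ 0 < v ∧ ¬ p ∣ v ∧
      Nat.card (Sylow p G) = 1 + n * p ∧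
      Nat.card (centralizer ((P : Subgroup G) : Set G)) = p * v ∧
      Nat.card G = p * v * q * (1 + n * p) ∧
      (centralizer ((P : Subgroup G) : Set G)).index = q * (1 + n * p) := by
  have hp : p.Prime := hpF.out
  set C := centralizer ((P : Subgroup G) : Set G) with hC
  set N := normalizer ((P : Subgroup G) : Set G) with hN
  have hPC : (P : Subgroup G) ≤ C := Cfsg.Agent.Helper5.TL.gt_le_centralizer p P hP
  have hCN : C ≤ N := Subgroup.centralizer_le_normalizer _
  have hqdvd : C.relIndex N ∣ p - 1 := Cfsg.Agent.Helper5.TL.relIndex_dvd p P hP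
  have hq0 : 0 < C.relIndex N := Nat.pos_of_dvd_of_pos hqdvd (by have := hp.two_le; omega)
  have hq1 : C.relIndex N ≠ 1 := by
    intro h
    rw [Subgroup.relIndex_eq_one] at h
    exact not_normalizer_le_centralizer hperf P hP h
  -- Sylow count
  have hr : Nat.card (Sylow p G) = N.index := Sylow.card_eq_index_normalizer P
  have hmod := card_sylow_modEq_one p G
  obtain ⟨n, hn⟩ : ∃ n, Nat.card (Sylow p G) = 1 + n * p := by
    have hpos : 0 < Nat.card (Sylow p G) := Nat.card_pos
    have h1 := (Nat.modEq_iff_dvd' hpos).mp hmod.symm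
    obtain ⟨n, hn⟩ := h1
    refine ⟨n, ?_⟩
    have : Nat.card (Sylow p G) = 1 + (Nat.card (Sylow p G) - 1) := by omega
    rw [this, hn, mul_comm]
  have hn1 : 1 ≤ n := by
    rcases Nat.eq_zero_or_pos n with h | h
    · exfalso
      subst h
      rw [hr] at hn
      simp only [zero_mul, add_zero] at hn
      exact normalizer_ne_top hperf P hP (Subgroup.index_eq_one.mp hn)
    · exact h
  -- v
  have hdv : Nat.card (P : Subgroup G) ∣ Nat.card C := Subgroup.card_dvd_of_le hPC
  rw [hP] at hdv
  obtain ⟨v, hv⟩ := hdv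
  have hv0 : 0 < v := by
    rcases Nat.eq_zero_or_pos v with h | h
    · subst h
      have : 0 < Nat.card C := Nat.card_pos
      omega
    · exact h
  have hidx : C.index = C.relIndex N * N.index := (Subgroup.relIndex_mul_index hCN).symm
  have hG : Nat.card G = Nat.card C * C.index := (Subgroup.card_mul_index C).symm
  have hGeq : Nat.card G = p * v * C.relIndex N * (1 + n * p) := by
    rw [hG, hidx, hv, ← hr, hn]; ring
  have hpv : ¬ p ∣ v := by
    intro hpv
    have h1 : p ^ 2 ∣ Nat.card G := by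
      rw [hGeq]
      obtain ⟨c, rfl⟩ := hpv
      exact ⟨c * C.relIndex N * (1 + n * p), by ring⟩
    have h2 := P.pow_dvd_card_of_pow_dvd_card h1
    have h3 : p ^ 2 ≤ p := by
      have := Nat.le_of_dvd (by rw [hP]; exact hp.pos) h2
      rwa [hP] at this
    have := hp.two_le
    nlinarith
  refine ⟨C.relIndex N, v, n, rfl, by omega, hqdvd, hn1, hv0, hpv, hn, hv, hGeq, ?_⟩
  rw [hidx, ← hr, hn]

/-- A generator of `P`. -/
theorem exists_generator (P : Sylow p G) (hP : Nat.card P = p) :
    ∃ z : G, z ∈ (P : Subgroup G) ∧ orderOf z = p ∧ zpowers z = (P : Subgroup G) ∧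
      centralizer ({z} : Set G) = centralizer ((P : Subgroup G) : Set G) := by
  have hp : p.Prime := hpF.out
  have hnt : (P : Subgroup G) ≠ ⊥ := by
    intro h
    have : Nat.card (P : Subgroup G) = 1 := by rw [h]; exact Subgroup.card_bot
    rw [hP] at this
    exact hp.one_lt.ne' this
  obtain ⟨z, hzP, hz1⟩ := (Subgroup.ne_bot_iff_exists_ne_one.mp hnt) |> fun ⟨z, hz⟩ =>
    (⟨(z : G), z.2, fun h => hz (Subtype.ext h)⟩ : ∃ z : G, z ∈ (P : Subgroup G) ∧ z ≠ 1)
  have ho : orderOf z = p := by
    have h1 : orderOf z ∣ p := by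
      have := orderOf_dvd_natCard (⟨z, hzP⟩ : (P : Subgroup G))
      rw [hP] at this
      rwa [← Subgroup.orderOf_coe] at this
    rcases (Nat.dvd_prime hp).mp h1 with h | h
    · exact absurd (orderOf_eq_one_iff.mp h) hz1
    · exact h
  have hz : zpowers z = (P : Subgroup G) :=
    (Cfsg.Agent.Helper22.eq_zpowers_of_card_eq z ho (P : Subgroup G) hP hzP).symm
  refine ⟨z, hzP, ho, hz, ?_⟩
  rw [← hz, Cfsg.Agent.Helper22.centralizer_zpowers_eq]

/-- The kernel of a character is a normal subgroup. -/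
theorem exists_kernel {χ : G → ℂ} (hχ : IsCharacter G χ) :
    ∃ K : Subgroup G, K.Normal ∧ ∀ g, g ∈ K ↔ χ g = χ 1 := by
  obtain ⟨n, ρ, rfl⟩ := hχ
  refine ⟨(ρ : G →* _).ker, inferInstance, fun g => ?_⟩
  rw [MonoidHom.mem_ker, ← Cfsg.Agent.Helper24.char_eq_finrank_iff ρ g, Representation.char_one]

/-- A normal subgroup not containing the generator `z` of the Sylow subgroup `P` of order `p` has
order prime to `p`. -/
theorem coprime_card_of_normal_of_not_mem (P : Sylow p G) (hP : Nat.card P = p)
    (S : Subgroup G) [hS : S.Normal] {z : G} (hz : z ∈ (P : Subgroup G)) (hzS : z ∉ S) :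
    (Nat.card S).Coprime p := by
  have hp : p.Prime := hpF.out
  rw [Nat.coprime_comm, Nat.Prime.coprime_iff_not_dvd hp]
  intro hpS
  obtain ⟨y, hy⟩ := exists_prime_orderOf_dvd_card' (G := S) p hpS
  have hy' : orderOf (y : G) = p := by rw [Subgroup.orderOf_coe]; exact hy
  have hpg : IsPGroup p (zpowers (y : G)) := by
    apply IsPGroup.of_card (n := 1)
    rw [Nat.card_zpowers, hy', pow_one]
  obtain ⟨Q, hQ⟩ := hpg.exists_le_sylow
  have hQcard : Nat.card (Q : Subgroup G) = p := by
    rw [Sylow.card_eq_multiplicity, ← Sylow.card_eq_multiplicity P]; exact hP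
  have hQy : (Q : Subgroup G) = zpowers (y : G) :=
    Cfsg.Agent.Helper22.eq_zpowers_of_card_eq (y : G) hy' Q hQcard (hQ (mem_zpowers _))
  obtain ⟨g, hg⟩ := MulAction.exists_smul_eq G P Q
  have h1 : g * z * g⁻¹ ∈ (Q : Subgroup G) := by
    rw [← hg, Sylow.coe_subgroup_smul, Cfsg.Agent.Helper22.mem_conj_smul_iff]
    have : g⁻¹ * (g * z * g⁻¹) * g = z := by group
    rw [this]
    exact hz
  rw [hQy] at h1
  have h2 : g * z * g⁻¹ ∈ S := (zpowers_le.2 y.2) h1
  have h3 := hS.conj_mem _ h2 g⁻¹
  have : g⁻¹ * (g * z * g⁻¹) * g⁻¹⁻¹ = z := by group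
  rw [this] at h3
  exact hzS h3

/-- If `v ≥ 2` the centralizer of `P` contains a nontrivial `p`-regular element. -/
theorem exists_pregular (P : Sylow p G) {v : ℕ} (hv : 2 ≤ v) (hpv : ¬ p ∣ v)
    (hC : Nat.card (centralizer ((P : Subgroup G) : Set G)) = p * v) :
    ∃ y : G, y ∈ centralizer ((P : Subgroup G) : Set G) ∧ ¬ p ∣ orderOf y ∧ y ≠ 1 := by
  have hp : p.Prime := hpF.out
  obtain ⟨ℓ, hℓ, hℓv⟩ := Nat.exists_prime_and_dvd (show v ≠ 1 by omega)
  haveI : Fact ℓ.Prime := ⟨hℓ⟩
  have hℓC : ℓ ∣ Nat.card (centralizer ((P : Subgroup G) : Set G)) := by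
    rw [hC]; exact hℓv.mul_left p
  obtain ⟨y, hy⟩ := exists_prime_orderOf_dvd_card' (G := centralizer ((P : Subgroup G) : Set G)) ℓ hℓC
  have hy' : orderOf (y : G) = ℓ := by rw [Subgroup.orderOf_coe]; exact hy
  refine ⟨y, y.2, ?_, ?_⟩
  · rw [hy']
    intro h
    have : p = ℓ := (Nat.prime_dvd_prime_iff_eq hp hℓ).mp h
    subst this
    exact hpv hℓv
  · intro h
    rw [h, orderOf_one] at hy'
    exact hℓ.one_lt.ne hy'

end Cfsg.Agent.Helper17.BRRed
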