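import Mathlib

/-!
# Brauer-Reynolds reduction, Lemma K (numeric core)   (helper17)

A family of `d < p` roots of unity of order dividing `g` (`p ∣ g`) whose power sums are constant at all
exponents prime to `p` consists of `p`-th roots of unity.
-/

set_option autoImplicit false

namespace Cfsg.Agent.Helper17.BRRed

open Finset

/-- Geometric sum of a `g`-th root of unity. -/
theorem geom_root (g : ℕ) (x : ℂ) (hx : x ^ g = 1) :
    ∑ k ∈ range g, x ^ k = if x = 1 then (g : ℂ) else 0 := by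
  split_ifs with h
  · subst h; simp
  · have h1 := geom_sum_mul x g
    rw [hx, sub_self] at h1
    rcases mul_eq_zero.mp h1 with h2 | h2
    · exact h2
    · exact absurd (sub_eq_zero.mp h2) h

/-- Fourier inversion: the twisted sum of the power sums counts the multiplicity. -/
theorem fourier_count (g d : ℕ) (μ : Fin d → ℂ) (hμ : ∀ i, μ i ^ g = 1) (w : ℂ) (hw : w ^ g = 1) :
    ∑ k ∈ range g, (∑ i, μ i ^ k) * (w⁻¹) ^ k =
      (g : ℂ) * ((univ.filter fun i => μ i = w).card : ℂ) := by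
  rcases Nat.eq_zero_or_pos g with hg0 | hg0
  · subst hg0; simp
  have hg0 : g ≠ 0 := hg0.ne'
  have hw0 : w ≠ 0 := by
    rintro rfl
    rw [zero_pow hg0] at hw
    exact zero_ne_one hw
  calc ∑ k ∈ range g, (∑ i, μ i ^ k) * (w⁻¹) ^ k
      = ∑ i, ∑ k ∈ range g, (μ i * w⁻¹) ^ k := by
        rw [Finset.sum_comm]
        refine Finset.sum_congr rfl fun k _ => ?_
        rw [Finset.sum_mul]
        refine Finset.sum_congr rfl fun i _ => ?_
        rw [mul_pow]
    _ = ∑ i, (if μ i = w then (g : ℂ) else 0) := by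
        refine Finset.sum_congr rfl fun i _ => ?_
        rw [geom_root g (μ i * w⁻¹) (by rw [mul_pow, hμ i, inv_pow, hw]; simp)]
        have : μ i * w⁻¹ = 1 ↔ μ i = w := by
          rw [mul_inv_eq_one₀ hw0]
        simp only [this]
    _ = (g : ℂ) * ((univ.filter fun i => μ i = w).card : ℂ) := by
        rw [← Finset.sum_filter, Finset.sum_const, nsmul_eq_mul, mul_comm]

/-- **Lemma K, numeric core.** -/
theorem roots_pow_p_eq_one (g d p : ℕ) (hp : p.Prime) (hpg : p ∣ g) (hg : 0 < g) (hd : d < p)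
    (μ : Fin d → ℂ) (hμ : ∀ i, μ i ^ g = 1) (ε : ℂ)
    (hε : ∀ k : ℕ, ¬ p ∣ k → ∑ i, μ i ^ k = ε) : ∀ i, μ i ^ p = 1 := by
  intro i₀
  by_contra hne
  set ω := μ i₀ with hω
  have hωg : ω ^ g = 1 := hμ i₀
  -- a primitive p-th root of unity
  obtain ⟨τ, hτ⟩ : ∃ τ : ℂ, IsPrimitiveRoot τ p :=
    ⟨_, Complex.isPrimitiveRoot_exp p hp.ne_zero⟩
  have hτp : τ ^ p = 1 := hτ.pow_eq_one
  have hτg : τ ^ g = 1 := by
    obtain ⟨c, rfl⟩ := hpg
    rw [pow_mul, hτp, one_pow]
  have hgC : (g : ℂ) ≠ 0 := by exact_mod_cast hg.ne'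
  -- every ω τ^j occurs among the μ
  have hocc : ∀ j : ℕ, ∃ i, μ i = ω * τ ^ j := by
    intro j
    set w := ω * τ ^ j with hw
    have hwg : w ^ g = 1 := by
      rw [hw, mul_pow, hωg, ← pow_mul, mul_comm j g, pow_mul, hτg, one_pow, one_mul]
    have hwp : w ^ p = ω ^ p := by
      rw [hw, mul_pow, ← pow_mul, mul_comm j p, pow_mul, hτp, one_pow, mul_one]
    have hw1 : w⁻¹ ≠ 1 := by
      intro h
      have : w = 1 := inv_eq_one.mp h
      rw [this, one_pow] at hwp
      exact hne hwp.symm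
    have hω1 : ω⁻¹ ≠ 1 := by
      intro h
      have : ω = 1 := inv_eq_one.mp h
      rw [this, one_pow] at hne
      exact hne rfl
    have hS1 := fourier_count g d μ hμ w hwg
    have hS2 := fourier_count g d μ hμ ω hωg
    -- the two twisted sums agree
    have hdiff : ∑ k ∈ range g, (∑ i, μ i ^ k) * (w⁻¹) ^ k
        = ∑ k ∈ range g, (∑ i, μ i ^ k) * (ω⁻¹) ^ k := by
      rw [← sub_eq_zero, ← Finset.sum_sub_distrib]
      have hterm : ∀ k ∈ range g, (∑ i, μ i ^ k) * (w⁻¹) ^ k - (∑ i, μ i ^ k) * (ω⁻¹) ^ k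
          = ε * ((w⁻¹) ^ k - (ω⁻¹) ^ k) := by
        intro k _
        by_cases hk : p ∣ k
        · have : (w⁻¹) ^ k = (ω⁻¹) ^ k := by
            obtain ⟨c, rfl⟩ := hk
            rw [inv_pow, inv_pow, pow_mul, pow_mul, hwp]
          rw [this, sub_self, sub_self, mul_zero]
        · rw [hε k hk]; ring
      rw [Finset.sum_congr rfl hterm, ← Finset.mul_sum, Finset.sum_sub_distrib,
        geom_root g w⁻¹ (by rw [inv_pow, hwg, inv_one]),
        geom_root g ω⁻¹ (by rw [inv_pow, hωg, inv_one]), if_neg hw1, if_neg hω1]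
      ring
    rw [hS1, hS2] at hdiff
    have hcard : ((univ.filter fun i => μ i = w).card : ℂ) = ((univ.filter fun i => μ i = ω).card : ℂ) :=
      mul_left_cancel₀ hgC hdiff
    have hcard' : (univ.filter fun i => μ i = w).card = (univ.filter fun i => μ i = ω).card := by
      exact_mod_cast hcard
    have hpos : 0 < (univ.filter fun i => μ i = ω).card := by
      apply Finset.card_pos.mpr
      exact ⟨i₀, by simp [hω]⟩
    rw [← hcard'] at hpos
    obtain ⟨i, hi⟩ := Finset.card_pos.mp hpos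
    exact ⟨i, (Finset.mem_filter.mp hi).2⟩
  -- injection Fin p → Fin d
  choose f hf using hocc
  have hω0 : ω ≠ 0 := by
    intro h
    rw [h, zero_pow hg.ne'] at hωg
    exact zero_ne_one hωg
  have hinj : Function.Injective (fun j : Fin p => f j.1) := by
    intro a b hab
    have h1 : μ (f a.1) = μ (f b.1) := congrArg μ hab
    rw [hf, hf] at h1
    have h2 : τ ^ a.1 = τ ^ b.1 := mul_left_cancel₀ hω0 h1
    exact Fin.ext (hτ.pow_inj a.2 b.2 h2)
  have := Fintype.card_le_of_injective _ hinj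
  simp only [Fintype.card_fin] at this
  omega

end Cfsg.Agent.Helper17.BRRed
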