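import Mathlib
import Cfsg.Prelude.Def_Characters
import Cfsg.Agent.Lib.Helper24.CharBasic
import Cfsg.Agent.Lib.Helper17.BRRedK

/-!
# S0997 (Brauer-Tuan), piece KGEN: Lemma K'   (helper17, for helper21's skeleton plans/BT997_Skel.lean.txt)

A character of degree `< p` with `χ(z^k y^l) = χ(z^k)` for all `l` and all `k` prime to `p` (`z` of order `p`,
`y` commuting with `z`, of order prime to `p`) has `y` in its kernel.
-/

set_option autoImplicit false

namespace Cfsg.Agent.Helper21.BT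

open Cfsg Finset

namespace KGEN

/-- Numeric core: simultaneous eigenvalues `(a_i, b_i)`, `d < p` of them. -/
theorem all_eq_one (g d p : ℕ) (hp : p.Prime) (hpg : p ∣ g) (hg : 0 < g) (hd : d < p)
    (a b : Fin d → ℂ) (ha : ∀ i, a i ^ g = 1) (hb : ∀ i, b i ^ g = 1)
    (h : ∀ k l : ℕ, ¬ p ∣ k → ∑ i, a i ^ k * b i ^ l = ∑ i, a i ^ k) : ∀ i, b i = 1 := by
  classical
  have hgC : (g : ℂ) ≠ 0 := by exact_mod_cast hg.ne'
  -- the members with `b ≠ 1` have vanishing power sums
  have hH' : ∀ k : ℕ, ¬ p ∣ k → ∑ i, (if b i = 1 then (0 : ℂ) else a i ^ k) = 0 := by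
    intro k hk
    have h1 : ∑ l ∈ range g, ∑ i, a i ^ k * b i ^ l = ∑ l ∈ range g, ∑ i, a i ^ k :=
      Finset.sum_congr rfl (fun l _ => h k l hk)
    rw [Finset.sum_comm] at h1
    have h2 : ∀ i, ∑ l ∈ range g, a i ^ k * b i ^ l
        = a i ^ k * (if b i = 1 then (g : ℂ) else 0) := by
      intro i
      rw [← Finset.mul_sum, Cfsg.Agent.Helper17.BRRed.geom_root g (b i) (hb i)]
    rw [Finset.sum_congr rfl (fun i _ => h2 i), Finset.sum_const, card_range, nsmul_eq_mul] at h1
    have h3 : (g : ℂ) * ∑ i, (if b i = 1 then (0 : ℂ) else a i ^ k) = 0 := by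
      rw [Finset.mul_sum]
      have h4 : ∀ i, (g : ℂ) * (if b i = 1 then (0 : ℂ) else a i ^ k)
          = (g : ℂ) * a i ^ k - a i ^ k * (if b i = 1 then (g : ℂ) else 0) := by
        intro i; split_ifs <;> ring
      rw [Finset.sum_congr rfl (fun i _ => h4 i), Finset.sum_sub_distrib, ← Finset.mul_sum, h1,
        sub_self]
    exact (mul_eq_zero.mp h3).resolve_left hgC
  -- the modified family
  set e : Fin d → ℂ := fun i => if b i = 1 then 1 else a i with he
  set c : ℕ := (univ.filter fun i => b i = 1).card with hc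
  have hepow : ∀ i k, e i ^ k = if b i = 1 then (1 : ℂ) else a i ^ k := by
    intro i k
    simp only [he]
    split_ifs <;> simp
  have heg : ∀ i, e i ^ g = 1 := by
    intro i
    rw [hepow]
    split_ifs
    · rfl
    · exact ha i
  have hsum : ∀ k : ℕ, ¬ p ∣ k → ∑ i, e i ^ k = (c : ℂ) := by
    intro k hk
    have h1 : ∀ i, e i ^ k = (if b i = 1 then (1 : ℂ) else 0) + (if b i = 1 then (0 : ℂ) else a i ^ k) := by
      intro i
      rw [hepow]
      split_ifs <;> simp
    rw [Finset.sum_congr rfl (fun i _ => h1 i), Finset.sum_add_distrib, hH' k hk, add_zero,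
      ← Finset.sum_filter, Finset.sum_const, nsmul_eq_mul, mul_one]
  have hep := Cfsg.Agent.Helper17.BRRed.roots_pow_p_eq_one g d p hp hpg hg hd e heg (c : ℂ) hsum
  -- Fourier inversion at a primitive `p`-th root of unity
  obtain ⟨τ, hτ⟩ : ∃ τ : ℂ, IsPrimitiveRoot τ p :=
    ⟨_, Complex.isPrimitiveRoot_exp p hp.ne_zero⟩
  have hτp : τ ^ p = 1 := hτ.pow_eq_one
  have hτ1 : τ⁻¹ ≠ 1 := by
    intro h1
    have h2 : τ = 1 := inv_eq_one.mp h1
    have h3 := hτ.unique (h2 ▸ IsPrimitiveRoot.one)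
    have := hp.one_lt
    omega
  have hF := Cfsg.Agent.Helper17.BRRed.fourier_count p d e hep τ hτp
  have hS0 : ∀ k ∈ range p, (∑ i, e i ^ k) * (τ⁻¹) ^ k
      = (c : ℂ) * (τ⁻¹) ^ k + (if k = 0 then ((d : ℂ) - (c : ℂ)) else 0) := by
    intro k hk
    rw [Finset.mem_range] at hk
    by_cases hk0 : k = 0
    · subst hk0
      simp
    · have hpk : ¬ p ∣ k := fun hdvd => by
        have := Nat.le_of_dvd (Nat.pos_of_ne_zero hk0) hdvd
        omega
      rw [hsum k hpk, if_neg hk0, add_zero]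
  rw [Finset.sum_congr rfl hS0, Finset.sum_add_distrib, ← Finset.mul_sum,
    Cfsg.Agent.Helper17.BRRed.geom_root p τ⁻¹ (by rw [inv_pow, hτp, inv_one]), if_neg hτ1, mul_zero,
    zero_add, Finset.sum_ite_eq' (range p) 0, if_pos (Finset.mem_range.mpr hp.pos)] at hF
  -- `d - c = p * count`
  have hcd : c ≤ d := by
    rw [hc]
    calc (univ.filter fun i => b i = 1).card ≤ (univ : Finset (Fin d)).card := Finset.card_filter_le _ _
      _ = d := by simp
  have hF' : ((d - c : ℕ) : ℂ) = ((p * (univ.filter fun i => e i = τ).card : ℕ) : ℂ) := by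
    rw [Nat.cast_sub hcd]
    push_cast
    exact hF
  have hF'' : d - c = p * (univ.filter fun i => e i = τ).card := by exact_mod_cast hF'
  have hcnt : (univ.filter fun i => e i = τ).card = 0 := by
    by_contra hne
    have h1 : 1 ≤ (univ.filter fun i => e i = τ).card := Nat.one_le_iff_ne_zero.mpr hne
    have h2 : p * 1 ≤ p * (univ.filter fun i => e i = τ).card := Nat.mul_le_mul_left p h1
    omega
  rw [hcnt, mul_zero] at hF''
  have hcd' : c = d := by omega
  intro i
  have hfu : (univ.filter fun i => b i = 1) = univ := by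
    apply Finset.eq_univ_of_card
    rw [← hc, hcd']; simp
  have := Finset.mem_univ i
  rw [← hfu] at this
  exact (Finset.mem_filter.mp this).2

end KGEN

/-- PIECE KGEN: Lemma K'. -/
theorem lemmaK' {G : Type*} [Group G] [Finite G] {χ : G → ℂ} (hχ : IsCharacter G χ) (p : ℕ)
    (hp : p.Prime) (z y : G) (hz : orderOf z = p) (hzy : Commute z y) (hy : ¬ p ∣ orderOf y)
    (d : ℕ) (hd : d < p) (hd1 : χ 1 = d)
    (hε : ∀ k l : ℕ, ¬ p ∣ k → χ (z ^ k * y ^ l) = χ (z ^ k)) : χ y = χ 1 := by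
  rcases Nat.lt_or_ge 1 (orderOf y) with hm | hm
  swap
  · have hm0 : 0 < orderOf y := orderOf_pos y
    have : orderOf y = 1 := by omega
    rw [orderOf_eq_one_iff] at this
    rw [this]
  obtain ⟨n, ρ, rfl⟩ := hχ
  obtain ⟨μ, hμ, hk, -⟩ := Cfsg.Agent.Helper24.exists_roots_of_unity ρ (z * y)
  revert μ
  generalize Module.finrank ℂ (Fin n → ℂ) = D
  intro μ hμ hk
  have h0 := hk 0
  simp only [pow_zero, Finset.sum_const, Finset.card_univ, Fintype.card_fin, nsmul_eq_mul,
    mul_one] at h0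
  have hDd : D = d := by
    have : (D : ℂ) = (d : ℂ) := by rw [← h0, hd1]
    exact_mod_cast this
  have hpg : p ∣ Nat.card G := hz ▸ orderOf_dvd_natCard z
  have hcop : Nat.Coprime p (orderOf y) := (Nat.Prime.coprime_iff_not_dvd hp).mpr hy
  -- exponents
  obtain ⟨s, -, hs⟩ := Nat.exists_mul_mod_eq_one_of_coprime hcop hm
  obtain ⟨s', -, hs'⟩ := Nat.exists_mul_mod_eq_one_of_coprime hcop.symm hp.one_lt
  obtain ⟨A, hA⟩ : ∃ A : ℕ, A = orderOf y * s' := ⟨_, rfl⟩
  obtain ⟨B, hB⟩ : ∃ B : ℕ, B = p * s := ⟨_, rfl⟩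
  rw [← hA] at hs'
  rw [← hB] at hs
  have hzA : (z * y) ^ A = z := by
    rw [hzy.mul_pow]
    have h1 : y ^ A = 1 := by rw [hA, pow_mul, pow_orderOf_eq_one, one_pow]
    have h2 : z ^ A = z := by
      rw [← pow_mod_orderOf, hz, hs', pow_one]
    rw [h1, h2, mul_one]
  have hyB : (z * y) ^ B = y := by
    rw [hzy.mul_pow]
    have h1 : z ^ B = 1 := by rw [hB, pow_mul, ← hz, pow_orderOf_eq_one, one_pow]
    have h2 : y ^ B = y := by
      rw [← pow_mod_orderOf, hs, pow_one]
    rw [h1, h2, one_mul]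
  have hval : ∀ k l : ℕ, ∑ i, (μ i ^ A) ^ k * (μ i ^ B) ^ l = ρ.character (z ^ k * y ^ l) := by
    intro k l
    have h1 : z ^ k * y ^ l = (z * y) ^ (A * k + B * l) := by
      rw [pow_add, pow_mul, pow_mul, hzA, hyB]
    rw [h1, hk]
    refine Finset.sum_congr rfl fun i _ => ?_
    rw [← pow_mul, ← pow_mul, ← pow_add]
  have hall := KGEN.all_eq_one (Nat.card G) D p hp hpg Nat.card_pos (by omega)
    (fun i => μ i ^ A) (fun i => μ i ^ B)
    (fun i => by rw [← pow_mul, mul_comm, pow_mul, hμ i, one_pow])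
    (fun i => by rw [← pow_mul, mul_comm, pow_mul, hμ i, one_pow])
    (fun k l hkp => by
      have h1 := hval k l
      have h2 := hval k 0
      simp only [pow_zero, mul_one] at h2
      rw [h1, h2]
      exact hε k l hkp)
  have h3 := hk B
  rw [hyB] at h3
  rw [h3, h0]
  have : ∀ i, μ i ^ B = 1 := hall
  simp [this]

end Cfsg.Agent.Helper21.BT
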