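import Mathlib
import Cfsg.Prelude.Def_Blocks
import Cfsg.Agent.S4441
import Cfsg.Agent.S0942
import Cfsg.Agent.Lib.Helper24.TLTLPCore
import Cfsg.Agent.Lib.Helper24.CharIntegral
import Cfsg.Agent.Lib.Helper24.GlaubPGroup
import Cfsg.Agent.Lib.Helper23.BlockDefect
import Cfsg.Agent.Lib.Helper15.TLGT
import Cfsg.Agent.Lib.Helper17.BRRedGrp
import Cfsg.Agent.Lib.Helper17.BTKGEN

/-!
# S0997 (Brauer-Tuan), piece RED: reduction to `C_G(P) = P`   (helper17, for helper21's skeleton)

`G` simple non-cyclic of order `p q^b g₀`, `g₀ < p - 1`: a Sylow `p`-subgroup `P` has order `p` and is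
self-centralizing.  (Section 1 of plans/S0997_proof.md: S4441 + degree | order + Lemma K' + S0942.)
-/

set_option autoImplicit false
set_option linter.style.haveILetI false

namespace Cfsg.Agent.Helper21.BT

open Cfsg Subgroup
open scoped commutatorElement

universe u

namespace RED

/-- A simple group that is not cyclic is perfect. -/
theorem perfect_of_simple {G : Type*} [Group G] [IsSimpleGroup G] (hG : ¬ IsCyclic G) :
    commutator G = ⊤ := by
  rcases (inferInstance : (commutator G).Normal).eq_bot_or_eq_top with h | h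
  · exfalso
    apply hG
    have hcomm : ∀ a b : G, a * b = b * a := by
      intro a b
      have h1 : ⁅a, b⁆ ∈ commutator G := by
        rw [commutator_def]
        exact Subgroup.commutator_mem_commutator (Subgroup.mem_top a) (Subgroup.mem_top b)
      rw [h, Subgroup.mem_bot, commutatorElement_eq_one_iff_mul_comm] at h1
      exact h1
    let inst : CommGroup G := { (inferInstance : Group G) with mul_comm := hcomm }
    exact @IsSimpleGroup.isCyclic G inst _
  · exact h

/-- `p ∥ |G|` gives Sylow `p`-subgroups of order `p`. -/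
theorem card_sylow {G : Type*} [Group G] [Finite G] (p : ℕ) [hpF : Fact p.Prime]
    (hdvd : p ∣ Nat.card G) (hsq : ¬ p ^ 2 ∣ Nat.card G) (P : Sylow p G) : Nat.card P = p := by
  have hp : p.Prime := hpF.out
  have hcard := Sylow.card_eq_multiplicity P
  have hn0 : Nat.card G ≠ 0 := Nat.card_pos.ne'
  have h1 : 1 ≤ (Nat.card G).factorization p := (hp.dvd_iff_one_le_factorization hn0).mp hdvd
  have h2 : ¬ 2 ≤ (Nat.card G).factorization p := fun h =>
    hsq ((hp.pow_dvd_iff_le_factorization hn0).mpr h)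
  have h3 : (Nat.card G).factorization p = 1 := by omega
  rw [hcard, h3, pow_one]

/-- A nonprincipal irreducible character of a simple group is faithful. -/
theorem faithful_of_simple {G : Type*} [Group G] [Fintype G] [IsSimpleGroup G]
    (ψ : IrrCharacter G) (hψ : ψ ≠ Cfsg.Agent.Helper24.principalChar G) (y : G)
    (hy : (ψ : G → ℂ) y = (ψ : G → ℂ) 1) : y = 1 := by
  obtain ⟨K, hKn, hK⟩ := Cfsg.Agent.Helper17.BRRed.exists_kernel
    (Cfsg.Agent.Helper24.isCharacter_of_isIrrCharacter ψ.2)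
  have hKbot : K = ⊥ := by
    rcases hKn.eq_bot_or_eq_top with h | h
    · exact h
    · exfalso
      apply hψ
      have hconst : ∀ g, (ψ : G → ℂ) g = (ψ : G → ℂ) 1 := fun g =>
        (hK g).mp (h ▸ Subgroup.mem_top g)
      have h1 := Cfsg.Agent.Helper24.irr_orthogonality' ψ (Cfsg.Agent.Helper24.principalChar G)
      by_contra hne
      rw [if_neg hne] at h1
      have h2 : classInner (ψ : G → ℂ) ((Cfsg.Agent.Helper24.principalChar G : IrrCharacter G) : G → ℂ)
          = (ψ : G → ℂ) 1 := by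
        unfold classInner
        have h3 : ∀ g : G, (ψ : G → ℂ) g *
            (starRingEnd ℂ) (((Cfsg.Agent.Helper24.principalChar G : IrrCharacter G) : G → ℂ) g)
            = (ψ : G → ℂ) 1 := by
          intro g
          have h4 : ((Cfsg.Agent.Helper24.principalChar G : IrrCharacter G) : G → ℂ) g = 1 := rfl
          rw [h4, hconst g]; simp
        rw [Finset.sum_congr rfl (fun g _ => h3 g), Finset.sum_const, Finset.card_univ, nsmul_eq_mul,
          ← Nat.card_eq_fintype_card, ← mul_assoc, inv_mul_cancel₀, one_mul]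
        exact_mod_cast (Nat.card_pos (α := G)).ne'
      rw [h2, Cfsg.Agent.Helper24.irr_one_eq_charDegree ψ.2] at h1
      have h5 : charDegree (ψ : G → ℂ) = 0 := by exact_mod_cast h1
      have := Cfsg.Agent.Helper24.charDegree_pos ψ.2
      omega
  have : y ∈ K := (hK y).mpr hy
  rw [hKbot, Subgroup.mem_bot] at this
  exact this

end RED

/-- PIECE RED. -/
theorem exists_selfCentralizing {G : Type u} [Group G] [Finite G] [IsSimpleGroup G]
    (hG : ¬ IsCyclic G) (p q b g₀ : ℕ) (hp : p.Prime) (hq : q.Prime) (hpq : p ≠ q)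
    (hG' : Nat.card G = p * q ^ b * g₀) (hg : g₀ < p - 1) :
    ∃ P : Subgroup G, Nat.card P = p ∧ Subgroup.centralizer (P : Set G) ≤ P := by
  classical
  haveI : Fact p.Prime := ⟨hp⟩
  haveI : Fintype G := Fintype.ofFinite G
  have hg0 : 0 < g₀ := by
    rcases Nat.eq_zero_or_pos g₀ with h | h
    · exfalso
      subst h
      rw [mul_zero] at hG'
      exact (Nat.card_pos (α := G)).ne' hG'
    · exact h
  have hp3 : 3 ≤ p := by omega
  have hodd : p ≠ 2 := by omega
  have hpdvd : p ∣ Nat.card G := ⟨q ^ b * g₀, by rw [hG']; ring⟩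
  have hpg0 : ¬ p ∣ g₀ := fun h => by
    have := Nat.le_of_dvd hg0 h
    omega
  have hp2 : ¬ p ^ 2 ∣ Nat.card G := by
    intro h
    rw [hG', pow_two, mul_assoc] at h
    have h1 : p ∣ q ^ b * g₀ := (Nat.mul_dvd_mul_iff_left hp.pos).mp h
    rcases (Nat.Prime.dvd_mul hp).mp h1 with h2 | h2
    · exact hpq ((Nat.prime_dvd_prime_iff_eq hp hq).mp (hp.dvd_of_dvd_pow h2))
    · exact hpg0 h2
  obtain ⟨P⟩ : Nonempty (Sylow p G) := inferInstance
  have hP : Nat.card P = p := RED.card_sylow p hpdvd hp2 P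
  refine ⟨(P : Subgroup G), hP, ?_⟩
  -- the principal block
  obtain ⟨M, hM⟩ := Cfsg.Agent.Helper24.Glaub.exists_isPModular hp
  haveI : M.IsPrime := hM.2.1.isPrime
  obtain ⟨X, Y, hB, hdisj, hXcard, hYcard, εX, ε, hX, hε, hYdeg, hYagree, hYsum⟩ :=
    Cfsg.Agent.S4441.result p M hM hodd P hP _ rfl
  set e := (centralizer ((P : Subgroup G) : Set G)).relIndex (normalizer ((P : Subgroup G) : Set G))
    with he
  have hedvd : e ∣ p - 1 := Cfsg.Agent.Helper5.TL.relIndex_dvd p P hP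
  have he0 : 0 < e := Nat.pos_of_dvd_of_pos hedvd (by omega)
  have hep : e < p := by
    have := Nat.le_of_dvd (by omega) hedvd
    omega
  have hfin : Finite (IrrCharacter G) := Cfsg.Agent.Helper24.irr_finite'
  have hYne : Y.Nonempty := by
    rw [← Set.ncard_pos (Set.toFinite Y), ← Nat.card_coe_set_eq, hYcard]
    exact Nat.div_pos (Nat.le_of_dvd (by omega) hedvd) he0
  set χ₀ := Cfsg.Agent.Helper24.principalChar G with hχ₀
  have hχ₀B : χ₀ ∈ principalBlock M G := Cfsg.Agent.Helper23.Blk.principalChar_mem_principalBlock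
  have hχ₀1 : ∀ g : G, (χ₀ : G → ℂ) g = 1 := fun _ => rfl
  have hχ₀deg : charDegree (χ₀ : G → ℂ) = 1 := by
    have h1 := Cfsg.Agent.Helper24.irr_one_eq_charDegree χ₀.2
    rw [hχ₀1] at h1
    have h3 : ((charDegree (χ₀ : G → ℂ) : ℕ) : ℂ) = ((1 : ℕ) : ℂ) := by rw [← h1]; simp
    exact_mod_cast h3
  have hone_reg : ¬ p ∣ orderOf (1 : G) := by
    rw [orderOf_one]; exact hp.one_lt.ne' ∘ Nat.dvd_one.mp
  -- degrees in the principal block are prime to `p`
  have hpdeg : ∀ ψ ∈ principalBlock M G, ¬ p ∣ charDegree (ψ : G → ℂ) := by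
    intro ψ hψ hdvd
    rw [hB] at hψ
    have hd0 : ((charDegree (ψ : G → ℂ) : ℕ) : ℤ) ≡ 0 [ZMOD (p : ℤ)] :=
      (Int.modEq_zero_iff_dvd).mpr (by exact_mod_cast hdvd)
    rcases hψ with h | h
    · obtain ⟨hεχ, hmod, -⟩ := hX ψ h
      have h1 : (0 : ℤ) ≡ εX ψ [ZMOD (p : ℤ)] := hd0.symm.trans hmod
      have h2 : (p : ℤ) ∣ εX ψ := by
        have := h1.dvd
        simpa using this
      rcases hεχ with h3 | h3
      · rw [h3] at h2
        have h4 : p ∣ 1 := by exact_mod_cast h2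
        exact hp.one_lt.ne' (Nat.dvd_one.mp h4)
      · rw [h3, dvd_neg] at h2
        have h4 : p ∣ 1 := by exact_mod_cast h2
        exact hp.one_lt.ne' (Nat.dvd_one.mp h4)
    · have hmod := hYdeg ψ h
      have h1 : (0 : ℤ) ≡ ε * (e : ℤ) [ZMOD (p : ℤ)] := hd0.symm.trans hmod
      have h2 : (p : ℤ) ∣ ε * (e : ℤ) := by
        have := h1.dvd
        simpa using this
      have h5 : (p : ℤ) ∣ (e : ℤ) := by
        rcases hε with h3 | h3
        · rw [h3, one_mul] at h2; exact h2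
        · rw [h3, neg_one_mul, dvd_neg] at h2; exact h2
      have h6 : p ∣ e := by exact_mod_cast h5
      have := Nat.le_of_dvd he0 h6
      omega
  -- the degree equation over the integers
  have hXfin : X.Finite := Set.toFinite X
  have hdegeq : ∀ θ ∈ Y, ε * (charDegree (θ : G → ℂ) : ℤ)
      = ∑ χ ∈ hXfin.toFinset, εX χ * (charDegree (χ : G → ℂ) : ℤ) := by
    intro θ hθ
    have h1 := hYsum θ hθ 1 hone_reg
    rw [finsum_mem_eq_finite_toFinset_sum _ hXfin,
      Cfsg.Agent.Helper24.irr_one_eq_charDegree θ.2] at h1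
    have h2 : ∑ χ ∈ hXfin.toFinset, (εX χ : ℂ) * (χ : G → ℂ) 1
        = ∑ χ ∈ hXfin.toFinset, (εX χ : ℂ) * ((charDegree (χ : G → ℂ) : ℕ) : ℂ) :=
      Finset.sum_congr rfl (fun χ _ => by rw [Cfsg.Agent.Helper24.irr_one_eq_charDegree χ.2])
    rw [h2] at h1
    have h3 : ((ε * (charDegree (θ : G → ℂ) : ℤ) : ℤ) : ℂ)
        = ((∑ χ ∈ hXfin.toFinset, εX χ * (charDegree (χ : G → ℂ) : ℤ) : ℤ) : ℂ) := by
      push_cast
      exact h1
    exact_mod_cast h3
  -- a nonprincipal member of the principal block of degree prime to `q`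
  have hkey : ∃ ψ ∈ principalBlock M G, ψ ≠ χ₀ ∧ ¬ q ∣ charDegree (ψ : G → ℂ) := by
    by_contra hcon
    push Not at hcon
    have hqdvd : ∀ ψ ∈ principalBlock M G, ψ ≠ χ₀ → (q : ℤ) ∣ (charDegree (ψ : G → ℂ) : ℤ) :=
      fun ψ h1 h2 => by exact_mod_cast hcon ψ h1 h2
    have hq1 : ¬ (q : ℤ) ∣ 1 := fun h => by
      have h4 : q ∣ 1 := by exact_mod_cast h
      exact hq.one_lt.ne' (Nat.dvd_one.mp h4)
    by_cases hχ₀X : χ₀ ∈ X
    · obtain ⟨θ, hθY⟩ := hYne
      have hθne : θ ≠ χ₀ := fun h => (Set.disjoint_left.mp hdisj) hχ₀X (h ▸ hθY)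
      have h1 := hdegeq θ hθY
      rw [← Finset.add_sum_erase hXfin.toFinset _ (hXfin.mem_toFinset.mpr hχ₀X), hχ₀deg] at h1
      have h2 : (q : ℤ) ∣ ∑ χ ∈ hXfin.toFinset.erase χ₀, εX χ * (charDegree (χ : G → ℂ) : ℤ) := by
        apply Finset.dvd_sum
        intro χ hχ
        rw [Finset.mem_erase, Set.Finite.mem_toFinset] at hχ
        exact Dvd.dvd.mul_left (hqdvd χ (by rw [hB]; exact Or.inl hχ.2) hχ.1) _
      have h3 : (q : ℤ) ∣ ε * (charDegree (θ : G → ℂ) : ℤ) :=
        Dvd.dvd.mul_left (hqdvd θ (by rw [hB]; exact Or.inr hθY) hθne) _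
      have h4 : (q : ℤ) ∣ εX χ₀ * ((1 : ℕ) : ℤ) := by
        have h5 : εX χ₀ * ((1 : ℕ) : ℤ) = ε * (charDegree (θ : G → ℂ) : ℤ)
            - ∑ χ ∈ hXfin.toFinset.erase χ₀, εX χ * (charDegree (χ : G → ℂ) : ℤ) := by
          rw [h1]; ring
        rw [h5]
        exact dvd_sub h3 h2
      rcases (hX χ₀ hχ₀X).1 with h6 | h6
      · rw [h6] at h4; exact hq1 (by simpa using h4)
      · rw [h6] at h4
        have h7 : (q : ℤ) ∣ -1 := by simpa using h4
        rw [dvd_neg] at h7
        exact hq1 h7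
    · have hχ₀Y : χ₀ ∈ Y := by
        rw [hB] at hχ₀B
        rcases hχ₀B with h | h
        · exact absurd h hχ₀X
        · exact h
      have h1 := hdegeq χ₀ hχ₀Y
      rw [hχ₀deg] at h1
      have h2 : (q : ℤ) ∣ ∑ χ ∈ hXfin.toFinset, εX χ * (charDegree (χ : G → ℂ) : ℤ) := by
        apply Finset.dvd_sum
        intro χ hχ
        rw [Set.Finite.mem_toFinset] at hχ
        exact Dvd.dvd.mul_left (hqdvd χ (by rw [hB]; exact Or.inl hχ) (fun h => hχ₀X (h ▸ hχ))) _
      rw [← h1] at h2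
      rcases hε with h6 | h6
      · rw [h6] at h2; exact hq1 (by simpa using h2)
      · rw [h6] at h2
        have h7 : (q : ℤ) ∣ -1 := by simpa using h2
        rw [dvd_neg] at h7
        exact hq1 h7
  obtain ⟨ψ, hψB, hψne, hψq⟩ := hkey
  have hψp := hpdeg ψ hψB
  set d := charDegree (ψ : G → ℂ) with hd
  have hddvd : d ∣ Nat.card G := Cfsg.Agent.Helper24.charDegree_dvd_card ψ.2
  have hdg0 : d ∣ g₀ := by
    rw [hG', mul_assoc] at hddvd
    have h1 : Nat.Coprime d p := ((Nat.Prime.coprime_iff_not_dvd hp).mpr hψp).symm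
    have h2 : Nat.Coprime d (q ^ b) :=
      (((Nat.Prime.coprime_iff_not_dvd hq).mpr hψq).symm).pow_right b
    exact h2.dvd_of_dvd_mul_left (h1.dvd_of_dvd_mul_left hddvd)
  have hdlt : d < p := by
    have := Nat.le_of_dvd hg0 hdg0
    omega
  -- the p-regular elements of `C_G(P)`
  obtain ⟨z, hzP, hzo, -, -⟩ := Cfsg.Agent.Helper17.BRRed.exists_generator P hP
  obtain ⟨K', n₀, hK1, hK2, hK3, hK4, -⟩ := Cfsg.Agent.Helper5.TL.exists_pcore p P hP
  have hy1 : ∀ y : G, y ∈ centralizer ((P : Subgroup G) : Set G) → ¬ p ∣ orderOf y → y = 1 := by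
    intro y hyC hyreg
    have hcomm : Commute z y := (Subgroup.mem_centralizer_iff.mp hyC) z hzP
    have hval : ∀ k l : ℕ, ¬ p ∣ k → (ψ : G → ℂ) (z ^ k * y ^ l) = (ψ : G → ℂ) (z ^ k) := by
      intro k l hk
      have hzk : z ^ k ≠ 1 := by
        intro hc
        have := orderOf_dvd_of_pow_eq_one hc
        rw [hzo] at this
        exact hk this
      have hzko : orderOf (z ^ k) = p := by
        have hc : Nat.Coprime (orderOf z) k := by
          rw [hzo]; exact (Nat.Prime.coprime_iff_not_dvd hp).mpr hk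
        rw [hc.orderOf_pow, hzo]
      have hyl : y ^ l ∈ K' :=
        (hK1 _).mpr ⟨Subgroup.pow_mem _ hyC l, fun hc => hyreg (hc.trans (orderOf_pow_dvd l))⟩
      have hmem := Cfsg.Agent.Helper5.TL.mem_centralizerPPrimeCore_of_pcore p P hP (z ^ k)
        (Subgroup.pow_mem _ hzP k) hzk K' hK1 hK2 hK3 (y ^ l) hyl
      exact Cfsg.Agent.S0942.result p M hM (z ^ k) ⟨1, by rw [pow_one, hzko]⟩ (y ^ l) hmem ψ hψB
    have h1 := lemmaK' (Cfsg.Agent.Helper24.isCharacter_of_isIrrCharacter ψ.2) p hp z y hzo hcomm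
      hyreg d hdlt (Cfsg.Agent.Helper24.irr_one_eq_charDegree ψ.2) hval
    exact RED.faithful_of_simple ψ hψne y h1
  intro c hc
  obtain ⟨u, k, huP, hkK, rfl⟩ := hK4 c
    (fun u hu => ((Subgroup.mem_centralizer_iff.mp hc) u hu).symm)
  have hk1 : k = 1 := hy1 k ((hK1 k).mp hkK).1 ((hK1 k).mp hkK).2
  rw [hk1, mul_one]
  exact huP

end Cfsg.Agent.Helper21.BT
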