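import Mathlib

/-!
# Rank-one pushing up (S2768, S2769, S2770): definitions

`G` a finite group, `S` a Sylow `p`-subgroup (as a `Subgroup G`), `Q = O_p(G)`, `M` the unique maximal
subgroup containing `S`.  `AbMax S` = abelian subgroups of `S` of largest order, `JJ S = J(S)` (generated by them),
`YY S = Z(J(S))`, `BB S = C_S(Z(J(S)))` (Baumann subgroup, with `Z(J(S))` in place of `Ω₁Z(J(S))`), `ZZ S = Z(S)`.
See `plans/S2768_plan.md` for the paper proof.
-/

set_option autoImplicit false

namespace Cfsg.Agent.Helper17.Baum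

variable {G : Type*} [Group G]

/-- commutativity of a subgroup, in elementwise form. -/
def Comm (A : Subgroup G) : Prop := ∀ a ∈ A, ∀ b ∈ A, a * b = b * a

/-- the abelian subgroups of `S` of largest order. -/
def AbMax (S : Subgroup G) : Set (Subgroup G) :=
  {A | A ≤ S ∧ Comm A ∧ ∀ E : Subgroup G, E ≤ S → Comm E → Nat.card E ≤ Nat.card A}

/-- `J(S)`, abelian version, inside `G`. -/
def JJ (S : Subgroup G) : Subgroup G := sSup (AbMax S)

/-- `Z(J(S))`. -/
def YY (S : Subgroup G) : Subgroup G := JJ S ⊓ Subgroup.centralizer (JJ S : Set G)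

/-- `C_S(Z(J(S)))`. -/
def BB (S : Subgroup G) : Subgroup G := S ⊓ Subgroup.centralizer (YY S : Set G)

/-- `Z(S)`. -/
def ZZ (S : Subgroup G) : Subgroup G := S ⊓ Subgroup.centralizer (S : Set G)

/-- `Ω₁(W)` (used for abelian `W` only): generated by the elements of `W` of order dividing `p`. -/
def Om (p : ℕ) (W : Subgroup G) : Subgroup G := Subgroup.closure {x : G | x ∈ W ∧ x ^ p = 1}

/-- The reduced form of hypothesis (E) (rank-one pushing up): everything we use about `G/K ≅ PSL₂(q)` and the
unique maximal subgroup `M` over the Sylow `p`-subgroup `S`; `Q = O_p(G)`, `q = |S : Q|`. -/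
structure HypR (p q : ℕ) (S Q M : Subgroup G) : Prop where
  syl : ∃ P : Sylow p G, (P : Subgroup G) = S
  pgS : IsPGroup p S
  Qn : Q.Normal
  pgQ : IsPGroup p Q
  QS : Q ≤ S
  Qmax : ∀ N : Subgroup G, N.Normal → IsPGroup p N → N ≤ Q
  cQ : Subgroup.centralizer (Q : Set G) ≤ Q
  Mco : IsCoatom M
  SM : S ≤ M
  Muniq : ∀ M' : Subgroup G, IsCoatom M' → S ≤ M' → M' = M
  card : Nat.card S = q * Nat.card Q
  q1 : 1 < q
  expSQ : ∀ x ∈ S, x ^ p ∈ Q
  comSQ : ∀ x ∈ S, ∀ y ∈ S, x * y * x⁻¹ * y⁻¹ ∈ Q
  nor : ∀ R : Subgroup G, R ≤ S → ¬ R ≤ Q → Subgroup.normalizer (R : Set G) ≤ M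
  gen : Subgroup.normalClosure (S : Set G) = ⊤

/-- the module `V ≤ Ω₁Z(Q)`: normal, exponent `p`, and every `a ∈ S ∖ Q` has `|V : C_V(a)| ≥ q`. -/
structure HypV (p q : ℕ) (S Q V : Subgroup G) : Prop where
  Vn : V.Normal
  VQ : V ≤ Q
  VcQ : V ≤ Subgroup.centralizer (Q : Set G)
  Vexp : ∀ v ∈ V, v ^ p = 1
  mod1 : ∀ a ∈ S, a ∉ Q →
    q * Nat.card (V ⊓ Subgroup.centralizer ({a} : Set G) : Subgroup G) ≤ Nat.card V

/-- abstract properties of `L = PSL₂(q)` used (Sylow `p`-subgroups elementary abelian of order `q`, TI with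
`N(R) ≤ N(P)` for `1 ≠ R ≤ P`, `O_p(L) = 1`). -/
structure RankOne (p q : ℕ) (L : Type*) [Group L] : Prop where
  q1 : 1 < q
  card_syl : ∀ P : Sylow p L, Nat.card (P : Subgroup L) = q
  comm_syl : ∀ P : Sylow p L, ∀ x ∈ (P : Subgroup L), ∀ y ∈ (P : Subgroup L), x * y = y * x
  exp_syl : ∀ P : Sylow p L, ∀ x ∈ (P : Subgroup L), x ^ p = 1
  core : ∀ N : Subgroup L, N.Normal → IsPGroup p N → N = ⊥
  ti : ∀ (P : Sylow p L) (R : Subgroup L), R ≤ (P : Subgroup L) → R ≠ ⊥ →
    Subgroup.normalizer (R : Set L) ≤ Subgroup.normalizer ((P : Subgroup L) : Set L)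

end Cfsg.Agent.Helper17.Baum

/-! ### the conjugation module of a commutative normal subgroup, and the group induced on a module -/

namespace Cfsg.Agent.Helper17.Baum

universe u v

section modv
variable {G : Type u} [Group G]

/-- `V` written additively, as a module for `G` acting by conjugation (`V` normal, commutative). -/
def ModV (V : Subgroup G) (_hn : V.Normal) (_hc : Comm V) : Type u := Additive ↥V

namespace ModV

variable {V : Subgroup G} {hn : V.Normal} {hc : Comm V}

/-- the element of `ModV` given by `v ∈ V`. -/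
def mk (v : ↥V) : ModV V hn hc := Additive.ofMul v

/-- the underlying element of `V`. -/
def val (w : ModV V hn hc) : ↥V := Additive.toMul (show Additive ↥V from w)

@[simp] theorem val_mk (v : ↥V) : val (mk v : ModV V hn hc) = v := rfl
@[simp] theorem mk_val (w : ModV V hn hc) : mk (val w) = w := rfl

theorem val_injective : Function.Injective (val : ModV V hn hc → ↥V) := fun _ _ h => h

/-- `ModV ≃ V`. -/
def equiv : ModV V hn hc ≃ ↥V := ⟨val, mk, fun _ => rfl, fun _ => rfl⟩

instance instAddGroup : AddGroup (ModV V hn hc) := inferInstanceAs (AddGroup (Additive ↥V))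

instance instAddCommGroup : AddCommGroup (ModV V hn hc) :=
  { (instAddGroup : AddGroup (ModV V hn hc)) with
    add_comm := fun a b => by
      show Additive.ofMul (Additive.toMul (show Additive ↥V from a) *
        Additive.toMul (show Additive ↥V from b)) = Additive.ofMul (Additive.toMul
        (show Additive ↥V from b) * Additive.toMul (show Additive ↥V from a))
      congr 1
      exact Subtype.ext (hc _ (Additive.toMul (show Additive ↥V from a)).2 _
        (Additive.toMul (show Additive ↥V from b)).2) }

@[simp] theorem val_zero : val (0 : ModV V hn hc) = 1 := rfl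
@[simp] theorem val_add (w w' : ModV V hn hc) : val (w + w') = val w * val w' := rfl
@[simp] theorem val_neg (w : ModV V hn hc) : val (-w) = (val w)⁻¹ := rfl
theorem val_nsmul (n : ℕ) (w : ModV V hn hc) : val (n • w) = val w ^ n := rfl

instance : DistribMulAction G (ModV V hn hc) where
  smul g w := mk ⟨g * (val w : G) * g⁻¹, hn.conj_mem _ (val w).2 g⟩
  one_smul w := by
    apply val_injective
    apply Subtype.ext
    show (1 : G) * (val w : G) * (1 : G)⁻¹ = (val w : G)
    simp
  mul_smul g h w := by
    apply val_injective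
    apply Subtype.ext
    show (g * h) * (val w : G) * (g * h)⁻¹ = g * (h * (val w : G) * h⁻¹) * g⁻¹
    simp [mul_assoc]
  smul_zero g := by
    apply val_injective
    apply Subtype.ext
    show g * ((1 : ↥V) : G) * g⁻¹ = ((1 : ↥V) : G)
    simp
  smul_add g w w' := by
    apply val_injective
    apply Subtype.ext
    show g * ((val w * val w' : ↥V) : G) * g⁻¹ = (g * (val w : G) * g⁻¹) * (g * (val w' : G) * g⁻¹)
    simp [mul_assoc]

theorem val_smul (g : G) (w : ModV V hn hc) :
    ((val (g • w) : ↥V) : G) = g * (val w : G) * g⁻¹ := rfl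

instance [Finite G] : Finite (ModV V hn hc) := Finite.of_equiv ↥V equiv.symm

theorem card_eq : Nat.card (ModV V hn hc) = Nat.card ↥V := Nat.card_congr equiv

end ModV

end modv

section actimg
variable {G : Type u} [Group G] (W : Type v) [AddCommGroup W] [DistribMulAction G W]

/-- the kernel of the action of `G` on `W`. -/
def actKer : Subgroup G := (DistribMulAction.toAddMonoidEnd G W).ker

instance : (actKer (G := G) W).Normal := by unfold actKer; infer_instance

/-- the group induced by `G` on `W` (it acts faithfully on `W`). -/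
def ActQ : Type u := G ⧸ actKer (G := G) W

instance : Group (ActQ (G := G) W) := inferInstanceAs (Group (G ⧸ actKer (G := G) W))

instance [Finite G] : Finite (ActQ (G := G) W) := inferInstanceAs (Finite (G ⧸ actKer (G := G) W))

/-- the projection of `G` onto the induced group. -/
def actProj : G →* ActQ (G := G) W := QuotientGroup.mk' (actKer (G := G) W)

/-- the induced group as a group of endomorphisms. -/
def actEnd : ActQ (G := G) W →* AddMonoid.End W :=
  QuotientGroup.lift (actKer (G := G) W) (DistribMulAction.toAddMonoidEnd G W) (fun _ hg => hg)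

instance : DistribMulAction (ActQ (G := G) W) W := DistribMulAction.compHom W (actEnd (G := G) W)

variable {W}

theorem actProj_smul (g : G) (w : W) : (actProj (G := G) W g) • w = g • w := rfl

theorem actProj_surjective : Function.Surjective (actProj (G := G) W) :=
  QuotientGroup.mk'_surjective _

theorem actProj_ker : (actProj (G := G) W).ker = actKer (G := G) W := QuotientGroup.ker_mk' _

theorem mem_actKer {g : G} : g ∈ actKer (G := G) W ↔ ∀ w : W, g • w = w := by
  unfold actKer
  rw [MonoidHom.mem_ker]
  constructor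
  · intro h w
    exact DFunLike.congr_fun h w
  · intro h
    ext w
    exact h w

/-- the fixed points of `a` on `W`, as a set. -/
def fixOne (a : G) : Set W := {w | a • w = w}

end actimg

end Cfsg.Agent.Helper17.Baum
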