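import Mathlib
import Cfsg.Agent.Lib.Helper13.OInvDefs
import Cfsg.Agent.Lib.Lead.ChevOrderAll
import Cfsg.Agent.Lib.Lead.ChevSub
import Cfsg.Agent.Lib.Lead.ChevUw

/-!
# ODDINV, piece FIXU (helper17): the fixed points of conjugation by `s = T(c)` in the subgroup of a closed set of
positive roots, in `U`, and in `U_w⁻`.
-/

set_option autoImplicit false
set_option linter.unusedSectionVars false
set_option linter.unusedSimpArgs false
set_option linter.unusedVariables false

namespace Cfsg.Agent.Helper13.OInv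

open Cfsg Cfsg.Lie Cfsg.Agent.Lead.Chev Cfsg.Agent.Lead.Tw

variable {F : Type*} [Field F] {D : ChevalleyDatum}

/-- `T(c)` moves through an ordered product, multiplying the coordinates by the character values -/
theorem fixu_Tmat_prodL (hF : ChevFacts D F) (c : ℕ → F) (hc : ∀ i < D.rank, c i ≠ 0)
    (L : List ℕ) (hL : ∀ r ∈ L, r < D.nroots) (t : ℕ → F) :
    Tmat D c * prodL D L t = prodL D L (fun r => chi D c r * t r) * Tmat D c := by
  induction L with
  | nil => rw [prodL_nil, prodL_nil, mul_one, one_mul]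
  | cons r L ih =>
    have hL' : ∀ r ∈ L, r < D.nroots := fun r hr => hL r (List.mem_cons_of_mem _ hr)
    rw [prodL_cons, prodL_cons, ← mul_assoc, Tmat_conj D hF.hconj r (hL r List.mem_cons_self) c hc (t r),
      mul_assoc, ih hL', mul_assoc]

/-- an element of `U_Ψ` written as an ordered product commutes with `s` iff the coordinates at the roots with
nontrivial character value vanish -/
theorem fixu_comm_iff (hF : ChevFacts D F) (c : ℕ → F) (hc : ∀ i < D.rank, c i ≠ 0)
    (s : GL D.Idx F) (hsc : (s : Matrix D.Idx D.Idx F) = Tmat D c) (Ψ : ℕ → Bool) (t : ℕ → F)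
    (u : GL D.Idx F) (hu : (u : Matrix D.Idx D.Idx F) = prodL D (subFrom D Ψ 0) t) :
    s * u = u * s ↔ ∀ r ∈ subFrom D Ψ 0, chi D c r * t r = t r := by
  have hL : ∀ r ∈ subFrom D Ψ 0, r < D.nroots := fun r hr => ((mem_subFrom D Ψ 0 r).1 hr).2.1.1
  have key : ((s * u : GL D.Idx F) : Matrix D.Idx D.Idx F) =
      prodL D (subFrom D Ψ 0) (fun r => chi D c r * t r) * (s : Matrix D.Idx D.Idx F) := by
    rw [Units.val_mul, hu, hsc]
    exact fixu_Tmat_prodL hF c hc _ hL t
  constructor
  · intro h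
    have h1 : prodL D (subFrom D Ψ 0) (fun r => chi D c r * t r) * (s : Matrix D.Idx D.Idx F) =
        prodL D (subFrom D Ψ 0) t * (s : Matrix D.Idx D.Idx F) := by
      rw [← key, h, Units.val_mul, hu]
    have h2 : prodL D (subFrom D Ψ 0) (fun r => chi D c r * t r) = prodL D (subFrom D Ψ 0) t := by
      have := congrArg (· * ((s⁻¹ : GL D.Idx F) : Matrix D.Idx D.Idx F)) h1
      simp only [mul_assoc] at this
      rw [← Units.val_mul, mul_inv_cancel, Units.val_one, mul_one, mul_one] at this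
      exact this
    exact prodL_subFrom_inj D hF.ufacts (fun r _ => hF.xadd.add' r) (fun r _ => hF.xadd.zero' r) Ψ _ _ h2
  · intro h
    apply Units.ext
    rw [key, Units.val_mul, hu]
    congr 1
    exact prodL_congr D _ _ _ h

/-- the elements of `U_Ψ` commuting with `s = T(c)` are those of `U_{Ψ ∩ {χ = 1}}`, and there are `q^{|Ψ ∩ {χ = 1}|}` -/
theorem card_fixed_subGrp [Fintype F] (hF : ChevFacts D F) (c : ℕ → F) (hc : ∀ i < D.rank, c i ≠ 0)
    (s : GL D.Idx F) (hsc : (s : Matrix D.Idx D.Idx F) = Tmat D c)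
    (chiB : ℕ → Bool) (hchi : ∀ r < D.nroots, (chi D c r = 1 ↔ chiB r = false))
    (Ψ : ℕ → Bool) (hΨ : ClosedPsi D Ψ) :
    Nat.card {u : GL D.Idx F // u ∈ subGrp D F Ψ ∧ s * u = u * s} =
      Fintype.card F ^ ((subFrom D Ψ 0).filter fun r => !chiB r).length := by
  classical
  have hadd : ∀ r < D.nroots, ∀ t₁ t₂ : F, D.x F r t₁ * D.x F r t₂ = D.x F r (t₁ + t₂) :=
    fun r _ => hF.xadd.add' r
  have hzero : ∀ r < D.nroots, D.x F r (0 : F) = 1 := fun r _ => hF.xadd.zero' r
  set L := subFrom D Ψ 0 with hL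
  set L' := L.filter (fun r => !chiB r) with hL'
  have hLlt : ∀ r ∈ L, r < D.nroots := fun r hr => ((mem_subFrom D Ψ 0 r).1 hr).2.1.1
  have hmemL' : ∀ r, r ∈ L' ↔ r ∈ L ∧ chiB r = false := by
    intro r
    rw [hL', List.mem_filter, Bool.not_eq_true']
  let T := {r : ℕ // r ∈ L'}
  let ext0 : (T → F) → ℕ → F := fun f r => if h : r ∈ L' then f ⟨r, h⟩ else 0
  -- the coordinates of a fixed element
  have hfix : ∀ t : ℕ → F, (∀ r ∈ L, chi D c r * t r = t r) ↔ ∀ r ∈ L, chiB r = true → t r = 0 := by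
    intro t
    constructor
    · intro h r hr hb
      have h1 := h r hr
      have h2 : chi D c r ≠ 1 := by
        intro h3
        have := (hchi r (hLlt r hr)).1 h3
        rw [hb] at this
        exact Bool.noConfusion this
      by_contra h0
      apply h2
      have h4 : (chi D c r - 1) * t r = 0 := by rw [sub_mul, one_mul, h1, sub_self]
      rcases mul_eq_zero.1 h4 with h5 | h5
      · exact sub_eq_zero.1 h5
      · exact absurd h5 h0
    · intro h r hr
      by_cases hb : chiB r = true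
      · rw [h r hr hb, mul_zero]
      · have hb' : chiB r = false := by simpa using hb
        rw [(hchi r (hLlt r hr)).2 hb', one_mul]
  have hex : ∀ f : T → F, ∃ g : {u : GL D.Idx F // u ∈ subGrp D F Ψ ∧ s * u = u * s},
      ((g : GL D.Idx F) : Matrix D.Idx D.Idx F) = prodL D L (ext0 f) := by
    intro f
    obtain ⟨g, hg, hgm⟩ := exists_mem_subGrp_of_prodL D hadd hzero Ψ (ext0 f)
    refine ⟨⟨g, hg, ?_⟩, hgm⟩
    rw [fixu_comm_iff hF c hc s hsc Ψ (ext0 f) g hgm, hfix]
    intro r hr hb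
    have : r ∉ L' := by
      rw [hmemL']
      rintro ⟨-, h2⟩
      rw [hb] at h2
      exact Bool.noConfusion h2
    simp only [ext0, dif_neg this]
  choose Φ hΦ using hex
  have hinj : Function.Injective Φ := by
    intro f f' hff
    have e1 := hΦ f
    have e2 := hΦ f'
    rw [hff] at e1
    have := prodL_subFrom_inj D hF.ufacts hadd hzero Ψ _ _ (e1.symm.trans e2)
    funext ⟨r, hr⟩
    have h3 := this r ((hmemL' r).1 hr).1
    simpa [ext0, hr] using h3
  have hsurj : Function.Surjective Φ := by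
    intro g
    obtain ⟨t, ht⟩ := exists_prodL_of_mem_subGrp D hadd hzero hF.comm hF.poscomm Ψ hΨ (g : GL D.Idx F) g.2.1
    have hcomm := (fixu_comm_iff hF c hc s hsc Ψ t (g : GL D.Idx F) ht).1 g.2.2
    rw [hfix] at hcomm
    refine ⟨fun r => t r.val, ?_⟩
    apply Subtype.ext
    apply Units.ext
    rw [hΦ, ht]
    apply prodL_congr
    intro r hr
    by_cases hr' : r ∈ L'
    · simp only [ext0, dif_pos hr']
    · simp only [ext0, dif_neg hr']
      have hb : chiB r = true := by
        by_contra hb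
        apply hr'
        rw [hmemL']
        exact ⟨hr, by simpa using hb⟩
      exact (hcomm r hr hb).symm
  have hcard := Nat.card_congr (Equiv.ofBijective Φ ⟨hinj, hsurj⟩)
  rw [← hcard, Nat.card_fun, Nat.card_eq_fintype_card (α := F)]
  congr 1
  have hnd : L'.Nodup := (subFrom_nodup D Ψ 0).filter _
  have e : T ≃ (L'.toFinset : Finset ℕ) := Equiv.subtypeEquivRight (fun r => by simp)
  rw [Nat.card_congr e, Nat.card_eq_fintype_card, Fintype.card_coe, List.toFinset_card_of_nodup hnd]

/-- `U` is the subgroup of the set of all positive roots -/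
theorem fixu_posUnipotent_eq (D : ChevalleyDatum) (F : Type*) [Field F] :
    D.posUnipotent F = subGrp D F (fun _ => true) := by
  unfold ChevalleyDatum.posUnipotent subGrp
  congr 1
  ext g
  constructor
  · rintro ⟨r, t, hr, hg⟩
    exact ⟨r, t, hr, rfl, hg⟩
  · rintro ⟨r, t, hr, -, hg⟩
    exact ⟨r, t, hr, hg⟩

theorem fixu_closed_true (D : ChevalleyDatum) : ClosedPsi D (fun _ => true) := by
  intro r s _ _ _ _ _ c _
  rfl

/-- fixed points in `U` -/
theorem card_fixed_posUnipotent [Fintype F] (hF : ChevFacts D F) (hS : CorSize D) (hC : CorComb D)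
    (c : ℕ → F) (hc : ∀ i < D.rank, c i ≠ 0)
    (s : GL D.Idx F) (hsc : (s : Matrix D.Idx D.Idx F) = Tmat D c)
    (chiB : ℕ → Bool) (hchi : ∀ r < D.nroots, (chi D c r = 1 ↔ chiB r = false)) :
    Nat.card {u : GL D.Idx F // u ∈ D.posUnipotent F ∧ s * u = u * s} = Fintype.card F ^ nPosChi D chiB := by
  rw [fixu_posUnipotent_eq, card_fixed_subGrp hF c hc s hsc chiB hchi _ (fixu_closed_true D)]
  congr 1
  unfold nPosChi
  rw [← List.toFinset_card_of_nodup ((subFrom_nodup D _ 0).filter _)]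
  congr 1
  ext r
  rw [List.mem_toFinset, List.mem_filter, mem_subFrom, Finset.mem_filter, Finset.mem_range,
    Bool.not_eq_true']
  constructor
  · rintro ⟨⟨-, h1, -⟩, h2⟩
    exact ⟨h1.1, h1, h2⟩
  · rintro ⟨-, h1, h2⟩
    exact ⟨⟨Nat.zero_le _, h1, rfl⟩, h2⟩

/-- fixed points in `U_w⁻` -/
theorem card_fixed_negPart [Fintype F] (hF : ChevFacts D F) (hS : CorSize D) (hC : CorComb D)
    (c : ℕ → F) (hc : ∀ i < D.rank, c i ≠ 0)
    (s : GL D.Idx F) (hsc : (s : Matrix D.Idx D.Idx F) = Tmat D c)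
    (chiB : ℕ → Bool) (hchi : ∀ r < D.nroots, (chi D c r = 1 ↔ chiB r = false))
    (w : List ℕ) (hw : ∀ i ∈ w, i < D.rank) :
    Nat.card {u : GL D.Idx F // u ∈ negPart D hF.xadd w ∧ s * u = u * s} =
      Fintype.card F ^ (negSetChi D chiB w).card := by
  rw [negPart_eq_subGrp, card_fixed_subGrp hF c hc s hsc chiB hchi _
    (closedPsi_psiW D (etaOf D) hF.facts hF.refl hS hF.simple_lt hF.poscomm hC w hw)]
  congr 1
  unfold negSetChi
  rw [← List.toFinset_card_of_nodup ((subFrom_nodup D _ 0).filter _)]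
  congr 1
  ext r
  rw [List.mem_toFinset, List.mem_filter, mem_subFrom, Finset.mem_filter, mem_negSet,
    Bool.not_eq_true']
  unfold psiW
  rw [decide_eq_true_eq]
  constructor
  · rintro ⟨⟨-, h1, h2⟩, h3⟩
    exact ⟨⟨h1, h2⟩, h3⟩
  · rintro ⟨⟨h1, h2⟩, h3⟩
    exact ⟨⟨Nat.zero_le _, h1, h2⟩, h3⟩

end Cfsg.Agent.Helper13.OInv
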