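import Mathlib

/-!
# Spinor norm: the Clifford algebra input (helper17)

`Cfsg.Agent.Helper17.Spinor.isSquare_of_prod_reflections_eq_id`: over a field of characteristic
not two, for a quadratic form `Q` with non-degenerate polar form on a finite-dimensional space, if a
product of an even number of reflections in non-singular vectors `v₁, …, v_k` is the identity then
`Q v₁ ⋯ Q v_k` is a square.  This is the well-definedness of the spinor norm; the proof goes through
Mathlib's `CliffordAlgebra Q`: an even element commuting with every vector is a scalar.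
-/

set_option autoImplicit false

namespace Cfsg.Agent.Helper17.Spinor

open CliffordAlgebra

variable {F V : Type*} [Field F] [AddCommGroup V] [Module F V] (Q : QuadraticForm F V)

/-- The subalgebra of the Clifford algebra generated by the vectors of a list. -/
def genAlg (L : List V) : Subalgebra F (CliffordAlgebra Q) :=
  Algebra.adjoin F {x | ∃ e ∈ L, x = ι Q e}

theorem ι_mem_genAlg {L : List V} {e : V} (he : e ∈ L) : ι Q e ∈ genAlg Q L :=
  Algebra.subset_adjoin ⟨e, he, rfl⟩

theorem genAlg_mono {L L' : List V} (h : ∀ e ∈ L, e ∈ L') : genAlg Q L ≤ genAlg Q L' := by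
  apply Algebra.adjoin_mono
  rintro x ⟨e, he, rfl⟩
  exact ⟨e, h e he, rfl⟩

theorem involute_mem_genAlg (L : List V) {x : CliffordAlgebra Q} (hx : x ∈ genAlg Q L) :
    involute x ∈ genAlg Q L := by
  unfold genAlg at hx
  induction hx using Algebra.adjoin_induction with
  | mem x hx =>
    obtain ⟨e, he, rfl⟩ := hx
    rw [involute_ι]
    exact neg_mem (ι_mem_genAlg Q he)
  | algebraMap r =>
    rw [AlgHom.commutes]
    exact Subalgebra.algebraMap_mem _ r
  | add x y _ _ hx hy =>
    rw [map_add]
    exact add_mem hx hy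
  | mul x y _ _ hx hy =>
    rw [map_mul]
    exact mul_mem hx hy

theorem ι_mul_of_mem_genAlg (e : V) (L : List V)
    (horth : ∀ e' ∈ L, QuadraticMap.polar Q e e' = 0) {x : CliffordAlgebra Q}
    (hx : x ∈ genAlg Q L) : ι Q e * x = involute x * ι Q e := by
  unfold genAlg at hx
  induction hx using Algebra.adjoin_induction with
  | mem x hx =>
    obtain ⟨e', he', rfl⟩ := hx
    have h := ι_mul_ι_add_swap (Q := Q) e e'
    rw [horth e' he', map_zero] at h
    rw [involute_ι, neg_mul]
    exact eq_neg_of_add_eq_zero_left h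
  | algebraMap r =>
    rw [AlgHom.commutes]
    exact (Algebra.commutes r (ι Q e)).symm
  | add x y _ _ hx hy =>
    rw [mul_add, hx, hy, map_add, add_mul]
  | mul x y _ _ hx hy =>
    rw [← mul_assoc, hx, mul_assoc, hy, ← mul_assoc, map_mul]

theorem exists_decomp (e : V) (L : List V)
    (horth : ∀ e' ∈ L, QuadraticMap.polar Q e e' = 0) {z : CliffordAlgebra Q}
    (hz : z ∈ genAlg Q (e :: L)) :
    ∃ a ∈ genAlg Q L, ∃ b ∈ genAlg Q L, z = a + b * ι Q e := by
  unfold genAlg at hz
  induction hz using Algebra.adjoin_induction with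
  | mem x hx =>
    obtain ⟨e', he', rfl⟩ := hx
    rcases List.mem_cons.1 he' with rfl | he'
    · exact ⟨0, zero_mem _, 1, one_mem _, by rw [zero_add, one_mul]⟩
    · exact ⟨ι Q e', ι_mem_genAlg Q he', 0, zero_mem _, by rw [zero_mul, add_zero]⟩
  | algebraMap r =>
    exact ⟨algebraMap F _ r, Subalgebra.algebraMap_mem _ r, 0, zero_mem _, by
      rw [zero_mul, add_zero]⟩
  | add x y _ _ hx hy =>
    obtain ⟨a, ha, b, hb, rfl⟩ := hx
    obtain ⟨a', ha', b', hb', rfl⟩ := hy
    exact ⟨a + a', add_mem ha ha', b + b', add_mem hb hb', by rw [add_mul]; abel⟩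
  | mul x y _ _ hx hy =>
    obtain ⟨a, ha, b, hb, rfl⟩ := hx
    obtain ⟨a', ha', b', hb', rfl⟩ := hy
    have h1 := ι_mul_of_mem_genAlg Q e L horth ha'
    have h2 := ι_mul_of_mem_genAlg Q e L horth hb'
    refine ⟨a * a' + algebraMap F _ (Q e) * (b * involute b'),
      add_mem (mul_mem ha ha') (mul_mem (Subalgebra.algebraMap_mem _ _)
        (mul_mem hb (involute_mem_genAlg Q L hb'))),
      a * b' + b * involute a',
      add_mem (mul_mem ha hb') (mul_mem hb (involute_mem_genAlg Q L ha')), ?_⟩
    have h3 : b * ι Q e * (b' * ι Q e) = algebraMap F _ (Q e) * (b * involute b') := by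
      rw [mul_assoc, ← mul_assoc (ι Q e), h2, mul_assoc, ι_sq_scalar, ← mul_assoc,
        ← Algebra.commutes]
    have h4 : b * ι Q e * a' = b * involute a' * ι Q e := by
      rw [mul_assoc, h1, mul_assoc]
    rw [add_mul, mul_add, mul_add, h3, h4, add_mul, mul_assoc a b']
    abel

/-- An even element of the subalgebra generated by pairwise orthogonal non-singular vectors which
commutes with all of them is a scalar. -/
theorem scalar_of_even_central (h2 : (2 : F) ≠ 0) :
    ∀ (L : List V), L.Pairwise (fun a b => QuadraticMap.polar Q a b = 0) → (∀ e ∈ L, Q e ≠ 0) →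
      ∀ z ∈ genAlg Q L, involute z = z → (∀ e ∈ L, ι Q e * z = z * ι Q e) →
        ∃ c : F, z = algebraMap F _ c := by
  intro L
  induction L with
  | nil =>
    intro _ _ z hz _ _
    have h : genAlg Q ([] : List V) = ⊥ := by
      unfold genAlg
      have : {x : CliffordAlgebra Q | ∃ e ∈ ([] : List V), x = ι Q e} = ∅ := by
        ext x; simp
      rw [this, Algebra.adjoin_empty]
    rw [h, Algebra.mem_bot] at hz
    obtain ⟨c, rfl⟩ := hz
    exact ⟨c, rfl⟩
  | cons e L ih =>
    intro hpair hns z hz hinv hcomm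
    rw [List.pairwise_cons] at hpair
    obtain ⟨horth, hpair'⟩ := hpair
    obtain ⟨a, ha, b, hb, rfl⟩ := exists_decomp Q e L horth hz
    have hEa := ι_mul_of_mem_genAlg Q e L horth ha
    have hEb := ι_mul_of_mem_genAlg Q e L horth hb
    have hEE : ι Q e * ι Q e = algebraMap F _ (Q e) := ι_sq_scalar Q e
    -- evenness
    have h1 : involute a - involute b * ι Q e = a + b * ι Q e := by
      have := hinv
      rw [map_add, map_mul, involute_ι, mul_neg] at this
      rw [sub_eq_add_neg]; exact this
    -- commutation with `e`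
    have h2' : involute a * ι Q e + involute b * algebraMap F _ (Q e)
        = a * ι Q e + b * algebraMap F _ (Q e) := by
      have := hcomm e (List.mem_cons_self)
      rw [mul_add, ← mul_assoc, hEa, hEb, mul_assoc, hEE, add_mul, mul_assoc, hEE] at this
      exact this
    have h1E : involute a * ι Q e - involute b * algebraMap F _ (Q e)
        = a * ι Q e + b * algebraMap F _ (Q e) := by
      have := congrArg (· * ι Q e) h1
      simp only [sub_mul, add_mul, mul_assoc, hEE] at this
      exact this
    have h3 : (2 * Q e) • involute b = 0 := by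
      have h4 : involute b * algebraMap F _ (Q e) + involute b * algebraMap F _ (Q e) = 0 := by
        have := congrArg₂ (· - ·) h2' h1E
        simp only [sub_self] at this
        rw [← this]; abel
      rw [← Algebra.commutes, ← Algebra.smul_def, ← two_smul F, smul_smul] at h4
      exact h4
    have h5 : involute b = 0 := by
      rcases smul_eq_zero.1 h3 with h6 | h6
      · exact absurd h6 (mul_ne_zero h2 (hns e List.mem_cons_self))
      · exact h6
    have hb0 : b = 0 := by
      rw [← involute_involute b, h5, map_zero]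
    subst hb0
    rw [zero_mul, add_zero] at hinv hcomm ⊢
    exact ih hpair' (fun e' he' => hns e' (List.mem_cons_of_mem _ he')) a ha hinv
      (fun e' he' => hcomm e' (List.mem_cons_of_mem _ he'))

/-! ### Reflections -/

/-- The reflection (orthogonal transvection) `w ↦ w - Q(v)⁻¹ f(v, w) v`. -/
def refl (v : V) : Module.End F V :=
  LinearMap.id - (Q v)⁻¹ • (LinearMap.smulRight (QuadraticMap.polarBilin Q v) v)

theorem refl_apply (v w : V) :
    refl Q v w = w - ((Q v)⁻¹ * QuadraticMap.polar Q v w) • v := by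
  simp [refl, mul_smul]

theorem ι_mul_ι_eq_neg_refl {v : V} (hv : Q v ≠ 0) (w : V) :
    ι Q v * ι Q w = -(ι Q (refl Q v w) * ι Q v) := by
  have h := ι_mul_ι_add_swap (Q := Q) v w
  have hr : ι Q (refl Q v w) = ι Q w - ((Q v)⁻¹ * QuadraticMap.polar Q v w) • ι Q v := by
    rw [refl_apply, map_sub, map_smul]
  have hc : ((Q v)⁻¹ * QuadraticMap.polar Q v w) * Q v = QuadraticMap.polar Q v w := by
    field_simp
  rw [hr, sub_mul, smul_mul_assoc, ι_sq_scalar, neg_sub, Algebra.smul_def, ← RingHom.map_mul, hc]
  exact eq_sub_of_add_eq h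

theorem prod_ι_mul_ι (vs : List V) (hvs : ∀ v ∈ vs, Q v ≠ 0) (w : V) :
    (vs.map (ι Q)).prod * ι Q w
      = (-1 : F) ^ vs.length • (ι Q ((vs.map (refl Q)).prod w) * (vs.map (ι Q)).prod) := by
  induction vs generalizing w with
  | nil => simp
  | cons v vs ih =>
    have hv : Q v ≠ 0 := hvs v List.mem_cons_self
    have ih' := ih (fun u hu => hvs u (List.mem_cons_of_mem _ hu)) w
    rw [List.map_cons, List.prod_cons, List.map_cons, List.prod_cons, mul_assoc, ih',
      mul_smul_comm, ← mul_assoc, ι_mul_ι_eq_neg_refl Q hv, List.length_cons, pow_succ,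
      Module.End.mul_apply, neg_mul, smul_neg, mul_neg_one, neg_smul, mul_assoc]

theorem prod_ι_mul_reverse (vs : List V) :
    (vs.map (ι Q)).prod * reverse ((vs.map (ι Q)).prod) = algebraMap F _ ((vs.map Q).prod) := by
  induction vs with
  | nil => simp
  | cons v vs ih =>
    rw [List.map_cons, List.prod_cons, reverse.map_mul, reverse_ι, List.map_cons, List.prod_cons]
    calc ι Q v * (vs.map (ι Q)).prod * (reverse ((vs.map (ι Q)).prod) * ι Q v)
        = ι Q v * ((vs.map (ι Q)).prod * reverse ((vs.map (ι Q)).prod)) * ι Q v := by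
          simp only [mul_assoc]
      _ = algebraMap F _ ((vs.map Q).prod) * (ι Q v * ι Q v) := by
          rw [ih, ← Algebra.commutes, mul_assoc]
      _ = algebraMap F _ (Q v * (vs.map Q).prod) := by
          rw [ι_sq_scalar, ← map_mul, mul_comm]

theorem genAlg_eq_top {n : ℕ} (b : Module.Basis (Fin n) F V) :
    genAlg Q (List.ofFn b) = ⊤ := by
  rw [eq_top_iff, ← adjoin_range_ι]
  apply Algebra.adjoin_le
  rintro _ ⟨m, rfl⟩
  rw [← b.sum_repr m, map_sum]
  apply Subalgebra.sum_mem
  intro i _
  rw [map_smul]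
  apply Subalgebra.smul_mem
  apply ι_mem_genAlg
  rw [List.mem_ofFn]
  exact ⟨i, rfl⟩

/-- Well-definedness of the spinor norm. -/
theorem isSquare_of_prod_reflections_eq_id [FiniteDimensional F V] (h2 : (2 : F) ≠ 0)
    (hQ : (QuadraticMap.polarBilin Q).Nondegenerate) (vs : List V) (hvs : ∀ v ∈ vs, Q v ≠ 0)
    (heven : Even vs.length) (hid : (vs.map (refl Q)).prod = 1) :
    IsSquare (vs.map Q).prod := by
  have : Invertible (2 : F) := invertibleOfNonzero h2
  have hsymm : (QuadraticMap.polarBilin Q).IsSymm :=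
    ⟨fun x y => by simp [QuadraticMap.polar_comm]⟩
  obtain ⟨b, hb⟩ := LinearMap.BilinForm.exists_orthogonal_basis hsymm
  have hbns : ∀ i, Q (b i) ≠ 0 := by
    intro i h0
    have h1 := LinearMap.BilinForm.iIsOrtho.not_isOrtho_basis_self_of_nondegenerate hb hQ i
    apply h1
    rw [QuadraticMap.polarBilin_apply_apply, QuadraticMap.polar_self, h0, smul_zero]
  obtain ⟨z, hz⟩ : ∃ z, z = (vs.map (ι Q)).prod := ⟨_, rfl⟩
  have hinv : involute z = z := by
    rw [hz, involute_prod_map_ι, heven.neg_one_pow, one_smul]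
  have hcomm : ∀ w, ι Q w * z = z * ι Q w := by
    intro w
    rw [hz, prod_ι_mul_ι Q vs hvs w, hid, heven.neg_one_pow, one_smul, Module.End.one_apply]
  have hpair : (List.ofFn b).Pairwise (fun a c => QuadraticMap.polar Q a c = 0) := by
    rw [List.pairwise_ofFn]
    intro i j hij
    exact hb (ne_of_lt hij)
  obtain ⟨c, hc⟩ := scalar_of_even_central Q h2 (List.ofFn b) hpair
    (by
      intro e he
      rw [List.mem_ofFn] at he
      obtain ⟨i, rfl⟩ := he
      exact hbns i)
    z (by rw [genAlg_eq_top Q b]; exact Algebra.mem_top) hinv (fun e _ => hcomm e)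
  have h1 := prod_ι_mul_reverse Q vs
  rw [← hz, hc, reverse.commutes, ← map_mul] at h1
  have h3 := (algebraMap F (CliffordAlgebra Q)).injective h1
  exact ⟨c, h3.symm⟩

end Cfsg.Agent.Helper17.Spinor
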