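import Mathlib
import Cfsg.Agent.Lib.Helper17.SpinorClifford

/-!
# Reflections and the weak Cartan–Dieudonné theorem (helper17)

For a quadratic form `Q` over a field of characteristic not two with non-degenerate polar form on a
finite-dimensional space: basic properties of `Spinor.refl Q v`, moving a vector to another vector
of the same non-zero norm by at most two reflections, and every isometry is a product of reflections.
-/

set_option autoImplicit false

namespace Cfsg.Agent.Helper17.Spinor

variable {F V : Type*} [Field F] [AddCommGroup V] [Module F V] (Q : QuadraticForm F V)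

theorem refl_apply_of_polar_eq_zero (v w : V) (h : QuadraticMap.polar Q v w = 0) :
    refl Q v w = w := by
  rw [refl_apply, h, mul_zero, zero_smul, sub_zero]

theorem Q_add (x y : V) : Q (x + y) = Q x + Q y + QuadraticMap.polar Q x y :=
  QuadraticMap.map_add (⇑Q) x y

theorem Q_sub_smul (w v : V) (c : F) :
    Q (w - c • v) = Q w + c * c * Q v - c * QuadraticMap.polar Q w v := by
  have h : w - c • v = w + (-c) • v := by rw [neg_smul, sub_eq_add_neg]
  rw [h, Q_add Q, QuadraticMap.map_smul, QuadraticMap.polar_smul_right]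
  simp only [smul_eq_mul]
  ring

theorem Q_refl {v : V} (hv : Q v ≠ 0) (w : V) : Q (refl Q v w) = Q w := by
  rw [refl_apply, Q_sub_smul, QuadraticMap.polar_comm Q w v]
  field_simp
  ring

theorem polar_refl {v : V} (hv : Q v ≠ 0) (x y : V) :
    QuadraticMap.polar Q (refl Q v x) (refl Q v y) = QuadraticMap.polar Q x y := by
  unfold QuadraticMap.polar
  rw [← map_add, Q_refl Q hv, Q_refl Q hv, Q_refl Q hv]

theorem refl_refl (_h2 : (2 : F) ≠ 0) {v : V} (hv : Q v ≠ 0) (w : V) :
    refl Q v (refl Q v w) = w := by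
  rw [refl_apply, refl_apply, QuadraticMap.polar_sub_right, QuadraticMap.polar_smul_right,
    QuadraticMap.polar_self]
  simp only [smul_eq_mul, nsmul_eq_mul, Nat.cast_ofNat]
  rw [sub_sub, ← add_smul]
  have : (Q v)⁻¹ * QuadraticMap.polar Q v w
      + (Q v)⁻¹ * (QuadraticMap.polar Q v w - (Q v)⁻¹ * QuadraticMap.polar Q v w * (2 * Q v))
      = 0 := by
    field_simp
    ring
  rw [this, zero_smul, sub_zero]

theorem refl_mul_refl (h2 : (2 : F) ≠ 0) {v : V} (hv : Q v ≠ 0) : refl Q v * refl Q v = 1 := by
  apply LinearMap.ext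
  intro w
  rw [Module.End.mul_apply, refl_refl Q h2 hv, Module.End.one_apply]

/-- Conjugating a reflection by an isometry. -/
theorem isometry_mul_refl (g : Module.End F V) (hg : ∀ x, Q (g x) = Q x) (v : V) :
    g * refl Q v = refl Q (g v) * g := by
  apply LinearMap.ext
  intro w
  have hp : QuadraticMap.polar Q (g v) (g w) = QuadraticMap.polar Q v w := by
    unfold QuadraticMap.polar
    rw [← map_add, hg, hg, hg]
  rw [Module.End.mul_apply, Module.End.mul_apply, refl_apply, refl_apply, map_sub, map_smul, hg, hp]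

theorem isometry_prod_refl (vs : List V) (hvs : ∀ v ∈ vs, Q v ≠ 0) (x : V) :
    Q ((vs.map (refl Q)).prod x) = Q x := by
  induction vs generalizing x with
  | nil => simp
  | cons v vs ih =>
    rw [List.map_cons, List.prod_cons, Module.End.mul_apply,
      Q_refl Q (hvs v List.mem_cons_self), ih (fun u hu => hvs u (List.mem_cons_of_mem _ hu))]

theorem prod_refl_mul_prod_reverse (h2 : (2 : F) ≠ 0) (vs : List V) (hvs : ∀ v ∈ vs, Q v ≠ 0) :
    (vs.map (refl Q)).prod * (vs.reverse.map (refl Q)).prod = 1 := by
  induction vs with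
  | nil => simp
  | cons v vs ih =>
    rw [List.reverse_cons, List.map_append, List.prod_append, List.map_cons, List.prod_cons,
      List.map_cons, List.map_nil, List.prod_cons, List.prod_nil, mul_one]
    calc refl Q v * (vs.map (refl Q)).prod * ((vs.reverse.map (refl Q)).prod * refl Q v)
        = refl Q v * ((vs.map (refl Q)).prod * (vs.reverse.map (refl Q)).prod) * refl Q v := by
          simp only [mul_assoc]
      _ = 1 := by
          rw [ih (fun u hu => hvs u (List.mem_cons_of_mem _ hu)), mul_one,
            refl_mul_refl Q h2 (hvs v List.mem_cons_self)]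

/-- Two vectors of the same non-zero norm are swapped into each other by at most two reflections,
in vectors of their span. -/
theorem exists_refl_list_map (h2 : (2 : F) ≠ 0) {u v : V} (huv : Q u = Q v) (hv : Q v ≠ 0)
    (U : Submodule F V) (hu : u ∈ U) (hvU : v ∈ U) :
    ∃ ws : List V, (∀ w ∈ ws, Q w ≠ 0 ∧ w ∈ U) ∧ (ws.map (refl Q)).prod u = v := by
  by_cases h : Q (u - v) ≠ 0
  · refine ⟨[u - v], ?_, ?_⟩
    · intro w hw
      rw [List.mem_singleton] at hw
      subst hw
      exact ⟨h, U.sub_mem hu hvU⟩
    · rw [List.map_cons, List.map_nil, List.prod_cons, List.prod_nil, mul_one, refl_apply]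
      have h1 : QuadraticMap.polar Q (u - v) u = Q (u - v) := by
        have e : u - v = u + (-1 : F) • v := by rw [neg_smul, one_smul, sub_eq_add_neg]
        rw [QuadraticMap.polar_sub_left, QuadraticMap.polar_self, e, Q_add Q,
          QuadraticMap.map_smul, QuadraticMap.polar_smul_right, huv, QuadraticMap.polar_comm Q v u]
        simp only [smul_eq_mul, nsmul_eq_mul, Nat.cast_ofNat]
        ring
      rw [h1, inv_mul_cancel₀ h, one_smul]
      abel
  · push Not at h
    have h4 : Q (u + v) ≠ 0 := by
      intro h5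
      have e : u - v = u + (-1 : F) • v := by rw [neg_smul, one_smul, sub_eq_add_neg]
      have h6 : Q (u - v) + Q (u + v) = 4 * Q v := by
        rw [e, Q_add Q, Q_add Q, QuadraticMap.map_smul,
          QuadraticMap.polar_smul_right, huv]
        simp only [smul_eq_mul]
        ring
      rw [h, h5, add_zero] at h6
      have h7 : (4 : F) ≠ 0 := by
        have : (4 : F) = 2 * 2 := by norm_num
        rw [this]; exact mul_ne_zero h2 h2
      exact mul_ne_zero h7 hv h6.symm
    refine ⟨[v, u + v], ?_, ?_⟩
    · intro w hw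
      rw [List.mem_cons, List.mem_singleton] at hw
      rcases hw with rfl | rfl
      · exact ⟨hv, hvU⟩
      · exact ⟨h4, U.add_mem hu hvU⟩
    · rw [List.map_cons, List.map_cons, List.map_nil, List.prod_cons, List.prod_cons,
        List.prod_nil, mul_one, Module.End.mul_apply]
      have h1 : QuadraticMap.polar Q (u + v) u = Q (u + v) := by
        rw [QuadraticMap.polar_add_left, QuadraticMap.polar_self, Q_add Q, huv,
          QuadraticMap.polar_comm Q v u]
        simp only [nsmul_eq_mul, Nat.cast_ofNat]
        ring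
      have h8 : refl Q (u + v) u = -v := by
        rw [refl_apply, h1, inv_mul_cancel₀ h4, one_smul]
        abel
      rw [h8, refl_apply, QuadraticMap.polar_neg_right, QuadraticMap.polar_self]
      simp only [nsmul_eq_mul, Nat.cast_ofNat]
      have h9 : (Q v)⁻¹ * -(2 * Q v) = -2 := by field_simp
      rw [h9, neg_smul, two_smul]
      abel

/-! ### The weak Cartan–Dieudonné theorem -/

theorem polarBilin_isSymm : (QuadraticMap.polarBilin Q).IsSymm :=
  ⟨fun x y => by simp [QuadraticMap.polar_comm]⟩

theorem polar_isometry (g : Module.End F V) (hg : ∀ x, Q (g x) = Q x) (x y : V) :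
    QuadraticMap.polar Q (g x) (g y) = QuadraticMap.polar Q x y := by
  unfold QuadraticMap.polar
  rw [← map_add, hg, hg, hg]

theorem exists_nonsingular_of_ne_bot (U : Submodule F V)
    (hU : U ⊓ LinearMap.BilinForm.orthogonal (QuadraticMap.polarBilin Q) U = ⊥) (hU0 : U ≠ ⊥) :
    ∃ v ∈ U, Q v ≠ 0 := by
  by_contra hcon
  push Not at hcon
  apply hU0
  rw [eq_bot_iff, ← hU]
  intro u hu
  refine Submodule.mem_inf.2 ⟨hu, ?_⟩
  rw [LinearMap.BilinForm.mem_orthogonal_iff]
  intro n hn
  show QuadraticMap.polar Q n u = 0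
  unfold QuadraticMap.polar
  rw [hcon _ (U.add_mem hn hu), hcon n hn, hcon u hu]
  simp

theorem prod_refl_apply_of_orthogonal (P : Submodule F V) (ws : List V)
    (hws : ∀ w ∈ ws, w ∈ LinearMap.BilinForm.orthogonal (QuadraticMap.polarBilin Q) P) (p : V)
    (hp : p ∈ P) : (ws.map (refl Q)).prod p = p := by
  induction ws with
  | nil => simp
  | cons w ws ih =>
    rw [List.map_cons, List.prod_cons, Module.End.mul_apply,
      ih (fun u hu => hws u (List.mem_cons_of_mem _ hu))]
    apply refl_apply_of_polar_eq_zero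
    have := (LinearMap.BilinForm.mem_orthogonal_iff.1 (hws w List.mem_cons_self)) p hp
    rw [QuadraticMap.polar_comm]
    exact this

theorem cartan_dieudonne_aux [FiniteDimensional F V] (h2 : (2 : F) ≠ 0)
    (hQ : (QuadraticMap.polarBilin Q).Nondegenerate) :
    ∀ (k : ℕ) (P : Submodule F V) (g : Module.End F V),
      Module.finrank F ↥(LinearMap.BilinForm.orthogonal (QuadraticMap.polarBilin Q) P) = k →
      P ⊓ LinearMap.BilinForm.orthogonal (QuadraticMap.polarBilin Q) P = ⊥ →
      (∀ x, Q (g x) = Q x) → (∀ p ∈ P, g p = p) →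
      ∃ vs : List V, (∀ v ∈ vs, Q v ≠ 0) ∧ g = (vs.map (refl Q)).prod := by
  have hrefl : (QuadraticMap.polarBilin Q).IsRefl := (polarBilin_isSymm Q).isRefl
  intro k
  induction k using Nat.strong_induction_on with
  | _ k ih =>
  intro P g hk hP hg hfix
  obtain ⟨U, hU⟩ : ∃ U, U = LinearMap.BilinForm.orthogonal (QuadraticMap.polarBilin Q) P :=
    ⟨_, rfl⟩
  rw [← hU] at hk hP
  have hmemU : ∀ x, x ∈ U ↔ ∀ p ∈ P, QuadraticMap.polar Q p x = 0 := by
    intro x; rw [hU]; exact LinearMap.BilinForm.mem_orthogonal_iff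
  by_cases hU0 : U = ⊥
  · have hPtop : P = ⊤ := by
      have h1 := LinearMap.BilinForm.orthogonal_orthogonal hQ hrefl P
      rw [← hU, hU0, LinearMap.BilinForm.orthogonal_bot] at h1
      exact h1.symm
    refine ⟨[], by simp, ?_⟩
    apply LinearMap.ext
    intro x
    rw [List.map_nil, List.prod_nil, Module.End.one_apply]
    exact hfix x (hPtop ▸ Submodule.mem_top)
  · have hUU : U ⊓ LinearMap.BilinForm.orthogonal (QuadraticMap.polarBilin Q) U = ⊥ := by
      rw [hU, LinearMap.BilinForm.orthogonal_orthogonal hQ hrefl P, ← hU, inf_comm]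
      exact hP
    obtain ⟨v, hvU, hv⟩ := exists_nonsingular_of_ne_bot Q U hUU hU0
    have hgvU : g v ∈ U := by
      rw [hmemU]
      intro p hp
      have h1 := polar_isometry Q g hg p v
      rw [hfix p hp] at h1
      rw [h1]
      exact (hmemU v).1 hvU p hp
    obtain ⟨ws, hws, hwsv⟩ := exists_refl_list_map Q h2 (hg v) hv U hgvU hvU
    obtain ⟨g', hg'def⟩ : ∃ g' : Module.End F V, g' = (ws.map (refl Q)).prod * g := ⟨_, rfl⟩
    have hg' : ∀ x, Q (g' x) = Q x := by
      intro x
      rw [hg'def, Module.End.mul_apply, isometry_prod_refl Q ws (fun w hw => (hws w hw).1), hg]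
    have hg'v : g' v = v := by rw [hg'def, Module.End.mul_apply]; exact hwsv
    have hwsfix : ∀ p ∈ P, (ws.map (refl Q)).prod p = p := fun p hp =>
      prod_refl_apply_of_orthogonal Q P ws (fun w hw => hU ▸ (hws w hw).2) p hp
    have hfix' : ∀ p ∈ P ⊔ Submodule.span F {v}, g' p = p := by
      intro p hp
      rw [Submodule.mem_sup] at hp
      obtain ⟨p₁, hp₁, p₂, hp₂, rfl⟩ := hp
      rw [Submodule.mem_span_singleton] at hp₂
      obtain ⟨c, rfl⟩ := hp₂
      rw [map_add, map_smul, hg'v, hg'def, Module.End.mul_apply, hfix p₁ hp₁, hwsfix p₁ hp₁]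
    have hvv : QuadraticMap.polar Q v v ≠ 0 := by
      rw [QuadraticMap.polar_self, nsmul_eq_mul, Nat.cast_ofNat]
      exact mul_ne_zero h2 hv
    have hP' : (P ⊔ Submodule.span F {v}) ⊓ LinearMap.BilinForm.orthogonal
        (QuadraticMap.polarBilin Q) (P ⊔ Submodule.span F {v}) = ⊥ := by
      rw [eq_bot_iff]
      intro x hx
      obtain ⟨hx1, hx2⟩ := Submodule.mem_inf.1 hx
      rw [LinearMap.BilinForm.mem_orthogonal_iff] at hx2
      rw [Submodule.mem_sup] at hx1
      obtain ⟨p, hp, y, hy, rfl⟩ := hx1
      obtain ⟨c, rfl⟩ := Submodule.mem_span_singleton.1 hy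
      have hpU : p ∈ U := by
        rw [hmemU]
        intro p' hp'
        have h1 : QuadraticMap.polar Q p' (p + c • v) = 0 := hx2 p' (le_sup_left (a := P) hp')
        have h3 : QuadraticMap.polar Q p' v = 0 := (hmemU v).1 hvU p' hp'
        rw [QuadraticMap.polar_add_right, QuadraticMap.polar_smul_right, h3, smul_zero,
          add_zero] at h1
        exact h1
      have hp0 : p = 0 := by
        have : p ∈ P ⊓ U := Submodule.mem_inf.2 ⟨hp, hpU⟩
        rw [hP] at this
        exact (Submodule.mem_bot F).1 this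
      subst hp0
      have h4 : QuadraticMap.polar Q v (0 + c • v) = 0 :=
        hx2 v (le_sup_right (a := P) (Submodule.mem_span_singleton_self v))
      rw [zero_add, QuadraticMap.polar_smul_right, smul_eq_mul] at h4
      rcases mul_eq_zero.1 h4 with h5 | h5
      · rw [h5, zero_smul, add_zero]
        exact Submodule.zero_mem _
      · exact absurd h5 hvv
    have hlt : Module.finrank F ↥(LinearMap.BilinForm.orthogonal (QuadraticMap.polarBilin Q)
        (P ⊔ Submodule.span F {v})) < k := by
      rw [← hk]
      apply Submodule.finrank_lt_finrank_of_lt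
      rw [lt_iff_le_and_ne]
      refine ⟨hU ▸ LinearMap.BilinForm.orthogonal_le le_sup_left, ?_⟩
      intro heq
      have h1 : v ∈ LinearMap.BilinForm.orthogonal (QuadraticMap.polarBilin Q)
          (P ⊔ Submodule.span F {v}) := heq ▸ hvU
      rw [LinearMap.BilinForm.mem_orthogonal_iff] at h1
      exact hvv (h1 v (le_sup_right (a := P) (Submodule.mem_span_singleton_self v)))
    obtain ⟨vs', hvs', hg'eq⟩ := ih _ hlt (P ⊔ Submodule.span F {v}) g' rfl hP' hg' hfix'
    refine ⟨ws.reverse ++ vs', ?_, ?_⟩
    · intro u hu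
      rw [List.mem_append, List.mem_reverse] at hu
      rcases hu with hu | hu
      · exact (hws u hu).1
      · exact hvs' u hu
    · have h1 : (ws.reverse.map (refl Q)).prod * (ws.map (refl Q)).prod = 1 := by
        have := prod_refl_mul_prod_reverse Q h2 ws.reverse
          (fun w hw => (hws w (List.mem_reverse.1 hw)).1)
        rwa [List.reverse_reverse] at this
      rw [List.map_append, List.prod_append, ← hg'eq, hg'def, ← mul_assoc, h1, one_mul]

/-- Weak Cartan–Dieudonné: every isometry is a product of reflections. -/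
theorem cartan_dieudonne [FiniteDimensional F V] (h2 : (2 : F) ≠ 0)
    (hQ : (QuadraticMap.polarBilin Q).Nondegenerate) (g : Module.End F V)
    (hg : ∀ x, Q (g x) = Q x) :
    ∃ vs : List V, (∀ v ∈ vs, Q v ≠ 0) ∧ g = (vs.map (refl Q)).prod := by
  refine cartan_dieudonne_aux Q h2 hQ _ ⊥ g rfl (bot_inf_eq _) hg ?_
  intro p hp
  rw [(Submodule.mem_bot F).1 hp, map_zero]

end Cfsg.Agent.Helper17.Spinor
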