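import Mathlib
import Cfsg.Agent.Lib.Helper17.SpinorReflections

/-!
# Maximal totally singular subspaces and reflections (helper17)

Characteristic-free.  `Q` a quadratic form with non-degenerate polar form on a finite-dimensional
space `V`; a subspace is *maximal totally singular* here if `Q` vanishes on it and it has half the
dimension of `V`.  For such `U`, `W` and a reflection (orthogonal transvection) `r_v`,
`dim (U ⊓ r_v W) = dim (U ⊓ W) ± 1` (`finrank_inf_map_refl`), hence for a product `g` of `k`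
reflections `dim (U ⊓ g U) + k ≡ dim U (mod 2)` (`finrank_inf_map_prod_refl_add_length`).
-/

set_option autoImplicit false

namespace Cfsg.Agent.Helper17.Spinor
open QuadraticMap Module

variable {F : Type*} [Field F] {V : Type*} [AddCommGroup V] [Module F V] (Q : QuadraticForm F V)

/-- `r_v (r_v w) = w`, in any characteristic -/
theorem refl_refl' {v : V} (hv : Q v ≠ 0) (w : V) : refl Q v (refl Q v w) = w := by
  rw [refl_apply, refl_apply, QuadraticMap.polar_sub_right, QuadraticMap.polar_smul_right,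
    QuadraticMap.polar_self]
  simp only [smul_eq_mul, nsmul_eq_mul, Nat.cast_ofNat]
  rw [sub_sub, ← add_smul]
  have : (Q v)⁻¹ * QuadraticMap.polar Q v w
      + (Q v)⁻¹ * (QuadraticMap.polar Q v w - (Q v)⁻¹ * QuadraticMap.polar Q v w * (2 * Q v)) = 0 := by
    field_simp
    ring
  rw [this, zero_smul, sub_zero]

theorem refl_injective {v : V} (hv : Q v ≠ 0) : Function.Injective (refl Q v) := by
  intro x y h
  rw [← refl_refl' Q hv x, h, refl_refl' Q hv]

theorem polar_refl_right {v : V} (hv : Q v ≠ 0) (w : V) :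
    polar Q v (refl Q v w) = -polar Q v w := by
  rw [refl_apply, polar_sub_right, polar_smul_right, polar_self]
  simp only [smul_eq_mul, nsmul_eq_mul, Nat.cast_ofNat]
  field_simp
  ring

/-- totally singular subspaces -/
def IsTS (W : Submodule F V) : Prop := ∀ w ∈ W, Q w = 0

theorem IsTS.polar_eq_zero {W : Submodule F V} (hW : IsTS Q W) {x y : V} (hx : x ∈ W)
    (hy : y ∈ W) : polar Q x y = 0 := by
  unfold polar
  rw [hW _ (W.add_mem hx hy), hW x hx, hW y hy]
  simp

theorem IsTS.map_refl {W : Submodule F V} (hW : IsTS Q W) {v : V} (hv : Q v ≠ 0) :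
    IsTS Q (W.map (refl Q v)) := by
  rintro x ⟨w, hw, rfl⟩
  rw [Q_refl Q hv]
  exact hW w hw

theorem finrank_map_refl [FiniteDimensional F V] (W : Submodule F V) {v : V} (hv : Q v ≠ 0) :
    finrank F ↥(W.map (refl Q v)) = finrank F ↥W :=
  (LinearEquiv.finrank_eq (Submodule.equivMapOfInjective _ (refl_injective Q hv) W)).symm

variable [FiniteDimensional F V]

theorem IsTS.mem_of_orth (hQ : (polarBilin Q).Nondegenerate) {W : Submodule F V} (hW : IsTS Q W)
    (hW2 : 2 * finrank F ↥W = finrank F V) {x : V} (hx : ∀ w ∈ W, polar Q w x = 0) : x ∈ W := by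
  have hle : W ≤ LinearMap.BilinForm.orthogonal (polarBilin Q) W := by
    intro y hy
    rw [LinearMap.BilinForm.mem_orthogonal_iff]
    intro w hw
    exact hW.polar_eq_zero Q hw hy
  have hfr := LinearMap.BilinForm.finrank_orthogonal hQ W
  have heq : W = LinearMap.BilinForm.orthogonal (polarBilin Q) W :=
    Submodule.eq_of_le_of_finrank_eq hle (by omega)
  rw [heq, LinearMap.BilinForm.mem_orthogonal_iff]
  intro w hw
  exact hx w hw

omit [FiniteDimensional F V] in
/-- the part of `W.map r_v` orthogonal to `v` is the part of `W` orthogonal to `v` -/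
theorem mem_map_refl_and_polar_eq_zero_iff (W : Submodule F V) {v : V} (hv : Q v ≠ 0) (x : V) :
    (x ∈ W.map (refl Q v) ∧ polar Q v x = 0) ↔ (x ∈ W ∧ polar Q v x = 0) := by
  constructor
  · rintro ⟨⟨w, hw, rfl⟩, h0⟩
    refine ⟨?_, h0⟩
    have h1 := refl_apply_of_polar_eq_zero Q v _ h0
    rw [refl_refl' Q hv] at h1
    rw [← h1]; exact hw
  · rintro ⟨hx, h0⟩
    exact ⟨⟨x, hx, refl_apply_of_polar_eq_zero Q v x h0⟩, h0⟩

omit [FiniteDimensional F V] in
/-- elements of `W ⊓ r_v W` are orthogonal to `v`, if `W` is totally singular -/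
theorem polar_eq_zero_of_mem_of_mem_map {W : Submodule F V} (hW : IsTS Q W) {v : V}
    (hv : Q v ≠ 0) {x : V} (hx : x ∈ W) (hx' : x ∈ W.map (refl Q v)) : polar Q v x = 0 := by
  obtain ⟨w, hw, hwx⟩ := hx'
  rw [refl_apply] at hwx
  by_contra hne
  have hpw : polar Q v w ≠ 0 := by
    intro h0
    rw [h0, mul_zero, zero_smul, sub_zero] at hwx
    rw [← hwx, h0] at hne
    exact hne rfl
  have hc : (Q v)⁻¹ * polar Q v w ≠ 0 := mul_ne_zero (inv_ne_zero hv) hpw
  have hvW : v ∈ W := by
    have h1 : ((Q v)⁻¹ * polar Q v w) • v = w - x := by rw [← hwx]; abel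
    have h2 : ((Q v)⁻¹ * polar Q v w) • v ∈ W := by rw [h1]; exact W.sub_mem hw hx
    exact (W.smul_mem_iff hc).1 h2
  exact hv (hW v hvW)

/-- a hyperplane section drops the dimension by one -/
theorem finrank_inf_ker_add_one (S : Submodule F V) (φ : V →ₗ[F] F) {x : V} (hx : x ∈ S)
    (hφ : φ x ≠ 0) : finrank F ↥(S ⊓ LinearMap.ker φ) + 1 = finrank F ↥S := by
  have hφ0 : φ ≠ 0 := by
    intro h
    rw [h] at hφ
    exact hφ rfl
  have h1 := Module.Dual.finrank_ker_add_one_of_ne_zero hφ0
  have h2 := Submodule.finrank_sup_add_finrank_inf_eq S (LinearMap.ker φ)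
  have h3 : S ⊔ LinearMap.ker φ = ⊤ := by
    apply Submodule.eq_top_of_finrank_eq
    have hlt : LinearMap.ker φ < S ⊔ LinearMap.ker φ := by
      apply lt_of_le_of_ne le_sup_right
      intro heq
      have : x ∈ LinearMap.ker φ := by
        rw [heq]; exact Submodule.mem_sup_left hx
      exact hφ (LinearMap.mem_ker.1 this)
    have h4 := Submodule.finrank_lt_finrank_of_lt hlt
    have h5 := Submodule.finrank_le (S ⊔ LinearMap.ker φ)
    omega
  rw [h3, finrank_top] at h2
  omega

omit [FiniteDimensional F V] in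
theorem inf_ker_eq_self (S : Submodule F V) (φ : V →ₗ[F] F) (h : ∀ x ∈ S, φ x = 0) :
    S ⊓ LinearMap.ker φ = S := by
  apply le_antisymm inf_le_left
  intro x hx
  exact ⟨hx, LinearMap.mem_ker.2 (h x hx)⟩

/-- not both `U ⊓ W` and `U ⊓ r_v W` stick out of `v^⊥` -/
theorem not_both {U W : Submodule F V} (hU : IsTS Q U) (hW : IsTS Q W) {v : V} (hv : Q v ≠ 0)
    {x x' : V} (hxU : x ∈ U) (hxW : x ∈ W) (hx : polar Q v x ≠ 0) (hxU' : x' ∈ U)
    (hxW' : x' ∈ W.map (refl Q v)) (hx' : polar Q v x' ≠ 0) : False := by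
  obtain ⟨w, hw, rfl⟩ := hxW'
  have h0 := hU.polar_eq_zero Q hxU hxU'
  rw [polar_refl_right Q hv] at hx'
  have hpw : polar Q v w ≠ 0 := fun h => hx' (by rw [h, neg_zero])
  rw [refl_apply, polar_sub_right, polar_smul_right, hW.polar_eq_zero Q hxW hw, zero_sub,
    smul_eq_mul, polar_comm Q x v] at h0
  have : (Q v)⁻¹ * polar Q v w * polar Q v x ≠ 0 :=
    mul_ne_zero (mul_ne_zero (inv_ne_zero hv) hpw) hx
  exact this (neg_eq_zero.1 h0)

/-- at least one of `U ⊓ W` and `U ⊓ r_v W` sticks out of `v^⊥` -/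
theorem one_of_both (hQ : (polarBilin Q).Nondegenerate) {U W : Submodule F V} (hU : IsTS Q U)
    (hU2 : 2 * finrank F ↥U = finrank F V) (hW : IsTS Q W)
    (hW2 : 2 * finrank F ↥W = finrank F V) {v : V} (hv : Q v ≠ 0)
    (h1 : ∀ x, x ∈ U → x ∈ W → polar Q v x = 0)
    (h2 : ∀ x, x ∈ U → x ∈ W.map (refl Q v) → polar Q v x = 0) : False := by
  have hrefl : (polarBilin Q).IsRefl := (polarBilin_isSymm Q).isRefl
  have hW' : IsTS Q (W.map (refl Q v)) := hW.map_refl Q hv
  have hW2' : 2 * finrank F ↥(W.map (refl Q v)) = finrank F V := by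
    rw [finrank_map_refl Q W hv]; exact hW2
  -- a vector `p ∈ W` not orthogonal to `v`
  obtain ⟨p, hpW, hp⟩ : ∃ p ∈ W, polar Q v p ≠ 0 := by
    by_contra hcon
    push Not at hcon
    have hvW : v ∈ W := hW.mem_of_orth Q hQ hW2 (fun w hw => by
      rw [polar_comm]; exact hcon w hw)
    exact hv (hW v hvW)
  obtain ⟨p', hp'def⟩ : ∃ p', p' = refl Q v p := ⟨_, rfl⟩
  have hp'W : p' ∈ W.map (refl Q v) := hp'def ▸ ⟨p, hpW, rfl⟩
  have hp' : polar Q v p' = -polar Q v p := by rw [hp'def, polar_refl_right Q hv]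
  have hQp : Q p = 0 := hW p hpW
  have hQp' : Q p' = 0 := hW' p' hp'W
  obtain ⟨κ, hκdef⟩ : ∃ κ, κ = polar Q p p' := ⟨_, rfl⟩
  have hκ : κ ≠ 0 := by
    rw [hκdef, hp'def, refl_apply, polar_sub_right, polar_smul_right, polar_self, hQp, smul_zero,
      zero_sub, smul_eq_mul, polar_comm Q p v]
    exact neg_ne_zero.2 (mul_ne_zero (mul_ne_zero (inv_ne_zero hv) hp) hp)
  -- the key claim: everything orthogonal to `U` and to `T = W ⊓ v^⊥` is orthogonal to `v`
  have claim : ∀ x : V, (∀ u ∈ U, polar Q u x = 0) →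
      (∀ t ∈ W, polar Q v t = 0 → polar Q t x = 0) → polar Q v x = 0 := by
    intro x hxU hxT
    have hxU' : x ∈ U := hU.mem_of_orth Q hQ hU2 hxU
    obtain ⟨α, hα⟩ : ∃ α, α = polar Q x p' / κ := ⟨_, rfl⟩
    obtain ⟨β, hβ⟩ : ∃ β, β = polar Q x p / κ := ⟨_, rfl⟩
    obtain ⟨x₀, hx₀⟩ : ∃ x₀, x₀ = x - α • p - β • p' := ⟨_, rfl⟩
    have hx₀p : polar Q x₀ p = 0 := by
      rw [hx₀, polar_sub_left, polar_sub_left, polar_smul_left, polar_smul_left, polar_self, hQp,
        polar_comm Q p' p, ← hκdef, hβ]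
      simp only [smul_eq_mul, smul_zero, mul_zero, sub_zero]
      field_simp
      ring
    have hx₀p' : polar Q x₀ p' = 0 := by
      rw [hx₀, polar_sub_left, polar_sub_left, polar_smul_left, polar_smul_left, polar_self, hQp',
        ← hκdef, hα]
      simp only [smul_eq_mul, smul_zero, mul_zero, sub_zero]
      field_simp
      ring
    -- `x₀` is orthogonal to `T`
    have hx₀T : ∀ t ∈ W, polar Q v t = 0 → polar Q t x₀ = 0 := by
      intro t ht ht0
      have htW' : t ∈ W.map (refl Q v) :=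
        ((mem_map_refl_and_polar_eq_zero_iff Q W hv t).2 ⟨ht, ht0⟩).1
      rw [hx₀, polar_sub_right, polar_sub_right, polar_smul_right, polar_smul_right,
        hxT t ht ht0, hW.polar_eq_zero Q ht hpW, hW'.polar_eq_zero Q htW' hp'W]
      simp
    -- hence `x₀ ∈ W`
    have hx₀W : x₀ ∈ W := by
      apply hW.mem_of_orth Q hQ hW2
      intro w hw
      have hdec : w = (w - (polar Q v w / polar Q v p) • p) + (polar Q v w / polar Q v p) • p := by
        abel
      have ht : w - (polar Q v w / polar Q v p) • p ∈ W :=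
        W.sub_mem hw (W.smul_mem _ hpW)
      have ht0 : polar Q v (w - (polar Q v w / polar Q v p) • p) = 0 := by
        rw [polar_sub_right, polar_smul_right, smul_eq_mul]
        field_simp
        ring
      rw [hdec, polar_add_left, hx₀T _ ht ht0, polar_smul_left, polar_comm Q p x₀, hx₀p]
      simp
    have hx₀W' : x₀ ∈ W.map (refl Q v) := by
      apply hW'.mem_of_orth Q hQ hW2'
      intro w hw
      have hp'ne : polar Q v p' ≠ 0 := by rw [hp']; exact neg_ne_zero.2 hp
      have hdec : w = (w - (polar Q v w / polar Q v p') • p')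
          + (polar Q v w / polar Q v p') • p' := by abel
      have ht : w - (polar Q v w / polar Q v p') • p' ∈ W.map (refl Q v) :=
        Submodule.sub_mem _ hw (Submodule.smul_mem _ _ hp'W)
      have ht0 : polar Q v (w - (polar Q v w / polar Q v p') • p') = 0 := by
        rw [polar_sub_right, polar_smul_right, smul_eq_mul]
        field_simp
        ring
      have htW : w - (polar Q v w / polar Q v p') • p' ∈ W :=
        ((mem_map_refl_and_polar_eq_zero_iff Q W hv _).1 ⟨ht, ht0⟩).1
      rw [hdec, polar_add_left, hx₀T _ htW ht0, polar_smul_left, polar_comm Q p' x₀, hx₀p']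
      simp
    have hx₀v : polar Q v x₀ = 0 := polar_eq_zero_of_mem_of_mem_map Q hW hv hx₀W hx₀W'
    -- `Q x = α β κ`
    have hxdec : x = x₀ + (α • p + β • p') := by rw [hx₀]; abel
    have hQx : Q x = α * β * κ := by
      rw [hxdec, Q_add Q, hW x₀ hx₀W, Q_add Q, QuadraticMap.map_smul, QuadraticMap.map_smul, hQp,
        hQp', polar_smul_left, polar_smul_right, ← hκdef, polar_add_right, polar_smul_right,
        polar_smul_right, hx₀p, hx₀p']
      simp only [smul_eq_mul, mul_zero, add_zero, zero_add]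
      ring
    rw [hU x hxU'] at hQx
    have hαβ : α = 0 ∨ β = 0 := by
      rcases mul_eq_zero.1 hQx.symm with h | h
      · exact mul_eq_zero.1 h
      · exact absurd h hκ
    rcases hαβ with h | h
    · apply h2 x hxU'
      rw [hxdec, h, zero_smul, zero_add]
      exact Submodule.add_mem _ hx₀W' (Submodule.smul_mem _ _ hp'W)
    · apply h1 x hxU'
      rw [hxdec, h, zero_smul, add_zero]
      exact W.add_mem hx₀W (W.smul_mem _ hpW)
  -- so `v ∈ U ⊔ T`
  obtain ⟨T, hT⟩ : ∃ T : Submodule F V, T = W ⊓ LinearMap.ker (polarBilin Q v) := ⟨_, rfl⟩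
  have hmemT : ∀ t, t ∈ T ↔ (t ∈ W ∧ polar Q v t = 0) := by
    intro t
    rw [hT, Submodule.mem_inf, LinearMap.mem_ker, polarBilin_apply_apply]
  have hvS : v ∈ U ⊔ T := by
    rw [← LinearMap.BilinForm.orthogonal_orthogonal hQ hrefl (U ⊔ T),
      LinearMap.BilinForm.mem_orthogonal_iff]
    intro n hn
    rw [LinearMap.BilinForm.mem_orthogonal_iff] at hn
    show polarBilin Q n v = 0
    rw [polarBilin_apply_apply, polar_comm]
    apply claim n
    · intro u hu
      exact hn u (Submodule.mem_sup_left hu)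
    · intro t ht ht0
      exact hn t (Submodule.mem_sup_right ((hmemT t).2 ⟨ht, ht0⟩))
  obtain ⟨u, hu, t, ht, hut⟩ := Submodule.mem_sup.1 hvS
  obtain ⟨htW, ht0⟩ := (hmemT t).1 ht
  apply hv
  have hu' : u = v - t := by rw [← hut]; abel
  have h3 : polar Q u t = 0 := by
    rw [hu', polar_sub_left, ht0, polar_self, hW t htW]
    simp
  rw [← hut, Q_add Q, hU u hu, hW t htW, h3]
  simp

/-- **Class switching**: a reflection changes the dimension of the intersection of two maximal
totally singular subspaces by exactly one. -/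
theorem finrank_inf_map_refl (hQ : (polarBilin Q).Nondegenerate) {U W : Submodule F V}
    (hU : IsTS Q U) (hU2 : 2 * finrank F ↥U = finrank F V) (hW : IsTS Q W)
    (hW2 : 2 * finrank F ↥W = finrank F V) {v : V} (hv : Q v ≠ 0) :
    finrank F ↥(U ⊓ W.map (refl Q v)) + 1 = finrank F ↥(U ⊓ W) ∨
      finrank F ↥(U ⊓ W.map (refl Q v)) = finrank F ↥(U ⊓ W) + 1 := by
  have hT : (U ⊓ W.map (refl Q v)) ⊓ LinearMap.ker (polarBilin Q v)
      = (U ⊓ W) ⊓ LinearMap.ker (polarBilin Q v) := by
    ext x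
    simp only [Submodule.mem_inf, LinearMap.mem_ker, polarBilin_apply_apply]
    have := mem_map_refl_and_polar_eq_zero_iff Q W hv x
    tauto
  by_cases hA : ∃ x, x ∈ U ∧ x ∈ W ∧ polar Q v x ≠ 0
  · obtain ⟨x, hxU, hxW, hx⟩ := hA
    left
    have hB : ∀ x', x' ∈ U ⊓ W.map (refl Q v) → (polarBilin Q v) x' = 0 := by
      intro x' hx'
      by_contra hne
      exact not_both Q hU hW hv hxU hxW hx hx'.1 hx'.2 hne
    have h1 := finrank_inf_ker_add_one (U ⊓ W) (polarBilin Q v) (x := x) ⟨hxU, hxW⟩ hx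
    have h2 := inf_ker_eq_self (U ⊓ W.map (refl Q v)) (polarBilin Q v) hB
    rw [← hT, h2] at h1
    exact h1
  · push Not at hA
    right
    obtain ⟨x', hxU', hxW', hx'⟩ : ∃ x', x' ∈ U ∧ x' ∈ W.map (refl Q v) ∧ polar Q v x' ≠ 0 := by
      by_contra hcon
      push Not at hcon
      exact one_of_both Q hQ hU hU2 hW hW2 hv hA hcon
    have h1 := finrank_inf_ker_add_one (U ⊓ W.map (refl Q v)) (polarBilin Q v) (x := x')
      ⟨hxU', hxW'⟩ hx'
    have h2 := inf_ker_eq_self (U ⊓ W) (polarBilin Q v) (fun x hx => hA x hx.1 hx.2)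
    rw [hT, h2] at h1
    exact h1.symm

/-- for a product `g` of `k` reflections and `U` maximal totally singular,
`dim (U ⊓ g U) + k ≡ dim U (mod 2)` -/
theorem finrank_inf_map_prod_refl_add_length (hQ : (polarBilin Q).Nondegenerate)
    {U : Submodule F V} (hU : IsTS Q U) (hU2 : 2 * finrank F ↥U = finrank F V) :
    ∀ (vs : List V), (∀ v ∈ vs, Q v ≠ 0) →
      (IsTS Q (U.map (vs.map (refl Q)).prod) ∧
        2 * finrank F ↥(U.map (vs.map (refl Q)).prod) = finrank F V) ∧
      (finrank F ↥(U ⊓ U.map (vs.map (refl Q)).prod) + vs.length) % 2 = finrank F ↥U % 2 := by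
  intro vs
  induction vs with
  | nil =>
    intro _
    have : U.map ((([] : List V).map (refl Q)).prod) = U := by
      rw [List.map_nil, List.prod_nil]
      exact Submodule.map_id U
    rw [this, inf_idem]
    exact ⟨⟨hU, hU2⟩, by simp⟩
  | cons v vs ih =>
    intro hvs
    have hv : Q v ≠ 0 := hvs v List.mem_cons_self
    obtain ⟨⟨hW, hW2⟩, hpar⟩ := ih (fun u hu => hvs u (List.mem_cons_of_mem _ hu))
    have hmap : U.map ((v :: vs).map (refl Q)).prod
        = (U.map (vs.map (refl Q)).prod).map (refl Q v) := by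
      rw [List.map_cons, List.prod_cons, Module.End.mul_eq_comp, Submodule.map_comp]
    rw [hmap]
    refine ⟨⟨hW.map_refl Q hv, by rw [finrank_map_refl Q _ hv]; exact hW2⟩, ?_⟩
    rw [List.length_cons]
    rcases finrank_inf_map_refl Q hQ hU hU2 hW hW2 hv with h | h
    · omega
    · omega

end Cfsg.Agent.Helper17.Spinor
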