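import Mathlib
import Cfsg.Agent.Lib.Helper17.OrthClass

/-!
# The rank parity of an isometry (helper17)

Characteristic-free.  For an isometry `g` of a quadratic form with non-degenerate polar form and a
reflection (orthogonal transvection) `r_v`, `rank (1 - r_v g) = rank (1 - g) ± 1`
(`finrank_range_one_sub_refl_mul`); hence a product `g` of `k` reflections has
`rank (1 - g) ≡ k (mod 2)` (`finrank_range_one_sub_prod_refl`).  In characteristic two this is the
well-definedness of the Dickson invariant.
-/

set_option autoImplicit false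

namespace Cfsg.Agent.Helper17.Spinor
open QuadraticMap Module

variable {F : Type*} [Field F] {V : Type*} [AddCommGroup V] [Module F V] (Q : QuadraticForm F V)

theorem polar_sub_apply_of_fix (g : Module.End F V) (hg : ∀ x, Q (g x) = Q x) {x : V}
    (hx : g x = x) (y : V) : polar Q x (y - g y) = 0 := by
  have h := polar_isometry Q g hg x y
  rw [hx] at h
  rw [polar_sub_right, h, sub_self]

theorem mem_ker_one_sub (g : Module.End F V) (x : V) :
    x ∈ LinearMap.ker (1 - g) ↔ g x = x := by
  rw [LinearMap.mem_ker, LinearMap.sub_apply, Module.End.one_apply, sub_eq_zero, eq_comm]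

theorem isometry_refl_mul (g : Module.End F V) (hg : ∀ x, Q (g x) = Q x) {v : V} (hv : Q v ≠ 0)
    (x : V) : Q ((refl Q v * g) x) = Q x := by
  rw [Module.End.mul_apply, Q_refl Q hv, hg]

variable [FiniteDimensional F V]

/-- `im (1 - g)` is the orthogonal complement of the fixed space of `g` -/
theorem range_one_sub_eq_orthogonal (hQ : (polarBilin Q).Nondegenerate) (g : Module.End F V)
    (hg : ∀ x, Q (g x) = Q x) :
    LinearMap.range (1 - g)
      = LinearMap.BilinForm.orthogonal (polarBilin Q) (LinearMap.ker (1 - g)) := by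
  apply Submodule.eq_of_le_of_finrank_eq
  · rintro y' ⟨y, rfl⟩
    rw [LinearMap.BilinForm.mem_orthogonal_iff]
    intro x hx
    rw [mem_ker_one_sub] at hx
    show polarBilin Q x ((1 - g) y) = 0
    rw [polarBilin_apply_apply, LinearMap.sub_apply, Module.End.one_apply]
    exact polar_sub_apply_of_fix Q g hg hx y
  · have h1 := LinearMap.finrank_range_add_finrank_ker (1 - g)
    have h2 := LinearMap.BilinForm.finrank_orthogonal hQ (LinearMap.ker (1 - g))
    omega

/-- if `v ∈ im (1 - g)` then `r_v g` fixes one more dimension -/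
theorem finrank_ker_one_sub_refl_mul (g : Module.End F V)
    (hg : ∀ x, Q (g x) = Q x) {v : V} (hv : Q v ≠ 0) (hvR : v ∈ LinearMap.range (1 - g)) :
    finrank F ↥(LinearMap.ker (1 - g)) + 1 = finrank F ↥(LinearMap.ker (1 - refl Q v * g)) := by
  obtain ⟨u, hu⟩ := hvR
  rw [LinearMap.sub_apply, Module.End.one_apply] at hu
  have hgu : g u = u - v := by rw [← hu]; abel
  have hv0 : v ≠ 0 := by
    rintro rfl
    exact hv (map_zero Q)
  -- `polar u v = Q v`
  have hpuv : polar Q v u = Q v := by
    have h1' : Q (u - v) = Q u := by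
      have := hg u; rw [hgu] at this; exact this
    have h3 := Q_sub_smul Q u v 1
    rw [one_smul, h1'] at h3
    rw [polar_comm]
    linear_combination h3
  -- `u` is fixed by `r_v g`
  have hu' : (refl Q v * g) u = u := by
    rw [Module.End.mul_apply, hgu, refl_apply, polar_sub_right, hpuv, polar_self]
    simp only [nsmul_eq_mul, Nat.cast_ofNat]
    have : (Q v)⁻¹ * (Q v - 2 * Q v) = -1 := by
      field_simp
      ring
    rw [this]
    simp
  have hu_not : g u ≠ u := by
    rw [hgu]
    intro h
    apply hv0
    have : u - (u - v) = u - u := by rw [h]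
    simpa using this
  -- the functional `x ↦ polar v (g x)`
  obtain ⟨φ, hφ⟩ : ∃ φ : V →ₗ[F] F, ∀ x, φ x = polar Q v (g x) :=
    ⟨(polarBilin Q v).comp g, fun x => rfl⟩
  have hker : LinearMap.ker (1 - refl Q v * g) ⊓ LinearMap.ker φ = LinearMap.ker (1 - g) := by
    ext x
    rw [Submodule.mem_inf, mem_ker_one_sub, mem_ker_one_sub, LinearMap.mem_ker, hφ]
    constructor
    · rintro ⟨h1, h2⟩
      rw [Module.End.mul_apply, refl_apply_of_polar_eq_zero Q v _ h2] at h1
      exact h1
    · intro h
      have h0 : polar Q v x = 0 := by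
        have := polar_sub_apply_of_fix Q g hg h u
        rw [hu, polar_comm] at this
        exact this
      refine ⟨?_, by rw [h]; exact h0⟩
      rw [Module.End.mul_apply, h, refl_apply_of_polar_eq_zero Q v _ h0]
  have hφu : φ u ≠ 0 := by
    intro h0
    apply hu_not
    have : u ∈ LinearMap.ker (1 - refl Q v * g) ⊓ LinearMap.ker φ :=
      ⟨(mem_ker_one_sub _ u).2 hu', LinearMap.mem_ker.2 h0⟩
    rw [hker, mem_ker_one_sub] at this
    exact this
  have h1 := finrank_inf_ker_add_one (LinearMap.ker (1 - refl Q v * g)) φ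
    ((mem_ker_one_sub _ u).2 hu') hφu
  rw [hker] at h1
  exact h1

/-- **Rank parity**: multiplying an isometry by a reflection changes `rank (1 - g)` by exactly
one. -/
theorem finrank_range_one_sub_refl_mul (hQ : (polarBilin Q).Nondegenerate) (g : Module.End F V)
    (hg : ∀ x, Q (g x) = Q x) {v : V} (hv : Q v ≠ 0) :
    finrank F ↥(LinearMap.range (1 - refl Q v * g)) + 1 = finrank F ↥(LinearMap.range (1 - g)) ∨
      finrank F ↥(LinearMap.range (1 - refl Q v * g)) = finrank F ↥(LinearMap.range (1 - g)) + 1 := by
  have hr1 := LinearMap.finrank_range_add_finrank_ker (1 - g)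
  have hr2 := LinearMap.finrank_range_add_finrank_ker (1 - refl Q v * g)
  by_cases hvR : v ∈ LinearMap.range (1 - g)
  · left
    have := finrank_ker_one_sub_refl_mul Q g hg hv hvR
    omega
  · right
    -- `v ∈ im (1 - r_v g)`
    have hex : ∃ x, g x = x ∧ polar Q v x ≠ 0 := by
      by_contra hcon
      push Not at hcon
      apply hvR
      rw [range_one_sub_eq_orthogonal Q hQ g hg, LinearMap.BilinForm.mem_orthogonal_iff]
      intro x hx
      rw [mem_ker_one_sub] at hx
      show polarBilin Q x v = 0
      rw [polarBilin_apply_apply, polar_comm]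
      exact hcon x hx
    obtain ⟨x, hx, hpx⟩ := hex
    have hvR' : v ∈ LinearMap.range (1 - refl Q v * g) := by
      have h1 : (1 - refl Q v * g) x = ((Q v)⁻¹ * polar Q v x) • v := by
        rw [LinearMap.sub_apply, Module.End.one_apply, Module.End.mul_apply, hx, refl_apply]
        abel
      have hc : (Q v)⁻¹ * polar Q v x ≠ 0 := mul_ne_zero (inv_ne_zero hv) hpx
      have h2 : ((Q v)⁻¹ * polar Q v x) • v ∈ LinearMap.range (1 - refl Q v * g) := ⟨x, h1⟩
      exact (Submodule.smul_mem_iff _ hc).1 h2
    have h3 := finrank_ker_one_sub_refl_mul Q (refl Q v * g) (isometry_refl_mul Q g hg hv) hv hvR'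
    have h4 : refl Q v * (refl Q v * g) = g := by
      apply LinearMap.ext
      intro y
      rw [Module.End.mul_apply, Module.End.mul_apply, refl_refl' Q hv]
    rw [h4] at h3
    omega

/-- a product of `k` reflections has `rank (1 - g) ≡ k (mod 2)` -/
theorem finrank_range_one_sub_prod_refl (hQ : (polarBilin Q).Nondegenerate) :
    ∀ (vs : List V), (∀ v ∈ vs, Q v ≠ 0) →
      finrank F ↥(LinearMap.range (1 - (vs.map (refl Q)).prod)) % 2 = vs.length % 2 := by
  intro vs
  induction vs with
  | nil =>
    intro _
    rw [List.map_nil, List.prod_nil, sub_self, LinearMap.range_zero, finrank_bot]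
    rfl
  | cons v vs ih =>
    intro hvs
    have hv : Q v ≠ 0 := hvs v List.mem_cons_self
    have hvs' : ∀ u ∈ vs, Q u ≠ 0 := fun u hu => hvs u (List.mem_cons_of_mem _ hu)
    have h1 := ih hvs'
    rw [List.map_cons, List.prod_cons, List.length_cons]
    rcases finrank_range_one_sub_refl_mul Q hQ _ (isometry_prod_refl Q vs hvs') hv with h | h
    · omega
    · omega

/-- a product of an odd number of reflections is not the identity -/
theorem even_length_of_prod_refl_eq_one (hQ : (polarBilin Q).Nondegenerate) (vs : List V)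
    (hvs : ∀ v ∈ vs, Q v ≠ 0) (h : (vs.map (refl Q)).prod = 1) : Even vs.length := by
  have h1 := finrank_range_one_sub_prod_refl Q hQ vs hvs
  rw [h, sub_self, LinearMap.range_zero, finrank_bot] at h1
  rw [Nat.even_iff]
  omega

end Cfsg.Agent.Helper17.Spinor
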