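import Mathlib
import Cfsg.Agent.Lib.Helper17.OrthRank

/-!
# Hyperbolic pairs and reflections (helper17)

Characteristic-free lemmas on singular vectors in a subspace `U` on which the polar form is
non-degenerate (`U ⊓ U^⊥ = ⊥`): existence of singular partners, and transitivity of the group
generated by the reflections in non-singular vectors of `U` on non-zero singular vectors of `U`.
-/

set_option autoImplicit false

namespace Cfsg.Agent.Helper17.Spinor
open QuadraticMap Module

variable {F : Type*} [Field F] {V : Type*} [AddCommGroup V] [Module F V] (Q : QuadraticForm F V)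

theorem Q_sub (x y : V) : Q (x - y) = Q x + Q y - polar Q x y := by
  have h := Q_sub_smul Q x y 1
  rw [one_smul] at h
  rw [h]; ring

/-- the reflection in `u - w` maps `u` to `w` when `Q u = Q w` -/
theorem refl_sub_apply_of_eq {u w : V} (huw : Q u = Q w) (h : Q (u - w) ≠ 0) :
    refl Q (u - w) u = w := by
  rw [refl_apply]
  have h1 : polar Q (u - w) u = Q (u - w) := by
    rw [polar_sub_left, polar_self, Q_sub, huw, polar_comm Q w u]
    simp only [nsmul_eq_mul, Nat.cast_ofNat]
    ring
  rw [h1, inv_mul_cancel₀ h, one_smul]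
  abel

theorem polar_self_of_singular {x : V} (hx : Q x = 0) : polar Q x x = 0 := by
  rw [polar_self, hx, smul_zero]

/-- for singular `u`, `w`: `Q (u - w) = - polar u w` -/
theorem Q_sub_of_singular {u w : V} (hu : Q u = 0) (hw : Q w = 0) :
    Q (u - w) = -polar Q u w := by
  rw [Q_sub, hu, hw]; ring

/-- replace `x` by a singular vector with the same products with everything orthogonal to `v` -/
theorem Q_singularize {v x : V} (hv : Q v = 0) (hvx : polar Q v x = 1) :
    Q (x - Q x • v) = 0 := by
  rw [Q_sub_smul, hv, polar_comm Q x v, hvx]; ring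

theorem mem_orthogonal_iff' (U : Submodule F V) (x : V) :
    x ∈ LinearMap.BilinForm.orthogonal (polarBilin Q) U ↔ ∀ u ∈ U, polar Q u x = 0 := by
  rw [LinearMap.BilinForm.mem_orthogonal_iff]
  rfl

/-- in a non-degenerate subspace every non-zero vector has a partner -/
theorem exists_polar_eq_one (U : Submodule F V)
    (hU : U ⊓ LinearMap.BilinForm.orthogonal (polarBilin Q) U = ⊥) {u : V} (hu : u ∈ U)
    (hu0 : u ≠ 0) : ∃ x ∈ U, polar Q u x = 1 := by
  have : ∃ x ∈ U, polar Q u x ≠ 0 := by
    by_contra hcon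
    push Not at hcon
    apply hu0
    have hmem : u ∈ U ⊓ LinearMap.BilinForm.orthogonal (polarBilin Q) U := by
      refine ⟨hu, ?_⟩
      rw [SetLike.mem_coe, mem_orthogonal_iff']
      intro x hx
      rw [polar_comm]
      exact hcon x hx
    rw [hU] at hmem
    exact (Submodule.mem_bot F).1 hmem
  obtain ⟨x, hx, hne⟩ := this
  refine ⟨(polar Q u x)⁻¹ • x, U.smul_mem _ hx, ?_⟩
  rw [polar_smul_right, smul_eq_mul, inv_mul_cancel₀ hne]

/-- a singular partner of a non-zero singular vector, orthogonal to a given hyperbolic pair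
orthogonal to it -/
theorem exists_partner_orth (U : Submodule F V)
    (hU : U ⊓ LinearMap.BilinForm.orthogonal (polarBilin Q) U = ⊥) {u e f : V} (hu : u ∈ U)
    (hu0 : u ≠ 0) (hQu : Q u = 0) (he : e ∈ U) (hf : f ∈ U) (hQe : Q e = 0) (hQf : Q f = 0)
    (hef : polar Q e f = 1) (hue : polar Q u e = 0) (huf : polar Q u f = 0) :
    ∃ u' ∈ U, Q u' = 0 ∧ polar Q u u' = 1 ∧ polar Q e u' = 0 ∧ polar Q f u' = 0 := by
  obtain ⟨x, hx, hux⟩ := exists_polar_eq_one Q U hU hu hu0
  obtain ⟨x₁, hx₁⟩ : ∃ x₁, x₁ = x - polar Q f x • e - polar Q e x • f := ⟨_, rfl⟩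
  have hx₁U : x₁ ∈ U := by
    rw [hx₁]
    exact U.sub_mem (U.sub_mem hx (U.smul_mem _ he)) (U.smul_mem _ hf)
  have h1 : polar Q e x₁ = 0 := by
    rw [hx₁, polar_sub_right, polar_sub_right, polar_smul_right, polar_smul_right,
      polar_self_of_singular Q hQe, hef]
    simp
  have h2 : polar Q f x₁ = 0 := by
    rw [hx₁, polar_sub_right, polar_sub_right, polar_smul_right, polar_smul_right,
      polar_self_of_singular Q hQf, polar_comm Q f e, hef]
    simp
  have h3 : polar Q u x₁ = 1 := by
    rw [hx₁, polar_sub_right, polar_sub_right, polar_smul_right, polar_smul_right, hue, huf, hux]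
    simp
  refine ⟨x₁ - Q x₁ • u, U.sub_mem hx₁U (U.smul_mem _ hu), Q_singularize Q hQu h3, ?_, ?_, ?_⟩
  · rw [polar_sub_right, polar_smul_right, polar_self_of_singular Q hQu, h3]; simp
  · rw [polar_sub_right, polar_smul_right, h1, polar_comm Q e u, hue]; simp
  · rw [polar_sub_right, polar_smul_right, h2, polar_comm Q f u, huf]; simp

/-- a singular partner of a non-zero singular vector -/
theorem exists_partner (U : Submodule F V)
    (hU : U ⊓ LinearMap.BilinForm.orthogonal (polarBilin Q) U = ⊥) {u : V} (hu : u ∈ U)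
    (hu0 : u ≠ 0) (hQu : Q u = 0) : ∃ u' ∈ U, Q u' = 0 ∧ polar Q u u' = 1 := by
  obtain ⟨x, hx, hux⟩ := exists_polar_eq_one Q U hU hu hu0
  refine ⟨x - Q x • u, U.sub_mem hx (U.smul_mem _ hu), Q_singularize Q hQu hux, ?_⟩
  rw [polar_sub_right, polar_smul_right, polar_self_of_singular Q hQu, hux]; simp

/-- **Transitivity on singular vectors**: two non-zero singular vectors of a non-degenerate
subspace `U` are mapped to each other by a product of at most two reflections in non-singular
vectors of `U`. -/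
theorem exists_refl_list_map_singular (U : Submodule F V)
    (hU : U ⊓ LinearMap.BilinForm.orthogonal (polarBilin Q) U = ⊥) {u v : V} (hu : u ∈ U)
    (hv : v ∈ U) (hu0 : u ≠ 0) (hv0 : v ≠ 0) (hQu : Q u = 0) (hQv : Q v = 0) :
    ∃ ws : List V, (∀ w ∈ ws, Q w ≠ 0 ∧ w ∈ U) ∧ (ws.map (refl Q)).prod u = v := by
  by_cases huv : u = v
  · exact ⟨[], by simp, by simp [huv]⟩
  by_cases hp : polar Q u v ≠ 0
  · have hQ : Q (u - v) ≠ 0 := by
      rw [Q_sub_of_singular Q hQu hQv]; exact neg_ne_zero.2 hp
    refine ⟨[u - v], ?_, ?_⟩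
    · intro w hw
      rw [List.mem_singleton] at hw
      subst hw
      exact ⟨hQ, U.sub_mem hu hv⟩
    · rw [List.map_cons, List.map_nil, List.prod_cons, List.prod_nil, mul_one]
      exact refl_sub_apply_of_eq Q (hQu.trans hQv.symm) hQ
  · push Not at hp
    -- a singular `w ∈ U` with `polar u w ≠ 0 ≠ polar v w`
    have hw : ∃ w ∈ U, Q w = 0 ∧ polar Q u w ≠ 0 ∧ polar Q w v ≠ 0 := by
      obtain ⟨u', hu', hQu', huu'⟩ := exists_partner Q U hU hu hu0 hQu
      by_cases h1 : polar Q u' v ≠ 0
      · exact ⟨u', hu', hQu', by rw [huu']; exact one_ne_zero, h1⟩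
      · push Not at h1
        obtain ⟨v', hv', hQv', hvv', huv', hu'v'⟩ := exists_partner_orth Q U hU hv hv0 hQv hu hu'
          hQu hQu' huu' (by rw [polar_comm]; exact hp) (by rw [polar_comm]; exact h1)
        refine ⟨u' + v', U.add_mem hu' hv', ?_, ?_, ?_⟩
        · rw [Q_add Q, hQu', hQv', hu'v']; ring
        · rw [polar_add_right, huu', huv']; simp
        · rw [polar_add_left, h1, polar_comm Q v' v, hvv']; simp
    obtain ⟨w, hwU, hQw, huw, hwv⟩ := hw
    have hQ1 : Q (u - w) ≠ 0 := by
      rw [Q_sub_of_singular Q hQu hQw]; exact neg_ne_zero.2 huw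
    have hQ2 : Q (w - v) ≠ 0 := by
      rw [Q_sub_of_singular Q hQw hQv]; exact neg_ne_zero.2 hwv
    refine ⟨[w - v, u - w], ?_, ?_⟩
    · intro x hx
      simp only [List.mem_cons, List.not_mem_nil, or_false] at hx
      rcases hx with rfl | rfl
      · exact ⟨hQ2, U.sub_mem hwU hv⟩
      · exact ⟨hQ1, U.sub_mem hu hwU⟩
    · rw [List.map_cons, List.map_cons, List.map_nil, List.prod_cons, List.prod_cons,
        List.prod_nil, mul_one, Module.End.mul_apply,
        refl_sub_apply_of_eq Q (hQu.trans hQw.symm) hQ1,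
        refl_sub_apply_of_eq Q (hQw.trans hQv.symm) hQ2]

end Cfsg.Agent.Helper17.Spinor
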