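import Mathlib
import Cfsg.Agent.Lib.Helper17.OrthPairs

/-!
# Cartan–Dieudonné in characteristic two over finite fields (helper17)

`cartan_dieudonne_char_two`: over a finite field of characteristic two, every isometry of a
quadratic form with non-degenerate polar form is a product of orthogonal transvections
`refl Q v`, unless the field has two elements and the dimension is four.
-/

set_option autoImplicit false

namespace Cfsg.Agent.Helper17.Spinor
open QuadraticMap Module

variable {F : Type*} [Field F] {V : Type*} [AddCommGroup V] [Module F V] (Q : QuadraticForm F V)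

/-! ### Products of two transvections -/

theorem refl_add_refl {e c : V} (hQe : Q e = 0) (hQc : Q c = 1) (hec : polar Q e c = 0) (x : V) :
    refl Q (e + c) (refl Q c x) = x - polar Q e x • c - (polar Q e x - polar Q c x) • e := by
  have h1 : Q (e + c) = 1 := by rw [Q_add Q, hQe, hQc, hec]; ring
  rw [refl_apply Q c x, hQc, refl_apply, h1, polar_add_left, polar_sub_right, polar_sub_right,
    polar_smul_right, polar_smul_right, hec, polar_self, hQc]
  simp only [inv_one, one_mul, smul_eq_mul, mul_zero, sub_zero, nsmul_eq_mul, Nat.cast_ofNat,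
    mul_one]
  module

/-- the Siegel transformation attached to the singular vectors `e`, `d` as a product of four
transvections, characteristic-free form -/
theorem siegel_apply_aux {e d c : V} (hQe : Q e = 0) (hQd : Q d = 0) (hQc : Q c = 1)
    (hec : polar Q e c = 0) (hed : polar Q e d = 0) (hdc : polar Q d c = 0) (x : V) :
    refl Q (e + c) (refl Q c (refl Q (e + (c + d)) (refl Q (c + d) x)))
      = x - polar Q e x • d + polar Q d x • e - (2 * polar Q e x) • c
        - (4 * polar Q e x - 2 * polar Q c x) • e := by
  have hQc' : Q (c + d) = 1 := by rw [Q_add Q, hQc, hQd, polar_comm Q c d, hdc]; ring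
  have hec' : polar Q e (c + d) = 0 := by rw [polar_add_right, hec, hed]; ring
  rw [refl_add_refl Q hQe hQc' hec' x, refl_add_refl Q hQe hQc hec]
  simp only [polar_sub_right, polar_smul_right, polar_add_right, polar_add_left,
    polar_self_of_singular Q hQe, hec, hed, polar_comm Q c e, polar_comm Q c d, hdc,
    polar_self, hQc, smul_eq_mul, mul_zero, sub_zero, add_zero, nsmul_eq_mul, Nat.cast_ofNat,
    mul_one]
  module

section CharTwo

variable [CharP F 2]

theorem polar_self_char_two (x : V) : polar Q x x = 0 := by
  rw [polar_self, nsmul_eq_mul, Nat.cast_ofNat, CharTwo.two_eq_zero, zero_mul]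

omit Q in
theorem two_smul_char_two (x : V) : (2 : F) • x = 0 := by
  rw [CharTwo.two_eq_zero, zero_smul]

/-- the Siegel transformation as a product of four transvections -/
theorem siegel_apply {e d c : V} (hQe : Q e = 0) (hQd : Q d = 0) (hQc : Q c = 1)
    (hec : polar Q e c = 0) (hed : polar Q e d = 0) (hdc : polar Q d c = 0) (x : V) :
    ([e + c, c, e + (c + d), c + d].map (refl Q)).prod x
      = x + polar Q e x • d + polar Q d x • e := by
  simp only [List.map_cons, List.map_nil, List.prod_cons, List.prod_nil, mul_one,
    Module.End.mul_apply]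
  rw [siegel_apply_aux Q hQe hQd hQc hec hed hdc x]
  have h2 : (2 : F) = 0 := CharTwo.two_eq_zero
  have h4 : (4 : F) = 0 := by
    have : (4 : F) = 2 * 2 := by norm_num
    rw [this, h2, zero_mul]
  rw [h2, h4]
  simp only [zero_mul, zero_smul, sub_zero, sub_self]
  have : x - polar Q e x • d = x + polar Q e x • d := by
    rw [sub_eq_add_neg, ← neg_smul, CharTwo.neg_eq]
  rw [this]

end CharTwo

/-! ### Dimension lemmas -/

section Dim

variable [FiniteDimensional F V]

theorem finrank_le_finrank_inf_ker_add_one (S : Submodule F V) (φ : V →ₗ[F] F) :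
    finrank F ↥S ≤ finrank F ↥(S ⊓ LinearMap.ker φ) + 1 := by
  by_cases h : ∃ x ∈ S, φ x ≠ 0
  · obtain ⟨x, hx, hφ⟩ := h
    rw [finrank_inf_ker_add_one S φ hx hφ]
  · push Not at h
    rw [inf_ker_eq_self S φ h]
    omega

/-- in dimension other than four, the orthogonal complement of two orthogonal singular vectors
belonging to two orthogonal hyperbolic pairs contains a non-singular vector -/
theorem exists_nonsingular_orth (hQ : (polarBilin Q).Nondegenerate) (hn : finrank F V ≠ 4)
    {e f d d' : V} (hQe : Q e = 0) (hQd : Q d = 0) (hef : polar Q e f = 1)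
    (hdd' : polar Q d d' = 1) (hed : polar Q e d = 0) (hfd : polar Q f d = 0)
    (hed' : polar Q e d' = 0) :
    ∃ c, Q c ≠ 0 ∧ polar Q e c = 0 ∧ polar Q d c = 0 := by
  by_contra hcon
  push Not at hcon
  obtain ⟨K, hK⟩ : ∃ K : Submodule F V,
      K = (⊤ ⊓ LinearMap.ker (polarBilin Q e)) ⊓ LinearMap.ker (polarBilin Q d) := ⟨_, rfl⟩
  have hmemK : ∀ x, x ∈ K ↔ (polar Q e x = 0 ∧ polar Q d x = 0) := by
    intro x
    rw [hK]
    simp only [Submodule.mem_inf, Submodule.mem_top, true_and, LinearMap.mem_ker,
      polarBilin_apply_apply]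
  have hKts : ∀ x ∈ K, Q x = 0 := by
    intro x hx
    by_contra hne
    exact hcon x hne ((hmemK x).1 hx).1 ((hmemK x).1 hx).2
  have hKle : K ≤ LinearMap.BilinForm.orthogonal (polarBilin Q) K := by
    intro y hy
    rw [mem_orthogonal_iff']
    intro x hx
    unfold polar
    rw [hKts _ (K.add_mem hx hy), hKts x hx, hKts y hy]
    simp
  have h1 := Submodule.finrank_mono hKle
  rw [LinearMap.BilinForm.finrank_orthogonal hQ K] at h1
  have h2 : finrank F V ≤ finrank F ↥K + 2 := by
    have ha := finrank_le_finrank_inf_ker_add_one (⊤ : Submodule F V) (polarBilin Q e)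
    have hb := finrank_le_finrank_inf_ker_add_one (⊤ ⊓ LinearMap.ker (polarBilin Q e))
      (polarBilin Q d)
    rw [← hK] at hb
    rw [finrank_top] at ha
    omega
  have h3 : 2 ≤ finrank F ↥K := by
    have heK : e ∈ K := (hmemK e).2 ⟨polar_self_of_singular Q hQe, by rw [polar_comm]; exact hed⟩
    have hdK : d ∈ K := (hmemK d).2 ⟨hed, polar_self_of_singular Q hQd⟩
    have he0 : e ≠ 0 := by
      rintro rfl
      rw [polar_zero_left] at hef
      exact zero_ne_one hef
    have hlt1 : (⊥ : Submodule F V) < Submodule.span F {e} := by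
      rw [bot_lt_iff_ne_bot]
      intro h
      apply he0
      have : e ∈ Submodule.span F {e} := Submodule.mem_span_singleton_self e
      rw [h] at this
      exact (Submodule.mem_bot F).1 this
    have hlt2 : Submodule.span F {e} < K := by
      rw [lt_iff_le_and_ne]
      refine ⟨(Submodule.span_singleton_le_iff_mem e K).2 heK, ?_⟩
      intro h
      have : d ∈ Submodule.span F {e} := h ▸ hdK
      obtain ⟨s, rfl⟩ := Submodule.mem_span_singleton.1 this
      rw [polar_smul_left, hed', smul_zero] at hdd'
      exact zero_ne_one hdd'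
    have h4 := Submodule.finrank_lt_finrank_of_lt hlt1
    have h5 := Submodule.finrank_lt_finrank_of_lt hlt2
    rw [finrank_bot] at h4
    omega
  have h6 := Submodule.finrank_le K
  omega

end Dim

end Cfsg.Agent.Helper17.Spinor
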