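import Mathlib
import Cfsg.Agent.Lib.Helper17.OrthCD2

/-!
# Cartan–Dieudonné in characteristic two over finite fields: the induction (helper17)
-/

set_option autoImplicit false

namespace Cfsg.Agent.Helper17.Spinor
open QuadraticMap Module

variable {F : Type*} [Field F] {V : Type*} [AddCommGroup V] [Module F V] (Q : QuadraticForm F V)

/-- char-free: the reversed list gives the inverse product -/
theorem prod_refl_mul_prod_reverse' (vs : List V) (hvs : ∀ v ∈ vs, Q v ≠ 0) :
    (vs.map (refl Q)).prod * (vs.reverse.map (refl Q)).prod = 1 := by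
  induction vs with
  | nil => simp
  | cons v vs ih =>
    have hv : refl Q v * refl Q v = 1 := by
      apply LinearMap.ext
      intro w
      rw [Module.End.mul_apply, refl_refl' Q (hvs v List.mem_cons_self), Module.End.one_apply]
    rw [List.reverse_cons, List.map_append, List.prod_append, List.map_cons, List.prod_cons,
      List.map_cons, List.map_nil, List.prod_cons, List.prod_nil, mul_one]
    calc refl Q v * (vs.map (refl Q)).prod * ((vs.reverse.map (refl Q)).prod * refl Q v)
        = refl Q v * ((vs.map (refl Q)).prod * (vs.reverse.map (refl Q)).prod) * refl Q v := by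
          simp only [mul_assoc]
      _ = 1 := by
          rw [ih (fun u hu => hvs u (List.mem_cons_of_mem _ hu)), mul_one, hv]

theorem prod_refl_apply_of_orth (U : Submodule F V) (ws : List V) (hws : ∀ w ∈ ws, w ∈ U)
    (p : V) (hp : ∀ u ∈ U, polar Q u p = 0) : (ws.map (refl Q)).prod p = p :=
  prod_refl_apply_of_polar_eq_zero' Q ws p (fun w hw => hp w (hws w hw))
where
  prod_refl_apply_of_polar_eq_zero' (Q : QuadraticForm F V) (ws : List V) (x : V)
      (h : ∀ w ∈ ws, polar Q w x = 0) : (ws.map (refl Q)).prod x = x := by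
    induction ws with
    | nil => simp
    | cons w ws ih =>
      rw [List.map_cons, List.prod_cons, Module.End.mul_apply,
        ih (fun u hu => h u (List.mem_cons_of_mem _ hu)),
        refl_apply_of_polar_eq_zero Q _ _ (h w List.mem_cons_self)]

section CharTwo

variable [Fintype F] [CharP F 2] [FiniteDimensional F V]

omit [FiniteDimensional F V] in
theorem exists_ne_zero_ne_one (h : Fintype.card F ≠ 2) : ∃ α : F, α ≠ 0 ∧ α ≠ 1 := by
  classical
  by_contra hcon
  push Not at hcon
  have hsub : (Finset.univ : Finset F) ⊆ {0, 1} := by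
    intro x _
    by_cases hx : x = 0
    · simp [hx]
    · simp [hcon x hx]
  have h1 := Finset.card_le_card hsub
  have h2 : ({0, 1} : Finset F).card = 2 := Finset.card_pair zero_ne_one
  rw [Finset.card_univ, h2] at h1
  have h3 : 1 < Fintype.card F := Fintype.one_lt_card
  omega

omit [FiniteDimensional F V] in
/-- scale a non-singular vector to norm one (perfect field) -/
theorem exists_smul_norm_one {c : V} (hc : Q c ≠ 0) : ∃ s : F, s ≠ 0 ∧ Q (s • c) = 1 := by
  have hchar : ringChar F = 2 := ringChar.eq F 2
  obtain ⟨t, ht⟩ := FiniteField.isSquare_of_char_two hchar (Q c)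
  have ht0 : t ≠ 0 := by
    rintro rfl
    rw [mul_zero] at ht
    exact hc ht
  refine ⟨t⁻¹, inv_ne_zero ht0, ?_⟩
  rw [QuadraticMap.map_smul, ht, smul_eq_mul]
  field_simp

/-- **Second step**: fixing `e`, move `f'` to `f` (all singular, `polar e f = polar e f' = 1`) -/
theorem exists_fix_second (hQ : (polarBilin Q).Nondegenerate)
    (hex : Fintype.card F ≠ 2 ∨ finrank F V ≠ 4) (U : Submodule F V)
    (hU : U ⊓ LinearMap.BilinForm.orthogonal (polarBilin Q) U = ⊥) {e f f' : V} (he : e ∈ U)
    (hf : f ∈ U) (hf' : f' ∈ U) (hQe : Q e = 0) (hQf : Q f = 0) (hQf' : Q f' = 0)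
    (hef : polar Q e f = 1) (hef' : polar Q e f' = 1) :
    ∃ ws : List V, (∀ w ∈ ws, Q w ≠ 0) ∧
      (∀ p, (∀ u ∈ U, polar Q u p = 0) → (ws.map (refl Q)).prod p = p) ∧
      (ws.map (refl Q)).prod e = e ∧ (ws.map (refl Q)).prod f' = f := by
  by_cases hff : f' = f
  · exact ⟨[], by simp, by simp, by simp, by simp [hff]⟩
  by_cases hp : polar Q f' f ≠ 0
  · have hQd : Q (f' - f) ≠ 0 := by
      rw [Q_sub_of_singular Q hQf' hQf]; exact neg_ne_zero.2 hp
    refine ⟨[f' - f], ?_, ?_, ?_, ?_⟩
    · intro w hw
      rw [List.mem_singleton] at hw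
      rw [hw]; exact hQd
    · intro p hp'
      exact prod_refl_apply_of_orth Q U [f' - f] (by
        intro w hw
        rw [List.mem_singleton] at hw
        rw [hw]; exact U.sub_mem hf' hf) p hp'
    · rw [List.map_cons, List.map_nil, List.prod_cons, List.prod_nil, mul_one]
      apply refl_apply_of_polar_eq_zero
      rw [polar_sub_left, polar_comm Q f' e, polar_comm Q f e, hef, hef', sub_self]
    · rw [List.map_cons, List.map_nil, List.prod_cons, List.prod_nil, mul_one]
      exact refl_sub_apply_of_eq Q (hQf'.trans hQf.symm) hQd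
  push Not at hp
  -- the singular vector `d = f' - f`, orthogonal to `e` and `f`
  obtain ⟨d, hd⟩ : ∃ d, d = f' - f := ⟨_, rfl⟩
  have hdU : d ∈ U := hd ▸ U.sub_mem hf' hf
  have hd0 : d ≠ 0 := by
    rw [hd]; exact sub_ne_zero.2 hff
  have hQd : Q d = 0 := by
    rw [hd, Q_sub_of_singular Q hQf' hQf, hp, neg_zero]
  have hde : polar Q d e = 0 := by
    rw [hd, polar_sub_left, polar_comm Q f' e, polar_comm Q f e, hef, hef', sub_self]
  have hdf : polar Q d f = 0 := by
    rw [hd, polar_sub_left, hp, polar_self_of_singular Q hQf, sub_self]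
  have hdf' : polar Q d f' = 0 := by
    rw [hd, polar_sub_left, polar_self_of_singular Q hQf', polar_comm Q f f', hp, sub_self]
  have hf'eq : f' = f + d := by rw [hd]; abel
  obtain ⟨d', hd'U, hQd', hdd', hed', hfd'⟩ :=
    exists_partner_orth Q U hU hdU hd0 hQd he hf hQe hQf hef hde hdf
  by_cases hc2 : Fintype.card F = 2
  · -- Siegel transformation
    have hn : finrank F V ≠ 4 := by
      rcases hex with h | h
      · exact absurd hc2 h
      · exact h
    obtain ⟨c₀, hc₀, hec₀, hdc₀⟩ := exists_nonsingular_orth Q hQ hn hQe hQd hef hdd'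
      (by rw [polar_comm]; exact hde) (by rw [polar_comm]; exact hdf) hed'
    obtain ⟨s, hs, hQc⟩ := exists_smul_norm_one Q hc₀
    obtain ⟨c, hcdef⟩ : ∃ c, c = s • c₀ := ⟨_, rfl⟩
    rw [← hcdef] at hQc
    have hec : polar Q e c = 0 := by rw [hcdef, polar_smul_right, hec₀, smul_zero]
    have hdc : polar Q d c = 0 := by rw [hcdef, polar_smul_right, hdc₀, smul_zero]
    have hed : polar Q e d = 0 := by rw [polar_comm]; exact hde
    have hform := siegel_apply Q hQe hQd hQc hec hed hdc
    refine ⟨[e + c, c, e + (c + d), c + d], ?_, ?_, ?_, ?_⟩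
    · intro w hw
      have hQc' : Q (c + d) = 1 := by rw [Q_add Q, hQc, hQd, polar_comm Q c d, hdc]; ring
      simp only [List.mem_cons, List.not_mem_nil, or_false] at hw
      rcases hw with rfl | rfl | rfl | rfl
      · rw [Q_add Q, hQe, hQc, hec]; simp
      · rw [hQc]; exact one_ne_zero
      · rw [Q_add Q, hQe, hQc', polar_add_right, hec, hed]; simp
      · rw [hQc']; exact one_ne_zero
    · intro p hp'
      rw [hform, hp' e he, hp' d hdU]
      simp
    · rw [hform, polar_self_of_singular Q hQe, hde]
      simp
    · rw [hform, hef', hdf', hf'eq]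
      have h2 := two_smul_char_two (F := F) d
      rw [two_smul] at h2
      rw [one_smul, zero_smul, add_zero, add_assoc, h2, add_zero]
  · -- more than two elements
    obtain ⟨α, hα0, hα1⟩ := exists_ne_zero_ne_one hc2
    obtain ⟨z, hz⟩ : ∃ z, z = α • d + d' := ⟨_, rfl⟩
    have hzU : z ∈ U := hz ▸ U.add_mem (U.smul_mem _ hdU) hd'U
    have hQz : Q z = α := by
      rw [hz, Q_add Q, QuadraticMap.map_smul, hQd, hQd', polar_smul_left, hdd']
      simp
    have hez : polar Q e z = 0 := by
      rw [hz, polar_add_right, polar_smul_right, polar_comm Q e d, hde, hed']; simp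
    have hfz : polar Q f z = 0 := by
      rw [hz, polar_add_right, polar_smul_right, polar_comm Q f d, hdf, hfd']; simp
    have hdz : polar Q d z = 1 := by
      rw [hz, polar_add_right, polar_smul_right, polar_self_of_singular Q hQd, hdd']; simp
    obtain ⟨f'', hf''⟩ : ∃ f'', f'' = (-α) • e + f + z := ⟨_, rfl⟩
    have hf''U : f'' ∈ U := hf'' ▸ U.add_mem (U.add_mem (U.smul_mem _ he) hf) hzU
    have hQf'' : Q f'' = 0 := by
      rw [hf'', Q_add Q, Q_add Q, QuadraticMap.map_smul, hQe, hQf, hQz, polar_smul_left, hef,
        polar_add_left, polar_smul_left, hez, hfz]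
      simp
    have hef'' : polar Q e f'' = 1 := by
      rw [hf'', polar_add_right, polar_add_right, polar_smul_right,
        polar_self_of_singular Q hQe, hef, hez]
      simp
    have hf''f : polar Q f'' f = -α := by
      rw [hf'', polar_add_left, polar_add_left, polar_smul_left, hef,
        polar_self_of_singular Q hQf, polar_comm Q z f, hfz]
      simp
    have hf'f'' : polar Q f' f'' = -α + 1 := by
      rw [hf'eq, polar_add_left, polar_comm Q f f'', hf''f, hf'', polar_add_right,
        polar_add_right, polar_smul_right, hde, hdf, hdz]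
      simp
    have hQ1 : Q (f' - f'') ≠ 0 := by
      rw [Q_sub_of_singular Q hQf' hQf'', hf'f'']
      intro h
      apply hα1
      linear_combination h
    have hQ2 : Q (f'' - f) ≠ 0 := by
      rw [Q_sub_of_singular Q hQf'' hQf, hf''f, neg_neg]
      exact hα0
    refine ⟨[f'' - f, f' - f''], ?_, ?_, ?_, ?_⟩
    · intro w hw
      simp only [List.mem_cons, List.not_mem_nil, or_false] at hw
      rcases hw with rfl | rfl
      · exact hQ2
      · exact hQ1
    · intro p hp'
      exact prod_refl_apply_of_orth Q U [f'' - f, f' - f''] (by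
        intro w hw
        simp only [List.mem_cons, List.not_mem_nil, or_false] at hw
        rcases hw with rfl | rfl
        · exact U.sub_mem hf''U hf
        · exact U.sub_mem hf' hf''U) p hp'
    · have h1 : refl Q (f' - f'') e = e := refl_apply_of_polar_eq_zero Q _ _ (by
        rw [polar_sub_left, polar_comm Q f' e, polar_comm Q f'' e, hef', hef'', sub_self])
      have h2 : refl Q (f'' - f) e = e := refl_apply_of_polar_eq_zero Q _ _ (by
        rw [polar_sub_left, polar_comm Q f'' e, polar_comm Q f e, hef, hef'', sub_self])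
      rw [List.map_cons, List.map_cons, List.map_nil, List.prod_cons, List.prod_cons,
        List.prod_nil, mul_one, Module.End.mul_apply, h1, h2]
    · rw [List.map_cons, List.map_cons, List.map_nil, List.prod_cons, List.prod_cons,
        List.prod_nil, mul_one, Module.End.mul_apply,
        refl_sub_apply_of_eq Q (hQf'.trans hQf''.symm) hQ1,
        refl_sub_apply_of_eq Q (hQf''.trans hQf.symm) hQ2]

end CharTwo

end Cfsg.Agent.Helper17.Spinor
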