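import Mathlib
import Cfsg.Agent.Lib.Helper17.OrthCD2Main

/-!
# Cartan–Dieudonné in characteristic two over finite fields: conclusion (helper17)

`cartan_dieudonne_char_two`, and the all-characteristic `cartan_dieudonne_finite`.
-/

set_option autoImplicit false

namespace Cfsg.Agent.Helper17.Spinor
open QuadraticMap Module

variable {F : Type*} [Field F] {V : Type*} [AddCommGroup V] [Module F V] (Q : QuadraticForm F V)

theorem prod_refl_mem (U : Submodule F V) (ws : List V) (hws : ∀ w ∈ ws, w ∈ U) {x : V}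
    (hx : x ∈ U) : (ws.map (refl Q)).prod x ∈ U := by
  induction ws with
  | nil => simpa using hx
  | cons w ws ih =>
    rw [List.map_cons, List.prod_cons, Module.End.mul_apply, refl_apply]
    exact U.sub_mem (ih (fun u hu => hws u (List.mem_cons_of_mem _ hu)))
      (U.smul_mem _ (hws w List.mem_cons_self))

section CharTwo

variable [Fintype F] [CharP F 2] [FiniteDimensional F V]

/-- restore a pair `e, f ∈ U` with `polar e f = 1` after an isometry preserving `U` -/
theorem exists_fix_pair (hQ : (polarBilin Q).Nondegenerate)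
    (hex : Fintype.card F ≠ 2 ∨ finrank F V ≠ 4) (U : Submodule F V)
    (hU : U ⊓ LinearMap.BilinForm.orthogonal (polarBilin Q) U = ⊥) (hU0 : U ≠ ⊥)
    (g : Module.End F V) (hg : ∀ x, Q (g x) = Q x) (hgU : ∀ x ∈ U, g x ∈ U) :
    ∃ e f : V, e ∈ U ∧ f ∈ U ∧ polar Q e f = 1 ∧
      ∃ ws : List V, (∀ w ∈ ws, Q w ≠ 0) ∧
        (∀ p, (∀ u ∈ U, polar Q u p = 0) → (ws.map (refl Q)).prod p = p) ∧
        (ws.map (refl Q)).prod (g e) = e ∧ (ws.map (refl Q)).prod (g f) = f := by
  by_cases hs : ∃ e ∈ U, e ≠ 0 ∧ Q e = 0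
  · -- hyperbolic pair
    obtain ⟨e, he, he0, hQe⟩ := hs
    obtain ⟨f, hf, hQf, hef⟩ := exists_partner Q U hU he he0 hQe
    have hge0 : g e ≠ 0 := by
      intro h0
      have h1 := polar_isometry Q g hg e f
      rw [h0, polar_zero_left, hef] at h1
      exact zero_ne_one h1
    obtain ⟨ws₁, hws₁, h1e⟩ := exists_refl_list_map_singular Q U hU (hgU e he) he hge0 he0
      (by rw [hg, hQe]) hQe
    have hiso₁ := isometry_prod_refl Q ws₁ (fun w hw => (hws₁ w hw).1)
    obtain ⟨f', hf'def⟩ : ∃ f', f' = (ws₁.map (refl Q)).prod (g f) := ⟨_, rfl⟩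
    have hf'U : f' ∈ U := hf'def ▸ prod_refl_mem Q U ws₁ (fun w hw => (hws₁ w hw).2) (hgU f hf)
    have hQf' : Q f' = 0 := by rw [hf'def, hiso₁, hg, hQf]
    have hef' : polar Q e f' = 1 := by
      rw [hf'def, ← h1e, polar_isometry Q _ hiso₁, polar_isometry Q g hg, hef]
    obtain ⟨ws₂, hws₂, hfix₂, h2e, h2f⟩ := exists_fix_second Q hQ hex U hU he hf hf'U hQe hQf hQf'
      hef hef'
    refine ⟨e, f, he, hf, hef, ws₂ ++ ws₁, ?_, ?_, ?_, ?_⟩
    · intro w hw
      rcases List.mem_append.1 hw with h | h
      · exact hws₂ w h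
      · exact (hws₁ w h).1
    · intro p hp
      rw [List.map_append, List.prod_append, Module.End.mul_apply,
        prod_refl_apply_of_orth Q U ws₁ (fun w hw => (hws₁ w hw).2) p hp, hfix₂ p hp]
    · rw [List.map_append, List.prod_append, Module.End.mul_apply, h1e, h2e]
    · rw [List.map_append, List.prod_append, Module.End.mul_apply, ← hf'def, h2f]
  · -- anisotropic
    push Not at hs
    have hs' : ∀ x ∈ U, x ≠ 0 → Q x ≠ 0 := fun x hx hx0 => hs x hx hx0
    obtain ⟨e, he, he0⟩ := Submodule.exists_mem_ne_zero_of_ne_bot hU0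
    obtain ⟨f, hf, hef⟩ := exists_polar_eq_one Q U hU he he0
    -- first step
    have step1 : ∃ ws₁ : List V, (∀ w ∈ ws₁, Q w ≠ 0 ∧ w ∈ U) ∧ (ws₁.map (refl Q)).prod (g e) = e := by
      by_cases h : g e = e
      · exact ⟨[], by simp, by simpa using h⟩
      · have hne : Q (g e - e) ≠ 0 := hs' _ (U.sub_mem (hgU e he) he) (sub_ne_zero.2 h)
        refine ⟨[g e - e], ?_, ?_⟩
        · intro w hw
          rw [List.mem_singleton] at hw
          rw [hw]; exact ⟨hne, U.sub_mem (hgU e he) he⟩
        · rw [List.map_cons, List.map_nil, List.prod_cons, List.prod_nil, mul_one]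
          exact refl_sub_apply_of_eq Q (hg e) hne
    obtain ⟨ws₁, hws₁, h1e⟩ := step1
    have hiso₁ := isometry_prod_refl Q ws₁ (fun w hw => (hws₁ w hw).1)
    obtain ⟨f', hf'def⟩ : ∃ f', f' = (ws₁.map (refl Q)).prod (g f) := ⟨_, rfl⟩
    have hf'U : f' ∈ U := hf'def ▸ prod_refl_mem Q U ws₁ (fun w hw => (hws₁ w hw).2) (hgU f hf)
    have hQf' : Q f' = Q f := by rw [hf'def, hiso₁, hg]
    have hef' : polar Q e f' = 1 := by
      rw [hf'def, ← h1e, polar_isometry Q _ hiso₁, polar_isometry Q g hg, hef]
    have step2 : ∃ ws₂ : List V, (∀ w ∈ ws₂, Q w ≠ 0 ∧ w ∈ U) ∧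
        (ws₂.map (refl Q)).prod e = e ∧ (ws₂.map (refl Q)).prod f' = f := by
      by_cases h : f' = f
      · exact ⟨[], by simp, by simp, by simpa using h⟩
      · have hne : Q (f' - f) ≠ 0 := hs' _ (U.sub_mem hf'U hf) (sub_ne_zero.2 h)
        refine ⟨[f' - f], ?_, ?_, ?_⟩
        · intro w hw
          rw [List.mem_singleton] at hw
          rw [hw]; exact ⟨hne, U.sub_mem hf'U hf⟩
        · rw [List.map_cons, List.map_nil, List.prod_cons, List.prod_nil, mul_one]
          apply refl_apply_of_polar_eq_zero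
          rw [polar_sub_left, polar_comm Q f' e, polar_comm Q f e, hef, hef', sub_self]
        · rw [List.map_cons, List.map_nil, List.prod_cons, List.prod_nil, mul_one]
          exact refl_sub_apply_of_eq Q hQf' hne
    obtain ⟨ws₂, hws₂, h2e, h2f⟩ := step2
    refine ⟨e, f, he, hf, hef, ws₂ ++ ws₁, ?_, ?_, ?_, ?_⟩
    · intro w hw
      rcases List.mem_append.1 hw with h | h
      · exact (hws₂ w h).1
      · exact (hws₁ w h).1
    · intro p hp
      rw [List.map_append, List.prod_append, Module.End.mul_apply,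
        prod_refl_apply_of_orth Q U ws₁ (fun w hw => (hws₁ w hw).2) p hp,
        prod_refl_apply_of_orth Q U ws₂ (fun w hw => (hws₂ w hw).2) p hp]
    · rw [List.map_append, List.prod_append, Module.End.mul_apply, h1e, h2e]
    · rw [List.map_append, List.prod_append, Module.End.mul_apply, ← hf'def, h2f]

theorem cd2_aux (hQ : (polarBilin Q).Nondegenerate)
    (hex : Fintype.card F ≠ 2 ∨ finrank F V ≠ 4) :
    ∀ (k : ℕ) (P : Submodule F V) (g : Module.End F V),
      finrank F ↥(LinearMap.BilinForm.orthogonal (polarBilin Q) P) = k →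
      P ⊓ LinearMap.BilinForm.orthogonal (polarBilin Q) P = ⊥ →
      (∀ x, Q (g x) = Q x) → (∀ p ∈ P, g p = p) →
      ∃ vs : List V, (∀ v ∈ vs, Q v ≠ 0) ∧ g = (vs.map (refl Q)).prod := by
  have hrefl : (polarBilin Q).IsRefl := (polarBilin_isSymm Q).isRefl
  intro k
  induction k using Nat.strong_induction_on with
  | _ k ih =>
  intro P g hk hP hg hfix
  obtain ⟨U, hU⟩ : ∃ U, U = LinearMap.BilinForm.orthogonal (polarBilin Q) P := ⟨_, rfl⟩
  rw [← hU] at hk hP
  have hmemU : ∀ x, x ∈ U ↔ ∀ p ∈ P, polar Q p x = 0 := by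
    intro x; rw [hU]; exact mem_orthogonal_iff' Q P x
  by_cases hU0 : U = ⊥
  · have hPtop : P = ⊤ := by
      have h1 := LinearMap.BilinForm.orthogonal_orthogonal hQ hrefl P
      rw [← hU, hU0, LinearMap.BilinForm.orthogonal_bot] at h1
      exact h1.symm
    refine ⟨[], by simp, ?_⟩
    apply LinearMap.ext
    intro x
    rw [List.map_nil, List.prod_nil, Module.End.one_apply]
    exact hfix x (hPtop ▸ Submodule.mem_top)
  · have hUU : U ⊓ LinearMap.BilinForm.orthogonal (polarBilin Q) U = ⊥ := by
      rw [hU, LinearMap.BilinForm.orthogonal_orthogonal hQ hrefl P, ← hU, inf_comm]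
      exact hP
    have hgU : ∀ x ∈ U, g x ∈ U := by
      intro x hx
      rw [hmemU]
      intro p hp
      have h1 := polar_isometry Q g hg p x
      rw [hfix p hp] at h1
      rw [h1]
      exact (hmemU x).1 hx p hp
    obtain ⟨e, f, he, hf, hef, ws, hws, hwsfix, hwse, hwsf⟩ :=
      exists_fix_pair Q hQ hex U hUU hU0 g hg hgU
    obtain ⟨g', hg'def⟩ : ∃ g' : Module.End F V, g' = (ws.map (refl Q)).prod * g := ⟨_, rfl⟩
    have hg' : ∀ x, Q (g' x) = Q x := by
      intro x
      rw [hg'def, Module.End.mul_apply, isometry_prod_refl Q ws hws, hg]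
    have hg'e : g' e = e := by rw [hg'def, Module.End.mul_apply]; exact hwse
    have hg'f : g' f = f := by rw [hg'def, Module.End.mul_apply]; exact hwsf
    have hPorth : ∀ p ∈ P, ∀ u ∈ U, polar Q u p = 0 := by
      intro p hp u hu
      rw [polar_comm]
      exact (hmemU u).1 hu p hp
    have hfix' : ∀ p ∈ P ⊔ Submodule.span F {e, f}, g' p = p := by
      intro p hp
      rw [Submodule.mem_sup] at hp
      obtain ⟨p₁, hp₁, p₂, hp₂, rfl⟩ := hp
      rw [Submodule.mem_span_pair] at hp₂
      obtain ⟨s, t, rfl⟩ := hp₂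
      rw [map_add, map_add, map_smul, map_smul, hg'e, hg'f, hg'def, Module.End.mul_apply,
        hfix p₁ hp₁, hwsfix p₁ (hPorth p₁ hp₁)]
    have hee : polar Q e e = 0 := polar_self_char_two Q e
    have hff : polar Q f f = 0 := polar_self_char_two Q f
    have hP' : (P ⊔ Submodule.span F {e, f}) ⊓ LinearMap.BilinForm.orthogonal
        (polarBilin Q) (P ⊔ Submodule.span F {e, f}) = ⊥ := by
      rw [eq_bot_iff]
      intro x hx
      obtain ⟨hx1, hx2⟩ := Submodule.mem_inf.1 hx
      rw [mem_orthogonal_iff'] at hx2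
      rw [Submodule.mem_sup] at hx1
      obtain ⟨p, hp, y, hy, rfl⟩ := hx1
      obtain ⟨s, t, rfl⟩ := Submodule.mem_span_pair.1 hy
      have hpU : p ∈ U := by
        rw [hmemU]
        intro p' hp'
        have h1 : polar Q p' (p + (s • e + t • f)) = 0 := hx2 p' (le_sup_left (a := P) hp')
        have h3 : polar Q p' e = 0 := (hmemU e).1 he p' hp'
        have h4 : polar Q p' f = 0 := (hmemU f).1 hf p' hp'
        rw [polar_add_right, polar_add_right, polar_smul_right, polar_smul_right, h3, h4,
          smul_zero, smul_zero, add_zero, add_zero] at h1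
        exact h1
      have hp0 : p = 0 := by
        have : p ∈ P ⊓ U := Submodule.mem_inf.2 ⟨hp, hpU⟩
        rw [hP] at this
        exact (Submodule.mem_bot F).1 this
      subst hp0
      have heS : e ∈ P ⊔ Submodule.span F {e, f} :=
        le_sup_right (a := P) (Submodule.subset_span (by simp))
      have hfS : f ∈ P ⊔ Submodule.span F {e, f} :=
        le_sup_right (a := P) (Submodule.subset_span (by simp))
      have h5 : polar Q e (0 + (s • e + t • f)) = 0 := hx2 e heS
      have h6 : polar Q f (0 + (s • e + t • f)) = 0 := hx2 f hfS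
      rw [zero_add, polar_add_right, polar_smul_right, polar_smul_right, hee, hef] at h5
      rw [zero_add, polar_add_right, polar_smul_right, polar_smul_right, hff, polar_comm Q f e,
        hef] at h6
      simp only [smul_eq_mul, mul_zero, mul_one, zero_add, add_zero] at h5 h6
      rw [h5, h6]
      simp
    have hlt : finrank F ↥(LinearMap.BilinForm.orthogonal (polarBilin Q)
        (P ⊔ Submodule.span F {e, f})) < k := by
      rw [← hk]
      apply Submodule.finrank_lt_finrank_of_lt
      rw [lt_iff_le_and_ne]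
      refine ⟨hU ▸ LinearMap.BilinForm.orthogonal_le le_sup_left, ?_⟩
      intro heq
      have h1 : e ∈ LinearMap.BilinForm.orthogonal (polarBilin Q)
          (P ⊔ Submodule.span F {e, f}) := heq ▸ he
      rw [mem_orthogonal_iff'] at h1
      have hfS : f ∈ P ⊔ Submodule.span F {e, f} :=
        le_sup_right (a := P) (Submodule.subset_span (by simp))
      have := h1 f hfS
      rw [polar_comm, hef] at this
      exact one_ne_zero this
    obtain ⟨vs', hvs', hg'eq⟩ := ih _ hlt (P ⊔ Submodule.span F {e, f}) g' rfl hP' hg' hfix'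
    refine ⟨ws.reverse ++ vs', ?_, ?_⟩
    · intro u hu
      rw [List.mem_append, List.mem_reverse] at hu
      rcases hu with hu | hu
      · exact hws u hu
      · exact hvs' u hu
    · have h1 : (ws.reverse.map (refl Q)).prod * (ws.map (refl Q)).prod = 1 := by
        have := prod_refl_mul_prod_reverse' Q ws.reverse
          (fun w hw => hws w (List.mem_reverse.1 hw))
        rwa [List.reverse_reverse] at this
      rw [List.map_append, List.prod_append, ← hg'eq, hg'def, ← mul_assoc, h1, one_mul]

/-- **Cartan–Dieudonné in characteristic two** over a finite field: every isometry is a product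
of orthogonal transvections, except in dimension four over the field with two elements. -/
theorem cartan_dieudonne_char_two (hQ : (polarBilin Q).Nondegenerate)
    (hex : Fintype.card F ≠ 2 ∨ finrank F V ≠ 4) (g : Module.End F V)
    (hg : ∀ x, Q (g x) = Q x) :
    ∃ vs : List V, (∀ v ∈ vs, Q v ≠ 0) ∧ g = (vs.map (refl Q)).prod := by
  refine cd2_aux Q hQ hex _ ⊥ g rfl (bot_inf_eq _) hg ?_
  intro p hp
  rw [(Submodule.mem_bot F).1 hp, map_zero]

end CharTwo

/-- **Cartan–Dieudonné over finite fields**, all characteristics. -/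
theorem cartan_dieudonne_finite [Fintype F] [FiniteDimensional F V]
    (hQ : (polarBilin Q).Nondegenerate)
    (hex : Fintype.card F ≠ 2 ∨ finrank F V ≠ 4) (g : Module.End F V)
    (hg : ∀ x, Q (g x) = Q x) :
    ∃ vs : List V, (∀ v ∈ vs, Q v ≠ 0) ∧ g = (vs.map (refl Q)).prod := by
  by_cases h2 : (2 : F) = 0
  · have : CharP F 2 := by
      have hp : ringChar F = 2 := by
        have hdvd : ringChar F ∣ 2 := by
          apply ringChar.dvd
          exact_mod_cast h2
        have hprime := CharP.char_is_prime F (ringChar F)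
        exact (Nat.prime_dvd_prime_iff_eq hprime Nat.prime_two).1 hdvd
      exact ringChar.of_eq hp
    exact cartan_dieudonne_char_two Q hQ hex g hg
  · exact cartan_dieudonne Q h2 hQ g hg

end Cfsg.Agent.Helper17.Spinor
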