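import Mathlib
import Cfsg.Prelude.Def_Classical
import Cfsg.Prelude.Def_ClassicalGeometry
import Cfsg.Agent.Lib.Helper17.SpinorReflections

/-!
# The commutator subgroup of an orthogonal group in odd characteristic (helper17)

For `Q` a quadratic form on `F^ι` with non-degenerate polar form, `2 ≠ 0` in `F`:
an element of `Cfsg.isometryGroup F ⇑Q` written as a product of reflections in `v₁ … v_k` lies in
the commutator subgroup iff `k` is even and `Q v₁ ⋯ Q v_k` is a square (`F` finite for `←`).
-/

set_option autoImplicit false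

namespace Cfsg.Agent.Helper17.Spinor
open Cfsg

variable {F : Type*} [Field F] {ι : Type} [Fintype ι] [DecidableEq ι] (Q : QuadraticForm F (ι → F))

theorem polarVec_dotProduct (v x : ι → F) :
    Cfsg.polarVec (⇑Q) v ⬝ᵥ x = QuadraticMap.polar Q v x := by
  have h := LinearMap.pi_apply_eq_sum_univ (QuadraticMap.polarBilin Q v) x
  rw [QuadraticMap.polarBilin_apply_apply] at h
  rw [h, dotProduct]
  apply Finset.sum_congr rfl
  intro j _
  rw [smul_eq_mul, mul_comm, Cfsg.polarVec, QuadraticMap.polarBilin_apply_apply]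
  congr 2
  ext k
  simp [Pi.single_apply, eq_comm]

theorem reflectionMatrix_mulVec (v x : ι → F) :
    (Cfsg.reflectionMatrix (⇑Q) v).mulVec x = refl Q v x := by
  rw [Cfsg.reflectionMatrix, Matrix.sub_mulVec, Matrix.one_mulVec, Matrix.smul_mulVec,
    Matrix.vecMulVec_mulVec, polarVec_dotProduct, refl_apply]
  ext k
  simp [mul_comm, mul_left_comm]

theorem toLin'_reflectionMatrix (v : ι → F) :
    Matrix.toLin' (Cfsg.reflectionMatrix (⇑Q) v) = refl Q v := by
  apply LinearMap.ext
  intro x
  rw [Matrix.toLin'_apply, reflectionMatrix_mulVec]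

theorem det_reflectionMatrix {v : ι → F} (hv : Q v ≠ 0) :
    (Cfsg.reflectionMatrix (⇑Q) v).det = -1 := by
  have h1 : Cfsg.reflectionMatrix (⇑Q) v
      = 1 + Matrix.replicateCol Unit (-(Q v)⁻¹ • v) * Matrix.replicateRow Unit (Cfsg.polarVec (⇑Q) v) := by
    rw [Cfsg.reflectionMatrix, ← Matrix.vecMulVec_eq, sub_eq_add_neg]
    congr 1
    ext i j
    simp [Matrix.vecMulVec_apply, mul_assoc]
  rw [h1, Matrix.det_one_add_replicateCol_mul_replicateRow, dotProduct_smul, polarVec_dotProduct,
    QuadraticMap.polar_self]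
  simp only [nsmul_eq_mul, Nat.cast_ofNat, smul_eq_mul]
  field_simp
  ring

theorem reflectionMatrix_mul_self (h2 : (2 : F) ≠ 0) {v : ι → F} (hv : Q v ≠ 0) :
    Cfsg.reflectionMatrix (⇑Q) v * Cfsg.reflectionMatrix (⇑Q) v = 1 := by
  apply Matrix.toLin'.injective
  rw [Matrix.toLin'_mul, toLin'_reflectionMatrix, Matrix.toLin'_one]
  exact refl_mul_refl Q h2 hv

/-- The reflection in `v` as an element of the isometry group (`1` for singular `v`). -/
noncomputable def rG (h2 : (2 : F) ≠ 0) (v : ι → F) : ↥(Cfsg.isometryGroup F (⇑Q)) :=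
  open Classical in
  if hv : Q v ≠ 0 then
    ⟨⟨Cfsg.reflectionMatrix (⇑Q) v, Cfsg.reflectionMatrix (⇑Q) v,
      reflectionMatrix_mul_self Q h2 hv, reflectionMatrix_mul_self Q h2 hv⟩, by
      intro u _
      show Q ((Cfsg.reflectionMatrix (⇑Q) v).mulVec u) = Q u
      rw [reflectionMatrix_mulVec, Q_refl Q hv]⟩
  else 1

theorem rG_coe (h2 : (2 : F) ≠ 0) {v : ι → F} (hv : Q v ≠ 0) :
    (((rG Q h2 v : ↥(Cfsg.isometryGroup F (⇑Q))) : Matrix.GeneralLinearGroup ι F) : Matrix ι ι F)
      = Cfsg.reflectionMatrix (⇑Q) v := by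
  unfold rG
  rw [dif_pos hv]

/-- The isometry group acting on the space, as endomorphisms. -/
noncomputable def toEnd : ↥(Cfsg.isometryGroup F (⇑Q)) →* Module.End F (ι → F) where
  toFun g := Matrix.toLin' ((g : Matrix.GeneralLinearGroup ι F) : Matrix ι ι F)
  map_one' := by
    show Matrix.toLin' (1 : Matrix ι ι F) = 1
    rw [Matrix.toLin'_one]; rfl
  map_mul' a b := by
    show Matrix.toLin' (((a : Matrix.GeneralLinearGroup ι F) : Matrix ι ι F)
      * ((b : Matrix.GeneralLinearGroup ι F) : Matrix ι ι F)) = _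
    rw [Matrix.toLin'_mul]; rfl

theorem toEnd_apply (g : ↥(Cfsg.isometryGroup F (⇑Q))) (x : ι → F) :
    toEnd Q g x = ((g : Matrix.GeneralLinearGroup ι F) : Matrix ι ι F).mulVec x := rfl

theorem toEnd_injective : Function.Injective (toEnd Q) := by
  intro a b h
  apply Subtype.ext
  apply Units.ext
  exact Matrix.toLin'.injective h

theorem toEnd_isometry (g : ↥(Cfsg.isometryGroup F (⇑Q))) (x : ι → F) : Q (toEnd Q g x) = Q x :=
  g.2 x x

theorem toEnd_rG (h2 : (2 : F) ≠ 0) {v : ι → F} (hv : Q v ≠ 0) :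
    toEnd Q (rG Q h2 v) = refl Q v := by
  show Matrix.toLin' _ = _
  rw [rG_coe Q h2 hv, toLin'_reflectionMatrix]

theorem toEnd_prod_rG (h2 : (2 : F) ≠ 0) (vs : List (ι → F)) (hvs : ∀ v ∈ vs, Q v ≠ 0) :
    toEnd Q (vs.map (rG Q h2)).prod = (vs.map (refl Q)).prod := by
  rw [map_list_prod, List.map_map]
  congr 1
  apply List.map_congr_left
  intro v hv
  exact toEnd_rG Q h2 (hvs v hv)

theorem rG_mul_self (h2 : (2 : F) ≠ 0) {v : ι → F} (hv : Q v ≠ 0) :
    rG Q h2 v * rG Q h2 v = 1 := by
  apply toEnd_injective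
  rw [map_mul, toEnd_rG Q h2 hv, map_one, refl_mul_refl Q h2 hv]

omit [Fintype ι] [DecidableEq ι] in
theorem refl_smul {c : F} (hc : c ≠ 0) (v : ι → F) : refl Q (c • v) = refl Q v := by
  apply LinearMap.ext
  intro w
  rw [refl_apply, refl_apply, QuadraticMap.map_smul, QuadraticMap.polar_smul_left, smul_smul]
  congr 2
  simp only [smul_eq_mul]
  by_cases hv : Q v = 0
  · simp [hv]
  · field_simp

/-- reflections in vectors whose norms differ by a square are conjugate in the isometry group -/
theorem exists_conj_rG (h2 : (2 : F) ≠ 0) {u w : ι → F} (hu : Q u ≠ 0) (hw : Q w ≠ 0)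
    (hsq : IsSquare (Q u * Q w)) :
    ∃ h : ↥(Cfsg.isometryGroup F (⇑Q)), h * rG Q h2 w = rG Q h2 u * h := by
  obtain ⟨s, hs⟩ := hsq
  have hs0 : s ≠ 0 := by
    rintro rfl
    rw [mul_zero] at hs
    exact mul_ne_zero hu hw hs
  obtain ⟨c, hc⟩ : ∃ c : F, c = s / Q w := ⟨_, rfl⟩
  have hc0 : c ≠ 0 := by rw [hc]; exact div_ne_zero hs0 hw
  have hQc : Q (c • w) = Q u := by
    rw [QuadraticMap.map_smul, smul_eq_mul, hc]
    field_simp
    rw [pow_two, ← hs, mul_comm]
  have hQc0 : Q u ≠ 0 := hu
  obtain ⟨ws, hws, hwsv⟩ := exists_refl_list_map Q h2 hQc hQc0 ⊤ Submodule.mem_top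
    Submodule.mem_top
  refine ⟨(ws.map (rG Q h2)).prod, ?_⟩
  apply toEnd_injective
  rw [map_mul, map_mul, toEnd_rG Q h2 hw, toEnd_rG Q h2 hu,
    toEnd_prod_rG Q h2 ws (fun v hv => (hws v hv).1), ← refl_smul Q hc0 w,
    isometry_mul_refl Q _ (isometry_prod_refl Q ws (fun v hv => (hws v hv).1)), hwsv]

/-! ### Products of reflections in the commutator subgroup (`F` finite) -/

section Finite

variable [Fintype F]

omit [Fintype ι] [DecidableEq ι] in
theorem quadraticChar_prod_const [DecidableEq F] (c : ℤ) (l : List (ι → F))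
    (h : ∀ w ∈ l, quadraticChar F (Q w) = c) :
    quadraticChar F (l.map Q).prod = c ^ l.length := by
  induction l with
  | nil => simp
  | cons w l ih =>
    rw [List.map_cons, List.prod_cons, map_mul, h w List.mem_cons_self,
      ih (fun x hx => h x (List.mem_cons_of_mem _ hx)), List.length_cons, pow_succ, mul_comm]

omit [Fintype ι] [DecidableEq ι] in
theorem prod_Q_ne_zero (l : List (ι → F)) (h : ∀ w ∈ l, Q w ≠ 0) : (l.map Q).prod ≠ 0 := by
  apply List.prod_ne_zero
  intro h0
  rw [List.mem_map] at h0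
  obtain ⟨w, hw, hw0⟩ := h0
  exact h w hw hw0

omit [Fintype ι] [DecidableEq ι] in
theorem exists_mem_isSquare_mul (u : ι → F) (hu : Q u ≠ 0) (rest : List (ι → F))
    (hrest : ∀ w ∈ rest, Q w ≠ 0) (hodd : Odd rest.length)
    (hsq : IsSquare (Q u * (rest.map Q).prod)) : ∃ w ∈ rest, IsSquare (Q u * Q w) := by
  classical
  by_contra hcon
  push Not at hcon
  have ha := quadraticChar_dichotomy hu
  have hw : ∀ w ∈ rest, quadraticChar F (Q w) = -quadraticChar F (Q u) := by
    intro w hw
    have h1 := quadraticChar_neg_one_iff_not_isSquare.2 (hcon w hw)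
    rw [map_mul] at h1
    rcases ha with ha | ha
    · rw [ha] at h1; rw [ha]; linarith
    · rw [ha] at h1; rw [ha]; linarith
  have h2 := quadraticChar_prod_const Q (-quadraticChar F (Q u)) rest hw
  have h3 : quadraticChar F (Q u * (rest.map Q).prod) = 1 :=
    (quadraticChar_one_iff_isSquare (mul_ne_zero hu (prod_Q_ne_zero Q rest hrest))).2 hsq
  rw [map_mul, h2] at h3
  obtain ⟨k, hk⟩ := hodd
  rcases ha with ha | ha
  · rw [ha, hk] at h3
    simp [pow_succ] at h3
  · rw [ha, hk] at h3
    simp at h3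

theorem abelianization_prod_eq_one (h2 : (2 : F) ≠ 0) :
    ∀ (m : ℕ) (vs : List (ι → F)), vs.length = 2 * m → (∀ v ∈ vs, Q v ≠ 0) →
      IsSquare (vs.map Q).prod →
      (vs.map (fun v => Abelianization.of (rG Q h2 v))).prod = 1 := by
  classical
  intro m
  induction m with
  | zero =>
    intro vs hlen _ _
    have : vs = [] := List.length_eq_zero_iff.1 (by omega)
    subst this
    simp
  | succ m ih =>
    intro vs hlen hvs hsq
    match vs, hlen, hvs, hsq with
    | [], hlen, _, _ => simp at hlen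
    | u :: rest, hlen, hvs, hsq =>
      have hu : Q u ≠ 0 := hvs u List.mem_cons_self
      have hrest : ∀ w ∈ rest, Q w ≠ 0 := fun w hw => hvs w (List.mem_cons_of_mem _ hw)
      have hlen' : rest.length = 2 * m + 1 := by
        rw [List.length_cons] at hlen; omega
      rw [List.map_cons, List.prod_cons] at hsq
      obtain ⟨w, hw, hsqw⟩ := exists_mem_isSquare_mul Q u hu rest hrest ⟨m, hlen'⟩ hsq
      have hperm : rest.Perm (w :: rest.erase w) := List.perm_cons_erase hw
      have hw0 : Q w ≠ 0 := hrest w hw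
      -- same class in the abelianization
      obtain ⟨h, hh⟩ := exists_conj_rG Q h2 hu hw0 hsqw
      have hfu : Abelianization.of (rG Q h2 w) = Abelianization.of (rG Q h2 u) := by
        have h1 := congrArg (Abelianization.of) hh
        rw [map_mul, map_mul, mul_comm] at h1
        exact mul_right_cancel h1
      have hsq1 : Abelianization.of (rG Q h2 u) * Abelianization.of (rG Q h2 u) = 1 := by
        rw [← map_mul, rG_mul_self Q h2 hu, map_one]
      -- the rest
      have hQperm : (rest.map Q).prod = Q w * ((rest.erase w).map Q).prod := by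
        rw [(hperm.map Q).prod_eq, List.map_cons, List.prod_cons]
      have hrest' : IsSquare ((rest.erase w).map Q).prod := by
        obtain ⟨t, ht⟩ := hsq
        obtain ⟨s, hs⟩ := hsqw
        have hs0 : s ≠ 0 := by
          rintro rfl
          rw [mul_zero] at hs
          exact mul_ne_zero hu hw0 hs
        refine ⟨t / s, ?_⟩
        rw [hQperm, ← mul_assoc, hs] at ht
        field_simp
        rw [pow_two, pow_two, mul_comm, ht]
      have hih := ih (rest.erase w) (by rw [List.length_erase_of_mem hw, hlen']; omega)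
        (fun v hv => hrest v (List.mem_of_mem_erase hv)) hrest'
      rw [List.map_cons, List.prod_cons,
        (hperm.map (fun v => Abelianization.of (rG Q h2 v))).prod_eq, List.map_cons,
        List.prod_cons, hih, mul_one, hfu, hsq1]

theorem prod_rG_mem_commutator (h2 : (2 : F) ≠ 0) (vs : List (ι → F)) (hvs : ∀ v ∈ vs, Q v ≠ 0)
    (heven : Even vs.length) (hsq : IsSquare (vs.map Q).prod) :
    (vs.map (rG Q h2)).prod ∈ commutator ↥(Cfsg.isometryGroup F (⇑Q)) := by
  obtain ⟨m, hm⟩ := heven
  rw [← Abelianization.ker_of, MonoidHom.mem_ker, map_list_prod, List.map_map]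
  exact abelianization_prod_eq_one Q h2 m vs (by omega) hvs hsq

end Finite

end Cfsg.Agent.Helper17.Spinor
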