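import Mathlib
import Cfsg.Prelude.Def_Classical
import Cfsg.Prelude.Def_ClassicalGeometry
import Cfsg.Agent.Lib.Helper17.SpinorOmega
import Cfsg.Agent.Lib.Helper17.OrthCD2Final

/-!
# Reflections as elements of `Cfsg.isometryGroup`, all characteristics (helper17)

`tG Q v`: the reflection / orthogonal transvection in `v` as an element of
`Cfsg.isometryGroup F ⇑Q` (`1` for singular `v`), with no hypothesis on the characteristic;
`exists_prod_tG`: over a finite field every element of the isometry group is a product of such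
(Cartan–Dieudonné), except in dimension four over the field of two elements.
-/

set_option autoImplicit false

namespace Cfsg.Agent.Helper17.Spinor
open Cfsg QuadraticMap Module

variable {F : Type*} [Field F] {ι : Type} [Fintype ι] [DecidableEq ι] (Q : QuadraticForm F (ι → F))

theorem reflectionMatrix_mul_self' {v : ι → F} (hv : Q v ≠ 0) :
    Cfsg.reflectionMatrix (⇑Q) v * Cfsg.reflectionMatrix (⇑Q) v = 1 := by
  apply Matrix.toLin'.injective
  rw [Matrix.toLin'_mul, toLin'_reflectionMatrix, Matrix.toLin'_one]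
  apply LinearMap.ext
  intro w
  rw [LinearMap.comp_apply, refl_refl' Q hv]
  rfl

/-- The reflection in `v` as an element of the isometry group (`1` for singular `v`). -/
noncomputable def tG (v : ι → F) : ↥(Cfsg.isometryGroup F (⇑Q)) :=
  open Classical in
  if hv : Q v ≠ 0 then
    ⟨⟨Cfsg.reflectionMatrix (⇑Q) v, Cfsg.reflectionMatrix (⇑Q) v,
      reflectionMatrix_mul_self' Q hv, reflectionMatrix_mul_self' Q hv⟩, by
      intro u _
      show Q ((Cfsg.reflectionMatrix (⇑Q) v).mulVec u) = Q u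
      rw [reflectionMatrix_mulVec, Q_refl Q hv]⟩
  else 1

theorem tG_coe {v : ι → F} (hv : Q v ≠ 0) :
    (((tG Q v : ↥(Cfsg.isometryGroup F (⇑Q))) : Matrix.GeneralLinearGroup ι F) : Matrix ι ι F)
      = Cfsg.reflectionMatrix (⇑Q) v := by
  unfold tG
  rw [dif_pos hv]

theorem toEnd_tG {v : ι → F} (hv : Q v ≠ 0) : toEnd Q (tG Q v) = refl Q v := by
  show Matrix.toLin' _ = _
  rw [tG_coe Q hv, toLin'_reflectionMatrix]

theorem toEnd_prod_tG (vs : List (ι → F)) (hvs : ∀ v ∈ vs, Q v ≠ 0) :
    toEnd Q (vs.map (tG Q)).prod = (vs.map (refl Q)).prod := by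
  rw [map_list_prod, List.map_map]
  congr 1
  apply List.map_congr_left
  intro v hv
  exact toEnd_tG Q (hvs v hv)

theorem tG_mul_self {v : ι → F} (hv : Q v ≠ 0) : tG Q v * tG Q v = 1 := by
  apply toEnd_injective
  rw [map_mul, toEnd_tG Q hv, map_one]
  apply LinearMap.ext
  intro w
  rw [Module.End.mul_apply, refl_refl' Q hv]
  rfl

theorem tG_inv {v : ι → F} (hv : Q v ≠ 0) : (tG Q v)⁻¹ = tG Q v :=
  inv_eq_of_mul_eq_one_left (tG_mul_self Q hv)

theorem coe_prod_tG (vs : List (ι → F)) (hvs : ∀ v ∈ vs, Q v ≠ 0) :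
    ((((vs.map (tG Q)).prod : ↥(Cfsg.isometryGroup F (⇑Q))) :
        Matrix.GeneralLinearGroup ι F) : Matrix ι ι F)
      = (vs.map (fun v => Cfsg.reflectionMatrix (⇑Q) v)).prod := by
  induction vs with
  | nil => simp
  | cons v vs ih =>
    rw [List.map_cons, List.prod_cons, List.map_cons, List.prod_cons, Subgroup.coe_mul,
      Units.val_mul, ih (fun u hu => hvs u (List.mem_cons_of_mem _ hu)),
      tG_coe Q (hvs v List.mem_cons_self)]

theorem prod_tG_inv (vs : List (ι → F)) (hvs : ∀ v ∈ vs, Q v ≠ 0) :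
    ((vs.map (tG Q)).prod)⁻¹ = (vs.reverse.map (tG Q)).prod := by
  induction vs with
  | nil => simp
  | cons v vs ih =>
    rw [List.map_cons, List.prod_cons, mul_inv_rev, ih (fun u hu => hvs u (List.mem_cons_of_mem _ hu)),
      tG_inv Q (hvs v List.mem_cons_self), List.reverse_cons, List.map_append, List.prod_append]
    simp

/-- every isometry endomorphism comes from the isometry group, and **Cartan–Dieudonné** for the
matrix group over a finite field -/
theorem exists_prod_tG [Fintype F] (hQ : (polarBilin Q).Nondegenerate)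
    (hex : Fintype.card F ≠ 2 ∨ Fintype.card ι ≠ 4) (g : ↥(Cfsg.isometryGroup F (⇑Q))) :
    ∃ vs : List (ι → F), (∀ v ∈ vs, Q v ≠ 0) ∧ g = (vs.map (tG Q)).prod := by
  have hex' : Fintype.card F ≠ 2 ∨ finrank F (ι → F) ≠ 4 := by
    rw [Module.finrank_fintype_fun_eq_card]; exact hex
  obtain ⟨vs, hvs, hgv⟩ := cartan_dieudonne_finite Q hQ hex' (toEnd Q g) (toEnd_isometry Q g)
  refine ⟨vs, hvs, ?_⟩
  apply toEnd_injective
  rw [hgv, toEnd_prod_tG Q vs hvs]

/-- an isometry endomorphism is `toEnd` of a group element -/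
theorem exists_toEnd_eq [Fintype F] (hQ : (polarBilin Q).Nondegenerate)
    (hex : Fintype.card F ≠ 2 ∨ Fintype.card ι ≠ 4) (h : Module.End F (ι → F))
    (hh : ∀ x, Q (h x) = Q x) : ∃ g : ↥(Cfsg.isometryGroup F (⇑Q)), toEnd Q g = h := by
  have hex' : Fintype.card F ≠ 2 ∨ finrank F (ι → F) ≠ 4 := by
    rw [Module.finrank_fintype_fun_eq_card]; exact hex
  obtain ⟨vs, hvs, hgv⟩ := cartan_dieudonne_finite Q hQ hex' h hh
  exact ⟨(vs.map (tG Q)).prod, by rw [toEnd_prod_tG Q vs hvs, hgv]⟩

/-- conjugating a reflection by a group element -/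
theorem mul_tG (g : ↥(Cfsg.isometryGroup F (⇑Q))) {v : ι → F} (hv : Q v ≠ 0) :
    g * tG Q v = tG Q (toEnd Q g v) * g := by
  have hv' : Q (toEnd Q g v) ≠ 0 := by rw [toEnd_isometry]; exact hv
  apply toEnd_injective
  rw [map_mul, map_mul, toEnd_tG Q hv, toEnd_tG Q hv',
    isometry_mul_refl Q (toEnd Q g) (toEnd_isometry Q g)]

end Cfsg.Agent.Helper17.Spinor
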