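import Mathlib
import Cfsg.Prelude.Def_Classical
import Cfsg.Prelude.Def_ClassicalGeometry
import Cfsg.Agent.Lib.Helper17.OrthGroup

/-!
# The commutator subgroup of an orthogonal group in characteristic two (helper17)

Over a finite field of characteristic two, `Q` on `F^ι` with non-degenerate polar form,
`(|F|, |ι|) ≠ (2, 4)`:

* `exists_isometry_map_nonsingular`: isometries are transitive on vectors of a given non-zero norm;
* `mem_commutator_iff_even_rank`: `g ∈ Ω = [O, O]` iff `rank (1 - g)` is even;
* `prod_tG_mem_Omega_iff`: a product of `k` orthogonal transvections lies in `Ω` iff `k` is even;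
* `index_Omega_char_two`: `Ω` has index two.
-/

set_option autoImplicit false

namespace Cfsg.Agent.Helper17.Spinor
open Cfsg QuadraticMap Module

section Generic

variable {F : Type*} [Field F] {V : Type*} [AddCommGroup V] [Module F V] (Q : QuadraticForm F V)

/-- Siegel transformation `x ↦ x + f(y,x) s + f(s,x) y + Q(y) f(s,x) s` (characteristic two). -/
noncomputable def siegelMap (s y : V) : Module.End F V :=
  LinearMap.id + (polarBilin Q y).smulRight s + (polarBilin Q s).smulRight y
    + (Q y) • (polarBilin Q s).smulRight s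

theorem siegelMap_apply (s y x : V) :
    siegelMap Q s y x
      = x + polar Q y x • s + polar Q s x • y + (Q y * polar Q s x) • s := by
  simp [siegelMap, mul_smul]

theorem Q_siegelMap [CharP F 2] {s y : V} (hs : Q s = 0) (hsy : polar Q s y = 0) (x : V) :
    Q (siegelMap Q s y x) = Q x := by
  rw [siegelMap_apply]
  have h2 : (2 : F) = 0 := CharTwo.two_eq_zero
  have e1 : x + polar Q y x • s + polar Q s x • y + (Q y * polar Q s x) • s
      = x + ((polar Q y x + Q y * polar Q s x) • s + polar Q s x • y) := by module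
  rw [e1, Q_add Q, Q_add Q, QuadraticMap.map_smul, QuadraticMap.map_smul, hs, polar_smul_left,
    polar_smul_right, hsy, polar_add_right, polar_smul_right, polar_smul_right]
  simp only [smul_eq_mul]
  rw [polar_comm Q x s, polar_comm Q x y]
  linear_combination (polar Q s x ^ 2 * Q y + polar Q y x * polar Q s x) * h2

/-- in characteristic two, isometries are transitive on vectors of a given non-zero norm -/
theorem exists_isometry_map_nonsingular [CharP F 2] (hQ : (polarBilin Q).Nondegenerate) {u w : V}
    (hQu : Q u ≠ 0) (huw : Q u = Q w) :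
    ∃ h : Module.End F V, (∀ x, Q (h x) = Q x) ∧ h u = w := by
  by_cases heq : u = w
  · exact ⟨1, fun x => rfl, by rw [Module.End.one_apply, heq]⟩
  by_cases hne : Q (u - w) ≠ 0
  · exact ⟨refl Q (u - w), Q_refl Q hne, refl_sub_apply_of_eq Q huw hne⟩
  push Not at hne
  have h2 : (2 : F) = 0 := CharTwo.two_eq_zero
  -- `s = w - u` is singular, non-zero, orthogonal to `u`
  obtain ⟨s, hs⟩ : ∃ s, s = w - u := ⟨_, rfl⟩
  have hs0 : s ≠ 0 := by
    rw [hs]; exact sub_ne_zero.2 (Ne.symm heq)
  have hQs : Q s = 0 := by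
    have : s = -(u - w) := by rw [hs]; abel
    rw [this, QuadraticMap.map_neg, hne]
  have huw0 : polar Q u w = 0 := by
    have h1 := Q_sub Q u w
    rw [hne, ← huw] at h1
    linear_combination h1 + Q u * h2
  have hus : polar Q u s = 0 := by
    rw [hs, polar_sub_right, huw0, polar_self_char_two, sub_zero]
  have hUtop : (⊤ : Submodule F V) ⊓ LinearMap.BilinForm.orthogonal (polarBilin Q) ⊤ = ⊥ := by
    rw [eq_bot_iff]
    intro x hx
    have hx2 := hx.2
    rw [SetLike.mem_coe, mem_orthogonal_iff'] at hx2
    have : x = 0 := hQ.2 x (fun y => hx2 y Submodule.mem_top)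
    rw [this]; exact Submodule.zero_mem _
  obtain ⟨s', -, hQs', hss'⟩ := exists_partner Q ⊤ hUtop (Submodule.mem_top (x := s)) hs0 hQs
  -- `u₀ = u - f(u,s') s` is orthogonal to `s, s'` and non-zero
  obtain ⟨u₀, hu₀⟩ : ∃ u₀, u₀ = u - polar Q u s' • s := ⟨_, rfl⟩
  have hu₀0 : u₀ ≠ 0 := by
    intro h0
    apply hQu
    have : u = polar Q u s' • s := by
      have := hu₀.symm; rw [h0, sub_eq_zero] at this; exact this
    rw [this, QuadraticMap.map_smul, hQs, smul_zero]
  have hu₀s : polar Q u₀ s = 0 := by
    rw [hu₀, polar_sub_left, polar_smul_left, hus, polar_self_of_singular Q hQs]; simp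
  have hu₀s' : polar Q u₀ s' = 0 := by
    rw [hu₀, polar_sub_left, polar_smul_left, hss']; simp
  obtain ⟨t, -, hu₀t⟩ := exists_polar_eq_one Q ⊤ hUtop (Submodule.mem_top (x := u₀)) hu₀0
  obtain ⟨y, hy⟩ : ∃ y, y = t - polar Q s' t • s - polar Q s t • s' := ⟨_, rfl⟩
  have hsy : polar Q s y = 0 := by
    rw [hy, polar_sub_right, polar_sub_right, polar_smul_right, polar_smul_right,
      polar_self_of_singular Q hQs, hss']
    simp
  have huy : polar Q y u = 1 := by
    have h1 : polar Q u₀ y = 1 := by
      rw [hy, polar_sub_right, polar_sub_right, polar_smul_right, polar_smul_right, hu₀s, hu₀s',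
        hu₀t]
      simp
    have h3 : u = u₀ + polar Q u s' • s := by rw [hu₀]; abel
    rw [h3, polar_add_right, polar_smul_right, polar_comm Q y s, hsy, polar_comm Q y u₀, h1]
    simp
  refine ⟨siegelMap Q s y, Q_siegelMap Q hQs hsy, ?_⟩
  rw [siegelMap_apply, huy, polar_comm Q s u, hus, hs]
  simp

end Generic

variable {F : Type*} [Field F] {ι : Type} [Fintype ι] [DecidableEq ι] (Q : QuadraticForm F (ι → F))

section CharTwo

variable [Fintype F] [CharP F 2]

/-- all orthogonal transvections are conjugate -/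
theorem exists_conj_tG (hQ : (polarBilin Q).Nondegenerate)
    (hex : Fintype.card F ≠ 2 ∨ Fintype.card ι ≠ 4) {u w : ι → F} (hu : Q u ≠ 0) (hw : Q w ≠ 0) :
    ∃ h : ↥(Cfsg.isometryGroup F (⇑Q)), h * tG Q w = tG Q u * h := by
  have hchar : ringChar F = 2 := ringChar.eq F 2
  obtain ⟨c, hc⟩ := FiniteField.isSquare_of_char_two hchar (Q u / Q w)
  have hc0 : c ≠ 0 := by
    rintro rfl
    rw [mul_zero] at hc
    exact div_ne_zero hu hw hc
  have hQcw : Q (c • w) = Q u := by
    rw [QuadraticMap.map_smul, ← hc, smul_eq_mul]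
    field_simp
  have hQcw0 : Q (c • w) ≠ 0 := by rw [hQcw]; exact hu
  obtain ⟨h₀, hh₀, hh₀w⟩ := exists_isometry_map_nonsingular Q hQ hQcw0 hQcw
  obtain ⟨h, hh⟩ := exists_toEnd_eq Q hQ hex h₀ hh₀
  refine ⟨h, ?_⟩
  have h1 := mul_tG Q h hQcw0
  rw [hh, hh₀w] at h1
  have h3 : tG Q (c • w) = tG Q w := by
    apply toEnd_injective
    rw [toEnd_tG Q hQcw0, toEnd_tG Q hw, refl_smul Q hc0]
  rw [h3] at h1
  exact h1

theorem tG_mul_tG_mem_commutator (hQ : (polarBilin Q).Nondegenerate)
    (hex : Fintype.card F ≠ 2 ∨ Fintype.card ι ≠ 4) {u w : ι → F} (hu : Q u ≠ 0) (hw : Q w ≠ 0) :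
    tG Q u * tG Q w ∈ commutator ↥(Cfsg.isometryGroup F (⇑Q)) := by
  obtain ⟨h, hh⟩ := exists_conj_tG Q hQ hex hu hw
  rw [← Abelianization.ker_of, MonoidHom.mem_ker, map_mul]
  have h1 := congrArg Abelianization.of hh
  rw [map_mul, map_mul, mul_comm] at h1
  have h2 : Abelianization.of (tG Q w) = Abelianization.of (tG Q u) := mul_right_cancel h1
  rw [h2, ← map_mul, tG_mul_self Q hu, map_one]

theorem prod_tG_mem_commutator_of_even (hQ : (polarBilin Q).Nondegenerate)
    (hex : Fintype.card F ≠ 2 ∨ Fintype.card ι ≠ 4) :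
    ∀ (m : ℕ) (vs : List (ι → F)), vs.length = 2 * m → (∀ v ∈ vs, Q v ≠ 0) →
      (vs.map (tG Q)).prod ∈ commutator ↥(Cfsg.isometryGroup F (⇑Q)) := by
  intro m
  induction m with
  | zero =>
    intro vs hlen _
    have : vs = [] := List.length_eq_zero_iff.1 (by omega)
    subst this
    simp
  | succ m ih =>
    intro vs hlen hvs
    match vs, hlen, hvs with
    | [], hlen, _ => simp at hlen
    | [u], hlen, _ => simp at hlen; omega
    | u :: v :: rest, hlen, hvs =>
      have hu : Q u ≠ 0 := hvs u (by simp)
      have hv : Q v ≠ 0 := hvs v (by simp)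
      rw [List.map_cons, List.prod_cons, List.map_cons, List.prod_cons, ← mul_assoc]
      exact Subgroup.mul_mem _ (tG_mul_tG_mem_commutator Q hQ hex hu hv)
        (ih rest (by simp at hlen; omega) (fun w hw => hvs w (by simp [hw])))

/-- the parity of the length of a decomposition is the parity of `rank (1 - g)` -/
theorem rank_mod_two_prod_tG (hQ : (polarBilin Q).Nondegenerate) (vs : List (ι → F))
    (hvs : ∀ v ∈ vs, Q v ≠ 0) :
    finrank F ↥(LinearMap.range (1 - toEnd Q (vs.map (tG Q)).prod)) % 2 = vs.length % 2 := by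
  rw [toEnd_prod_tG Q vs hvs]
  exact finrank_range_one_sub_prod_refl Q hQ vs hvs

/-- a product of `k` orthogonal transvections lies in `Ω` iff `k` is even -/
theorem prod_tG_mem_commutator_iff (hQ : (polarBilin Q).Nondegenerate)
    (hex : Fintype.card F ≠ 2 ∨ Fintype.card ι ≠ 4) (vs : List (ι → F))
    (hvs : ∀ v ∈ vs, Q v ≠ 0) :
    (vs.map (tG Q)).prod ∈ commutator ↥(Cfsg.isometryGroup F (⇑Q)) ↔ Even vs.length := by
  constructor
  · intro hmem
    -- the even-length products form a subgroup containing all commutators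
    let S : Subgroup ↥(Cfsg.isometryGroup F (⇑Q)) :=
      { carrier := {g | Even (finrank F ↥(LinearMap.range (1 - toEnd Q g)))}
        mul_mem' := by
          intro a b ha hb
          obtain ⟨as, has, rfl⟩ := exists_prod_tG Q hQ hex a
          obtain ⟨bs, hbs, rfl⟩ := exists_prod_tG Q hQ hex b
          have h1 := rank_mod_two_prod_tG Q hQ as has
          have h2 := rank_mod_two_prod_tG Q hQ bs hbs
          have h3 := rank_mod_two_prod_tG Q hQ (as ++ bs) (by
            intro v hv
            rcases List.mem_append.1 hv with h | h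
            · exact has v h
            · exact hbs v h)
          rw [List.map_append, List.prod_append, List.length_append] at h3
          rw [Set.mem_setOf_eq, Nat.even_iff] at ha hb ⊢
          omega
        one_mem' := by
          rw [Set.mem_setOf_eq, map_one, sub_self, LinearMap.range_zero, finrank_bot]
          exact ⟨0, rfl⟩
        inv_mem' := by
          intro a ha
          obtain ⟨as, has, rfl⟩ := exists_prod_tG Q hQ hex a
          have h1 := rank_mod_two_prod_tG Q hQ as has
          have h2 := rank_mod_two_prod_tG Q hQ as.reverse (fun v hv => has v (List.mem_reverse.1 hv))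
          rw [List.length_reverse] at h2
          rw [Set.mem_setOf_eq, Nat.even_iff] at ha ⊢
          rw [prod_tG_inv Q as has]
          omega }
    have hle : commutator ↥(Cfsg.isometryGroup F (⇑Q)) ≤ S := by
      rw [commutator_def, Subgroup.commutator_le]
      intro a _ b _
      obtain ⟨as, has, rfl⟩ := exists_prod_tG Q hQ hex a
      obtain ⟨bs, hbs, rfl⟩ := exists_prod_tG Q hQ hex b
      have h3 := rank_mod_two_prod_tG Q hQ (as ++ bs ++ as.reverse ++ bs.reverse) (by
        intro v hv
        simp only [List.mem_append, List.mem_reverse] at hv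
        rcases hv with ((h | h) | h) | h
        · exact has v h
        · exact hbs v h
        · exact has v h
        · exact hbs v h)
      rw [List.map_append, List.map_append, List.map_append, List.prod_append, List.prod_append,
        List.prod_append, List.length_append, List.length_append, List.length_append,
        List.length_reverse, List.length_reverse] at h3
      show Even _
      rw [commutatorElement_def, prod_tG_inv Q as has, prod_tG_inv Q bs hbs, Nat.even_iff]
      omega
    have := hle hmem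
    have h1 := rank_mod_two_prod_tG Q hQ vs hvs
    change Even _ at this
    rw [Nat.even_iff] at this ⊢
    omega
  · rintro ⟨m, hm⟩
    exact prod_tG_mem_commutator_of_even Q hQ hex m vs (by omega) hvs

/-- **Ω in characteristic two**: `g ∈ Ω` iff `rank (1 - g)` is even -/
theorem mem_commutator_iff_even_rank (hQ : (polarBilin Q).Nondegenerate)
    (hex : Fintype.card F ≠ 2 ∨ Fintype.card ι ≠ 4) (g : ↥(Cfsg.isometryGroup F (⇑Q))) :
    g ∈ commutator ↥(Cfsg.isometryGroup F (⇑Q)) ↔
      Even (finrank F ↥(LinearMap.range (1 - toEnd Q g))) := by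
  obtain ⟨vs, hvs, rfl⟩ := exists_prod_tG Q hQ hex g
  rw [prod_tG_mem_commutator_iff Q hQ hex vs hvs]
  have h1 := rank_mod_two_prod_tG Q hQ vs hvs
  rw [Nat.even_iff, Nat.even_iff]
  omega

/-- `Ω` has index two in characteristic two -/
theorem index_Omega_char_two (hQ : (polarBilin Q).Nondegenerate)
    (hex : Fintype.card F ≠ 2 ∨ Fintype.card ι ≠ 4) {u : ι → F} (hu : Q u ≠ 0) :
    (Cfsg.Omega F (⇑Q)).index = 2 := by
  show (commutator ↥(Cfsg.isometryGroup F (⇑Q))).index = 2
  rw [Subgroup.index_eq_two_iff]
  refine ⟨tG Q u, ?_⟩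
  intro b
  obtain ⟨vs, hvs, rfl⟩ := exists_prod_tG Q hQ hex b
  have h1 : (vs.map (tG Q)).prod * tG Q u = ((vs ++ [u]).map (tG Q)).prod := by
    rw [List.map_append, List.prod_append]; simp
  have hvs' : ∀ v ∈ vs ++ [u], Q v ≠ 0 := by
    intro v hv
    rcases List.mem_append.1 hv with h | h
    · exact hvs v h
    · rw [List.mem_singleton] at h; rw [h]; exact hu
  rw [h1, prod_tG_mem_commutator_iff Q hQ hex _ hvs', prod_tG_mem_commutator_iff Q hQ hex _ hvs,
    List.length_append, List.length_singleton]
  rcases Nat.even_or_odd vs.length with he | ho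
  · exact Or.inr ⟨he, fun h => (Nat.not_even_iff_odd.2 (he.add_one)) h⟩
  · exact Or.inl ⟨ho.add_one, fun h => (Nat.not_even_iff_odd.2 ho) h⟩

end CharTwo

end Cfsg.Agent.Helper17.Spinor

namespace Cfsg.Agent.Helper17.Spinor
open Cfsg QuadraticMap Module

/-- a non-degenerate form on a non-zero space has a non-singular vector -/
theorem exists_nonsingular {F : Type*} [Field F] {ι : Type} [Fintype ι] [Nonempty ι]
    (Q : QuadraticForm F (ι → F)) (hQ : (polarBilin Q).Nondegenerate) : ∃ u : ι → F, Q u ≠ 0 := by
  have hUtop : (⊤ : Submodule F (ι → F)) ⊓ LinearMap.BilinForm.orthogonal (polarBilin Q) ⊤ = ⊥ := by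
    rw [eq_bot_iff]
    intro x hx
    have hx2 := hx.2
    rw [SetLike.mem_coe, mem_orthogonal_iff'] at hx2
    have : x = 0 := hQ.2 x (fun y => hx2 y Submodule.mem_top)
    rw [this]; exact Submodule.zero_mem _
  have hne : (⊤ : Submodule F (ι → F)) ≠ ⊥ := by
    intro h
    have h1 : (fun _ : ι => (1 : F)) ∈ (⊤ : Submodule F (ι → F)) := Submodule.mem_top
    rw [h, Submodule.mem_bot] at h1
    have := congrFun h1 (Classical.arbitrary ι)
    exact one_ne_zero this
  obtain ⟨v, -, hv⟩ := exists_nonsingular_of_ne_bot Q ⊤ hUtop hne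
  exact ⟨v, hv⟩

end Cfsg.Agent.Helper17.Spinor
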