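import Mathlib
import Cfsg.Prelude.Def_Classical
import Cfsg.Prelude.Def_ClassicalGeometry
import Cfsg.Agent.Lib.Helper17.SpinorOmega

/-!
# The spinor norm criterion for the commutator subgroup of an orthogonal group (helper17)

`mem_commutator_iff` : for `Q` on `F^ι` with non-degenerate polar form over a finite field with
`2 ≠ 0`, an isometry `g` whose endomorphism is the product of the reflections in `vs` lies in the
commutator subgroup iff `vs` has even length and the product of the `Q v` is a square.
-/

set_option autoImplicit false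

namespace Cfsg.Agent.Helper17.Spinor
open Cfsg

variable {F : Type*} [Field F] {ι : Type} [Fintype ι] [DecidableEq ι] (Q : QuadraticForm F (ι → F))

/-- The isometries which are a product of an even number of reflections with square norm product. -/
def IsEvenSquare (g : ↥(Cfsg.isometryGroup F (⇑Q))) : Prop :=
  ∃ us : List (ι → F), (∀ u ∈ us, Q u ≠ 0) ∧ Even us.length ∧ IsSquare (us.map Q).prod ∧
    toEnd Q g = (us.map (refl Q)).prod

theorem toEnd_inv_eq (h2 : (2 : F) ≠ 0) (g : ↥(Cfsg.isometryGroup F (⇑Q))) (us : List (ι → F))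
    (hus : ∀ u ∈ us, Q u ≠ 0) (hg : toEnd Q g = (us.map (refl Q)).prod) :
    toEnd Q g⁻¹ = (us.reverse.map (refl Q)).prod := by
  have h1 : toEnd Q g⁻¹ * toEnd Q g = 1 := by rw [← map_mul, inv_mul_cancel, map_one]
  have h3 := prod_refl_mul_prod_reverse Q h2 us hus
  calc toEnd Q g⁻¹ = toEnd Q g⁻¹ * ((us.map (refl Q)).prod * (us.reverse.map (refl Q)).prod) := by
        rw [h3, mul_one]
    _ = (us.reverse.map (refl Q)).prod := by rw [← mul_assoc, ← hg, h1, one_mul]

theorem isEvenSquare_one : IsEvenSquare Q 1 :=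
  ⟨[], by simp, by simp, by simp, by simp⟩

theorem IsEvenSquare.mul {a b : ↥(Cfsg.isometryGroup F (⇑Q))} (ha : IsEvenSquare Q a)
    (hb : IsEvenSquare Q b) : IsEvenSquare Q (a * b) := by
  obtain ⟨as, has, hae, has2, haa⟩ := ha
  obtain ⟨bs, hbs, hbe, hbs2, hbb⟩ := hb
  refine ⟨as ++ bs, ?_, ?_, ?_, ?_⟩
  · intro u hu
    rcases List.mem_append.1 hu with h | h
    · exact has u h
    · exact hbs u h
  · rw [List.length_append]; exact hae.add hbe
  · rw [List.map_append, List.prod_append]; exact has2.mul hbs2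
  · rw [map_mul, haa, hbb, List.map_append, List.prod_append]

theorem IsEvenSquare.inv (h2 : (2 : F) ≠ 0) {a : ↥(Cfsg.isometryGroup F (⇑Q))}
    (ha : IsEvenSquare Q a) : IsEvenSquare Q a⁻¹ := by
  obtain ⟨as, has, hae, has2, haa⟩ := ha
  refine ⟨as.reverse, ?_, ?_, ?_, ?_⟩
  · intro u hu
    exact has u (List.mem_reverse.1 hu)
  · rw [List.length_reverse]; exact hae
  · rw [List.map_reverse, List.prod_reverse]; exact has2
  · exact toEnd_inv_eq Q h2 a as has haa

/-- the subgroup of even-square isometries -/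
def evenSquare (h2 : (2 : F) ≠ 0) : Subgroup ↥(Cfsg.isometryGroup F (⇑Q)) where
  carrier := {g | IsEvenSquare Q g}
  mul_mem' ha hb := IsEvenSquare.mul Q ha hb
  one_mem' := isEvenSquare_one Q
  inv_mem' ha := IsEvenSquare.inv Q h2 ha

theorem commutator_le_evenSquare (h2 : (2 : F) ≠ 0)
    (hQ : (QuadraticMap.polarBilin Q).Nondegenerate) :
    commutator ↥(Cfsg.isometryGroup F (⇑Q)) ≤ evenSquare Q h2 := by
  rw [commutator_def, Subgroup.commutator_le]
  intro a _ b _
  obtain ⟨as, has, haa⟩ := cartan_dieudonne Q h2 hQ (toEnd Q a) (toEnd_isometry Q a)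
  obtain ⟨bs, hbs, hbb⟩ := cartan_dieudonne Q h2 hQ (toEnd Q b) (toEnd_isometry Q b)
  refine ⟨as ++ bs ++ as.reverse ++ bs.reverse, ?_, ?_, ?_, ?_⟩
  · intro u hu
    simp only [List.mem_append, List.mem_reverse] at hu
    rcases hu with ((h | h) | h) | h
    · exact has u h
    · exact hbs u h
    · exact has u h
    · exact hbs u h
  · simp only [List.length_append, List.length_reverse]
    exact ⟨as.length + bs.length, by ring⟩
  · simp only [List.map_append, List.prod_append, List.map_reverse, List.prod_reverse]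
    exact ⟨(as.map Q).prod * (bs.map Q).prod, by ring⟩
  · rw [commutatorElement_def, map_mul, map_mul, map_mul, toEnd_inv_eq Q h2 a as has haa,
      toEnd_inv_eq Q h2 b bs hbs hbb, haa, hbb]
    simp only [List.map_append, List.prod_append]

theorem det_refl {v : ι → F} (hv : Q v ≠ 0) : LinearMap.det (refl Q v) = -1 := by
  rw [← toLin'_reflectionMatrix, LinearMap.det_toLin', det_reflectionMatrix Q hv]

theorem det_prod_refl (vs : List (ι → F)) (hvs : ∀ v ∈ vs, Q v ≠ 0) :
    LinearMap.det (vs.map (refl Q)).prod = (-1) ^ vs.length := by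
  induction vs with
  | nil => simp
  | cons v vs ih =>
    rw [List.map_cons, List.prod_cons, map_mul, det_refl Q (hvs v List.mem_cons_self),
      ih (fun u hu => hvs u (List.mem_cons_of_mem _ hu)), List.length_cons, pow_succ, mul_comm]

/-- evenness of the number of reflections, and the class of the norm product mod squares,
depend only on the isometry -/
theorem even_and_isSquare_of_prod_eq (h2 : (2 : F) ≠ 0)
    (hQ : (QuadraticMap.polarBilin Q).Nondegenerate) (vs us : List (ι → F))
    (hvs : ∀ v ∈ vs, Q v ≠ 0) (hus : ∀ u ∈ us, Q u ≠ 0)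
    (h : (vs.map (refl Q)).prod = (us.map (refl Q)).prod)
    (hue : Even us.length) (husq : IsSquare (us.map Q).prod) :
    Even vs.length ∧ IsSquare (vs.map Q).prod := by
  have hne : (-1 : F) ≠ 1 := by
    intro h1
    apply h2
    have : (2 : F) = 1 - (-1) := by ring
    rw [this, h1, sub_self]
  have hve : Even vs.length := by
    have h1 := congrArg LinearMap.det h
    rw [det_prod_refl Q vs hvs, det_prod_refl Q us hus, hue.neg_one_pow] at h1
    exact (neg_one_pow_eq_one_iff_even hne).1 h1
  refine ⟨hve, ?_⟩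
  have hid : ((vs ++ us.reverse).map (refl Q)).prod = 1 := by
    rw [List.map_append, List.prod_append, h]
    exact prod_refl_mul_prod_reverse Q h2 us hus
  have hsq := isSquare_of_prod_reflections_eq_id Q h2 hQ (vs ++ us.reverse) (by
    intro v hv
    rcases List.mem_append.1 hv with h | h
    · exact hvs v h
    · exact hus v (List.mem_reverse.1 h)) (by
    rw [List.length_append, List.length_reverse]; exact hve.add hue) hid
  rw [List.map_append, List.prod_append, List.map_reverse, List.prod_reverse] at hsq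
  obtain ⟨s, hs⟩ := husq
  obtain ⟨t, ht⟩ := hsq
  have hu0 : (us.map Q).prod ≠ 0 := by
    apply List.prod_ne_zero
    intro h0
    rw [List.mem_map] at h0
    obtain ⟨w, hw, hw0⟩ := h0
    exact hus w hw hw0
  have hs0 : s ≠ 0 := by
    rintro rfl
    rw [mul_zero] at hs
    exact hu0 hs
  refine ⟨t / s, ?_⟩
  rw [hs] at ht
  field_simp
  rw [pow_two, pow_two, ← ht]

/-- **Spinor norm criterion** (finite field, `2 ≠ 0`, non-degenerate polar form). -/
theorem mem_commutator_iff [Fintype F] (h2 : (2 : F) ≠ 0)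
    (hQ : (QuadraticMap.polarBilin Q).Nondegenerate) (g : ↥(Cfsg.isometryGroup F (⇑Q)))
    (vs : List (ι → F)) (hvs : ∀ v ∈ vs, Q v ≠ 0)
    (hg : toEnd Q g = (vs.map (refl Q)).prod) :
    g ∈ commutator ↥(Cfsg.isometryGroup F (⇑Q)) ↔
      (Even vs.length ∧ IsSquare (vs.map Q).prod) := by
  constructor
  · intro hgc
    obtain ⟨us, hus, hue, husq, hgu⟩ := commutator_le_evenSquare Q h2 hQ hgc
    exact even_and_isSquare_of_prod_eq Q h2 hQ vs us hvs hus (hg.symm.trans hgu) hue husq
  · rintro ⟨he, hsq⟩
    have h1 := prod_rG_mem_commutator Q h2 vs hvs he hsq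
    have h3 : g = (vs.map (rG Q h2)).prod := by
      apply toEnd_injective
      rw [hg, toEnd_prod_rG Q h2 vs hvs]
    rw [h3]
    exact h1

/-- the criterion with the hypothesis in matrix form -/
theorem mem_Omega_iff [Fintype F] (h2 : (2 : F) ≠ 0)
    (hQ : (QuadraticMap.polarBilin Q).Nondegenerate) (g : ↥(Cfsg.isometryGroup F (⇑Q)))
    (vs : List (ι → F)) (hvs : ∀ v ∈ vs, Q v ≠ 0)
    (hg : ((g : Matrix.GeneralLinearGroup ι F) : Matrix ι ι F)
      = (vs.map (fun v => Cfsg.reflectionMatrix (⇑Q) v)).prod) :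
    g ∈ Cfsg.Omega F (⇑Q) ↔ (Even vs.length ∧ IsSquare (vs.map (fun v => Q v)).prod) := by
  have h : toEnd Q g = (vs.map (refl Q)).prod := by
    show Matrix.toLin' _ = _
    rw [hg]
    clear hg hvs
    induction vs with
    | nil => simp; rfl
    | cons v vs ih =>
      rw [List.map_cons, List.prod_cons, Matrix.toLin'_mul, ih, toLin'_reflectionMatrix,
        List.map_cons, List.prod_cons]
      rfl
  exact mem_commutator_iff Q h2 hQ g vs hvs h

end Cfsg.Agent.Helper17.Spinor
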