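import Mathlib
import Cfsg.Prelude.Def_Classical
import Cfsg.Prelude.Def_ClassicalGeometry
import Cfsg.Agent.Lib.Helper17.SpinorNorm

/-!
# Involutions negating hyperbolic pairs, and the spinor norm (helper17)

For a quadratic form on `F^ι` in which the coordinates `a_j, b_j` (`j < i`) form mutually orthogonal
hyperbolic pairs orthogonal to all other coordinates, the diagonal involution negating these
coordinates is a product of `2 i` reflections whose norms multiply to `(-1)^i`; hence over a finite
field with `q` elements (`q` odd) it lies in the commutator subgroup iff `q^i ≡ 1 mod 4`.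
-/

set_option autoImplicit false

namespace Cfsg.Agent.Helper17.Spinor
open Cfsg QuadraticMap

section Generic

variable {F : Type*} [Field F] {V : Type*} [AddCommGroup V] [Module F V] (Q : QuadraticForm F V)

theorem Q_pair_add {e f : V} (he : Q e = 0) (hf : Q f = 0) (hef : polar Q e f = 1) :
    Q (e + f) = 1 := by
  rw [Q_add, he, hf, hef]; ring

theorem Q_pair_sub {e f : V} (he : Q e = 0) (hf : Q f = 0) (hef : polar Q e f = 1) :
    Q (e - f) = -1 := by
  have h := Q_sub_smul Q e f 1
  rw [one_smul] at h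
  rw [h, he, hf, hef]; ring

theorem refl_pair_left {e f : V} (he : Q e = 0) (hf : Q f = 0) (hef : polar Q e f = 1) :
    refl Q (e + f) (refl Q (e - f) e) = -e := by
  have h1 : polar Q (e - f) e = -1 := by
    rw [polar_sub_left, polar_self, he, polar_comm Q f e, hef]; simp
  have h2 : polar Q (e + f) f = 1 := by
    rw [polar_add_left, polar_self, hf, hef]; simp
  rw [refl_apply Q (e - f) e, h1, Q_pair_sub Q he hf hef]
  have h3 : ((-1 : F)⁻¹ * -1) = 1 := by norm_num
  rw [h3, one_smul, sub_sub_cancel, refl_apply, h2, Q_pair_add Q he hf hef]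
  simp

theorem refl_pair_right {e f : V} (he : Q e = 0) (hf : Q f = 0) (hef : polar Q e f = 1) :
    refl Q (e + f) (refl Q (e - f) f) = -f := by
  have h1 : polar Q (e - f) f = 1 := by
    rw [polar_sub_left, polar_self, hf, hef]; simp
  have h2 : polar Q (e + f) e = 1 := by
    rw [polar_add_left, polar_self, he, polar_comm Q f e, hef]; simp
  rw [refl_apply Q (e - f) f, h1, Q_pair_sub Q he hf hef]
  have h3 : ((-1 : F)⁻¹ * 1) = -1 := by norm_num
  have h4 : f - (-1 : F) • (e - f) = e := by
    rw [neg_smul, one_smul, sub_neg_eq_add]; abel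
  rw [h3, h4, refl_apply, h2, Q_pair_add Q he hf hef]
  simp

theorem refl_pair_orth {e f x : V} (hex : polar Q e x = 0) (hfx : polar Q f x = 0) :
    refl Q (e + f) (refl Q (e - f) x) = x := by
  have h1 : polar Q (e - f) x = 0 := by rw [polar_sub_left, hex, hfx, sub_zero]
  have h2 : polar Q (e + f) x = 0 := by rw [polar_add_left, hex, hfx, add_zero]
  rw [refl_apply_of_polar_eq_zero Q _ _ h1, refl_apply_of_polar_eq_zero Q _ _ h2]

end Generic

variable {F : Type*} [Field F] {ι : Type} [Fintype ι] [DecidableEq ι] (Q : QuadraticForm F (ι → F))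

/-- The coordinates `a`, `b` form a hyperbolic pair orthogonal to the other coordinates. -/
structure IsHypPair (a b : ι) : Prop where
  ne : a ≠ b
  Qa : Q (Pi.single a 1) = 0
  Qb : Q (Pi.single b 1) = 0
  polar_ab : polar Q (Pi.single a 1) (Pi.single b 1) = 1
  polar_a : ∀ k, k ≠ a → k ≠ b → polar Q (Pi.single a 1) (Pi.single k 1) = 0
  polar_b : ∀ k, k ≠ a → k ≠ b → polar Q (Pi.single b 1) (Pi.single k 1) = 0

theorem reflectionMatrix_pair {a b : ι} (h : IsHypPair Q a b) :
    Cfsg.reflectionMatrix (⇑Q) (Pi.single a 1 + Pi.single b 1)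
      * Cfsg.reflectionMatrix (⇑Q) (Pi.single a 1 - Pi.single b 1)
      = Matrix.diagonal (fun k => if k = a ∨ k = b then (-1 : F) else 1) := by
  apply Matrix.ext_of_mulVec_single
  intro k
  rw [← Matrix.mulVec_mulVec, reflectionMatrix_mulVec, reflectionMatrix_mulVec,
    Matrix.diagonal_mulVec_single, mul_one]
  by_cases hka : k = a
  · subst hka
    rw [refl_pair_left Q h.Qa h.Qb h.polar_ab, if_pos (Or.inl rfl), ← Pi.single_neg]
  · by_cases hkb : k = b
    · subst hkb
      rw [refl_pair_right Q h.Qa h.Qb h.polar_ab, if_pos (Or.inr rfl), ← Pi.single_neg]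
    · rw [refl_pair_orth Q (h.polar_a k hka hkb) (h.polar_b k hka hkb), if_neg (by tauto)]

/-- the involution negating `i` hyperbolic pairs of coordinates as a product of reflections -/
theorem exists_refl_list_diagonal (idx : ι → ℕ) :
    ∀ i : ℕ, (∀ j < i, ∃ a b : ι, IsHypPair Q a b ∧ ∀ k, idx k = j ↔ (k = a ∨ k = b)) →
      ∃ vs : List (ι → F), (∀ v ∈ vs, Q v ≠ 0) ∧ vs.length = 2 * i ∧ (vs.map Q).prod = (-1) ^ i ∧
        (vs.map (fun v => Cfsg.reflectionMatrix (⇑Q) v)).prod
          = Matrix.diagonal (fun k => if idx k < i then (-1 : F) else 1) := by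
  intro i
  induction i with
  | zero =>
    intro _
    exact ⟨[], by simp, by simp, by simp, by simp⟩
  | succ i ih =>
    intro hyp
    obtain ⟨vs, hvs, hlen, hprod, hmat⟩ := ih (fun j hj => hyp j (Nat.lt_succ_of_lt hj))
    obtain ⟨a, b, hab, hidx⟩ := hyp i (Nat.lt_succ_self i)
    have hu : Q (Pi.single a 1 + Pi.single b 1) = 1 := Q_pair_add Q hab.Qa hab.Qb hab.polar_ab
    have hw : Q (Pi.single a 1 - Pi.single b 1) = -1 := Q_pair_sub Q hab.Qa hab.Qb hab.polar_ab
    refine ⟨vs ++ [Pi.single a 1 + Pi.single b 1, Pi.single a 1 - Pi.single b 1], ?_, ?_, ?_, ?_⟩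
    · intro v hv
      rcases List.mem_append.1 hv with h | h
      · exact hvs v h
      · simp only [List.mem_cons, List.not_mem_nil, or_false] at h
        rcases h with rfl | rfl
        · rw [hu]; exact one_ne_zero
        · rw [hw]; exact neg_ne_zero.2 one_ne_zero
    · rw [List.length_append, hlen]; simp; ring
    · rw [List.map_append, List.prod_append, hprod]
      simp only [List.map_cons, List.map_nil, List.prod_cons, List.prod_nil, hu, hw]
      ring
    · rw [List.map_append, List.prod_append, hmat]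
      simp only [List.map_cons, List.map_nil, List.prod_cons, List.prod_nil, mul_one]
      rw [reflectionMatrix_pair Q hab, Matrix.diagonal_mul_diagonal]
      congr 1
      funext k
      by_cases hk : idx k = i
      · rw [if_neg (by omega), if_pos ((hidx k).1 hk), if_pos (by omega), one_mul]
      · rw [if_neg (fun h => hk ((hidx k).2 h)), mul_one]
        by_cases hk2 : idx k < i
        · rw [if_pos hk2, if_pos (by omega)]
        · rw [if_neg hk2, if_neg (by omega)]

theorem coe_prod_rG (h2 : (2 : F) ≠ 0) (vs : List (ι → F)) (hvs : ∀ v ∈ vs, Q v ≠ 0) :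
    ((((vs.map (rG Q h2)).prod : ↥(Cfsg.isometryGroup F (⇑Q))) :
        Matrix.GeneralLinearGroup ι F) : Matrix ι ι F)
      = (vs.map (fun v => Cfsg.reflectionMatrix (⇑Q) v)).prod := by
  induction vs with
  | nil => simp
  | cons v vs ih =>
    rw [List.map_cons, List.prod_cons, List.map_cons, List.prod_cons, Subgroup.coe_mul,
      Units.val_mul, ih (fun u hu => hvs u (List.mem_cons_of_mem _ hu)),
      rG_coe Q h2 (hvs v List.mem_cons_self)]

theorem isSquare_neg_one_pow_iff [Fintype F] {q : ℕ} (hF : Fintype.card F = q) (hq : Odd q)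
    (i : ℕ) : IsSquare ((-1 : F) ^ i) ↔ q ^ i % 4 = 1 := by
  have hq4 : q % 4 = 1 ∨ q % 4 = 3 := by
    obtain ⟨k, hk⟩ := hq
    omega
  rcases Nat.even_or_odd i with hi | hi
  · rw [hi.neg_one_pow]
    obtain ⟨k, hk⟩ := hi
    have h1 : q ^ i % 4 = 1 := by
      rw [hk, ← two_mul, pow_mul, Nat.pow_mod]
      have : q ^ 2 % 4 = 1 := by
        rw [Nat.pow_mod]
        rcases hq4 with h | h <;> rw [h]
      rw [this, one_pow]; rfl
    exact ⟨fun _ => h1, fun _ => ⟨1, by ring⟩⟩
  · rw [hi.neg_one_pow, FiniteField.isSquare_neg_one_iff, hF]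
    obtain ⟨k, hk⟩ := hi
    have h1 : q ^ i % 4 = q % 4 := by
      rw [hk, pow_succ, pow_mul, Nat.mul_mod, Nat.pow_mod]
      have : q ^ 2 % 4 = 1 := by
        rw [Nat.pow_mod]
        rcases hq4 with h | h <;> rw [h]
      rw [this, one_pow]
      omega
    rw [h1]
    omega

/-- **Negating hyperbolic pairs**: over a finite field of odd order `q`, the involution negating
`i` hyperbolic pairs of coordinates lies in the commutator subgroup iff `q ^ i ≡ 1 mod 4`. -/
theorem exists_mem_Omega_diagonal_iff [Fintype F] {q : ℕ} (hF : Fintype.card F = q) (hq : Odd q)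
    (hQ : (QuadraticMap.polarBilin Q).Nondegenerate) (idx : ι → ℕ) (i : ℕ)
    (hyp : ∀ j < i, ∃ a b : ι, IsHypPair Q a b ∧ ∀ k, idx k = j ↔ (k = a ∨ k = b)) :
    (∃ g : ↥(Cfsg.isometryGroup F (⇑Q)), g ∈ Cfsg.Omega F (⇑Q) ∧
      ((g : Matrix.GeneralLinearGroup ι F) : Matrix ι ι F)
        = Matrix.diagonal (fun k => if idx k < i then (-1 : F) else 1)) ↔ q ^ i % 4 = 1 := by
  have h2 : (2 : F) ≠ 0 := by
    have hc : ringChar F ≠ 2 := by
      intro h
      have := FiniteField.even_card_of_char_two h
      rw [hF] at this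
      have := Nat.odd_iff.1 hq
      omega
    exact Ring.two_ne_zero hc
  obtain ⟨vs, hvs, hlen, hprod, hmat⟩ := exists_refl_list_diagonal Q idx i hyp
  rw [← isSquare_neg_one_pow_iff hF hq i]
  constructor
  · rintro ⟨g, hgO, hg⟩
    have := (mem_Omega_iff Q h2 hQ g vs hvs (hg.trans hmat.symm)).1 hgO
    rw [← hprod]
    exact this.2
  · intro hsq
    refine ⟨(vs.map (rG Q h2)).prod, ?_, ?_⟩
    · rw [mem_Omega_iff Q h2 hQ _ vs hvs (coe_prod_rG Q h2 vs hvs)]
      refine ⟨⟨i, by rw [hlen]; ring⟩, ?_⟩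
      show IsSquare (vs.map (⇑Q)).prod
      rw [hprod]
      exact hsq
    · rw [coe_prod_rG Q h2 vs hvs, hmat]

end Cfsg.Agent.Helper17.Spinor
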