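import Mathlib
import Cfsg.Prelude.Def_Classical
import Cfsg.Prelude.Def_ClassicalGeometry
import Cfsg.Agent.Lib.Helper17.SpinorHyp
import Cfsg.Agent.Lib.Helper13.QuadFinite
import Cfsg.Agent.Lib.Helper13.MatQuad

/-!
# The index of the commutator subgroup in an orthogonal group, odd characteristic (helper17)

`index_Omega`: for `Q` on `F^ι` (at least two coordinates) with non-degenerate polar form over a
finite field with `2 ≠ 0`, the commutator subgroup has index `4`; it has index `2` in the special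
orthogonal group, which has index `2`.
-/

set_option autoImplicit false

namespace Cfsg.Agent.Helper17.Spinor
open Cfsg QuadraticMap

section Generic

variable {F : Type*} [Field F] {V : Type*} [AddCommGroup V] [Module F V] (Q : QuadraticForm F V)

theorem nondegenerate_smul {t : F} (ht : t ≠ 0) (hQ : (polarBilin Q).Nondegenerate) :
    (polarBilin (t • Q)).Nondegenerate := by
  have key : ∀ x y, polarBilin (t • Q) x y = t * polarBilin Q x y := by
    intro x y
    simp only [polarBilin_apply_apply]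
    rw [FunLike.coe_smul, polar_smul, smul_eq_mul]
  constructor
  · intro x hx
    apply hQ.1 x
    intro y
    have := hx y
    rw [key] at this
    rcases mul_eq_zero.1 this with h | h
    · exact absurd h ht
    · exact h
  · intro x hx
    apply hQ.2 x
    intro y
    have := hx y
    rw [key] at this
    rcases mul_eq_zero.1 this with h | h
    · exact absurd h ht
    · exact h

/-- a non-degenerate form in dimension at least two over a finite field of odd order is universal -/
theorem exists_repr [Fintype F] [FiniteDimensional F V] (h2 : (2 : F) ≠ 0)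
    (hQ : (polarBilin Q).Nondegenerate) (hdim : 2 ≤ Module.finrank F V) {t : F} (ht : t ≠ 0) :
    ∃ v : V, Q v = t := by
  obtain ⟨v, hv⟩ := Cfsg.Agent.Helper13.exists_repr_one h2 (t⁻¹ • Q)
    (nondegenerate_smul Q (inv_ne_zero ht) hQ) hdim
  refine ⟨v, ?_⟩
  rw [QuadraticMap.smul_apply, smul_eq_mul] at hv
  field_simp at hv
  exact hv

end Generic

variable {F : Type*} [Field F] {ι : Type} [Fintype ι] [DecidableEq ι] (Q : QuadraticForm F (ι → F))

theorem exists_prod_rG (h2 : (2 : F) ≠ 0) (hQ : (polarBilin Q).Nondegenerate)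
    (g : ↥(Cfsg.isometryGroup F (⇑Q))) :
    ∃ vs : List (ι → F), (∀ v ∈ vs, Q v ≠ 0) ∧ g = (vs.map (rG Q h2)).prod := by
  obtain ⟨vs, hvs, hgv⟩ := cartan_dieudonne Q h2 hQ (toEnd Q g) (toEnd_isometry Q g)
  refine ⟨vs, hvs, ?_⟩
  apply toEnd_injective
  rw [hgv, toEnd_prod_rG Q h2 vs hvs]

theorem det_coe_prod_rG (h2 : (2 : F) ≠ 0) (vs : List (ι → F)) (hvs : ∀ v ∈ vs, Q v ≠ 0) :
    ((((vs.map (rG Q h2)).prod : ↥(Cfsg.isometryGroup F (⇑Q))) :
        Matrix.GeneralLinearGroup ι F) : Matrix ι ι F).det = (-1) ^ vs.length := by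
  have h1 : ((((vs.map (rG Q h2)).prod : ↥(Cfsg.isometryGroup F (⇑Q))) :
        Matrix.GeneralLinearGroup ι F) : Matrix ι ι F).det
      = LinearMap.det (toEnd Q (vs.map (rG Q h2)).prod) := (LinearMap.det_toLin' _).symm
  rw [h1, toEnd_prod_rG Q h2 vs hvs, det_prod_refl Q vs hvs]

theorem mem_special_iff (g : ↥(Cfsg.isometryGroup F (⇑Q))) :
    g ∈ Cfsg.specialIsometryGroup F (⇑Q) ↔
      ((g : Matrix.GeneralLinearGroup ι F) : Matrix ι ι F).det = 1 := by
  constructor
  · intro hg
    have h1 : Matrix.GeneralLinearGroup.det (g : Matrix.GeneralLinearGroup ι F) = 1 := hg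
    have h3 := congrArg Units.val h1
    simpa using h3
  · intro hg
    show Matrix.GeneralLinearGroup.det (g : Matrix.GeneralLinearGroup ι F) = 1
    apply Units.ext
    rw [Matrix.GeneralLinearGroup.val_det_apply, hg]
    rfl

theorem neg_one_ne_one_of_two_ne_zero (h2 : (2 : F) ≠ 0) : (-1 : F) ≠ 1 := by
  intro h1
  apply h2
  have : (2 : F) = 1 - (-1) := by ring
  rw [this, h1, sub_self]

theorem prod_rG_mem_special_iff (h2 : (2 : F) ≠ 0) (vs : List (ι → F))
    (hvs : ∀ v ∈ vs, Q v ≠ 0) :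
    (vs.map (rG Q h2)).prod ∈ Cfsg.specialIsometryGroup F (⇑Q) ↔ Even vs.length := by
  rw [mem_special_iff, det_coe_prod_rG Q h2 vs hvs,
    neg_one_pow_eq_one_iff_even (neg_one_ne_one_of_two_ne_zero h2)]

theorem prod_rG_mem_Omega_iff [Fintype F] (h2 : (2 : F) ≠ 0) (hQ : (polarBilin Q).Nondegenerate)
    (vs : List (ι → F)) (hvs : ∀ v ∈ vs, Q v ≠ 0) :
    (vs.map (rG Q h2)).prod ∈ Cfsg.Omega F (⇑Q) ↔
      (Even vs.length ∧ IsSquare (vs.map (fun v => Q v)).prod) :=
  mem_Omega_iff Q h2 hQ _ vs hvs (coe_prod_rG Q h2 vs hvs)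

theorem Omega_le_special : Cfsg.Omega F (⇑Q) ≤ Cfsg.specialIsometryGroup F (⇑Q) :=
  Abelianization.commutator_subset_ker _

theorem index_special (h2 : (2 : F) ≠ 0) (hQ : (polarBilin Q).Nondegenerate) {u : ι → F}
    (hu : Q u ≠ 0) : (Cfsg.specialIsometryGroup F (⇑Q)).index = 2 := by
  rw [Subgroup.index_eq_two_iff]
  refine ⟨rG Q h2 u, ?_⟩
  intro b
  obtain ⟨vs, hvs, rfl⟩ := exists_prod_rG Q h2 hQ b
  have h1 : (vs.map (rG Q h2)).prod * rG Q h2 u = ((vs ++ [u]).map (rG Q h2)).prod := by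
    rw [List.map_append, List.prod_append]; simp
  have hvs' : ∀ v ∈ vs ++ [u], Q v ≠ 0 := by
    intro v hv
    rcases List.mem_append.1 hv with h | h
    · exact hvs v h
    · rw [List.mem_singleton] at h; rw [h]; exact hu
  rw [h1, prod_rG_mem_special_iff Q h2 _ hvs', prod_rG_mem_special_iff Q h2 _ hvs,
    List.length_append, List.length_singleton]
  rcases Nat.even_or_odd vs.length with he | ho
  · exact Or.inr ⟨he, fun h => (Nat.not_even_iff_odd.2 (he.add_one)) h⟩
  · exact Or.inl ⟨ho.add_one, fun h => (Nat.not_even_iff_odd.2 ho) h⟩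

theorem relIndex_Omega_special [Fintype F] (h2 : (2 : F) ≠ 0) (hQ : (polarBilin Q).Nondegenerate)
    (hn : 2 ≤ Fintype.card ι) :
    (Cfsg.Omega F (⇑Q)).relIndex (Cfsg.specialIsometryGroup F (⇑Q)) = 2 := by
  classical
  have hdim : 2 ≤ Module.finrank F (ι → F) := by
    rw [Module.finrank_fintype_fun_eq_card]; exact hn
  have hchar : ringChar F ≠ 2 := by
    intro h
    haveI : CharP F 2 := ringChar.of_eq h
    exact h2 CharTwo.two_eq_zero
  obtain ⟨t, ht⟩ := FiniteField.exists_nonsquare hchar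
  have ht0 : t ≠ 0 := by
    rintro rfl
    exact ht ⟨0, by ring⟩
  obtain ⟨u, hu⟩ := exists_repr Q h2 hQ hdim (one_ne_zero (α := F))
  obtain ⟨w, hw⟩ := exists_repr Q h2 hQ hdim ht0
  have hu0 : Q u ≠ 0 := by rw [hu]; exact one_ne_zero
  have hw0 : Q w ≠ 0 := by rw [hw]; exact ht0
  rw [Subgroup.relIndex, Subgroup.index_eq_two_iff]
  have ha : rG Q h2 u * rG Q h2 w ∈ Cfsg.specialIsometryGroup F (⇑Q) := by
    have := (prod_rG_mem_special_iff Q h2 [u, w] (by
      intro v hv
      simp only [List.mem_cons, List.not_mem_nil, or_false] at hv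
      rcases hv with rfl | rfl
      · exact hu0
      · exact hw0)).2 ⟨1, rfl⟩
    simpa using this
  refine ⟨⟨rG Q h2 u * rG Q h2 w, ha⟩, ?_⟩
  rintro ⟨b, hb⟩
  simp only [Subgroup.mem_subgroupOf, Subgroup.coe_mul]
  obtain ⟨vs, hvs, rfl⟩ := exists_prod_rG Q h2 hQ b
  have hev := (prod_rG_mem_special_iff Q h2 vs hvs).1 hb
  have h1 : (vs.map (rG Q h2)).prod * (rG Q h2 u * rG Q h2 w)
      = ((vs ++ [u, w]).map (rG Q h2)).prod := by
    rw [List.map_append, List.prod_append]; simp
  have hvs' : ∀ v ∈ vs ++ [u, w], Q v ≠ 0 := by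
    intro v hv
    rcases List.mem_append.1 hv with h | h
    · exact hvs v h
    · simp only [List.mem_cons, List.not_mem_nil, or_false] at h
      rcases h with rfl | rfl
      · exact hu0
      · exact hw0
  rw [h1, prod_rG_mem_Omega_iff Q h2 hQ _ hvs', prod_rG_mem_Omega_iff Q h2 hQ _ hvs]
  have hx0 : (vs.map (fun v => Q v)).prod ≠ 0 := prod_Q_ne_zero Q vs hvs
  have hprod : ((vs ++ [u, w]).map (fun v => Q v)).prod = (vs.map (fun v => Q v)).prod * t := by
    rw [List.map_append, List.prod_append]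
    simp [hu, hw]
  have hlen : Even (vs ++ [u, w]).length := by
    rw [List.length_append]
    exact hev.add ⟨1, rfl⟩
  rw [hprod, Cfsg.Agent.Helper13.isSquare_mul_nonsquare hx0 ht]
  by_cases hsq : IsSquare (vs.map (fun v => Q v)).prod
  · exact Or.inr ⟨⟨hev, hsq⟩, fun h => h.2 hsq⟩
  · exact Or.inl ⟨⟨hlen, hsq⟩, fun h => hsq h.2⟩

/-- **Index of the commutator subgroup of an orthogonal group** (finite field, odd order). -/
theorem index_Omega [Fintype F] (h2 : (2 : F) ≠ 0) (hQ : (polarBilin Q).Nondegenerate)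
    (hn : 2 ≤ Fintype.card ι) : (Cfsg.Omega F (⇑Q)).index = 4 := by
  have hdim : 2 ≤ Module.finrank F (ι → F) := by
    rw [Module.finrank_fintype_fun_eq_card]; exact hn
  obtain ⟨u, hu⟩ := exists_repr Q h2 hQ hdim (one_ne_zero (α := F))
  have hu0 : Q u ≠ 0 := by rw [hu]; exact one_ne_zero
  rw [← Subgroup.relIndex_mul_index (Omega_le_special Q), relIndex_Omega_special Q h2 hQ hn,
    index_special Q h2 hQ hu0]

end Cfsg.Agent.Helper17.Spinor
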