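import Mathlib
import Cfsg.Prelude.Def_Classical
import Cfsg.Prelude.Def_ClassicalGeometry
import Cfsg.Agent.Lib.Helper17.OmegaChar2
import Cfsg.Agent.Lib.Helper17.SpinorIndex

/-!
# Membership in `Ω`, all characteristics (helper17)

`prod_tG_mem_Omega_iff_all`: over a finite field, `(|F|, dim) ≠ (2, 4)`, a product of reflections
(orthogonal transvections) in `vs` lies in the commutator subgroup `Ω` of the isometry group iff
`vs` has even length and the product of the `Q v` is a square (automatic in characteristic two).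
`sq_mem_Omega`: squares lie in `Ω`.
-/

set_option autoImplicit false

namespace Cfsg.Agent.Helper17.Spinor
open Cfsg QuadraticMap Module

variable {F : Type*} [Field F] [Fintype F] {ι : Type} [Fintype ι] [DecidableEq ι]
  (Q : QuadraticForm F (ι → F))

theorem charP_two_of_two_eq_zero (h2 : (2 : F) = 0) : CharP F 2 := by
  have hp : ringChar F = 2 := by
    have hdvd : ringChar F ∣ 2 := by
      apply ringChar.dvd
      exact_mod_cast h2
    have hprime := CharP.char_is_prime F (ringChar F)
    exact (Nat.prime_dvd_prime_iff_eq hprime Nat.prime_two).1 hdvd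
  exact ringChar.of_eq hp

theorem prod_tG_mem_Omega_iff_all (hQ : (polarBilin Q).Nondegenerate)
    (hex : Fintype.card F ≠ 2 ∨ Fintype.card ι ≠ 4) (vs : List (ι → F))
    (hvs : ∀ v ∈ vs, Q v ≠ 0) :
    (vs.map (tG Q)).prod ∈ Cfsg.Omega F (⇑Q) ↔
      (Even vs.length ∧ IsSquare (vs.map (fun v => Q v)).prod) := by
  by_cases h2 : (2 : F) = 0
  · have := charP_two_of_two_eq_zero h2
    have hchar : ringChar F = 2 := ringChar.eq F 2
    have h1 : (vs.map (tG Q)).prod ∈ Cfsg.Omega F (⇑Q) ↔ Even vs.length :=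
      prod_tG_mem_commutator_iff Q hQ hex vs hvs
    rw [h1]
    exact ⟨fun h => ⟨h, FiniteField.isSquare_of_char_two hchar _⟩, fun h => h.1⟩
  · exact mem_Omega_iff Q h2 hQ _ vs hvs (coe_prod_tG Q vs hvs)

/-- squares lie in `Ω` -/
theorem sq_mem_Omega (hQ : (polarBilin Q).Nondegenerate)
    (hex : Fintype.card F ≠ 2 ∨ Fintype.card ι ≠ 4) (a : ↥(Cfsg.isometryGroup F (⇑Q))) :
    a * a ∈ Cfsg.Omega F (⇑Q) := by
  obtain ⟨vs, hvs, rfl⟩ := exists_prod_tG Q hQ hex a
  have h1 : (vs.map (tG Q)).prod * (vs.map (tG Q)).prod = ((vs ++ vs).map (tG Q)).prod := by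
    rw [List.map_append, List.prod_append]
  have hvs' : ∀ v ∈ vs ++ vs, Q v ≠ 0 := by
    intro v hv
    rcases List.mem_append.1 hv with h | h <;> exact hvs v h
  rw [h1]
  refine (prod_tG_mem_Omega_iff_all Q hQ hex _ hvs').2 ⟨?_, ?_⟩
  · rw [List.length_append]; exact ⟨_, rfl⟩
  · rw [List.map_append, List.prod_append]; exact ⟨_, rfl⟩

/-- two group elements with the same matrix are equal -/
theorem eq_of_coe_eq {a b : ↥(Cfsg.isometryGroup F (⇑Q))}
    (h : ((a : Matrix.GeneralLinearGroup ι F) : Matrix ι ι F)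
      = ((b : Matrix.GeneralLinearGroup ι F) : Matrix ι ι F)) : a = b := by
  apply Subtype.ext
  apply Units.ext
  exact h

end Cfsg.Agent.Helper17.Spinor
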