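import Mathlib
import Cfsg.Prelude.Def_Classical
import Cfsg.Prelude.Def_ClassicalGeometry
import Cfsg.Agent.Lib.Helper17.OmegaAll

/-!
# The special orthogonal group has a unique subgroup of index two (helper17)

`commutator_le_of_closure`: if the generators of a group commute modulo a normal subgroup `N` then
the commutator subgroup lies in `N`.  Applied to reflections and the subgroup generated by the
squares of `SO`: `Ω ≤ H` for every subgroup `H` of index two of `SO`.
-/

set_option autoImplicit false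
open scoped commutatorElement

namespace Cfsg.Agent.Helper17

theorem commutator_le_of_closure {G : Type*} [Group G] (R : Set G)
    (hR : Subgroup.closure R = ⊤) (N : Subgroup G) [N.Normal]
    (h : ∀ a ∈ R, ∀ b ∈ R, ⁅a, b⁆ ∈ N) : commutator G ≤ N := by
  have hT : Subgroup.closure ((QuotientGroup.mk' N) '' R) = ⊤ := by
    rw [← MonoidHom.map_closure, hR, ← MonoidHom.range_eq_map, MonoidHom.range_eq_top]
    exact QuotientGroup.mk'_surjective N
  have hcent : (QuotientGroup.mk' N) '' R ⊆ Subgroup.centralizer ((QuotientGroup.mk' N) '' R) := by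
    rintro x ⟨a, ha, rfl⟩
    rw [SetLike.mem_coe, Subgroup.mem_centralizer_iff]
    rintro y ⟨b, hb, rfl⟩
    have h1 : (QuotientGroup.mk' N) ⁅b, a⁆ = 1 := by
      rw [QuotientGroup.mk'_apply, QuotientGroup.eq_one_iff]
      exact h b hb a ha
    rw [map_commutatorElement, commutatorElement_eq_one_iff_mul_comm] at h1
    exact h1
  have htop : (⊤ : Subgroup (G ⧸ N)) ≤ Subgroup.centralizer (⊤ : Set (G ⧸ N)) := by
    have h1 := (Subgroup.closure_le _).2 hcent
    rw [hT, ← Subgroup.centralizer_closure, hT] at h1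
    exact h1
  rw [commutator_def, Subgroup.commutator_le]
  intro a _ b _
  have h1 : (QuotientGroup.mk' N) ⁅a, b⁆ = 1 := by
    rw [map_commutatorElement, commutatorElement_eq_one_iff_mul_comm]
    have := htop (Subgroup.mem_top ((QuotientGroup.mk' N) b))
    rw [Subgroup.mem_centralizer_iff] at this
    exact this _ (Set.mem_univ _)
  rw [QuotientGroup.mk'_apply, QuotientGroup.eq_one_iff] at h1
  exact h1

namespace Spinor
open Cfsg QuadraticMap Module

variable {F : Type*} [Field F] [Fintype F] {ι : Type} [Fintype ι] [DecidableEq ι]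
  (Q : QuadraticForm F (ι → F))

omit [Fintype F] in
theorem det_coe_prod_tG (vs : List (ι → F)) (hvs : ∀ v ∈ vs, Q v ≠ 0) :
    ((((vs.map (tG Q)).prod : ↥(Cfsg.isometryGroup F (⇑Q))) :
        Matrix.GeneralLinearGroup ι F) : Matrix ι ι F).det = (-1) ^ vs.length := by
  induction vs with
  | nil => simp
  | cons v vs ih =>
    rw [List.map_cons, List.prod_cons, Subgroup.coe_mul, Units.val_mul, Matrix.det_mul,
      ih (fun u hu => hvs u (List.mem_cons_of_mem _ hu)), tG_coe Q (hvs v List.mem_cons_self),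
      det_reflectionMatrix Q (hvs v List.mem_cons_self), List.length_cons, pow_succ]
    ring

omit [Fintype F] in
theorem tG_mul_tG_mem_special {u v : ι → F} (hu : Q u ≠ 0) (hv : Q v ≠ 0) :
    tG Q u * tG Q v ∈ Cfsg.specialIsometryGroup F (⇑Q) := by
  have h := det_coe_prod_tG Q [u, v] (by
    intro w hw
    rcases List.mem_cons.1 hw with rfl | hw
    · exact hu
    · rw [List.mem_singleton] at hw; rw [hw]; exact hv)
  rw [mem_special_iff]
  simp only [List.map_cons, List.map_nil, List.prod_cons, List.prod_nil, mul_one,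
    List.length_cons, List.length_nil] at h
  rw [h]; norm_num

/-- `Ω` lies in every subgroup of index two of `SO` -/
theorem Omega_le_map_of_index_two (hQ : (polarBilin Q).Nondegenerate)
    (hex : Fintype.card F ≠ 2 ∨ Fintype.card ι ≠ 4)
    (H : Subgroup ↥(Cfsg.specialIsometryGroup F (⇑Q))) (hH : H.index = 2) :
    Cfsg.Omega F (⇑Q) ≤ H.map (Cfsg.specialIsometryGroup F (⇑Q)).subtype := by
  set K := Cfsg.specialIsometryGroup F (⇑Q) with hK
  haveI hKn : K.Normal := by
    rw [hK]; unfold Cfsg.specialIsometryGroup; infer_instance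
  set S : Set ↥(Cfsg.isometryGroup F (⇑Q)) := {x | ∃ k ∈ K, x = k * k} with hS
  have h1 : commutator ↥(Cfsg.isometryGroup F (⇑Q)) ≤ Subgroup.normalClosure S := by
    apply commutator_le_of_closure {g | ∃ v : ι → F, Q v ≠ 0 ∧ g = tG Q v}
    · rw [eq_top_iff]
      intro g _
      obtain ⟨vs, hvs, rfl⟩ := exists_prod_tG Q hQ hex g
      apply Subgroup.list_prod_mem
      intro x hx
      rw [List.mem_map] at hx
      obtain ⟨v, hv, rfl⟩ := hx
      exact Subgroup.subset_closure ⟨v, hvs v hv, rfl⟩
    · rintro a ⟨u, hu, rfl⟩ b ⟨v, hv, rfl⟩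
      apply Subgroup.subset_normalClosure
      refine ⟨tG Q u * tG Q v, tG_mul_tG_mem_special Q hu hv, ?_⟩
      rw [commutatorElement_def, tG_inv Q hu, tG_inv Q hv, mul_assoc]
  refine le_trans h1 ?_
  unfold Subgroup.normalClosure
  rw [Subgroup.closure_le]
  intro x hx
  rw [Group.mem_conjugatesOfSet_iff] at hx
  obtain ⟨a, ⟨k, hk, rfl⟩, hax⟩ := hx
  rw [isConj_iff] at hax
  obtain ⟨c, rfl⟩ := hax
  have hk' : c * k * c⁻¹ ∈ K := hKn.conj_mem k hk c
  refine ⟨⟨c * k * c⁻¹, hk'⟩ * ⟨c * k * c⁻¹, hk'⟩, Subgroup.mul_self_mem_of_index_two hH _, ?_⟩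
  show c * k * c⁻¹ * (c * k * c⁻¹) = c * (k * k) * c⁻¹
  group

/-- in characteristic two every isometry has determinant one -/
theorem special_eq_top_of_two_eq_zero (hQ : (polarBilin Q).Nondegenerate)
    (hex : Fintype.card F ≠ 2 ∨ Fintype.card ι ≠ 4) (h2 : (2 : F) = 0) :
    Cfsg.specialIsometryGroup F (⇑Q) = ⊤ := by
  rw [eq_top_iff]
  intro g _
  obtain ⟨vs, hvs, rfl⟩ := exists_prod_tG Q hQ hex g
  rw [mem_special_iff, det_coe_prod_tG Q vs hvs]
  have : (-1 : F) = 1 := by linear_combination (-1 : F) * h2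
  rw [this, one_pow]

/-- the special orthogonal group has exactly one subgroup of index two -/
theorem existsUnique_index_two_special (hQ : (polarBilin Q).Nondegenerate)
    (hex : Fintype.card F ≠ 2 ∨ Fintype.card ι ≠ 4) (hn : 2 ≤ Fintype.card ι) :
    ∃! H : Subgroup ↥(Cfsg.specialIsometryGroup F (⇑Q)), H.index = 2 := by
  have hidx : ((Cfsg.Omega F (⇑Q)).subgroupOf (Cfsg.specialIsometryGroup F (⇑Q))).index = 2 := by
    show (Cfsg.Omega F (⇑Q)).relIndex (Cfsg.specialIsometryGroup F (⇑Q)) = 2
    by_cases h2 : (2 : F) = 0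
    · have := charP_two_of_two_eq_zero h2
      haveI : Nonempty ι := by
        rw [← Fintype.card_pos_iff]; omega
      obtain ⟨u, hu⟩ := exists_nonsingular Q hQ
      rw [special_eq_top_of_two_eq_zero Q hQ hex h2, Subgroup.relIndex_top_right]
      exact index_Omega_char_two Q hQ hex hu
    · exact relIndex_Omega_special Q h2 hQ hn
  refine ⟨_, hidx, ?_⟩
  intro H hH
  have hle : (Cfsg.Omega F (⇑Q)).subgroupOf (Cfsg.specialIsometryGroup F (⇑Q)) ≤ H := by
    intro x hx
    rw [Subgroup.mem_subgroupOf] at hx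
    obtain ⟨y, hy, hyx⟩ := Omega_le_map_of_index_two Q hQ hex H hH hx
    have : y = x := Subtype.ext hyx
    rw [← this]
    exact hy
  have h3 := Subgroup.relIndex_mul_index hle
  rw [hH, hidx] at h3
  have h4 : ((Cfsg.Omega F (⇑Q)).subgroupOf (Cfsg.specialIsometryGroup F (⇑Q))).relIndex H = 1 := by
    omega
  exact le_antisymm (Subgroup.relIndex_eq_one.1 h4) hle

end Spinor

end Cfsg.Agent.Helper17
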