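import Mathlib
import Cfsg.Prelude.Def_OddOrder
import Cfsg.Prelude.Def_OddOrderLocal
import Cfsg.Agent.S1392
import Cfsg.Agent.S1396
import Cfsg.Agent.S1404
import Cfsg.Agent.S1405
import Cfsg.Agent.S1408
import Cfsg.Agent.S1409
import Cfsg.Agent.Lib.Lead.BGSigmaHall
import Cfsg.Agent.Lib.Helper24.BG101D

/-!
# Bender–Glauberman Section 11 (exceptional maximal subgroups), part A   (helper17)

`Exc M p A A0` is BG Hypothesis 11.1.  This file: basic consequences, the transitivity
hypothesis for `A`, and the dichotomy behind BG Lemma 11.1.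
The frozen statement S1410 (every proper subgroup has `p`-length one) is taken as a hypothesis.
-/

set_option autoImplicit false
set_option linter.style.haveILetI false
set_option linter.unusedSectionVars false

namespace Cfsg.Agent.Helper17.BG11

open Cfsg Subgroup

universe u

variable {G : Type u} [Group G]

/-- BG Hypothesis 11.1: `M` is maximal, `p ∉ σ(M)`, `A₀ ≤ A ≤ M` with `A` elementary abelian of
order `p²`, `A₀` of order `p` and `N_G(A₀) ≤ M`. -/
structure Exc (M : Subgroup G) (p : ℕ) (A A0 : Subgroup G) : Prop where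
  hM : IsCoatom M
  hp : p ∉ sigma M
  hAM : A ≤ M
  hA : IsElementaryAbelian p A
  hcard : Nat.card A = p ^ 2
  hA0 : A0 ≤ A
  hcard0 : Nat.card A0 = p
  hN : normalizer (A0 : Set G) ≤ M

/-- the frozen statement of S1410 -/
def H1410 (G : Type u) [Group G] : Prop :=
  ∀ (p : ℕ) [Fact p.Prime] (H : Subgroup G), H ≠ ⊤ → Cfsg.PLengthLE p 1 H

/-! ### general lemmas -/

theorem elemAb_sup_zpowers {p : ℕ} {A : Subgroup G} (hA : IsElementaryAbelian p A) {x : G}
    (hx : x ∈ centralizer (A : Set G)) (hxp : x ^ p = 1) :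
    IsElementaryAbelian p (A ⊔ zpowers x) := by
  have hAA : A ≤ centralizer (A : Set G) := le_centralizer_iff_isMulCommutative.mpr hA.1
  have hzA : zpowers x ≤ centralizer (A : Set G) := (zpowers_le).mpr hx
  have hAz : A ≤ centralizer ((zpowers x : Subgroup G) : Set G) := le_centralizer_iff.mp hzA
  have hzz : zpowers x ≤ centralizer ((zpowers x : Subgroup G) : Set G) :=
    le_centralizer_iff_isMulCommutative.mpr inferInstance
  have hB : A ⊔ zpowers x ≤ centralizer ((A ⊔ zpowers x : Subgroup G) : Set G) := by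
    apply sup_le
    · exact le_centralizer_iff.mp (sup_le hAA hzA)
    · exact le_centralizer_iff.mp (sup_le hAz hzz)
  have hcomm : IsMulCommutative ↥(A ⊔ zpowers x) := le_centralizer_iff_isMulCommutative.mp hB
  refine ⟨hcomm, ?_⟩
  let T : Subgroup G :=
    { carrier := {y | y ∈ A ⊔ zpowers x ∧ y ^ p = 1}
      one_mem' := ⟨one_mem _, one_pow _⟩
      mul_mem' := by
        rintro a b ⟨ha, hap⟩ ⟨hb, hbp⟩
        refine ⟨mul_mem ha hb, ?_⟩
        have hab : Commute a b := ((mem_centralizer_iff.mp (hB ha)) b hb).symm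
        rw [hab.mul_pow, hap, hbp, one_mul]
      inv_mem' := by
        rintro a ⟨ha, hap⟩
        exact ⟨inv_mem ha, by rw [inv_pow, hap, inv_one]⟩ }
  have hAT : A ≤ T := fun a ha => ⟨le_sup_left (a := A) ha, hA.2 a ha⟩
  have hzT : zpowers x ≤ T := by
    rw [zpowers_le]
    exact ⟨le_sup_right (a := A) (mem_zpowers x), hxp⟩
  intro y hy
  exact ((sup_le hAT hzT) hy).2

theorem isPGroup_of_elemAb {p : ℕ} [Fact p.Prime] {A : Subgroup G} (hA : IsElementaryAbelian p A) :
    IsPGroup p A := by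
  intro a
  refine ⟨1, ?_⟩
  have := hA.2 a a.2
  rw [pow_one]
  exact Subtype.ext (by simpa using this)

theorem zpowers_eq_of_card_prime {p : ℕ} [Fact p.Prime] {A0 : Subgroup G} (hc : Nat.card A0 = p)
    {a : G} (ha : a ∈ A0) (ha1 : a ≠ 1) : zpowers a = A0 := by
  have h1 : zpowers (⟨a, ha⟩ : A0) = ⊤ :=
    zpowers_eq_top_of_prime_card hc (by intro h; exact ha1 (congrArg Subtype.val h))
  have h2 : (zpowers (⟨a, ha⟩ : A0)).map A0.subtype = zpowers a := by
    rw [MonoidHom.map_zpowers]; rfl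
  rw [← h2, h1, ← MonoidHom.range_eq_map, range_subtype]

theorem exists_mem_ne_one_of_card_prime {p : ℕ} [Fact p.Prime] {A0 : Subgroup G}
    (hc : Nat.card A0 = p) : ∃ a ∈ A0, a ≠ 1 := by
  have hne : A0 ≠ ⊥ := by
    intro h
    rw [h, card_bot] at hc
    exact (Fact.out : p.Prime).one_lt.ne hc
  obtain ⟨a, ha1⟩ := (ne_bot_iff_exists_ne_one).mp hne
  exact ⟨a, a.2, fun h => ha1 (Subtype.ext h)⟩

section Basic

variable [Finite G] {M : Subgroup G} {p : ℕ} [Fact p.Prime] {A A0 : Subgroup G}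

theorem Exc.cent0_le (hE : Exc M p A A0) : centralizer (A0 : Set G) ≤ M :=
  (centralizer_le_normalizer (A0 : Set G)).trans hE.hN

theorem Exc.cent_le (hE : Exc M p A A0) : centralizer (A : Set G) ≤ M :=
  (centralizer_le (SetLike.coe_subset_coe.mpr hE.hA0)).trans hE.cent0_le

theorem Exc.cent_singleton_le (hE : Exc M p A A0) {a : G} (ha : a ∈ A0) (ha1 : a ≠ 1) :
    centralizer ({a} : Set G) ≤ M := by
  have h := zpowers_eq_of_card_prime hE.hcard0 ha ha1
  have : centralizer ({a} : Set G) ≤ centralizer (A0 : Set G) := by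
    intro c hc
    rw [mem_centralizer_iff] at hc ⊢
    intro y hy
    rw [← h] at hy
    obtain ⟨k, rfl⟩ := mem_zpowers_iff.mp hy
    have h1 : Commute a c := hc a (Set.mem_singleton a)
    exact (h1.zpow_left k).eq
  exact this.trans hE.cent0_le

theorem Exc.isPGroup (hE : Exc M p A A0) : IsPGroup p A := IsPGroup.of_card hE.hcard

theorem Exc.rank (hG : IsMinSimpleOddOrder G) (hE : Exc M p A A0) :
    PRankLE p 2 M ∧ ¬ PRankLE p 1 M :=
  (Cfsg.Agent.S1409.result hG M hE.hM p hE.hp A0 hE.hcard0 hE.hN).1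

/-- `A` is a maximal elementary abelian `p`-subgroup of `G` -/
theorem Exc.max_elem (hG : IsMinSimpleOddOrder G) (hE : Exc M p A A0) (B : Subgroup G)
    (hB : IsElementaryAbelian p B) (hAB : A ≤ B) : B = A := by
  obtain ⟨hr2, hr1⟩ := hE.rank hG
  exact (Cfsg.Agent.S1408.result hG M hE.hM p hE.hp hr2 hr1).2 A hE.hAM hE.hA hE.hcard B hB hAB

theorem Exc.mem_of_cent (hG : IsMinSimpleOddOrder G) (hE : Exc M p A A0) {x : G}
    (hx : x ∈ centralizer (A : Set G)) (hxp : x ^ p = 1) : x ∈ A := by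
  have h := hE.max_elem hG (A ⊔ zpowers x) (elemAb_sup_zpowers hE.hA hx hxp) le_sup_left
  rw [← h]
  exact le_sup_right (a := A) (mem_zpowers x)

theorem Exc.transHyp (hG : IsMinSimpleOddOrder G) (h10 : H1410 G) (hE : Exc M p A A0) :
    TransitivityHypothesis A := by
  have hpG : p ∣ Nat.card G := by
    have h1 : Nat.card A ∣ Nat.card G := card_subgroup_dvd_card A
    rw [hE.hcard] at h1
    exact (dvd_pow_self p two_ne_zero).trans h1
  refine Cfsg.Agent.S1396.result hG p hpG A hE.isPGroup hE.hA.1 (Or.inl ⟨?_, ?_⟩)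
  · intro x hx
    exact ⟨fun h => hE.mem_of_cent hG hx h, fun h => hE.hA.2 x h⟩
  · intro H hH
    exact h10 p H hH

theorem Exc.p_dvd_card (hE : Exc M p A A0) : p ∣ Nat.card M := by
  have h1 : Nat.card A ∣ Nat.card M := card_dvd_of_le hE.hAM
  rw [hE.hcard] at h1
  exact (dvd_pow_self p two_ne_zero).trans h1

end Basic

end Cfsg.Agent.Helper17.BG11
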