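import Mathlib
import Cfsg.Agent.Lib.Helper17.BG11A
import Cfsg.Agent.S0025
import Cfsg.Agent.Lib.Helper1.CoprimeSylow

/-!
# Bender–Glauberman Section 11, part B   (helper17)

Facts on `M_σ` (from S1404/S1405 via lead's `sigmaCore_hall`), the dichotomy behind BG 11.1,
BG 11.2 (`M_σ ∩ M^g = 1` for `g ∉ M` with `A ≤ M^g`) and BG 11.3 (`M_σ` nilpotent).
-/

set_option autoImplicit false
set_option linter.style.haveILetI false
set_option linter.unusedSectionVars false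

namespace Cfsg.Agent.Helper17.BG11

open Cfsg Subgroup
open Cfsg.Agent.Helper15 (mem_map_conj_iff conj_mem_map_conj map_conj_map_conj map_conj_one
  map_conj_inv_map_conj map_conj_map_conj_inv map_conj_mono card_map_conj
  map_conj_eq_of_mem_normalizer map_conj_le_of_mem)

universe u

variable {G : Type u} [Group G]

/-! ### general lemmas -/

theorem le_normalizer_of_conj_mem {A D : Subgroup G}
    (h : ∀ a ∈ A, ∀ x ∈ D, a * x * a⁻¹ ∈ D) : A ≤ normalizer (D : Set G) := by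
  intro a ha
  rw [mem_normalizer_iff]
  intro x
  constructor
  · exact h a ha x
  · intro hx
    have h1 := h a⁻¹ (A.inv_mem ha) _ hx
    have h2 : a⁻¹ * (a * x * a⁻¹) * a⁻¹⁻¹ = x := by group
    rwa [h2] at h1

theorem mem_of_pow_eq_one_of_not_dvd_index {H : Type*} [Group H] [Finite H] (N : Subgroup H)
    [N.Normal] {q : ℕ} (hq : q.Prime) (hidx : ¬ q ∣ N.index) {x : H} {k : ℕ}
    (hx : x ^ (q ^ k) = 1) : x ∈ N := by
  have h1 : orderOf (x : H ⧸ N) ∣ q ^ k := by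
    apply orderOf_dvd_of_pow_eq_one
    rw [← QuotientGroup.mk_pow, hx]
    rfl
  have h2 : orderOf (x : H ⧸ N) ∣ N.index := by
    rw [index_eq_card]
    exact orderOf_dvd_natCard _
  have hcop : Nat.Coprime (q ^ k) N.index :=
    Nat.Coprime.pow_left k ((Nat.Prime.coprime_iff_not_dvd hq).mpr hidx)
  have h3 : orderOf (x : H ⧸ N) = 1 := Nat.eq_one_of_dvd_coprimes hcop h1 h2
  exact (QuotientGroup.eq_one_iff x).mp (orderOf_eq_one_iff.mp h3)

theorem sylow_mem_maxInv [Finite G] {q : ℕ} [Fact q.Prime] (A : Subgroup G) (Q : Sylow q G)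
    (hAQ : A ≤ normalizer ((Q : Subgroup G) : Set G)) :
    (Q : Subgroup G) ∈ maxInvSubgroups ⊤ A {q} := by
  rw [Cfsg.Agent.Helper14.BGTrans.mem_maxInvSubgroups_top_iff]
  refine ⟨⟨Q.isPGroup', hAQ⟩, ?_⟩
  intro R hR _ hQR
  exact Q.is_maximal' hR hQR

section Sigma

variable [Finite G] {M : Subgroup G}

/-- BG 10.2(b) from S1404 + S1405 -/
theorem sigmaHall (hG : IsMinSimpleOddOrder G) (hM : IsCoatom M) :
    IsPiHallOf (sigma M) (sigmaCore M) M ∧ IsPiHall (sigma M) (sigmaCore M) := by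
  obtain ⟨h1, -, h3, -, h5⟩ := Cfsg.Agent.S1405.result hG M hM
  have h := Cfsg.Agent.Lead.BGSig.sigmaCore_hall hG M ⟨h1, h3, h5⟩ (fun p hp hpσ => by
    haveI := Fact.mk hp
    intro X hXp hX1 hXM g hg
    exact (Cfsg.Agent.S1404.result hG M hM p hpσ X hXp hX1 hXM).1 g hg)
  exact ⟨h.1, h.2.1⟩

theorem sigmaCore_le (M : Subgroup G) : sigmaCore M ≤ M :=
  Cfsg.Agent.Helper14.BGTrans.piCoreOf_le (sigma M) M

theorem le_normalizer_sigmaCore (M : Subgroup G) : M ≤ normalizer (sigmaCore M : Set G) :=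
  Cfsg.Agent.Helper14.BGTrans.le_normalizer_piCoreOf (sigma M) M

/-- a `q`-subgroup of `M`, `q ∈ σ(M)`, lies in `M_σ` -/
theorem le_sigmaCore_of_isPGroup (hσ : IsPiHallOf (sigma M) (sigmaCore M) M) {q : ℕ}
    [Fact q.Prime] (hq : q ∈ sigma M) {X : Subgroup G} (hX : IsPGroup q X) (hXM : X ≤ M) :
    X ≤ sigmaCore M := by
  obtain ⟨-, -, hidx⟩ := hσ
  have hsub : (sigmaCore M).subgroupOf M = piCore (sigma M) ↥M :=
    Cfsg.Agent.Helper14.BGTrans.piCoreOf_subgroupOf (sigma M) M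
  have hindex : (piCore (sigma M) ↥M).index = (sigmaCore M).relIndex M := by
    unfold relIndex
    rw [hsub]
  intro x hx
  obtain ⟨k, hk⟩ := hX ⟨x, hx⟩
  have hk' : x ^ (q ^ k) = 1 := by
    have := congrArg Subtype.val hk
    simpa using this
  have hxM : (⟨x, hXM hx⟩ : M) ^ (q ^ k) = 1 := Subtype.ext (by simpa using hk')
  have h4 : (⟨x, hXM hx⟩ : M) ∈ piCore (sigma M) ↥M :=
    mem_of_pow_eq_one_of_not_dvd_index _ (Fact.out : q.Prime)
      (by rw [hindex]; exact hidx q Fact.out hq) hxM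
  unfold sigmaCore
  exact ⟨⟨x, hXM hx⟩, h4, rfl⟩

theorem prime_mem_sigma_of_dvd_card (M : Subgroup G) {D : Subgroup G} (hD : D ≤ sigmaCore M)
    {q : ℕ} (hq : q.Prime) (hqD : q ∣ Nat.card D) : q ∈ sigma M :=
  Cfsg.Agent.Helper14.BGTrans.card_piCoreOf (sigma M) M q hq (hqD.trans (card_dvd_of_le hD))

end Sigma

section Main

variable [Finite G] {M : Subgroup G} {p : ℕ} [Fact p.Prime] {A A0 : Subgroup G}

/-- The dichotomy behind BG Lemma 11.1: two `A`-invariant Sylow `q`-subgroups of `G`, one in `M`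
and one in `M^g` (`g ∉ M`, `q ∈ σ(M)`), cannot both meet a proper subgroup `H ≥ A` nontrivially. -/
theorem dichotomy (hG : IsMinSimpleOddOrder G) (h10 : H1410 G) (hE : Exc M p A A0) {g : G}
    (hg : g ∉ M) {q : ℕ} [Fact q.Prime] (hq : q ∈ sigma M) (Q1 Q2 : Sylow q G)
    (hQ1M : (Q1 : Subgroup G) ≤ M) (hAQ1 : A ≤ normalizer ((Q1 : Subgroup G) : Set G))
    (hQ2M : (Q2 : Subgroup G) ≤ M.map (MulAut.conj g).toMonoidHom)
    (hAQ2 : A ≤ normalizer ((Q2 : Subgroup G) : Set G))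
    {H : Subgroup G} (hH : H ≠ ⊤) (hAH : A ≤ H) :
    H ⊓ (Q1 : Subgroup G) = ⊥ ∨ H ⊓ (Q2 : Subgroup G) = ⊥ := by
  by_contra hcon
  push_neg at hcon
  obtain ⟨h1, h2⟩ := hcon
  have hqp : q ≠ p := fun h => hE.hp (h ▸ hq)
  have hqA : ¬ q ∣ Nat.card A := by
    rw [hE.hcard]
    intro h
    exact hqp ((Nat.prime_dvd_prime_iff_eq Fact.out Fact.out).mp
      ((Fact.out : q.Prime).dvd_of_dvd_pow h))
  obtain ⟨k, hk, hQ⟩ := Cfsg.Agent.S1392.result hG A (hE.transHyp hG h10) q Fact.out hqA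
    (Q1 : Subgroup G) (Q2 : Subgroup G) (sylow_mem_maxInv A Q1 hAQ1) (sylow_mem_maxInv A Q2 hAQ2)
    H hH hAH h1 h2
  have hkC : k ∈ centralizer (A : Set G) := Cfsg.Agent.Helper14.BGTrans.piCoreOf_le _ _ hk
  have hkM : k ∈ M := hE.cent_le hkC
  have hQ2M' : (Q2 : Subgroup G) ≤ M := by
    rw [hQ]
    exact map_conj_le_of_mem hQ1M hkM
  obtain ⟨S0, hS0, hN0⟩ := Cfsg.Agent.Helper24.BG101.exists_sylow_of_mem_sigma hq
  have hN2 := Cfsg.Agent.Helper24.BG101.normalizer_sylow_le S0 hS0 hN0 Q2 hQ2M'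
  have hg' : g⁻¹ ∈ M := by
    refine Cfsg.Agent.Helper24.BG101.mem_of_map_conj_sylow_le Q2 hQ2M' hN2 g⁻¹ ?_
    have h3 := map_conj_mono hQ2M g⁻¹
    rwa [map_conj_inv_map_conj] at h3
  exact hg (by simpa using M.inv_mem hg')

end Main

end Cfsg.Agent.Helper17.BG11
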