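import Mathlib
import Cfsg.Agent.Lib.Helper17.BG11B

/-!
# Bender–Glauberman Section 11, part C   (helper17)

BG 11.2: for `g ∉ M` with `A ≤ M^g`: `M_σ ∩ M^g = 1` and `C_{M_σ}(A₀^g) = 1`.
BG 11.3: `M_σ` is nilpotent (modulo the solvable case of Thompson's fixed-point-free theorem,
taken as the hypothesis `FpfNil G`, discharged in `BG11T`).
-/

set_option autoImplicit false
set_option linter.style.haveILetI false
set_option linter.unusedSectionVars false

namespace Cfsg.Agent.Helper17.BG11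

open Cfsg Subgroup
open Cfsg.Agent.Helper15 (mem_map_conj_iff conj_mem_map_conj map_conj_map_conj map_conj_one
  map_conj_inv_map_conj map_conj_map_conj_inv map_conj_mono card_map_conj
  map_conj_eq_of_mem_normalizer map_conj_le_of_mem)

universe u

variable {G : Type u} [Group G]

/-- a Sylow `q`-subgroup of a subgroup `K` of index prime to `q` is a Sylow `q`-subgroup of `G` -/
theorem exists_sylow_eq_of_sylow_hall [Finite G] {q : ℕ} [Fact q.Prime] (K : Subgroup G)
    (hK : ¬ q ∣ K.index) (P : Sylow q K) :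
    ∃ Q : Sylow q G, (Q : Subgroup G) = (P : Subgroup K).map K.subtype := by
  have h1 : Nat.card ↥((P : Subgroup K).map K.subtype) = q ^ (Nat.card G).factorization q := by
    rw [card_map_of_injective K.subtype_injective, P.card_eq_multiplicity]
    congr 1
    have h2 : Nat.card G = Nat.card K * K.index := (card_mul_index K).symm
    have hidx : K.index ≠ 0 := index_ne_zero_of_finite
    rw [h2, Nat.factorization_mul Nat.card_pos.ne' hidx, Finsupp.add_apply,
      Nat.factorization_eq_zero_of_not_dvd hK, add_zero]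
  exact ⟨Sylow.ofCard _ h1, rfl⟩

/-- the solvable case of Thompson's theorem on fixed-point-free automorphisms of prime order,
for conjugation actions -/
def FpfNil (G : Type u) [Group G] : Prop :=
  ∀ (K : Subgroup G) (y : G) (r : ℕ), r.Prime → Group.IsSolvable K → Odd (Nat.card G) →
    y ∈ normalizer (K : Set G) → y ^ r = 1 → K ⊓ centralizer ({y} : Set G) = ⊥ →
    Group.IsNilpotent K

section Main

variable [Finite G] {M : Subgroup G} {p : ℕ} [Fact p.Prime] {A A0 : Subgroup G}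

theorem Exc.coprime_card (hE : Exc M p A A0) {D : Subgroup G} (hD : D ≤ sigmaCore M) :
    (Nat.card A).Coprime (Nat.card D) := by
  rw [hE.hcard]
  apply Nat.Coprime.pow_left
  rw [Nat.Prime.coprime_iff_not_dvd Fact.out]
  intro h
  exact hE.hp (prime_mem_sigma_of_dvd_card M hD Fact.out h)

theorem Exc.isSolvable (hE : Exc M p A A0) : Group.IsSolvable A := by
  haveI := hE.isPGroup.isNilpotent
  infer_instance

/-- BG Lemma 11.2, first part -/
theorem lemma_11_2 (hG : IsMinSimpleOddOrder G) (h10 : H1410 G) (hE : Exc M p A A0) {g : G}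
    (hg : g ∉ M) (hAg : A ≤ M.map (MulAut.conj g).toMonoidHom) :
    sigmaCore M ⊓ M.map (MulAut.conj g).toMonoidHom = ⊥ := by
  by_contra hD
  obtain ⟨D, hDdef⟩ : ∃ D : Subgroup G, D = sigmaCore M ⊓ M.map (MulAut.conj g).toMonoidHom :=
    ⟨_, rfl⟩
  rw [← hDdef] at hD
  have hDσ : D ≤ sigmaCore M := hDdef ▸ inf_le_left
  have hDg : D ≤ M.map (MulAut.conj g).toMonoidHom := hDdef ▸ inf_le_right
  obtain ⟨hσ, hσG⟩ := sigmaHall hG hE.hM
  have hcardD : Nat.card D ≠ 1 := by
    intro h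
    exact hD (card_eq_one.mp h)
  obtain ⟨q, hqp, hqD⟩ := Nat.exists_prime_and_dvd hcardD
  haveI := Fact.mk hqp
  have hqσ : q ∈ sigma M := prime_mem_sigma_of_dvd_card M hDσ hqp hqD
  have hAD : A ≤ normalizer (D : Set G) := by
    apply le_normalizer_of_conj_mem
    intro a ha x hx
    rw [hDdef] at hx ⊢
    obtain ⟨hx1, hx2⟩ := Subgroup.mem_inf.mp hx
    refine Subgroup.mem_inf.mpr ⟨?_, ?_⟩
    · exact (mem_normalizer_iff.mp (le_normalizer_sigmaCore M (hE.hAM ha)) x).mp hx1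
    · exact Subgroup.mul_mem _ (Subgroup.mul_mem _ (hAg ha) hx2) (Subgroup.inv_mem _ (hAg ha))
  have hsolvA := hE.isSolvable
  obtain ⟨P, hP⟩ := Cfsg.Agent.Helper1.exists_invariant_sylow (p := q) (K := D) A hAD
    (hE.coprime_card hDσ) (Or.inl hsolvA)
  obtain ⟨Dq, hDq⟩ : ∃ Dq : Subgroup G, Dq = (P : Subgroup D).map D.subtype := ⟨_, rfl⟩
  rw [← hDq] at hP
  have hDqp : IsPGroup q Dq := hDq ▸ P.isPGroup'.map _
  have hDq1 : Dq ≠ ⊥ := by
    intro h
    have h1 : Nat.card Dq = 1 := by rw [h]; exact card_bot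
    rw [hDq, card_map_of_injective D.subtype_injective, P.card_eq_multiplicity] at h1
    have hk : 0 < (Nat.card D).factorization q :=
      hqp.factorization_pos_of_dvd Nat.card_pos.ne' hqD
    exact absurd h1 (Nat.one_lt_pow hk.ne' hqp.one_lt).ne'
  have hDqD : Dq ≤ D := hDq ▸ map_subtype_le _
  have hDqσ : Dq ≤ sigmaCore M := hDqD.trans hDσ
  have hDqg : Dq ≤ M.map (MulAut.conj g).toMonoidHom := hDqD.trans hDg
  -- the Sylow subgroup `Q1` of `G` in `M_σ`
  have hAσ : A ≤ normalizer (sigmaCore M : Set G) := hE.hAM.trans (le_normalizer_sigmaCore M)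
  obtain ⟨P1, hP1, hAP1⟩ := Cfsg.Agent.S0025.result A (sigmaCore M) hAσ
    (hE.coprime_card le_rfl) (Or.inl hsolvA) q Dq hDqσ hDqp hP
  obtain ⟨Q1, hQ1⟩ := exists_sylow_eq_of_sylow_hall (sigmaCore M) (hσG.2 q hqp hqσ) P1
  -- the Sylow subgroup `Q2` of `G` in `(M_σ)^g`
  obtain ⟨K2, hK2⟩ : ∃ K2 : Subgroup G, K2 = (sigmaCore M).map (MulAut.conj g).toMonoidHom :=
    ⟨_, rfl⟩
  have hAK2 : A ≤ normalizer (K2 : Set G) := by
    apply le_normalizer_of_conj_mem
    intro a ha x hx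
    rw [hK2, mem_map_conj_iff] at hx ⊢
    have ha' : g⁻¹ * a * g ∈ M := mem_map_conj_iff.mp (hAg ha)
    have h1 := (mem_normalizer_iff.mp (le_normalizer_sigmaCore M ha') _).mp hx
    have h2 : g⁻¹ * a * g * (g⁻¹ * x * g) * (g⁻¹ * a * g)⁻¹ = g⁻¹ * (a * x * a⁻¹) * g := by group
    rwa [h2] at h1
  have hDqK2 : Dq ≤ K2 := by
    have h1 : Dq.map (MulAut.conj g⁻¹).toMonoidHom ≤ M := by
      have := map_conj_mono hDqg g⁻¹
      rwa [map_conj_inv_map_conj] at this
    have h2 := le_sigmaCore_of_isPGroup hσ hqσ (hDqp.map _) h1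
    have h3 := map_conj_mono h2 g
    rwa [map_conj_map_conj_inv, ← hK2] at h3
  have hcopK2 : (Nat.card A).Coprime (Nat.card K2) := by
    rw [hK2, card_map_conj]
    exact hE.coprime_card le_rfl
  obtain ⟨P2, hP2, hAP2⟩ := Cfsg.Agent.S0025.result A K2 hAK2 hcopK2 (Or.inl hsolvA) q Dq hDqK2
    hDqp hP
  have hK2idx : ¬ q ∣ K2.index := by
    rw [hK2]
    have : ((sigmaCore M).map (MulAut.conj g).toMonoidHom).index = (sigmaCore M).index :=
      index_map_equiv (sigmaCore M) (MulAut.conj g)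
    rw [this]
    exact hσG.2 q hqp hqσ
  obtain ⟨Q2, hQ2⟩ := exists_sylow_eq_of_sylow_hall K2 hK2idx P2
  have hQ1M : (Q1 : Subgroup G) ≤ M := by
    rw [hQ1]
    exact (map_subtype_le _).trans (sigmaCore_le M)
  have hQ2M : (Q2 : Subgroup G) ≤ M.map (MulAut.conj g).toMonoidHom := by
    rw [hQ2]
    refine (map_subtype_le _).trans ?_
    rw [hK2]
    exact map_conj_mono (sigmaCore_le M) g
  have hDqM : Dq ≤ M := hDqσ.trans (sigmaCore_le M)
  rcases dichotomy hG h10 hE hg hqσ Q1 Q2 hQ1M (hQ1 ▸ hAP1) hQ2M (hQ2 ▸ hAP2) hE.hM.1 hE.hAM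
    with h | h
  · apply hDq1
    rw [eq_bot_iff, ← h]
    exact le_inf hDqM (hQ1 ▸ hP1)
  · apply hDq1
    rw [eq_bot_iff, ← h]
    exact le_inf hDqM (hQ2 ▸ hP2)

/-- BG Lemma 11.2, second part (elementwise) -/
theorem lemma_11_2c (hG : IsMinSimpleOddOrder G) (h10 : H1410 G) (hE : Exc M p A A0) {g : G}
    (hg : g ∉ M) (hAg : A ≤ M.map (MulAut.conj g).toMonoidHom) {a : G} (ha : a ∈ A0)
    (ha1 : a ≠ 1) :
    sigmaCore M ⊓ centralizer ({g * a * g⁻¹} : Set G) = ⊥ := by
  rw [eq_bot_iff, ← lemma_11_2 hG h10 hE hg hAg]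
  refine le_inf inf_le_left (inf_le_right.trans ?_)
  intro c hc
  rw [mem_map_conj_iff]
  apply hE.cent_singleton_le ha ha1
  rw [mem_centralizer_iff] at hc ⊢
  intro b hb
  rw [Set.mem_singleton_iff] at hb
  subst hb
  have h1 := hc (g * b * g⁻¹) (Set.mem_singleton _)
  calc b * (g⁻¹ * c * g) = g⁻¹ * ((g * b * g⁻¹) * c) * g := by group
    _ = g⁻¹ * (c * (g * b * g⁻¹)) * g := by rw [h1]
    _ = g⁻¹ * c * g * b := by group

/-- BG Lemma 11.2, second part -/
theorem lemma_11_2b (hG : IsMinSimpleOddOrder G) (h10 : H1410 G) (hE : Exc M p A A0) {g : G}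
    (hg : g ∉ M) (hAg : A ≤ M.map (MulAut.conj g).toMonoidHom) :
    sigmaCore M ⊓ centralizer ((A0.map (MulAut.conj g).toMonoidHom : Subgroup G) : Set G) = ⊥ := by
  obtain ⟨a, ha, ha1⟩ := exists_mem_ne_one_of_card_prime hE.hcard0
  rw [eq_bot_iff, ← lemma_11_2c hG h10 hE hg hAg ha ha1]
  refine le_inf inf_le_left (inf_le_right.trans ?_)
  apply centralizer_le
  rw [Set.singleton_subset_iff]
  exact conj_mem_map_conj g ha

/-- there is `g ∈ N_G(P) \ M` for a Sylow `p`-subgroup `P ≥ A` of `M` -/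
theorem Exc.exists_normalizer_not_mem (hE : Exc M p A A0) :
    ∃ (P : Sylow p M) (g : G), A ≤ (P : Subgroup M).map M.subtype ∧
      g ∈ normalizer (((P : Subgroup M).map M.subtype : Subgroup G) : Set G) ∧ g ∉ M := by
  have hAp : IsPGroup p (A.subgroupOf M) :=
    hE.isPGroup.comap_of_injective M.subtype M.subtype_injective
  obtain ⟨P, hP⟩ := hAp.exists_le_sylow
  have hAP : A ≤ (P : Subgroup M).map M.subtype := by
    intro a ha
    exact ⟨⟨a, hE.hAM ha⟩, hP (mem_subgroupOf.mpr ha), rfl⟩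
  have hnot : ¬ normalizer (((P : Subgroup M).map M.subtype : Subgroup G) : Set G) ≤ M := by
    intro h
    exact hE.hp ⟨Fact.out, hE.p_dvd_card, P, h⟩
  obtain ⟨g, hgN, hgM⟩ := SetLike.not_le_iff_exists.mp hnot
  exact ⟨P, g, hAP, hgN, hgM⟩

/-- BG Lemma 11.3: `M_σ` is nilpotent -/
theorem lemma_11_3 (hG : IsMinSimpleOddOrder G) (h10 : H1410 G) (hT : FpfNil G)
    (hE : Exc M p A A0) : Group.IsNilpotent (sigmaCore M) := by
  obtain ⟨P, g, hAP, hgN, hgM⟩ := hE.exists_normalizer_not_mem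
  have hPM : (P : Subgroup M).map M.subtype ≤ M := map_subtype_le _
  have hAg : A ≤ M.map (MulAut.conj g).toMonoidHom := by
    have h1 : (P : Subgroup M).map M.subtype ≤ M.map (MulAut.conj g).toMonoidHom := by
      have := map_conj_mono hPM g
      rwa [map_conj_eq_of_mem_normalizer hgN] at this
    exact hAP.trans h1
  obtain ⟨a, ha, ha1⟩ := exists_mem_ne_one_of_card_prime hE.hcard0
  have hfix := lemma_11_2c hG h10 hE hgM hAg ha ha1
  have hyP : g * a * g⁻¹ ∈ (P : Subgroup M).map M.subtype :=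
    (mem_normalizer_iff.mp hgN a).mp (hAP (hE.hA0 ha))
  have hyM : g * a * g⁻¹ ∈ M := hPM hyP
  have hyp : (g * a * g⁻¹) ^ p = 1 := by
    rw [conj_pow, hE.hA.2 a (hE.hA0 ha)]
    group
  have hsolv : Group.IsSolvable (sigmaCore M) := by
    have h1 : sigmaCore M ≠ ⊤ := by
      intro h
      have := sigmaCore_le M
      rw [h, top_le_iff] at this
      exact hE.hM.1 this
    exact hG.2.2.2 (sigmaCore M) h1
  exact hT (sigmaCore M) (g * a * g⁻¹) p Fact.out hsolv hG.1
    (le_normalizer_sigmaCore M hyM) hyp hfix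

end Main

end Cfsg.Agent.Helper17.BG11
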