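import Mathlib
import Cfsg.Agent.Lib.Helper17.BG11C
import Cfsg.Agent.S1445

/-!
# The solvable case of Thompson's fixed-point-free theorem, via `S1445`, and BG 11.3
-/

set_option autoImplicit false

universe u

namespace Cfsg.Agent.Helper17.BG11

open Subgroup Cfsg
open scoped commutatorElement

variable {G : Type u} [Group G]

/-- coprime action: `K = [K, A] C_K(A)` -/
theorem comm_sup_cent_coprime [Finite G] (K A : Subgroup G) (hA : A ≤ normalizer (K : Set G))
    (hcop : (Nat.card A).Coprime (Nat.card K)) (hsolv : Group.IsSolvable A) :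
    ⁅K, A⁆ ⊔ (K ⊓ centralizer (A : Set G)) = K := by
  have hYK : ⁅K, A⁆ ≤ K := Cfsg.Agent.Helper1.commutator_le_of_le_normalizer hA
  apply le_antisymm (sup_le hYK inf_le_left)
  intro x hx
  have hcopY : (Nat.card A).Coprime (Nat.card ↥⁅K, A⁆) :=
    Nat.Coprime.coprime_dvd_right (Subgroup.card_dvd_of_le hYK) hcop
  have hxa : ∀ a ∈ A, x⁻¹ * a * x * a⁻¹ ∈ ⁅K, A⁆ := by
    intro a ha
    have h1 : x⁻¹ * a * x * a⁻¹ = ⁅x⁻¹, a⁆ := by
      rw [commutatorElement_def]
      group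
    rw [h1]
    exact Subgroup.commutator_mem_commutator (K.inv_mem hx) ha
  obtain ⟨c, hc, hxc⟩ := Cfsg.Agent.Helper1.exists_centralizer_mem_coset ⁅K, A⁆ A
    (Cfsg.Agent.Helper1.le_normalizer_commutator_right K A) hcopY (Or.inl hsolv) x hxa
  have hcK : c ∈ K := by
    have h1 : c = x * (x⁻¹ * c) := by group
    rw [h1]
    exact K.mul_mem hx (hYK hxc)
  have h2 : x = c * (x⁻¹ * c)⁻¹ := by group
  rw [h2]
  exact Subgroup.mul_mem _ (Subgroup.mem_sup_right (Subgroup.mem_inf.mpr ⟨hcK, hc⟩))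
    (Subgroup.mem_sup_left (Subgroup.inv_mem _ hxc))

/-- the solvable case of Thompson's theorem, from `S1445` -/
theorem fpfNil [Finite G] : FpfNil G := by
  intro K y r hr hsolvK hodd hyN hyr hfpf
  have := Fact.mk hr
  by_cases hy1 : y = 1
  · have hK : K = ⊥ := by
      rw [← hfpf, hy1]
      have : centralizer ({1} : Set G) = ⊤ := by
        rw [eq_top_iff]
        intro x _
        rw [mem_centralizer_iff]
        intro z hz
        rw [Set.mem_singleton_iff] at hz
        rw [hz, one_mul, mul_one]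
      rw [this, inf_top_eq]
    rw [hK]
    infer_instance
  have hord : orderOf y = r := orderOf_eq_prime hyr hy1
  have hcop : (Nat.card K).Coprime r := Cfsg.Agent.Helper1.coprime_card_of_fpf' hyN hord hfpf
  obtain ⟨R, hRdef⟩ : ∃ R : Subgroup G, R = zpowers y := ⟨_, rfl⟩
  have hyR : y ∈ R := hRdef ▸ mem_zpowers y
  have hRcard : Nat.card R = r := by rw [hRdef, Nat.card_zpowers, hord]
  have hRN : R ≤ normalizer (K : Set G) := by
    rw [hRdef]
    exact zpowers_le.mpr hyN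
  have hRsolv : Group.IsSolvable R := by
    rw [hRdef]
    infer_instance
  obtain ⟨Γ, hΓdef⟩ : ∃ Γ : Subgroup G, Γ = K ⊔ R := ⟨_, rfl⟩
  have hKΓ : K ≤ Γ := hΓdef ▸ le_sup_left
  have hRΓ : R ≤ Γ := hΓdef ▸ le_sup_right
  have hnorm : (K.subgroupOf Γ).Normal := by
    rw [hΓdef]
    exact Cfsg.Agent.Helper7.normal_subgroupOf_sup hRN
  have hsolvΓ : Group.IsSolvable Γ := by
    rw [hΓdef]
    exact Cfsg.Agent.Helper7.isSolvable_sup_of_le_normalizer hRN hsolvK hRsolv
  have hoddΓ : Odd (Nat.card Γ) := Odd.of_dvd_nat hodd (Subgroup.card_subgroup_dvd_card Γ)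
  have hsup : K.subgroupOf Γ ⊔ R.subgroupOf Γ = ⊤ := by
    rw [← subgroupOf_sup hKΓ hRΓ, ← hΓdef, subgroupOf_self]
  have hcK : Nat.card (K.subgroupOf Γ) = Nat.card K :=
    Nat.card_congr (subgroupOfEquivOfLe hKΓ).toEquiv
  have hcR : Nat.card (R.subgroupOf Γ) = r := by
    rw [← hRcard]
    exact Nat.card_congr (subgroupOfEquivOfLe hRΓ).toEquiv
  have hcop' : (Nat.card (K.subgroupOf Γ)).Coprime (Nat.card (R.subgroupOf Γ)) := by
    rw [hcK, hcR]
    exact hcop
  -- fixed points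
  have hfix : K.subgroupOf Γ ⊓ centralizer ((R.subgroupOf Γ : Subgroup Γ) : Set Γ) = ⊥ := by
    rw [eq_bot_iff]
    intro z hz
    obtain ⟨hz1, hz2⟩ := Subgroup.mem_inf.mp hz
    rw [mem_subgroupOf] at hz1
    have h1 : (z : G) ∈ K ⊓ centralizer ({y} : Set G) := by
      refine Subgroup.mem_inf.mpr ⟨hz1, ?_⟩
      rw [mem_centralizer_iff]
      intro w hw
      rw [Set.mem_singleton_iff] at hw
      have h2 := (mem_centralizer_iff.mp hz2) ⟨y, hRΓ hyR⟩ (by
        show (⟨y, hRΓ hyR⟩ : Γ) ∈ R.subgroupOf Γ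
        rw [mem_subgroupOf]
        exact hyR)
      have h3 := congrArg Subtype.val h2
      rw [hw]
      exact h3
    rw [hfpf, mem_bot] at h1
    rw [mem_bot]
    exact Subtype.ext h1
  have hprime : ∀ x ∈ R.subgroupOf Γ, x ≠ 1 →
      K.subgroupOf Γ ⊓ centralizer ({x} : Set Γ) =
        K.subgroupOf Γ ⊓ centralizer ((R.subgroupOf Γ : Subgroup Γ) : Set Γ) := by
    intro x hx hx1
    have h1 : zpowers x = R.subgroupOf Γ := zpowers_eq_of_card_prime hcR hx hx1
    rw [← h1, Cfsg.Agent.Helper7.centralizer_zpowers_eq]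
  have hF : fittingOf (K.subgroupOf Γ) ⊓
      centralizer ((R.subgroupOf Γ : Subgroup Γ) : Set Γ) = ⊥ := by
    rw [eq_bot_iff, ← hfix]
    exact inf_le_inf_right _ (map_subtype_le _)
  have h45 := Cfsg.Agent.S1445.result hoddΓ (K.subgroupOf Γ) (R.subgroupOf Γ) hsup hcop' hprime hF
  -- coprime action
  have hRN' : R.subgroupOf Γ ≤ normalizer ((K.subgroupOf Γ : Subgroup Γ) : Set Γ) := by
    rw [normalizer_eq_top]
    exact le_top
  have hRsolv' : Group.IsSolvable (R.subgroupOf Γ) :=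
    Group.isSolvable_of_isSolvable_injective (f := (subgroupOfEquivOfLe hRΓ).toMonoidHom)
      (subgroupOfEquivOfLe hRΓ).injective
  have hcs := comm_sup_cent_coprime (K.subgroupOf Γ) (R.subgroupOf Γ) hRN' hcop'.symm hRsolv'
  rw [hfix, sup_bot_eq] at hcs
  rw [hcs] at h45
  -- so `K' ≤ F(K')`
  have htop : fittingSubgroup (K.subgroupOf Γ) = ⊤ := by
    rw [eq_top_iff]
    intro z _
    obtain ⟨w, hw, hwz⟩ := h45 z.2
    have : w = z := Subtype.ext hwz
    rw [← this]
    exact hw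
  have hnil1 : Group.IsNilpotent (fittingSubgroup (K.subgroupOf Γ)) :=
    Cfsg.Agent.Helper7.fittingSubgroup_isNilpotent
  rw [htop] at hnil1
  have hnil2 : Group.IsNilpotent (K.subgroupOf Γ) :=
    Group.nilpotent_of_mulEquiv (Subgroup.topEquiv : (⊤ : Subgroup (K.subgroupOf Γ)) ≃* _)
  exact Group.nilpotent_of_mulEquiv (subgroupOfEquivOfLe hKΓ)

variable [Finite G] {M : Subgroup G} {p : ℕ} [Fact p.Prime] {A A0 : Subgroup G}

/-- BG Theorem 11.3: `M_σ` is nilpotent for an exceptional maximal subgroup `M` -/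
theorem theorem_11_3 (hG : IsMinSimpleOddOrder G) (h10 : H1410 G) (hE : Exc M p A A0) :
    Group.IsNilpotent (sigmaCore M) :=
  lemma_11_3 hG h10 fpfNil hE

end Cfsg.Agent.Helper17.BG11
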