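import Mathlib
import Cfsg.Agent.Lib.Helper17.BG11T
import Cfsg.Agent.S1403
import Cfsg.Agent.S1410
import Cfsg.Agent.S1394
import Cfsg.Agent.S1395
import Cfsg.Agent.Lib.Helper14.SubnormalClosure
import Cfsg.Agent.Lib.Helper14.BGTransB

/-!
# Bender–Glauberman Section 11: "Lemma W" (helper24's name)

`M` maximal, `q ∉ σ(M)`, `T ≤ M` elementary abelian of order `q²` with `C_G(T) ≤ M`.
Then `C_{M_σ}(T) = 1`.
-/

set_option autoImplicit false
set_option linter.style.haveILetI false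
set_option linter.unusedSectionVars false

namespace Cfsg.Agent.Helper17.BG11

open Cfsg Subgroup Cfsg.Agent.Helper15

universe u

variable {G : Type u} [Group G]

/-- the hypothesis of "Lemma W": a weak form of `Exc` -/
structure Exc0 (M : Subgroup G) (q : ℕ) (T : Subgroup G) : Prop where
  hM : IsCoatom M
  hq : q ∉ sigma M
  hTM : T ≤ M
  hT : IsElementaryAbelian q T
  hcard : Nat.card T = q ^ 2
  hC : centralizer (T : Set G) ≤ M

section

variable [Finite G] {M : Subgroup G} {p q : ℕ} [Fact p.Prime] [Fact q.Prime] {A A0 T : Subgroup G}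

theorem Exc.toExc0 (hE : Exc M p A A0) : Exc0 M p A :=
  ⟨hE.hM, hE.hp, hE.hAM, hE.hA, hE.hcard, hE.cent_le⟩

/-- the frozen statement S1410, now available -/
theorem h1410 (hG : IsMinSimpleOddOrder G) : H1410 G :=
  fun p _ H hH => Cfsg.Agent.S1410.result hG p H hH

theorem uniqThm (hG : IsMinSimpleOddOrder G) : Cfsg.Agent.Helper23.BG10.UniqThm G :=
  fun K hK h1 h2 => Cfsg.Agent.S1403.result hG K hK h1 h2

theorem Exc0.isPGroup (hE : Exc0 M q T) : IsPGroup q T := IsPGroup.of_card hE.hcard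

theorem Exc0.rank (hG : IsMinSimpleOddOrder G) (hE : Exc0 M q T) :
    PRankLE q 2 M ∧ ¬ PRankLE q 1 M := by
  constructor
  · by_contra h
    exact hE.hq (Cfsg.Agent.Helper23.BG10.alpha_subset_sigma hG (uniqThm hG) hE.hM ⟨Fact.out, h⟩)
  · intro h
    have hc : IsMulCommutative (T.subgroupOf M) := by
      have hTc := hE.hT.1
      refine ⟨⟨fun a b => ?_⟩⟩
      have := hTc.is_comm.comm ⟨a.1.1, a.2⟩ ⟨b.1.1, b.2⟩
      have h3 : a.1.1 * b.1.1 = b.1.1 * a.1.1 := congrArg Subtype.val this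
      apply Subtype.ext
      apply Subtype.ext
      exact h3
    have he : ∀ a ∈ T.subgroupOf M, a ^ q = 1 := by
      intro a ha
      apply Subtype.ext
      have := hE.hT.2 a.1 ha
      simpa using this
    have h1 := h (T.subgroupOf M) hc he
    have h2 : Nat.card (T.subgroupOf M) = Nat.card T :=
      Nat.card_congr (subgroupOfEquivOfLe hE.hTM).toEquiv
    rw [h2, hE.hcard, pow_one] at h1
    have hq1 : 1 < q := (Fact.out : q.Prime).one_lt
    nlinarith

/-- `T` is a maximal elementary abelian `q`-subgroup of `G` -/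
theorem Exc0.max_elem (hG : IsMinSimpleOddOrder G) (hE : Exc0 M q T) (B : Subgroup G)
    (hB : IsElementaryAbelian q B) (hTB : T ≤ B) : B = T := by
  obtain ⟨hr2, hr1⟩ := hE.rank hG
  exact (Cfsg.Agent.S1408.result hG M hE.hM q hE.hq hr2 hr1).2 T hE.hTM hE.hT hE.hcard B hB hTB

theorem Exc0.mem_of_cent (hG : IsMinSimpleOddOrder G) (hE : Exc0 M q T) {x : G}
    (hx : x ∈ centralizer (T : Set G)) (hxp : x ^ q = 1) : x ∈ T := by
  have h := hE.max_elem hG (T ⊔ zpowers x) (elemAb_sup_zpowers hE.hT hx hxp) le_sup_left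
  rw [← h]
  exact le_sup_right (a := T) (mem_zpowers x)

theorem Exc0.transHyp (hG : IsMinSimpleOddOrder G) (hE : Exc0 M q T) :
    TransitivityHypothesis T := by
  have hqG : q ∣ Nat.card G := by
    have h1 : Nat.card T ∣ Nat.card G := card_subgroup_dvd_card T
    rw [hE.hcard] at h1
    exact (dvd_pow_self q two_ne_zero).trans h1
  refine Cfsg.Agent.S1396.result hG q hqG T hE.isPGroup hE.hT.1 (Or.inl ⟨?_, ?_⟩)
  · intro x hx
    exact ⟨fun h => hE.mem_of_cent hG hx h, fun h => hE.hT.2 x h⟩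
  · intro H hH
    exact Cfsg.Agent.S1410.result hG q H hH

theorem Exc0.not_rankLE_one (hE : Exc0 M q T) :
    ¬ RankLE 1 ↥(T ⊓ centralizer (T : Set G)) := by
  intro h
  have hTc : T ≤ centralizer (T : Set G) := le_centralizer_iff_isMulCommutative.mpr hE.hT.1
  have hinf : T ⊓ centralizer (T : Set G) = T := inf_eq_left.mpr hTc
  have h1 := h q Fact.out (⊤ : Subgroup ↥(T ⊓ centralizer (T : Set G))) (by
    refine ⟨⟨fun a b => ?_⟩⟩
    have ha : a.1.1 ∈ T := a.1.2.1
    have hb : b.1.1 ∈ T := b.1.2.1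
    have := hE.hT.1.is_comm.comm ⟨a.1.1, ha⟩ ⟨b.1.1, hb⟩
    have h3 : a.1.1 * b.1.1 = b.1.1 * a.1.1 := congrArg Subtype.val this
    apply Subtype.ext
    apply Subtype.ext
    exact h3) (by
    intro a _
    apply Subtype.ext
    have := hE.hT.2 a.1 a.2.1
    simpa using this)
  rw [card_top, hinf, hE.hcard, pow_one] at h1
  have hq1 : 1 < q := (Fact.out : q.Prime).one_lt
  nlinarith

/-- a Sylow subgroup of `G` inside `M` with normalizer in `M` puts its prime in `σ(M)` -/
theorem mem_sigma_of_sylow (S : Sylow q G) (hSM : (S : Subgroup G) ≤ M)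
    (hN : normalizer ((S : Subgroup G) : Set G) ≤ M) (hS1 : (S : Subgroup G) ≠ ⊥) :
    q ∈ sigma M := by
  refine ⟨Fact.out, ?_, S.subtype hSM, ?_⟩
  · have h1 : Nat.card (S : Subgroup G) ∣ Nat.card M := card_dvd_of_le hSM
    obtain ⟨n, hn⟩ := S.isPGroup'.exists_card_eq
    have hn0 : n ≠ 0 := by
      intro h0
      rw [h0, pow_zero] at hn
      exact hS1 (card_eq_one.mp hn)
    rw [hn] at h1
    exact (dvd_pow_self q hn0).trans h1
  · have h2 : ((S.subtype hSM : Sylow q M) : Subgroup M).map M.subtype = (S : Subgroup G) := by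
      rw [Sylow.coe_subtype, subgroupOf_map_subtype, inf_eq_left.mpr hSM]
    rw [h2]
    exact hN

/-- **Lemma W** -/
theorem lemma_W (hG : IsMinSimpleOddOrder G) (hE : Exc0 M q T) :
    sigmaCore M ⊓ centralizer (T : Set G) = ⊥ := by
  by_contra hD
  obtain ⟨hσ, hσG⟩ := sigmaHall hG hE.hM
  have hTH := hE.transHyp hG
  have hcardD : Nat.card ↥(sigmaCore M ⊓ centralizer (T : Set G)) ≠ 1 := by
    intro h
    exact hD (card_eq_one.mp h)
  obtain ⟨t, htp, htD⟩ := Nat.exists_prime_and_dvd hcardD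
  haveI := Fact.mk htp
  have htσ : t ∈ sigma M := prime_mem_sigma_of_dvd_card M inf_le_left htp htD
  have htq : t ≠ q := fun h => hE.hq (h ▸ htσ)
  have htT : ¬ t ∣ Nat.card T := by
    rw [hE.hcard]
    intro h
    exact htq ((Nat.prime_dvd_prime_iff_eq htp Fact.out).mp (htp.dvd_of_dvd_pow h))
  have htC : t ∣ Nat.card (centralizer (T : Set G)) := htD.trans (card_dvd_of_le inf_le_right)
  have htr := Cfsg.Agent.S1394.result hG T hTH hE.not_rankLE_one t htp htT htC
  -- a Sylow `q`-subgroup of `G` over `T`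
  obtain ⟨Sq, hTSq⟩ := hE.isPGroup.exists_le_sylow
  have hSqtop : (Sq : Subgroup G) ≠ ⊤ :=
    Cfsg.Agent.Helper14.BGTrans.ne_top_of_isPGroup hG Sq.isPGroup'
  have hPπ : ∀ r : ℕ, r.Prime → r ∣ Nat.card (Sq : Subgroup G) → r ∣ Nat.card T := by
    intro r hr hrS
    obtain ⟨n, hn⟩ := Sq.isPGroup'.exists_card_eq
    rw [hn] at hrS
    have hrq : r = q := (Nat.prime_dvd_prime_iff_eq hr Fact.out).mp (hr.dvd_of_dvd_pow hrS)
    rw [hrq, hE.hcard]
    exact dvd_pow_self q two_ne_zero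
  have hsn : (T.subgroupOf (Sq : Subgroup G)).IsSubnormal := by
    haveI : Group.IsNilpotent (Sq : Subgroup G) := Sq.isPGroup'.isNilpotent
    exact Cfsg.Agent.Helper14.isSubnormal_of_isNilpotent _
  obtain ⟨-, -, h95c, h95d⟩ := Cfsg.Agent.S1395.result hG T hTH t htp htT (Sq : Subgroup G)
    hSqtop hPπ hTSq hsn htr
  -- a maximal `Sq`-invariant `t`-subgroup
  obtain ⟨Qs, hQs, -⟩ := Cfsg.Agent.Helper14.BGTrans.exists_maxInv_ge (q := t)
    (A := (Sq : Subgroup G)) (U := ⊥) IsPGroup.of_bot (by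
      intro x _
      rw [mem_normalizer_iff]
      intro y
      simp)
  have hQsT : Qs ∈ maxInvSubgroups ⊤ T {t} := h95c hQs
  obtain ⟨-, h95d2⟩ := h95d Qs hQs
  -- a `T`-invariant Sylow `t`-subgroup of `G` inside `M_σ`
  have hTσ : T ≤ normalizer (sigmaCore M : Set G) := hE.hTM.trans (le_normalizer_sigmaCore M)
  have hcop : (Nat.card T).Coprime (Nat.card (sigmaCore M)) := by
    rw [hE.hcard]
    apply Nat.Coprime.pow_left
    rw [Nat.Prime.coprime_iff_not_dvd Fact.out]
    intro h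
    exact hE.hq (prime_mem_sigma_of_dvd_card M le_rfl Fact.out h)
  have hsolvT : Group.IsSolvable T := by
    haveI := hE.isPGroup.isNilpotent
    infer_instance
  obtain ⟨P, hP⟩ := Cfsg.Agent.Helper1.exists_invariant_sylow (p := t) (K := sigmaCore M) T hTσ
    hcop (Or.inl hsolvT)
  obtain ⟨Q1, hQ1⟩ := exists_sylow_eq_of_sylow_hall (sigmaCore M) (hσG.2 t htp htσ) P
  rw [← hQ1] at hP
  have hQ1M : (Q1 : Subgroup G) ≤ M := by
    rw [hQ1]
    exact (map_subtype_le _).trans (sigmaCore_le M)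
  obtain ⟨k, hk, hQk⟩ := htr (Q1 : Subgroup G) (sylow_mem_maxInv T Q1 hP) Qs hQsT
  have hkC : k ∈ centralizer (T : Set G) := Cfsg.Agent.Helper14.BGTrans.piCoreOf_le _ _ hk
  have hkM : k ∈ M := hE.hC hkC
  obtain ⟨S0, hS0, hN0⟩ := Cfsg.Agent.Helper24.BG101.exists_sylow_of_mem_sigma htσ
  have hN1 := Cfsg.Agent.Helper24.BG101.normalizer_sylow_le S0 hS0 hN0 Q1 hQ1M
  have hNQs : normalizer (Qs : Set G) ≤ M := by
    rw [hQk]
    intro x hx
    have h1 : k⁻¹ * x * k ∈ normalizer ((Q1 : Subgroup G) : Set G) := by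
      rw [mem_normalizer_iff]
      intro y
      have h2 := (mem_normalizer_iff.mp hx) (k * y * k⁻¹)
      rw [mem_map_conj_iff, mem_map_conj_iff] at h2
      have e1 : k⁻¹ * (k * y * k⁻¹) * k = y := by group
      have e2 : k⁻¹ * (x * (k * y * k⁻¹) * x⁻¹) * k = k⁻¹ * x * k * y * (k⁻¹ * x * k)⁻¹ := by
        group
      rw [e1, e2] at h2
      exact h2
    have h3 := hN1 h1
    have e3 : x = k * (k⁻¹ * x * k) * k⁻¹ := by group
    rw [e3]
    exact M.mul_mem (M.mul_mem hkM h3) (M.inv_mem hkM)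
  have hNSq : normalizer ((Sq : Subgroup G) : Set G) ≤ M := by
    rw [h95d2]
    apply sup_le
    · refine (Cfsg.Agent.Helper14.BGTrans.piCoreOf_le _ _).trans ?_
      exact (centralizer_le (SetLike.coe_subset_coe.mpr hTSq)).trans hE.hC
    · exact inf_le_right.trans hNQs
  have hSqM : (Sq : Subgroup G) ≤ M := le_normalizer.trans hNSq
  have hSq1 : (Sq : Subgroup G) ≠ ⊥ := by
    intro h
    have h1 : T = ⊥ := le_bot_iff.mp (h ▸ hTSq)
    have h2 := hE.hcard
    rw [h1, card_bot] at h2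
    have hq1 : 1 < q := (Fact.out : q.Prime).one_lt
    nlinarith
  exact hE.hq (mem_sigma_of_sylow Sq hSqM hNSq hSq1)

end

end Cfsg.Agent.Helper17.BG11
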