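import Mathlib
import Cfsg.Agent.Lib.Helper17.BG11W
import Cfsg.Agent.S1450
import Cfsg.Agent.S1451
import Cfsg.Agent.Lib.Helper7.BG16a
import Cfsg.Agent.Lib.Helper22.PPrimeCore

/-!
# Bender–Glauberman Theorem 11.7, the `q`-side: `A` centralises `O_q(M)`  (helper17)

Following helper24's proof (board msg 1822), with "Step 5" (`signaliser_centralises`, helper23)
and "(F2)" (Hall–Higman step, `[Q, A] ≤ C(M_σ)`) taken as hypotheses.
-/

set_option autoImplicit false
set_option linter.style.haveILetI false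
set_option linter.unusedSectionVars false

namespace Cfsg.Agent.Helper17.BG11

open Cfsg Subgroup Cfsg.Agent.Helper15

universe u

variable {G : Type u} [Group G]

/-- `O_{r'}(M)` as a subgroup of `G` -/
def ppc (r : ℕ) (M : Subgroup G) : Subgroup G := (pPrimeCore r ↥M).map M.subtype

theorem ppc_le (r : ℕ) (M : Subgroup G) : ppc r M ≤ M := map_subtype_le _

theorem ppc_subgroupOf (r : ℕ) (M : Subgroup G) : (ppc r M).subgroupOf M = pPrimeCore r ↥M := by
  unfold ppc Subgroup.subgroupOf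
  exact comap_map_eq_self_of_injective M.subtype_injective _

theorem le_normalizer_ppc (r : ℕ) (M : Subgroup G) : M ≤ normalizer (ppc r M : Set G) := by
  rw [← normal_subgroupOf_iff_le_normalizer (ppc_le r M), ppc_subgroupOf]
  exact Cfsg.Agent.Helper22.pPrimeCore_normal r

theorem card_ppc_coprime [Finite G] (r : ℕ) (M : Subgroup G) :
    (Nat.card (ppc r M)).Coprime r := by
  unfold ppc
  rw [card_map_of_injective M.subtype_injective]
  exact Cfsg.Agent.Helper22.card_pPrimeCore_coprime r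

section

variable [Finite G] {M : Subgroup G}

theorem sigmaCore_ne_bot' (hG : IsMinSimpleOddOrder G) (hM : IsCoatom M) : sigmaCore M ≠ ⊥ := by
  obtain ⟨h1, -, h3, -, -⟩ := Cfsg.Agent.S1405.result hG M hM
  refine Cfsg.Agent.Helper7.BG16.sigmaCore_ne_bot hG M hM h1 h3 ?_
  intro hr p
  haveI : Group.IsSolvable M := hG.2.2.2 M hM.1
  have hodd : Odd (Nat.card M) := Odd.of_dvd_nat hG.1 (card_subgroup_dvd_card M)
  exact (Cfsg.Agent.S1451.result (G := ↥M) hodd (Or.inl hr)).2.2 p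

/-- if `r < s` are primes, `M` has `r`-rank at most 2, then every `s`-subgroup of `M` lies in
`O_{r'}(M)` -/
theorem le_ppc_of_lt (hG : IsMinSimpleOddOrder G) (hM : M ≠ ⊤) {r s : ℕ} [Fact r.Prime]
    [Fact s.Prime] (hrM : r ∣ Nat.card M) (hr : PRankLE r 2 M) (hrs : r < s) {X : Subgroup G}
    (hXM : X ≤ M) (hX : IsPGroup s X) : X ≤ ppc r M := by
  haveI : Group.IsSolvable M := hG.2.2.2 M hM
  have hodd : Odd (Nat.card M) := Odd.of_dvd_nat hG.1 (card_subgroup_dvd_card M)
  have h50 := (Cfsg.Agent.S1450.result (G := ↥M) hodd r hrM hr).1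
  have hidx : ¬ s ∣ (pPrimeCore r ↥M).index := fun h =>
    absurd (h50 s Fact.out h) (not_le.mpr hrs)
  haveI : (pPrimeCore r ↥M).Normal := Cfsg.Agent.Helper22.pPrimeCore_normal r
  intro x hx
  obtain ⟨k, hk⟩ := (IsPGroup.iff_orderOf.mp hX) ⟨x, hx⟩
  have hxk : x ^ (s ^ k) = 1 := by
    have h1 : (⟨x, hx⟩ : X) ^ (s ^ k) = 1 := by rw [← hk]; exact pow_orderOf_eq_one _
    exact congrArg Subtype.val h1
  have hmem : (⟨x, hXM hx⟩ : M) ∈ pPrimeCore r ↥M := by
    apply mem_of_pow_eq_one_of_not_dvd_index (pPrimeCore r ↥M) Fact.out hidx (k := k)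
    apply Subtype.ext
    simpa using hxk
  exact ⟨⟨x, hXM hx⟩, hmem, rfl⟩


theorem card_le_of_pRankLE {q k : ℕ} (h : PRankLE q k M) {X : Subgroup G} (hXM : X ≤ M)
    (hX : IsElementaryAbelian q X) : Nat.card X ≤ q ^ k := by
  have hc : IsMulCommutative (X.subgroupOf M) := by
    have hXc := hX.1
    refine ⟨⟨fun a b => ?_⟩⟩
    have := hXc.is_comm.comm ⟨a.1.1, a.2⟩ ⟨b.1.1, b.2⟩
    have h3 : a.1.1 * b.1.1 = b.1.1 * a.1.1 := congrArg Subtype.val this
    apply Subtype.ext
    apply Subtype.ext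
    exact h3
  have he : ∀ a ∈ X.subgroupOf M, a ^ q = 1 := by
    intro a ha
    apply Subtype.ext
    have := hX.2 a.1 ha
    simpa using this
  have h1 := h (X.subgroupOf M) hc he
  rwa [Nat.card_congr (subgroupOfEquivOfLe hXM).toEquiv] at h1

end

/-! ### `Ω₁(Z(Y))` -/

/-- `Ω₁(Z(Y))` for the prime `q` -/
def omegaZ (q : ℕ) (Y : Subgroup G) : Subgroup G where
  carrier := {y | y ∈ Y ∧ (∀ z ∈ Y, z * y = y * z) ∧ y ^ q = 1}
  one_mem' := ⟨one_mem _, fun z _ => by rw [mul_one, one_mul], one_pow _⟩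
  mul_mem' := by
    rintro a b ⟨ha, hac, haq⟩ ⟨hb, hbc, hbq⟩
    refine ⟨mul_mem ha hb, ?_, ?_⟩
    · intro z hz
      rw [← mul_assoc, hac z hz, mul_assoc, hbc z hz, mul_assoc]
    · have hab : Commute a b := hbc a ha
      rw [hab.mul_pow, haq, hbq, one_mul]
  inv_mem' := by
    rintro a ⟨ha, hac, haq⟩
    refine ⟨inv_mem ha, ?_, by rw [inv_pow, haq, inv_one]⟩
    intro z hz
    have h1 := hac z hz
    calc z * a⁻¹ = a⁻¹ * (a * z) * a⁻¹ := by group
      _ = a⁻¹ * (z * a) * a⁻¹ := by rw [h1]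
      _ = a⁻¹ * z := by group

theorem omegaZ_le (q : ℕ) (Y : Subgroup G) : omegaZ q Y ≤ Y := fun _ h => h.1

theorem omegaZ_le_centralizer (q : ℕ) (Y : Subgroup G) :
    omegaZ q Y ≤ centralizer (Y : Set G) := by
  intro y hy
  rw [mem_centralizer_iff]
  intro z hz
  exact hy.2.1 z hz

theorem omegaZ_elemAb (q : ℕ) (Y : Subgroup G) : IsElementaryAbelian q (omegaZ q Y) := by
  refine ⟨⟨⟨fun a b => ?_⟩⟩, fun a ha => ha.2.2⟩
  apply Subtype.ext
  exact b.2.2.1 a.1 a.2.1

theorem normalizer_le_normalizer_omegaZ (q : ℕ) (Y : Subgroup G) :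
    normalizer (Y : Set G) ≤ normalizer (omegaZ q Y : Set G) := by
  apply le_normalizer_of_conj_mem
  intro m hm y hy
  have hm' : m⁻¹ ∈ normalizer (Y : Set G) := inv_mem hm
  refine ⟨(mem_normalizer_iff.mp hm y).mp hy.1, ?_, ?_⟩
  · intro z hz
    have hz' : m⁻¹ * z * m ∈ Y := by
      have := (mem_normalizer_iff.mp hm' z).mp hz
      simpa using this
    have h1 := hy.2.1 _ hz'
    calc z * (m * y * m⁻¹) = m * ((m⁻¹ * z * m) * y) * m⁻¹ := by group
      _ = m * (y * (m⁻¹ * z * m)) * m⁻¹ := by rw [h1]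
      _ = m * y * m⁻¹ * z := by group
  · rw [conj_pow, hy.2.2]
    group

theorem omegaZ_ne_bot [Finite G] {q : ℕ} [Fact q.Prime] {Y : Subgroup G} (hY : IsPGroup q Y)
    (hY1 : Y ≠ ⊥) : omegaZ q Y ≠ ⊥ := by
  haveI : Nontrivial Y := (nontrivial_iff_ne_bot Y).mpr hY1
  haveI : Nontrivial (center Y) := hY.center_nontrivial
  have hq : q ∣ Nat.card (center Y) := by
    obtain ⟨n, hn⟩ := (hY.to_subgroup (center Y)).exists_card_eq
    have hn0 : n ≠ 0 := by
      intro h0
      rw [h0, pow_zero] at hn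
      have := (Nat.card_eq_one_iff_unique.mp hn).1
      exact not_subsingleton (center Y) this
    rw [hn]
    exact dvd_pow_self q hn0
  obtain ⟨z, hz⟩ := exists_prime_orderOf_dvd_card' (G := center Y) q hq
  intro hbot
  have hmem : ((z : Y) : G) ∈ omegaZ q Y := by
    refine ⟨(z : Y).2, ?_, ?_⟩
    · intro w hw
      have h1 := (mem_center_iff.mp z.2) ⟨w, hw⟩
      exact congrArg Subtype.val h1
    · have h1 : z ^ q = 1 := by rw [← hz]; exact pow_orderOf_eq_one z
      have h2 := congrArg (fun t : center Y => ((t : Y) : G)) h1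
      simpa using h2
  rw [hbot, mem_bot] at hmem
  have hz1 : z = 1 := by
    apply Subtype.ext
    apply Subtype.ext
    exact hmem
  rw [hz1, orderOf_one] at hz
  exact (Fact.out : q.Prime).one_lt.ne hz

end Cfsg.Agent.Helper17.BG11
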