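import Mathlib

/-!
# Numerics for the class number of `GL_n(q)` (S2478)

`Nw q r` is the number of monic polynomials of degree `r` over a field with `q` elements whose
constant coefficient is nonzero.  `D q k J m` is the weighted number of ways of writing
`m = ∑ j * μ_j` over the `k` part sizes `j = J, J+1, …, J+k-1`, each pattern `μ` weighted by
`∏ Nw q (μ_j)`.  The class number of `GL_n(q)` is `D q n 1 n`, and the identity
`∑_{J=1}^{n} D q (n+1-J) J (n+1-J) = q^n - 1` shows `D q n 1 n ≤ q^n`.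
-/

namespace Cfsg.Agent.Helper17.GLk

/-- Number of monic polynomials of degree `r` with nonzero constant coefficient over `𝔽_q`. -/
def Nw (q : ℕ) : ℕ → ℕ
  | 0 => 1
  | (r + 1) => q ^ (r + 1) - q ^ r

/-- Weighted pattern count with `k` part sizes `J, J+1, …`, total `m`. -/
def D (q : ℕ) : ℕ → ℕ → ℕ → ℕ
  | 0, _, m => if m = 0 then 1 else 0
  | (k + 1), J, m =>
      ∑ r ∈ Finset.range (m / J + 1), Nw q r * D q k (J + 1) (m - J * r)

theorem Nw_one_add (q : ℕ) (hq : 1 ≤ q) : Nw q 1 + 1 = q := by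
  simp [Nw]; omega

theorem Nw_succ_succ (q r : ℕ) : Nw q (r + 2) = q * Nw q (r + 1) := by
  simp only [Nw]
  rw [Nat.mul_sub, ← pow_succ', ← pow_succ']

theorem Nw_zero (q : ℕ) : Nw q 0 = 1 := rfl

theorem D_succ (q k J m : ℕ) :
    D q (k + 1) J m = ∑ r ∈ Finset.range (m / J + 1), Nw q r * D q k (J + 1) (m - J * r) := rfl

/-- four-term relation, in `ℕ`. -/
theorem D_rel (q k J m : ℕ) (hq : 1 ≤ q) (hJ : 1 ≤ J) (hm : J ≤ m) :
    D q (k + 1) J m + D q k (J + 1) (m - J) = q * D q (k + 1) J (m - J) + D q k (J + 1) m := by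
  have h1 : m / J = (m - J) / J + 1 := Nat.div_eq_sub_div (by omega) hm
  rw [D_succ, D_succ, h1]
  generalize D q k (J + 1) = d
  generalize (m - J) / J = t
  have hA : ∑ r ∈ Finset.range (t + 1 + 1), Nw q r * d (m - J * r)
      = ∑ s ∈ Finset.range t, Nw q (s + 2) * d (m - J * (s + 2)) + Nw q 1 * d (m - J) + d m := by
    rw [Finset.sum_range_succ' _ (t + 1), Finset.sum_range_succ' _ t]
    simp [Nw_zero]
  have hB : ∑ r ∈ Finset.range (t + 1), Nw q r * d (m - J - J * r)
      = ∑ s ∈ Finset.range t, Nw q (s + 1) * d (m - J - J * (s + 1)) + d (m - J) := by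
    rw [Finset.sum_range_succ' _ t]
    simp [Nw_zero]
  rw [hA, hB, mul_add, Finset.mul_sum]
  have h2 : ∀ s ∈ Finset.range t,
      Nw q (s + 2) * d (m - J * (s + 2)) = q * (Nw q (s + 1) * d (m - J - J * (s + 1))) := by
    intro s _
    rw [Nw_succ_succ, mul_assoc]
    congr 3
    rw [Nat.sub_sub]
    ring_nf
  rw [Finset.sum_congr rfl h2]
  have h3 : Nw q 1 + 1 = q := Nw_one_add q hq
  have : Nw q 1 * d (m - J) + d (m - J) = q * d (m - J) := by
    conv_rhs => rw [← h3]
    ring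
  linarith

theorem D_small (q k J m : ℕ) (hm : m < J) :
    D q (k + 1) J m = D q k (J + 1) m := by
  simp only [D]
  rw [Nat.div_eq_of_lt hm]
  simp [Nw]

/-- integer-indexed version, zero on negative indices -/
def Dz (q k J : ℕ) (m : ℤ) : ℤ := if 0 ≤ m then (D q k J m.toNat : ℤ) else 0

theorem Dz_nonneg (q k J : ℕ) (m : ℤ) : 0 ≤ Dz q k J m := by
  unfold Dz; split_ifs <;> simp

theorem Dz_rel (q k J : ℕ) (m : ℤ) (hq : 1 ≤ q) (hJ : 1 ≤ J) :
    Dz q (k + 1) J m - q * Dz q (k + 1) J (m - J) = Dz q k (J + 1) m - Dz q k (J + 1) (m - J) := by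
  unfold Dz
  by_cases h0 : 0 ≤ m
  · by_cases h1 : (J : ℤ) ≤ m
    · have h2 : 0 ≤ m - J := by omega
      rw [if_pos h0, if_pos h2, if_pos h0, if_pos h2]
      have hm : J ≤ m.toNat := by omega
      have := D_rel q k J m.toNat hq hJ hm
      have e : (m - J).toNat = m.toNat - J := by omega
      rw [e]
      have := congrArg (fun x : ℕ => (x : ℤ)) this
      push_cast at this
      linarith
    · have h2 : ¬ 0 ≤ m - J := by omega
      rw [if_pos h0, if_neg h2, if_pos h0, if_neg h2]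
      have hm : m.toNat < J := by omega
      rw [D_small q k J m.toNat hm]
      ring
  · have h2 : ¬ 0 ≤ m - J := by omega
    rw [if_neg h0, if_neg h2, if_neg h0, if_neg h2]
    ring

/-- telescoping -/
theorem tele (q n : ℕ) (hq : 1 ≤ q) (M : ℕ) (hM : M ≤ n) (m : ℤ) :
    ∑ J ∈ Finset.range M, (Dz q (n - J) (J + 1) (m - J) - q * Dz q (n - J) (J + 1) (m - J - 1))
      = Dz q (n - M) (M + 1) m - Dz q (n - M) (M + 1) (m - M) := by
  induction M with
  | zero => simp
  | succ M ih =>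
    rw [Finset.sum_range_succ, ih (by omega)]
    have e : n - M = (n - (M + 1)) + 1 := by omega
    have := Dz_rel q (n - (M + 1)) (M + 1) m hq (by omega)
    rw [e]
    push_cast at this ⊢
    have e2 : m - (M : ℤ) - 1 = m - ((M : ℤ) + 1) := by ring
    rw [e2]
    linarith

/-- the sum `E m = ∑_{J<n} Dz (n-J) (J+1) (m-J)` -/
def Ez (q n : ℕ) (m : ℤ) : ℤ := ∑ J ∈ Finset.range n, Dz q (n - J) (J + 1) (m - J)

theorem Ez_rec (q n : ℕ) (hq : 1 ≤ q) (m : ℤ) :
    Ez q n m - q * Ez q n (m - 1) = Dz q 0 (n + 1) m - Dz q 0 (n + 1) (m - n) := by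
  have := tele q n hq n le_rfl m
  simp only [Nat.sub_self] at this
  rw [← this]
  unfold Ez
  rw [Finset.mul_sum, ← Finset.sum_sub_distrib]
  apply Finset.sum_congr rfl
  intro J _
  have : m - 1 - (J : ℤ) = m - J - 1 := by ring
  rw [this]

theorem Dz_zero (q J : ℕ) (m : ℤ) : Dz q 0 J m = if m = 0 then 1 else 0 := by
  unfold Dz
  by_cases h0 : 0 ≤ m
  · rw [if_pos h0]
    simp only [D]
    by_cases h1 : m = 0
    · simp [h1]
    · have : m.toNat ≠ 0 := by omega
      simp [h1, this]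
  · rw [if_neg h0]
    have : m ≠ 0 := by omega
    simp [this]

theorem Ez_neg (q n : ℕ) (m : ℤ) (hm : m < 0) : Ez q n m = 0 := by
  unfold Ez
  apply Finset.sum_eq_zero
  intro J _
  unfold Dz
  rw [if_neg (by omega)]

theorem Ez_lt (q n : ℕ) (hq : 1 ≤ q) (m : ℕ) (hm : m < n) : Ez q n m = (q : ℤ) ^ m := by
  induction m with
  | zero =>
    have := Ez_rec q n hq 0
    rw [Ez_neg q n (0 - 1) (by omega), Dz_zero, Dz_zero] at this
    have hn : (0 : ℤ) - n ≠ 0 := by omega
    simp only [hn] at this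
    simpa using this
  | succ m ih =>
    have := Ez_rec q n hq ((m + 1 : ℕ) : ℤ)
    rw [Dz_zero, Dz_zero] at this
    have h1 : ((m + 1 : ℕ) : ℤ) ≠ 0 := by omega
    have h2 : ((m + 1 : ℕ) : ℤ) - n ≠ 0 := by omega
    have h3 : ((m + 1 : ℕ) : ℤ) - 1 = (m : ℤ) := by push_cast; ring
    simp only [h1, h2, h3, if_false, sub_self] at this
    rw [ih (by omega)] at this
    rw [pow_succ]
    linarith

theorem Ez_eq (q n : ℕ) (hq : 1 ≤ q) (hn : 1 ≤ n) : Ez q n n = (q : ℤ) ^ n - 1 := by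
  have := Ez_rec q n hq (n : ℤ)
  rw [Dz_zero, Dz_zero] at this
  have h1 : (n : ℤ) ≠ 0 := by omega
  have h3 : (n : ℤ) - 1 = ((n - 1 : ℕ) : ℤ) := by omega
  simp only [h1, sub_self, if_true, if_false, h3] at this
  rw [Ez_lt q n hq (n - 1) (by omega)] at this
  have : (q : ℤ) ^ n = q * (q : ℤ) ^ (n - 1) := by
    conv_lhs => rw [show n = (n - 1) + 1 by omega]
    rw [pow_succ]; ring
  linarith

/-- **Main numeric bound.** -/
theorem D_le (q n : ℕ) (hq : 1 ≤ q) (hn : 1 ≤ n) : D q n 1 n ≤ q ^ n := by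
  have h1 : Dz q n 1 n ≤ Ez q n n := by
    unfold Ez
    have := Finset.single_le_sum (f := fun J : ℕ => Dz q (n - J) (J + 1) ((n : ℤ) - J))
      (s := Finset.range n) (fun J _ => Dz_nonneg _ _ _ _) (Finset.mem_range.mpr (by omega : 0 < n))
    simpa using this
  rw [Ez_eq q n hq hn] at h1
  unfold Dz at h1
  rw [if_pos (by omega)] at h1
  simp only [Int.toNat_natCast] at h1
  have : ((D q n 1 n : ℕ) : ℤ) ≤ ((q ^ n : ℕ) : ℤ) := by push_cast; linarith
  exact_mod_cast this

example : D 2 4 1 4 = 14 := by decide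
example : D 3 3 1 3 = 24 := by decide

end Cfsg.Agent.Helper17.GLk
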