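import Mathlib
import Cfsg.Agent.Lib.Helper17.GLkNum

/-!
# Definitions for S2478 (class number of `GL_n(q)`)
-/

open Polynomial

namespace Cfsg.Agent.Helper17.GLk

universe u

/-- monic polynomials of degree `r` with nonzero constant coefficient -/
def Mon (F : Type u) [Field F] (r : ℕ) : Set F[X] :=
  {p | p.Monic ∧ p.natDegree = r ∧ p.coeff 0 ≠ 0}

/-- `k`-tuples `(f_J, f_{J+1}, …)` of monic polynomials with nonzero constant coefficient and
`∑ (J+i) * deg f_i = m`. -/
def Tup (F : Type u) [Field F] (k J m : ℕ) : Set (Fin k → F[X]) :=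
  {f | (∀ i, (f i).Monic ∧ (f i).coeff 0 ≠ 0) ∧ ∑ i : Fin k, (J + (i : ℕ)) * (f i).natDegree = m}

/-- `(ι, p, e)` is a primary decomposition of the `F[X]`-module attached to the endomorphism `a`:
all `p i` irreducible, all exponents positive. -/
def IsDecomp {F : Type u} [Field F] {V : Type u} [AddCommGroup V] [Module F V]
    (a : Module.End F V) (ι : Type u) [Fintype ι] (p : ι → F[X]) (e : ι → ℕ) : Prop :=
  (∀ i, Irreducible (p i)) ∧ (∀ i, 1 ≤ e i) ∧
    Nonempty (Module.AEval' a ≃ₗ[F[X]] ((i : ι) → F[X] ⧸ Ideal.span {p i ^ e i}))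

/-- the type tuple attached to a decomposition: `f j = ∏_{e i = j} normalize (p i)`. -/
noncomputable def tupleOfDecomp {F : Type u} [Field F] {ι : Type u} [Fintype ι]
    (p : ι → F[X]) (e : ι → ℕ) (j : ℕ) : F[X] := by
  classical exact ∏ i ∈ Finset.univ.filter (fun i => e i = j), normalize (p i)

end Cfsg.Agent.Helper17.GLk
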