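import Mathlib

/-!
# S0429 PIECE TWO5 (helper17 for helper1): in a strongly regular graph with parameters `(15, 8, 4, 4)` every
vertex lies in exactly two cliques of size `5`.

`N` = "near" (the graph), "far" = the complement, an `srg(15, 6, 1, 3)` (the collinearity graph of the generalized
quadrangle of order 2).  Notation, relative to a fixed `x`: `fr a` = far neighbours of `a`, `nb a` = near neighbours.
-/

set_option autoImplicit false
set_option linter.unusedSectionVars false
set_option linter.unusedVariables false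

namespace Cfsg.Agent.Helper1.M22

open Finset

namespace TWO5

variable {K : Type*} [Fintype K] [DecidableEq K] (N : K → K → Prop) [DecidableRel N]

/-- the hypotheses: `N` is an `srg(15, 8, 4, 4)` -/
structure Srg : Prop where
  hs : ∀ x y, N x y → N y x
  hi : ∀ x, ¬ N x x
  hc : Fintype.card K = 15
  hk : ∀ x, (univ.filter fun y => N x y).card = 8
  hl : ∀ x y, x ≠ y → (univ.filter fun z => N x z ∧ N y z).card = 4

/-- near neighbours -/
def nb (a : K) : Finset K := univ.filter fun z => N a z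

/-- far neighbours -/
def fr (a : K) : Finset K := univ.filter fun z => z ≠ a ∧ ¬ N a z

variable {N}

theorem mem_nb {a z : K} : z ∈ nb N a ↔ N a z := by simp [nb]

theorem mem_fr {a z : K} : z ∈ fr N a ↔ z ≠ a ∧ ¬ N a z := by simp [fr]

theorem Srg.fr_symm (h : Srg N) {a b : K} (hab : b ∈ fr N a) : a ∈ fr N b := by
  rw [mem_fr] at hab ⊢
  exact ⟨fun e => hab.1 e.symm, fun e => hab.2 (h.hs _ _ e)⟩

theorem Srg.card_nb (h : Srg N) (a : K) : (nb N a).card = 8 := h.hk a

theorem Srg.card_fr (h : Srg N) (a : K) : (fr N a).card = 6 := by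
  have h1 : (univ.filter fun z => N a z).card + (univ.filter fun z => ¬ N a z).card = 15 := by
    rw [Finset.card_filter_add_card_filter_not, Finset.card_univ, h.hc]
  have h2 : (univ.filter fun z => ¬ N a z) = insert a (fr N a) := by
    ext z
    simp only [mem_filter, mem_univ, true_and, mem_insert, mem_fr]
    constructor
    · intro hz
      by_cases e : z = a
      · exact Or.inl e
      · exact Or.inr ⟨e, hz⟩
    · rintro (rfl | hz)
      · exact h.hi _
      · exact hz.2
  have h3 : a ∉ fr N a := by simp [mem_fr]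
  rw [h2, card_insert_of_notMem h3, h.hk a] at h1
  omega

theorem Srg.ne_of_N (h : Srg N) {a b : K} (hab : N a b) : a ≠ b := by
  rintro rfl; exact h.hi _ hab

/-- `|N(a) ∪ N(b)| = 12` -/
theorem Srg.card_union_nb (h : Srg N) {a b : K} (hab : a ≠ b) : (nb N a ∪ nb N b).card = 12 := by
  have h1 := Finset.card_union_add_card_inter (nb N a) (nb N b)
  have h2 : nb N a ∩ nb N b = univ.filter fun z => N a z ∧ N b z := by
    ext z; simp [mem_nb]
  rw [h2, h.hl a b hab, h.card_nb, h.card_nb] at h1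
  omega

theorem Srg.card_compl_union_nb (h : Srg N) {a b : K} (hab : a ≠ b) : ((nb N a ∪ nb N b)ᶜ).card = 3 := by
  rw [Finset.card_compl, h.card_union_nb hab, h.hc]

/-- two far points have exactly one common far neighbour -/
theorem Srg.card_cf_far (h : Srg N) {a b : K} (hab : b ∈ fr N a) : (fr N a ∩ fr N b).card = 1 := by
  have hab' := mem_fr.1 hab
  have hne : a ≠ b := fun e => hab'.1 e.symm
  have h1 := h.card_compl_union_nb hne
  have h2 : (nb N a ∪ nb N b)ᶜ = insert a (insert b (fr N a ∩ fr N b)) := by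
    ext z
    simp only [mem_compl, mem_union, mem_nb, mem_insert, mem_inter, mem_fr, not_or]
    constructor
    · rintro ⟨h3, h4⟩
      by_cases e1 : z = a
      · exact Or.inl e1
      · by_cases e2 : z = b
        · exact Or.inr (Or.inl e2)
        · exact Or.inr (Or.inr ⟨⟨e1, h3⟩, ⟨e2, h4⟩⟩)
    · rintro (rfl | rfl | ⟨h3, h4⟩)
      · exact ⟨h.hi _, fun e => hab'.2 (h.hs _ _ e)⟩
      · exact ⟨hab'.2, h.hi _⟩
      · exact ⟨h3.2, h4.2⟩
  have h3 : b ∉ fr N a ∩ fr N b := by simp [mem_fr]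
  have h4 : a ∉ insert b (fr N a ∩ fr N b) := by
    simp only [mem_insert, mem_inter, mem_fr, not_or]
    exact ⟨hne, fun hh => hh.1.1 rfl⟩
  rw [h2, card_insert_of_notMem h4, card_insert_of_notMem h3] at h1
  omega

/-- two near points have exactly three common far neighbours -/
theorem Srg.card_cf_near (h : Srg N) {a b : K} (hab : N a b) : (fr N a ∩ fr N b).card = 3 := by
  have hne : a ≠ b := h.ne_of_N hab
  have h1 := h.card_compl_union_nb hne
  have h2 : (nb N a ∪ nb N b)ᶜ = fr N a ∩ fr N b := by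
    ext z
    simp only [mem_compl, mem_union, mem_nb, mem_inter, mem_fr, not_or]
    constructor
    · rintro ⟨h3, h4⟩
      refine ⟨⟨?_, h3⟩, ⟨?_, h4⟩⟩
      · rintro rfl; exact h4 (h.hs _ _ hab)
      · rintro rfl; exact h3 hab
    · rintro ⟨h3, h4⟩
      exact ⟨h3.2, h4.2⟩
  rw [h2] at h1
  exact h1

/-- uniqueness in a set with one element -/
theorem eq_of_card_one {s : Finset K} (hs : s.card = 1) {a b : K} (ha : a ∈ s) (hb : b ∈ s) : a = b :=
  Finset.card_le_one.1 (le_of_eq hs) a ha b hb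

/-! ### The local structure at a fixed vertex `x` -/

variable (N) in
/-- the far neighbours of `v` that are far from `x` -/
def fA (x v : K) : Finset K := fr N v ∩ fr N x

variable (N) in
/-- the far neighbours of `v` that are near `x` -/
def fB (x v : K) : Finset K := fr N v ∩ nb N x

theorem mem_fA {x v z : K} : z ∈ fA N x v ↔ z ∈ fr N v ∧ z ∈ fr N x := by simp [fA]

theorem mem_fB {x v z : K} : z ∈ fB N x v ↔ z ∈ fr N v ∧ N x z := by simp [fB, mem_nb]

theorem Srg.card_fA (h : Srg N) {x v : K} (hv : N x v) : (fA N x v).card = 3 :=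
  h.card_cf_near (h.hs _ _ hv)

theorem Srg.x_not_mem_fr (h : Srg N) {x v : K} (hv : N x v) : x ∉ fr N v := by
  rw [mem_fr]; exact fun hh => hh.2 (h.hs _ _ hv)

theorem Srg.fr_eq_union (h : Srg N) {x v : K} (hv : N x v) : fr N v = fA N x v ∪ fB N x v := by
  ext z
  simp only [mem_union, mem_fA, mem_fB]
  constructor
  · intro hz
    by_cases e : N x z
    · exact Or.inr ⟨hz, e⟩
    · refine Or.inl ⟨hz, mem_fr.2 ⟨?_, e⟩⟩
      rintro rfl
      exact h.x_not_mem_fr hv hz
  · rintro (hz | hz) <;> exact hz.1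

theorem disjoint_fA_fB (x v w : K) : Disjoint (fA N x v) (fB N x w) := by
  rw [Finset.disjoint_left]
  intro z hz hz'
  exact (mem_fr.1 (mem_fA.1 hz).2).2 (mem_fB.1 hz').2

theorem Srg.card_fB (h : Srg N) {x v : K} (hv : N x v) : (fB N x v).card = 3 := by
  have h1 := h.card_fr v
  rw [h.fr_eq_union hv, card_union_of_disjoint (disjoint_fA_fB x v v), h.card_fA hv] at h1
  omega

/-- decomposition of the common far neighbours of two points near `x` -/
theorem Srg.card_cf_split (h : Srg N) {x u v : K} (hu : N x u) (hv : N x v) :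
    (fr N u ∩ fr N v).card = (fA N x u ∩ fA N x v).card + (fB N x u ∩ fB N x v).card := by
  have h1 : fr N u ∩ fr N v = (fA N x u ∩ fA N x v) ∪ (fB N x u ∩ fB N x v) := by
    ext z
    simp only [mem_union, mem_inter, mem_fA, mem_fB]
    constructor
    · rintro ⟨h2, h3⟩
      by_cases e : N x z
      · exact Or.inr ⟨⟨h2, e⟩, ⟨h3, e⟩⟩
      · have : z ∈ fr N x := mem_fr.2 ⟨by rintro rfl; exact h.x_not_mem_fr hu h2, e⟩
        exact Or.inl ⟨⟨h2, this⟩, ⟨h3, this⟩⟩
    · rintro (⟨h2, h3⟩ | ⟨h2, h3⟩) <;> exact ⟨h2.1, h3.1⟩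
  rw [h1, card_union_of_disjoint]
  rw [Finset.disjoint_left]
  intro z hz hz'
  exact disjoint_left.1 (disjoint_fA_fB x u u) (mem_inter.1 hz).1 (mem_inter.1 hz').1

/-- (T) the far graph on the points near `x` has no triangles: the common far neighbour of two far points near `x`
is far from `x` -/
theorem Srg.tri (h : Srg N) {x y w u : K} (hy : N x y) (hw : N x w) (hyw : w ∈ fr N y)
    (hu : u ∈ fr N y ∩ fr N w) : u ∈ fr N x := by
  by_contra hux
  have huy := (mem_inter.1 hu).1
  have huw := (mem_inter.1 hu).2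
  have hu' : N x u := by
    by_contra e
    exact hux (mem_fr.2 ⟨by rintro rfl; exact h.x_not_mem_fr hy huy, e⟩)
  have c1 := h.card_cf_far hyw
  have c2 := h.card_cf_far huy
  have c3 := h.card_cf_far huw
  -- the three sets `fA` are pairwise disjoint
  have d1 : Disjoint (fA N x y) (fA N x w) := by
    rw [Finset.disjoint_left]
    intro s hs hs'
    have : s = u := eq_of_card_one c1 (mem_inter.2 ⟨(mem_fA.1 hs).1, (mem_fA.1 hs').1⟩) hu
    exact hux (this ▸ (mem_fA.1 hs).2)
  have d2 : Disjoint (fA N x y) (fA N x u) := by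
    rw [Finset.disjoint_left]
    intro s hs hs'
    have : s = w := eq_of_card_one c2 (mem_inter.2 ⟨(mem_fA.1 hs).1, (mem_fA.1 hs').1⟩)
      (mem_inter.2 ⟨hyw, h.fr_symm huw⟩)
    exact (mem_fr.1 (this ▸ (mem_fA.1 hs).2)).2 hw
  have d3 : Disjoint (fA N x w) (fA N x u) := by
    rw [Finset.disjoint_left]
    intro s hs hs'
    have : s = y := eq_of_card_one c3 (mem_inter.2 ⟨(mem_fA.1 hs).1, (mem_fA.1 hs').1⟩)
      (mem_inter.2 ⟨h.fr_symm hyw, h.fr_symm huy⟩)
    exact (mem_fr.1 (this ▸ (mem_fA.1 hs).2)).2 hy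
  have hsub : (fA N x y ∪ fA N x w) ∪ fA N x u ⊆ fr N x := by
    intro s hs
    simp only [mem_union, mem_fA] at hs
    rcases hs with (hs | hs) | hs <;> exact hs.2
  have hcard := Finset.card_le_card hsub
  rw [card_union_of_disjoint (by rw [disjoint_union_left]; exact ⟨d2, d3⟩), card_union_of_disjoint d1,
    h.card_fA hy, h.card_fA hw, h.card_fA hu', h.card_fr] at hcard
  omega

/-- (TR1) a point other than `x` is not far from both points of a far pair inside `fr x` -/
theorem Srg.tr_not_both (h : Srg N) {x s s' v : K} (hs : s ∈ fr N x) (hs' : s' ∈ fr N x) (hss : s' ∈ fr N s)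
    (hvx : v ≠ x) (h1 : v ∈ fr N s) (h2 : v ∈ fr N s') : False := by
  have c := h.card_cf_far hss
  exact hvx (eq_of_card_one c (mem_inter.2 ⟨h1, h2⟩) (mem_inter.2 ⟨h.fr_symm hs, h.fr_symm hs'⟩))

/-- a point far from `x` has exactly four far neighbours near `x` -/
theorem Srg.card_far_near (h : Srg N) {x s : K} (hs : s ∈ fr N x) : (fr N s ∩ nb N x).card = 4 := by
  have h1 := h.card_fr s
  have h2 : fr N s = insert x ((fr N s ∩ fr N x) ∪ (fr N s ∩ nb N x)) := by
    ext z
    simp only [mem_insert, mem_union, mem_inter, mem_nb]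
    constructor
    · intro hz
      by_cases e1 : z = x
      · exact Or.inl e1
      · by_cases e2 : N x z
        · exact Or.inr (Or.inr ⟨hz, e2⟩)
        · exact Or.inr (Or.inl ⟨hz, mem_fr.2 ⟨e1, e2⟩⟩)
    · rintro (rfl | hz | hz)
      · exact h.fr_symm hs
      · exact hz.1
      · exact hz.1
  have h3 : x ∉ (fr N s ∩ fr N x) ∪ (fr N s ∩ nb N x) := by
    simp only [mem_union, mem_inter, mem_nb, not_or, not_and]
    exact ⟨fun _ hx => (mem_fr.1 hx).1 rfl, fun _ => h.hi x⟩
  have h4 : Disjoint (fr N s ∩ fr N x) (fr N s ∩ nb N x) := by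
    rw [Finset.disjoint_left]
    intro z hz hz'
    exact (mem_fr.1 (mem_inter.1 hz).2).2 (mem_nb.1 (mem_inter.1 hz').2)
  have h5 : (fr N s ∩ fr N x).card = 1 := by
    rw [Finset.inter_comm]; exact h.card_cf_far hs
  rw [h2, card_insert_of_notMem h3, card_union_of_disjoint h4, h5] at h1
  omega

/-- (TR2) a point near `x` is far from one of the two points of a far pair inside `fr x` -/
theorem Srg.tr_one (h : Srg N) {x s s' v : K} (hs : s ∈ fr N x) (hs' : s' ∈ fr N x) (hss : s' ∈ fr N s)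
    (hv : N x v) : v ∈ fr N s ∨ v ∈ fr N s' := by
  have hd : Disjoint (fr N s ∩ nb N x) (fr N s' ∩ nb N x) := by
    rw [Finset.disjoint_left]
    intro z hz hz'
    have hzx : z ≠ x := by
      rintro rfl
      exact h.hi _ (mem_nb.1 (mem_inter.1 hz).2)
    exact h.tr_not_both hs hs' hss hzx (mem_inter.1 hz).1 (mem_inter.1 hz').1
  have hsub : (fr N s ∩ nb N x) ∪ (fr N s' ∩ nb N x) ⊆ nb N x := by
    intro z hz
    rcases mem_union.1 hz with hz | hz <;> exact (mem_inter.1 hz).2
  have hcard : (nb N x).card ≤ ((fr N s ∩ nb N x) ∪ (fr N s' ∩ nb N x)).card := by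
    rw [card_union_of_disjoint hd, h.card_far_near hs, h.card_far_near hs', h.card_nb]
  have heq := Finset.eq_of_subset_of_card_le hsub hcard
  have hv' : v ∈ (fr N s ∩ nb N x) ∪ (fr N s' ∩ nb N x) := by
    rw [heq]; exact mem_nb.2 hv
  rcases mem_union.1 hv' with hz | hz
  · exact Or.inl (mem_inter.1 hz).1
  · exact Or.inr (mem_inter.1 hz).1

/-- (P) the path lemma: `y - w - z` a path in the far graph on the points near `x`; then `y` and `z` have exactly
one common far neighbour that is far from `x` -/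
theorem Srg.path (h : Srg N) {x y w z : K} (hy : N x y) (hw : N x w) (hz : N x z)
    (hyw : w ∈ fr N y) (hwz : z ∈ fr N w) (hyz : y ≠ z) : (fA N x y ∩ fA N x z).card = 1 := by
  have hyx : y ≠ x := (h.ne_of_N hy).symm
  have hzx : z ≠ x := (h.ne_of_N hz).symm
  have c1 := h.card_cf_far hyw
  have c2 := h.card_cf_far hwz
  obtain ⟨s1, hs1⟩ := card_eq_one.1 c1
  obtain ⟨s2, hs2⟩ := card_eq_one.1 c2
  have m1 : s1 ∈ fr N y ∩ fr N w := by rw [hs1]; exact mem_singleton_self _
  have m2 : s2 ∈ fr N w ∩ fr N z := by rw [hs2]; exact mem_singleton_self _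
  have hs1x : s1 ∈ fr N x := h.tri hy hw hyw m1
  have hs2x : s2 ∈ fr N x := h.tri hw hz hwz m2
  have hs1y := (mem_inter.1 m1).1
  have hs1w := (mem_inter.1 m1).2
  have hs2w := (mem_inter.1 m2).1
  have hs2z := (mem_inter.1 m2).2
  have h12 : s1 ≠ s2 := by
    intro e
    apply hyz
    have c := h.card_cf_far hs1w
    exact eq_of_card_one c (mem_inter.2 ⟨h.fr_symm hyw, h.fr_symm hs1y⟩)
      (mem_inter.2 ⟨hwz, h.fr_symm (e ▸ hs2z)⟩)
  have a1 : s1 ∈ fA N x w := mem_fA.2 ⟨hs1w, hs1x⟩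
  have a2 : s2 ∈ fA N x w := mem_fA.2 ⟨hs2w, hs2x⟩
  -- the third element of `fA x w`
  have hc3 : (((fA N x w).erase s1).erase s2).card = 1 := by
    rw [card_erase_of_mem (mem_erase.2 ⟨h12.symm, a2⟩), card_erase_of_mem a1, h.card_fA hw]
  obtain ⟨s3, hs3⟩ := card_eq_one.1 hc3
  have m3 : s3 ∈ ((fA N x w).erase s1).erase s2 := by rw [hs3]; exact mem_singleton_self _
  have h32 : s3 ≠ s2 := (mem_erase.1 m3).1
  have h31 : s3 ≠ s1 := (mem_erase.1 (mem_erase.1 m3).2).1
  have a3 : s3 ∈ fA N x w := (mem_erase.1 (mem_erase.1 m3).2).2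
  have hs3w := (mem_fA.1 a3).1
  have hs3x := (mem_fA.1 a3).2
  have hAw : ∀ s ∈ fA N x w, s = s1 ∨ s = s2 ∨ s = s3 := by
    intro s hs
    by_contra hne
    simp only [not_or] at hne
    have : s ∈ ((fA N x w).erase s1).erase s2 := mem_erase.2 ⟨hne.2.1, mem_erase.2 ⟨hne.1, hs⟩⟩
    rw [hs3, mem_singleton] at this
    exact hne.2.2 this
  -- the mate of `s3`
  have c3 := h.card_cf_far hs3x
  obtain ⟨t3, ht3⟩ := card_eq_one.1 c3
  have m3' : t3 ∈ fr N x ∩ fr N s3 := by rw [ht3]; exact mem_singleton_self _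
  have ht3x := (mem_inter.1 m3').1
  have ht3s := (mem_inter.1 m3').2
  have hy3 : y ∉ fr N s3 := by
    intro hh
    have : s3 = s1 := eq_of_card_one c1 (mem_inter.2 ⟨h.fr_symm hh, hs3w⟩) m1
    exact h31 this
  have hz3 : z ∉ fr N s3 := by
    intro hh
    have : s3 = s2 := eq_of_card_one c2 (mem_inter.2 ⟨hs3w, h.fr_symm hh⟩) m2
    exact h32 this
  have hyt : t3 ∈ fr N y := by
    rcases h.tr_one hs3x ht3x ht3s hy with hh | hh
    · exact absurd hh hy3
    · exact h.fr_symm hh
  have hzt : t3 ∈ fr N z := by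
    rcases h.tr_one hs3x ht3x ht3s hz with hh | hh
    · exact absurd hh hz3
    · exact h.fr_symm hh
  refine card_eq_one.2 ⟨t3, Finset.eq_singleton_iff_unique_mem.2 ⟨?_, ?_⟩⟩
  · exact mem_inter.2 ⟨mem_fA.2 ⟨hyt, ht3x⟩, mem_fA.2 ⟨hzt, ht3x⟩⟩
  · intro s hs
    have hsy := (mem_fA.1 (mem_inter.1 hs).1).1
    have hsx := (mem_fA.1 (mem_inter.1 hs).1).2
    have hsz := (mem_fA.1 (mem_inter.1 hs).2).1
    have cs := h.card_cf_far hsx
    obtain ⟨s', hs'⟩ := card_eq_one.1 cs
    have ms' : s' ∈ fr N x ∩ fr N s := by rw [hs']; exact mem_singleton_self _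
    have hs'x := (mem_inter.1 ms').1
    have hs's := (mem_inter.1 ms').2
    have hws : w ∉ fr N s := by
      intro hh
      have e1 : s = s1 := eq_of_card_one c1 (mem_inter.2 ⟨hsy, h.fr_symm hh⟩) m1
      have e2 : s = s2 := eq_of_card_one c2 (mem_inter.2 ⟨h.fr_symm hh, hsz⟩) m2
      exact h12 (e1.symm.trans e2)
    have hws' : s' ∈ fr N w := by
      rcases h.tr_one hsx hs'x hs's hw with hh | hh
      · exact absurd hh hws
      · exact h.fr_symm hh
    rcases hAw s' (mem_fA.2 ⟨hws', hs'x⟩) with e | e | e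
    · exfalso
      exact h.tr_not_both hsx hs'x hs's hyx (h.fr_symm hsy) (e ▸ h.fr_symm hs1y)
    · exfalso
      exact h.tr_not_both hsx hs'x hs's hzx (h.fr_symm hsz) (e ▸ h.fr_symm hs2z)
    · have : s ∈ fr N x ∩ fr N s3 := mem_inter.2 ⟨hsx, e ▸ h.fr_symm hs's⟩
      exact eq_of_card_one c3 this m3'

/-- (S1) for `y`, `z` near `x` and near each other, the number of common far neighbours far from `x` is `3` or `1` -/
theorem Srg.cA_cases (h : Srg N) {x y z : K} (hy : N x y) (hz : N x z) (hyz : N y z) :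
    (fA N x y ∩ fA N x z).card = 3 ∨ (fA N x y ∩ fA N x z).card = 1 := by
  by_cases hB : (fB N x y ∩ fB N x z).Nonempty
  · obtain ⟨w, hw⟩ := hB
    have hwy := (mem_fB.1 (mem_inter.1 hw).1)
    have hwz := (mem_fB.1 (mem_inter.1 hw).2)
    exact Or.inr (h.path hy hwy.2 hz hwy.1 (h.fr_symm hwz.1) (h.ne_of_N hyz))
  · rw [Finset.not_nonempty_iff_eq_empty] at hB
    have h1 := h.card_cf_split hy hz
    rw [hB, card_empty, h.card_cf_near hyz] at h1
    exact Or.inl (by omega)

/-- the star lemma: for `x`, `y` near, the far graph on the four common near neighbours is a star `K_{1,3}` -/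
theorem Srg.star (h : Srg N) {x y : K} (hy : N x y) :
    ∃ r, N x r ∧ N y r ∧ (∀ z, N x z → N y z → z ≠ r → z ∈ fr N r) ∧
      (∀ z z', N x z → N y z → N x z' → N y z' → z ≠ r → z' ≠ r → z ≠ z' → N z z') := by
  have hxy : x ≠ y := h.ne_of_N hy
  have hyx : y ≠ x := hxy.symm
  -- two points `s1 ≠ s2` far from `x` and `y`
  have hA := h.card_fA hy
  obtain ⟨s1, hs1, s2, hs2, h12⟩ := Finset.one_lt_card.1 (by rw [hA]; norm_num : 1 < (fA N x y).card)
  have hs1y := (mem_fA.1 hs1).1
  have hs1x := (mem_fA.1 hs1).2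
  have hs2y := (mem_fA.1 hs2).1
  have hs2x := (mem_fA.1 hs2).2
  have hN12 : N s1 s2 := by
    by_contra e
    have : s2 ∈ fr N s1 := mem_fr.2 ⟨h12.symm, e⟩
    exact h.tr_not_both hs1x hs2x this hyx (h.fr_symm hs1y) (h.fr_symm hs2y)
  have c12 := h.card_cf_near hN12
  have mx : x ∈ fr N s1 ∩ fr N s2 := mem_inter.2 ⟨h.fr_symm hs1x, h.fr_symm hs2x⟩
  have my : y ∈ fr N s1 ∩ fr N s2 := mem_inter.2 ⟨h.fr_symm hs1y, h.fr_symm hs2y⟩
  have hc3 : (((fr N s1 ∩ fr N s2).erase x).erase y).card = 1 := by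
    rw [card_erase_of_mem (mem_erase.2 ⟨hyx, my⟩), card_erase_of_mem mx, c12]
  obtain ⟨r, hr⟩ := card_eq_one.1 hc3
  have mr : r ∈ ((fr N s1 ∩ fr N s2).erase x).erase y := by rw [hr]; exact mem_singleton_self _
  have hry : r ≠ y := (mem_erase.1 mr).1
  have hrx : r ≠ x := (mem_erase.1 (mem_erase.1 mr).2).1
  have hr12 := (mem_erase.1 (mem_erase.1 mr).2).2
  have hr1 := (mem_inter.1 hr12).1
  have hr2 := (mem_inter.1 hr12).2
  have huniq : ∀ z, z ≠ x → z ≠ y → z ∈ fr N s1 → z ∈ fr N s2 → z = r := by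
    intro z hzx hzy hz1 hz2
    have : z ∈ ((fr N s1 ∩ fr N s2).erase x).erase y :=
      mem_erase.2 ⟨hzy, mem_erase.2 ⟨hzx, mem_inter.2 ⟨hz1, hz2⟩⟩⟩
    rw [hr, mem_singleton] at this
    exact this
  have hNxr : N x r := by
    by_contra e
    have hrfx : r ∈ fr N x := mem_fr.2 ⟨hrx, e⟩
    have c := h.card_cf_far hrfx
    exact h12 (eq_of_card_one c (mem_inter.2 ⟨hs1x, h.fr_symm hr1⟩) (mem_inter.2 ⟨hs2x, h.fr_symm hr2⟩))
  have hNyr : N y r := by
    by_contra e
    have hrfy : r ∈ fr N y := mem_fr.2 ⟨hry, e⟩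
    have c := h.card_cf_far hrfy
    exact h12 (eq_of_card_one c (mem_inter.2 ⟨hs1y, h.fr_symm hr1⟩) (mem_inter.2 ⟨hs2y, h.fr_symm hr2⟩))
  -- `fA x r = fA x y`
  have hcr : (fA N x y ∩ fA N x r).card = 3 := by
    rcases h.cA_cases hy hNxr hNyr with e | e
    · exact e
    · exfalso
      have m1 : s1 ∈ fA N x y ∩ fA N x r := mem_inter.2 ⟨hs1, mem_fA.2 ⟨h.fr_symm hr1, hs1x⟩⟩
      have m2 : s2 ∈ fA N x y ∩ fA N x r := mem_inter.2 ⟨hs2, mem_fA.2 ⟨h.fr_symm hr2, hs2x⟩⟩
      exact h12 (eq_of_card_one e m1 m2)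
  have hAr : fA N x r = fA N x y := by
    have e1 : fA N x y ∩ fA N x r = fA N x y :=
      Finset.eq_of_subset_of_card_le Finset.inter_subset_left (by rw [hcr, hA])
    have e2 : fA N x y ⊆ fA N x r := by
      rw [← e1]; exact Finset.inter_subset_right
    exact (Finset.eq_of_subset_of_card_le e2 (by rw [hA, h.card_fA hNxr])).symm
  -- the other points have exactly one common far neighbour with `y` far from `x`
  have hone : ∀ z, N x z → N y z → z ≠ r → (fA N x y ∩ fA N x z).card = 1 := by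
    intro z hz hyz hzr
    rcases h.cA_cases hy hz hyz with e | e
    · exfalso
      have e1 : fA N x y ∩ fA N x z = fA N x y :=
        Finset.eq_of_subset_of_card_le Finset.inter_subset_left (by rw [e, hA])
      have e2 : fA N x y ⊆ fA N x z := by
        rw [← e1]; exact Finset.inter_subset_right
      exact hzr (huniq z (h.ne_of_N hz).symm (h.ne_of_N hyz).symm
        (h.fr_symm (mem_fA.1 (e2 hs1)).1) (h.fr_symm (mem_fA.1 (e2 hs2)).1))
    · exact e
  have hBry : (fB N x r ∩ fB N x y).card = 0 := by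
    have h1 := h.card_cf_split hNxr hy
    rw [h.card_cf_near (h.hs _ _ hNyr), hAr, Finset.inter_self, hA] at h1
    omega
  have hfarr : ∀ z, N x z → N y z → z ≠ r → z ∈ fr N r := by
    intro z hz hyz hzr
    by_contra hnf
    have hNrz : N r z := by
      by_contra e
      exact hnf (mem_fr.2 ⟨hzr, e⟩)
    have h1 := h.card_cf_split hz hNxr
    rw [h.card_cf_near (h.hs _ _ hNrz), hAr, Finset.inter_comm (fA N x z), hone z hz hyz hzr] at h1
    have h2 := h.card_cf_split hz hy
    rw [h.card_cf_near (h.hs _ _ hyz), Finset.inter_comm (fA N x z), hone z hz hyz hzr] at h2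
    have hd : Disjoint (fB N x z ∩ fB N x r) (fB N x z ∩ fB N x y) := by
      rw [Finset.disjoint_left]
      intro u hu hu'
      have : u ∈ fB N x r ∩ fB N x y := mem_inter.2 ⟨(mem_inter.1 hu).2, (mem_inter.1 hu').2⟩
      rw [Finset.card_eq_zero] at hBry
      rw [hBry] at this
      exact Finset.notMem_empty _ this
    have hsub : (fB N x z ∩ fB N x r) ∪ (fB N x z ∩ fB N x y) ⊆ fB N x z := by
      intro u hu
      rcases mem_union.1 hu with hu | hu <;> exact (mem_inter.1 hu).1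
    have hcard := Finset.card_le_card hsub
    rw [card_union_of_disjoint hd, h.card_fB hz] at hcard
    omega
  refine ⟨r, hNxr, hNyr, hfarr, ?_⟩
  intro z z' hz hyz hz' hyz' hzr hz'r hzz'
  by_contra e
  have hfar : z' ∈ fr N z := mem_fr.2 ⟨hzz'.symm, e⟩
  have hrz : r ∈ fr N z := h.fr_symm (hfarr z hz hyz hzr)
  have hrz' : r ∈ fr N z' := h.fr_symm (hfarr z' hz' hyz' hz'r)
  have := h.tri hz hz' hfar (mem_inter.2 ⟨hrz, hrz'⟩)
  exact (mem_fr.1 this).2 hNxr

variable (N) in
/-- `Q` is a clique of size 5 through `x` -/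
def IsCl (x : K) (Q : Finset K) : Prop := Q.card = 5 ∧ x ∈ Q ∧ ∀ a ∈ Q, ∀ b ∈ Q, a ≠ b → N a b

/-- through two near points there is exactly one clique of size 5 -/
theorem Srg.exists_clique (h : Srg N) {x y : K} (hy : N x y) :
    ∃ Q0 : Finset K, IsCl N x Q0 ∧ y ∈ Q0 ∧ ∀ Q, IsCl N x Q → y ∈ Q → Q = Q0 := by
  have hxy : x ≠ y := h.ne_of_N hy
  obtain ⟨r, hxr, hyr, hfar, hnear⟩ := h.star hy
  have hC : (nb N x ∩ nb N y).card = 4 := by
    have : nb N x ∩ nb N y = univ.filter fun z => N x z ∧ N y z := by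
      ext z; simp [mem_nb]
    rw [this, h.hl x y hxy]
  have hrC : r ∈ nb N x ∩ nb N y := mem_inter.2 ⟨mem_nb.2 hxr, mem_nb.2 hyr⟩
  have hC3 : ((nb N x ∩ nb N y).erase r).card = 3 := by
    rw [card_erase_of_mem hrC, hC]
  have memC : ∀ {z}, z ∈ (nb N x ∩ nb N y).erase r ↔ z ≠ r ∧ N x z ∧ N y z := by
    intro z
    rw [mem_erase, mem_inter, mem_nb, mem_nb]
  have hy_not : y ∉ (nb N x ∩ nb N y).erase r := by
    rw [memC]; exact fun hh => h.hi _ hh.2.2
  have hx_not : x ∉ insert y ((nb N x ∩ nb N y).erase r) := by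
    rw [mem_insert, memC, not_or]
    exact ⟨hxy, fun hh => h.hi _ hh.2.1⟩
  refine ⟨insert x (insert y ((nb N x ∩ nb N y).erase r)), ⟨?_, mem_insert_self _ _, ?_⟩,
    mem_insert_of_mem (mem_insert_self _ _), ?_⟩
  · rw [card_insert_of_notMem hx_not, card_insert_of_notMem hy_not, hC3]
  · intro a ha b hb hab
    rw [mem_insert, mem_insert, memC] at ha hb
    rcases ha with rfl | rfl | ⟨har, hxa, hya⟩
    · rcases hb with rfl | rfl | ⟨hbr, hxb, hyb⟩
      · exact absurd rfl hab
      · exact hy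
      · exact hxb
    · rcases hb with rfl | rfl | ⟨hbr, hxb, hyb⟩
      · exact h.hs _ _ hy
      · exact absurd rfl hab
      · exact hyb
    · rcases hb with rfl | rfl | ⟨hbr, hxb, hyb⟩
      · exact h.hs _ _ hxa
      · exact h.hs _ _ hya
      · exact hnear a b hxa hya hxb hyb har hbr hab
  · rintro Q ⟨hQ5, hxQ, hQ⟩ hyQ
    have hsub0 : ∀ a ∈ (Q.erase x).erase y, N x a ∧ N y a := by
      intro a ha
      have h1 := mem_erase.1 ha
      have h2 := mem_erase.1 h1.2
      exact ⟨hQ x hxQ a h2.2 h2.1.symm, hQ y hyQ a h2.2 h1.1.symm⟩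
    have hc3 : ((Q.erase x).erase y).card = 3 := by
      rw [card_erase_of_mem (mem_erase.2 ⟨hxy.symm, hyQ⟩), card_erase_of_mem hxQ, hQ5]
    have hrQ : r ∉ Q := by
      intro hrQ
      have hr' : r ∈ (Q.erase x).erase y :=
        mem_erase.2 ⟨(h.ne_of_N hyr).symm, mem_erase.2 ⟨(h.ne_of_N hxr).symm, hrQ⟩⟩
      have hc2 : (((Q.erase x).erase y).erase r).card = 2 := by
        rw [card_erase_of_mem hr', hc3]
      obtain ⟨z, hz⟩ := Finset.card_pos.1 (by rw [hc2]; norm_num : 0 < (((Q.erase x).erase y).erase r).card)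
      have hz1 := mem_erase.1 hz
      have hz2 := hsub0 z hz1.2
      have hzQ : z ∈ Q := (mem_erase.1 (mem_erase.1 hz1.2).2).2
      have := hfar z hz2.1 hz2.2 hz1.1
      exact (mem_fr.1 this).2 (hQ r hrQ z hzQ hz1.1.symm)
    have hsub : (Q.erase x).erase y ⊆ (nb N x ∩ nb N y).erase r := by
      intro a ha
      rw [memC]
      have h2 := hsub0 a ha
      refine ⟨?_, h2.1, h2.2⟩
      rintro rfl
      exact hrQ (mem_erase.1 (mem_erase.1 ha).2).2
    have heq := Finset.eq_of_subset_of_card_le hsub (by rw [hC3, hc3])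
    rw [← heq, Finset.insert_erase (mem_erase.2 ⟨hxy.symm, hyQ⟩), Finset.insert_erase hxQ]

instance (x : K) (Q : Finset K) : Decidable (IsCl N x Q) := by unfold IsCl; infer_instance

/-- every vertex lies in exactly two cliques of size 5 -/
theorem Srg.two (h : Srg N) (x : K) : (univ.filter fun Q : Finset K => IsCl N x Q).card = 2 := by
  have key := Finset.sum_card_bipartiteAbove_eq_sum_card_bipartiteBelow
    (s := univ.filter fun Q : Finset K => IsCl N x Q) (t := nb N x) (fun (Q : Finset K) (y : K) => y ∈ Q)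
  have hL : ∀ Q ∈ (univ.filter fun Q : Finset K => IsCl N x Q),
      ((nb N x).bipartiteAbove (fun (Q : Finset K) (y : K) => y ∈ Q) Q).card = 4 := by
    intro Q hQ
    obtain ⟨hQ5, hxQ, hQc⟩ := (mem_filter.1 hQ).2
    have : (nb N x).bipartiteAbove (fun (Q : Finset K) (y : K) => y ∈ Q) Q = Q.erase x := by
      ext a
      simp only [Finset.bipartiteAbove, mem_filter, mem_nb, mem_erase]
      constructor
      · rintro ⟨h1, h2⟩
        exact ⟨(h.ne_of_N h1).symm, h2⟩
      · rintro ⟨h1, h2⟩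
        exact ⟨hQc x hxQ a h2 h1.symm, h2⟩
    rw [this, card_erase_of_mem hxQ, hQ5]
  have hR : ∀ y ∈ nb N x, ((univ.filter fun Q : Finset K => IsCl N x Q).bipartiteBelow
      (fun (Q : Finset K) (y : K) => y ∈ Q) y).card = 1 := by
    intro y hy
    obtain ⟨Q0, hQ0, hyQ0, huniq⟩ := h.exists_clique (mem_nb.1 hy)
    refine card_eq_one.2 ⟨Q0, ?_⟩
    ext Q
    simp only [Finset.bipartiteBelow, mem_filter, mem_univ, true_and, mem_singleton]
    constructor
    · rintro ⟨h1, h2⟩
      exact huniq Q h1 h2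
    · rintro rfl
      exact ⟨hQ0, hyQ0⟩
  rw [Finset.sum_congr rfl hL, Finset.sum_congr rfl hR, Finset.sum_const, Finset.sum_const, h.card_nb,
    smul_eq_mul, smul_eq_mul] at key
  omega

end TWO5

/-- PIECE TWO5.  In a strongly regular graph with parameters (15, 8, 4, 4) every vertex lies in exactly two cliques
of size 5. -/
theorem two_five_cliques {K : Type*} [Fintype K] [DecidableEq K] (N : K → K → Prop) [DecidableRel N]
    (hs : ∀ x y, N x y → N y x) (hi : ∀ x, ¬ N x x) (hc : Fintype.card K = 15)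
    (hk : ∀ x, (univ.filter fun y => N x y).card = 8)
    (hl : ∀ x y, x ≠ y → (univ.filter fun z => N x z ∧ N y z).card = 4) (x : K) :
    (univ.filter fun Q : Finset K => Q.card = 5 ∧ x ∈ Q ∧ ∀ a ∈ Q, ∀ b ∈ Q, a ≠ b → N a b).card = 2 := by
  have h : TWO5.Srg N := ⟨hs, hi, hc, hk, hl⟩
  have h2 := h.two x
  convert h2 using 2
  ext Q
  rw [mem_filter, mem_filter]
  exact Iff.rfl

end Cfsg.Agent.Helper1.M22
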