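import Mathlib
import Cfsg.Agent.Lib.Helper1.NMDefs
import Cfsg.Agent.Lib.Helper21.ClassSize

/-!
# S4146, piece CARDT: a normal subgroup right-stabilizing `cls a` has order dividing `ix a`
-/

namespace Cfsg.Agent.Helper1.NM

open Subgroup

variable {G : Type*} [Group G] [Finite G] {n m : ℕ}

/-- a free action: the order of the group divides the number of points -/
theorem cardt_dvd_of_free {K X : Type*} [Group K] [MulAction K X] [Finite K] [Finite X]
    (hfree : ∀ (k : K) (x : X), k • x = x → k = 1) : Nat.card K ∣ Nat.card X := by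
  classical
  haveI : Fintype (MulAction.orbitRel.Quotient K X) := Fintype.ofFinite _
  have e := MulAction.selfEquivSigmaOrbitsQuotientStabilizer K X
  rw [Nat.card_congr e, Nat.card_sigma]
  apply Finset.dvd_sum
  intro ω _
  have hbot : MulAction.stabilizer K ω.out = ⊥ := by
    rw [eq_bot_iff]
    intro k hk
    exact Subgroup.mem_bot.2 (hfree k _ (MulAction.mem_stabilizer_iff.1 hk))
  rw [hbot, ← Subgroup.index_eq_card, Subgroup.index_bot]

/-- right multiplication by a normal subgroup stabilizing `a` up to conjugacy preserves `cls a`. -/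
theorem cardt_mul_mem (T : Subgroup G) [hT : T.Normal] (a : G)
    (h : ∀ t ∈ T, ∃ k : G, a * t = k * a * k⁻¹) {x : G} (hx : x ∈ Helper21.ClassSize.cls a)
    {t : G} (ht : t ∈ T) : x * t ∈ Helper21.ClassSize.cls a := by
  obtain ⟨g, rfl⟩ := hx
  have ht' : g⁻¹ * t * g ∈ T := by
    have := hT.conj_mem t ht g⁻¹
    simpa using this
  obtain ⟨k, hk⟩ := h _ ht'
  refine ⟨g * k, ?_⟩
  calc g * k * a * (g * k)⁻¹ = g * (k * a * k⁻¹) * g⁻¹ := by group
    _ = g * (a * (g⁻¹ * t * g)) * g⁻¹ := by rw [hk]
    _ = g * a * g⁻¹ * t := by group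

/-- CARDT. -/
theorem card_dvd_ix_of_stab (T : Subgroup G) [T.Normal] (a : G)
    (h : ∀ t ∈ T, ∃ k : G, a * t = k * a * k⁻¹) : Nat.card T ∣ ix a := by
  let act : MulAction T (Helper21.ClassSize.cls a) :=
    { smul := fun t x => ⟨(x : G) * ((t : G))⁻¹,
        cardt_mul_mem T a h x.2 (T.inv_mem t.2)⟩
      one_smul := fun x => by
        apply Subtype.ext
        show (x : G) * ((1 : T) : G)⁻¹ = x
        simp
      mul_smul := fun s t x => by
        apply Subtype.ext
        show (x : G) * ((s * t : T) : G)⁻¹ = (x : G) * ((t : G))⁻¹ * ((s : G))⁻¹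
        simp [mul_assoc] }
  have hdvd : Nat.card T ∣ Nat.card (Helper21.ClassSize.cls a) := by
    apply cardt_dvd_of_free
    intro t x htx
    have h1 : (x : G) * ((t : G))⁻¹ = x := congrArg Subtype.val htx
    have h2 : ((t : G))⁻¹ = 1 := by
      have : (x : G) * ((t : G))⁻¹ = (x : G) * 1 := by rw [h1, mul_one]
      exact mul_left_cancel this
    apply Subtype.ext
    show (t : G) = 1
    exact inv_eq_one.1 h2
  have hc : Nat.card (Helper21.ClassSize.cls a) = ix a := by
    rw [Nat.card_coe_set_eq]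
    exact Helper21.ClassSize.ncard_cls a
  rwa [hc] at hdvd

end Cfsg.Agent.Helper1.NM
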