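import Mathlib
import Cfsg.Agent.Lib.Helper1.NMDefs
import Cfsg.Agent.Lib.Helper21.ClassSize

/-!
# S4146, piece CLSPROD: `cls(a) * (h b h⁻¹ b⁻¹) ⊆ cls(a)` for noncommuting `a`, `b` of indices `n > m`
-/

namespace Cfsg.Agent.Helper1.NM

open Subgroup

variable {G : Type*} [Group G] [Finite G] {n m : ℕ}

/-- for noncommuting `a`, `b` of indices `n > m` the class of `a * b` is `cls a * b`. -/
theorem Cfg.clsprod_eq (c : Cfg G n m) (hlt : m < n) {a b : G} (ha : ix a = n) (hb : ix b = m)
    (hnc : a * b ≠ b * a) :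
    (fun x => x * b) '' Helper21.ClassSize.cls a = Helper21.ClassSize.cls (a * b) := by
  have hcop : Nat.Coprime (Helper21.ClassSize.idx a) (Helper21.ClassSize.idx b) := by
    show Nat.Coprime (ix a) (ix b)
    rw [ha, hb]; exact c.cop
  have hsub : (fun x => x * b) '' Helper21.ClassSize.cls a ⊆ Helper21.ClassSize.cls (a * b) := by
    rintro _ ⟨x, hx, rfl⟩
    exact Helper21.ClassSize.mul_mem_cls_of_coprime hcop hx (Helper21.ClassSize.mem_cls_self b)
  have hinj : Function.Injective (fun x : G => x * b) := fun x y h => mul_right_cancel h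
  have hcardS : ((fun x => x * b) '' Helper21.ClassSize.cls a).ncard = n := by
    rw [Set.ncard_image_of_injective _ hinj, Helper21.ClassSize.ncard_cls]
    exact ha
  have hcardab : (Helper21.ClassSize.cls (a * b)).ncard = ix (a * b) :=
    Helper21.ClassSize.ncard_cls (a * b)
  have hge : n ≤ ix (a * b) := by
    rw [← hcardS, ← hcardab]
    exact Set.ncard_le_ncard hsub (Set.toFinite _)
  have hn1 : 1 < n := c.one_lt_n
  have hab : ix (a * b) = n := by
    rcases c.cases (a * b) with h | h | h | h
    · omega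
    · exact h
    · omega
    · exfalso
      -- `C(ab) ⊇ C(a) ⊓ C(b)` of index `nm`, so they are equal and `ab ∈ C(a)`
      have hle : Cz a ⊓ Cz b ≤ Cz (a * b) := by
        intro g hg
        rw [Subgroup.mem_inf, mem_Cz, mem_Cz] at hg
        rw [mem_Cz]
        calc a * b * g = a * (b * g) := by group
          _ = a * (g * b) := by rw [hg.2]
          _ = (a * g) * b := by group
          _ = (g * a) * b := by rw [hg.1]
          _ = g * (a * b) := by group
      have hidx : (Cz a ⊓ Cz b).index = n * m := by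
        have := Helper21.ClassSize.index_inf_of_coprime (Cz a) (Cz b)
          (by show Nat.Coprime (ix a) (ix b); rw [ha, hb]; exact c.cop)
        rw [this]
        show ix a * ix b = n * m
        rw [ha, hb]
      have heq : Cz a ⊓ Cz b = Cz (a * b) := by
        have h1 : (Cz a ⊓ Cz b).relIndex (Cz (a * b)) * (Cz (a * b)).index
            = (Cz a ⊓ Cz b).index := Subgroup.relIndex_mul_index hle
        have h2 : (Cz (a * b)).index = n * m := h
        rw [hidx, h2] at h1
        have hpos : 0 < n * m := by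
          have := c.one_lt_m
          positivity
        have h3 : (Cz a ⊓ Cz b).relIndex (Cz (a * b)) = 1 := by
          have : (Cz a ⊓ Cz b).relIndex (Cz (a * b)) * (n * m) = 1 * (n * m) := by
            rw [h1, one_mul]
          exact Nat.eq_of_mul_eq_mul_right hpos this
        exact le_antisymm hle (Subgroup.relIndex_eq_one.1 h3)
      have hmem : a * b ∈ Cz a ⊓ Cz b := by
        rw [heq]; exact self_mem_Cz (a * b)
      have h4 : a * (a * b) = a * b * a := mem_Cz.1 (Subgroup.mem_inf.1 hmem).1
      apply hnc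
      have : a * (a * b) = a * (b * a) := by rw [h4]; group
      exact mul_left_cancel this
  apply Set.eq_of_subset_of_ncard_le hsub _ (Set.toFinite _)
  rw [hcardS, hcardab, hab]

/-- CLSPROD. -/
theorem Cfg.cls_mul (c : Cfg G n m) (hlt : m < n) {a b : G} (ha : ix a = n) (hb : ix b = m)
    (hnc : a * b ≠ b * a) (g h : G) :
    ∃ k : G, (g * a * g⁻¹) * (h * b * h⁻¹ * b⁻¹) = k * a * k⁻¹ := by
  have hcop : Nat.Coprime (Helper21.ClassSize.idx a) (Helper21.ClassSize.idx b) := by
    show Nat.Coprime (ix a) (ix b)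
    rw [ha, hb]; exact c.cop
  have hmem : (g * a * g⁻¹) * (h * b * h⁻¹) ∈ Helper21.ClassSize.cls (a * b) :=
    Helper21.ClassSize.mul_mem_cls_of_coprime hcop (Helper21.ClassSize.conj_mem_cls a g)
      (Helper21.ClassSize.conj_mem_cls b h)
  rw [← c.clsprod_eq hlt ha hb hnc] at hmem
  obtain ⟨x, ⟨k, hk⟩, hx⟩ := hmem
  refine ⟨k, ?_⟩
  have hx' : x * b = (g * a * g⁻¹) * (h * b * h⁻¹) := hx
  rw [hk]
  calc (g * a * g⁻¹) * (h * b * h⁻¹ * b⁻¹) = ((g * a * g⁻¹) * (h * b * h⁻¹)) * b⁻¹ := by group
    _ = (x * b) * b⁻¹ := by rw [hx']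
    _ = x := by group

end Cfsg.Agent.Helper1.NM
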