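import Mathlib
import Cfsg.Agent.Lib.Helper1.NMDefs
import Cfsg.Agent.Lib.Helper1.NMBAS1
import Cfsg.Agent.Lib.Helper21.ClassSize

/-!
# S4146, piece SPLIT: `M = Z × [G,M]`, `C_M(a) = Z`
-/

namespace Cfsg.Agent.Helper1.NM

open Subgroup
open scoped commutatorElement

variable {G : Type*} [Group G] [Finite G] {n m : ℕ}

/-- SPLIT. -/
theorem Cfg.typeF_structure (c : Cfg G n m) (M : Subgroup G) [hMn : M.Normal]
    (hM : ∀ g : G, g ∈ M ↔ (ix g = 1 ∨ ix g = m)) (hMc : ∀ x ∈ M, ∀ y ∈ M, x * y = y * x)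
    {p : ℕ} (hp : p.Prime) (hpm : p ∣ m) {a : G} (ha : ix a = n) (hap : IsPrimary p a)
    (hstab : ∀ t ∈ TM M, ∃ k : G, a * t = k * a * k⁻¹)
    (hcard : Nat.card (TM M) ∣ n) :
    M ⊓ Cz a = center G ∧ TM M ⊓ center G = ⊥ ∧
      ∀ b ∈ M, ∃ z ∈ center G, ∃ t ∈ TM M, b = z * t := by
  have hTM : TM M ≤ M := Subgroup.commutator_le_right ⊤ M
  have hpn : ¬ p ∣ n := by
    intro hpn
    have := Nat.eq_one_of_dvd_coprimes c.cop hpn hpm
    exact hp.one_lt.ne' this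
  -- (2) elements of `T` commuting with `a` are trivial
  have h2 : ∀ t ∈ TM M, a * t = t * a → t = 1 := by
    intro t ht hcomm
    obtain ⟨k, hk⟩ := hstab t ht
    have ho1 : orderOf (a * t) = orderOf a := by
      rw [hk]
      have := (MulAut.conj k).orderOf_eq a
      simpa [MulAut.conj_apply] using this
    obtain ⟨e, he⟩ := hap
    have hot : orderOf t ∣ n := (orderOf_dvd_natCard (⟨t, ht⟩ : TM M) |>.trans hcard) |> fun h => by
      have h' : orderOf (⟨t, ht⟩ : TM M) = orderOf t := Subgroup.orderOf_mk t ht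
      rwa [h'] at h
    have hcop : Nat.Coprime (orderOf a) (orderOf t) := by
      rw [he]
      apply Nat.Coprime.pow_left
      apply Nat.Coprime.coprime_dvd_right hot
      exact (Nat.Prime.coprime_iff_not_dvd hp).2 hpn
    have ho2 : orderOf (a * t) = orderOf a * orderOf t :=
      Commute.orderOf_mul_eq_mul_orderOf_of_coprime hcomm hcop
    rw [ho1] at ho2
    have hpos : 0 < orderOf a := orderOf_pos a
    have : orderOf t = 1 := by
      have h3 : orderOf a * orderOf t = orderOf a * 1 := by rw [← ho2, mul_one]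
      exact Nat.eq_of_mul_eq_mul_left hpos h3
    exact orderOf_eq_one_iff.1 this
  -- the map `φ b = a⁻¹ b a b⁻¹`
  have hφmem : ∀ b ∈ M, a⁻¹ * b * a * b⁻¹ ∈ TM M := by
    intro b hb
    have : ⁅a⁻¹, b⁆ ∈ ⁅(⊤ : Subgroup G), M⁆ := Subgroup.commutator_mem_commutator (Subgroup.mem_top _) hb
    rw [commutatorElement_def] at this
    simpa using this
  have hφmul : ∀ x ∈ M, ∀ y ∈ M,
      a⁻¹ * (x * y) * a * (x * y)⁻¹ = (a⁻¹ * x * a * x⁻¹) * (a⁻¹ * y * a * y⁻¹) := by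
    intro x hx y hy
    have hy' : a⁻¹ * y * a ∈ M := by
      have := hMn.conj_mem y hy a⁻¹
      simpa using this
    have hyy : a⁻¹ * y * a * y⁻¹ ∈ M := M.mul_mem hy' (M.inv_mem hy)
    have hcomm : (a⁻¹ * y * a * y⁻¹) * x⁻¹ = x⁻¹ * (a⁻¹ * y * a * y⁻¹) :=
      hMc _ hyy _ (M.inv_mem hx)
    calc a⁻¹ * (x * y) * a * (x * y)⁻¹
        = (a⁻¹ * x * a) * ((a⁻¹ * y * a * y⁻¹) * x⁻¹) := by group
      _ = (a⁻¹ * x * a) * (x⁻¹ * (a⁻¹ * y * a * y⁻¹)) := by rw [hcomm]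
      _ = (a⁻¹ * x * a * x⁻¹) * (a⁻¹ * y * a * y⁻¹) := by group
  have hφker : ∀ b : G, a⁻¹ * b * a * b⁻¹ = 1 ↔ a * b = b * a := by
    intro b
    constructor
    · intro h
      have h1 : a⁻¹ * b * a = b := by
        have : a⁻¹ * b * a * b⁻¹ * b = 1 * b := by rw [h]
        simpa using this
      calc a * b = a * (a⁻¹ * b * a) := by rw [h1]
        _ = b * a := by group
    · intro h
      calc a⁻¹ * b * a * b⁻¹ = a⁻¹ * (b * a) * b⁻¹ := by group
        _ = a⁻¹ * (a * b) * b⁻¹ := by rw [h]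
        _ = 1 := by group
  -- `φ` restricted to `T` is injective, hence surjective
  let f : TM M → TM M := fun t => ⟨a⁻¹ * (t : G) * a * (t : G)⁻¹, hφmem t (hTM t.2)⟩
  have hfinj : Function.Injective f := by
    intro s t hst
    have hst' : a⁻¹ * (s : G) * a * (s : G)⁻¹ = a⁻¹ * (t : G) * a * (t : G)⁻¹ :=
      congrArg Subtype.val hst
    -- `φ (s t⁻¹) = φ s * (φ t)⁻¹`
    have hsM : (s : G) ∈ M := hTM s.2
    have htM : (t : G) ∈ M := hTM t.2
    have h1 := hφmul ((s : G) * (t : G)⁻¹) (M.mul_mem hsM (M.inv_mem htM)) (t : G) htM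
    have h3 : (s : G) * (t : G)⁻¹ * (t : G) = s := by group
    rw [h3] at h1
    have h4 : a⁻¹ * ((s : G) * (t : G)⁻¹) * a * ((s : G) * (t : G)⁻¹)⁻¹ = 1 := by
      have : a⁻¹ * ((s : G) * (t : G)⁻¹) * a * ((s : G) * (t : G)⁻¹)⁻¹
          * (a⁻¹ * (t : G) * a * (t : G)⁻¹) = 1 * (a⁻¹ * (t : G) * a * (t : G)⁻¹) := by
        rw [← h1, hst', one_mul]
      exact mul_right_cancel this
    have h5 : a * ((s : G) * (t : G)⁻¹) = (s : G) * (t : G)⁻¹ * a := (hφker _).1 h4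
    have h6 : (s : G) * (t : G)⁻¹ = 1 :=
      h2 _ ((TM M).mul_mem s.2 ((TM M).inv_mem t.2)) h5
    apply Subtype.ext
    exact mul_inv_eq_one.1 h6
  have hfsurj : Function.Surjective f := Finite.injective_iff_surjective.1 hfinj
  -- (1) `C_M(a)` is normal
  have hCMnormal : ∀ b ∈ M, a * b = b * a → ∀ h : G, a * (h * b * h⁻¹) = (h * b * h⁻¹) * a := by
    intro b hbM hab h
    rcases (hM b).1 hbM with h1 | h1
    · have hz : b ∈ center G := ix_eq_one_iff.1 h1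
      have hbc : h * b * h⁻¹ = b := by
        have := Subgroup.mem_center_iff.1 hz h
        calc h * b * h⁻¹ = (b * h) * h⁻¹ := by rw [this]
          _ = b := by group
      rw [hbc]; exact hab
    · have hcop : (ix a).Coprime (ix b) := by rw [ha, h1]; exact c.cop
      have := commute_conj hcop hab 1 h
      simpa using this
  -- (4) `C_M(a) ≤ Z`
  have hCMZ : ∀ b ∈ M, a * b = b * a → b ∈ center G := by
    intro b hbM hab
    rw [Subgroup.mem_center_iff]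
    intro h
    have h1 : h * b * h⁻¹ * b⁻¹ ∈ TM M := by
      have : ⁅h, b⁆ ∈ ⁅(⊤ : Subgroup G), M⁆ :=
        Subgroup.commutator_mem_commutator (Subgroup.mem_top _) hbM
      rwa [commutatorElement_def] at this
    have h3 : a * (h * b * h⁻¹ * b⁻¹) = (h * b * h⁻¹ * b⁻¹) * a := by
      have e1 := hCMnormal b hbM hab h
      have e2 : a * b⁻¹ = b⁻¹ * a := by
        calc a * b⁻¹ = b⁻¹ * (b * a) * b⁻¹ := by group
          _ = b⁻¹ * (a * b) * b⁻¹ := by rw [hab]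
          _ = b⁻¹ * a := by group
      calc a * (h * b * h⁻¹ * b⁻¹) = (a * (h * b * h⁻¹)) * b⁻¹ := by group
        _ = ((h * b * h⁻¹) * a) * b⁻¹ := by rw [e1]
        _ = (h * b * h⁻¹) * (a * b⁻¹) := by group
        _ = (h * b * h⁻¹) * (b⁻¹ * a) := by rw [e2]
        _ = (h * b * h⁻¹ * b⁻¹) * a := by group
    have h4 : h * b * h⁻¹ * b⁻¹ = 1 := h2 _ h1 h3
    have h5 : h * b * h⁻¹ = b := by
      have : h * b * h⁻¹ * b⁻¹ * b = 1 * b := by rw [h4]
      simpa using this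
    calc h * b = (h * b * h⁻¹) * h := by group
      _ = b * h := by rw [h5]
  have hZM : center G ≤ M := by
    intro z hz
    exact (hM z).2 (Or.inl (ix_eq_one_iff.2 hz))
  refine ⟨?_, ?_, ?_⟩
  · apply le_antisymm
    · intro b hb
      obtain ⟨hbM, hbC⟩ := Subgroup.mem_inf.1 hb
      exact hCMZ b hbM (mem_Cz.1 hbC)
    · intro z hz
      refine Subgroup.mem_inf.2 ⟨hZM hz, ?_⟩
      rw [mem_Cz]
      exact (Subgroup.mem_center_iff.1 hz a)
  · rw [eq_bot_iff]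
    intro t ht
    obtain ⟨htT, htZ⟩ := Subgroup.mem_inf.1 ht
    rw [Subgroup.mem_bot]
    exact h2 t htT (Subgroup.mem_center_iff.1 htZ a)
  · intro b hbM
    obtain ⟨t, ht⟩ := hfsurj ⟨a⁻¹ * b * a * b⁻¹, hφmem b hbM⟩
    have ht' : a⁻¹ * (t : G) * a * (t : G)⁻¹ = a⁻¹ * b * a * b⁻¹ := congrArg Subtype.val ht
    have htM : (t : G) ∈ M := hTM t.2
    have h1 := hφmul (b * (t : G)⁻¹) (M.mul_mem hbM (M.inv_mem htM)) (t : G) htM
    have h3 : b * (t : G)⁻¹ * (t : G) = b := by group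
    rw [h3] at h1
    have h4 : a⁻¹ * (b * (t : G)⁻¹) * a * (b * (t : G)⁻¹)⁻¹ = 1 := by
      have : a⁻¹ * (b * (t : G)⁻¹) * a * (b * (t : G)⁻¹)⁻¹
          * (a⁻¹ * (t : G) * a * (t : G)⁻¹) = 1 * (a⁻¹ * (t : G) * a * (t : G)⁻¹) := by
        rw [← h1, ht', one_mul]
      exact mul_right_cancel this
    have h5 : a * (b * (t : G)⁻¹) = b * (t : G)⁻¹ * a := (hφker _).1 h4
    have hz : b * (t : G)⁻¹ ∈ center G := hCMZ _ (M.mul_mem hbM (M.inv_mem htM)) h5
    exact ⟨b * (t : G)⁻¹, hz, t, t.2, by group⟩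

end Cfsg.Agent.Helper1.NM
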