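import Mathlib
import Cfsg.Prelude.Def_Characters
import Cfsg.Agent.Lib.Helper24.CharBasic
import Cfsg.Agent.Lib.Helper17.BRRedK

/-!
# Brauer-Reynolds reduction, Lemma K (character form)   (helper17)

A character of degree `< p` that is constant on the elements `z^k y^k` (`p ∤ k`), where `z` has order `p`,
`y` commutes with `z` and has order prime to `p`, has `y` in its kernel.
-/

set_option autoImplicit false

namespace Cfsg.Agent.Helper17.BRRed

open Cfsg

theorem lemmaK {G : Type*} [Group G] [Finite G] {χ : G → ℂ} (hχ : IsCharacter G χ) (p : ℕ)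
    (hp : p.Prime) (z y : G) (hz : orderOf z = p) (hzy : Commute z y) (hy : ¬ p ∣ orderOf y)
    (d : ℕ) (hd : d < p) (hd1 : χ 1 = d) (ε : ℂ)
    (hε : ∀ k : ℕ, ¬ p ∣ k → χ (z ^ k * y ^ k) = ε) : χ y = χ 1 := by
  obtain ⟨n, ρ, rfl⟩ := hχ
  obtain ⟨μ, hμ, hk, -⟩ := Cfsg.Agent.Helper24.exists_roots_of_unity ρ (z * y)
  revert μ
  generalize Module.finrank ℂ (Fin n → ℂ) = D
  intro μ hμ hk
  -- degree
  have h0 := hk 0
  simp only [pow_zero, Finset.sum_const, Finset.card_univ, Fintype.card_fin, nsmul_eq_mul,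
    mul_one] at h0
  have hDd : D = d := by
    have : (D : ℂ) = (d : ℂ) := by rw [← h0, hd1]
    exact_mod_cast this
  have hpg : p ∣ Nat.card G := hz ▸ orderOf_dvd_natCard z
  have hμp := roots_pow_p_eq_one (Nat.card G) D p hp hpg Nat.card_pos (by omega) μ hμ ε
    (fun k hkp => by rw [← hk k, hzy.mul_pow k]; exact hε k hkp)
  -- y is a power of z*y with exponent divisible by p
  have hm0 : 0 < orderOf y := orderOf_pos y
  have hcop : Nat.Coprime p (orderOf y) := (Nat.Prime.coprime_iff_not_dvd hp).mpr hy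
  rcases Nat.lt_or_ge 1 (orderOf y) with hm | hm
  · obtain ⟨s, -, hs⟩ := Nat.exists_mul_mod_eq_one_of_coprime hcop hm
    have hy1 : y ^ (p * s) = y := by
      rw [← pow_mod_orderOf, hs, pow_one]
    have hz1 : z ^ (p * s) = 1 := by
      rw [pow_mul, ← hz, pow_orderOf_eq_one, one_pow]
    have h1 := hk (p * s)
    rw [hzy.mul_pow, hz1, hy1, one_mul] at h1
    rw [h1, h0]
    have : ∀ i, μ i ^ (p * s) = 1 := fun i => by rw [pow_mul, hμp i, one_pow]
    simp [this]
  · have : orderOf y = 1 := by omega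
    rw [orderOf_eq_one_iff] at this
    rw [this]

end Cfsg.Agent.Helper17.BRRed
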