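import Mathlib

/-!
# Brauer-Reynolds reduction: the arithmetic   (helper17)
-/

set_option autoImplicit false

namespace Cfsg.Agent.Helper17.BRRed

/-- `g = p v q (1+np) < p^3` gives `v q n < p` and `v q (1+np) < p^2`. -/
theorem num_small (p q v n : ℕ) (h : p * v * q * (1 + n * p) < p ^ 3) :
    v * q * (1 + n * p) < p ^ 2 ∧ v * q * n < p := by
  have h1 : v * q * (1 + n * p) < p ^ 2 := by
    by_contra hc
    push Not at hc
    have : p * (p ^ 2) ≤ p * (v * q * (1 + n * p)) := Nat.mul_le_mul_left p hc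
    nlinarith
  refine ⟨h1, ?_⟩
  by_contra hc
  push Not at hc
  have : p * p ≤ v * q * n * p := Nat.mul_le_mul_right p hc
  nlinarith

/-- Plus case: a divisor `d > 1`, `d ≡ 1 (mod p)`, of `q (1+np) < p^2` with `q < p` equals `1 + np`. -/
theorem num_plus (p q n d : ℕ) (hp : 1 < p) (hq : 0 < q) (hqp : q < p) (hd1 : 1 < d)
    (hdmod : d % p = 1) (hdvd : d ∣ q * (1 + n * p)) (hsmall : q * (1 + n * p) < p ^ 2) :
    d = 1 + n * p := by
  obtain ⟨y, hy⟩ := hdvd
  -- d = 1 + a p
  obtain ⟨a, ha⟩ : ∃ a, d = 1 + a * p := ⟨d / p, by have := Nat.div_add_mod d p; rw [hdmod] at this; linarith [mul_comm p (d / p)]⟩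
  have ha1 : 1 ≤ a := by
    rcases Nat.eq_zero_or_pos a with h | h
    · subst h; omega
    · exact h
  -- y ≡ q mod p
  have hymod : y % p = q := by
    have h1 : (d * y) % p = q % p := by
      rw [← hy]
      have : q * (1 + n * p) = q + (q * n) * p := by ring
      rw [this, Nat.add_mul_mod_self_right]
    have h2 : (d * y) % p = y % p := by
      have : d * y = y + (a * y) * p := by rw [ha]; ring
      rw [this, Nat.add_mul_mod_self_right]
    rw [h2, Nat.mod_eq_of_lt hqp] at h1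
    exact h1
  obtain ⟨b, hb⟩ : ∃ b, y = q + b * p := ⟨y / p, by have := Nat.div_add_mod y p; rw [hymod] at this; linarith [mul_comm p (y / p)]⟩
  rcases Nat.eq_zero_or_pos b with hb0 | hb0
  · subst hb0
    simp only [zero_mul, add_zero] at hb
    subst hb
    have : y * (1 + n * p) = y * d := by rw [hy]; ring
    exact (Nat.eq_of_mul_eq_mul_left hq this).symm
  · exfalso
    have h1 : (1 + p) * (q + p) ≤ d * y := by
      rw [ha, hb]
      apply Nat.mul_le_mul
      · nlinarith
      · nlinarith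
    rw [← hy] at h1
    nlinarith

/-- Minus case: a divisor `d ≡ -1 (mod p)` of `q (1+np)` with `2 q (1+np) < p^2`, `2q+1 ≤ p`
equals `p - 1`. -/
theorem num_minus (p q n d : ℕ) (hp : 3 ≤ p) (hq : 0 < q) (h2q : 2 * q + 1 ≤ p) (hd0 : 0 < d)
    (hdmod : p ∣ d + 1) (hdvd : d ∣ q * (1 + n * p)) (hsmall : 2 * (q * (1 + n * p)) < p ^ 2) :
    d = p - 1 := by
  obtain ⟨y, hy⟩ := hdvd
  obtain ⟨u, hu⟩ := hdmod
  have hu1 : 1 ≤ u := by
    rcases Nat.eq_zero_or_pos u with h | h
    · subst h; omega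
    · exact h
  have hy0 : 0 < y := by
    rcases Nat.eq_zero_or_pos y with h | h
    · subst h
      have : 0 < q * (1 + n * p) := Nat.mul_pos hq (by omega)
      omega
    · exact h
  -- p ∣ q + y
  have hpqy : p ∣ q + y := by
    have h1 : q + y + q * n * p = (d + 1) * y := by
      have : q * (1 + n * p) = q + q * n * p := by ring
      rw [add_mul, one_mul, ← hy, this]; ring
    have h2 : p ∣ (d + 1) * y := by rw [hu]; exact Dvd.dvd.mul_right (Dvd.intro u rfl) y
    rw [← h1] at h2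
    exact (Nat.dvd_add_left (Dvd.intro_left _ rfl)).mp h2
  have hqy : p ≤ q + y := Nat.le_of_dvd (by omega) hpqy
  rcases Nat.lt_or_ge u 2 with h | h
  · have : u = 1 := by omega
    subst this
    omega
  · exfalso
    -- d ≥ 2p - 1, 2y ≥ p + 1
    have hd : 2 * p ≤ d + 1 := by rw [hu]; nlinarith
    have h2y : p + 1 ≤ 2 * y := by omega
    have h3 : (2 * p - 1) * (p + 1) ≤ d * (2 * y) := Nat.mul_le_mul (by omega) h2y
    have h4 : d * (2 * y) = 2 * (q * (1 + n * p)) := by rw [hy]; ring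
    rw [h4] at h3
    have h5 : p ^ 2 ≤ (2 * p - 1) * (p + 1) := by
      obtain ⟨c, rfl⟩ : ∃ c, p = c + 3 := ⟨p - 3, by omega⟩
      have : 2 * (c + 3) - 1 = 2 * c + 5 := by omega
      rw [this]; ring_nf; nlinarith
    omega

/-- The final contradiction: `x₀ = 1 + (q-1)(1+np)` cannot divide `p v q (1+np)` when `v q n < p`. -/
theorem num_final (p q n v : ℕ) (hp : p.Prime) (hq2 : 2 ≤ q) (hn : 1 ≤ n) (hqp : q < p) (hv : 0 < v)
    (hsmall : v * q * n < p) (hdvd : (1 + (q - 1) * (1 + n * p)) ∣ p * v * q * (1 + n * p)) : False := by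
  set r := 1 + n * p with hr
  set x := 1 + (q - 1) * r with hx
  have hcop1 : Nat.Coprime x r := by
    rw [hx, Nat.coprime_comm]
    have : Nat.Coprime r (1 + r * (q - 1)) := by
      rw [Nat.coprime_add_mul_left_right]; exact Nat.coprime_one_right r
    rwa [mul_comm] at this
  have h1 : x ∣ p * v * q := hcop1.dvd_of_dvd_mul_right hdvd
  have hxmod : x % p = q := by
    obtain ⟨c, rfl⟩ : ∃ c, q = c + 1 := ⟨q - 1, by omega⟩
    have : x = (c + 1) + (c * n) * p := by rw [hx, hr]; simp only [Nat.add_sub_cancel]; ring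
    rw [this, Nat.add_mul_mod_self_right, Nat.mod_eq_of_lt hqp]
  have hnp : ¬ p ∣ x := by
    intro h
    have := Nat.mod_eq_zero_of_dvd h
    omega
  have hcop2 : Nat.Coprime x p := (Nat.Coprime.symm ((Nat.Prime.coprime_iff_not_dvd hp).mpr hnp))
  have h2 : x ∣ v * q := by
    have : x ∣ p * (v * q) := by rwa [← mul_assoc]
    exact hcop2.dvd_of_dvd_mul_left this
  have h3 : x ≤ v * q := Nat.le_of_dvd (Nat.mul_pos hv (by omega)) h2
  have h4 : v * q ≤ v * q * n := Nat.le_mul_of_pos_right _ hn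
  have h5 : 1 + (1 + p) ≤ x := by
    rw [hx, hr]
    have : 1 * (1 + 1 * p) ≤ (q - 1) * (1 + n * p) :=
      Nat.mul_le_mul (by omega) (by nlinarith)
    omega
  omega

end Cfsg.Agent.Helper17.BRRed
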