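import Mathlib
import Cfsg.Agent.S4441
import Cfsg.Agent.Lib.Helper24.CharIntegral
import Cfsg.Agent.Lib.Helper24.CharAbelian
import Cfsg.Agent.Lib.Helper24.GlaubPGroup
import Cfsg.Agent.Lib.Helper23.BlockDefect
import Cfsg.Agent.Lib.Helper17.BRRedKer
import Cfsg.Agent.Lib.Helper17.BRRedNum
import Cfsg.Agent.Lib.Helper17.BRRedGrp

/-!
# Brauer-Reynolds reduction: `|G| < p^3` forces `C_G(P) = P`   (helper17)

`G` perfect, `P` a Sylow `p`-subgroup of order `p`, no nontrivial normal `p'`-subgroup, `|G| < p^3`.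
Then a generator `z` of `P` is self-centralizing and the number of Sylow `p`-subgroups is small
(the hypotheses of S0996).
-/

set_option autoImplicit false
set_option linter.style.haveILetI false

namespace Cfsg.Agent.Helper17.BRRed

open Subgroup Cfsg

/-- A natural number `d > 0` with `a / d` an algebraic integer divides `a`. -/
theorem dvd_of_isIntegral_div (a d : ℕ) (hd : 0 < d) (h : IsIntegral ℤ ((a : ℂ) / (d : ℂ))) :
    d ∣ a := by
  have hn0 : (d : ℚ) ≠ 0 := by exact_mod_cast hd.ne'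
  have h2 : ((a : ℂ) / (d : ℂ)) = algebraMap ℚ ℂ ((a : ℚ) / (d : ℚ)) := by simp
  rw [h2, isIntegral_algebraMap_iff (algebraMap ℚ ℂ).injective] at h
  obtain ⟨m, hm⟩ := IsIntegrallyClosed.isIntegral_iff.mp h
  have h3 : (m : ℚ) * d = a := by
    have : (algebraMap ℤ ℚ m) = (m : ℚ) := rfl
    rw [this] at hm
    rw [hm]
    field_simp
  have h4 : (m * (d : ℤ)) = (a : ℤ) := by exact_mod_cast h3
  have h5 : (d : ℤ) ∣ (a : ℤ) := ⟨m, by rw [← h4]; ring⟩
  exact_mod_cast h5

/-- In a perfect group the only irreducible character of degree one is the principal one. -/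
theorem eq_principal_of_degree_one {G : Type*} [Group G] [Finite G] (hperf : commutator G = ⊤)
    (χ : IrrCharacter G) (h1 : (χ : G → ℂ) 1 = 1) : χ = Cfsg.Agent.Helper24.principalChar G := by
  have hc := Cfsg.Agent.Helper24.card_linear_characters (G := G)
  rw [hperf, Subgroup.index_top] at hc
  obtain ⟨hs, -⟩ := Nat.card_eq_one_iff_unique.mp hc
  have := hs.elim (⟨χ, h1⟩ : {χ : IrrCharacter G // (χ : G → ℂ) 1 = 1})
    ⟨Cfsg.Agent.Helper24.principalChar G, rfl⟩
  exact congrArg Subtype.val this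

/-- The core contradiction: with `v ≥ 2` the principal block cannot exist. -/
theorem core_false {G : Type*} [Group G] [Fintype G] (hperf : commutator G = ⊤) (p : ℕ)
    [hpF : Fact p.Prime] (P : Sylow p G) (hP : Nat.card P = p)
    (hcore : ∀ N : Subgroup G, N.Normal → (Nat.card N).Coprime p → N = ⊥)
    (q v n : ℕ)
    (hq : q = (centralizer ((P : Subgroup G) : Set G)).relIndex (normalizer ((P : Subgroup G) : Set G)))
    (hq2 : 2 ≤ q) (h2q : 2 * q + 1 ≤ p) (hn1 : 1 ≤ n) (hv2 : 2 ≤ v) (hpv : ¬ p ∣ v)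
    (hCcard : Nat.card (centralizer ((P : Subgroup G) : Set G)) = p * v)
    (hG : Nat.card G = p * v * q * (1 + n * p))
    (hs1 : v * q * (1 + n * p) < p ^ 2) (hs2 : v * q * n < p)
    (z : G) (hzP : z ∈ (P : Subgroup G)) (hzo : orderOf z = p)
    (hzidx : (centralizer ({z} : Set G)).index = q * (1 + n * p)) : False := by
  classical
  have hp : p.Prime := hpF.out
  have hp3 : 3 ≤ p := by omega
  have hodd : p ≠ 2 := by omega
  obtain ⟨M, hM⟩ := Cfsg.Agent.Helper24.Glaub.exists_isPModular hp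
  haveI : M.IsPrime := hM.2.1.isPrime
  obtain ⟨X, Y, hB, hdisj, hXcard, hYcard, εX, ε, hX, hε, hYdeg, hYagree, hYsum⟩ :=
    Cfsg.Agent.S4441.result p M hM hodd P hP q hq.symm
  have hfin : Finite (IrrCharacter G) := Cfsg.Agent.Helper24.irr_finite'
  set χ₀ := Cfsg.Agent.Helper24.principalChar G with hχ₀
  have hχ₀B : χ₀ ∈ principalBlock M G := Cfsg.Agent.Helper23.Blk.principalChar_mem_principalBlock
  have hz1 : z ≠ 1 := by
    intro h
    rw [h, orderOf_one] at hzo
    omega
  have hone_reg : ¬ p ∣ orderOf (1 : G) := by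
    rw [orderOf_one]; exact hp.one_lt.ne' ∘ Nat.dvd_one.mp
  -- t ≥ 2
  have hqdvd : q ∣ p - 1 := by
    rw [hq]; exact Cfsg.Agent.Helper5.TL.relIndex_dvd p P hP
  have ht2 : 2 ≤ (p - 1) / q := by
    obtain ⟨t, ht⟩ := hqdvd
    rw [ht, Nat.mul_div_cancel_left t (by omega)]
    by_contra hlt
    push Not at hlt
    interval_cases t
    · omega
    · omega
  -- the principal character is not exceptional
  have hχ₀Y : χ₀ ∉ Y := by
    intro hY
    have hcard : 1 < Y.ncard := by
      rw [← Nat.card_coe_set_eq, hYcard]; omega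
    obtain ⟨θ, hθY, hθne⟩ := Set.exists_ne_of_one_lt_ncard hcard χ₀
    have h1 := hYagree θ hθY χ₀ hY 1 hone_reg
    have h2 : (χ₀ : G → ℂ) 1 = 1 := rfl
    rw [h2] at h1
    exact hθne (eq_principal_of_degree_one hperf θ h1)
  have hχ₀X : χ₀ ∈ X := by
    rw [hB] at hχ₀B
    rcases hχ₀B with h | h
    · exact h
    · exact absurd h hχ₀Y
  -- degrees of the non-principal members of X
  have hdeg : ∀ χ ∈ X, χ ≠ χ₀ → εX χ = 1 ∧ charDegree (χ : G → ℂ) = 1 + n * p := by
    intro χ hχX hne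
    obtain ⟨hεχ, hmod, hval⟩ := hX χ hχX
    set d := charDegree (χ : G → ℂ) with hd
    have hd1 : (χ : G → ℂ) 1 = (d : ℂ) := Cfsg.Agent.Helper24.irr_one_eq_charDegree χ.2
    have hdpos : 0 < d := Cfsg.Agent.Helper24.charDegree_pos χ.2
    have hdne1 : d ≠ 1 := by
      intro h
      rw [h] at hd1
      exact hne (eq_principal_of_degree_one hperf χ (by rw [hd1]; simp))
    have hχz : (χ : G → ℂ) z = (εX χ : ℂ) := by
      have := hval z hzP hz1 1 (Subgroup.one_mem _) hone_reg
      rwa [mul_one] at this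
    have hdvd : d ∣ q * (1 + n * p) := by
      have hint := Cfsg.Agent.Helper24.isIntegral_centralChar χ.2 z
      rw [centralChar, hzidx, hχz, hd1] at hint
      have hint2 : IsIntegral ℤ (((q * (1 + n * p) : ℕ) : ℂ) / (d : ℂ)) := by
        rcases hεχ with h | h
        · rw [h] at hint; simpa using hint
        · rw [h] at hint
          have := hint.neg
          convert this using 1
          push_cast; ring
      exact dvd_of_isIntegral_div _ _ hdpos hint2
    have hqpos : 0 < q := by omega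
    have hqr : q * (1 + n * p) < p ^ 2 := by
      have : 1 * (q * (1 + n * p)) ≤ v * (q * (1 + n * p)) := Nat.mul_le_mul_right _ (by omega)
      nlinarith
    rcases hεχ with h | h
    · refine ⟨h, ?_⟩
      rw [h] at hmod
      have hdm : d % p = 1 := by
        have h1 : ((d : ℕ) : ℤ) ≡ ((1 : ℕ) : ℤ) [ZMOD (p : ℕ)] := by simpa using hmod
        have h2 := Int.natCast_modEq_iff.mp h1
        rw [Nat.ModEq, Nat.mod_eq_of_lt (show 1 < p by omega)] at h2
        exact h2
      exact num_plus p q n d (by omega) hqpos (by omega) (by omega) hdm hdvd hqr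
    · exfalso
      rw [h] at hmod
      have hdm : p ∣ d + 1 := by
        have h1 := Int.modEq_iff_dvd.mp hmod
        have h2 : (p : ℤ) ∣ (d : ℤ) + 1 := by
          have := dvd_neg.mpr h1
          rwa [show -(-1 - (d : ℤ)) = (d : ℤ) + 1 by ring] at this
        exact_mod_cast h2
      have hsm : 2 * (q * (1 + n * p)) < p ^ 2 := by
        have : 2 * (q * (1 + n * p)) ≤ v * (q * (1 + n * p)) := Nat.mul_le_mul_right _ hv2
        nlinarith
      have hdp : d = p - 1 := num_minus p q n d hp3 hqpos h2q hdpos hdm hdvd hsm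
      -- Lemma K
      obtain ⟨K, hKn, hK⟩ := exists_kernel (Cfsg.Agent.Helper24.isCharacter_of_isIrrCharacter χ.2)
      have hzK : z ∉ K := by
        rw [hK, hχz, hd1, h, hdp]
        intro hc
        have h3 : ((-1 : ℤ) : ℂ) = (((p - 1 : ℕ) : ℤ) : ℂ) := by exact_mod_cast hc
        have h4 : (-1 : ℤ) = ((p - 1 : ℕ) : ℤ) := by exact_mod_cast h3
        omega
      have hcop := coprime_card_of_normal_of_not_mem P hP K hzP hzK
      have hKbot := hcore K hKn hcop
      obtain ⟨y, hyC, hyreg, hy1⟩ := exists_pregular P hv2 hpv hCcard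
      have hcomm : Commute z y := by
        have := (Subgroup.mem_centralizer_iff.mp hyC) z hzP
        exact this
      have hyK : y ∈ K := by
        rw [hK]
        refine lemmaK (Cfsg.Agent.Helper24.isCharacter_of_isIrrCharacter χ.2) p hp z y hzo hcomm hyreg
          d (by omega) hd1 (-1) ?_
        intro k hk
        have hzk : z ^ k ≠ 1 := by
          intro hc
          have := orderOf_dvd_of_pow_eq_one hc
          rw [hzo] at this
          exact hk this
        have hyk : ¬ p ∣ orderOf (y ^ k) := fun hc => hyreg (hc.trans (orderOf_pow_dvd k))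
        have := hval (z ^ k) (Subgroup.pow_mem _ hzP k) hzk (y ^ k) (Subgroup.pow_mem _ hyC k) hyk
        rw [this, h]; simp
      rw [hKbot, Subgroup.mem_bot] at hyK
      exact hy1 hyK
  -- the degree equation
  have hYne : Y.Nonempty := by
    rw [← Set.ncard_pos (Set.toFinite Y), ← Nat.card_coe_set_eq, hYcard]; omega
  obtain ⟨θ, hθY⟩ := hYne
  have hsum := hYsum θ hθY 1 hone_reg
  have hXfin : X.Finite := Set.toFinite X
  have hε₀ : εX χ₀ = 1 := by
    obtain ⟨-, -, hval⟩ := hX χ₀ hχ₀X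
    have h1 := hval z hzP hz1 1 (Subgroup.one_mem _) hone_reg
    have h2 : (χ₀ : G → ℂ) (z * 1) = 1 := rfl
    rw [h2] at h1
    exact_mod_cast h1.symm
  have hrhs : ∑ᶠ χ ∈ X, (εX χ : ℂ) * (χ : G → ℂ) 1
      = 1 + ((q - 1 : ℕ) : ℂ) * ((1 + n * p : ℕ) : ℂ) := by
    rw [finsum_mem_eq_finite_toFinset_sum _ hXfin,
      ← Finset.add_sum_erase hXfin.toFinset _ (hXfin.mem_toFinset.mpr hχ₀X)]
    have h0 : (εX χ₀ : ℂ) * (χ₀ : G → ℂ) 1 = 1 := by
      rw [hε₀]
      have h2 : (χ₀ : G → ℂ) 1 = 1 := rfl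
      rw [h2]; simp
    rw [h0]
    congr 1
    have hterm : ∀ χ ∈ hXfin.toFinset.erase χ₀, (εX χ : ℂ) * (χ : G → ℂ) 1 = ((1 + n * p : ℕ) : ℂ) := by
      intro χ hχ
      rw [Finset.mem_erase, Set.Finite.mem_toFinset] at hχ
      obtain ⟨h1, h2⟩ := hdeg χ hχ.2 hχ.1
      rw [h1, Cfsg.Agent.Helper24.irr_one_eq_charDegree χ.2, h2]
      simp
    rw [Finset.sum_congr rfl hterm, Finset.sum_const, nsmul_eq_mul,
      Finset.card_erase_of_mem (hXfin.mem_toFinset.mpr hχ₀X), ← Set.ncard_eq_toFinset_card X hXfin,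
      ← Nat.card_coe_set_eq, hXcard]
  rw [hrhs] at hsum
  set x₀ := charDegree (θ : G → ℂ) with hx₀
  have hx1 : (θ : G → ℂ) 1 = (x₀ : ℂ) := Cfsg.Agent.Helper24.irr_one_eq_charDegree θ.2
  have hx0pos : 0 < x₀ := Cfsg.Agent.Helper24.charDegree_pos θ.2
  have hxdvd : x₀ ∣ Nat.card G := Cfsg.Agent.Helper24.charDegree_dvd_card θ.2
  rw [hx1] at hsum
  have hxeq : x₀ = 1 + (q - 1) * (1 + n * p) := by
    rcases hε with h | h
    · rw [h] at hsum
      have : ((x₀ : ℕ) : ℂ) = ((1 + (q - 1) * (1 + n * p) : ℕ) : ℂ) := by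
        rw [← one_mul ((x₀ : ℕ) : ℂ)]
        push_cast at hsum ⊢
        exact hsum
      exact_mod_cast this
    · exfalso
      rw [h] at hsum
      have h1 : (((-1 : ℤ) * (x₀ : ℤ) : ℤ) : ℂ) = (((1 + (q - 1) * (1 + n * p) : ℕ) : ℤ) : ℂ) := by
        push_cast at hsum ⊢
        exact hsum
      have h2 : (-1 : ℤ) * (x₀ : ℤ) = ((1 + (q - 1) * (1 + n * p) : ℕ) : ℤ) := by exact_mod_cast h1
      have h3 : (0 : ℤ) ≤ ((1 + (q - 1) * (1 + n * p) : ℕ) : ℤ) := Int.natCast_nonneg _
      have h4 : (0 : ℤ) < (x₀ : ℤ) := by exact_mod_cast hx0pos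
      linarith
  rw [hG, hxeq] at hxdvd
  exact num_final p q n v hp hq2 hn1 (by omega) (by omega) hs2 hxdvd

/-- **Brauer-Reynolds reduction.**  A perfect group `G` of order `< p^3` with a Sylow `p`-subgroup of
order `p` and no nontrivial normal `p'`-subgroup has a self-centralizing element of order `p`, and few
Sylow `p`-subgroups. -/
theorem main {G : Type*} [Group G] [Finite G] (hperf : commutator G = ⊤) (p : ℕ) [hpF : Fact p.Prime]
    (P : Sylow p G) (hP : Nat.card P = p) (hbig : Nat.card G < p ^ 3)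
    (hcore : ∀ N : Subgroup G, N.Normal → (Nat.card N).Coprime p → N = ⊥) :
    ∃ z : G, orderOf z = p ∧ Subgroup.centralizer ({z} : Set G) = Subgroup.zpowers z ∧
      2 * Nat.card (Sylow p G) < (p + 1) * (p + 2) := by
  have hp : p.Prime := hpF.out
  obtain ⟨q, v, n, hq, hq2, hqdvd, hn1, hv0, hpv, hr, hCcard, hG, hidx⟩ := numerics hperf P hP
  obtain ⟨z, hzP, hzo, hzP', hzC⟩ := exists_generator P hP
  rw [hG] at hbig
  obtain ⟨hs1, hs2⟩ := num_small p q v n hbig
  have hp3 : 3 ≤ p := by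
    have := Nat.le_of_dvd (by have := hp.two_le; omega) hqdvd
    omega
  refine ⟨z, hzo, ?_, ?_⟩
  · rw [hzC, hzP']
    symm
    apply Subgroup.eq_of_le_of_card_ge (Cfsg.Agent.Helper5.TL.gt_le_centralizer p P hP)
    rw [hCcard, hP]
    suffices hv1 : v = 1 by rw [hv1]; omega
    by_contra hv1
    exfalso
    have hv2 : 2 ≤ v := by omega
    -- q ≠ p - 1
    have h2q : 2 * q + 1 ≤ p := by
      obtain ⟨t, ht⟩ := hqdvd
      rcases Nat.lt_or_ge t 2 with h | h
      · interval_cases t
        · omega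
        · exfalso
          have h1 : q = p - 1 := by omega
          have h2 : 2 * (p - 1) * 1 ≤ v * q * n := by
            rw [h1]
            exact Nat.mul_le_mul (Nat.mul_le_mul_right _ hv2) hn1
          omega
      · have : q * 2 ≤ q * t := Nat.mul_le_mul_left q h
        omega
    haveI : Fintype G := Fintype.ofFinite G
    exact core_false hperf p P hP hcore q v n hq hq2 h2q hn1 hv2 hpv hCcard hG hs1 hs2 z hzP hzo
      (by rw [hzC]; exact hidx)
  · rw [hr]
    have h1 : 2 * n ≤ v * q * n := by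
      have : 1 * 2 ≤ v * q := Nat.mul_le_mul hv0 hq2
      nlinarith
    have h2 : 2 * n < p := by omega
    nlinarith

end Cfsg.Agent.Helper17.BRRed
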