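import Mathlib
import Cfsg.Agent.Lib.Helper17.BRRedMain
import Cfsg.Agent.Lib.Helper12.PSL2Max3

/-!
# Brauer-Reynolds reduction: tools for the corollaries S0999 / S4701   (helper17)
-/

set_option autoImplicit false
set_option linter.style.haveILetI false

namespace Cfsg.Agent.Helper17.BRRed

open Subgroup Cfsg

/-- If `p ∣ |G| < p^3` and the Sylow `p`-subgroup is not normal then it has order `p`. -/
theorem card_sylow_eq_prime {G : Type*} [Group G] [Finite G] (p : ℕ) [hpF : Fact p.Prime]
    (hdvd : p ∣ Nat.card G) (hbig : Nat.card G < p ^ 3) (P : Sylow p G)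
    (hP : ¬ (P : Subgroup G).Normal) : Nat.card P = p := by
  have hp : p.Prime := hpF.out
  have hcard := Sylow.card_eq_multiplicity P
  set k := (Nat.card G).factorization p with hk
  have hk1 : 1 ≤ k := by
    rw [hk]
    exact (hp.dvd_iff_one_le_factorization Nat.card_pos.ne').mp hdvd
  rcases Nat.lt_or_ge k 2 with h | h
  · have : k = 1 := by omega
    rw [hcard, this, pow_one]
  · exfalso
    apply hP
    have hidx : (normalizer ((P : Subgroup G) : Set G)).index = Nat.card (Sylow p G) :=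
      (Sylow.card_eq_index_normalizer P).symm
    rw [← Subgroup.normalizer_eq_top_iff, ← Subgroup.index_eq_one, hidx]
    set r := Nat.card (Sylow p G) with hr
    have hmod : r % p = 1 % p := card_sylow_modEq_one p G
    rw [Nat.mod_eq_of_lt hp.one_lt] at hmod
    have hrN : r * Nat.card (normalizer ((P : Subgroup G) : Set G)) = Nat.card G := by
      rw [hr, Sylow.card_eq_index_normalizer P, mul_comm]
      exact Subgroup.card_mul_index _
    have hPN : Nat.card (P : Subgroup G) ≤ Nat.card (normalizer ((P : Subgroup G) : Set G)) :=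
      Subgroup.card_le_of_le Subgroup.le_normalizer
    have hp2 : p ^ 2 ≤ Nat.card (P : Subgroup G) := by
      rw [hcard]; exact Nat.pow_le_pow_right hp.pos h
    have h1 : r * p ^ 2 ≤ Nat.card G := by
      rw [← hrN]; exact Nat.mul_le_mul_left r (hp2.trans hPN)
    have hrp : r < p := by
      by_contra hc
      push Not at hc
      have : p * p ^ 2 ≤ r * p ^ 2 := Nat.mul_le_mul_right _ hc
      have h3 : p * p ^ 2 = p ^ 3 := by ring
      omega
    rw [Nat.mod_eq_of_lt hrp] at hmod
    exact hmod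

/-- The quotient of a perfect group is perfect. -/
theorem commutator_quotient_eq_top {G : Type*} [Group G] (hperf : commutator G = ⊤)
    (K : Subgroup G) [K.Normal] : commutator (G ⧸ K) = ⊤ := by
  have h1 : (⊤ : Subgroup (G ⧸ K)) = (⊤ : Subgroup G).map (QuotientGroup.mk' K) :=
    (Subgroup.map_top_of_surjective _ (QuotientGroup.mk'_surjective K)).symm
  rw [commutator_def, h1, ← Subgroup.map_commutator, ← commutator_def, hperf]

/-- The hypotheses of the reduction pass to the quotient by a normal `p'`-subgroup `K` with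
`O_{p'}(G/K) = 1`. -/
theorem quotient_data {G : Type*} [Group G] [Finite G] (hperf : commutator G = ⊤) (p : ℕ)
    [hpF : Fact p.Prime] (P : Sylow p G) (hP : Nat.card P = p) (hbig : Nat.card G < p ^ 3)
    (K : Subgroup G) [K.Normal] (hK : (Nat.card K).Coprime p)
    (hKcore : ∀ N : Subgroup (G ⧸ K), N.Normal → (Nat.card N).Coprime p → N = ⊥) :
    commutator (G ⧸ K) = ⊤ ∧ ∃ z : G ⧸ K, orderOf z = p ∧
      Subgroup.centralizer ({z} : Set (G ⧸ K)) = Subgroup.zpowers z ∧
      2 * Nat.card (Sylow p (G ⧸ K)) < (p + 1) * (p + 2) := by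
  have hp : p.Prime := hpF.out
  have hperf' := commutator_quotient_eq_top hperf K
  refine ⟨hperf', ?_⟩
  have hmul : Nat.card G = Nat.card (G ⧸ K) * Nat.card K :=
    Subgroup.card_eq_card_quotient_mul_card_subgroup K
  have hKpos : 0 < Nat.card K := Nat.card_pos
  have hQpos : 0 < Nat.card (G ⧸ K) := Nat.card_pos
  have hle : Nat.card (G ⧸ K) ≤ Nat.card G := by
    rw [hmul]; exact Nat.le_mul_of_pos_right _ hKpos
  have hfac : (Nat.card (G ⧸ K)).factorization p = 1 := by
    have h1 : (Nat.card G).factorization p = 1 := by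
      have := Sylow.card_eq_multiplicity P
      rw [hP] at this
      have h2 : p ^ 1 = p ^ (Nat.card G).factorization p := by rw [pow_one]; exact this
      exact (Nat.pow_right_injective hp.two_le h2).symm
    rw [hmul, Nat.factorization_mul hQpos.ne' hKpos.ne', Finsupp.add_apply] at h1
    have h3 : (Nat.card K).factorization p = 0 := by
      apply Nat.factorization_eq_zero_of_not_dvd
      exact (Nat.Prime.coprime_iff_not_dvd hp).mp hK.symm
    omega
  obtain ⟨Q⟩ : Nonempty (Sylow p (G ⧸ K)) := inferInstance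
  have hQ : Nat.card Q = p := by
    have := Sylow.card_eq_multiplicity Q
    rw [hfac, pow_one] at this
    exact this
  exact main hperf' p Q hQ (lt_of_le_of_lt hle hbig) hKcore

/-- Order comparison, `PSL(2,p)` case. -/
theorem eq_bot_of_card_odd {G : Type*} [Group G] [Finite G] (p : ℕ) (hp5 : 5 ≤ p)
    (hbig : Nat.card G < p ^ 3) (K : Subgroup G) [K.Normal] (h2 : Nat.card K ≠ 2)
    (hcard : 2 * Nat.card (G ⧸ K) = p * (p - 1) * (p + 1)) : K = ⊥ := by
  have hmul : Nat.card G = Nat.card (G ⧸ K) * Nat.card K :=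
    Subgroup.card_eq_card_quotient_mul_card_subgroup K
  have hKpos : 0 < Nat.card K := Nat.card_pos
  rw [← Subgroup.card_eq_one]
  by_contra h1
  have h3 : 3 ≤ Nat.card K := by omega
  have h4 : Nat.card (G ⧸ K) * 3 ≤ Nat.card G := by
    rw [hmul]; exact Nat.mul_le_mul_left _ h3
  obtain ⟨c, rfl⟩ : ∃ c, p = c + 5 := ⟨p - 5, by omega⟩
  have h5 : c + 5 - 1 = c + 4 := by omega
  rw [h5] at hcard
  have h7 : 2 * (c + 5) ^ 3 ≤ 3 * ((c + 5) * (c + 4) * (c + 5 + 1)) := by
    ring_nf
    nlinarith [Nat.zero_le c, Nat.zero_le (c ^ 2), Nat.zero_le (c ^ 3)]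
  omega

/-- Order comparison, `PSL(2,p-1)` case. -/
theorem eq_bot_of_card_even {G : Type*} [Group G] [Finite G] (p : ℕ) (hp5 : 5 ≤ p)
    (hbig : Nat.card G < p ^ 3) (K : Subgroup G) [K.Normal] (h2 : Nat.card K ≠ 2)
    (hcard : Nat.card (G ⧸ K) = (p - 1) * (p - 2) * p) : K = ⊥ := by
  have hmul : Nat.card G = Nat.card (G ⧸ K) * Nat.card K :=
    Subgroup.card_eq_card_quotient_mul_card_subgroup K
  have hKpos : 0 < Nat.card K := Nat.card_pos
  rw [← Subgroup.card_eq_one]
  by_contra h1
  have h3 : 3 ≤ Nat.card K := by omega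
  have h4 : Nat.card (G ⧸ K) * 3 ≤ Nat.card G := by
    rw [hmul]; exact Nat.mul_le_mul_left _ h3
  obtain ⟨c, rfl⟩ : ∃ c, p = c + 5 := ⟨p - 5, by omega⟩
  have h5 : c + 5 - 1 = c + 4 := by omega
  have h6 : c + 5 - 2 = c + 3 := by omega
  rw [h5, h6] at hcard
  have h7 : (c + 5) ^ 3 ≤ 3 * ((c + 4) * (c + 3) * (c + 5)) := by
    ring_nf
    nlinarith [Nat.zero_le c, Nat.zero_le (c ^ 2), Nat.zero_le (c ^ 3)]
  omega

/-- `PSL₂(F) ≃* SL₂(F)` when `|F|` is a power of two. -/
theorem nonempty_psl_equiv_sl (F : Type*) [Field F] [Fintype F] (m : ℕ)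
    (hF : Fintype.card F = 2 ^ m) :
    Nonempty (Matrix.ProjectiveSpecialLinearGroup (Fin 2) F ≃* Matrix.SpecialLinearGroup (Fin 2) F) := by
  obtain ⟨p', hp'⟩ := CharP.exists F
  haveI := hp'
  obtain ⟨k, hpprime, hk⟩ := FiniteField.card F p'
  have hp2 : p' = 2 := by
    have h1 : p' ∣ 2 ^ m := by
      rw [← hF, hk]; exact dvd_pow_self _ k.ne_zero
    exact (Nat.prime_dvd_prime_iff_eq hpprime Nat.prime_two).mp (hpprime.dvd_of_dvd_pow h1)
  subst hp2
  have h2F : (2 : F) = 0 := by
    have := CharP.cast_eq_zero F 2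
    simpa using this
  have hcenter : Subgroup.center (Matrix.SpecialLinearGroup (Fin 2) F) = ⊥ := by
    rw [eq_bot_iff]
    intro A hA
    rw [Matrix.SpecialLinearGroup.mem_center_iff] at hA
    obtain ⟨r, hr, hrA⟩ := hA
    rw [Fintype.card_fin] at hr
    have h1 : (r - 1) ^ 2 = 0 := by
      calc (r - 1) ^ 2 = r ^ 2 + 1 - 2 * r := by ring
        _ = 2 * (1 - r) := by rw [hr]; ring
        _ = 0 := by rw [h2F, zero_mul]
    have h2 : r = 1 := by
      have := pow_eq_zero_iff (two_ne_zero) |>.mp h1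
      exact sub_eq_zero.mp this
    rw [Subgroup.mem_bot]
    apply Subtype.ext
    rw [← hrA, h2]
    simp
  exact ⟨(QuotientGroup.quotientMulEquivOfEq hcenter).trans QuotientGroup.quotientBot⟩

end Cfsg.Agent.Helper17.BRRed
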