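import Mathlib

/-!
# Brauer-Reynolds reduction under (NC): the arithmetic   (helper17)

(NC): every divisor `d ≡ 1 (mod p)` of `(p-1) r` is `1` or `r`, where `r = 1 + n p`.
-/

set_option autoImplicit false

namespace Cfsg.Agent.Helper17.BRRed

/-- plus type -/
theorem nc_plus (p q t n d : ℕ) (hqt : q * t = p - 1)
    (hNC : ∀ d : ℕ, d ∣ (p - 1) * (1 + n * p) → d % p = 1 → d = 1 ∨ d = 1 + n * p)
    (hd1 : d ≠ 1) (hdmod : d % p = 1) (hdvd : d ∣ q * (1 + n * p)) : d = 1 + n * p := by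
  have h1 : d ∣ (p - 1) * (1 + n * p) := by
    rw [← hqt]
    exact hdvd.trans ⟨t, by ring⟩
  rcases hNC d h1 hdmod with h | h
  · exact absurd h hd1
  · exact h

/-- the cofactor of a divisor `≡ -1` of `q r`, multiplied by `t`, is `≡ 1 (mod p)`. -/
theorem nc_cofactor (p q t n d y : ℕ) (hp : 2 ≤ p) (hqt : q * t = p - 1) (hdmod : p ∣ d + 1)
    (hy : q * (1 + n * p) = d * y) : (t * y) % p = 1 := by
  obtain ⟨u, hu⟩ := hdmod
  -- p ∣ t*y + (p-1)
  have h1 : t * y + t * (d * y) = p * (u * t * y) := by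
    have : t * y + t * (d * y) = (d + 1) * (t * y) := by ring
    rw [this, hu]; ring
  have h2 : t * (d * y) = (p - 1) + (p - 1) * n * p := by
    rw [← hy, ← hqt]; ring
  have h3 : p ∣ t * y + (p - 1) := by
    have h4 : t * y + (p - 1) + (p - 1) * n * p = p * (u * t * y) := by
      rw [← h1, h2]; ring
    have h5 : p ∣ t * y + (p - 1) + (p - 1) * n * p := ⟨_, h4⟩
    exact (Nat.dvd_add_left (Dvd.intro_left _ rfl)).mp h5
  obtain ⟨k, hk⟩ := h3
  have hk1 : 1 ≤ k := by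
    rcases Nat.eq_zero_or_pos k with h | h
    · subst h; omega
    · exact h
  obtain ⟨k', rfl⟩ : ∃ k', k = k' + 1 := ⟨k - 1, by omega⟩
  have h6 : t * y = 1 + k' * p := by
    have : p * (k' + 1) = k' * p + p := by ring
    omega
  rw [h6, Nat.add_mul_mod_self_right, Nat.mod_eq_of_lt (by omega)]

/-- minus type, `t ≥ 2` -/
theorem nc_minus (p q t n d : ℕ) (hp : 2 ≤ p) (hqt : q * t = p - 1) (ht : 2 ≤ t)
    (hNC : ∀ d : ℕ, d ∣ (p - 1) * (1 + n * p) → d % p = 1 → d = 1 ∨ d = 1 + n * p)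
    (hdmod : p ∣ d + 1) (hdvd : d ∣ q * (1 + n * p)) : d = p - 1 := by
  obtain ⟨y, hy⟩ := hdvd
  have hmod := nc_cofactor p q t n d y hp hqt hdmod hy
  have hdv : t * y ∣ (p - 1) * (1 + n * p) := by
    refine ⟨d, ?_⟩
    rw [← hqt]
    calc q * t * (1 + n * p) = t * (q * (1 + n * p)) := by ring
      _ = t * y * d := by rw [hy]; ring
  have hr : 0 < 1 + n * p := by omega
  rcases hNC (t * y) hdv hmod with h | h
  · exfalso
    have : t ∣ 1 := ⟨y, h.symm⟩
    have := Nat.le_of_dvd one_pos this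
    omega
  · -- t y = r, d y = q r  ⇒ d r = d t y = t q r
    have h1 : d * (1 + n * p) = (p - 1) * (1 + n * p) := by
      calc d * (1 + n * p) = d * (t * y) := by rw [h]
        _ = t * (d * y) := by ring
        _ = t * (q * (1 + n * p)) := by rw [hy]
        _ = (p - 1) * (1 + n * p) := by rw [← hqt]; ring
    exact Nat.eq_of_mul_eq_mul_right hr h1

/-- minus type, `t = 1` -/
theorem nc_minus_one (p n d : ℕ) (hp : 2 ≤ p)
    (hNC : ∀ d : ℕ, d ∣ (p - 1) * (1 + n * p) → d % p = 1 → d = 1 ∨ d = 1 + n * p)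
    (hdmod : p ∣ d + 1) (hdvd : d ∣ (p - 1) * (1 + n * p)) :
    d = p - 1 ∨ d = (p - 1) * (1 + n * p) := by
  obtain ⟨y, hy⟩ := hdvd
  have hmod := nc_cofactor p (p - 1) 1 n d y hp (mul_one _) hdmod hy
  rw [one_mul] at hmod
  have hdv : y ∣ (p - 1) * (1 + n * p) := ⟨d, by rw [hy]; ring⟩
  have hr : 0 < 1 + n * p := by omega
  rcases hNC y hdv hmod with h | h
  · right
    rw [hy, h, mul_one]
  · left
    rw [h] at hy
    have : (p - 1) * (1 + n * p) = d * (1 + n * p) := hy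
    exact (Nat.eq_of_mul_eq_mul_right hr this).symm

/-- the final contradiction for `t ≥ 2`. -/
theorem nc_final (p q n : ℕ) (hq2 : 2 ≤ q) (hn : 1 ≤ n) (hqp : q < p)
    (hdvd : (1 + (q - 1) * (1 + n * p)) ∣ q * (1 + n * p)) : False := by
  set r := 1 + n * p with hr
  set x := 1 + (q - 1) * r with hx
  have hcop1 : Nat.Coprime x r := by
    rw [hx, Nat.coprime_comm]
    have : Nat.Coprime r (1 + r * (q - 1)) := by
      rw [Nat.coprime_add_mul_left_right]; exact Nat.coprime_one_right r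
    rwa [mul_comm] at this
  have h1 : x ∣ q := hcop1.dvd_of_dvd_mul_right hdvd
  have h3 : x ≤ q := Nat.le_of_dvd (by omega) h1
  have h5 : 1 + (1 + p) ≤ x := by
    rw [hx, hr]
    have : 1 * (1 + 1 * p) ≤ (q - 1) * (1 + n * p) :=
      Nat.mul_le_mul (by omega) (by nlinarith)
    omega
  omega

end Cfsg.Agent.Helper17.BRRed
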