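import Mathlib
import Cfsg.Prelude.Def_Characters
import Cfsg.Agent.Lib.Helper12.NilCover
import Cfsg.Agent.Lib.Helper17.BRRedGrp

/-!
# Brauer-Reynolds reduction: the sum of the exceptional characters on `p`-singular elements  (helper17)

Part 1: group theory.  `P` a Sylow `p`-subgroup of order `p`.  Every `p`-singular element is conjugate
to `z' * y` with `1 ≠ z' ∈ P`, `y ∈ C_G(P)` `p`-regular; the number of `p`-singular elements is at most
`|G : N_G(P)| * (|C_G(P)| - |C_G(P)| / p)`.
-/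

set_option autoImplicit false
set_option linter.style.haveILetI false

namespace Cfsg.Agent.Helper17.BRRed

open Subgroup Cfsg

variable {G : Type*} [Group G] [Finite G] {p : ℕ} [hpF : Fact p.Prime]

/-- Every `p`-singular element is conjugate to `z' * y`, `1 ≠ z' ∈ P`, `y ∈ C_G(P)` `p`-regular. -/
theorem exists_conj_decomp (P : Sylow p G) (hP : Nat.card P = p) (g : G) (hg : p ∣ orderOf g) :
    ∃ x z' y : G, z' ∈ (P : Subgroup G) ∧ z' ≠ 1 ∧ y ∈ centralizer ((P : Subgroup G) : Set G) ∧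
      ¬ p ∣ orderOf y ∧ x * g * x⁻¹ = z' * y := by
  have hp : p.Prime := hpF.out
  obtain ⟨u, y, hu, hy, hguy, ⟨k, hk⟩, hyreg⟩ := Cfsg.Agent.Helper12.NilCover.exists_pParts p g
  have hu1 : u ≠ 1 := by
    intro h
    rw [h, one_mul] at hguy
    rw [hguy] at hg
    exact hyreg hg
  have hcomm : Commute u y := by
    obtain ⟨i, rfl⟩ := Subgroup.mem_zpowers_iff.mp hu
    obtain ⟨j, rfl⟩ := Subgroup.mem_zpowers_iff.mp hy
    exact (Commute.refl g).zpow_zpow i j
  have hpg : IsPGroup p (zpowers u) := by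
    apply IsPGroup.of_card (n := k)
    rw [Nat.card_zpowers, hk]
  obtain ⟨Q, hQ⟩ := hpg.exists_le_sylow
  obtain ⟨x, hx⟩ := MulAction.exists_smul_eq G Q P
  have hz'P : x * u * x⁻¹ ∈ (P : Subgroup G) := by
    rw [← hx, Sylow.coe_subgroup_smul, Cfsg.Agent.Helper22.mem_conj_smul_iff]
    have : x⁻¹ * (x * u * x⁻¹) * x = u := by group
    rw [this]
    exact hQ (mem_zpowers u)
  have hz'1 : x * u * x⁻¹ ≠ 1 := by
    intro h
    apply hu1
    have : u = x⁻¹ * (x * u * x⁻¹) * x := by group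
    rw [this, h]; group
  -- z' generates P
  have hoz' : orderOf (x * u * x⁻¹) = p := by
    have h1 : orderOf (x * u * x⁻¹) ∣ p := by
      have := orderOf_dvd_natCard (⟨x * u * x⁻¹, hz'P⟩ : (P : Subgroup G))
      rw [hP] at this
      rwa [← Subgroup.orderOf_coe] at this
    rcases (Nat.dvd_prime hp).mp h1 with h | h
    · exact absurd (orderOf_eq_one_iff.mp h) hz'1
    · exact h
  have hPz : (P : Subgroup G) = zpowers (x * u * x⁻¹) :=
    Cfsg.Agent.Helper22.eq_zpowers_of_card_eq _ hoz' (P : Subgroup G) hP hz'P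
  refine ⟨x, x * u * x⁻¹, x * y * x⁻¹, hz'P, hz'1, ?_, ?_, ?_⟩
  · rw [hPz, Cfsg.Agent.Helper22.centralizer_zpowers_eq, Subgroup.mem_centralizer_iff]
    intro h hh
    rw [Set.mem_singleton_iff] at hh
    subst hh
    have := hcomm.eq
    calc x * u * x⁻¹ * (x * y * x⁻¹) = x * (u * y) * x⁻¹ := by group
      _ = x * (y * u) * x⁻¹ := by rw [this]
      _ = x * y * x⁻¹ * (x * u * x⁻¹) := by group
  · rw [Cfsg.Agent.Helper5.TL.gt_orderOf_conj]
    exact hyreg
  · rw [hguy]; group

/-- Conjugation by an element of `N_G(P)` preserves `C_G(P)`. -/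
theorem conj_mem_centralizer_of_mem_normalizer (P : Subgroup G) {h c : G}
    (hh : h ∈ normalizer (P : Set G)) (hc : c ∈ centralizer (P : Set G)) :
    h⁻¹ * c * h ∈ centralizer (P : Set G) := by
  rw [Subgroup.mem_centralizer_iff] at hc ⊢
  intro a ha
  have ha' : h * a * h⁻¹ ∈ P := (Subgroup.mem_normalizer_iff.mp hh a).mp ha
  have h1 := hc (h * a * h⁻¹) ha'
  calc a * (h⁻¹ * c * h) = h⁻¹ * ((h * a * h⁻¹) * c) * h := by group
    _ = h⁻¹ * (c * (h * a * h⁻¹)) * h := by rw [h1]
    _ = h⁻¹ * c * h * a := by group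

/-- Upper bound for the number of `p`-singular elements. -/
theorem card_singular_mul_le (P : Sylow p G) (hP : Nat.card P = p) (q t : ℕ)
    (hq : q = (centralizer ((P : Subgroup G) : Set G)).relIndex (normalizer ((P : Subgroup G) : Set G)))
    (hqt : q * t = p - 1) :
    Nat.card {g : G // p ∣ orderOf g} * p ≤ Nat.card G * t := by
  classical
  have hp : p.Prime := hpF.out
  set C := centralizer ((P : Subgroup G) : Set G) with hC
  set N := normalizer ((P : Subgroup G) : Set G) with hN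
  have hPC : (P : Subgroup G) ≤ C := Cfsg.Agent.Helper5.TL.gt_le_centralizer p P hP
  have hCN : C ≤ N := Subgroup.centralizer_le_normalizer _
  obtain ⟨K, n₀, hK, hKp, -, hdec, -, -⟩ := Cfsg.Agent.Helper5.TL.exists_pcore p P hP
  have hKC : K ≤ C := fun y hy => ((hK y).mp hy).1
  -- |C| ≤ p |K|
  have hCK : Nat.card C ≤ p * Nat.card K := by
    let f : ↥(P : Subgroup G) × ↥K → ↥C := fun ak => ⟨(ak.1 : G) * (ak.2 : G),
      C.mul_mem (hPC ak.1.2) (hKC ak.2.2)⟩
    have hf : Function.Surjective f := by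
      rintro ⟨c, hc⟩
      have hc' : ∀ u ∈ (P : Subgroup G), c * u = u * c := by
        intro u hu
        exact ((Subgroup.mem_centralizer_iff.mp hc) u hu).symm
      obtain ⟨u, k, hu, hk, hcuk⟩ := hdec c hc'
      exact ⟨(⟨u, hu⟩, ⟨k, hk⟩), Subtype.ext hcuk.symm⟩
    have := Nat.card_le_card_of_surjective f hf
    rwa [Nat.card_prod, hP] at this
  -- singular part of C
  set Sg : Set G := {c | c ∈ C ∧ p ∣ orderOf c} with hSg
  have hsplit : Sg.ncard + Nat.card K = Nat.card C := by
    have h1 : (C : Set G) = Sg ∪ (K : Set G) := by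
      ext c
      simp only [hSg, Set.mem_union, Set.mem_ofPred_eq, SetLike.mem_coe]
      constructor
      · intro hc
        by_cases h : p ∣ orderOf c
        · exact Or.inl ⟨hc, h⟩
        · exact Or.inr ((hK c).mpr ⟨hc, h⟩)
      · rintro (h | h)
        · exact h.1
        · exact hKC h
    have h2 : Disjoint Sg (K : Set G) := by
      rw [Set.disjoint_left]
      intro c hc hcK
      exact ((hK c).mp hcK).2 hc.2
    have h3 := Set.ncard_union_eq h2 (Set.toFinite _) (Set.toFinite _)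
    rw [← h1] at h3
    rw [← Nat.card_coe_set_eq (C : Set G), ← Nat.card_coe_set_eq (K : Set G)] at h3
    exact h3.symm
  -- covering
  have hcover : Nat.card {g : G // p ∣ orderOf g} ≤ N.index * Sg.ncard := by
    have hord : ∀ (x s : G), orderOf (x * s * x⁻¹) = orderOf s := fun x s =>
      Cfsg.Agent.Helper5.TL.gt_orderOf_conj x s
    let F : (G ⧸ N) × Sg → {g : G // p ∣ orderOf g} := fun cs =>
      ⟨cs.1.out * (cs.2 : G) * cs.1.out⁻¹, by rw [hord]; exact cs.2.2.2⟩
    have hF : Function.Surjective F := by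
      rintro ⟨g, hg⟩
      obtain ⟨x, z', y, hz'P, hz'1, hyC, hyreg, hxg⟩ := exists_conj_decomp P hP g hg
      obtain ⟨h, hh⟩ := QuotientGroup.mk_out_eq_mul N x⁻¹
      have hs0C : z' * y ∈ C := C.mul_mem (hPC hz'P) hyC
      have hs0 : p ∣ orderOf (z' * y) := by rw [← hxg, hord]; exact hg
      have hsC : (h : G)⁻¹ * (z' * y) * (h : G) ∈ C :=
        conj_mem_centralizer_of_mem_normalizer (P : Subgroup G) h.2 hs0C
      have hsord : p ∣ orderOf ((h : G)⁻¹ * (z' * y) * (h : G)) := by
        have := hord (h : G)⁻¹ (z' * y)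
        rw [inv_inv] at this
        rw [this]; exact hs0
      refine ⟨((QuotientGroup.mk x⁻¹ : G ⧸ N), ⟨(h : G)⁻¹ * (z' * y) * (h : G), hsC, hsord⟩), ?_⟩
      apply Subtype.ext
      show ((QuotientGroup.mk x⁻¹ : G ⧸ N)).out * ((h : G)⁻¹ * (z' * y) * (h : G)) *
        ((QuotientGroup.mk x⁻¹ : G ⧸ N)).out⁻¹ = g
      rw [hh, ← hxg]; group
    have := Nat.card_le_card_of_surjective F hF
    rwa [Nat.card_prod, ← Subgroup.index_eq_card, Nat.card_coe_set_eq] at this
  -- arithmetic
  have hidx : C.index = C.relIndex N * N.index := (Subgroup.relIndex_mul_index hCN).symm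
  have hG : Nat.card G = Nat.card C * C.index := (Subgroup.card_mul_index C).symm
  rw [← hq] at hidx
  have h1 : Nat.card {g : G // p ∣ orderOf g} * p ≤ N.index * Sg.ncard * p :=
    Nat.mul_le_mul_right p hcover
  have h2 : Sg.ncard * p + Nat.card C ≤ p * Nat.card C := by
    have : Sg.ncard * p + Nat.card K * p = Nat.card C * p := by rw [← add_mul, hsplit]
    nlinarith
  have hp1 : 1 ≤ p := hp.pos
  have h3 : Sg.ncard * p ≤ Nat.card C * (p - 1) := by
    obtain ⟨c, rfl⟩ : ∃ c, p = c + 1 := ⟨p - 1, by omega⟩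
    simp only [Nat.add_sub_cancel]
    nlinarith
  calc Nat.card {g : G // p ∣ orderOf g} * p ≤ N.index * (Sg.ncard * p) := by
        rw [← mul_assoc]; exact h1
    _ ≤ N.index * (Nat.card C * (p - 1)) := Nat.mul_le_mul_left _ h3
    _ = Nat.card G * t := by rw [hG, hidx, ← hqt]; ring

end Cfsg.Agent.Helper17.BRRed
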