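import Mathlib
import Cfsg.Prelude.Def_Characters
import Cfsg.Agent.Lib.Helper24.CharOrtho
import Cfsg.Agent.Lib.Helper24.CharComplete
import Cfsg.Agent.Lib.Helper24.CharLinear
import Cfsg.Agent.Lib.Helper17.BRRedY

/-!
# Brauer-Reynolds reduction: LEMMA Y   (helper17)

From the shape of the principal block given by S4441 (general `C_G(P)`): if the principal character is
non-exceptional then the sum of the exceptional characters is `-ε` on every `p`-singular element.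
-/

set_option autoImplicit false
set_option linter.style.haveILetI false

namespace Cfsg.Agent.Helper17.BRRed

open Subgroup Cfsg
open scoped ComplexConjugate

universe u

variable {G : Type u} [Group G] [Fintype G]

/-- Inner product of two linear combinations of irreducible characters. -/
theorem classInner_lincomb [DecidableEq (IrrCharacter G)] (s s' : Finset (IrrCharacter G))
    (a b : IrrCharacter G → ℂ) :
    classInner (∑ χ ∈ s, a χ • (χ : G → ℂ)) (∑ ψ ∈ s', b ψ • (ψ : G → ℂ)) =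
      ∑ χ ∈ s ∩ s', a χ * conj (b χ) := by
  rw [Cfsg.Agent.Helper24.classInner_sum_left]
  have h1 : ∀ χ ∈ s, classInner (a χ • (χ : G → ℂ)) (∑ ψ ∈ s', b ψ • (ψ : G → ℂ)) =
      if χ ∈ s' then a χ * conj (b χ) else 0 := by
    intro χ _
    rw [Cfsg.Agent.Helper24.classInner_smul_left, Cfsg.Agent.Helper24.classInner_sum_right]
    have h2 : ∀ ψ ∈ s', classInner (χ : G → ℂ) (b ψ • (ψ : G → ℂ)) =
        if χ = ψ then conj (b ψ) else 0 := by
      intro ψ _
      rw [Cfsg.Agent.Helper24.classInner_smul_right, Cfsg.Agent.Helper24.irr_orthogonality']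
      split_ifs <;> simp
    rw [Finset.sum_congr rfl h2, Finset.sum_ite_eq]
    split_ifs <;> simp
  rw [Finset.sum_congr rfl h1, ← Finset.sum_filter, Finset.filter_mem_eq_inter]

/-- **Lemma Y.** -/
theorem sum_exceptional_singular (p : ℕ) [hpF : Fact p.Prime] (P : Sylow p G) (hP : Nat.card P = p)
    (q t : ℕ)
    (hq : q = (centralizer ((P : Subgroup G) : Set G)).relIndex (normalizer ((P : Subgroup G) : Set G)))
    (hqt : q * t = p - 1)
    (Xf Yf : Finset (IrrCharacter G)) (hdisj : Disjoint Xf Yf) (hXc : Xf.card = q) (hYc : Yf.card = t)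
    (εX : IrrCharacter G → ℤ) (ε : ℤ) (hεX : ∀ χ ∈ Xf, εX χ = 1 ∨ εX χ = -1) (hε : ε = 1 ∨ ε = -1)
    (hval : ∀ χ ∈ Xf, ∀ x : G, x ∈ (P : Subgroup G) → x ≠ 1 → ∀ y : G,
      y ∈ centralizer ((P : Subgroup G) : Set G) → ¬ p ∣ orderOf y →
        (χ : G → ℂ) (x * y) = (εX χ : ℂ))
    (hsum : ∀ θ ∈ Yf, ∀ g : G, ¬ p ∣ orderOf g →
      (ε : ℂ) * (θ : G → ℂ) g = ∑ χ ∈ Xf, (εX χ : ℂ) * (χ : G → ℂ) g)
    (h1 : Cfsg.Agent.Helper24.principalChar G ∈ Xf) :
    ∀ g : G, p ∣ orderOf g → ∑ θ ∈ Yf, (θ : G → ℂ) g = -(ε : ℂ) := by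
  classical
  have hp : p.Prime := hpF.out
  set χ₀ := Cfsg.Agent.Helper24.principalChar G with hχ₀
  -- squares of the signs
  have hεX2 : ∀ χ ∈ Xf, ((εX χ : ℂ)) * (εX χ : ℂ) = 1 := by
    intro χ hχ
    rcases hεX χ hχ with h | h <;> rw [h] <;> norm_num
  have hε2 : (ε : ℂ) * (ε : ℂ) = 1 := by
    rcases hε with h | h <;> rw [h] <;> norm_num
  -- a generator
  obtain ⟨z, hzP, hzo, -, -⟩ := exists_generator P hP
  have hz1 : z ≠ 1 := by
    intro h
    rw [h, orderOf_one] at hzo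
    exact hp.one_lt.ne hzo
  have hone_reg : ¬ p ∣ orderOf (1 : G) := by
    rw [orderOf_one]; exact hp.one_lt.ne' ∘ Nat.dvd_one.mp
  have hε₀ : εX χ₀ = 1 := by
    have h2 := hval χ₀ h1 z hzP hz1 1 (Subgroup.one_mem _) hone_reg
    have h3 : (χ₀ : G → ℂ) (z * 1) = 1 := rfl
    rw [h3] at h2
    exact_mod_cast h2.symm
  -- the coefficient function and Φ
  set c : IrrCharacter G → ℂ := fun χ => if χ ∈ Xf then (t : ℂ) * (εX χ : ℂ) else -(ε : ℂ) with hc
  set Φ : G → ℂ := ∑ χ ∈ Xf ∪ Yf, c χ • (χ : G → ℂ) with hΦ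
  have hΦg : ∀ g, Φ g = (t : ℂ) * (∑ χ ∈ Xf, (εX χ : ℂ) * (χ : G → ℂ) g)
      - (ε : ℂ) * ∑ θ ∈ Yf, (θ : G → ℂ) g := by
    intro g
    rw [hΦ, Finset.sum_apply, Finset.sum_union hdisj]
    have hA : ∑ χ ∈ Xf, (c χ • (χ : G → ℂ)) g = (t : ℂ) * ∑ χ ∈ Xf, (εX χ : ℂ) * (χ : G → ℂ) g := by
      rw [Finset.mul_sum]
      refine Finset.sum_congr rfl fun χ hχ => ?_
      rw [Pi.smul_apply, smul_eq_mul, hc]
      simp only [hχ, if_true]
      ring
    have hB : ∑ χ ∈ Yf, (c χ • (χ : G → ℂ)) g = -((ε : ℂ) * ∑ θ ∈ Yf, (θ : G → ℂ) g) := by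
      rw [Finset.mul_sum, ← Finset.sum_neg_distrib]
      refine Finset.sum_congr rfl fun χ hχ => ?_
      have hχX : χ ∉ Xf := fun h => (Finset.disjoint_left.mp hdisj h) hχ
      rw [Pi.smul_apply, smul_eq_mul, hc]
      simp only [hχX, if_false]
      ring
    rw [hA, hB]; ring
  -- Φ vanishes on p-regular elements
  have hΦreg : ∀ g, ¬ p ∣ orderOf g → Φ g = 0 := by
    intro g hg
    rw [hΦg g, Finset.mul_sum (s := Yf)]
    have : ∑ θ ∈ Yf, (ε : ℂ) * (θ : G → ℂ) g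
        = ∑ _θ ∈ Yf, ∑ χ ∈ Xf, (εX χ : ℂ) * (χ : G → ℂ) g :=
      Finset.sum_congr rfl fun θ hθ => hsum θ hθ g hg
    rw [this, Finset.sum_const, hYc, nsmul_eq_mul]
    ring
  -- on p-singular elements
  have hAsing : ∀ g, p ∣ orderOf g → ∑ χ ∈ Xf, (εX χ : ℂ) * (χ : G → ℂ) g = (q : ℂ) := by
    intro g hg
    obtain ⟨x, z', y, hz'P, hz'1, hyC, hyreg, hxg⟩ := exists_conj_decomp P hP g hg
    have hterm : ∀ χ ∈ Xf, (εX χ : ℂ) * (χ : G → ℂ) g = 1 := by
      intro χ hχ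
      have hcf := Cfsg.Agent.Helper24.isClassFunction_of_isIrrCharacter χ.2
      have h2 : (χ : G → ℂ) g = (εX χ : ℂ) := by
        rw [← hcf g x, hxg]
        exact hval χ hχ z' hz'P hz'1 y hyC hyreg
      rw [h2]; exact hεX2 χ hχ
    rw [Finset.sum_congr rfl hterm, Finset.sum_const, hXc, nsmul_eq_mul, mul_one]
  have hΦsing : ∀ g, p ∣ orderOf g → Φ g = (t : ℂ) * (q : ℂ) - (ε : ℂ) * ∑ θ ∈ Yf, (θ : G → ℂ) g := by
    intro g hg
    rw [hΦg g, hAsing g hg]
  -- inner products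
  have hcardC : (Nat.card G : ℂ) ≠ 0 := by exact_mod_cast (Nat.card_pos (α := G)).ne'
  have hnorm : classInner Φ Φ = (t : ℂ) * (t : ℂ) * (q : ℂ) + (t : ℂ) := by
    rw [hΦ, classInner_lincomb, Finset.inter_self, Finset.sum_union hdisj]
    have hA : ∑ χ ∈ Xf, c χ * conj (c χ) = (t : ℂ) * (t : ℂ) * (q : ℂ) := by
      have : ∀ χ ∈ Xf, c χ * conj (c χ) = (t : ℂ) * (t : ℂ) := by
        intro χ hχ
        rw [hc]
        simp only [hχ, if_true, map_mul, map_natCast, map_intCast]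
        calc (t : ℂ) * (εX χ : ℂ) * ((t : ℂ) * (εX χ : ℂ))
            = (t : ℂ) * (t : ℂ) * ((εX χ : ℂ) * (εX χ : ℂ)) := by ring
          _ = (t : ℂ) * (t : ℂ) := by rw [hεX2 χ hχ, mul_one]
      rw [Finset.sum_congr rfl this, Finset.sum_const, hXc, nsmul_eq_mul]; ring
    have hB : ∑ χ ∈ Yf, c χ * conj (c χ) = (t : ℂ) := by
      have : ∀ χ ∈ Yf, c χ * conj (c χ) = 1 := by
        intro χ hχ
        have hχX : χ ∉ Xf := fun h => (Finset.disjoint_left.mp hdisj h) hχ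
        rw [hc]
        simp only [hχX, if_false, map_neg, map_intCast]
        rw [neg_mul_neg, hε2]
      rw [Finset.sum_congr rfl this, Finset.sum_const, hYc, nsmul_eq_mul, mul_one]
    rw [hA, hB]
  have hone : classInner Φ (χ₀ : G → ℂ) = (t : ℂ) := by
    have h2 : (χ₀ : G → ℂ) = ∑ ψ ∈ ({χ₀} : Finset (IrrCharacter G)), (fun _ => (1 : ℂ)) ψ • (ψ : G → ℂ) := by
      rw [Finset.sum_singleton, one_smul]
    rw [h2, hΦ, classInner_lincomb]
    have h3 : (Xf ∪ Yf) ∩ {χ₀} = {χ₀} := by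
      rw [Finset.inter_eq_right, Finset.singleton_subset_iff]
      exact Finset.mem_union_left _ h1
    rw [h3, Finset.sum_singleton, hc]
    simp only [h1, if_true, map_one, mul_one, hε₀, Int.cast_one]
  -- sums over the group
  have hsumsq : ∑ g : G, Φ g * conj (Φ g) = (Nat.card G : ℂ) * ((t : ℂ) * (t : ℂ) * (q : ℂ) + (t : ℂ)) := by
    rw [← hnorm, classInner, ← mul_assoc, mul_inv_cancel₀ hcardC, one_mul]
  have hsum1 : ∑ g : G, Φ g = (Nat.card G : ℂ) * (t : ℂ) := by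
    rw [← hone, classInner, ← mul_assoc, mul_inv_cancel₀ hcardC, one_mul]
    refine Finset.sum_congr rfl fun g _ => ?_
    have : (χ₀ : G → ℂ) g = 1 := rfl
    rw [this, map_one, mul_one]
  -- the singular set
  set Sf : Finset G := Finset.univ.filter (fun g => p ∣ orderOf g) with hSf
  have hSfcard : Sf.card * p ≤ Nat.card G * t := by
    have := card_singular_mul_le P hP q t hq hqt
    rwa [Nat.card_eq_fintype_card, Fintype.card_subtype] at this
  -- real sums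
  have hRsq : ∑ g ∈ Sf, Complex.normSq (Φ g) = (Nat.card G : ℝ) * ((t : ℝ) * t * q + t) := by
    have h2 : ∑ g ∈ Sf, Complex.normSq (Φ g) = ∑ g : G, Complex.normSq (Φ g) := by
      apply Finset.sum_subset (Finset.filter_subset _ _)
      intro g _ hg
      have : ¬ p ∣ orderOf g := fun h => hg (Finset.mem_filter.mpr ⟨Finset.mem_univ _, h⟩)
      rw [hΦreg g this, map_zero]
    rw [h2]
    have h3 : ((∑ g : G, Complex.normSq (Φ g) : ℝ) : ℂ) = ∑ g : G, Φ g * conj (Φ g) := by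
      push_cast
      refine Finset.sum_congr rfl fun g _ => ?_
      rw [Complex.mul_conj]
    rw [hsumsq] at h3
    have h4 : ((∑ g : G, Complex.normSq (Φ g) : ℝ) : ℂ)
        = (((Nat.card G : ℝ) * ((t : ℝ) * t * q + t) : ℝ) : ℂ) := by
      rw [h3]; push_cast; ring
    exact_mod_cast h4
  have hRre : ∑ g ∈ Sf, (Φ g).re = (Nat.card G : ℝ) * t := by
    have h2 : ∑ g ∈ Sf, (Φ g).re = ∑ g : G, (Φ g).re := by
      apply Finset.sum_subset (Finset.filter_subset _ _)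
      intro g _ hg
      have : ¬ p ∣ orderOf g := fun h => hg (Finset.mem_filter.mpr ⟨Finset.mem_univ _, h⟩)
      rw [hΦreg g this, Complex.zero_re]
    rw [h2, ← Complex.re_sum, hsum1]
    have : ((Nat.card G : ℂ) * (t : ℂ)) = (((Nat.card G : ℝ) * (t : ℝ) : ℝ) : ℂ) := by push_cast; ring
    rw [this, Complex.ofReal_re]
  -- the sum of squares of Φ - p over the singular set
  have hkey : ∑ g ∈ Sf, Complex.normSq (Φ g - (p : ℂ)) ≤ 0 := by
    have hexp : ∀ g ∈ Sf, Complex.normSq (Φ g - (p : ℂ))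
        = Complex.normSq (Φ g) - 2 * (p : ℝ) * (Φ g).re + (p : ℝ) * p := by
      intro g _
      rw [Complex.normSq_sub, Complex.normSq_natCast, Complex.conj_natCast]
      have : (Φ g * (p : ℂ)).re = (Φ g).re * p := by
        rw [Complex.mul_re]; simp
      rw [this]; ring
    rw [Finset.sum_congr rfl hexp, Finset.sum_add_distrib, Finset.sum_sub_distrib, hRsq,
      ← Finset.mul_sum, hRre, Finset.sum_const, nsmul_eq_mul]
    have hcast : ((Sf.card : ℝ)) * p ≤ (Nat.card G : ℝ) * t := by exact_mod_cast hSfcard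
    have hqtR : (q : ℝ) * t = (p : ℝ) - 1 := by
      have : q * t + 1 = p := by have := hp.one_lt; omega
      have h5 : ((q * t + 1 : ℕ) : ℝ) = (p : ℝ) := by rw [this]
      push_cast at h5
      linarith
    have hpR : (0 : ℝ) < p := by exact_mod_cast hp.pos
    have hGR : (0 : ℝ) ≤ (Nat.card G : ℝ) := by positivity
    have htR : (0 : ℝ) ≤ (t : ℝ) := by positivity
    -- |G|(t²q + t) − 2p|G|t + |S|p² ≤ |G|t(tq + 1 − 2p + p) = 0
    have h6 : (Sf.card : ℝ) * ((p : ℝ) * p) ≤ (Nat.card G : ℝ) * t * p := by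
      have := mul_le_mul_of_nonneg_right hcast hpR.le
      linarith
    have h7 : (Nat.card G : ℝ) * ((t : ℝ) * t * q + t) = (Nat.card G : ℝ) * t * p := by
      have : (t : ℝ) * t * q + t = t * ((q : ℝ) * t + 1) := by ring
      rw [this, hqtR]; ring
    rw [h7]
    linarith
  have hzero : ∀ g ∈ Sf, Complex.normSq (Φ g - (p : ℂ)) = 0 := by
    have hnn : ∀ g ∈ Sf, 0 ≤ Complex.normSq (Φ g - (p : ℂ)) := fun g _ => Complex.normSq_nonneg _
    have htot : ∑ g ∈ Sf, Complex.normSq (Φ g - (p : ℂ)) = 0 :=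
      le_antisymm hkey (Finset.sum_nonneg hnn)
    exact (Finset.sum_eq_zero_iff_of_nonneg hnn).mp htot
  intro g hg
  have hgS : g ∈ Sf := Finset.mem_filter.mpr ⟨Finset.mem_univ _, hg⟩
  have h2 : Φ g = (p : ℂ) := by
    have := Complex.normSq_eq_zero.mp (hzero g hgS)
    exact sub_eq_zero.mp this
  rw [hΦsing g hg] at h2
  -- t q - ε S = p, t q = p - 1
  have hqtC : (t : ℂ) * (q : ℂ) = (p : ℂ) - 1 := by
    have : q * t + 1 = p := by have := hp.one_lt; omega
    have h5 : ((q * t + 1 : ℕ) : ℂ) = (p : ℂ) := by rw [this]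
    push_cast at h5
    rw [← h5]; ring
  rw [hqtC] at h2
  have h3 : (ε : ℂ) * ∑ θ ∈ Yf, (θ : G → ℂ) g = -1 := by
    linear_combination (-1 : ℂ) * h2
  calc ∑ θ ∈ Yf, (θ : G → ℂ) g = ((ε : ℂ) * (ε : ℂ)) * ∑ θ ∈ Yf, (θ : G → ℂ) g := by
        rw [hε2, one_mul]
    _ = (ε : ℂ) * ((ε : ℂ) * ∑ θ ∈ Yf, (θ : G → ℂ) g) := by ring
    _ = -(ε : ℂ) := by rw [h3]; ring

end Cfsg.Agent.Helper17.BRRed
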