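import Mathlib
import Cfsg.Agent.Lib.Helper17.BRRedMain
import Cfsg.Agent.Lib.Helper17.BRRedY2
import Cfsg.Agent.Lib.Helper17.BRRed2Num

/-!
# Brauer-Reynolds reduction under (NC)   (helper17; piece P-E = R2 of plans/S4700_helper6_plan.md)

`G` perfect, `P` a Sylow `p`-subgroup of order `p`, no nontrivial normal `p'`-subgroup, and
(NC): every divisor `d ≡ 1 (mod p)` of `(p-1)(1+np)` is `1` or `1+np`.  Then `C_G(P) = P`.
-/

set_option autoImplicit false
set_option linter.style.haveILetI false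

namespace Cfsg.Agent.Helper17.BRRed

open Subgroup Cfsg

section Tools

variable {G : Type*} [Group G] [Fintype G] (p : ℕ) [hpF : Fact p.Prime]

/-- class size integrality: if `ψ z = ±1` then `ψ 1` divides the class size of `z`. -/
theorem degree_dvd_of_sign (ψ : IrrCharacter G) (z : G) (m : ℕ)
    (hzidx : (centralizer ({z} : Set G)).index = m) (σ : ℤ) (hσ : σ = 1 ∨ σ = -1)
    (hψz : (ψ : G → ℂ) z = (σ : ℂ)) : charDegree (ψ : G → ℂ) ∣ m := by
  set d := charDegree (ψ : G → ℂ) with hd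
  have hd1 : (ψ : G → ℂ) 1 = (d : ℂ) := Cfsg.Agent.Helper24.irr_one_eq_charDegree ψ.2
  have hdpos : 0 < d := Cfsg.Agent.Helper24.charDegree_pos ψ.2
  have hint := Cfsg.Agent.Helper24.isIntegral_centralChar ψ.2 z
  rw [centralChar, hzidx, hψz, hd1] at hint
  have hint2 : IsIntegral ℤ (((m : ℕ) : ℂ) / (d : ℂ)) := by
    rcases hσ with h | h
    · rw [h] at hint; simpa using hint
    · rw [h] at hint
      have := hint.neg
      convert this using 1
      push_cast; ring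
  exact dvd_of_isIntegral_div _ _ hdpos hint2

/-- the kernel trick: a character of degree `p - 1` which is `-1` on all `z^k y^k` (`p ∤ k`) cannot exist
when `C_G(P) ≠ P` and `O_{p'}(G) = 1`. -/
theorem kernel_false (P : Sylow p G) (hP : Nat.card P = p)
    (hcore : ∀ N : Subgroup G, N.Normal → (Nat.card N).Coprime p → N = ⊥)
    (v : ℕ) (hv2 : 2 ≤ v) (hpv : ¬ p ∣ v)
    (hCcard : Nat.card (centralizer ((P : Subgroup G) : Set G)) = p * v)
    (z : G) (hzP : z ∈ (P : Subgroup G)) (hzo : orderOf z = p)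
    (ψ : IrrCharacter G) (hdeg : (ψ : G → ℂ) 1 = ((p - 1 : ℕ) : ℂ))
    (hvals : ∀ y : G, y ∈ centralizer ((P : Subgroup G) : Set G) → ¬ p ∣ orderOf y →
      ∀ k : ℕ, ¬ p ∣ k → (ψ : G → ℂ) (z ^ k * y ^ k) = -1) : False := by
  have hp : p.Prime := hpF.out
  obtain ⟨K, hKn, hK⟩ := exists_kernel (Cfsg.Agent.Helper24.isCharacter_of_isIrrCharacter ψ.2)
  have hone_reg : ¬ p ∣ orderOf (1 : G) := by
    rw [orderOf_one]; exact hp.one_lt.ne' ∘ Nat.dvd_one.mp
  have hψz : (ψ : G → ℂ) z = -1 := by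
    have := hvals 1 (Subgroup.one_mem _) hone_reg 1 (fun h => hp.one_lt.ne' (Nat.dvd_one.mp h))
    simpa using this
  have hzK : z ∉ K := by
    rw [hK, hψz, hdeg]
    intro hc
    have h3 : ((-1 : ℤ) : ℂ) = (((p - 1 : ℕ) : ℤ) : ℂ) := by exact_mod_cast hc
    have h4 : (-1 : ℤ) = ((p - 1 : ℕ) : ℤ) := by exact_mod_cast h3
    omega
  have hcop := coprime_card_of_normal_of_not_mem P hP K hzP hzK
  have hKbot := hcore K hKn hcop
  obtain ⟨y, hyC, hyreg, hy1⟩ := exists_pregular P hv2 hpv hCcard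
  have hcomm : Commute z y := (Subgroup.mem_centralizer_iff.mp hyC) z hzP
  have hyK : y ∈ K := by
    rw [hK]
    refine lemmaK (Cfsg.Agent.Helper24.isCharacter_of_isIrrCharacter ψ.2) p hp z y hzo hcomm hyreg
      (p - 1) (by have := hp.two_le; omega) hdeg (-1) ?_
    intro k hk
    exact hvals y hyC hyreg k hk
  rw [hKbot, Subgroup.mem_bot] at hyK
  exact hy1 hyK

end Tools

/-- The core contradiction under (NC): `C_G(P) ≠ P` is impossible. -/
theorem core_nc_false {G : Type*} [Group G] [Fintype G] (hperf : commutator G = ⊤) (p : ℕ)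
    [hpF : Fact p.Prime] (P : Sylow p G) (hP : Nat.card P = p)
    (hcore : ∀ N : Subgroup G, N.Normal → (Nat.card N).Coprime p → N = ⊥)
    (q v n t : ℕ)
    (hq : q = (centralizer ((P : Subgroup G) : Set G)).relIndex (normalizer ((P : Subgroup G) : Set G)))
    (hq2 : 2 ≤ q) (hqt : q * t = p - 1) (hn1 : 1 ≤ n) (hv2 : 2 ≤ v) (hpv : ¬ p ∣ v)
    (hCcard : Nat.card (centralizer ((P : Subgroup G) : Set G)) = p * v)
    (hNC : ∀ d : ℕ, d ∣ (p - 1) * (1 + n * p) → d % p = 1 → d = 1 ∨ d = 1 + n * p)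
    (z : G) (hzP : z ∈ (P : Subgroup G)) (hzo : orderOf z = p)
    (hzidx : (centralizer ({z} : Set G)).index = q * (1 + n * p)) : False := by
  classical
  have hp : p.Prime := hpF.out
  have hp3 : 3 ≤ p := by
    have : q ≤ p - 1 := Nat.le_of_dvd (by have := hp.two_le; omega) ⟨t, hqt.symm⟩
    omega
  have hodd : p ≠ 2 := by omega
  have ht0 : 0 < t := by
    rcases Nat.eq_zero_or_pos t with h | h
    · subst h; omega
    · exact h
  have htdiv : (p - 1) / q = t := by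
    rw [← hqt]; exact Nat.mul_div_cancel_left t (by omega)
  obtain ⟨M, hM⟩ := Cfsg.Agent.Helper24.Glaub.exists_isPModular hp
  haveI : M.IsPrime := hM.2.1.isPrime
  obtain ⟨X, Y, hB, hdisj, hXcard, hYcard, εX, ε, hX, hε, hYdeg, hYagree, hYsum⟩ :=
    Cfsg.Agent.S4441.result p M hM hodd P hP q hq.symm
  rw [htdiv] at hYcard
  have hfin : Finite (IrrCharacter G) := Cfsg.Agent.Helper24.irr_finite'
  set χ₀ := Cfsg.Agent.Helper24.principalChar G with hχ₀
  have hχ₀B : χ₀ ∈ principalBlock M G := Cfsg.Agent.Helper23.Blk.principalChar_mem_principalBlock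
  have hχ₀1 : ∀ g : G, (χ₀ : G → ℂ) g = 1 := fun _ => rfl
  have hz1 : z ≠ 1 := by
    intro h
    rw [h, orderOf_one] at hzo
    omega
  have hone_reg : ¬ p ∣ orderOf (1 : G) := by
    rw [orderOf_one]; exact hp.one_lt.ne' ∘ Nat.dvd_one.mp
  have hr2 : 2 ≤ 1 + n * p := by nlinarith
  -- finsets
  have hXfin : X.Finite := Set.toFinite X
  have hYfin : Y.Finite := Set.toFinite Y
  set Xf := hXfin.toFinset with hXf
  set Yf := hYfin.toFinset with hYf
  have hmemX : ∀ χ, χ ∈ Xf ↔ χ ∈ X := fun χ => hXfin.mem_toFinset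
  have hmemY : ∀ χ, χ ∈ Yf ↔ χ ∈ Y := fun χ => hYfin.mem_toFinset
  have hXfc : Xf.card = q := by
    rw [← Set.ncard_eq_toFinset_card X hXfin, ← Nat.card_coe_set_eq, hXcard]
  have hYfc : Yf.card = t := by
    rw [← Set.ncard_eq_toFinset_card Y hYfin, ← Nat.card_coe_set_eq, hYcard]
  have hdisjf : Disjoint Xf Yf := by
    rw [Finset.disjoint_left]
    intro χ h1 h2
    exact (Set.disjoint_left.mp hdisj) ((hmemX χ).mp h1) ((hmemY χ).mp h2)
  have hvalf : ∀ χ ∈ Xf, ∀ x : G, x ∈ (P : Subgroup G) → x ≠ 1 → ∀ y : G,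
      y ∈ centralizer ((P : Subgroup G) : Set G) → ¬ p ∣ orderOf y →
        (χ : G → ℂ) (x * y) = (εX χ : ℂ) := fun χ hχ => (hX χ ((hmemX χ).mp hχ)).2.2
  have hsumf : ∀ θ ∈ Yf, ∀ g : G, ¬ p ∣ orderOf g →
      (ε : ℂ) * (θ : G → ℂ) g = ∑ χ ∈ Xf, (εX χ : ℂ) * (χ : G → ℂ) g := by
    intro θ hθ g hg
    rw [hYsum θ ((hmemY θ).mp hθ) g hg, finsum_mem_eq_finite_toFinset_sum _ hXfin]
  -- values of X-type characters on z^k y^k
  have hXvals : ∀ χ ∈ Xf, ∀ y : G, y ∈ centralizer ((P : Subgroup G) : Set G) → ¬ p ∣ orderOf y →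
      ∀ k : ℕ, ¬ p ∣ k → (χ : G → ℂ) (z ^ k * y ^ k) = (εX χ : ℂ) := by
    intro χ hχ y hyC hyreg k hk
    have hzk : z ^ k ≠ 1 := by
      intro hc
      have := orderOf_dvd_of_pow_eq_one hc
      rw [hzo] at this
      exact hk this
    have hyk : ¬ p ∣ orderOf (y ^ k) := fun hc => hyreg (hc.trans (orderOf_pow_dvd k))
    exact hvalf χ hχ (z ^ k) (Subgroup.pow_mem _ hzP k) hzk (y ^ k) (Subgroup.pow_mem _ hyC k) hyk
  have hXz : ∀ χ ∈ Xf, (χ : G → ℂ) z = (εX χ : ℂ) := by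
    intro χ hχ
    have := hvalf χ hχ z hzP hz1 1 (Subgroup.one_mem _) hone_reg
    rwa [mul_one] at this
  -- degrees of nontrivial X-type characters
  have hXdeg : ∀ χ ∈ Xf, χ ≠ χ₀ →
      (εX χ = 1 ∧ charDegree (χ : G → ℂ) = 1 + n * p) ∨
      (εX χ = -1 ∧ t = 1 ∧ charDegree (χ : G → ℂ) = (p - 1) * (1 + n * p)) := by
    intro χ hχ hne
    obtain ⟨hεχ, hmod, -⟩ := hX χ ((hmemX χ).mp hχ)
    set d := charDegree (χ : G → ℂ) with hd
    have hd1 : (χ : G → ℂ) 1 = (d : ℂ) := Cfsg.Agent.Helper24.irr_one_eq_charDegree χ.2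
    have hdne1 : d ≠ 1 := by
      intro h
      rw [h] at hd1
      exact hne (eq_principal_of_degree_one hperf χ (by rw [hd1]; simp))
    have hdvd : d ∣ q * (1 + n * p) := degree_dvd_of_sign χ z _ hzidx (εX χ) hεχ (hXz χ hχ)
    rcases hεχ with h | h
    · left
      refine ⟨h, ?_⟩
      rw [h] at hmod
      have hdm : d % p = 1 := by
        have h1 : ((d : ℕ) : ℤ) ≡ ((1 : ℕ) : ℤ) [ZMOD (p : ℕ)] := by simpa using hmod
        have h2 := Int.natCast_modEq_iff.mp h1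
        rw [Nat.ModEq, Nat.mod_eq_of_lt (show 1 < p by omega)] at h2
        exact h2
      exact nc_plus p q t n d hqt hNC hdne1 hdm hdvd
    · right
      rw [h] at hmod
      have hdm : p ∣ d + 1 := by
        have h1 := Int.modEq_iff_dvd.mp hmod
        have h2 : (p : ℤ) ∣ (d : ℤ) + 1 := by
          have := dvd_neg.mpr h1
          rwa [show -(-1 - (d : ℤ)) = (d : ℤ) + 1 by ring] at this
        exact_mod_cast h2
      -- degree p - 1 is impossible
      have hnot : d ≠ p - 1 := by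
        intro hdp
        apply kernel_false p P hP hcore v hv2 hpv hCcard z hzP hzo χ (by rw [hd1, hdp])
        intro y hyC hyreg k hk
        rw [hXvals χ hχ y hyC hyreg k hk, h]; simp
      rcases Nat.lt_or_ge t 2 with ht | ht
      · have ht1 : t = 1 := by omega
        subst ht1
        rw [mul_one] at hqt
        rw [hqt] at hdvd
        rcases nc_minus_one p n d (by omega) hNC hdm hdvd with h5 | h5
        · exact absurd h5 hnot
        · exact ⟨h, rfl, h5⟩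
      · exact absurd (nc_minus p q t n d (by omega) hqt ht hNC hdm hdvd) hnot
  -- the common degree equation, over the integers
  set r := 1 + n * p with hr
  have hqp : q ≤ p - 1 := Nat.le_of_dvd (by have := hp.two_le; omega) ⟨t, hqt.symm⟩
  have hχ₀deg : charDegree (χ₀ : G → ℂ) = 1 := by
    have h1 := Cfsg.Agent.Helper24.irr_one_eq_charDegree χ₀.2
    rw [hχ₀1] at h1
    have h3 : ((charDegree (χ₀ : G → ℂ) : ℕ) : ℂ) = ((1 : ℕ) : ℂ) := by rw [← h1]; simp
    exact_mod_cast h3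
  have hdegeq : ∀ θ ∈ Yf, ε * (charDegree (θ : G → ℂ) : ℤ)
      = ∑ χ ∈ Xf, εX χ * (charDegree (χ : G → ℂ) : ℤ) := by
    intro θ hθ
    have h1 := hsumf θ hθ 1 hone_reg
    rw [Cfsg.Agent.Helper24.irr_one_eq_charDegree θ.2] at h1
    have h2 : ∑ χ ∈ Xf, (εX χ : ℂ) * (χ : G → ℂ) 1
        = ∑ χ ∈ Xf, (εX χ : ℂ) * ((charDegree (χ : G → ℂ) : ℕ) : ℂ) :=
      Finset.sum_congr rfl (fun χ _ => by rw [Cfsg.Agent.Helper24.irr_one_eq_charDegree χ.2])
    rw [h2] at h1
    have h3 : ((ε * (charDegree (θ : G → ℂ) : ℤ) : ℤ) : ℂ)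
        = ((∑ χ ∈ Xf, εX χ * (charDegree (χ : G → ℂ) : ℤ) : ℤ) : ℂ) := by
      push_cast
      exact h1
    exact_mod_cast h3
  have hterm : ∀ χ ∈ Xf, χ ≠ χ₀ → (r : ℤ) ∣ εX χ * (charDegree (χ : G → ℂ) : ℤ) := by
    intro χ hχ hne
    rcases hXdeg χ hχ hne with ⟨-, h⟩ | ⟨-, -, h⟩
    · rw [h]; exact Dvd.dvd.mul_left (dvd_refl _) _
    · rw [h]; exact Dvd.dvd.mul_left ⟨((p - 1 : ℕ) : ℤ), by push_cast; ring⟩ _
  have hYne : Yf.Nonempty := by rw [← Finset.card_pos, hYfc]; exact ht0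
  -- the principal character is of X-type
  have hχ₀X : χ₀ ∈ Xf := by
    by_contra hnot
    have hχ₀Y : χ₀ ∈ Yf := by
      rw [hmemY]
      rw [hB] at hχ₀B
      rcases hχ₀B with h | h
      · exact absurd ((hmemX χ₀).mpr h) hnot
      · exact h
    have h1 := hdegeq χ₀ hχ₀Y
    rw [hχ₀deg] at h1
    have h4 : (r : ℤ) ∣ ε * ((1 : ℕ) : ℤ) := by
      rw [h1]
      apply Finset.dvd_sum
      intro χ hχ
      exact hterm χ hχ (fun h => hnot (h ▸ hχ))
    have h5 : (r : ℤ) ∣ 1 := by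
      rcases hε with h | h <;> rw [h] at h4 <;> simpa using h4
    have h6 : r ∣ 1 := by exact_mod_cast h5
    have := Nat.le_of_dvd one_pos h6
    omega
  have hε₀ : εX χ₀ = 1 := by
    have h2 := hXz χ₀ hχ₀X
    rw [hχ₀1] at h2
    exact_mod_cast h2.symm
  obtain ⟨θ, hθY⟩ := hYne
  set x₀ := charDegree (θ : G → ℂ) with hx₀
  have hx0pos : 0 < x₀ := Cfsg.Agent.Helper24.charDegree_pos θ.2
  have hmodr : (r : ℤ) ∣ ε * (x₀ : ℤ) - 1 := by
    rw [hdegeq θ hθY, ← Finset.add_sum_erase Xf _ hχ₀X, hε₀, hχ₀deg]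
    have h3 : (1 : ℤ) * ((1 : ℕ) : ℤ) + ∑ χ ∈ Xf.erase χ₀, εX χ * (charDegree (χ : G → ℂ) : ℤ) - 1
        = ∑ χ ∈ Xf.erase χ₀, εX χ * (charDegree (χ : G → ℂ) : ℤ) := by
      push_cast; ring
    rw [h3]
    apply Finset.dvd_sum
    intro χ hχ
    rw [Finset.mem_erase] at hχ
    exact hterm χ hχ.2 hχ.1
  have hYdegs : ∀ θ' ∈ Yf, charDegree (θ' : G → ℂ) = x₀ := by
    intro θ' hθ'
    have h1 := hdegeq θ' hθ'
    rw [← hdegeq θ hθY] at h1
    rcases hε with h | h <;> rw [h] at h1 <;> omega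
  -- Lemma Y and integrality
  have hLY := sum_exceptional_singular p P hP q t hq hqt Xf Yf hdisjf hXfc hYfc εX ε
    (fun χ hχ => (hX χ ((hmemX χ).mp hχ)).1) hε hvalf hsumf hχ₀X z (by rw [hzo])
  have hint : IsIntegral ℤ (∑ θ' ∈ Yf, centralChar (θ' : G → ℂ) z) :=
    IsIntegral.sum _ (fun θ' _ => Cfsg.Agent.Helper24.isIntegral_centralChar θ'.2 z)
  have hsumeq : ∑ θ' ∈ Yf, centralChar (θ' : G → ℂ) z
      = ((q * r : ℕ) : ℂ) * (-(ε : ℂ)) / (x₀ : ℂ) := by
    have h1 : ∀ θ' ∈ Yf, centralChar (θ' : G → ℂ) z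
        = ((q * r : ℕ) : ℂ) * (θ' : G → ℂ) z / (x₀ : ℂ) := by
      intro θ' hθ'
      rw [centralChar, hzidx, Cfsg.Agent.Helper24.irr_one_eq_charDegree θ'.2, hYdegs θ' hθ']
    rw [Finset.sum_congr rfl h1, ← Finset.sum_div, ← Finset.mul_sum, hLY]
  rw [hsumeq] at hint
  have hint2 : IsIntegral ℤ (((q * r : ℕ) : ℂ) / (x₀ : ℂ)) := by
    rcases hε with h | h
    · rw [h] at hint
      have := hint.neg
      convert this using 1
      push_cast; ring
    · rw [h] at hint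
      convert hint using 1
      push_cast; ring
  have hxdvd : x₀ ∣ q * r := dvd_of_isIntegral_div _ _ hx0pos hint2
  have hcop : Nat.Coprime x₀ r := by
    obtain ⟨k, hk⟩ := hmodr
    have h1 : IsCoprime (x₀ : ℤ) (r : ℤ) := ⟨ε, -k, by linarith⟩
    exact Nat.isCoprime_iff_coprime.mp h1
  have hxq : x₀ ∣ q := hcop.dvd_of_dvd_mul_right hxdvd
  have hxle : x₀ ≤ q := Nat.le_of_dvd (by omega) hxq
  have hmodp := (hYdeg θ ((hmemY θ).mp hθY)).dvd
  rcases hε with h | h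
  · -- ε = 1: x₀ = q, then r ∣ q - 1
    rw [h] at hmodp hmodr
    have h1 : (1 : ℤ) * (q : ℤ) - (x₀ : ℤ) = 0 := by
      apply Int.eq_zero_of_abs_lt_dvd hmodp
      rw [abs_lt]
      constructor <;> omega
    have h2 : x₀ = q := by omega
    rw [h2] at hmodr
    have h3 : (r : ℤ) ∣ ((q - 1 : ℕ) : ℤ) := by
      have h4 : ((q - 1 : ℕ) : ℤ) = 1 * (q : ℤ) - 1 := by
        rw [Nat.cast_sub (by omega)]; push_cast; ring
      rw [h4]; exact hmodr
    have h5 : r ∣ q - 1 := by exact_mod_cast h3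
    have h6 := Nat.le_of_dvd (by omega) h5
    have h7 : 1 * p ≤ n * p := Nat.mul_le_mul_right p hn1
    omega
  · -- ε = -1: x₀ + q = p, x₀ ∣ p, x₀ = 1, θ principal
    rw [h] at hmodp
    have h1 : (p : ℤ) ∣ ((q + x₀ : ℕ) : ℤ) := by
      have h2 : (-1 : ℤ) * (q : ℤ) - (x₀ : ℤ) = -(((q + x₀ : ℕ) : ℤ)) := by push_cast; ring
      rw [h2, dvd_neg] at hmodp
      exact hmodp
    have h3 : p ∣ q + x₀ := by exact_mod_cast h1
    obtain ⟨k, hk⟩ := h3
    have hk1 : k = 1 := by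
      rcases Nat.lt_or_ge k 2 with h4 | h4
      · interval_cases k
        · omega
        · rfl
      · exfalso
        have : p * 2 ≤ p * k := Nat.mul_le_mul_left p h4
        omega
    rw [hk1, mul_one] at hk
    have h5 : x₀ ∣ p := by
      rw [← hk]; exact Dvd.dvd.add hxq (dvd_refl x₀)
    rcases (Nat.dvd_prime hp).mp h5 with h6 | h6
    · have hθ1 : (θ : G → ℂ) 1 = 1 := by
        rw [Cfsg.Agent.Helper24.irr_one_eq_charDegree θ.2, ← hx₀, h6]; simp
      have h7 : θ = χ₀ := eq_principal_of_degree_one hperf θ hθ1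
      rw [h7] at hθY
      exact (Finset.disjoint_left.mp hdisjf) hχ₀X hθY
    · omega

/-- **Brauer-Reynolds reduction under (NC).**  A perfect group `G` with a Sylow `p`-subgroup of order `p`,
no nontrivial normal `p'`-subgroup, `1 + n p` Sylow `p`-subgroups, and such that every divisor
`d ≡ 1 (mod p)` of `(p - 1)(1 + n p)` is `1` or `1 + n p`, has a self-centralizing element of order `p`. -/
theorem main_nc {G : Type*} [Group G] [Finite G] (hperf : commutator G = ⊤) (p : ℕ) [hpF : Fact p.Prime]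
    (P : Sylow p G) (hP : Nat.card P = p)
    (hcore : ∀ N : Subgroup G, N.Normal → (Nat.card N).Coprime p → N = ⊥)
    (n : ℕ) (hn : Nat.card (Sylow p G) = 1 + n * p)
    (hNC : ∀ d : ℕ, d ∣ (p - 1) * (1 + n * p) → d % p = 1 → d = 1 ∨ d = 1 + n * p) :
    ∃ z : G, orderOf z = p ∧ Subgroup.centralizer ({z} : Set G) = Subgroup.zpowers z := by
  have hp : p.Prime := hpF.out
  obtain ⟨q, v, n', hq, hq2, hqdvd, hn1, hv0, hpv, hr, hCcard, hG, hidx⟩ := numerics hperf P hP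
  have hnn : n' = n := by
    rw [hr] at hn
    have h1 : n' * p = n * p := by omega
    exact Nat.eq_of_mul_eq_mul_right hp.pos h1
  subst hnn
  obtain ⟨z, hzP, hzo, hzP', hzC⟩ := exists_generator P hP
  refine ⟨z, hzo, ?_⟩
  rw [hzC, hzP']
  symm
  apply Subgroup.eq_of_le_of_card_ge (Cfsg.Agent.Helper5.TL.gt_le_centralizer p P hP)
  rw [hCcard, hP]
  suffices hv1 : v = 1 by rw [hv1]; omega
  by_contra hv1
  exfalso
  have hv2 : 2 ≤ v := by omega
  obtain ⟨t, ht⟩ := hqdvd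
  haveI : Fintype G := Fintype.ofFinite G
  exact core_nc_false hperf p P hP hcore q v n' t hq hq2 ht.symm hn1 hv2 hpv hCcard hNC z hzP hzo
    (by rw [hzC]; exact hidx)

end Cfsg.Agent.Helper17.BRRed
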