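import Mathlib
import Cfsg.Agent.Lib.Helper17.GLkDefs

/-!
# S2478 piece GLK-KEYBIJ: equal type tuples give a bijection of the index types
-/

open Polynomial

namespace Cfsg.Agent.Helper17.GLk

universe u

section
variable {F : Type u} [Field F]

/-- the multiset of normalized primes with exponent `j` -/
noncomputable def keybijMs {ι : Type u} [Fintype ι] (p : ι → F[X]) (e : ι → ℕ) (j : ℕ) :
    Multiset F[X] := by
  classical exact (Finset.univ.filter (fun i => e i = j)).val.map (fun i => normalize (p i))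

theorem keybijMs_prod {ι : Type u} [Fintype ι] (p : ι → F[X]) (e : ι → ℕ) (j : ℕ) :
    (keybijMs p e j).prod = tupleOfDecomp p e j := by
  classical
  unfold keybijMs tupleOfDecomp
  rw [Finset.prod_eq_multiset_prod]

theorem keybijMs_eq {ι ι' : Type u} [Fintype ι] [Fintype ι']
    {p : ι → F[X]} {e : ι → ℕ} {p' : ι' → F[X]} {e' : ι' → ℕ}
    (hp : ∀ i, Irreducible (p i)) (hp' : ∀ i, Irreducible (p' i))
    (hf : ∀ j, tupleOfDecomp p e j = tupleOfDecomp p' e' j) (j : ℕ) :
    keybijMs p e j = keybijMs p' e' j := by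
  classical
  have h1 : ∀ x ∈ keybijMs p e j, Irreducible x ∧ normalize x = x := by
    intro x hx
    unfold keybijMs at hx
    obtain ⟨i, _, rfl⟩ := Multiset.mem_map.mp hx
    exact ⟨(normalize_associated (p i)).irreducible_iff.mpr (hp i), normalize_idem _⟩
  have h2 : ∀ x ∈ keybijMs p' e' j, Irreducible x ∧ normalize x = x := by
    intro x hx
    unfold keybijMs at hx
    obtain ⟨i, _, rfl⟩ := Multiset.mem_map.mp hx
    exact ⟨(normalize_associated (p' i)).irreducible_iff.mpr (hp' i), normalize_idem _⟩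
  have h3 : (keybijMs p e j).prod = (keybijMs p' e' j).prod := by
    rw [keybijMs_prod, keybijMs_prod, hf j]
  have h4 := UniqueFactorizationMonoid.factors_unique (fun x hx => (h1 x hx).1)
    (fun x hx => (h2 x hx).1) (h3 ▸ Associated.refl _)
  rw [← Multiset.rel_eq]
  refine Multiset.Rel.mono h4 ?_
  intro a ha b hb hab
  exact hab.eq_of_normalized (h1 a ha).2 (h2 b hb).2

/-- PIECE GLK-KEYBIJ -/
theorem key_bij {ι ι' : Type u} [Fintype ι] [Fintype ι']
    {p : ι → F[X]} {e : ι → ℕ} {p' : ι' → F[X]} {e' : ι' → ℕ}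
    (hp : ∀ i, Irreducible (p i)) (hp' : ∀ i, Irreducible (p' i))
    (hf : ∀ j, tupleOfDecomp p e j = tupleOfDecomp p' e' j) :
    ∃ σ : ι ≃ ι', ∀ i, e' (σ i) = e i ∧ Associated (p i) (p' (σ i)) := by
  classical
  let κ : ι → F[X] × ℕ := fun i => (normalize (p i), e i)
  let κ' : ι' → F[X] × ℕ := fun i => (normalize (p' i), e' i)
  have hcard : ∀ k : F[X] × ℕ, Fintype.card {i // κ i = k} = Fintype.card {i // κ' i = k} := by
    rintro ⟨π, j⟩
    have hc : ∀ {ι : Type u} [Fintype ι] (p : ι → F[X]) (e : ι → ℕ),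
        Fintype.card {i // ((normalize (p i), e i) : F[X] × ℕ) = (π, j)}
          = Multiset.count π (keybijMs p e j) := by
      intro ι _ p e
      unfold keybijMs
      rw [Multiset.count_map, Fintype.card_subtype]
      rw [← Finset.filter_val, Finset.card_val, Finset.filter_filter]
      congr 1
      ext i
      simp only [Finset.mem_filter, Finset.mem_univ, true_and, Prod.mk.injEq]
      constructor
      · rintro ⟨h1, h2⟩; exact ⟨h2, h1.symm⟩
      · rintro ⟨h1, h2⟩; exact ⟨h2.symm, h1⟩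
    have e1 := hc p e
    have e2 := hc p' e'
    rw [keybijMs_eq hp hp' hf j] at e1
    exact e1.trans e2.symm
  let σ : ι ≃ ι' := (Equiv.sigmaFiberEquiv κ).symm.trans
    ((Equiv.sigmaCongrRight fun k => Fintype.equivOfCardEq (hcard k)).trans
      (Equiv.sigmaFiberEquiv κ'))
  have hσ : ∀ i, κ' (σ i) = κ i := by
    intro i
    exact (Fintype.equivOfCardEq (hcard (κ i)) ⟨i, rfl⟩).2
  refine ⟨σ, fun i => ?_⟩
  have h := hσ i
  simp only [κ, κ', Prod.mk.injEq] at h
  refine ⟨h.2, ?_⟩
  exact normalize_eq_normalize_iff_associated.mp h.1.symm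

end

end Cfsg.Agent.Helper17.GLk
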