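import Mathlib
import Cfsg.Agent.Lib.Helper17.GLkDefs
import Cfsg.Agent.Lib.Helper17.GLkKEYBIJ
import Cfsg.Agent.Lib.Helper1.GLkTEXT
import Cfsg.Agent.Lib.Helper1.GLkTUP
import Cfsg.Agent.Lib.Helper15.GLkCONJ
import Cfsg.Agent.Lib.Helper15.GLkDIM
import Cfsg.Agent.Lib.Helper16.GLkNOTX
import Cfsg.Agent.Lib.Helper23.GLkMON
import Cfsg.Agent.Lib.Helper7.GLkEX
import Cfsg.Agent.Lib.Helper25.GLkISO
import Cfsg.Agent.Lib.Helper24.GLkLOWER
import Cfsg.Agent.Lib.Helper19.GLKTMEM

/-!
# S2478 assembly: `q^n - q^(n-1) ≤ k(GL_n(q)) ≤ q^n`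

Pieces: GLK-MON (helper23), GLK-TUP, GLK-TEXT (helper1), GLK-CONJ, GLK-DIM (helper15),
GLK-NOTX (helper16), GLK-EX (helper7), GLK-ISO (helper25), GLK-LOWER (helper24),
GLK-TMEM (helper19), GLK-KEYBIJ and the numerics `D_le` (helper17).
-/

open Polynomial

namespace Cfsg.Agent.Helper17.GLk

universe u

/-! ## Assembly (helper17) -/

section assembly
variable {F : Type u} [Field F]

theorem Tup_finite_ncard_le [Fintype F] (k J m : ℕ) (hJ : 1 ≤ J) :
    (Tup F k J m).Finite ∧ (Tup F k J m).ncard ≤ D (Fintype.card F) k J m :=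
  Tup_finite_ncard_le_of Mon_finite_ncard k J m hJ

theorem decomp_iso {V : Type u} [AddCommGroup V] [Module F V]
    (a b : Module.End F V) {ι ι' : Type u} [Fintype ι] [Fintype ι']
    {p : ι → F[X]} {e : ι → ℕ} {p' : ι' → F[X]} {e' : ι' → ℕ}
    (h : IsDecomp a ι p e) (h' : IsDecomp b ι' p' e')
    (hf : ∀ j, tupleOfDecomp p e j = tupleOfDecomp p' e' j) :
    Nonempty (Module.AEval' a ≃ₗ[F[X]] Module.AEval' b) := by
  obtain ⟨σ, hσ⟩ := key_bij h.1 h'.1 hf
  exact decomp_iso_of_bij a b h h' σ hσ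

/-- packaged decomposition data -/
structure DecompData {V : Type u} [AddCommGroup V] [Module F V] (a : Module.End F V) where
  ι : Type u
  inst : Fintype ι
  p : ι → F[X]
  e : ι → ℕ
  h : @IsDecomp F _ V _ _ a ι inst p e

noncomputable def decompData {V : Type u} [AddCommGroup V] [Module F V] [FiniteDimensional F V]
    (a : Module.End F V) : DecompData a :=
  Classical.choice (by
    obtain ⟨ι, i, p, e, h⟩ := exists_decomp a
    exact ⟨⟨ι, i, p, e, h⟩⟩)

/-- the endomorphism of `F^n` attached to an invertible matrix -/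
noncomputable abbrev endOf {n : ℕ} (A : Matrix.GeneralLinearGroup (Fin n) F) :
    Module.End F (Fin n → F) := Matrix.toLin' (A : Matrix (Fin n) (Fin n) F)

theorem endOf_injective {n : ℕ} (A : Matrix.GeneralLinearGroup (Fin n) F) :
    Function.Injective (endOf A) := by
  intro v w h
  have h1 : Matrix.toLin' (A : Matrix (Fin n) (Fin n) F) v
      = Matrix.toLin' (A : Matrix (Fin n) (Fin n) F) w := h
  have h2 := congrArg (Matrix.toLin' ((A⁻¹ : Matrix.GeneralLinearGroup (Fin n) F) :
    Matrix (Fin n) (Fin n) F)) h1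
  simpa [← LinearMap.comp_apply, ← Matrix.toLin'_mul, ← Units.val_mul] using h2

/-- the type tuple of an invertible matrix (depends on a choice of decomposition) -/
noncomputable def typeTuple {n : ℕ} (A : Matrix.GeneralLinearGroup (Fin n) F) : Fin n → F[X] :=
  fun j => @tupleOfDecomp F _ (decompData (endOf A)).ι (decompData (endOf A)).inst
    (decompData (endOf A)).p (decompData (endOf A)).e ((j : ℕ) + 1)

theorem typeTuple_mem {n : ℕ} (A : Matrix.GeneralLinearGroup (Fin n) F) :
    typeTuple A ∈ Tup F n 1 n := by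
  let d := decompData (endOf A)
  let _ := d.inst
  have hdim : ∑ i, d.e i * (d.p i).natDegree = n := by
    rw [decomp_dim (endOf A) d.h]; simp
  exact tuple_mem n d.h.1 d.h.2.1 (fun i => decomp_coeff_zero (endOf A) (endOf_injective A) d.h i)
    hdim

theorem isConj_of_typeTuple_eq {n : ℕ} (A B : Matrix.GeneralLinearGroup (Fin n) F)
    (h : typeTuple A = typeTuple B) : IsConj A B := by
  let d := decompData (endOf A)
  let d' := decompData (endOf B)
  let _ := d.inst
  let _ := d'.inst
  have hdim : ∑ i, d.e i * (d.p i).natDegree = n := by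
    rw [decomp_dim (endOf A) d.h]; simp
  have hdim' : ∑ i, d'.e i * (d'.p i).natDegree = n := by
    rw [decomp_dim (endOf B) d'.h]; simp
  have hall := tuple_ext n d.h.1 d.h.2.1 hdim d'.h.1 d'.h.2.1 hdim' h
  exact isConj_of_equiv A B (decomp_iso (endOf A) (endOf B) d.h d'.h hall)

theorem upper_bound [Fintype F] (n : ℕ) (hn : 1 ≤ n) :
    Nat.card (ConjClasses (Matrix.GeneralLinearGroup (Fin n) F)) ≤ Fintype.card F ^ n := by
  classical
  obtain ⟨hfin, hcard⟩ := Tup_finite_ncard_le (F := F) n 1 n le_rfl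
  have hq : 1 ≤ Fintype.card F := Fintype.card_pos
  refine le_trans ?_ (le_trans hcard (D_le _ n hq hn))
  let g : ConjClasses (Matrix.GeneralLinearGroup (Fin n) F) → (Tup F n 1 n) :=
    fun c => ⟨typeTuple (Quotient.out c), typeTuple_mem _⟩
  have hg : Function.Injective g := by
    intro c c' hcc
    have h1 : typeTuple (Quotient.out c) = typeTuple (Quotient.out c') := congrArg Subtype.val hcc
    have h2 := isConj_of_typeTuple_eq _ _ h1
    have h3 : ConjClasses.mk (Quotient.out c) = ConjClasses.mk (Quotient.out c') :=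
      ConjClasses.mk_eq_mk_iff_isConj.mpr h2
    have e1 : ConjClasses.mk (Quotient.out c) = c := Quotient.out_eq c
    have e2 : ConjClasses.mk (Quotient.out c') = c' := Quotient.out_eq c'
    rw [← e1, ← e2, h3]
  have : Finite (Tup F n 1 n) := hfin.to_subtype
  have := Nat.card_le_card_of_injective g hg
  rwa [Nat.card_coe_set_eq] at this

theorem main [Fintype F] (n : ℕ) (hn : 1 ≤ n) :
    Fintype.card F ^ n - Fintype.card F ^ (n - 1)
        ≤ Nat.card (ConjClasses (Matrix.GeneralLinearGroup (Fin n) F)) ∧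
      Nat.card (ConjClasses (Matrix.GeneralLinearGroup (Fin n) F)) ≤ Fintype.card F ^ n :=
  ⟨lower_bound n hn, upper_bound n hn⟩

end assembly

end Cfsg.Agent.Helper17.GLk
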