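import Mathlib
import Cfsg.Agent.Lib.Helper17.GLkAsm

/-!
# Definitions for S2479 (class number of `SL_n(q)`)
-/

open Polynomial

namespace Cfsg.Agent.Helper17.SLk

open Cfsg.Agent.Helper17.GLk

universe u

variable {F : Type u} [Field F]

/-- `normalize p` with the classical decidability instance (the one used by `tupleOfDecomp`). -/
noncomputable def nrm (p : F[X]) : F[X] := by classical exact normalize p

theorem nrm_eq (p : F[X]) : nrm p = p * C (p.leadingCoeff⁻¹) := by
  classical
  unfold nrm
  rw [normalize_apply, Polynomial.coe_normUnit]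
  by_cases hp : p = 0
  · simp [hp]
  · congr 2
    simp [hp]

theorem tupleOfDecomp_eq {ι : Type u} [Fintype ι] [DecidableEq ι] (p : ι → F[X]) (e : ι → ℕ)
    (j : ℕ) : tupleOfDecomp p e j = ∏ i ∈ Finset.univ.filter (fun i => e i = j), nrm (p i) := by
  classical
  unfold tupleOfDecomp nrm
  congr 1

/-- signed constant term `(-1)^deg f * f(0)` (the determinant of multiplication by `X` on
`F[X]/(f)` for monic `f`). -/
def uconst (f : F[X]) : F := (-1) ^ f.natDegree * f.coeff 0

/-- the determinant attached to a type tuple: `∏_j uconst (f_j) ^ j` (`j` = block size). -/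
def detT {n : ℕ} (f : Fin n → F[X]) : F := ∏ j : Fin n, uconst (f j) ^ ((j : ℕ) + 1)

/-- gcd of the block sizes that occur in the tuple. -/
noncomputable def gam {n : ℕ} (f : Fin n → F[X]) : ℕ := by
  classical exact (Finset.univ.filter (fun j : Fin n => f j ≠ 1)).gcd (fun j => (j : ℕ) + 1)

/-- scaling the constant coefficient of a nonconstant polynomial by `c` (identity on constants). -/
noncomputable def sc (c : F) (f : F[X]) : F[X] :=
  if f.natDegree = 0 then f else f + C ((c - 1) * f.coeff 0)

/-- the action of `(Fˣ)^n` on tuples by scaling constant coefficients. -/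
noncomputable def scT {n : ℕ} (l : Fin n → Fˣ) (f : Fin n → F[X]) : Fin n → F[X] :=
  fun j => sc (l j : F) (f j)

/-- the character `χ_f(l) = ∏_{j ∈ supp f} l_j ^ (j+1)`. -/
noncomputable def chiT {n : ℕ} (f : Fin n → F[X]) (l : Fin n → Fˣ) : Fˣ := by
  classical exact ∏ j ∈ Finset.univ.filter (fun j : Fin n => f j ≠ 1), l j ^ ((j : ℕ) + 1)

/-- multiplication by (the class of) `r` on `F[X] ⧸ (g)`, as an `F`-linear map. -/
noncomputable def mulQ (g r : F[X]) :
    (F[X] ⧸ Ideal.span {g}) →ₗ[F] (F[X] ⧸ Ideal.span {g}) :=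
  LinearMap.mulLeft F (Ideal.Quotient.mk (Ideal.span {g}) r)

/-- the numeric upper bound for `(q-1) * k(SL_n(q))`. -/
def KK (q n : ℕ) : ℕ :=
  ∑ d ∈ (q - 1).divisors, ∑ d' ∈ (q - 1).divisors,
    if Nat.lcm d d' ∣ n then
      Nat.totient d * Nat.totient d' * D q (n / Nat.lcm d d') 1 (n / Nat.lcm d d')
    else 0

end Cfsg.Agent.Helper17.SLk
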