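import Mathlib
import Cfsg.Agent.Lib.Helper10.TMDefs

/-!
# S2930, piece EXN (helper17): a transitive 3-group of degree at least 10 has a proper
normal subgroup with an orbit of size at least 5 which is not everything.
-/

set_option autoImplicit false

namespace Cfsg.Agent.Helper10.TM

open Equiv Equiv.Perm Cfsg.Agent.Helper11.AutAlt
open scoped Pointwise

variable {n : ℕ}

/-- the orbit `orb (K.map S.subtype) x` is the orbit of `K` -/
theorem exn_orb_map (S : Subgroup (Alt n)) (K : Subgroup ↥S) (x : Fin n) :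
    orb (K.map S.subtype) x = MulAction.orbit ↥K x := by
  ext y
  constructor
  · rintro ⟨s, hs, rfl⟩
    obtain ⟨k, hk, rfl⟩ := hs
    exact ⟨⟨k, hk⟩, rfl⟩
  · rintro ⟨k, rfl⟩
    exact ⟨S.subtype (k : ↥S), ⟨(k : ↥S), k.2, rfl⟩, rfl⟩

/-- the orbit of `S` itself -/
theorem exn_orb_self (S : Subgroup (Alt n)) (x : Fin n) :
    orb S x = MulAction.orbit ↥S x := by
  ext y
  constructor
  · rintro ⟨s, hs, rfl⟩
    exact ⟨⟨s, hs⟩, rfl⟩
  · rintro ⟨k, rfl⟩
    exact ⟨(k : Alt n), k.2, rfl⟩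

/-- stabilizer in a subgroup -/
theorem exn_stab_subgroupOf {Γ : Type*} [Group Γ] {X : Type*} [MulAction Γ X] (K : Subgroup Γ)
    (x : X) : MulAction.stabilizer ↥K x = (MulAction.stabilizer Γ x).subgroupOf K := by
  ext k
  rw [MulAction.mem_stabilizer_iff, Subgroup.mem_subgroupOf, MulAction.mem_stabilizer_iff]
  rfl

/-- the abstract statement: a transitive finite `3`-group on at least `10` points has a normal
subgroup of index `3` over a point stabilizer, with orbit of a third of the size -/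
theorem exn_abstract {Γ : Type*} [Group Γ] [Finite Γ] {X : Type*} [MulAction Γ X]
    (hΓ : IsPGroup 3 Γ) (x : X) (m : ℕ) (hm : (MulAction.orbit Γ x).ncard = m) (h10 : 10 ≤ m) :
    ∃ K : Subgroup Γ, K.Normal ∧ 5 ≤ (MulAction.orbit ↥K x).ncard ∧
      (MulAction.orbit ↥K x).ncard < m := by
  have : Fact (Nat.Prime 3) := ⟨Nat.prime_three⟩
  obtain ⟨e, he⟩ := (IsPGroup.iff_card).mp hΓ
  set Sx : Subgroup Γ := MulAction.stabilizer Γ x with hSx
  have hidx : Sx.index = m := by rw [hSx, MulAction.index_stabilizer, hm]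
  obtain ⟨f, hf⟩ := (IsPGroup.iff_card).mp (hΓ.to_subgroup Sx)
  have hmul : Nat.card Sx * Sx.index = Nat.card Γ := Subgroup.card_mul_index Sx
  rw [hf, hidx, he] at hmul
  have hfe : f < e := by
    by_contra hcon
    push Not at hcon
    have h1 : 3 ^ e ≤ 3 ^ f := Nat.pow_le_pow_right (by norm_num) hcon
    have h2 : 0 < 3 ^ f := by positivity
    nlinarith
  have hdvd : 3 ^ (e - 1) ∣ Nat.card Γ := by
    rw [he]
    exact pow_dvd_pow 3 (Nat.sub_le e 1)
  obtain ⟨K, hK, hSK⟩ := Sylow.exists_subgroup_card_pow_prime_le 3 hdvd Sx hf (by omega)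
  have hKidx : K.index = 3 := by
    have h1 : Nat.card K * K.index = Nat.card Γ := Subgroup.card_mul_index K
    rw [hK, he] at h1
    have h2 : (3 : ℕ) ^ e = 3 ^ (e - 1) * 3 := by
      rw [← pow_succ]
      congr 1
      omega
    rw [h2] at h1
    exact Nat.eq_of_mul_eq_mul_left (by positivity) h1
  have hKn : K.Normal := by
    apply Subgroup.normal_of_index_eq_minFac_card
    rw [hKidx, he]
    have he0 : e ≠ 0 := by omega
    rw [Nat.Prime.pow_minFac Nat.prime_three he0]
  refine ⟨K, hKn, ?_⟩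
  have horb : (MulAction.orbit ↥K x).ncard = Sx.relIndex K := by
    rw [← MulAction.index_stabilizer, exn_stab_subgroupOf]
    rfl
  have hrel : Sx.relIndex K * K.index = Sx.index := Subgroup.relIndex_mul_index hSK
  rw [hKidx, hidx] at hrel
  have hdvd2 : Sx.relIndex K ∣ 3 ^ (e - 1) := by
    rw [← hK]
    exact Subgroup.relIndex_dvd_card Sx K
  obtain ⟨j, -, hj⟩ := (Nat.dvd_prime_pow Nat.prime_three).mp hdvd2
  rw [horb]
  have hj2 : 2 ≤ j := by
    by_contra hcon
    push Not at hcon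
    interval_cases j
    · rw [hj] at hrel
      omega
    · rw [hj] at hrel
      omega
  have h9 : 3 ^ 2 ≤ 3 ^ j := Nat.pow_le_pow_right (by norm_num) hj2
  rw [hj]
  rw [hj] at hrel
  constructor
  · omega
  · omega

/-- EXN -/
theorem exists_N (S : Subgroup (Alt n)) (hS : IsPGroup 3 S) (htr : ∀ x y : Fin n, y ∈ orb S x)
    (hn : 10 ≤ n) :
    ∃ N : Subgroup (Alt n), N ≤ S ∧ (∀ s ∈ S, ∀ ν ∈ N, s * ν * s⁻¹ ∈ N) ∧
      ∃ x : Fin n, 5 ≤ (orb N x).ncard ∧ ∃ w, w ∉ orb N x := by
  have hn0 : 0 < n := by omega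
  set x : Fin n := ⟨0, hn0⟩ with hx
  have huniv : MulAction.orbit ↥S x = Set.univ := by
    rw [← exn_orb_self]
    ext y
    simp only [Set.mem_univ, iff_true]
    exact htr x y
  have hcard : (MulAction.orbit ↥S x).ncard = n := by
    rw [huniv, Set.ncard_univ, Nat.card_eq_fintype_card, Fintype.card_fin]
  obtain ⟨K, hKn, h5, hlt⟩ := exn_abstract (Γ := ↥S) hS x n hcard hn
  refine ⟨K.map S.subtype, ?_, ?_, x, ?_, ?_⟩
  · rintro _ ⟨k, -, rfl⟩
    exact k.2
  · rintro s hs _ ⟨k, hk, rfl⟩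
    refine ⟨(⟨s, hs⟩ : ↥S) * k * (⟨s, hs⟩ : ↥S)⁻¹, hKn.conj_mem k hk _, ?_⟩
    simp
  · rw [exn_orb_map]
    exact h5
  · rw [exn_orb_map]
    by_contra hcon
    push Not at hcon
    have : MulAction.orbit ↥K x = Set.univ := by
      ext y
      simp only [Set.mem_univ, iff_true]
      exact hcon y
    rw [this, Set.ncard_univ, Nat.card_eq_fintype_card, Fintype.card_fin] at hlt
    exact lt_irrefl _ hlt

end Cfsg.Agent.Helper10.TM
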