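import Mathlib
import Cfsg.Agent.Lib.Helper10.TMDefs
import Cfsg.Agent.Lib.Helper17.TMEXN

/-!
# S2930, piece CASE3 (helper17), core form: the transitive case, with the statements of the
pieces ZETAO, IMP3MAIN, RZ/NOTIN and HN taken as hypotheses.
-/

set_option autoImplicit false

namespace Cfsg.Agent.Helper10.TM

open Equiv Equiv.Perm Cfsg.Agent.Helper11.AutAlt
open scoped Pointwise

variable {n : ℕ}

/-- a set with at least five elements has an element outside any three given points -/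
theorem case3_pick (P : Set (Fin n)) (h5 : 5 ≤ P.ncard) (a b c : Fin n) :
    ∃ u ∈ P, u ≠ a ∧ u ≠ b ∧ u ≠ c := by
  have hfin : ((({a, b, c} : Finset (Fin n)) : Set (Fin n))).ncard ≤ 3 := by
    rw [Set.ncard_coe_finset]
    exact Finset.card_le_three
  have hlt : ((({a, b, c} : Finset (Fin n)) : Set (Fin n))).ncard < P.ncard := by omega
  obtain ⟨u, huP, hu⟩ := Set.exists_mem_notMem_of_ncard_lt_ncard hlt
  refine ⟨u, huP, ?_, ?_, ?_⟩
  · rintro rfl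
    exact hu (by simp)
  · rintro rfl
    exact hu (by simp)
  · rintro rfl
    exact hu (by simp)

/-- CASE3, core form -/
theorem case3_core (S : Subgroup (Alt n)) (hS : IsPGroup 3 S) (hU : Unq S)
    (htr : ∀ x y : Fin n, y ∈ orb S x) (hn : 12 ≤ n)
    (h_zeta : ∀ x : Fin n, (∃ y ∈ orb S x, y ≠ x) →
      ∃ ζ : Perm (Fin n), ζ ^ 3 = 1 ∧ (∀ y ∈ orb S x, ζ y ≠ y) ∧ (∀ y, y ∉ orb S x → ζ y = y) ∧
        ∀ s : Alt n, s ∈ S → (s : Perm (Fin n)) * ζ = ζ * (s : Perm (Fin n)))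
    (h_coatom : ∀ ζ : Perm (Fin n), ζ ^ 3 = 1 → (∀ x, ζ x ≠ x) → IsCoatom (RStab (Rz ζ)))
    (h_le_commute : ∀ ζ : Perm (Fin n),
      (∀ s : Alt n, s ∈ S → (s : Perm (Fin n)) * ζ = ζ * (s : Perm (Fin n))) →
        S ≤ RStab (Rz ζ))
    (h_notmem : ∀ ζ : Perm (Fin n), ζ ^ 3 = 1 → ∀ x u v : Fin n, x ≠ u → x ≠ v → u ≠ v →
      ζ x ≠ x → ¬ Rz ζ x u → v ≠ ζ x → c3 x u v ∉ RStabP (Rz ζ))
    (h_le_Rn : ∀ N : Subgroup (Alt n), N ≤ S → (∀ s ∈ S, ∀ ν ∈ N, s * ν * s⁻¹ ∈ N) →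
      S ≤ RStab (Rn N))
    (h_Rn_ne_top : ∀ (N : Subgroup (Alt n)) (x y w : Fin n), y ∈ orb N x → y ≠ x →
      w ∉ orb N x → RStab (Rn N) ≠ ⊤)
    (h_c3_Rn : ∀ (N : Subgroup (Alt n)) (x u v : Fin n), x ≠ u → x ≠ v → u ≠ v →
      u ∈ orb N x → v ∈ orb N x →
        ∃ g : Alt n, (g : Perm (Fin n)) = c3 x u v ∧ g ∈ RStab (Rn N)) : False := by
  -- the element `ζ`
  have hn0 : 0 < n := by omega
  have hn1 : 1 < n := by omega
  obtain ⟨ζ, hζ3, hζmove, -, hζS⟩ := h_zeta ⟨0, hn0⟩ ⟨⟨1, hn1⟩, htr _ _, by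
    intro h
    have := congrArg Fin.val h
    simp at this⟩
  have hfp : ∀ y, ζ y ≠ y := fun y => hζmove y (htr _ _)
  have hco : IsCoatom (RStab (Rz ζ)) := h_coatom ζ hζ3 hfp
  have hS1 : S ≤ RStab (Rz ζ) := h_le_commute ζ hζS
  -- the subgroup `N`
  obtain ⟨N, hNS, hnorm, x, h5, w, hw⟩ := exists_N S hS htr (by omega)
  have hS2 : S ≤ RStab (Rn N) := h_le_Rn N hNS hnorm
  obtain ⟨u, huN, hux, huz, huzz⟩ := case3_pick (orb N x) h5 x (ζ x) (ζ (ζ x))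
  obtain ⟨v, hvN, hvx, hvu, hvz⟩ := case3_pick (orb N x) h5 x u (ζ x)
  have hne2 : RStab (Rn N) ≠ ⊤ := h_Rn_ne_top N x u w huN hux hw
  obtain ⟨g, hg, hg2⟩ := h_c3_Rn N x u v (Ne.symm hux) (Ne.symm hvx) (Ne.symm hvu) huN hvN
  have hg1 : g ∉ RStab (Rz ζ) := by
    intro hmem
    have h1 : (g : Perm (Fin n)) ∈ RStabP (Rz ζ) := hmem
    rw [hg] at h1
    refine h_notmem ζ hζ3 x u v (Ne.symm hux) (Ne.symm hvx) (Ne.symm hvu) (hfp x) ?_ hvz h1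
    rintro (h | h | h)
    · exact hux h
    · exact huz h
    · exact huzz h
  refine hU (RStab (Rz ζ)) (RStab (Rn N)) hS1 hS2 hco.1 hne2 ?_
  by_contra hne
  have hlt : RStab (Rz ζ) < RStab (Rz ζ) ⊔ RStab (Rn N) := by
    refine lt_of_le_of_ne le_sup_left ?_
    intro heq
    apply hg1
    rw [heq]
    exact (le_sup_right : RStab (Rn N) ≤ _) hg2
  exact hne (hco.2 _ hlt)

end Cfsg.Agent.Helper10.TM
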