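import Mathlib
import Cfsg.Agent.Lib.Helper10.TMDefs
import Cfsg.Agent.Lib.Helper17.TMCASE3Core
import Cfsg.Agent.Lib.Helper21.TMRZ
import Cfsg.Agent.Lib.Helper9.TMZETAO
import Cfsg.Agent.Lib.Helper18.TMHN
import Cfsg.Agent.Lib.Helper6.TMIMP3MAIN

/-!
# S2930, piece CASE3 (helper17): the transitive case.
-/

set_option autoImplicit false

namespace Cfsg.Agent.Helper10.TM

open Equiv Equiv.Perm Cfsg.Agent.Helper11.AutAlt
open scoped Pointwise

variable {n : ℕ}

/-- CASE3 -/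
theorem case3 (S : Subgroup (Alt n)) (hS : IsPGroup 3 S) (hU : Unq S)
    (htr : ∀ x y : Fin n, y ∈ orb S x) (hn : 12 ≤ n) : False :=
  case3_core S hS hU htr hn (exists_zeta S hS) (isCoatom_RStab_Rz hn) (le_RStab_of_commute S)
    c3_not_mem_RStabP (le_RStab_Rn S) RStab_Rn_ne_top c3_mem_RStab_Rn

end Cfsg.Agent.Helper10.TM
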