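import Mathlib
import Cfsg.Agent.Lib.Helper2.SympBasic

/-!
# S3366 (groups of shape `3^{1+2}.SL(2,3)`): definitions and decided facts (helper17)

* `SL23 = SL(2, ZMod 3)` with the facts about it that the proof uses, all by `decide`;
* `Setup X`: the hypotheses of S3366 in elementary form;
* the concrete side: `G3 = Sp(4, ZMod 3)`, the vector `u0`, the elements `Nx`, `Ny`, `Nz = [Nx, Ny]` of the
  unipotent radical of the stabiliser of `u0`, the Levi embedding `Lh : SL23 →* G3`, and the relations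
  between them, all by `decide`.
-/

set_option autoImplicit false

namespace Cfsg.Agent.Helper17.TSL

open Matrix
open Cfsg.Agent.Helper2.Symp
open scoped Cfsg.Agent.Helper2.Symp

/-- `SL(2,3)` -/
abbrev SL23 : Type := Matrix.SpecialLinearGroup (Fin 2) (ZMod 3)

/-- the central involution of `SL(2,3)` -/
def negOne : SL23 := ⟨!![-1, 0; 0, -1], by decide⟩

theorem card_SL23 : Fintype.card SL23 = 24 := by decide
theorem negOne_ne : negOne ≠ 1 := by decide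
theorem negOne_sq : negOne * negOne = 1 := by decide
theorem negOne_central : ∀ g : SL23, g * negOne = negOne * g := by decide
/-- the only involution -/
theorem invol_eq : ∀ g : SL23, g * g = 1 → g = 1 ∨ g = negOne := by decide
theorem exists_sqrt : ∃ a : SL23, a * a = negOne := by decide
/-- generated by the elements of order dividing 3 -/
theorem three_gen : ∀ g : SL23, ∃ a : SL23, a ^ 3 = 1 ∧ ∃ b : SL23, b ^ 3 = 1 ∧ ∃ c : SL23, c ^ 3 = 1 ∧
    g = a * b * c := by decide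
/-- the elements with `q ^ 4 = 1` form a subgroup (the quaternion group) -/
theorem q8_mul : ∀ p q : SL23, p ^ 4 = 1 → q ^ 4 = 1 → (p * q) ^ 4 = 1 := by decide
theorem q8_card : (Finset.univ.filter (fun q : SL23 => q ^ 4 = 1)).card = 8 := by decide
/-- every nontrivial normal subgroup contains the central involution -/
theorem normal_closure : ∀ g : SL23, g ≠ 1 → g = negOne ∨ g ^ 2 = negOne ∨ g ^ 3 = negOne ∨
    ∃ h : SL23, (g * h * g⁻¹ * h⁻¹) ^ 2 = negOne := by decide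

/-- the hypotheses of S3366 in elementary form: `R = O_3(X)`, `Z = Z(R)`, `π : X → SL(2,3)` onto with
kernel `R` -/
structure Setup (X : Type*) [Group X] where
  R : Subgroup X
  Z : Subgroup X
  π : X →* SL23
  normal : R.Normal
  card_R : Nat.card R = 27
  exp_R : ∀ r ∈ R, r ^ 3 = 1
  surj : Function.Surjective π
  ker : π.ker = R
  mem_Z : ∀ w : X, w ∈ Z ↔ w ∈ R ∧ ∀ r ∈ R, r * w = w * r
  card_Z : Nat.card Z = 3
  comm_mem : ∀ r ∈ R, ∀ s ∈ R, r * s * r⁻¹ * s⁻¹ ∈ Z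
  O2 : ∀ N : Subgroup X, N.Normal → IsPGroup 2 N → N = ⊥
  hE : ∃ E : Subgroup X, (∀ a ∈ E, ∀ b ∈ E, a * b = b * a) ∧ (∀ a ∈ E, a ^ 3 = 1) ∧ Nat.card E = 27

/-- `k` acts on `x, y` (and `z = [x, y]`) by the matrix `m`, in the normal form `x^a y^b z^(ab)` of the
elements inverted by the involution -/
def ActsBy {X : Type*} [Group X] (x y k : X) (m : SL23) : Prop :=
  k * x * k⁻¹ = x ^ (m.1 0 0).val * y ^ (m.1 1 0).val * (x * y * x⁻¹ * y⁻¹) ^ (m.1 0 0 * m.1 1 0).val ∧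
  k * y * k⁻¹ = x ^ (m.1 0 1).val * y ^ (m.1 1 1).val * (x * y * x⁻¹ * y⁻¹) ^ (m.1 0 1 * m.1 1 1).val

/-! ### the concrete side -/

/-- `Sp(4,3)` -/
abbrev G3 : Type := ↥(Matrix.symplecticGroup (Fin 2) (ZMod 3))

/-- the first basis vector -/
def u0 : Fin 2 ⊕ Fin 2 → ZMod 3 := Pi.single (Sum.inl 0) 1

def NxM : Matrix (Fin 2 ⊕ Fin 2) (Fin 2 ⊕ Fin 2) (ZMod 3) :=
  Matrix.fromBlocks 1 !![0, 1; 1, 0] 0 1

def NyM : Matrix (Fin 2 ⊕ Fin 2) (Fin 2 ⊕ Fin 2) (ZMod 3) :=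
  Matrix.fromBlocks !![1, -1; 0, 1] 0 0 !![1, 0; 1, 1]

theorem NxM_mem : NxM ∈ Matrix.symplecticGroup (Fin 2) (ZMod 3) := by
  rw [SymplecticGroup.mem_iff]
  decide

theorem NyM_mem : NyM ∈ Matrix.symplecticGroup (Fin 2) (ZMod 3) := by
  rw [SymplecticGroup.mem_iff]
  decide

def Nx : G3 := ⟨NxM, NxM_mem⟩
def Ny : G3 := ⟨NyM, NyM_mem⟩
def Nz : G3 := Nx * Ny * Nx⁻¹ * Ny⁻¹

/-- the matrix of the Levi embedding -/
def LM (m : Matrix (Fin 2) (Fin 2) (ZMod 3)) : Matrix (Fin 2 ⊕ Fin 2) (Fin 2 ⊕ Fin 2) (ZMod 3) :=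
  Matrix.fromBlocks !![1, 0; 0, m 0 0] !![0, 0; 0, m 0 1] !![0, 0; 0, m 1 0] !![1, 0; 0, m 1 1]

theorem LM_mem : ∀ m : SL23, LM m.1 ∈ Matrix.symplecticGroup (Fin 2) (ZMod 3) := by
  simp only [SymplecticGroup.mem_iff]
  decide

theorem LM_mul : ∀ m m' : SL23, LM (m * m').1 = LM m.1 * LM m'.1 := by
  decide

/-- the Levi embedding `SL(2,3) → Sp(4,3)` -/
def Lh : SL23 →* G3 where
  toFun m := ⟨LM m.1, LM_mem m⟩
  map_one' := by decide
  map_mul' m m' := Subtype.ext (LM_mul m m')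

theorem Nx_pow : Nx ^ 3 = 1 := by decide
theorem Ny_pow : Ny ^ 3 = 1 := by decide
theorem Nz_pow : Nz ^ 3 = 1 := by decide
theorem Nz_ne : Nz ≠ 1 := by decide
theorem Nz_Nx : Nz * Nx = Nx * Nz := by decide
theorem Nz_Ny : Nz * Ny = Ny * Nz := by decide

theorem conj_Nx : ∀ m : SL23, Lh m * Nx * (Lh m)⁻¹ =
    Nx ^ (m.1 0 0).val * Ny ^ (m.1 1 0).val * Nz ^ (m.1 0 0 * m.1 1 0).val := by decide
theorem conj_Ny : ∀ m : SL23, Lh m * Ny * (Lh m)⁻¹ =
    Nx ^ (m.1 0 1).val * Ny ^ (m.1 1 1).val * Nz ^ (m.1 0 1 * m.1 1 1).val := by decide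

theorem Nx_fix : Nx • u0 = u0 := by decide
theorem Ny_fix : Ny • u0 = u0 := by decide
theorem Lh_fix : ∀ m : SL23, Lh m • u0 = u0 := by decide

/-- the unipotent radical meets the Levi complement trivially, and normal forms are unique -/
theorem nf_eq_Lh : ∀ (a b c : Fin 3) (m : SL23),
    Nx ^ (a : ℕ) * Ny ^ (b : ℕ) * Nz ^ (c : ℕ) = Lh m → (a = 0 ∧ b = 0 ∧ c = 0) ∧ m = 1 := by
  decide

end Cfsg.Agent.Helper17.TSL
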