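import Mathlib
import Cfsg.Prelude.Def_ParabolicCharacters

/-!
# Monomial matrices and transvections in `GL_n` (helper17)

Preparation for the (B, N)-pair of `GL_n(F)`: `monoM d σ` is the monomial matrix with the entry `d (σ j)`
in position `(σ j, j)`, `mono d σ` the corresponding element of `GL`, `tGL a b c` the transvection
`1 + c E_{ab}` as an element of `GL`.
-/

set_option autoImplicit false
set_option linter.unusedSectionVars false

open scoped MatrixGroups

namespace Cfsg.Agent.Helper17.GLBN

open Matrix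

variable {n : ℕ} {F : Type*} [Field F]

/-- the monomial matrix with the entry `d (σ j)` in position `(σ j, j)` -/
def monoM (d : Fin n → F) (σ : Equiv.Perm (Fin n)) : Matrix (Fin n) (Fin n) F :=
  Matrix.of fun i j => if i = σ j then d i else 0

theorem monoM_apply (d : Fin n → F) (σ : Equiv.Perm (Fin n)) (i j : Fin n) :
    monoM d σ i j = if i = σ j then d i else 0 := rfl

theorem monoM_mul_apply (d : Fin n → F) (σ : Equiv.Perm (Fin n)) (A : Matrix (Fin n) (Fin n) F)
    (i j : Fin n) : (monoM d σ * A) i j = d i * A (σ⁻¹ i) j := by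
  rw [Matrix.mul_apply, Finset.sum_eq_single (σ⁻¹ i)]
  · rw [monoM_apply, if_pos (by simp)]
  · intro k _ hk
    rw [monoM_apply, if_neg, zero_mul]
    intro h
    apply hk
    rw [h]; simp
  · intro h; exact absurd (Finset.mem_univ _) h

theorem mul_monoM_apply (d : Fin n → F) (σ : Equiv.Perm (Fin n)) (A : Matrix (Fin n) (Fin n) F)
    (i j : Fin n) : (A * monoM d σ) i j = A i (σ j) * d (σ j) := by
  rw [Matrix.mul_apply, Finset.sum_eq_single (σ j)]
  · rw [monoM_apply, if_pos rfl]
  · intro k _ hk
    rw [monoM_apply, if_neg hk, mul_zero]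
  · intro h; exact absurd (Finset.mem_univ _) h

theorem monoM_mul (d d' : Fin n → F) (σ τ : Equiv.Perm (Fin n)) :
    monoM d σ * monoM d' τ = monoM (fun i => d i * d' (σ⁻¹ i)) (σ * τ) := by
  ext i j
  rw [monoM_mul_apply, monoM_apply, monoM_apply]
  by_cases h : i = σ (τ j)
  · rw [if_pos (by rw [h]; simp), if_pos (by simpa using h)]
  · rw [if_neg, if_neg (by simpa using h), mul_zero]
    intro h'
    apply h
    rw [← h']; simp

theorem monoM_one : monoM (fun _ => (1 : F)) (1 : Equiv.Perm (Fin n)) = 1 := by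
  ext i j
  by_cases h : i = j <;> simp [monoM_apply, Matrix.one_apply, h]

/-- the monomial matrix as an element of the general linear group -/
def mono (d : Fin n → Fˣ) (σ : Equiv.Perm (Fin n)) : GL (Fin n) F where
  val := monoM (fun i => (d i : F)) σ
  inv := monoM (fun i => ((d (σ i))⁻¹ : Fˣ)) σ⁻¹
  val_inv := by
    rw [monoM_mul, ← monoM_one]
    congr 1
    · funext i
      simp
    · simp
  inv_val := by
    rw [monoM_mul, ← monoM_one]
    congr 1
    · funext i
      simp
    · simp

theorem coe_mono (d : Fin n → Fˣ) (σ : Equiv.Perm (Fin n)) :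
    ((mono d σ : GL (Fin n) F) : Matrix (Fin n) (Fin n) F) = monoM (fun i => (d i : F)) σ := rfl

theorem mono_mul (d d' : Fin n → Fˣ) (σ τ : Equiv.Perm (Fin n)) :
    mono d σ * mono d' τ = (mono (fun i => d i * d' (σ⁻¹ i)) (σ * τ) : GL (Fin n) F) := by
  apply Units.ext
  rw [Units.val_mul, coe_mono, coe_mono, coe_mono, monoM_mul]
  congr 1

theorem mono_one : (mono (fun _ => (1 : Fˣ)) (1 : Equiv.Perm (Fin n)) : GL (Fin n) F) = 1 := by
  apply Units.ext
  rw [coe_mono]
  simp only [Units.val_one]
  exact monoM_one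

theorem mono_inv (d : Fin n → Fˣ) (σ : Equiv.Perm (Fin n)) :
    (mono d σ : GL (Fin n) F)⁻¹ = mono (fun i => (d (σ i))⁻¹) σ⁻¹ := by
  apply Units.ext
  rfl

/-- the group of monomial matrices -/
def monomialGL (n : ℕ) (F : Type*) [Field F] : Subgroup (GL (Fin n) F) where
  carrier := {g | ∃ (d : Fin n → Fˣ) (σ : Equiv.Perm (Fin n)), g = mono d σ}
  mul_mem' := by
    rintro _ _ ⟨d, σ, rfl⟩ ⟨d', τ, rfl⟩
    exact ⟨_, _, mono_mul d d' σ τ⟩
  one_mem' := ⟨_, _, mono_one.symm⟩
  inv_mem' := by
    rintro _ ⟨d, σ, rfl⟩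
    exact ⟨_, _, mono_inv d σ⟩

theorem mono_mem (d : Fin n → Fˣ) (σ : Equiv.Perm (Fin n)) : mono d σ ∈ monomialGL n F :=
  ⟨d, σ, rfl⟩

/-- the permutation matrices, as a homomorphism -/
def permGL (n : ℕ) (F : Type*) [Field F] : Equiv.Perm (Fin n) →* GL (Fin n) F where
  toFun σ := mono (fun _ => 1) σ
  map_one' := mono_one
  map_mul' σ τ := by
    rw [mono_mul]
    congr 1
    funext i
    simp

theorem permGL_apply (σ : Equiv.Perm (Fin n)) : permGL n F σ = mono (fun _ => 1) σ := rfl

theorem coe_permGL_apply (σ : Equiv.Perm (Fin n)) (i j : Fin n) :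
    ((permGL n F σ : GL (Fin n) F) : Matrix (Fin n) (Fin n) F) i j = if i = σ j then 1 else 0 := by
  rw [permGL_apply, coe_mono, monoM_apply]
  simp

theorem mono_eq (d : Fin n → Fˣ) (σ : Equiv.Perm (Fin n)) :
    (mono d σ : GL (Fin n) F) = mono d 1 * permGL n F σ := by
  rw [permGL_apply, mono_mul]
  congr 1
  funext i; simp

/-- a monomial matrix that is block triangular for a labelling `b` has a label-preserving permutation -/
theorem perm_of_blockTriangular {α : Type*} [LinearOrder α] (b : Fin n → α) (d : Fin n → Fˣ)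
    (σ : Equiv.Perm (Fin n))
    (h : ((mono d σ : GL (Fin n) F) : Matrix (Fin n) (Fin n) F).BlockTriangular b) :
    ∀ j, b (σ j) = b j := by
  have h1 : ∀ j, b (σ j) ≤ b j := by
    intro j
    by_contra hlt
    have := h (not_le.1 hlt)
    rw [coe_mono, monoM_apply, if_pos rfl] at this
    exact (d (σ j)).ne_zero this
  -- a permutation that weakly decreases the labels preserves them
  by_contra hne
  push Not at hne
  obtain ⟨j₀, hj₀⟩ := hne
  have hlt : b (σ j₀) < b j₀ := lt_of_le_of_ne (h1 j₀) hj₀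
  -- count the elements with label `< b j₀`
  let S : Finset (Fin n) := Finset.univ.filter (fun j => b j < b j₀)
  have hS : S.image σ ⊆ S := by
    intro x hx
    rw [Finset.mem_image] at hx
    obtain ⟨y, hy, rfl⟩ := hx
    rw [Finset.mem_filter] at hy ⊢
    exact ⟨Finset.mem_univ _, lt_of_le_of_lt (h1 y) hy.2⟩
  have hcard : (S.image σ).card = S.card := Finset.card_image_of_injective _ σ.injective
  have hSeq : S.image σ = S := Finset.eq_of_subset_of_card_le hS (le_of_eq hcard.symm)
  have hmem : σ j₀ ∈ S := by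
    rw [Finset.mem_filter]; exact ⟨Finset.mem_univ _, hlt⟩
  rw [← hSeq, Finset.mem_image] at hmem
  obtain ⟨y, hy, hyj⟩ := hmem
  have : y = j₀ := σ.injective hyj
  rw [this, Finset.mem_filter] at hy
  exact lt_irrefl _ hy.2

theorem blockTriangular_mono_iff {α : Type*} [LinearOrder α] (b : Fin n → α) (d : Fin n → Fˣ)
    (σ : Equiv.Perm (Fin n)) :
    ((mono d σ : GL (Fin n) F) : Matrix (Fin n) (Fin n) F).BlockTriangular b ↔
      ∀ j, b (σ j) = b j := by
  constructor
  · exact perm_of_blockTriangular b d σ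
  · intro h i j hij
    rw [coe_mono, monoM_apply, if_neg]
    rintro rfl
    rw [h j] at hij
    exact lt_irrefl _ hij

/-- an upper triangular monomial matrix is diagonal -/
theorem perm_eq_one_of_mem_upperTriangular (d : Fin n → Fˣ) (σ : Equiv.Perm (Fin n))
    (h : (mono d σ : GL (Fin n) F) ∈ Cfsg.upperTriangularGL n F) : σ = 1 := by
  have h' : ((mono d σ : GL (Fin n) F) : Matrix (Fin n) (Fin n) F).BlockTriangular id := h
  have := perm_of_blockTriangular id d σ h'
  ext j
  simp only [id] at this
  rw [this j]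
  rfl

theorem mono_one_mem_upperTriangular (d : Fin n → Fˣ) :
    (mono d 1 : GL (Fin n) F) ∈ Cfsg.upperTriangularGL n F := by
  have : ((mono d 1 : GL (Fin n) F) : Matrix (Fin n) (Fin n) F).BlockTriangular id := by
    rw [blockTriangular_mono_iff]
    intro j; rfl
  exact this

end Cfsg.Agent.Helper17.GLBN
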