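import Mathlib
import Cfsg.Agent.Lib.Helper17.GLMonomial

/-!
# Rank one computations in `GL_n` (helper17)

Transvections as elements of `GL`, their conjugation by monomial matrices, and the axiom
`s B n ⊆ B s n B ∪ B n B` of a (B, N)-pair for `GL_n(F)`.
-/

set_option autoImplicit false
set_option linter.unusedSectionVars false
set_option linter.unusedSimpArgs false

open scoped MatrixGroups

namespace Cfsg.Agent.Helper17.GLBN

open Matrix

variable {n : ℕ} {F : Type*} [Field F]

/-- the transvection `1 + c E_{ab}` as an element of the general linear group -/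
def tGL (a b : Fin n) (hab : a ≠ b) (c : F) : GL (Fin n) F where
  val := Matrix.transvection a b c
  inv := Matrix.transvection a b (-c)
  val_inv := by
    rw [Matrix.transvection_mul_transvection_same _ _ hab, add_neg_cancel, Matrix.transvection_zero]
  inv_val := by
    rw [Matrix.transvection_mul_transvection_same _ _ hab, neg_add_cancel, Matrix.transvection_zero]

theorem coe_tGL (a b : Fin n) (hab : a ≠ b) (c : F) :
    ((tGL a b hab c : GL (Fin n) F) : Matrix (Fin n) (Fin n) F) = Matrix.transvection a b c := rfl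

theorem tGL_zero (a b : Fin n) (hab : a ≠ b) : tGL a b hab (0 : F) = 1 := by
  apply Units.ext
  rw [coe_tGL, Matrix.transvection_zero]; rfl

theorem tGL_mul (a b : Fin n) (hab : a ≠ b) (c c' : F) :
    tGL a b hab c * tGL a b hab c' = tGL a b hab (c + c') := by
  apply Units.ext
  rw [Units.val_mul, coe_tGL, coe_tGL, coe_tGL, Matrix.transvection_mul_transvection_same _ _ hab]

theorem tGL_mem_upper (a b : Fin n) (hab : a < b) (c : F) :
    tGL a b (ne_of_lt hab) c ∈ Cfsg.upperTriangularGL n F := by
  show (Matrix.transvection a b c).BlockTriangular id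
  intro i j hij
  simp only [id] at hij
  rw [Matrix.transvection, Matrix.add_apply, Matrix.one_apply_ne (ne_of_gt hij),
    Matrix.single_apply, if_neg, add_zero]
  rintro ⟨rfl, rfl⟩
  exact lt_asymm hab hij

/-- conjugation of a transvection by a monomial matrix -/
theorem mono_mul_tGL (d : Fin n → Fˣ) (w : Equiv.Perm (Fin n)) (k l : Fin n) (hkl : k ≠ l) (c : F) :
    mono d w * tGL k l hkl c =
      tGL (w k) (w l) (fun h => hkl (w.injective h)) (c * d (w k) / d (w l)) * mono d w := by
  apply Units.ext
  rw [Units.val_mul, Units.val_mul, coe_tGL, coe_tGL, coe_mono]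
  ext i j
  rw [Matrix.transvection, Matrix.transvection, Matrix.mul_add, Matrix.add_mul, Matrix.mul_one,
    Matrix.one_mul, Matrix.add_apply, Matrix.add_apply, monoM_mul_apply, mul_monoM_apply,
    Matrix.single_apply, Matrix.single_apply]
  congr 1
  by_cases h1 : i = w k
  · by_cases h2 : j = l
    · subst h1 h2
      rw [if_pos ⟨by simp, rfl⟩, if_pos ⟨rfl, rfl⟩]
      have : (d (w j) : F) ≠ 0 := (d (w j)).ne_zero
      field_simp
    · rw [if_neg (fun h => h2 h.2.symm), if_neg (fun h => h2 (w.injective h.2).symm)]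
      simp
  · rw [if_neg, if_neg (fun h => h1 h.1.symm)]
    · simp
    · rintro ⟨h, _⟩
      apply h1
      rw [h]; simp

/-- the swap of two adjacent positions, conjugating an upper triangular matrix with a zero in
the position `(a, a')`, keeps it upper triangular -/
theorem conj_swap_mem (a a' : Fin n) (haa : a.val + 1 = a'.val) (b : GL (Fin n) F)
    (hb : b ∈ Cfsg.upperTriangularGL n F) (h0 : (b : Matrix (Fin n) (Fin n) F) a a' = 0) :
    permGL n F (Equiv.swap a a') * b * permGL n F (Equiv.swap a a') ∈
      Cfsg.upperTriangularGL n F := by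
  have hb' : (b : Matrix (Fin n) (Fin n) F).BlockTriangular id := hb
  show ((permGL n F (Equiv.swap a a') * b * permGL n F (Equiv.swap a a') : GL (Fin n) F) :
    Matrix (Fin n) (Fin n) F).BlockTriangular id
  intro i j hij
  simp only [id] at hij
  rw [Units.val_mul, Units.val_mul, permGL_apply, coe_mono, mul_monoM_apply]
  rw [monoM_mul_apply]
  simp only [Units.val_one, one_mul, mul_one, Equiv.swap_inv]
  set τ := Equiv.swap a a' with hτ
  by_cases hlt : τ j < τ i
  · exact hb' hlt
  · have hne : τ i ≠ τ j := fun h => (ne_of_gt hij) (τ.injective h)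
    have hlt' : τ i < τ j := lt_of_le_of_ne (not_lt.1 hlt) hne
    -- the only inversion of an adjacent transposition
    have hv : ∀ x : Fin n, (τ x).val =
        if x.val = a.val then a'.val else if x.val = a'.val then a.val else x.val := by
      intro x
      rw [hτ, Equiv.swap_apply_def]
      by_cases h1 : x = a
      · rw [if_pos h1, if_pos (by rw [h1])]
      · by_cases h2 : x = a'
        · rw [if_neg h1, if_pos h2, if_neg (fun h => h1 (Fin.ext h)), if_pos (by rw [h2])]
        · rw [if_neg h1, if_neg h2, if_neg (fun h => h1 (Fin.ext h)),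
            if_neg (fun h => h2 (Fin.ext h))]
    have key : (τ i).val = a.val ∧ (τ j).val = a'.val := by
      have hi := hv i
      have hj := hv j
      rw [Fin.lt_def] at hij hlt'
      split_ifs at hi hj <;> omega
    rw [Fin.ext key.1, Fin.ext key.2]
    exact h0

/-- the diagonal part in the rank one identity -/
noncomputable def dh (a a' : Fin n) (c : F) (hc : c ≠ 0) : Fin n → Fˣ :=
  fun i => if i = a then Units.mk0 (-c⁻¹) (neg_ne_zero.2 (inv_ne_zero hc))
    else if i = a' then Units.mk0 c hc else 1

theorem transvection_apply (a b : Fin n) (c : F) (i j : Fin n) :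
    Matrix.transvection a b c i j = (if i = j then 1 else 0) + (if a = i ∧ b = j then c else 0) := by
  rw [Matrix.transvection, Matrix.add_apply, Matrix.one_apply, Matrix.single_apply]

theorem transvection_mul_apply (a b : Fin n) (c : F) (X : Matrix (Fin n) (Fin n) F) (i j : Fin n) :
    (Matrix.transvection a b c * X) i j = X i j + (if i = a then c * X b j else 0) := by
  by_cases h : i = a
  · subst h
    rw [Matrix.transvection_mul_apply_same, if_pos rfl]
  · rw [if_neg h, add_zero]
    exact Matrix.transvection_mul_apply_of_ne _ _ _ _ h _ _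

theorem rank_one_identity (a a' : Fin n) (haa : a ≠ a') (c : F) (hc : c ≠ 0) :
    permGL n F (Equiv.swap a a') * tGL a a' haa c =
      tGL a a' haa c⁻¹ * (mono (dh a a' c hc) 1 * tGL a' a haa.symm c⁻¹) := by
  apply Units.ext
  ext i j
  rw [Units.val_mul, Units.val_mul, Units.val_mul, permGL_apply, coe_mono, coe_mono, coe_tGL,
    coe_tGL, coe_tGL, monoM_mul_apply, transvection_mul_apply, monoM_mul_apply, monoM_mul_apply,
    transvection_apply, transvection_apply, transvection_apply]
  have haa' : a' ≠ a := haa.symm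
  by_cases hi : i = a
  · subst hi
    have e1 : ((dh i a' c hc i : Fˣ) : F) = -c⁻¹ := by simp [dh]
    have e2 : ((dh i a' c hc a' : Fˣ) : F) = c := by simp [dh, haa']
    by_cases hj : j = i
    · subst hj
      simp [haa, haa', e1, e2]
      field_simp
      ring
    · by_cases hj' : j = a'
      · subst hj'
        simp [haa, haa', e1, e2]
        field_simp
      · have h1 : ¬ i = j := fun h => hj h.symm
        have h2 : ¬ a' = j := fun h => hj' h.symm
        simp [h1, h2, haa, haa', e1, e2]
  · by_cases hi' : i = a'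
    · subst hi'
      have e2 : ((dh a i c hc i : Fˣ) : F) = c := by simp [dh, haa']
      by_cases hj : j = a
      · subst hj
        simp [haa, haa', e2]
        field_simp
      · by_cases hj' : j = i
        · subst hj'
          simp [haa, haa', hi, e2]
        · have h1 : ¬ i = j := fun h => hj' h.symm
          have h2 : ¬ a = j := fun h => hj h.symm
          simp [h1, h2, haa, haa', hi, e2]
    · have e3 : ((dh a a' c hc i : Fˣ) : F) = 1 := by simp [dh, hi, hi']
      have h1 : ¬ a = i := fun h => hi h.symm
      have h2 : ¬ a' = i := fun h => hi' h.symm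
      simp [h1, h2, hi, hi', e3, Equiv.swap_apply_of_ne_of_ne hi hi']

theorem tGL_congr {a a' b b' : Fin n} (haa : a ≠ a') (hbb : b ≠ b') (c c' : F)
    (h1 : a = b) (h2 : a' = b') (h3 : c = c') : tGL a a' haa c = tGL b b' hbb c' := by
  subst h1 h2 h3
  rfl

/-- moving a transvection from the left of a monomial matrix to its right -/
theorem tGL_mul_mono (d : Fin n → Fˣ) (w : Equiv.Perm (Fin n)) (a a' : Fin n) (haa : a ≠ a')
    (c : F) :
    tGL a a' haa c * mono d w =
      mono d w * tGL (w⁻¹ a) (w⁻¹ a') (fun h => haa (w⁻¹.injective h)) (c * d a' / d a) := by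
  rw [mono_mul_tGL]
  congr 1
  apply tGL_congr
  · simp
  · simp
  · have e1 : w (w⁻¹ a) = a := by simp
    have e2 : w (w⁻¹ a') = a' := by simp
    rw [e1, e2]
    have h1 : (d a : F) ≠ 0 := (d a).ne_zero
    have h2 : (d a' : F) ≠ 0 := (d a').ne_zero
    field_simp

theorem diag_ne_zero (b : GL (Fin n) F) (hb : b ∈ Cfsg.upperTriangularGL n F) (a : Fin n) :
    (b : Matrix (Fin n) (Fin n) F) a a ≠ 0 := by
  have hb' : (b : Matrix (Fin n) (Fin n) F).BlockTriangular id := hb
  have hdet := Matrix.det_of_isUpperTriangular hb'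
  have hu : IsUnit (b : Matrix (Fin n) (Fin n) F).det := Matrix.isUnits_det_units b
  rw [hdet] at hu
  intro h0
  have : ∏ i : Fin n, (b : Matrix (Fin n) (Fin n) F) i i = 0 :=
    Finset.prod_eq_zero (Finset.mem_univ a) h0
  rw [this] at hu
  exact not_isUnit_zero hu

theorem permGL_swap_mul_self (a a' : Fin n) :
    permGL n F (Equiv.swap a a') * permGL n F (Equiv.swap a a') = 1 := by
  rw [← map_mul, Equiv.swap_mul_self, map_one]

/-- the double coset axiom of a (B, N)-pair for `GL_n` -/
theorem bn_axiom (a a' : Fin n) (haa : a.val + 1 = a'.val) (b : GL (Fin n) F)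
    (hb : b ∈ Cfsg.upperTriangularGL n F) (d : Fin n → Fˣ) (w : Equiv.Perm (Fin n)) :
    permGL n F (Equiv.swap a a') * b * mono d w ∈
      DoubleCoset.doubleCoset (permGL n F (Equiv.swap a a') * mono d w)
        (Cfsg.upperTriangularGL n F : Set (GL (Fin n) F)) (Cfsg.upperTriangularGL n F) ∪
      DoubleCoset.doubleCoset (mono d w)
        (Cfsg.upperTriangularGL n F : Set (GL (Fin n) F)) (Cfsg.upperTriangularGL n F) := by
  have hlt : a < a' := by rw [Fin.lt_def]; omega
  have hne : a ≠ a' := ne_of_lt hlt
  set s := permGL n F (Equiv.swap a a') with hs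
  set B := Cfsg.upperTriangularGL n F with hB
  have hss : s * s = 1 := permGL_swap_mul_self a a'
  -- split `b = b₁ * x(c)`
  set c : F := (b : Matrix (Fin n) (Fin n) F) a a' / (b : Matrix (Fin n) (Fin n) F) a a with hc
  have hdiag := diag_ne_zero b hb a
  set b₁ : GL (Fin n) F := b * tGL a a' hne (-c) with hb₁
  have hb₁B : b₁ ∈ B := B.mul_mem hb (tGL_mem_upper a a' hlt _)
  have hb₁0 : (b₁ : Matrix (Fin n) (Fin n) F) a a' = 0 := by
    rw [hb₁, Units.val_mul, coe_tGL, Matrix.mul_transvection_apply_same, hc]
    field_simp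
    ring
  have hbb : b = b₁ * tGL a a' hne c := by
    rw [hb₁, mul_assoc, tGL_mul, neg_add_cancel, tGL_zero, mul_one]
  have hB₁ : s * b₁ * s ∈ B := conj_swap_mem a a' haa b₁ hb₁B hb₁0
  have hkl : w⁻¹ a ≠ w⁻¹ a' := fun h => hne (w⁻¹.injective h)
  have hmain : s * b * mono d w = (s * b₁ * s) * (s * tGL a a' hne c * mono d w) := by
    rw [hbb]
    calc s * (b₁ * tGL a a' hne c) * mono d w
        = s * b₁ * 1 * tGL a a' hne c * mono d w := by group
      _ = s * b₁ * (s * s) * tGL a a' hne c * mono d w := by rw [hss]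
      _ = _ := by group
  rw [hmain]
  rcases lt_or_gt_of_ne hkl with hlt' | hgt'
  · -- the transvection moves to the right into `B`
    left
    rw [DoubleCoset.mem_doubleCoset]
    refine ⟨s * b₁ * s, hB₁, tGL (w⁻¹ a) (w⁻¹ a') hkl (c * d a' / d a),
      tGL_mem_upper _ _ hlt' _, ?_⟩
    rw [mul_assoc s (tGL a a' hne c), tGL_mul_mono]
    group
  · by_cases hc0 : c = 0
    · left
      rw [DoubleCoset.mem_doubleCoset]
      refine ⟨s * b₁ * s, hB₁, 1, B.one_mem, ?_⟩
      rw [hc0, tGL_zero]
      group
    · right
      rw [DoubleCoset.mem_doubleCoset]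
      refine ⟨(s * b₁ * s) * (tGL a a' hne c⁻¹ * mono (dh a a' c hc0) 1),
        B.mul_mem hB₁ (B.mul_mem (tGL_mem_upper a a' hlt _) (mono_one_mem_upperTriangular _)),
        tGL (w⁻¹ a') (w⁻¹ a) hkl.symm (c⁻¹ * d a / d a'), tGL_mem_upper _ _ hgt' _, ?_⟩
      rw [hs, rank_one_identity a a' hne c hc0, ← hs]
      rw [mul_assoc (tGL a a' hne c⁻¹), mul_assoc (mono (dh a a' c hc0) 1), tGL_mul_mono]
      group

end Cfsg.Agent.Helper17.GLBN
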