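import Mathlib
import Cfsg.Prelude.Def_LieExceptional
import Cfsg.Agent.Lib.Helper17.GLRankOne

/-!
# The (B, N)-pair of `GL_n(F)` (helper17)

`glBN n F : Cfsg.BNPair (GL (Fin n) F)` with `B` the upper triangular group, `N` the monomial group and
`S` the permutation matrices of the adjacent transpositions.
-/

set_option autoImplicit false
set_option linter.unusedSectionVars false

open scoped MatrixGroups

namespace Cfsg.Agent.Helper17.GLBN

open Matrix

variable {n : ℕ} {F : Type*} [Field F]

/-- the permutation matrices of the adjacent transpositions -/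
def adjSet (n : ℕ) (F : Type*) [Field F] : Set (GL (Fin n) F) :=
  {g | ∃ a a' : Fin n, a.val + 1 = a'.val ∧ g = permGL n F (Equiv.swap a a')}

theorem permGL_mem_upper_iff (σ : Equiv.Perm (Fin n)) :
    permGL n F σ ∈ Cfsg.upperTriangularGL n F ↔ σ = 1 := by
  constructor
  · intro h
    exact perm_eq_one_of_mem_upperTriangular _ σ h
  · rintro rfl
    rw [map_one]
    exact Subgroup.one_mem _

theorem closure_adj_eq_top (n : ℕ) :
    Subgroup.closure {σ : Equiv.Perm (Fin n) | ∃ a a' : Fin n, a.val + 1 = a'.val ∧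
      σ = Equiv.swap a a'} = ⊤ := by
  cases n with
  | zero =>
    apply top_unique
    intro x _
    have : x = 1 := Subsingleton.elim _ _
    rw [this]
    exact Subgroup.one_mem _
  | succ m =>
    apply top_unique
    rw [← Subgroup.closure_eq_top_of_mclosure_eq_top (Equiv.Perm.mclosure_swap_castSucc_succ m)]
    apply Subgroup.closure_mono
    rintro _ ⟨i, rfl⟩
    exact ⟨i.castSucc, i.succ, by simp, rfl⟩

theorem permGL_mem_closure (σ : Equiv.Perm (Fin n)) :
    permGL n F σ ∈ Subgroup.closure (adjSet n F) := by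
  have h : σ ∈ Subgroup.closure {σ : Equiv.Perm (Fin n) | ∃ a a' : Fin n, a.val + 1 = a'.val ∧
      σ = Equiv.swap a a'} := by
    rw [closure_adj_eq_top]; trivial
  induction h using Subgroup.closure_induction with
  | mem x hx =>
    obtain ⟨a, a', haa, rfl⟩ := hx
    exact Subgroup.subset_closure ⟨a, a', haa, rfl⟩
  | one => rw [map_one]; exact Subgroup.one_mem _
  | mul x y _ _ hx hy => rw [map_mul]; exact Subgroup.mul_mem _ hx hy
  | inv x _ hx => rw [map_inv]; exact Subgroup.inv_mem _ hx

theorem tGL_mem_sup (a b : Fin n) (hab : a ≠ b) (c : F) :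
    tGL a b hab c ∈ Cfsg.upperTriangularGL n F ⊔ monomialGL n F := by
  rcases lt_or_gt_of_ne hab with h | h
  · exact (le_sup_left : Cfsg.upperTriangularGL n F ≤ _) (tGL_mem_upper a b h c)
  · have h1 := mono_mul_tGL (F := F) (fun _ => (1 : Fˣ)) (Equiv.swap a b) b a hab.symm c
    have e : tGL a b hab c = mono (fun _ => (1 : Fˣ)) (Equiv.swap a b) * tGL b a hab.symm c *
        (mono (fun _ => (1 : Fˣ)) (Equiv.swap a b))⁻¹ := by
      rw [h1]
      have : tGL ((Equiv.swap a b) b) ((Equiv.swap a b) a)
          (fun h => hab.symm ((Equiv.swap a b).injective h))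
          (c * ((1 : Fˣ) : F) / ((1 : Fˣ) : F)) = tGL a b hab c := by
        apply tGL_congr
        · simp
        · simp
        · simp
      rw [this]
      group
    rw [e]
    have hN : mono (fun _ => (1 : Fˣ)) (Equiv.swap a b) ∈
        Cfsg.upperTriangularGL n F ⊔ monomialGL n F :=
      (le_sup_right : monomialGL n F ≤ _) (mono_mem _ _)
    exact Subgroup.mul_mem _ (Subgroup.mul_mem _ hN
      ((le_sup_left : Cfsg.upperTriangularGL n F ≤ _) (tGL_mem_upper b a h c)))
      (Subgroup.inv_mem _ hN)

theorem sup_eq_top_aux (g : GL (Fin n) F) :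
    g ∈ Cfsg.upperTriangularGL n F ⊔ monomialGL n F := by
  have key : ∀ M : Matrix (Fin n) (Fin n) F, M.det ≠ 0 → ∀ g : GL (Fin n) F,
      (g : Matrix (Fin n) (Fin n) F) = M → g ∈ Cfsg.upperTriangularGL n F ⊔ monomialGL n F := by
    intro M hM
    refine Matrix.diagonal_transvection_induction_of_det_ne_zero
      (fun M => ∀ g : GL (Fin n) F, (g : Matrix (Fin n) (Fin n) F) = M →
        g ∈ Cfsg.upperTriangularGL n F ⊔ monomialGL n F) M hM ?_ ?_ ?_
    · intro D hD g hg
      rw [Matrix.det_diagonal] at hD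
      have hD' : ∀ i, D i ≠ 0 := fun i h0 => hD (Finset.prod_eq_zero (Finset.mem_univ i) h0)
      have : g = mono (fun i => Units.mk0 (D i) (hD' i)) 1 := by
        apply Units.ext
        rw [hg, coe_mono]
        ext i j
        by_cases h : i = j <;> simp [h, Matrix.diagonal_apply, monoM_apply]
      rw [this]
      exact (le_sup_right : monomialGL n F ≤ _) (mono_mem _ _)
    · intro t g hg
      have : g = tGL t.i t.j t.hij t.c := Units.ext hg
      rw [this]
      exact tGL_mem_sup _ _ _ _
    · intro A B hA hB ihA ihB g hg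
      let gA : GL (Fin n) F := Matrix.GeneralLinearGroup.mkOfDetNeZero A hA
      let gB : GL (Fin n) F := Matrix.GeneralLinearGroup.mkOfDetNeZero B hB
      have : g = gA * gB := Units.ext hg
      rw [this]
      exact Subgroup.mul_mem _ (ihA gA rfl) (ihB gB rfl)
  exact key g (Matrix.isUnits_det_units g).ne_zero g rfl

/-- the (B, N)-pair of the general linear group -/
def glBN (n : ℕ) (F : Type*) [Field F] : Cfsg.BNPair (GL (Fin n) F) where
  B := Cfsg.upperTriangularGL n F
  N := monomialGL n F
  S := adjSet n F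
  sup_eq_top := top_unique fun g _ => sup_eq_top_aux g
  conj_mem := by
    rintro _ ⟨d, w, rfl⟩ t ⟨htB, d', σ, rfl⟩
    have hσ : σ = 1 := perm_eq_one_of_mem_upperTriangular d' σ htB
    subst hσ
    rw [mono_inv, mono_mul, mono_mul]
    have : w * 1 * w⁻¹ = 1 := by group
    rw [this]
    exact mono_one_mem_upperTriangular _
  subset := by
    rintro _ ⟨a, a', _, rfl⟩
    exact mono_mem _ _
  sq_mem := by
    rintro _ ⟨a, a', _, rfl⟩
    rw [permGL_swap_mul_self]
    exact Subgroup.one_mem _
  inj := by
    rintro _ ⟨a, a', _, rfl⟩ _ ⟨b, b', _, rfl⟩ h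
    rw [← map_inv, ← map_mul, permGL_mem_upper_iff] at h
    have : Equiv.swap a a' = Equiv.swap b b' := by
      rw [← mul_right_inj (Equiv.swap a a')⁻¹, inv_mul_cancel, h]
    rw [this]
  closure_sup := by
    apply le_antisymm
    · apply sup_le
      · rw [Subgroup.closure_le]
        rintro _ ⟨a, a', _, rfl⟩
        exact mono_mem _ _
      · exact inf_le_right
    · rintro _ ⟨d, w, rfl⟩
      rw [mono_eq]
      apply Subgroup.mul_mem
      · exact (le_sup_right : Cfsg.upperTriangularGL n F ⊓ monomialGL n F ≤ _)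
          ⟨mono_one_mem_upperTriangular d, mono_mem _ _⟩
      · exact (le_sup_left : Subgroup.closure (adjSet n F) ≤ _) (permGL_mem_closure w)
  mul_mem_union := by
    rintro _ ⟨a, a', haa, rfl⟩ _ ⟨d, w, rfl⟩ b hb
    exact bn_axiom a a' haa b hb d w
  conj_ne := by
    rintro _ ⟨a, a', haa, rfl⟩ h
    have hlt : a < a' := by rw [Fin.lt_def]; omega
    have hne : a ≠ a' := ne_of_lt hlt
    have h1 : tGL a a' hne (1 : F) ∈ (Cfsg.upperTriangularGL n F : Set (GL (Fin n) F)) :=
      tGL_mem_upper a a' hlt 1
    have h2 : permGL n F (Equiv.swap a a') * tGL a a' hne (1 : F) * permGL n F (Equiv.swap a a') ∈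
        (fun b : GL (Fin n) F => permGL n F (Equiv.swap a a') * b * permGL n F (Equiv.swap a a')) ''
          (Cfsg.upperTriangularGL n F : Set (GL (Fin n) F)) := ⟨_, h1, rfl⟩
    rw [h] at h2
    have h3 := mono_mul_tGL (F := F) (fun _ => (1 : Fˣ)) (Equiv.swap a a') a a' hne 1
    rw [← permGL_apply] at h3
    rw [h3, mul_assoc, permGL_swap_mul_self, mul_one] at h2
    have h4 : ((tGL ((Equiv.swap a a') a) ((Equiv.swap a a') a')
        (fun h => hne ((Equiv.swap a a').injective h))
        ((1 : F) * ((1 : Fˣ) : F) / ((1 : Fˣ) : F)) : GL (Fin n) F) :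
          Matrix (Fin n) (Fin n) F).BlockTriangular id := h2
    have h5 := h4 (show id a < id a' from hlt)
    rw [coe_tGL, Matrix.transvection, Matrix.add_apply, Matrix.one_apply_ne hne.symm,
      Matrix.single_apply, if_pos ⟨by simp, by simp⟩] at h5
    simp at h5

end Cfsg.Agent.Helper17.GLBN
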