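import Mathlib
import Cfsg.Prelude.Def_LinearParabolics
import Cfsg.Agent.Lib.Helper17.GLBNPair
import Cfsg.Agent.Lib.Helper17.BNDoubleCoset

/-!
# Double cosets of parabolic subgroups of `GL_n` and of Young subgroups of `S_n` (helper17)

`card_doubleCoset_eq`: the number of `(P_μ, P_ν)`-double cosets in `GL_n(F)` equals the number of
`(Y_μ, Y_ν)`-double cosets in `S_n`, for arbitrary `μ ν : Fin n → ℕ`.
-/

set_option autoImplicit false
set_option linter.unusedSectionVars false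

open scoped MatrixGroups

namespace Cfsg.Agent.Helper17.GLBN

open Matrix Cfsg.Agent.Helper2.BN

variable {n : ℕ} {F : Type*} [Field F]

theorem compLabel_mono (μ : Fin n → ℕ) : Monotone (Cfsg.compLabel μ) := by
  intro i i' h
  unfold Cfsg.compLabel
  apply Finset.card_le_card
  intro j hj
  rw [Finset.mem_filter] at hj ⊢
  exact ⟨hj.1, le_trans hj.2 (Fin.le_def.1 h)⟩

theorem upper_le_parabolic (μ : Fin n → ℕ) :
    Cfsg.upperTriangularGL n F ≤ Cfsg.parabolicGL n F μ := by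
  intro g hg
  have hg' : (g : Matrix (Fin n) (Fin n) F).BlockTriangular id := hg
  show (g : Matrix (Fin n) (Fin n) F).BlockTriangular (Cfsg.compLabel μ)
  intro i j hij
  apply hg'
  by_contra h
  have : i ≤ j := not_lt.1 h
  exact absurd (compLabel_mono μ this) (not_le.2 hij)

theorem mono_mem_parabolic_iff (μ : Fin n → ℕ) (d : Fin n → Fˣ) (σ : Equiv.Perm (Fin n)) :
    (mono d σ : GL (Fin n) F) ∈ Cfsg.parabolicGL n F μ ↔ σ ∈ Cfsg.youngSubgroup μ :=
  blockTriangular_mono_iff (Cfsg.compLabel μ) d σ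

theorem permGL_mem_parabolic_iff (μ : Fin n → ℕ) (σ : Equiv.Perm (Fin n)) :
    permGL n F σ ∈ Cfsg.parabolicGL n F μ ↔ σ ∈ Cfsg.youngSubgroup μ :=
  mono_mem_parabolic_iff μ _ σ

/-- Bruhat decomposition: every element of `GL_n` lies in `P_μ w P_ν` for a permutation matrix `w` -/
theorem exists_perm_doubleCoset (μ ν : Fin n → ℕ) (g : GL (Fin n) F) :
    ∃ σ : Equiv.Perm (Fin n), g ∈ DoubleCoset.doubleCoset (permGL n F σ)
      (Cfsg.parabolicGL n F μ : Set (GL (Fin n) F)) (Cfsg.parabolicGL n F ν) := by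
  obtain ⟨m, hm⟩ := Cfsg.Agent.Helper17.BNDC.exists_mem_doubleCoset (glBN n F) g
  obtain ⟨d, σ, hmd⟩ := m.2
  rw [DoubleCoset.mem_doubleCoset] at hm
  obtain ⟨b, hb, b', hb', rfl⟩ := hm
  refine ⟨σ, ?_⟩
  rw [DoubleCoset.mem_doubleCoset]
  refine ⟨b * mono d 1, ?_, b', upper_le_parabolic ν hb', ?_⟩
  · exact Subgroup.mul_mem _ (upper_le_parabolic μ hb)
      (upper_le_parabolic μ (mono_one_mem_upperTriangular d))
  · rw [hmd, mono_eq d σ]
    group

theorem perm_mem_doubleCoset_iff (μ ν : Fin n → ℕ) (σ σ' : Equiv.Perm (Fin n)) :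
    permGL n F σ' ∈ DoubleCoset.doubleCoset (permGL n F σ)
      (Cfsg.parabolicGL n F μ : Set (GL (Fin n) F)) (Cfsg.parabolicGL n F ν) ↔
    σ' ∈ DoubleCoset.doubleCoset σ
      (Cfsg.youngSubgroup μ : Set (Equiv.Perm (Fin n))) (Cfsg.youngSubgroup ν) := by
  constructor
  · intro h
    have hmem : ∀ τ : Equiv.Perm (Fin n), permGL n F τ ∈ (glBN n F).N := fun τ => mono_mem _ τ
    obtain ⟨u, v, hu, hv, huv⟩ := Cfsg.Agent.Helper17.BNDC.exists_of_mem_doubleCoset (glBN n F)
      (Cfsg.parabolicGL n F μ) (Cfsg.parabolicGL n F ν) (upper_le_parabolic μ)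
      (upper_le_parabolic ν) ⟨permGL n F σ, hmem σ⟩ ⟨permGL n F σ', hmem σ'⟩ h
    obtain ⟨d₁, σ₁, hu'⟩ := u.2
    obtain ⟨d₂, σ₂, hv'⟩ := v.2
    rw [← map_mul, ← map_mul, π_eq_iff] at huv
    simp only [Subgroup.coe_mul] at huv
    rw [hu'] at huv hu
    rw [hv'] at huv hv
    rw [mono_mem_parabolic_iff] at hu hv
    rw [permGL_apply, permGL_apply, mono_inv, mono_mul, mono_mul, mono_mul] at huv
    have h1 := perm_eq_one_of_mem_upperTriangular _ _ huv
    rw [DoubleCoset.mem_doubleCoset]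
    refine ⟨σ₁, hu, σ₂, hv, ?_⟩
    have h2 : σ' = σ' * (σ'⁻¹ * (σ₁ * σ * σ₂)) := by rw [h1, mul_one]
    rw [h2]; group
  · intro h
    rw [DoubleCoset.mem_doubleCoset] at h ⊢
    obtain ⟨σ₁, h₁, σ₂, h₂, rfl⟩ := h
    refine ⟨permGL n F σ₁, (permGL_mem_parabolic_iff μ σ₁).2 h₁, permGL n F σ₂,
      (permGL_mem_parabolic_iff ν σ₂).2 h₂, ?_⟩
    rw [map_mul, map_mul]

/-- the number of double cosets of parabolic subgroups of `GL_n` equals the number of double cosets
of the corresponding Young subgroups of `S_n` -/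
theorem card_doubleCoset_eq (μ ν : Fin n → ℕ) :
    Nat.card (DoubleCoset.Quotient (Cfsg.parabolicGL n F μ : Set (GL (Fin n) F))
      (Cfsg.parabolicGL n F ν)) =
    Nat.card (DoubleCoset.Quotient (Cfsg.youngSubgroup μ : Set (Equiv.Perm (Fin n)))
      (Cfsg.youngSubgroup ν)) := by
  symm
  let f : DoubleCoset.Quotient (Cfsg.youngSubgroup μ : Set (Equiv.Perm (Fin n)))
      (Cfsg.youngSubgroup ν) →
      DoubleCoset.Quotient (Cfsg.parabolicGL n F μ : Set (GL (Fin n) F))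
        (Cfsg.parabolicGL n F ν) :=
    Quotient.map' (permGL n F) (by
      intro σ σ' h
      rw [DoubleCoset.rel_iff] at h ⊢
      have h' : σ' ∈ DoubleCoset.doubleCoset σ
          (Cfsg.youngSubgroup μ : Set (Equiv.Perm (Fin n))) (Cfsg.youngSubgroup ν) :=
        DoubleCoset.mem_doubleCoset.2 h
      exact DoubleCoset.mem_doubleCoset.1 ((perm_mem_doubleCoset_iff μ ν σ σ').2 h'))
  apply Nat.card_eq_of_bijective f
  constructor
  · intro x y hxy
    induction x using Quotient.inductionOn' with | h σ => ?_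
    induction y using Quotient.inductionOn' with | h σ' => ?_
    have h1 : DoubleCoset.mk (Cfsg.parabolicGL n F μ) (Cfsg.parabolicGL n F ν) (permGL n F σ) =
        DoubleCoset.mk (Cfsg.parabolicGL n F μ) (Cfsg.parabolicGL n F ν) (permGL n F σ') := hxy
    show DoubleCoset.mk (Cfsg.youngSubgroup μ) (Cfsg.youngSubgroup ν) σ =
      DoubleCoset.mk (Cfsg.youngSubgroup μ) (Cfsg.youngSubgroup ν) σ'
    rw [DoubleCoset.eq] at h1 ⊢
    have h2 := (perm_mem_doubleCoset_iff (F := F) μ ν σ σ').1 (DoubleCoset.mem_doubleCoset.2 h1)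
    exact DoubleCoset.mem_doubleCoset.1 h2
  · intro y
    induction y using Quotient.inductionOn' with | h g => ?_
    obtain ⟨σ, hσ⟩ := exists_perm_doubleCoset μ ν g
    refine ⟨DoubleCoset.mk (Cfsg.youngSubgroup μ) (Cfsg.youngSubgroup ν) σ, ?_⟩
    show DoubleCoset.mk (Cfsg.parabolicGL n F μ) (Cfsg.parabolicGL n F ν) (permGL n F σ) =
      DoubleCoset.mk (Cfsg.parabolicGL n F μ) (Cfsg.parabolicGL n F ν) g
    rw [DoubleCoset.eq]
    exact DoubleCoset.mem_doubleCoset.1 hσ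

end Cfsg.Agent.Helper17.GLBN
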