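import Mathlib

/-!
# Jacobi–Trudi versus the bialternant, and an orthogonality relation (helper17)

Over `R = ℤ[y_0, …, y_{n-1}]`: `hh n m` is the complete homogeneous polynomial of degree `m` (coefficient
of `t^m` in `∏_k (1 - y_k t)⁻¹`), `Am n a = (y_k ^ a_i)`, `Hm n a = (h_{a_i - r})`.
* `det_Am`: `det (y_k ^ a_i) = det (h_{a_i - r}) * det (y_k ^ i)`.
* `orthogonality`: for strictly increasing `a a' : Fin n → ℕ`,
  `∑_{κ, κ'} sign κ sign κ' N(a - κ, a' - κ') = [a = a']` where `N(c, b) = Ncoef n c (fs n b)` is the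
  coefficient of `y^b` in `∏_i h_{c_i}`.
-/

set_option autoImplicit false
set_option linter.unusedSectionVars false

namespace Cfsg.Agent.Helper17.JT

open Finset

variable (n : ℕ)

/-- the coefficient ring -/
abbrev R := MvPolynomial (Fin n) ℤ

/-- the geometric series `∑ y_k^m t^m` -/
noncomputable def Gs (k : Fin n) : PowerSeries (R n) :=
  PowerSeries.mk fun m => (MvPolynomial.X k : R n) ^ m

/-- the linear polynomial `1 - y_k t` -/
noncomputable def Lp (k : Fin n) : Polynomial (R n) :=
  1 - Polynomial.C (MvPolynomial.X k : R n) * Polynomial.X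

theorem Lp_mul_Gs (k : Fin n) : ((Lp n k : Polynomial (R n)) : PowerSeries (R n)) * Gs n k = 1 := by
  refine PowerSeries.ext (fun m => ?_)
  rw [Lp, Polynomial.coe_sub, Polynomial.coe_one, Polynomial.coe_mul, Polynomial.coe_C,
    Polynomial.coe_X, sub_mul, one_mul, map_sub, mul_assoc, PowerSeries.coeff_C_mul]
  cases m with
  | zero =>
    simp [Gs]
  | succ m =>
    rw [PowerSeries.coeff_succ_X_mul, Gs, PowerSeries.coeff_mk, PowerSeries.coeff_mk,
      PowerSeries.coeff_one, if_neg (Nat.succ_ne_zero m), pow_succ]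
    ring

/-- the generating function of the complete homogeneous polynomials -/
noncomputable def Hs : PowerSeries (R n) := ∏ k, Gs n k

/-- the polynomial `∏_{l ≠ k} (1 - y_l t)` -/
noncomputable def Ep (k : Fin n) : Polynomial (R n) := ∏ l ∈ univ.erase k, Lp n l

theorem Ep_mul_Hs (k : Fin n) : ((Ep n k : Polynomial (R n)) : PowerSeries (R n)) * Hs n = Gs n k := by
  have h1 : ((Ep n k : Polynomial (R n)) : PowerSeries (R n)) =
      ∏ l ∈ univ.erase k, ((Lp n l : Polynomial (R n)) : PowerSeries (R n)) := by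
    rw [Ep, ← Polynomial.coeToPowerSeries.ringHom_apply, map_prod]
    rfl
  rw [h1, Hs, ← Finset.mul_prod_erase univ (Gs n) (mem_univ k), mul_comm (Gs n k), ← mul_assoc,
    ← Finset.prod_mul_distrib]
  have h2 : ∀ l ∈ univ.erase k, ((Lp n l : Polynomial (R n)) : PowerSeries (R n)) * Gs n l = 1 :=
    fun l _ => Lp_mul_Gs n l
  rw [Finset.prod_congr rfl h2, Finset.prod_const_one, one_mul]

/-- the complete homogeneous polynomial of degree `m` -/
noncomputable def hh (m : ℕ) : R n := PowerSeries.coeff m (Hs n)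

/-- the coefficients of `∏_{l ≠ k} (1 - y_l t)` -/
noncomputable def ee (k : Fin n) (r : ℕ) : R n := (Ep n k).coeff r

theorem natDegree_Lp_le (k : Fin n) : (Lp n k).natDegree ≤ 1 := by
  rw [Lp]
  refine le_trans (Polynomial.natDegree_sub_le _ _) ?_
  rw [Polynomial.natDegree_one]
  exact max_le (Nat.zero_le _) ((Polynomial.natDegree_C_mul_le _ _).trans Polynomial.natDegree_X_le)

theorem ee_eq_zero (k : Fin n) (r : ℕ) (hr : n ≤ r) : ee n k r = 0 := by
  rw [ee]
  apply Polynomial.coeff_eq_zero_of_natDegree_lt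
  have h1 : (Ep n k).natDegree ≤ ∑ l ∈ univ.erase k, (Lp n l).natDegree :=
    Polynomial.natDegree_prod_le _ _
  have h2 : ∑ l ∈ univ.erase k, (Lp n l).natDegree ≤ ∑ l ∈ univ.erase k, 1 :=
    Finset.sum_le_sum fun l _ => natDegree_Lp_le n l
  have h3 : ∑ l ∈ univ.erase k, 1 = n - 1 := by
    rw [Finset.sum_const, Finset.card_erase_of_mem (mem_univ k), Finset.card_univ, Fintype.card_fin]
    simp
  have hn : 0 < n := Fin.pos k
  omega

/-- the key identity of generating functions, coefficientwise -/
theorem sum_ee_hh (k : Fin n) (a : ℕ) :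
    ∑ r ∈ range n, ee n k r * (if r ≤ a then hh n (a - r) else 0) = (MvPolynomial.X k : R n) ^ a := by
  have h := congrArg (PowerSeries.coeff a) (Ep_mul_Hs n k)
  rw [PowerSeries.coeff_mul, Finset.Nat.sum_antidiagonal_eq_sum_range_succ_mk, Gs,
    PowerSeries.coeff_mk] at h
  rw [← h]
  simp only [Polynomial.coeff_coe]
  have e1 : ∑ r ∈ range n, ee n k r * (if r ≤ a then hh n (a - r) else 0) =
      ∑ r ∈ (range n).filter (fun r => r ≤ a), ee n k r * hh n (a - r) := by
    rw [Finset.sum_filter]
    apply Finset.sum_congr rfl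
    intro r _
    split_ifs <;> simp
  have e2 : ∑ r ∈ range a.succ, (Ep n k).coeff r * PowerSeries.coeff (a - r) (Hs n) =
      ∑ r ∈ (range a.succ).filter (fun r => r < n), ee n k r * hh n (a - r) := by
    rw [Finset.sum_filter]
    apply Finset.sum_congr rfl
    intro r _
    split_ifs with hr
    · rfl
    · have := ee_eq_zero n k r (not_lt.1 hr)
      rw [ee] at this
      rw [this, zero_mul]
  rw [e1, e2]
  apply Finset.sum_congr
  · ext r
    simp only [mem_filter, mem_range, Nat.lt_succ_iff]
    tauto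
  · intro _ _; rfl


open MvPolynomial in
/-- the matrix of the coefficients of the polynomials `Ep` -/
noncomputable def Mm : Matrix (Fin n) (Fin n) (R n) := Matrix.of fun r k => ee n k r.val

/-- the Jacobi–Trudi matrix `(h_{a_i - r})` -/
noncomputable def Hm (a : Fin n → ℕ) : Matrix (Fin n) (Fin n) (R n) :=
  Matrix.of fun i r => if r.val ≤ a i then hh n (a i - r.val) else 0

/-- the alternant matrix `(y_k ^ a_i)` -/
noncomputable def Am (a : Fin n → ℕ) : Matrix (Fin n) (Fin n) (R n) :=
  Matrix.of fun i k => (MvPolynomial.X k : R n) ^ (a i)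

theorem Hm_mul_Mm (a : Fin n → ℕ) : Hm n a * Mm n = Am n a := by
  refine Matrix.ext (fun i k => ?_)
  rw [Matrix.mul_apply]
  simp only [Hm, Mm, Am, Matrix.of_apply]
  rw [Fin.sum_univ_eq_sum_range (fun r => (if r ≤ a i then hh n (a i - r) else 0) * ee n k r) n,
    ← sum_ee_hh n k (a i)]
  apply Finset.sum_congr rfl
  intro r _
  ring

theorem hh_zero : hh n 0 = 1 := by
  rw [hh, PowerSeries.coeff_zero_eq_constantCoeff_apply, Hs, map_prod]
  apply Finset.prod_eq_one
  intro k _
  rw [Gs, PowerSeries.constantCoeff_mk, pow_zero]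

theorem det_Hm_delta : (Hm n (fun i => i.val)).det = 1 := by
  rw [Matrix.det_of_isLowerTriangular]
  · apply Finset.prod_eq_one
    intro i _
    simp only [Hm, Matrix.of_apply, le_refl, if_true, Nat.sub_self]
    exact hh_zero n
  · intro i r hir
    have hir' : i < r := hir
    simp only [Hm, Matrix.of_apply]
    rw [if_neg]
    exact not_le.2 (Fin.lt_def.1 hir')

/-- Jacobi–Trudi: the alternant is the product of the Jacobi–Trudi determinant and the Vandermonde
alternant -/
theorem det_Am (a : Fin n → ℕ) :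
    (Am n a).det = (Hm n a).det * (Am n (fun i => i.val)).det := by
  have h1 : (Am n a).det = (Hm n a).det * (Mm n).det := by
    rw [← Matrix.det_mul, Hm_mul_Mm]
  have h2 : (Am n (fun i => i.val)).det = (Mm n).det := by
    rw [← Hm_mul_Mm, Matrix.det_mul, det_Hm_delta, one_mul]
  rw [h1, h2]


/-- exponent vectors as finitely supported functions -/
noncomputable def fs (v : Fin n → ℕ) : Fin n →₀ ℕ := Finsupp.equivFunOnFinite.symm v

theorem fs_apply (v : Fin n → ℕ) (i : Fin n) : fs n v i = v i := rfl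

theorem fs_injective : Function.Injective (fs n) := Finsupp.equivFunOnFinite.symm.injective

theorem prod_X_pow (v : Fin n → ℕ) :
    ∏ i, (MvPolynomial.X i : R n) ^ (v i) = MvPolynomial.monomial (fs n v) 1 := by
  rw [MvPolynomial.monic_monomial_eq, Finsupp.prod_fintype]
  · rfl
  · intro i; exact pow_zero _

theorem perm_eq_one_of_strictMono (a a' : Fin n → ℕ) (ha : StrictMono a) (ha' : StrictMono a')
    (σ : Equiv.Perm (Fin n)) (h : a ∘ σ = a') : σ = 1 := by
  have hσ : StrictMono σ := by
    intro i j hij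
    have := ha' hij
    rw [← h] at this
    exact ha.lt_iff_lt.1 this
  have e : StrictMono.orderIsoOfSurjective σ hσ σ.surjective = OrderIso.refl (Fin n) :=
    Subsingleton.elim _ _
  ext i
  have := congrArg (fun f : Fin n ≃o Fin n => (f i).val) e
  simpa using this

theorem det_Am_eq (a : Fin n → ℕ) : (Am n a).det =
    ∑ σ : Equiv.Perm (Fin n), MvPolynomial.C ((Equiv.Perm.sign σ : ℤ)) *
      MvPolynomial.monomial (fs n (a ∘ σ)) 1 := by
  rw [Matrix.det_apply']
  apply Finset.sum_congr rfl
  intro σ _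
  rw [eq_intCast]
  congr 1
  simp only [Am, Matrix.of_apply]
  exact prod_X_pow n (a ∘ σ)

theorem coeff_det_Am (a a' : Fin n → ℕ) (ha : StrictMono a) (ha' : StrictMono a') :
    MvPolynomial.coeff (fs n a') (Am n a).det = if a = a' then 1 else 0 := by
  classical
  rw [det_Am_eq, MvPolynomial.coeff_sum]
  simp only [MvPolynomial.coeff_C_mul, MvPolynomial.coeff_monomial]
  by_cases h : a = a'
  · subst h
    rw [if_pos rfl, Finset.sum_eq_single 1]
    · simp
    · intro σ _ hσ
      rw [if_neg, mul_zero]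
      intro h1
      exact hσ (perm_eq_one_of_strictMono n a a ha ha σ (fs_injective n h1))
    · intro h1; exact absurd (Finset.mem_univ _) h1
  · rw [if_neg h]
    apply Finset.sum_eq_zero
    intro σ _
    rw [if_neg, mul_zero]
    intro h1
    have h2 := fs_injective n h1
    have h3 := perm_eq_one_of_strictMono n a a' ha ha' σ h2
    rw [h3] at h2
    exact h h2


/-- the coefficients of the products of complete homogeneous polynomials -/
noncomputable def Ncoef (c : Fin n → ℕ) (b : Fin n →₀ ℕ) : ℤ :=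
  MvPolynomial.coeff b (∏ i, hh n (c i))

theorem det_Hm_eq (a : Fin n → ℕ) : (Hm n a).det =
    ∑ κ : Equiv.Perm (Fin n), MvPolynomial.C ((Equiv.Perm.sign κ : ℤ)) *
      (if ∀ i, (κ i).val ≤ a i then ∏ i, hh n (a i - (κ i).val) else 0) := by
  rw [← Matrix.det_transpose, Matrix.det_apply']
  apply Finset.sum_congr rfl
  intro κ _
  rw [eq_intCast]
  congr 1
  simp only [Matrix.transpose_apply, Hm, Matrix.of_apply]
  by_cases h : ∀ i, (κ i).val ≤ a i
  · rw [if_pos h]
    apply Finset.prod_congr rfl
    intro i _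
    rw [if_pos (h i)]
  · rw [if_neg h]
    push Not at h
    obtain ⟨i, hi⟩ := h
    apply Finset.prod_eq_zero (Finset.mem_univ i)
    rw [if_neg (not_le.2 hi)]

theorem fs_le_iff (v w : Fin n → ℕ) : fs n v ≤ fs n w ↔ ∀ i, v i ≤ w i := by
  rw [Finsupp.le_def]
  rfl

theorem fs_sub (v w : Fin n → ℕ) : fs n w - fs n v = fs n (fun i => w i - v i) := by
  ext i
  rw [Finsupp.tsub_apply]
  rfl

/-- orthogonality of the alternating sums, in terms of the coefficients `Ncoef` -/
theorem orthogonality (a a' : Fin n → ℕ) (ha : StrictMono a) (ha' : StrictMono a') :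
    ∑ κ : Equiv.Perm (Fin n), ∑ κ' : Equiv.Perm (Fin n),
      (if (∀ i, (κ i).val ≤ a i) ∧ (∀ i, (κ' i).val ≤ a' i) then
        (Equiv.Perm.sign κ : ℤ) * (Equiv.Perm.sign κ' : ℤ) *
          Ncoef n (fun i => a i - (κ i).val) (fs n (fun i => a' i - (κ' i).val))
      else 0) = if a = a' then 1 else 0 := by
  classical
  rw [← coeff_det_Am n a a' ha ha', det_Am, det_Hm_eq, det_Am_eq, Finset.sum_mul_sum,
    MvPolynomial.coeff_sum]
  apply Finset.sum_congr rfl
  intro κ _
  rw [MvPolynomial.coeff_sum]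
  apply Finset.sum_congr rfl
  intro κ' _
  have e : MvPolynomial.C ((Equiv.Perm.sign κ : ℤ)) *
      (if ∀ i, (κ i).val ≤ a i then ∏ i, hh n (a i - (κ i).val) else 0) *
      (MvPolynomial.C ((Equiv.Perm.sign κ' : ℤ)) *
        MvPolynomial.monomial (fs n ((fun i : Fin n => i.val) ∘ κ')) 1) =
      MvPolynomial.C ((Equiv.Perm.sign κ : ℤ) * (Equiv.Perm.sign κ' : ℤ)) *
        ((if ∀ i, (κ i).val ≤ a i then ∏ i, hh n (a i - (κ i).val) else 0) *
          MvPolynomial.monomial (fs n ((fun i : Fin n => i.val) ∘ κ')) 1) := by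
    rw [map_mul]; ring
  rw [e, MvPolynomial.coeff_C_mul, MvPolynomial.coeff_mul_monomial', mul_one]
  by_cases h1 : ∀ i, (κ i).val ≤ a i
  · by_cases h2 : ∀ i, (κ' i).val ≤ a' i
    · rw [if_pos ⟨h1, h2⟩, if_pos h1,
        if_pos ((fs_le_iff n ((fun i : Fin n => i.val) ∘ κ') a').2 h2),
        fs_sub n ((fun i : Fin n => i.val) ∘ κ') a']
      rfl
    · rw [if_neg (fun h => h2 h.2),
        if_neg (fun h => h2 ((fs_le_iff n ((fun i : Fin n => i.val) ∘ κ') a').1 h)), mul_zero]
  · rw [if_neg (fun h => h1 h.1), if_neg h1]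
    simp

/-- contingency matrices with prescribed row and column sums -/
def IsCont (c b : Fin n → ℕ) (A : Fin n → Fin n → ℕ) : Prop :=
  (∀ i, ∑ j, A i j = c i) ∧ (∀ j, ∑ i, A i j = b j)

theorem hh_eq (m : ℕ) :
    hh n m = ∑ l ∈ finsuppAntidiag (univ : Finset (Fin n)) m, MvPolynomial.monomial l (1 : ℤ) := by
  classical
  rw [hh, Hs, PowerSeries.coeff_prod]
  apply Finset.sum_congr rfl
  intro l _
  simp only [Gs, PowerSeries.coeff_mk]
  rw [prod_X_pow n (fun k => l k)]
  have : fs n (fun k => l k) = l := by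
    ext k; rfl
  rw [this]

theorem prod_hh_eq (c : Fin n → ℕ) :
    ∏ i, hh n (c i) = ∑ A ∈ Fintype.piFinset (fun i => finsuppAntidiag (univ : Finset (Fin n)) (c i)),
      MvPolynomial.monomial (∑ i, A i) (1 : ℤ) := by
  classical
  simp only [hh_eq]
  rw [Finset.prod_univ_sum]
  apply Finset.sum_congr rfl
  intro A _
  rw [MvPolynomial.monomial_sum_one]

theorem Ncoef_eq_card (c : Fin n → ℕ) (b : Fin n →₀ ℕ) :
    Ncoef n c b = (((Fintype.piFinset (fun i => finsuppAntidiag (univ : Finset (Fin n)) (c i))).filter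
      (fun A => ∑ i, A i = b)).card : ℤ) := by
  classical
  rw [Ncoef, prod_hh_eq, MvPolynomial.coeff_sum]
  simp only [MvPolynomial.coeff_monomial]
  rw [Finset.card_filter]
  push_cast
  rfl

theorem Ncoef_eq (c b : Fin n → ℕ) :
    Ncoef n c (fs n b) = (Nat.card {A : Fin n → Fin n → ℕ // IsCont n c b A} : ℤ) := by
  classical
  rw [Ncoef_eq_card]
  congr 1
  rw [← Fintype.card_coe, ← Nat.card_eq_fintype_card]
  apply Nat.card_congr
  refine
    { toFun := fun A => ⟨fun i j => A.1 i j, ?_⟩
      invFun := fun A => ⟨fun i => fs n (A.1 i), ?_⟩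
      left_inv := fun A => by
        apply Subtype.ext
        funext i
        ext j
        rfl
      right_inv := fun A => by
        apply Subtype.ext
        rfl }
  · have hA := A.2
    rw [Finset.mem_filter, Fintype.mem_piFinset] at hA
    constructor
    · intro i
      have := (hA.1 i)
      rw [mem_finsuppAntidiag] at this
      exact this.1
    · intro j
      have := congrArg (fun f : Fin n →₀ ℕ => f j) hA.2
      simp only [Finsupp.finsetSum_apply, fs_apply] at this
      exact this
  · rw [Finset.mem_filter, Fintype.mem_piFinset]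
    constructor
    · intro i
      rw [mem_finsuppAntidiag]
      exact ⟨A.2.1 i, Finset.subset_univ _⟩
    · ext j
      simp only [Finsupp.finsetSum_apply, fs_apply]
      exact A.2.2 j

end Cfsg.Agent.Helper17.JT
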