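import Mathlib

/-!
# Counting nilpotent matrices, part 1: the conjugates of block diagonal matrices
`diag (N, A)` with `N` nilpotent and `A` invertible (helper17)
-/

set_option autoImplicit false
set_option linter.unusedSectionVars false

namespace Cfsg.Agent.Helper17.NilCount

open Matrix

variable {F : Type*} [Field F] {α β : Type*} [Fintype α] [DecidableEq α] [Fintype β]
  [DecidableEq β]

/-- the block diagonal matrix -/
def dg (N : Matrix α α F) (A : Matrix β β F) : Matrix (α ⊕ β) (α ⊕ β) F :=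
  Matrix.fromBlocks N 0 0 A

theorem dg_mul (N N' : Matrix α α F) (A A' : Matrix β β F) :
    dg N A * dg N' A' = dg (N * N') (A * A') := by
  rw [dg, dg, dg, Matrix.fromBlocks_multiply]
  simp

theorem dg_one : dg (1 : Matrix α α F) (1 : Matrix β β F) = 1 := Matrix.fromBlocks_one

theorem dg_inj {N N' : Matrix α α F} {A A' : Matrix β β F} (h : dg N A = dg N' A') :
    N = N' ∧ A = A' := by
  rw [dg, dg, Matrix.fromBlocks_inj] at h
  exact ⟨h.1, h.2.2.2⟩

theorem dg_pow (N : Matrix α α F) (A : Matrix β β F) (m : ℕ) :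
    dg N A ^ m = dg (N ^ m) (A ^ m) := Matrix.fromBlocks_diagonal_pow N A m

/-- rectangular cancellation -/
theorem eq_zero_of_mul_unit {γ : Type*} [Fintype γ] (X : Matrix γ β F) (U : Matrix β β F)
    (hU : IsUnit U) (h : X * U = 0) : X = 0 := by
  obtain ⟨u, rfl⟩ := hU
  have : X = X * (u : Matrix β β F) * ((u⁻¹ : (Matrix β β F)ˣ) : Matrix β β F) := by
    rw [Matrix.mul_assoc, Units.mul_inv, Matrix.mul_one]
  rw [this, h, Matrix.zero_mul]

theorem eq_zero_of_unit_mul {γ : Type*} [Fintype γ] (X : Matrix β γ F) (U : Matrix β β F)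
    (hU : IsUnit U) (h : U * X = 0) : X = 0 := by
  obtain ⟨u, rfl⟩ := hU
  have : X = ((u⁻¹ : (Matrix β β F)ˣ) : Matrix β β F) * ((u : Matrix β β F) * X) := by
    rw [← Matrix.mul_assoc, Units.inv_mul, Matrix.one_mul]
  rw [this, h, Matrix.mul_zero]

/-- an intertwiner between two block diagonal matrices with nilpotent first and invertible second
block is block diagonal -/
theorem intertwiner_diag (N N' : Matrix α α F) (A A' : Matrix β β F) (hN : IsNilpotent N)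
    (hN' : IsNilpotent N') (hA : IsUnit A) (hA' : IsUnit A')
    (h : Matrix (α ⊕ β) (α ⊕ β) F) (hh : h * dg N A = dg N' A' * h) :
    h = dg h.toBlocks₁₁ h.toBlocks₂₂ ∧ h.toBlocks₁₁ * N = N' * h.toBlocks₁₁ ∧
      h.toBlocks₂₂ * A = A' * h.toBlocks₂₂ := by
  have hh' := hh
  rw [← Matrix.fromBlocks_toBlocks h, dg, dg, Matrix.fromBlocks_multiply,
    Matrix.fromBlocks_multiply, Matrix.fromBlocks_inj] at hh'
  simp only [Matrix.mul_zero, Matrix.zero_mul, add_zero, zero_add] at hh'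
  obtain ⟨e1, e2, e3, e4⟩ := hh'
  have h12 : h.toBlocks₁₂ = 0 := by
    obtain ⟨m, hm⟩ := hN'
    have : ∀ i : ℕ, h.toBlocks₁₂ * A ^ i = N' ^ i * h.toBlocks₁₂ := by
      intro i
      induction i with
      | zero => simp
      | succ i ih =>
        rw [pow_succ, ← Matrix.mul_assoc, ih, Matrix.mul_assoc, e2, ← Matrix.mul_assoc, ← pow_succ]
    have h1 := this m
    rw [hm, Matrix.zero_mul] at h1
    exact eq_zero_of_mul_unit _ _ (hA.pow m) h1
  have h21 : h.toBlocks₂₁ = 0 := by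
    obtain ⟨m, hm⟩ := hN
    have : ∀ i : ℕ, h.toBlocks₂₁ * N ^ i = A' ^ i * h.toBlocks₂₁ := by
      intro i
      induction i with
      | zero => simp
      | succ i ih =>
        rw [pow_succ, ← Matrix.mul_assoc, ih, Matrix.mul_assoc, e3, ← Matrix.mul_assoc, ← pow_succ]
    have h1 := this m
    rw [hm, Matrix.mul_zero] at h1
    exact eq_zero_of_unit_mul _ _ (hA'.pow m) h1.symm
  refine ⟨?_, e1, e4⟩
  conv_lhs => rw [← Matrix.fromBlocks_toBlocks h, h12, h21]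
  rfl

/-- the block diagonal element of the general linear group -/
def dgGL (h₁ : GL α F) (h₂ : GL β F) : GL (α ⊕ β) F :=
  ⟨dg (h₁ : Matrix α α F) (h₂ : Matrix β β F),
    dg ((h₁⁻¹ : GL α F) : Matrix α α F) ((h₂⁻¹ : GL β F) : Matrix β β F),
    by rw [dg_mul, Units.mul_inv, Units.mul_inv, dg_one],
    by rw [dg_mul, Units.inv_mul, Units.inv_mul, dg_one]⟩

theorem coe_dgGL (h₁ : GL α F) (h₂ : GL β F) :
    ((dgGL h₁ h₂ : GL (α ⊕ β) F) : Matrix (α ⊕ β) (α ⊕ β) F) =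
      dg (h₁ : Matrix α α F) (h₂ : Matrix β β F) := rfl

theorem coe_dgGL_inv (h₁ : GL α F) (h₂ : GL β F) :
    (((dgGL h₁ h₂)⁻¹ : GL (α ⊕ β) F) : Matrix (α ⊕ β) (α ⊕ β) F) =
      dg ((h₁⁻¹ : GL α F) : Matrix α α F) ((h₂⁻¹ : GL β F) : Matrix β β F) := rfl

theorem dgGL_injective {h₁ h₁' : GL α F} {h₂ h₂' : GL β F} (h : dgGL h₁ h₂ = dgGL h₁' h₂') :
    h₁ = h₁' ∧ h₂ = h₂' := by
  have := congrArg (fun g : GL (α ⊕ β) F => (g : Matrix (α ⊕ β) (α ⊕ β) F)) h
  simp only [coe_dgGL] at this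
  obtain ⟨e1, e2⟩ := dg_inj this
  exact ⟨Units.ext e1, Units.ext e2⟩

variable (F α β) in
/-- the source of the parametrisation -/
abbrev Src := GL (α ⊕ β) F × {N : Matrix α α F // IsNilpotent N} × GL β F

/-- the parametrisation -/
def Phi (s : Src F α β) : Matrix (α ⊕ β) (α ⊕ β) F :=
  (s.1 : Matrix (α ⊕ β) (α ⊕ β) F) * dg (s.2.1 : Matrix α α F) (s.2.2 : Matrix β β F) *
    ((s.1⁻¹ : GL (α ⊕ β) F) : Matrix (α ⊕ β) (α ⊕ β) F)

theorem isNilpotent_conj (h : GL α F) {N : Matrix α α F} (hN : IsNilpotent N) :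
    IsNilpotent ((h : Matrix α α F) * N * ((h⁻¹ : GL α F) : Matrix α α F)) := by
  obtain ⟨m, hm⟩ := hN
  refine ⟨m, ?_⟩
  have : ∀ i : ℕ, ((h : Matrix α α F) * N * ((h⁻¹ : GL α F) : Matrix α α F)) ^ i =
      (h : Matrix α α F) * N ^ i * ((h⁻¹ : GL α F) : Matrix α α F) := by
    intro i
    induction i with
    | zero => simp
    | succ i ih =>
      rw [pow_succ, ih, pow_succ]
      calc (h : Matrix α α F) * N ^ i * ((h⁻¹ : GL α F) : Matrix α α F) *
            ((h : Matrix α α F) * N * ((h⁻¹ : GL α F) : Matrix α α F))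
          = (h : Matrix α α F) * N ^ i * (((h⁻¹ : GL α F) : Matrix α α F) * (h : Matrix α α F)) *
              N * ((h⁻¹ : GL α F) : Matrix α α F) := by simp only [mul_assoc]
        _ = _ := by rw [Units.inv_mul, mul_one, mul_assoc (h : Matrix α α F)]
  rw [this, hm, mul_zero, zero_mul]

/-- the action of the block diagonal group on the source -/
def act (h : GL α F × GL β F) (s : Src F α β) : Src F α β :=
  (s.1 * (dgGL h.1 h.2)⁻¹,
    ⟨(h.1 : Matrix α α F) * s.2.1 * ((h.1⁻¹ : GL α F) : Matrix α α F), isNilpotent_conj h.1 s.2.1.2⟩,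
    h.2 * s.2.2 * h.2⁻¹)

theorem Phi_act (h : GL α F × GL β F) (s : Src F α β) : Phi (act h s) = Phi s := by
  rcases s with ⟨g, ⟨N, hN⟩, A⟩
  rcases h with ⟨h₁, h₂⟩
  simp only [Phi, act]
  have e1 : ((g * (dgGL h₁ h₂)⁻¹ : GL (α ⊕ β) F) : Matrix (α ⊕ β) (α ⊕ β) F) =
      (g : Matrix (α ⊕ β) (α ⊕ β) F) *
        dg ((h₁⁻¹ : GL α F) : Matrix α α F) ((h₂⁻¹ : GL β F) : Matrix β β F) := by
    rw [Units.val_mul, coe_dgGL_inv]
  have e2 : (((g * (dgGL h₁ h₂)⁻¹)⁻¹ : GL (α ⊕ β) F) : Matrix (α ⊕ β) (α ⊕ β) F) =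
      dg (h₁ : Matrix α α F) (h₂ : Matrix β β F) *
        ((g⁻¹ : GL (α ⊕ β) F) : Matrix (α ⊕ β) (α ⊕ β) F) := by
    rw [_root_.mul_inv_rev, inv_inv, Units.val_mul, coe_dgGL]
  have e3 : ((h₂ * A * h₂⁻¹ : GL β F) : Matrix β β F) =
      (h₂ : Matrix β β F) * (A : Matrix β β F) * ((h₂⁻¹ : GL β F) : Matrix β β F) := by
    rw [Units.val_mul, Units.val_mul]
  rw [e1, e2, e3]
  have e4 : dg ((h₁⁻¹ : GL α F) : Matrix α α F) ((h₂⁻¹ : GL β F) : Matrix β β F) *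
      dg ((h₁ : Matrix α α F) * N * ((h₁⁻¹ : GL α F) : Matrix α α F))
        ((h₂ : Matrix β β F) * (A : Matrix β β F) * ((h₂⁻¹ : GL β F) : Matrix β β F)) *
      dg (h₁ : Matrix α α F) (h₂ : Matrix β β F) = dg N (A : Matrix β β F) := by
    rw [dg_mul, dg_mul]
    congr 1
    · rw [← mul_assoc, ← mul_assoc, Units.inv_mul, one_mul, mul_assoc, Units.inv_mul, mul_one]
    · rw [← mul_assoc, ← mul_assoc, Units.inv_mul, one_mul, mul_assoc, Units.inv_mul, mul_one]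
  calc (g : Matrix (α ⊕ β) (α ⊕ β) F) *
        dg ((h₁⁻¹ : GL α F) : Matrix α α F) ((h₂⁻¹ : GL β F) : Matrix β β F) *
        dg ((h₁ : Matrix α α F) * N * ((h₁⁻¹ : GL α F) : Matrix α α F))
          ((h₂ : Matrix β β F) * (A : Matrix β β F) * ((h₂⁻¹ : GL β F) : Matrix β β F)) *
        (dg (h₁ : Matrix α α F) (h₂ : Matrix β β F) *
          ((g⁻¹ : GL (α ⊕ β) F) : Matrix (α ⊕ β) (α ⊕ β) F))
      = (g : Matrix (α ⊕ β) (α ⊕ β) F) *
        (dg ((h₁⁻¹ : GL α F) : Matrix α α F) ((h₂⁻¹ : GL β F) : Matrix β β F) *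
        dg ((h₁ : Matrix α α F) * N * ((h₁⁻¹ : GL α F) : Matrix α α F))
          ((h₂ : Matrix β β F) * (A : Matrix β β F) * ((h₂⁻¹ : GL β F) : Matrix β β F)) *
        dg (h₁ : Matrix α α F) (h₂ : Matrix β β F)) *
          ((g⁻¹ : GL (α ⊕ β) F) : Matrix (α ⊕ β) (α ⊕ β) F) := by simp only [mul_assoc]
    _ = _ := by rw [e4]


theorem act_injective (s₀ : Src F α β) : Function.Injective (fun x : GL α F × GL β F => act x s₀) := by
  intro x y hxy
  have h1 := congrArg Prod.fst hxy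
  simp only [act] at h1
  have h2 : dgGL x.1 x.2 = dgGL y.1 y.2 := by
    have := mul_left_cancel h1
    exact inv_injective this
  obtain ⟨e1, e2⟩ := dgGL_injective h2
  exact Prod.ext e1 e2

theorem exists_act_of_Phi_eq (s s₀ : Src F α β) (h : Phi s = Phi s₀) :
    ∃ x : GL α F × GL β F, act x s₀ = s := by
  rcases s with ⟨g, ⟨N, hN⟩, A⟩
  rcases s₀ with ⟨g₀, ⟨N₀, hN₀⟩, A₀⟩
  simp only [Phi] at h
  set D := dg N (A : Matrix β β F) with hD
  set D₀ := dg N₀ (A₀ : Matrix β β F) with hD₀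
  -- the intertwiners
  have hk : ((g⁻¹ * g₀ : GL (α ⊕ β) F) : Matrix (α ⊕ β) (α ⊕ β) F) * D₀ =
      D * ((g⁻¹ * g₀ : GL (α ⊕ β) F) : Matrix (α ⊕ β) (α ⊕ β) F) := by
    have h1 : D₀ = ((g₀⁻¹ : GL (α ⊕ β) F) : Matrix (α ⊕ β) (α ⊕ β) F) *
        ((g₀ : Matrix (α ⊕ β) (α ⊕ β) F) * D₀ *
          ((g₀⁻¹ : GL (α ⊕ β) F) : Matrix (α ⊕ β) (α ⊕ β) F)) *
        (g₀ : Matrix (α ⊕ β) (α ⊕ β) F) := by
      rw [← mul_assoc, ← mul_assoc, Units.inv_mul, one_mul, mul_assoc, Units.inv_mul, mul_one]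
    rw [Units.val_mul]
    conv_lhs => rw [h1, ← h]
    simp only [← mul_assoc]
    rw [mul_assoc _ (g₀ : Matrix (α ⊕ β) (α ⊕ β) F), Units.mul_inv, mul_one, Units.inv_mul,
      one_mul]
  have hl : ((g₀⁻¹ * g : GL (α ⊕ β) F) : Matrix (α ⊕ β) (α ⊕ β) F) * D =
      D₀ * ((g₀⁻¹ * g : GL (α ⊕ β) F) : Matrix (α ⊕ β) (α ⊕ β) F) := by
    have h1 : D = ((g⁻¹ : GL (α ⊕ β) F) : Matrix (α ⊕ β) (α ⊕ β) F) *
        ((g : Matrix (α ⊕ β) (α ⊕ β) F) * D *
          ((g⁻¹ : GL (α ⊕ β) F) : Matrix (α ⊕ β) (α ⊕ β) F)) *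
        (g : Matrix (α ⊕ β) (α ⊕ β) F) := by
      rw [← mul_assoc, ← mul_assoc, Units.inv_mul, one_mul, mul_assoc, Units.inv_mul, mul_one]
    rw [Units.val_mul]
    conv_lhs => rw [h1, h]
    simp only [← mul_assoc]
    rw [mul_assoc _ (g : Matrix (α ⊕ β) (α ⊕ β) F), Units.mul_inv, mul_one, Units.inv_mul,
      one_mul]
  obtain ⟨k0, k1, k2⟩ := intertwiner_diag N₀ N (A₀ : Matrix β β F) (A : Matrix β β F) hN₀ hN
    A₀.isUnit A.isUnit _ hk
  obtain ⟨l0, l1, l2⟩ := intertwiner_diag N N₀ (A : Matrix β β F) (A₀ : Matrix β β F) hN hN₀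
    A.isUnit A₀.isUnit _ hl
  set K := ((g⁻¹ * g₀ : GL (α ⊕ β) F) : Matrix (α ⊕ β) (α ⊕ β) F) with hK
  set L := ((g₀⁻¹ * g : GL (α ⊕ β) F) : Matrix (α ⊕ β) (α ⊕ β) F) with hL
  have hKL : K * L = 1 := by
    rw [hK, hL, ← Units.val_mul]
    simp
  have hLK : L * K = 1 := by
    rw [hK, hL, ← Units.val_mul]
    simp
  have e1 : K.toBlocks₁₁ * L.toBlocks₁₁ = 1 ∧ K.toBlocks₂₂ * L.toBlocks₂₂ = 1 := by
    have := hKL
    rw [k0, l0, dg_mul, ← dg_one] at this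
    exact dg_inj this
  have e2 : L.toBlocks₁₁ * K.toBlocks₁₁ = 1 ∧ L.toBlocks₂₂ * K.toBlocks₂₂ = 1 := by
    have := hLK
    rw [k0, l0, dg_mul, ← dg_one] at this
    exact dg_inj this
  let x₁ : GL α F := ⟨K.toBlocks₁₁, L.toBlocks₁₁, e1.1, e2.1⟩
  let x₂ : GL β F := ⟨K.toBlocks₂₂, L.toBlocks₂₂, e1.2, e2.2⟩
  have hx : dgGL x₁ x₂ = g⁻¹ * g₀ := by
    apply Units.ext
    rw [coe_dgGL]
    exact k0.symm
  refine ⟨(x₁, x₂), ?_⟩
  simp only [act]
  refine Prod.ext ?_ (Prod.ext ?_ ?_)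
  · simp only [hx]
    group
  · apply Subtype.ext
    show K.toBlocks₁₁ * N₀ * L.toBlocks₁₁ = N
    rw [k1, mul_assoc, e1.1, mul_one]
  · apply Units.ext
    show K.toBlocks₂₂ * (A₀ : Matrix β β F) * L.toBlocks₂₂ = (A : Matrix β β F)
    rw [k2, mul_assoc, e1.2, mul_one]

theorem card_fiber [Finite F] (s₀ : Src F α β) :
    Nat.card {s : Src F α β // Phi s = Phi s₀} = Nat.card (GL α F × GL β F) := by
  symm
  apply Nat.card_eq_of_bijective
    (fun x : GL α F × GL β F => (⟨act x s₀, Phi_act x s₀⟩ : {s : Src F α β // Phi s = Phi s₀}))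
  constructor
  · intro x y hxy
    exact act_injective s₀ (congrArg Subtype.val hxy)
  · rintro ⟨s, hs⟩
    obtain ⟨x, hx⟩ := exists_act_of_Phi_eq s s₀ hs
    exact ⟨x, Subtype.ext hx⟩

/-- the number of conjugates of block diagonal matrices -/
theorem card_range_Phi [Finite F] :
    Nat.card (Set.range (Phi (F := F) (α := α) (β := β))) *
      (Nat.card (GL α F) * Nat.card (GL β F)) = Nat.card (Src F α β) := by
  have : Fintype F := Fintype.ofFinite F
  have : Fintype (Set.range (Phi (F := F) (α := α) (β := β))) := Fintype.ofFinite _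
  let f : Src F α β → Set.range (Phi (F := F) (α := α) (β := β)) := fun s => ⟨Phi s, s, rfl⟩
  have e := Equiv.sigmaFiberEquiv f
  rw [← Nat.card_congr e, Nat.card_sigma]
  have hfib : ∀ t : Set.range (Phi (F := F) (α := α) (β := β)),
      Nat.card {s : Src F α β // f s = t} = Nat.card (GL α F) * Nat.card (GL β F) := by
    rintro ⟨t, s₀, rfl⟩
    rw [← Nat.card_prod, ← card_fiber s₀]
    apply Nat.card_congr
    apply Equiv.subtypeEquivRight
    intro s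
    exact Subtype.ext_iff
  simp only [hfib]
  rw [Finset.sum_const, Finset.card_univ, smul_eq_mul, Nat.card_eq_fintype_card]

end Cfsg.Agent.Helper17.NilCount
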