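import Mathlib
import Cfsg.Agent.Lib.Helper17.NilCount1

/-!
# Counting nilpotent matrices, part 2: the Fitting decomposition of a matrix (helper17)
-/

set_option autoImplicit false
set_option linter.unusedSectionVars false

namespace Cfsg.Agent.Helper17.NilCount

open Matrix Module

variable {F : Type*} [Field F] {α β : Type*} [Fintype α] [DecidableEq α] [Fintype β]
  [DecidableEq β]

/-- every matrix whose stable rank is `card β` is conjugate to a block diagonal matrix with a
nilpotent block of size `α` and an invertible block of size `β` -/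
theorem fitting_exists (M : Matrix (α ⊕ β) (α ⊕ β) F)
    (hrank : (M ^ (Fintype.card α + Fintype.card β)).rank = Fintype.card β) :
    M ∈ Set.range (Phi (F := F) (α := α) (β := β)) := by
  classical
  set n := Fintype.card α + Fintype.card β with hn
  let f : Module.End F (α ⊕ β → F) := Matrix.toLinAlgEquiv' M
  have hfn : f ^ n = Matrix.toLinAlgEquiv' (M ^ n) := (map_pow _ _ _).symm
  have hV : finrank F (α ⊕ β → F) = n := by
    rw [Module.finrank_fintype_fun_eq_card, Fintype.card_sum]
  set U := LinearMap.ker (f ^ n) with hU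
  set W := LinearMap.range (f ^ n) with hW
  have hWdim : finrank F W = Fintype.card β := by
    rw [hW, hfn]
    exact hrank
  have hUdim : finrank F U = Fintype.card α := by
    have := LinearMap.finrank_range_add_finrank_ker (f ^ n)
    rw [hV] at this
    have h1 : finrank F (LinearMap.range (f ^ n)) = Fintype.card β := hWdim
    show finrank F (LinearMap.ker (f ^ n)) = Fintype.card α
    omega
  have hdisj : Disjoint U W := by
    rw [Submodule.disjoint_def]
    rintro x hxU ⟨y, rfl⟩
    have h1 : (f ^ (n + n)) y = 0 := by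
      rw [pow_add, Module.End.mul_apply]
      exact hxU
    have h2 : y ∈ LinearMap.ker (f ^ (n + n)) := h1
    rw [Module.End.ker_pow_eq_ker_pow_finrank_of_le (by rw [hV]; omega), hV] at h2
    exact h2
  have hc : IsCompl U W :=
    (Submodule.isCompl_iff_disjoint U W (by rw [hV, hUdim, hWdim])).2 hdisj
  have hfU : ∀ x ∈ U, f x ∈ U := by
    intro x hx
    rw [hU, LinearMap.mem_ker] at hx ⊢
    have : (f ^ n) (f x) = f ((f ^ n) x) := by
      rw [← Module.End.mul_apply, ← Module.End.mul_apply, ← pow_succ, ← pow_succ']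
    rw [this, hx, map_zero]
  have hfW : ∀ x ∈ W, f x ∈ W := by
    rintro _ ⟨y, rfl⟩
    refine ⟨f y, ?_⟩
    rw [← Module.End.mul_apply, ← Module.End.mul_apply, ← pow_succ, ← pow_succ']
  -- bases
  let bU : Basis α F U :=
    (Module.finBasisOfFinrankEq F U hUdim).reindex (Fintype.equivFin α).symm
  let bW : Basis β F W :=
    (Module.finBasisOfFinrankEq F W hWdim).reindex (Fintype.equivFin β).symm
  let e := Submodule.prodEquivOfIsCompl U W hc
  let b : Basis (α ⊕ β) F (α ⊕ β → F) := (bU.prod bW).map e
  have hb_inl : ∀ a, b (Sum.inl a) = (bU a : α ⊕ β → F) := by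
    intro a
    simp [b, e, Basis.prod_apply]
  have hb_inr : ∀ c, b (Sum.inr c) = (bW c : α ⊕ β → F) := by
    intro c
    simp [b, e, Basis.prod_apply]
  have hreprU_inr : ∀ (u : U) (c : β), b.repr (u : α ⊕ β → F) (Sum.inr c) = 0 := by
    intro u c
    simp [b, e, Submodule.prodEquivOfIsCompl_symm_apply_left]
  have hreprU_inl : ∀ (u : U) (a : α), b.repr (u : α ⊕ β → F) (Sum.inl a) = bU.repr u a := by
    intro u a
    simp [b, e, Submodule.prodEquivOfIsCompl_symm_apply_left]
  have hreprW_inl : ∀ (w : W) (a : α), b.repr (w : α ⊕ β → F) (Sum.inl a) = 0 := by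
    intro w a
    simp [b, e, Submodule.prodEquivOfIsCompl_symm_apply_right]
  have hreprW_inr : ∀ (w : W) (c : β), b.repr (w : α ⊕ β → F) (Sum.inr c) = bW.repr w c := by
    intro w c
    simp [b, e, Submodule.prodEquivOfIsCompl_symm_apply_right]
  -- the blocks
  let fU : Module.End F U := f.restrict hfU
  let fW : Module.End F W := f.restrict hfW
  let N : Matrix α α F := LinearMap.toMatrix bU bU fU
  let A₀ : Matrix β β F := LinearMap.toMatrix bW bW fW
  have hD : LinearMap.toMatrix b b f = dg N A₀ := by
    ext i j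
    rw [LinearMap.toMatrix_apply, dg]
    rcases j with a | c
    · rw [hb_inl]
      have h1 : f (bU a : α ⊕ β → F) = ((fU (bU a) : U) : α ⊕ β → F) := rfl
      rw [h1]
      rcases i with a' | c'
      · rw [hreprU_inl, Matrix.fromBlocks_apply₁₁]
        show _ = LinearMap.toMatrix bU bU fU a' a
        rw [LinearMap.toMatrix_apply]
      · rw [hreprU_inr, Matrix.fromBlocks_apply₂₁]
        rfl
    · rw [hb_inr]
      have h1 : f (bW c : α ⊕ β → F) = ((fW (bW c) : W) : α ⊕ β → F) := rfl
      rw [h1]
      rcases i with a' | c'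
      · rw [hreprW_inl, Matrix.fromBlocks_apply₁₂]
        rfl
      · rw [hreprW_inr, Matrix.fromBlocks_apply₂₂]
        show _ = LinearMap.toMatrix bW bW fW c' c
        rw [LinearMap.toMatrix_apply]
  -- nilpotency of `N`
  have hN : IsNilpotent N := by
    refine ⟨n, ?_⟩
    show (LinearMap.toMatrix bU bU fU) ^ n = 0
    rw [LinearMap.toMatrix_pow]
    have : fU ^ n = 0 := by
      rw [Module.End.pow_restrict n hfU]
      ext x
      have hx : (f ^ n) (x : α ⊕ β → F) = 0 := LinearMap.mem_ker.1 x.2
      simp [hx]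
    rw [this, map_zero]
  -- invertibility of `A₀`
  have hA₀ : IsUnit A₀ := by
    have h1 : IsUnit fW := by
      rw [LinearMap.isUnit_iff_ker_eq_bot, LinearMap.ker_eq_bot']
      intro w hw
      have h2 : f (w : α ⊕ β → F) = 0 := by
        have := congrArg (fun z : W => (z : α ⊕ β → F)) hw
        exact this
      have h3 : (w : α ⊕ β → F) ∈ U := by
        rw [hU, LinearMap.mem_ker]
        have hn1 : 1 ≤ n ∨ n = 0 := by omega
        rcases hn1 with h | h
        · obtain ⟨m, hm⟩ : ∃ m, n = m + 1 := ⟨n - 1, by omega⟩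
          rw [hm, pow_succ, Module.End.mul_apply, h2, map_zero]
        · have hβ : Fintype.card β = 0 := by omega
          have : finrank F W = 0 := by rw [hWdim, hβ]
          have hW0 : W = ⊥ := Submodule.finrank_eq_zero.1 this
          have hw0 : (w : α ⊕ β → F) = 0 := (Submodule.eq_bot_iff W).1 hW0 _ w.2
          rw [hw0, map_zero]
      have h4 := Submodule.disjoint_def.1 hdisj _ h3 w.2
      exact Subtype.ext h4
    exact h1.map (LinearMap.toMatrixAlgEquiv bW)
  obtain ⟨A, hA⟩ := hA₀
  -- change of basis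
  let P : Matrix (α ⊕ β) (α ⊕ β) F := (Pi.basisFun F (α ⊕ β)).toMatrix b
  let Q : Matrix (α ⊕ β) (α ⊕ β) F := b.toMatrix (Pi.basisFun F (α ⊕ β))
  have hPQ : P * Q = 1 := Basis.toMatrix_mul_toMatrix_flip _ _
  have hQP : Q * P = 1 := Basis.toMatrix_mul_toMatrix_flip _ _
  have hM : P * LinearMap.toMatrix b b f * Q = M := by
    have := basis_toMatrix_mul_linearMap_toMatrix_mul_basis_toMatrix
      (Pi.basisFun F (α ⊕ β)) b (Pi.basisFun F (α ⊕ β)) b f
    rw [this, LinearMap.toMatrix_eq_toMatrix']
    exact LinearMap.toMatrixAlgEquiv'_toLinAlgEquiv' M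
  refine ⟨(⟨P, Q, hPQ, hQP⟩, ⟨N, hN⟩, A), ?_⟩
  simp only [Phi]
  rw [← hM, hD, hA]
  rfl

end Cfsg.Agent.Helper17.NilCount
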