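import Mathlib
import Cfsg.Agent.Lib.Helper17.NilCount2

/-!
# Counting nilpotent matrices, part 3: the partition of all matrices by stable rank (helper17)
-/

set_option autoImplicit false
set_option linter.unusedSectionVars false

namespace Cfsg.Agent.Helper17.NilCount

open Matrix Module

variable {F : Type*} [Field F] {α β : Type*} [Fintype α] [DecidableEq α] [Fintype β]
  [DecidableEq β]

theorem nilpotent_pow_card {N : Matrix α α F} (hN : IsNilpotent N) : N ^ Fintype.card α = 0 := by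
  obtain ⟨m, hm⟩ := hN
  let f : Module.End F (α → F) := Matrix.toLinAlgEquiv' N
  have hfm : f ^ m = 0 := by
    rw [← map_pow, hm, map_zero]
  have h1 := Module.End.ker_pow_le_ker_pow_finrank f m
  rw [hfm, LinearMap.ker_zero, top_le_iff, LinearMap.ker_eq_top,
    Module.finrank_fintype_fun_eq_card] at h1
  rw [← map_pow] at h1
  exact (map_eq_zero_iff _ (Matrix.toLinAlgEquiv' (R := F) (n := α)).injective).1 h1

theorem rank_dg_zero_unit (B : Matrix β β F) (hB : IsUnit B) :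
    (dg (0 : Matrix α α F) B).rank = Fintype.card β := by
  classical
  have h1 : dg (0 : Matrix α α F) B = dg (0 : Matrix α α F) (1 : Matrix β β F) * dg 1 B := by
    rw [dg_mul, zero_mul, one_mul]
  have h2 : IsUnit (dg (1 : Matrix α α F) B).det := by
    obtain ⟨u, rfl⟩ := hB
    have : dg (1 : Matrix α α F) (u : Matrix β β F) = ((dgGL 1 u : GL (α ⊕ β) F) : Matrix _ _ F) := rfl
    rw [this]
    exact (Matrix.isUnit_iff_isUnit_det _).1 (Units.isUnit _)
  rw [h1, Matrix.rank_mul_eq_left_of_isUnit_det _ _ h2]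
  have h3 : dg (0 : Matrix α α F) (1 : Matrix β β F) =
      Matrix.diagonal (Sum.elim (fun _ => 0) (fun _ => 1)) := by
    rw [dg, ← Matrix.fromBlocks_diagonal]
    congr 1
    · ext i j; simp
  rw [h3, Matrix.rank_diagonal]
  rw [Fintype.card_subtype]
  have : (Finset.univ.filter fun i : α ⊕ β =>
      (Sum.elim (fun _ => (0 : F)) (fun _ => (1 : F)) i) ≠ 0) = Finset.univ.map ⟨Sum.inr, Sum.inr_injective⟩ := by
    ext i
    rcases i with a | b <;> simp
  rw [this, Finset.card_map, Finset.card_univ]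

theorem rank_pow_of_mem_range (M : Matrix (α ⊕ β) (α ⊕ β) F)
    (hM : M ∈ Set.range (Phi (F := F) (α := α) (β := β))) :
    (M ^ (Fintype.card α + Fintype.card β)).rank = Fintype.card β := by
  obtain ⟨⟨g, ⟨N, hN⟩, A⟩, rfl⟩ := hM
  simp only [Phi]
  set n := Fintype.card α + Fintype.card β with hn
  have hpow : ∀ i : ℕ, ((g : Matrix (α ⊕ β) (α ⊕ β) F) * dg N (A : Matrix β β F) *
      ((g⁻¹ : GL (α ⊕ β) F) : Matrix (α ⊕ β) (α ⊕ β) F)) ^ i =
      (g : Matrix (α ⊕ β) (α ⊕ β) F) * dg N (A : Matrix β β F) ^ i *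
      ((g⁻¹ : GL (α ⊕ β) F) : Matrix (α ⊕ β) (α ⊕ β) F) := by
    intro i
    induction i with
    | zero => simp
    | succ i ih =>
      rw [pow_succ, ih, pow_succ]
      calc (g : Matrix (α ⊕ β) (α ⊕ β) F) * dg N (A : Matrix β β F) ^ i *
            ((g⁻¹ : GL (α ⊕ β) F) : Matrix (α ⊕ β) (α ⊕ β) F) *
            ((g : Matrix (α ⊕ β) (α ⊕ β) F) * dg N (A : Matrix β β F) *
            ((g⁻¹ : GL (α ⊕ β) F) : Matrix (α ⊕ β) (α ⊕ β) F))
          = (g : Matrix (α ⊕ β) (α ⊕ β) F) * dg N (A : Matrix β β F) ^ i *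
            (((g⁻¹ : GL (α ⊕ β) F) : Matrix (α ⊕ β) (α ⊕ β) F) *
            (g : Matrix (α ⊕ β) (α ⊕ β) F)) * dg N (A : Matrix β β F) *
            ((g⁻¹ : GL (α ⊕ β) F) : Matrix (α ⊕ β) (α ⊕ β) F) := by simp only [mul_assoc]
        _ = _ := by
          rw [Units.inv_mul, mul_one, mul_assoc (g : Matrix (α ⊕ β) (α ⊕ β) F)]
  have hg : IsUnit (g : Matrix (α ⊕ β) (α ⊕ β) F).det :=
    (Matrix.isUnit_iff_isUnit_det _).1 g.isUnit
  have hgi : IsUnit ((g⁻¹ : GL (α ⊕ β) F) : Matrix (α ⊕ β) (α ⊕ β) F).det :=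
    (Matrix.isUnit_iff_isUnit_det _).1 (g⁻¹).isUnit
  rw [hpow, Matrix.rank_mul_eq_left_of_isUnit_det _ _ hgi,
    Matrix.rank_mul_eq_right_of_isUnit_det _ _ hg, dg_pow]
  have hNn : N ^ n = 0 := by
    rw [hn, pow_add, nilpotent_pow_card hN, zero_mul]
  rw [hNn]
  exact rank_dg_zero_unit _ (A.isUnit.pow n)

theorem mem_range_Phi_iff (M : Matrix (α ⊕ β) (α ⊕ β) F) :
    M ∈ Set.range (Phi (F := F) (α := α) (β := β)) ↔
      (M ^ (Fintype.card α + Fintype.card β)).rank = Fintype.card β :=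
  ⟨rank_pow_of_mem_range M, fitting_exists M⟩

end Cfsg.Agent.Helper17.NilCount
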