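import Mathlib
import Cfsg.Agent.Lib.Helper17.NilCount3

/-!
# Counting nilpotent matrices, part 4: the number of matrices of given stable rank (helper17)
-/

set_option autoImplicit false
set_option linter.unusedSectionVars false

namespace Cfsg.Agent.Helper17.NilCount

open Matrix Module

variable (F : Type*) [Field F] [Fintype F]

/-- the number of nilpotent matrices -/
noncomputable def nil (k : ℕ) : ℕ := Nat.card {N : Matrix (Fin k) (Fin k) F // IsNilpotent N}

/-- the order of the general linear group -/
noncomputable def gl (k : ℕ) : ℕ := Nat.card (GL (Fin k) F)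

theorem gl_pos (k : ℕ) : 0 < gl F k := Nat.card_pos

variable {F}

theorem card_GL_congr {α β : Type*} [Fintype α] [DecidableEq α] [Fintype β] [DecidableEq β]
    (e : α ≃ β) : Nat.card (GL α F) = Nat.card (GL β F) :=
  Nat.card_congr (Units.mapEquiv (Matrix.reindexAlgEquiv F F e).toMulEquiv).toEquiv

theorem reindex_pow {α β : Type*} [Fintype α] [DecidableEq α] [Fintype β] [DecidableEq β]
    (e : α ≃ β) (M : Matrix α α F) (m : ℕ) :
    (Matrix.reindex e e M) ^ m = Matrix.reindex e e (M ^ m) := by
  rw [← Matrix.coe_reindexAlgEquiv F F e, map_pow]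

/-- the number of matrices with stable rank `n - k` -/
theorem card_stable (n k : ℕ) (hk : k ≤ n) :
    Nat.card {M : Matrix (Fin n) (Fin n) F // (M ^ n).rank + k = n} * gl F k =
      gl F n * nil F k := by
  let e : Fin k ⊕ Fin (n - k) ≃ Fin n := finSumFinEquiv.trans (finCongr (by omega))
  have h1 : Nat.card {M : Matrix (Fin n) (Fin n) F // (M ^ n).rank + k = n} =
      Nat.card (Set.range (Phi (F := F) (α := Fin k) (β := Fin (n - k)))) := by
    apply Nat.card_congr
    apply Equiv.subtypeEquiv (Matrix.reindex e.symm e.symm)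
    intro M
    rw [mem_range_Phi_iff, reindex_pow, Matrix.rank_reindex, Fintype.card_fin, Fintype.card_fin]
    have : k + (n - k) = n := by omega
    rw [this]
    omega
  have h2 := card_range_Phi (F := F) (α := Fin k) (β := Fin (n - k))
  have h3 : Nat.card (Src F (Fin k) (Fin (n - k))) =
      gl F n * (nil F k * Nat.card (GL (Fin (n - k)) F)) := by
    rw [Nat.card_prod, Nat.card_prod, card_GL_congr e]
    rfl
  rw [h3, ← h1] at h2
  have hpos : 0 < Nat.card (GL (Fin (n - k)) F) := Nat.card_pos
  have h4 : (Nat.card {M : Matrix (Fin n) (Fin n) F // (M ^ n).rank + k = n} * gl F k) *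
      Nat.card (GL (Fin (n - k)) F) = (gl F n * nil F k) * Nat.card (GL (Fin (n - k)) F) := by
    rw [mul_assoc, mul_assoc]
    exact h2
  exact Nat.eq_of_mul_eq_mul_right hpos h4

/-- all matrices, sorted by stable rank -/
theorem sum_card_stable (n : ℕ) :
    ∑ k ∈ Finset.range (n + 1),
      Nat.card {M : Matrix (Fin n) (Fin n) F // (M ^ n).rank + k = n} =
      Fintype.card F ^ (n * n) := by
  classical
  have hle : ∀ M : Matrix (Fin n) (Fin n) F, (M ^ n).rank ≤ n := by
    intro M
    have := Matrix.rank_le_card_width (M ^ n)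
    rwa [Fintype.card_fin] at this
  have h1 : Fintype.card (Matrix (Fin n) (Fin n) F) = Fintype.card F ^ (n * n) := by
    show Fintype.card (Fin n → Fin n → F) = _
    rw [Fintype.card_fun, Fintype.card_fun, Fintype.card_fin, ← pow_mul]
  rw [← h1, ← Finset.card_univ]
  rw [Finset.card_eq_sum_card_fiberwise (f := fun M : Matrix (Fin n) (Fin n) F => n - (M ^ n).rank)
    (t := Finset.range (n + 1))]
  · apply Finset.sum_congr rfl
    intro k hk
    rw [Finset.mem_range] at hk
    rw [Nat.card_eq_fintype_card, Fintype.card_subtype]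
    congr 1
    ext M
    simp only [Finset.mem_filter, Finset.mem_univ, true_and]
    have := hle M
    omega
  · intro M _
    simp only [Finset.coe_range, Set.mem_Iio]
    omega

end Cfsg.Agent.Helper17.NilCount
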