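import Mathlib
import Cfsg.Agent.Lib.Helper17.NilCount4

/-!
# Counting nilpotent matrices, part 5: the theorem of Fine and Herstein (helper17)
-/

set_option autoImplicit false
set_option linter.unusedSectionVars false

namespace Cfsg.Agent.Helper17.NilCount

open Matrix Module

variable {F : Type*} [Field F] [Fintype F]

local notation "q" => Fintype.card F

theorem q_pos : 0 < q := Fintype.card_pos

theorem gl_succ (m : ℕ) : gl F (m + 1) = gl F m * (q ^ m * (q ^ (m + 1) - 1)) := by
  rw [gl, gl, Matrix.card_GL_field, Matrix.card_GL_field, Fin.prod_univ_succ]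
  have h1 : ∀ i : Fin m, q ^ (m + 1) - q ^ ((Fin.succ i : Fin (m + 1)) : ℕ) =
      q * (q ^ m - q ^ (i : ℕ)) := by
    intro i
    rw [Fin.val_succ, Nat.mul_sub, pow_succ', pow_succ']
  simp only [h1]
  rw [Finset.prod_mul_distrib, Finset.prod_const, Finset.card_univ, Fintype.card_fin]
  simp only [Fin.val_zero, pow_zero]
  ring

/-- the quotient `gl n / gl k` -/
noncomputable def cc (F : Type*) [Fintype F] (n k : ℕ) : ℕ :=
  ∏ j ∈ Finset.Ico k n, (Fintype.card F ^ j * (Fintype.card F ^ (j + 1) - 1))

theorem cc_self (n : ℕ) : cc F n n = 1 := by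
  rw [cc, Finset.Ico_self, Finset.prod_empty]

theorem cc_succ (n k : ℕ) (hk : k ≤ n) :
    cc F (n + 1) k = cc F n k * (q ^ n * (q ^ (n + 1) - 1)) := by
  rw [cc, cc, Finset.prod_Ico_succ_top hk]

theorem gl_eq_cc_mul (n k : ℕ) (hk : k ≤ n) : gl F n = cc F n k * gl F k := by
  induction n, hk using Nat.le_induction with
  | base => rw [cc_self, one_mul]
  | succ n hn ih =>
    rw [gl_succ, ih, cc_succ n k hn]
    ring

theorem card_stable' (n k : ℕ) (hk : k ≤ n) :
    Nat.card {M : Matrix (Fin n) (Fin n) F // (M ^ n).rank + k = n} = cc F n k * nil F k := by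
  have h := card_stable (F := F) n k hk
  rw [gl_eq_cc_mul n k hk] at h
  have h2 : Nat.card {M : Matrix (Fin n) (Fin n) F // (M ^ n).rank + k = n} * gl F k =
      (cc F n k * nil F k) * gl F k := by
    rw [h]
    ring
  exact Nat.eq_of_mul_eq_mul_right (gl_pos F k) h2

theorem sum_cc_nil (n : ℕ) :
    ∑ k ∈ Finset.range (n + 1), cc F n k * nil F k = q ^ (n * n) := by
  rw [← sum_card_stable (F := F) n]
  apply Finset.sum_congr rfl
  intro k hk
  rw [Finset.mem_range] at hk
  rw [card_stable' n k (by omega)]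

/-- the arithmetic identity -/
theorem sum_cc_pow (n : ℕ) :
    ∑ k ∈ Finset.range (n + 1), cc F n k * q ^ (k * (k - 1)) = q ^ (n * n) := by
  induction n with
  | zero => simp [cc_self]
  | succ n ih =>
    rw [Finset.sum_range_succ, cc_self, one_mul]
    have h1 : ∑ k ∈ Finset.range (n + 1), cc F (n + 1) k * q ^ (k * (k - 1)) =
        (q ^ n * (q ^ (n + 1) - 1)) * ∑ k ∈ Finset.range (n + 1), cc F n k * q ^ (k * (k - 1)) := by
      rw [Finset.mul_sum]
      apply Finset.sum_congr rfl
      intro k hk
      rw [Finset.mem_range] at hk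
      rw [cc_succ n k (by omega)]
      ring
    rw [h1, ih]
    have h2 : 1 ≤ q ^ (n + 1) := Nat.one_le_pow _ _ q_pos
    have h3 : (n + 1) * (n + 1 - 1) = n + n * n := by
      rw [Nat.add_sub_cancel]
      ring
    rw [h3]
    obtain ⟨x, hx⟩ : ∃ x, q ^ (n + 1) = x + 1 := ⟨q ^ (n + 1) - 1, by omega⟩
    have h4 : q ^ ((n + 1) * (n + 1)) = q ^ (n + n * n) * q ^ (n + 1) := by
      rw [← pow_add]
      congr 1
      ring
    rw [h4, hx, Nat.add_sub_cancel, pow_add]
    ring

/-- Fine–Herstein: the number of nilpotent `n × n` matrices over the field with `q` elements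
is `q ^ (n (n - 1))` -/
theorem nil_eq (n : ℕ) : nil F n = q ^ (n * (n - 1)) := by
  induction n using Nat.strong_induction_on with
  | _ n ih =>
    have h1 := sum_cc_nil (F := F) n
    have h2 := sum_cc_pow (F := F) n
    rw [Finset.sum_range_succ, cc_self, one_mul] at h1 h2
    have h3 : ∑ k ∈ Finset.range n, cc F n k * nil F k =
        ∑ k ∈ Finset.range n, cc F n k * q ^ (k * (k - 1)) := by
      apply Finset.sum_congr rfl
      intro k hk
      rw [Finset.mem_range] at hk
      rw [ih k hk]
    rw [h3, ← h2] at h1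
    exact Nat.add_left_cancel h1

/-- for any index type -/
theorem card_nilpotent {α : Type*} [Fintype α] [DecidableEq α] :
    Nat.card {N : Matrix α α F // IsNilpotent N} =
      q ^ (Fintype.card α * (Fintype.card α - 1)) := by
  rw [← nil_eq, nil]
  let e := Fintype.equivFin α
  apply Nat.card_congr
  apply Equiv.subtypeEquiv (Matrix.reindex e e)
  intro N
  rw [← Matrix.coe_reindexAlgEquiv F F e]
  constructor
  · intro h
    exact h.map _
  · intro h
    have := h.map (Matrix.reindexAlgEquiv F F e).symm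
    simpa using this

end Cfsg.Agent.Helper17.NilCount
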