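import Mathlib
import Cfsg.Prelude.Def_LinearParabolics
import Cfsg.Agent.Lib.Helper17.NilCount5

/-!
# Counting invertible block triangular matrices (helper17)

* `card_T`: the number of invertible matrices that are block triangular for a labelling `b` is the product
  of the orders of the general linear groups of the blocks times `q ^ #{(i, j) | b i < b j}`.
* `card_pairs_aux`: `2 * #{(i, j) | b i < b j} + ∑ a, (#block a) ^ 2 = (card m) ^ 2`.
* `card_compLabel`: the block `a` of `Cfsg.compLabel μ` has `μ a` elements.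
* `gl_formula`: `|GL_r(q)| = q ^ (0 + 1 + ⋯ + (r - 1)) * (q - 1) ^ r * {r}!`.
-/

set_option autoImplicit false
set_option linter.unusedSectionVars false

namespace Cfsg.Agent.Helper17.BlockTri


open Matrix

variable {F : Type*} [Field F] [Fintype F]
variable {m : Type*} [Fintype m] [DecidableEq m]
variable {α : Type*} [Fintype α] [LinearOrder α]

/-- the number of matrices with non-zero determinant is the order of the general linear group -/
theorem card_det_ne_zero (k : Type*) [Fintype k] [DecidableEq k] :
    Nat.card {N : Matrix k k F // N.det ≠ 0} = Nat.card (GL k F) := by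
  symm
  refine Nat.card_eq_of_bijective
    (fun g : GL k F => (⟨(g : Matrix k k F), (Matrix.isUnits_det_units g).ne_zero⟩ :
      {N : Matrix k k F // N.det ≠ 0})) ⟨?_, ?_⟩
  · intro g h hgh
    apply Units.ext
    exact congrArg Subtype.val hgh
  · rintro ⟨N, hN⟩
    refine ⟨Matrix.nonsingInvUnit N (isUnit_iff_ne_zero.2 hN), ?_⟩
    rfl

/-- block-triangular matrices with non-zero determinant -/
def T (F : Type*) [Field F] (b : m → α) : Type _ :=
  {M : Matrix m m F // M.BlockTriangular b ∧ M.det ≠ 0}

/-- the positions strictly above the block diagonal -/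
def Up (b : m → α) : Type _ := {p : m × m // b p.1 < b p.2}

instance (b : m → α) : Finite (Up b) := by unfold Up; infer_instance

/-- families of invertible diagonal blocks -/
def D (F : Type*) [Field F] (b : m → α) : Type _ :=
  ∀ a : α, {N : Matrix {i // b i = a} {i // b i = a} F // N.det ≠ 0}

/-- the matrix assembled from diagonal blocks and upper entries -/
def asm (b : m → α) (d : D F b) (u : Up b → F) : Matrix m m F :=
  Matrix.of fun i j =>
    if h : b i = b j then (d (b j)).1 ⟨i, h⟩ ⟨j, rfl⟩
    else if h2 : b i < b j then u ⟨(i, j), h2⟩ else 0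

theorem asm_blockTriangular (b : m → α) (d : D F b) (u : Up b → F) :
    (asm b d u).BlockTriangular b := by
  intro i j hij
  have h1 : ¬ b i = b j := fun h => by rw [h] at hij; exact lt_irrefl _ hij
  have h2 : ¬ b i < b j := fun h => lt_asymm h hij
  simp only [asm, Matrix.of_apply, dif_neg h1, dif_neg h2]

theorem asm_toSquareBlock (b : m → α) (d : D F b) (u : Up b → F) (a : α) :
    (asm b d u).toSquareBlock b a = (d a).1 := by
  ext ⟨i, hi⟩ ⟨j, hj⟩
  subst hj
  simp only [Matrix.toSquareBlock_def, Matrix.of_apply, asm, dif_pos hi]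

theorem asm_det (b : m → α) (d : D F b) (u : Up b → F) :
    (asm b d u).det ≠ 0 := by
  rw [(asm_blockTriangular b d u).det_fintype]
  apply Finset.prod_ne_zero_iff.2
  intro a _
  rw [asm_toSquareBlock]
  exact (d a).2

theorem det_block_ne_zero (b : m → α) (M : Matrix m m F) (hM : M.BlockTriangular b)
    (hdet : M.det ≠ 0) (a : α) : (M.toSquareBlock b a).det ≠ 0 := by
  rw [hM.det_fintype] at hdet
  exact Finset.prod_ne_zero_iff.1 hdet a (Finset.mem_univ a)

/-- the decomposition of a block triangular invertible matrix -/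
def decomp (b : m → α) (M : T F b) : D F b × (Up b → F) :=
  (fun a => ⟨M.1.toSquareBlock b a, det_block_ne_zero b M.1 M.2.1 M.2.2 a⟩,
    fun p => M.1 p.1.1 p.1.2)

theorem decomp_bijective (b : m → α) : Function.Bijective (decomp (F := F) b) := by
  constructor
  · rintro ⟨M, hM, hMd⟩ ⟨M', hM', hMd'⟩ h
    apply Subtype.ext
    show M = M'
    have h1 := congrArg Prod.fst h
    have h2 := congrArg Prod.snd h
    ext i j
    rcases lt_trichotomy (b i) (b j) with hlt | heq | hgt
    · exact congrFun h2 ⟨(i, j), hlt⟩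
    · have h3 := congrArg Subtype.val (congrFun h1 (b j))
      have h4 := congrFun (congrFun h3 ⟨i, heq⟩) ⟨j, rfl⟩
      exact h4
    · rw [hM hgt, hM' hgt]
  · rintro ⟨d, u⟩
    refine ⟨⟨asm b d u, asm_blockTriangular b d u, asm_det b d u⟩, ?_⟩
    apply Prod.ext
    · funext a
      apply Subtype.ext
      exact asm_toSquareBlock b d u a
    · funext ⟨⟨i, j⟩, hp⟩
      have h1 : ¬ b i = b j := fun h => by
        have hp' : b i < b j := hp
        rw [h] at hp'; exact lt_irrefl _ hp'
      have hp' : b i < b j := hp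
      show asm b d u i j = _
      simp only [asm, Matrix.of_apply, dif_neg h1, dif_pos hp']

theorem card_T (b : m → α) :
    Nat.card (T F b) =
      (∏ a : α, Nat.card (GL {i // b i = a} F)) * Fintype.card F ^ Nat.card (Up b) := by
  rw [Nat.card_eq_of_bijective _ (decomp_bijective (F := F) b), Nat.card_prod]
  congr 1
  · unfold D
    rw [Nat.card_pi]
    apply Finset.prod_congr rfl
    intro a _
    exact card_det_ne_zero _
  · rw [Nat.card_fun, Nat.card_eq_fintype_card (α := F)]




theorem card_pairs_aux (b : m → α) :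
    2 * (Finset.univ.filter (fun p : m × m => b p.1 < b p.2)).card +
      ∑ a : α, (Finset.univ.filter (fun i : m => b i = a)).card ^ 2 = Fintype.card m ^ 2 := by
  have h1 : (Finset.univ.filter (fun p : m × m => b p.1 < b p.2)).card =
      ∑ i : m, ∑ j : m, if b i < b j then 1 else 0 := by
    rw [Finset.card_filter, Fintype.sum_prod_type]
  have h2 : ∀ a : α, (Finset.univ.filter (fun i : m => b i = a)).card ^ 2 =
      ∑ i : m, ∑ j : m, if b i = a ∧ b j = a then 1 else 0 := by
    intro a
    rw [Finset.card_filter, sq, Finset.sum_mul_sum]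
    apply Finset.sum_congr rfl; intro i _
    apply Finset.sum_congr rfl; intro j _
    by_cases hi : b i = a <;> by_cases hj : b j = a <;> simp [hi, hj]
  have h3 : ∑ a : α, ∑ i : m, ∑ j : m, (if b i = a ∧ b j = a then 1 else 0 : ℕ) =
      ∑ i : m, ∑ j : m, if b i = b j then 1 else 0 := by
    rw [Finset.sum_comm]
    apply Finset.sum_congr rfl; intro i _
    rw [Finset.sum_comm]
    apply Finset.sum_congr rfl; intro j _
    by_cases hij : b i = b j
    · rw [if_pos hij, Finset.sum_eq_single (b i)]
      · rw [if_pos ⟨rfl, hij.symm⟩]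
      · intro a _ ha
        rw [if_neg]
        rintro ⟨h, _⟩; exact ha h.symm
      · intro h; exact absurd (Finset.mem_univ _) h
    · rw [if_neg hij]
      apply Finset.sum_eq_zero
      intro a _
      rw [if_neg]
      rintro ⟨h, h'⟩; exact hij (h.trans h'.symm)
  have h4 : ∑ i : m, ∑ j : m, (if b i < b j then 1 else 0 : ℕ) =
      ∑ i : m, ∑ j : m, if b j < b i then 1 else 0 := Finset.sum_comm
  have h5 : Fintype.card m ^ 2 = ∑ i : m, ∑ j : m, 1 := by
    simp [sq]
  simp only [h2]
  rw [h3, h1, two_mul]
  nth_rewrite 2 [h4]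
  rw [h5, ← Finset.sum_add_distrib, ← Finset.sum_add_distrib]
  apply Finset.sum_congr rfl; intro i _
  rw [← Finset.sum_add_distrib, ← Finset.sum_add_distrib]
  apply Finset.sum_congr rfl; intro j _
  rcases lt_trichotomy (b i) (b j) with h | h | h
  · rw [if_pos h, if_neg (lt_asymm h), if_neg (ne_of_lt h)]
  · rw [if_neg (by rw [h]; exact lt_irrefl _), if_neg (by rw [h]; exact lt_irrefl _), if_pos h]
  · rw [if_neg (lt_asymm h), if_pos h, if_neg (ne_of_gt h)]



section CompLabel

open Finset

variable {n : ℕ}

/-- partial sums of a composition -/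
def psum (μ : Fin n → ℕ) (a : ℕ) : ℕ := ∑ k ∈ univ.filter (fun k : Fin n => k.val < a), μ k

theorem psum_zero (μ : Fin n → ℕ) : psum μ 0 = 0 := by
  simp [psum]

theorem psum_succ (μ : Fin n → ℕ) (a : Fin n) : psum μ (a.val + 1) = psum μ a.val + μ a := by
  unfold psum
  have h : univ.filter (fun k : Fin n => k.val < a.val + 1) =
      insert a (univ.filter (fun k : Fin n => k.val < a.val)) := by
    ext k
    simp only [mem_filter, mem_univ, true_and, mem_insert]
    constructor
    · intro h
      rcases Nat.lt_succ_iff_lt_or_eq.1 h with h | h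
      · exact Or.inr h
      · exact Or.inl (Fin.ext h)
    · rintro (h | h)
      · rw [h]; exact Nat.lt_succ_self _
      · exact Nat.lt_succ_of_lt h
  rw [h, sum_insert, add_comm]
  simp

theorem psum_mono (μ : Fin n → ℕ) {a c : ℕ} (h : a ≤ c) : psum μ a ≤ psum μ c := by
  unfold psum
  apply sum_le_sum_of_subset
  intro k hk
  simp only [mem_filter, mem_univ, true_and] at hk ⊢
  exact lt_of_lt_of_le hk h

theorem psum_top (μ : Fin n → ℕ) : psum μ n = ∑ i, μ i := by
  unfold psum
  congr 1
  ext k
  simp

theorem compLabel_eq (μ : Fin n → ℕ) (i : Fin n) :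
    Cfsg.compLabel μ i = (univ.filter fun j : Fin n => psum μ (j.val + 1) ≤ i.val).card := by
  unfold Cfsg.compLabel psum
  congr 1
  apply filter_congr
  intro j _
  have : univ.filter (fun k : Fin n => k ≤ j) = univ.filter (fun k : Fin n => k.val < j.val + 1) := by
    apply filter_congr
    intro k _
    rw [Fin.le_def, Nat.lt_succ_iff]
  rw [this]

theorem compLabel_of_mem (μ : Fin n → ℕ) (i : Fin n) (a : ℕ) (ha : a < n)
    (h1 : psum μ a ≤ i.val) (h2 : i.val < psum μ (a + 1)) : Cfsg.compLabel μ i = a := by
  rw [compLabel_eq]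
  have : univ.filter (fun j : Fin n => psum μ (j.val + 1) ≤ i.val) =
      univ.filter (fun j : Fin n => j.val < a) := by
    apply filter_congr
    intro j _
    constructor
    · intro h
      by_contra hj
      have hj' : a + 1 ≤ j.val + 1 := by omega
      have := psum_mono μ hj'
      omega
    · intro h
      have hj' : j.val + 1 ≤ a := h
      have := psum_mono μ hj'
      omega
  rw [this, Fin.card_filter_val_lt]
  exact min_eq_right ha.le

theorem exists_interval (μ : Fin n → ℕ) (i : ℕ) :
    ∀ k : ℕ, i < psum μ k → ∃ c, c < k ∧ psum μ c ≤ i ∧ i < psum μ (c + 1) := by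
  intro k
  induction k with
  | zero => intro h; rw [psum_zero] at h; omega
  | succ k ih =>
    intro h
    by_cases hk : psum μ k ≤ i
    · exact ⟨k, Nat.lt_succ_self _, hk, h⟩
    · obtain ⟨c, hc, h1, h2⟩ := ih (not_le.1 hk)
      exact ⟨c, Nat.lt_succ_of_lt hc, h1, h2⟩

theorem compLabel_lt (μ : Fin n → ℕ) (hμ : ∑ i, μ i = n) (i : Fin n) : Cfsg.compLabel μ i < n := by
  obtain ⟨c, hc, h1, h2⟩ := exists_interval μ i.val n (by rw [psum_top, hμ]; exact i.2)
  rw [compLabel_of_mem μ i c hc h1 h2]
  exact hc

theorem compLabel_eq_iff (μ : Fin n → ℕ) (hμ : ∑ i, μ i = n) (i : Fin n) (a : ℕ) (ha : a < n) :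
    Cfsg.compLabel μ i = a ↔ psum μ a ≤ i.val ∧ i.val < psum μ (a + 1) := by
  constructor
  · intro h
    obtain ⟨c, hc, h1, h2⟩ := exists_interval μ i.val n (by rw [psum_top, hμ]; exact i.2)
    rw [compLabel_of_mem μ i c hc h1 h2] at h
    subst h
    exact ⟨h1, h2⟩
  · rintro ⟨h1, h2⟩
    exact compLabel_of_mem μ i a ha h1 h2

theorem card_compLabel (μ : Fin n → ℕ) (hμ : ∑ i, μ i = n) (a : Fin n) :
    (univ.filter (fun i : Fin n => Cfsg.compLabel μ i = a.val)).card = μ a := by
  have h0 : univ.filter (fun i : Fin n => Cfsg.compLabel μ i = a.val) =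
      univ.filter (fun i : Fin n => psum μ a.val ≤ i.val ∧ i.val < psum μ (a.val + 1)) := by
    apply filter_congr
    intro i _
    exact compLabel_eq_iff μ hμ i a.val a.2
  rw [h0]
  have hA : psum μ a.val ≤ psum μ (a.val + 1) := psum_mono μ (Nat.le_succ _)
  have hB : psum μ (a.val + 1) ≤ n := by
    have := psum_mono μ (show a.val + 1 ≤ n from a.2)
    rw [psum_top, hμ] at this
    exact this
  have h1 := card_filter_add_card_filter_not
    (s := univ.filter (fun i : Fin n => i.val < psum μ (a.val + 1)))
    (fun i : Fin n => i.val < psum μ a.val)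
  rw [filter_filter, filter_filter, Fin.card_filter_val_lt] at h1
  have h2 : univ.filter (fun i : Fin n => i.val < psum μ (a.val + 1) ∧ i.val < psum μ a.val) =
      univ.filter (fun i : Fin n => i.val < psum μ a.val) := by
    apply filter_congr
    intro i _
    constructor
    · exact fun h => h.2
    · exact fun h => ⟨lt_of_lt_of_le h hA, h⟩
  have h3 : univ.filter (fun i : Fin n => i.val < psum μ (a.val + 1) ∧ ¬ i.val < psum μ a.val) =
      univ.filter (fun i : Fin n => psum μ a.val ≤ i.val ∧ i.val < psum μ (a.val + 1)) := by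
    apply filter_congr
    intro i _
    rw [not_lt, and_comm]
  rw [h2, h3, Fin.card_filter_val_lt, min_eq_right hB, min_eq_right (le_trans hA hB),
    psum_succ] at h1
  rw [psum_succ]
  omega


end CompLabel

section GLFormula

open Cfsg.Agent.Helper17.NilCount

theorem geom_id (q k : ℕ) (hq : 1 ≤ q) :
    (q - 1) * ∑ l ∈ Finset.range k, q ^ l + 1 = q ^ k := by
  induction k with
  | zero => simp
  | succ k ih =>
    rw [Finset.sum_range_succ, mul_add, pow_succ]
    have h : (q - 1) * q ^ k + q ^ k = q ^ k * q := by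
      obtain ⟨r, rfl⟩ : ∃ r, q = r + 1 := ⟨q - 1, by omega⟩
      rw [Nat.add_sub_cancel]
      ring
    omega

theorem gl_formula (F : Type*) [Field F] [Fintype F] (r : ℕ) :
    gl F r = Fintype.card F ^ (∑ i ∈ Finset.range r, i) * (Fintype.card F - 1) ^ r *
      ∏ j ∈ Finset.range r, ∑ l ∈ Finset.range (j + 1), Fintype.card F ^ l := by
  induction r with
  | zero =>
    rw [gl, Matrix.card_GL_field]
    simp
  | succ r ih =>
    have h := geom_id (Fintype.card F) (r + 1) Fintype.card_pos
    have h' : Fintype.card F ^ (r + 1) - 1 =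
        (Fintype.card F - 1) * ∑ l ∈ Finset.range (r + 1), Fintype.card F ^ l := by omega
    have e1 : ∑ i ∈ Finset.range (r + 1), i = ∑ i ∈ Finset.range r, i + r :=
      Finset.sum_range_succ _ _
    have e2 : ∏ j ∈ Finset.range (r + 1), ∑ l ∈ Finset.range (j + 1), Fintype.card F ^ l =
        (∏ j ∈ Finset.range r, ∑ l ∈ Finset.range (j + 1), Fintype.card F ^ l) *
          ∑ l ∈ Finset.range (r + 1), Fintype.card F ^ l := Finset.prod_range_succ _ _
    rw [gl_succ, ih, h', e1, e2, pow_add, pow_succ]
    ring

end GLFormula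

end Cfsg.Agent.Helper17.BlockTri
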