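import Mathlib
import Cfsg.Prelude.Def_LinearParabolics
import Cfsg.Agent.Lib.Helper17.BlockTriCount
import Cfsg.Agent.Lib.Helper17.JacobiTrudi

/-!
# Double cosets of Young subgroups and contingency matrices (helper17)

* `card_doubleCoset_stab`: for labellings `la : X → I`, `lb : X → J` of a finite set, the double cosets
  of the stabilisers of the labellings in `Perm X` are counted by the matrices `I → J → ℕ` whose row
  sums are the fibre sizes of `la` and column sums the fibre sizes of `lb`.
* `card_young_doubleCoset`: `#(Y_α \ S_n / Y_β)` is the number of `n × n` matrices over `ℕ` with row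
  sums `α` and column sums `β` (for compositions `α β` of `n` with `n` parts).
-/

set_option autoImplicit false
set_option linter.unusedSectionVars false

namespace Cfsg.Agent.Helper17.YoungDC

open Finset

section Fiber

variable {X Y : Type*} [Fintype X] [DecidableEq X] [DecidableEq Y]

/-- two functions with fibres of equal sizes differ by a permutation of the source -/
theorem exists_perm_of_card_fiber_eq (f g : X → Y)
    (h : ∀ y, (univ.filter (fun x => f x = y)).card = (univ.filter (fun x => g x = y)).card) :
    ∃ v : Equiv.Perm X, ∀ x, f (v x) = g x := by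
  have hc : ∀ y, Fintype.card {x // g x = y} = Fintype.card {x // f x = y} := by
    intro y
    rw [Fintype.card_subtype, Fintype.card_subtype, h y]
  let e : ∀ y, {x // g x = y} ≃ {x // f x = y} := fun y => Fintype.equivOfCardEq (hc y)
  let v : Equiv.Perm X :=
    (Equiv.sigmaFiberEquiv g).symm.trans ((Equiv.sigmaCongrRight e).trans (Equiv.sigmaFiberEquiv f))
  refine ⟨v, fun x => ?_⟩
  show f ((e (g x) ⟨x, rfl⟩ : {x' // f x' = g x}) : X) = g x
  exact (e (g x) ⟨x, rfl⟩).2

end Fiber

section General

variable {X I J : Type*} [Fintype X] [DecidableEq X] [Fintype I] [DecidableEq I]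
  [Fintype J] [DecidableEq J]

/-- the stabiliser of a labelling -/
def stab (l : X → I) : Subgroup (Equiv.Perm X) where
  carrier := {σ | ∀ x, l (σ x) = l x}
  mul_mem' := fun {a} {b} ha hb x => by
    show l (a (b x)) = l x
    rw [ha, hb]
  one_mem' := fun _ => rfl
  inv_mem' := fun {a} ha x => by
    have h := ha (a⁻¹ x)
    have e : a (a⁻¹ x) = x := by simp
    rw [e] at h
    exact h.symm

theorem mem_stab (l : X → I) (σ : Equiv.Perm X) : σ ∈ stab l ↔ ∀ x, l (σ x) = l x := Iff.rfl

variable (la : X → I) (lb : X → J)

/-- the contingency matrix of a permutation -/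
def theta (σ : Equiv.Perm X) : I → J → ℕ :=
  fun i j => (univ.filter (fun x => la (σ x) = i ∧ lb x = j)).card

/-- contingency matrices with the row and column sums given by the labellings -/
def IsContL (A : I → J → ℕ) : Prop :=
  (∀ i, ∑ j, A i j = (univ.filter (fun x => la x = i)).card) ∧
  (∀ j, ∑ i, A i j = (univ.filter (fun x => lb x = j)).card)

theorem theta_isCont (σ : Equiv.Perm X) : IsContL la lb (theta la lb σ) := by
  constructor
  · intro i
    have h1 := Finset.card_eq_sum_card_fiberwise (f := lb)
      (s := univ.filter (fun x => la (σ x) = i)) (t := univ) (fun x _ => mem_univ _)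
    have h2 : (univ.filter (fun x => la (σ x) = i)).card = (univ.filter (fun x => la x = i)).card := by
      apply Finset.card_equiv σ
      intro x
      simp
    rw [← h2, h1]
    apply Finset.sum_congr rfl
    intro j _
    rw [theta, Finset.filter_filter]
  · intro j
    have h1 := Finset.card_eq_sum_card_fiberwise (f := fun x => la (σ x))
      (s := univ.filter (fun x => lb x = j)) (t := univ) (fun x _ => mem_univ _)
    rw [h1]
    apply Finset.sum_congr rfl
    intro i _
    rw [theta, Finset.filter_filter]
    congr 1
    ext x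
    simp only [mem_filter, mem_univ, true_and]
    tauto

theorem theta_mul (σ u v : Equiv.Perm X) (hu : u ∈ stab la) (hv : v ∈ stab lb) :
    theta la lb (u * σ * v) = theta la lb σ := by
  funext i j
  rw [theta, theta]
  apply Finset.card_equiv v
  intro x
  simp only [mem_filter, mem_univ, true_and]
  have h1 : la ((u * σ * v) x) = la (σ (v x)) := hu (σ (v x))
  have h2 : lb (v x) = lb x := hv x
  rw [h1, h2]

theorem mem_doubleCoset_of_theta_eq (σ σ' : Equiv.Perm X) (h : theta la lb σ = theta la lb σ') :
    σ' ∈ DoubleCoset.doubleCoset σ (stab la : Set (Equiv.Perm X)) (stab lb) := by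
  -- the functions `x ↦ (la (σ x), lb x)` and `x ↦ (la (σ' x), lb x)` have fibres of equal sizes
  have hf : ∀ p : I × J,
      (univ.filter (fun x => (fun x => (la (σ x), lb x)) x = p)).card =
        (univ.filter (fun x => (fun x => (la (σ' x), lb x)) x = p)).card := by
    rintro ⟨i, j⟩
    have := congrFun (congrFun h i) j
    simp only [theta] at this
    simp only [Prod.mk.injEq]
    exact this
  obtain ⟨v, hv⟩ := exists_perm_of_card_fiber_eq _ _ hf
  have hv1 : ∀ x, la (σ (v x)) = la (σ' x) := fun x => congrArg Prod.fst (hv x)
  have hv2 : ∀ x, lb (v x) = lb x := fun x => congrArg Prod.snd (hv x)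
  rw [DoubleCoset.mem_doubleCoset]
  refine ⟨σ' * (σ * v)⁻¹, ?_, v, hv2, by group⟩
  intro y
  show la (σ' ((σ * v)⁻¹ y)) = la y
  rw [← hv1]
  show la ((σ * v) ((σ * v)⁻¹ y)) = la y
  simp

theorem exists_theta_eq (A : I → J → ℕ) (hA : IsContL la lb A) :
    ∃ σ : Equiv.Perm X, theta la lb σ = A := by
  classical
  have htot : Fintype.card X = Fintype.card (Σ p : I × J, Fin (A p.1 p.2)) := by
    rw [Fintype.card_sigma]
    simp only [Fintype.card_fin]
    rw [Fintype.sum_prod_type]
    simp only [hA.1]
    rw [← Finset.card_univ]
    exact Finset.card_eq_sum_card_fiberwise (f := la) (s := univ) (t := univ) (fun x _ => mem_univ _)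
  let e : X ≃ Σ p : I × J, Fin (A p.1 p.2) := Fintype.equivOfCardEq htot
  let r : X → I := fun x => (e x).1.1
  let c : X → J := fun x => (e x).1.2
  have key : ∀ i j, (univ.filter (fun x => r x = i ∧ c x = j)).card = A i j := by
    intro i j
    have h1 : (univ.filter (fun x => r x = i ∧ c x = j)).card =
        Fintype.card {y : Σ p : I × J, Fin (A p.1 p.2) // y.1 = (i, j)} := by
      rw [Fintype.card_subtype]
      apply Finset.card_equiv e
      intro x
      simp only [mem_filter, mem_univ, true_and, r, c]
      constructor
      · rintro ⟨h1, h2⟩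
        exact Prod.ext h1 h2
      · intro h
        rw [h]
        exact ⟨rfl, rfl⟩
    rw [h1, Fintype.card_congr (Equiv.sigmaSubtype (i, j))]
    simp
  have hr : ∀ i, (univ.filter (fun x => la x = i)).card = (univ.filter (fun x => r x = i)).card := by
    intro i
    rw [← hA.1 i]
    have h1 := Finset.card_eq_sum_card_fiberwise (f := c)
      (s := univ.filter (fun x => r x = i)) (t := univ) (fun x _ => mem_univ _)
    rw [h1]
    apply Finset.sum_congr rfl
    intro j _
    rw [← key i j, Finset.filter_filter]
  have hc : ∀ j, (univ.filter (fun x => c x = j)).card = (univ.filter (fun x => lb x = j)).card := by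
    intro j
    rw [← hA.2 j]
    have h1 := Finset.card_eq_sum_card_fiberwise (f := r)
      (s := univ.filter (fun x => c x = j)) (t := univ) (fun x _ => mem_univ _)
    rw [h1]
    apply Finset.sum_congr rfl
    intro i _
    rw [← key i j, Finset.filter_filter]
    congr 1
    ext x
    simp only [mem_filter, mem_univ, true_and]
    tauto
  obtain ⟨u, hu⟩ := exists_perm_of_card_fiber_eq la r hr
  obtain ⟨v, hv⟩ := exists_perm_of_card_fiber_eq c lb hc
  refine ⟨u * v, ?_⟩
  funext i j
  rw [← key i j, theta]
  apply Finset.card_equiv v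
  intro x
  simp only [mem_filter, mem_univ, true_and]
  have h1 : la ((u * v) x) = r (v x) := hu (v x)
  rw [h1, hv x]

/-- double cosets of stabilisers of labellings are counted by contingency matrices -/
theorem card_doubleCoset_stab :
    Nat.card (DoubleCoset.Quotient (stab la : Set (Equiv.Perm X)) (stab lb)) =
      Nat.card {A : I → J → ℕ // IsContL la lb A} := by
  let f : DoubleCoset.Quotient (stab la : Set (Equiv.Perm X)) (stab lb) →
      {A : I → J → ℕ // IsContL la lb A} :=
    Quotient.lift (s := DoubleCoset.setoid (stab la : Set (Equiv.Perm X)) (stab lb))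
      (fun σ => ⟨theta la lb σ, theta_isCont la lb σ⟩) (by
      intro σ σ' h
      obtain ⟨u, hu, v, hv, rfl⟩ := DoubleCoset.rel_iff.1 h
      apply Subtype.ext
      exact (theta_mul la lb σ u v hu hv).symm)
  apply Nat.card_eq_of_bijective f
  constructor
  · intro x y hxy
    induction x using Quotient.inductionOn' with | h σ => ?_
    induction y using Quotient.inductionOn' with | h σ' => ?_
    have h1 : theta la lb σ = theta la lb σ' := congrArg Subtype.val hxy
    show DoubleCoset.mk (stab la) (stab lb) σ = DoubleCoset.mk (stab la) (stab lb) σ'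
    rw [DoubleCoset.eq]
    exact DoubleCoset.mem_doubleCoset.1 (mem_doubleCoset_of_theta_eq la lb σ σ' h1)
  · rintro ⟨A, hA⟩
    obtain ⟨σ, hσ⟩ := exists_theta_eq la lb A hA
    refine ⟨DoubleCoset.mk (stab la) (stab lb) σ, ?_⟩
    apply Subtype.ext
    exact hσ

end General

section Young

variable {n : ℕ}

/-- the block labelling as a function to `Fin n` -/
def lab (α : Fin n → ℕ) (hα : ∑ i, α i = n) (i : Fin n) : Fin n :=
  ⟨Cfsg.compLabel α i, BlockTri.compLabel_lt α hα i⟩

theorem young_eq_stab (α : Fin n → ℕ) (hα : ∑ i, α i = n) :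
    Cfsg.youngSubgroup α = stab (lab α hα) := by
  ext σ
  constructor
  · intro h x
    exact Fin.ext (h x)
  · intro h x
    exact congrArg Fin.val (h x)

theorem card_lab (α : Fin n → ℕ) (hα : ∑ i, α i = n) (a : Fin n) :
    (univ.filter (fun x => lab α hα x = a)).card = α a := by
  rw [← BlockTri.card_compLabel α hα a]
  congr 1
  ext x
  simp only [mem_filter, mem_univ, true_and, lab, Fin.ext_iff]

theorem card_young_doubleCoset (α β : Fin n → ℕ) (hα : ∑ i, α i = n) (hβ : ∑ i, β i = n) :
    Nat.card (DoubleCoset.Quotient (Cfsg.youngSubgroup α : Set (Equiv.Perm (Fin n)))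
      (Cfsg.youngSubgroup β)) =
      Nat.card {A : Fin n → Fin n → ℕ // JT.IsCont n α β A} := by
  rw [young_eq_stab α hα, young_eq_stab β hβ, card_doubleCoset_stab]
  apply Nat.card_congr
  apply Equiv.subtypeEquivRight
  intro A
  unfold IsContL JT.IsCont
  simp only [card_lab]

end Young

end Cfsg.Agent.Helper17.YoungDC
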