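import Mathlib

/-!
# q-factorials and a q-Vandermonde determinant (helper17)

`Qn q r = 1 + q + ⋯ + q^(r-1)`, `Qf q r = Qn q 1 * ⋯ * Qn q r`, `ff q lam j = Qn q lam * Qn q (lam - 1) * ⋯`
(`j` factors). Main result `det_ff`:
`q ^ (∑_{j<n} ∑_{k<j} k) * det (ff q (lam i) j) = ∏_{i<j} (Qn q (lam j) - Qn q (lam i))`.
-/

set_option autoImplicit false
set_option linter.unusedSectionVars false

namespace Cfsg.Agent.Helper17.QVand

open Finset Polynomial

/-- the q-integer `1 + q + ⋯ + q^(r-1)` -/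
def Qn (q r : ℕ) : ℕ := ∑ l ∈ range r, q ^ l

/-- the q-factorial -/
def Qf (q r : ℕ) : ℕ := ∏ j ∈ range r, Qn q (j + 1)

/-- the falling q-factorial with `j` factors -/
def ff (q lam j : ℕ) : ℕ := ∏ k ∈ range j, Qn q (lam - k)

theorem Qn_zero (q : ℕ) : Qn q 0 = 0 := by simp [Qn]

theorem Qf_succ (q r : ℕ) : Qf q (r + 1) = Qf q r * Qn q (r + 1) := by
  unfold Qf; rw [prod_range_succ]

theorem Qf_pos (q r : ℕ) : 0 < Qf q r := by
  unfold Qf
  apply prod_pos
  intro j _
  unfold Qn
  rw [sum_range_succ']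
  simp

theorem ff_succ (q lam j : ℕ) : ff q lam (j + 1) = ff q lam j * Qn q (lam - j) := by
  unfold ff; rw [prod_range_succ]

theorem Qf_eq (q lam : ℕ) : ∀ j : ℕ, j ≤ lam → Qf q lam = Qf q (lam - j) * ff q lam j := by
  intro j
  induction j with
  | zero => intro _; simp [ff]
  | succ j ih =>
    intro h
    rw [ih (Nat.le_of_succ_le h), ff_succ]
    have h1 : lam - j = (lam - (j + 1)) + 1 := by omega
    rw [h1, Qf_succ, ← h1]
    ring

theorem ff_eq_zero (q lam j : ℕ) (h : lam < j) : ff q lam j = 0 := by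
  unfold ff
  apply prod_eq_zero (mem_range.2 h)
  rw [Nat.sub_self, Qn_zero]

theorem Qn_split (q lam k : ℕ) (h : k ≤ lam) : Qn q lam = Qn q k + q ^ k * Qn q (lam - k) := by
  obtain ⟨d, rfl⟩ := Nat.exists_eq_add_of_le h
  rw [Nat.add_sub_cancel_left]
  unfold Qn
  rw [sum_range_add, mul_sum]
  congr 1
  apply sum_congr rfl
  intro l _
  rw [pow_add]

variable {R : Type*} [CommRing R]

theorem prod_sub (q lam j : ℕ) :
    ∏ k ∈ range j, ((Qn q lam : R) - (Qn q k : R)) =
      (q : R) ^ (∑ k ∈ range j, k) * (ff q lam j : R) := by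
  rcases Nat.lt_or_ge lam j with h | h
  · rw [ff_eq_zero q lam j h, Nat.cast_zero, mul_zero]
    apply prod_eq_zero (mem_range.2 h)
    rw [sub_self]
  · unfold ff
    rw [Nat.cast_prod, ← prod_pow_eq_pow_sum, ← prod_mul_distrib]
    apply prod_congr rfl
    intro k hk
    have hk' : k ≤ lam := le_trans (le_of_lt (mem_range.1 hk)) h
    rw [Qn_split q lam k hk']
    push_cast
    ring

/-- the monic polynomial `∏_{k<j} (X - Qn q k)` -/
noncomputable def pol (R : Type*) [CommRing R] (q j : ℕ) : R[X] :=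
  ∏ k ∈ range j, (X - C (Qn q k : R))

theorem pol_monic (q j : ℕ) : (pol R q j).Monic := by
  unfold pol
  exact monic_prod_of_monic _ _ (fun k _ => monic_X_sub_C _)

theorem pol_natDegree [Nontrivial R] (q j : ℕ) : (pol R q j).natDegree = j := by
  unfold pol
  rw [natDegree_prod_of_monic _ _ (fun k _ => monic_X_sub_C _)]
  have h : ∀ k ∈ range j, (X - C (Qn q k : R)).natDegree = 1 := fun k _ => natDegree_X_sub_C _
  rw [sum_congr rfl h]
  simp

theorem pol_eval (q j : ℕ) (x : R) : (pol R q j).eval x = ∏ k ∈ range j, (x - (Qn q k : R)) := by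
  unfold pol
  rw [eval_prod]
  simp

theorem det_ff [Nontrivial R] (q n : ℕ) (lam : Fin n → ℕ) :
    (q : R) ^ (∑ j ∈ range n, ∑ k ∈ range j, k) *
        Matrix.det (Matrix.of fun i j : Fin n => (ff q (lam i) j.val : R)) =
      ∏ i : Fin n, ∏ j ∈ Ioi i, ((Qn q (lam j) : R) - (Qn q (lam i) : R)) := by
  rw [← Matrix.det_vandermonde,
    Matrix.det_eval_matrixOfPolynomials_eq_det_vandermonde (fun i => (Qn q (lam i) : R))
      (fun j : Fin n => pol R q j.val) (fun j => pol_natDegree q j.val) (fun j => pol_monic q j.val)]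
  have h1 : (Matrix.of fun i j : Fin n => (pol R q j.val).eval ((Qn q (lam i) : R))) =
      Matrix.of fun i j : Fin n => (q : R) ^ (∑ k ∈ range j.val, k) * (ff q (lam i) j.val : R) := by
    ext i j
    simp only [Matrix.of_apply]
    rw [pol_eval, prod_sub]
  have h2 := Matrix.det_mul_row (fun j : Fin n => (q : R) ^ (∑ k ∈ range j.val, k))
    (Matrix.of fun i j : Fin n => (ff q (lam i) j.val : R))
  simp only [Matrix.of_apply] at h2
  rw [h1, h2, prod_pow_eq_pow_sum, Fin.sum_univ_eq_sum_range (fun j => ∑ k ∈ range j, k) n]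

theorem sum_tri (n : ℕ) : ∑ j ∈ range n, ∑ k ∈ range j, k = n * (n - 1) * (n - 2) / 6 := by
  have h : ∀ m : ℕ, (∑ j ∈ range (m + 2), ∑ k ∈ range j, k) * 6 = (m + 2) * (m + 1) * m := by
    intro m
    induction m with
    | zero => simp [sum_range_succ]
    | succ m ih =>
      rw [sum_range_succ, add_mul, ih]
      have h2 := Finset.sum_range_id_mul_two (m + 2)
      have h3 : m + 2 - 1 = m + 1 := rfl
      rw [h3] at h2
      have h4 : (∑ k ∈ range (m + 2), k) * 6 = 3 * ((m + 2) * (m + 1)) := by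
        rw [← h2]; ring
      rw [h4]; ring
  rcases n with _ | _ | m
  · simp
  · simp
  · symm
    apply Nat.div_eq_of_eq_mul_left (by norm_num)
    rw [h m]
    have : m + 1 + 1 - 1 = m + 1 := rfl
    have h5 : m + 1 + 1 - 2 = m := rfl
    rw [this, h5]

end Cfsg.Agent.Helper17.QVand
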