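import Mathlib
import Cfsg.Prelude.Def_LinearParabolics
import Cfsg.Agent.Lib.Helper17.PermCharDC
import Cfsg.Agent.Lib.Helper17.GLParabolicDC
import Cfsg.Agent.Lib.Helper17.YoungDC
import Cfsg.Agent.Lib.Helper17.JacobiTrudi
import Cfsg.Agent.Lib.Helper18.GenChar
import Cfsg.Agent.Lib.Helper5.PermChar
import Cfsg.Agent.S2424

/-!
# The alternating sums of flag characters of `GL_n(q)` are orthonormal (helper17)

* `isCharacter_fixedPointCharacter`: permutation characters on cosets are characters.
* `classInner_fixedPointCharacter`: their inner products are numbers of double cosets.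
* `classInner_parabolic`: for `GL_n(q)` and compositions `α β` of `n`, the inner product of the flag
  characters is the number of contingency matrices, written as `JT.Ncoef n α (JT.fs n β)`.
* `isGenChar_unipotent`, `classInner_unipotent`, `unipotent_one_pos`.
-/

set_option autoImplicit false
set_option linter.unusedSectionVars false

namespace Cfsg.Agent.Helper17.UGL

open Cfsg
open scoped MatrixGroups ComplexConjugate

section General

universe u
variable {G : Type u} [Group G] [Fintype G]

theorem fixedPointCharacter_eq_indFun (H : Subgroup G) :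
    Cfsg.fixedPointCharacter H = Cfsg.indFun H (fun _ => 1) := by
  funext g
  rw [Cfsg.Agent.Helper5.indFun_const_one_eq_card_fixed]
  rfl

theorem isCharacter_fixedPointCharacter (H : Subgroup G) :
    Cfsg.IsCharacter G (Cfsg.fixedPointCharacter H) := by
  rw [fixedPointCharacter_eq_indFun]
  exact Cfsg.Agent.Helper24.isCharacter_indFun H Cfsg.Agent.Helper24.isCharacter_one

theorem classInner_fixedPointCharacter (H K : Subgroup G) :
    Cfsg.classInner (Cfsg.fixedPointCharacter H) (Cfsg.fixedPointCharacter K) =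
      (Nat.card (DoubleCoset.Quotient (H : Set G) K) : ℂ) := by
  rw [← PermDC.inner_fixedPointCharacter H K]
  unfold Cfsg.classInner
  congr 1
  apply Finset.sum_congr rfl
  intro g _
  congr 1
  unfold Cfsg.fixedPointCharacter
  exact Complex.conj_natCast _

end General

section GLn

variable {F : Type*} [Field F] [Fintype F] {n : ℕ} [Fintype (GL (Fin n) F)]

theorem classInner_parabolic (α β : Fin n → ℕ) (hα : ∑ i, α i = n) (hβ : ∑ i, β i = n) :
    Cfsg.classInner (Cfsg.fixedPointCharacter (Cfsg.parabolicGL n F α))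
      (Cfsg.fixedPointCharacter (Cfsg.parabolicGL n F β)) =
      ((JT.Ncoef n α (JT.fs n β) : ℤ) : ℂ) := by
  rw [classInner_fixedPointCharacter, GLBN.card_doubleCoset_eq,
    YoungDC.card_young_doubleCoset α β hα hβ, JT.Ncoef_eq, Int.cast_natCast]

/-- the coefficient of the flag character of `κ` in the alternating sum -/
def coef (ν : Fin n → ℕ) (κ : Equiv.Perm (Fin n)) : ℤ :=
  if ∀ i : Fin n, (κ i).val ≤ ν i + i.val then (Equiv.Perm.sign κ : ℤ) else 0

/-- the composition `λ - κ` -/
def comp (ν : Fin n → ℕ) (κ : Equiv.Perm (Fin n)) : Fin n → ℕ :=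
  fun i => ν i + i.val - (κ i).val

theorem sum_comp (ν : Fin n → ℕ) (hsum : ∑ i, ν i = n) (κ : Equiv.Perm (Fin n))
    (hc : ∀ i : Fin n, (κ i).val ≤ ν i + i.val) : ∑ i, comp ν κ i = n := by
  unfold comp
  have h1 : ∑ i : Fin n, (ν i + i.val - (κ i).val) + ∑ i : Fin n, (κ i).val =
      ∑ i : Fin n, (ν i + i.val) := by
    rw [← Finset.sum_add_distrib]
    apply Finset.sum_congr rfl
    intro i _
    exact Nat.sub_add_cancel (hc i)
  have h2 : ∑ i : Fin n, (κ i).val = ∑ i : Fin n, i.val :=
    Equiv.sum_comp κ (fun i : Fin n => i.val)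
  rw [Finset.sum_add_distrib, hsum] at h1
  omega

theorem unipotent_eq (ν : Fin n → ℕ) :
    Cfsg.unipotentCharacterGL n F ν = ∑ κ : Equiv.Perm (Fin n),
      ((coef ν κ : ℤ) : ℂ) • Cfsg.fixedPointCharacter (Cfsg.parabolicGL n F (comp ν κ)) := by
  funext g
  unfold Cfsg.unipotentCharacterGL
  rw [Finset.sum_apply]
  apply Finset.sum_congr rfl
  intro κ _
  rw [Pi.smul_apply, smul_eq_mul]
  unfold coef comp
  split_ifs with h
  · rfl
  · simp

theorem isGenChar_unipotent (ν : Fin n → ℕ) :
    Cfsg.IsGeneralizedCharacter (GL (Fin n) F) (Cfsg.unipotentCharacterGL n F ν) := by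
  rw [unipotent_eq]
  apply Cfsg.Agent.Helper18.isGenChar_sum
  intro κ _
  exact Cfsg.Agent.Helper18.isGenChar_intCast_smul _
    (Cfsg.Agent.Helper18.isGenChar_of_isCharacter (isCharacter_fixedPointCharacter _))

theorem strictMono_shift (ν : Fin n → ℕ) (hmono : Monotone ν) :
    StrictMono (fun i : Fin n => ν i + i.val) := by
  intro i j hij
  exact add_lt_add_of_le_of_lt (hmono hij.le) hij

theorem classInner_unipotent (ν ν' : Fin n → ℕ) (hmono : Monotone ν) (hsum : ∑ i, ν i = n)
    (hmono' : Monotone ν') (hsum' : ∑ i, ν' i = n) :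
    Cfsg.classInner (Cfsg.unipotentCharacterGL n F ν) (Cfsg.unipotentCharacterGL n F ν') =
      if ν = ν' then 1 else 0 := by
  rw [unipotent_eq, unipotent_eq, Cfsg.Agent.Helper24.classInner_sum_left]
  simp only [Cfsg.Agent.Helper24.classInner_sum_right, Cfsg.Agent.Helper24.classInner_smul_left,
    Cfsg.Agent.Helper24.classInner_smul_right, map_intCast]
  have key : ∀ κ κ' : Equiv.Perm (Fin n),
      ((coef ν' κ' : ℤ) : ℂ) * (((coef ν κ : ℤ) : ℂ) *
        Cfsg.classInner (Cfsg.fixedPointCharacter (Cfsg.parabolicGL n F (comp ν κ)))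
          (Cfsg.fixedPointCharacter (Cfsg.parabolicGL n F (comp ν' κ')))) =
      (((if (∀ i, (κ i).val ≤ ν i + i.val) ∧ (∀ i, (κ' i).val ≤ ν' i + i.val) then
        (Equiv.Perm.sign κ : ℤ) * (Equiv.Perm.sign κ' : ℤ) *
          JT.Ncoef n (fun i => ν i + i.val - (κ i).val) (JT.fs n (fun i => ν' i + i.val - (κ' i).val))
      else 0 : ℤ)) : ℂ) := by
    intro κ κ'
    by_cases h1 : ∀ i, (κ i).val ≤ ν i + i.val
    · by_cases h2 : ∀ i, (κ' i).val ≤ ν' i + i.val
      · rw [if_pos ⟨h1, h2⟩, classInner_parabolic _ _ (sum_comp ν hsum κ h1) (sum_comp ν' hsum' κ' h2)]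
        unfold coef
        rw [if_pos h1, if_pos h2]
        push_cast
        unfold comp
        ring
      · rw [if_neg (fun h => h2 h.2)]
        unfold coef
        rw [if_neg h2]
        simp
    · rw [if_neg (fun h => h1 h.1)]
      unfold coef
      rw [if_neg h1]
      simp
  simp only [key]
  simp only [← Int.cast_sum]
  rw [JT.orthogonality n (fun i => ν i + i.val) (fun i => ν' i + i.val)
    (strictMono_shift ν hmono) (strictMono_shift ν' hmono')]
  have hiff : ((fun i : Fin n => ν i + i.val) = fun i => ν' i + i.val) ↔ ν = ν' := by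
    constructor
    · intro h
      funext i
      have := congrFun h i
      omega
    · intro h
      rw [h]
  by_cases h : ν = ν'
  · rw [if_pos h, if_pos (hiff.2 h)]
    simp
  · rw [if_neg h, if_neg (fun h' => h (hiff.1 h'))]
    simp

omit [Fintype (GL (Fin n) F)] in
/-- the degree of the alternating sum is a positive real number -/
theorem unipotent_one_pos (ν : Fin n → ℕ) (hmono : Monotone ν) (hsum : ∑ i, ν i = n) :
    ∃ r : ℝ, 0 < r ∧ Cfsg.unipotentCharacterGL n F ν 1 = (r : ℂ) := by
  classical
  have h := Cfsg.Agent.S2424.result (F := F) (q := Fintype.card F) rfl ν hmono hsum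
  set q := Fintype.card F with hq
  have hq0 : 0 < q := Fintype.card_pos
  set S : ℕ → ℕ := fun m => ∑ l ∈ Finset.range m, q ^ l with hS
  have hSmono : StrictMono S := by
    apply strictMono_nat_of_lt_succ
    intro m
    show ∑ l ∈ Finset.range m, q ^ l < ∑ l ∈ Finset.range (m + 1), q ^ l
    rw [Finset.sum_range_succ]
    have : 0 < q ^ m := pow_pos hq0 m
    omega
  have hSpos : ∀ j, 0 < S (j + 1) := by
    intro j
    have h0 : S 0 = 0 := by simp [hS]
    have h1 : S 0 < S (j + 1) := hSmono (Nat.succ_pos j)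
    rw [h0] at h1
    exact h1
  set A : ℝ := (q : ℝ) ^ (n * (n - 1) * (n - 2) / 6) *
    ∏ i : Fin n, ∏ j ∈ Finset.range (ν i + i.val), ((S (j + 1) : ℕ) : ℝ) with hA
  set B : ℝ := (∏ j ∈ Finset.range n, ((S (j + 1) : ℕ) : ℝ)) *
    ∏ i : Fin n, ∏ j ∈ Finset.univ.filter (fun j : Fin n => i < j),
      (((S (ν j + j.val) : ℕ) : ℝ) - ((S (ν i + i.val) : ℕ) : ℝ)) with hB
  have hApos : 0 < A := by
    apply mul_pos
    · exact pow_pos (by exact_mod_cast hq0) _
    · apply Finset.prod_pos
      intro i _
      apply Finset.prod_pos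
      intro j _
      exact_mod_cast hSpos j
  have hBpos : 0 < B := by
    apply mul_pos
    · apply Finset.prod_pos
      intro j _
      exact_mod_cast hSpos j
    · apply Finset.prod_pos
      intro i _
      apply Finset.prod_pos
      intro j hj
      rw [Finset.mem_filter] at hj
      rw [sub_pos]
      have : ν i + i.val < ν j + j.val := add_lt_add_of_le_of_lt (hmono hj.2.le) hj.2
      exact_mod_cast hSmono this
  have h' : Cfsg.unipotentCharacterGL n F ν 1 * (A : ℂ) = (B : ℂ) := by
    rw [hA, hB]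
    push_cast
    rw [← mul_assoc]
    exact h
  refine ⟨B / A, div_pos hBpos hApos, ?_⟩
  have hA0 : (A : ℂ) ≠ 0 := by exact_mod_cast hApos.ne'
  rw [Complex.ofReal_div, eq_div_iff hA0]
  exact h'

end GLn

end Cfsg.Agent.Helper17.UGL
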