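import Mathlib
import Cfsg.Agent.Lib.Helper17.BNCox3
import Cfsg.Agent.Lib.Helper17.UnipotentGL
import Cfsg.Agent.Lib.Helper8.CharExtra

/-!
# The Steinberg function of a finite group with a (B, N)-pair is an irreducible character (helper17)
-/

set_option autoImplicit false
set_option linter.unusedSectionVars false

namespace Cfsg.Agent.Helper17.BNCox

open Cfsg Cfsg.Agent.Helper2.WordLen Cfsg.Agent.Helper2.BN
open scoped ComplexConjugate

universe u
variable {G : Type u} [Group G] (P : Cfsg.BNPair G) [Fintype P.S]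

theorem St_eq_sum : St P = ∑ A : Finset P.S,
    ((((-1 : ℤ) ^ A.card : ℤ)) : ℂ) • Cfsg.fixedPointCharacter (par P (↑A : Set P.S)) := by
  funext g
  unfold St
  rw [Finset.sum_apply]
  apply Finset.sum_congr rfl
  intro A _
  rw [Pi.smul_apply, smul_eq_mul]
  push_cast
  rfl

theorem isGenChar_St [Fintype G] : Cfsg.IsGeneralizedCharacter G (St P) := by
  rw [St_eq_sum]
  apply Cfsg.Agent.Helper18.isGenChar_sum
  intro A _
  exact Cfsg.Agent.Helper18.isGenChar_intCast_smul _
    (Cfsg.Agent.Helper18.isGenChar_of_isCharacter (UGL.isCharacter_fixedPointCharacter _))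

theorem conj_St (g : G) : conj (St P g) = St P g := by
  unfold St Cfsg.fixedPointCharacter
  rw [map_sum]
  apply Finset.sum_congr rfl
  intro A _
  rw [map_mul, map_pow, map_neg, map_one, Complex.conj_natCast]

theorem classInner_St [Fintype G] : Cfsg.classInner (St P) (St P) = 1 := by
  unfold Cfsg.classInner
  simp only [conj_St]
  exact St_norm P

/-- the degree of the Steinberg function is a positive integer -/
theorem St_one_pos [Finite G] : ∃ m : ℕ, 0 < m ∧ St P 1 = m := by
  obtain ⟨w₀, hL, hR, huL, huR⟩ := exists_longest P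
  obtain ⟨n₀, hn₀⟩ := π_surj P w₀
  let H₀ : Subgroup G := Subgroup.comap (MulAut.conj (n₀ : G)⁻¹).toMonoidHom P.B
  have hH₀ : ∀ x ∈ P.B, x ∈ H₀ ↔ (n₀ : G)⁻¹ * x * n₀ ∈ P.B := by
    intro x _
    show (MulAut.conj (n₀ : G)⁻¹) x ∈ P.B ↔ _
    rw [MulAut.conj_apply, inv_inv]
  have h := St_apply_B P n₀ (by rw [hn₀]; exact hR) H₀ hH₀ 1
  rw [Subgroup.coe_one] at h
  refine ⟨Nat.card (MulAction.fixedBy (P.B ⧸ H₀.subgroupOf P.B) (1 : P.B)), ?_, h⟩
  have : Nonempty (MulAction.fixedBy (P.B ⧸ H₀.subgroupOf P.B) (1 : P.B)) :=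
    ⟨⟨((1 : P.B) : P.B ⧸ H₀.subgroupOf P.B), by rw [MulAction.mem_fixedBy, one_smul]⟩⟩
  exact Nat.card_pos

/-- the Steinberg function of a finite group with a (B, N)-pair is an irreducible character -/
theorem St_irr [Fintype G] : Cfsg.IsIrrCharacter G (St P) := by
  rcases Cfsg.Agent.Helper8.genChar_norm_one (isGenChar_St P) (classInner_St P) with h | h
  · exact h
  · exfalso
    obtain ⟨m, _, hm⟩ := Cfsg.Agent.Helper24.irr_one_eq h
    obtain ⟨r, hr, hr1⟩ := St_one_pos P
    rw [Pi.neg_apply, hr1] at hm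
    have h2 : -(r : ℝ) = (m : ℝ) := by exact_mod_cast hm
    have h3 : (0 : ℝ) ≤ (m : ℝ) := Nat.cast_nonneg m
    have h4 : (0 : ℝ) < (r : ℝ) := by exact_mod_cast hr
    linarith

end Cfsg.Agent.Helper17.BNCox
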