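import Mathlib
import Cfsg.Prelude.Def_ParabolicCharacters
import Cfsg.Agent.Lib.Lead.ChevBN4
import Cfsg.Agent.Lib.Lead.ChevBV
import Cfsg.Agent.Lib.Helper17.BNCox4

/-!
# The Steinberg character of a Chevalley group through its (B, N)-pair (helper17)

Glue between lead's `ChevFacts.bnPair` and the abstract theory of `BNCox1-4`:
* `steinberg_eq`: `D.steinbergCharacter F = BNCox.St hF.bnPair`;
* `steinberg_irr`: it is an irreducible character;
* `steinberg_apply_borel`: on `B` it is the permutation character on the cosets of `H`.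
-/

set_option autoImplicit false
set_option linter.unusedSectionVars false

namespace Cfsg.Agent.Helper17.ChevSt

open Cfsg Cfsg.Lie Cfsg.Agent.Lead.Chev Cfsg.Agent.Helper2.WordLen Cfsg.Agent.Helper2.BN
  Cfsg.Agent.Helper17.BNCox

theorem sum_finset_fin {M : Type*} [AddCommMonoid M] (n : ℕ) (f : Finset ℕ → M) :
    ∑ A : Finset (Fin n), f (A.map Fin.valEmbedding) = ∑ J ∈ (Finset.range n).powerset, f J := by
  refine Finset.sum_bij' (fun A _ => A.map Fin.valEmbedding)
    (fun J hJ => J.attachFin (fun m hm => Finset.mem_range.1 (Finset.mem_powerset.1 hJ hm)))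
    ?_ ?_ ?_ ?_ ?_
  · intro A _
    rw [Finset.mem_powerset]
    intro m hm
    obtain ⟨a, _, rfl⟩ := Finset.mem_map.1 hm
    exact Finset.mem_range.2 a.2
  · intro J hJ
    exact Finset.mem_univ _
  · intro A _
    ext a
    rw [Finset.mem_attachFin, Finset.mem_map]
    constructor
    · rintro ⟨b, hb, hba⟩
      have : b = a := Fin.ext hba
      rwa [← this]
    · intro ha
      exact ⟨a, ha, rfl⟩
  · intro J hJ
    exact Finset.map_valEmbedding_attachFin _
  · intro A _
    rfl

theorem closure_subgroupOf {G : Type*} [Group G] (K : Subgroup G) (X : Set G) (hX : X ⊆ K) :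
    (Subgroup.closure X).subgroupOf K = Subgroup.closure (K.subtype ⁻¹' X) := by
  have h1 : Subgroup.closure X = (Subgroup.closure (K.subtype ⁻¹' X)).map K.subtype := by
    rw [MonoidHom.map_closure, Set.image_preimage_eq_of_subset]
    rw [Subgroup.coe_subtype, Subtype.range_coe]
    exact hX
  rw [Subgroup.subgroupOf, h1, Subgroup.comap_map_eq_self_of_injective (Subgroup.subtype_injective K)]

variable {F : Type*} [Field F] {D : ChevalleyDatum} (hF : ChevFacts D F)

/-- the distinguished generators of the (B, N)-pair -/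
def sGen (i : Fin D.rank) : ↥(hF.bnPair.S) :=
  ⟨⟨nGL D hF.xadd (D.simple i), nGL_mem_group D hF.xadd _⟩, ⟨i.val, i.2, nGL_val D hF.xadd _⟩⟩

theorem sGen_coe (i : Fin D.rank) :
    (((sGen hF i : ↥(hF.bnPair.S)) : ↥(D.group F)) : GL D.Idx F) = nGL D hF.xadd (D.simple i) := rfl

theorem sGen_injective : Function.Injective (sGen hF) := by
  intro i j h
  have h1 : nGL D hF.xadd (D.simple i) = nGL D hF.xadd (D.simple j) := by
    rw [← sGen_coe hF i, ← sGen_coe hF j, h]
  have h2 : (nGL D hF.xadd (D.simple i))⁻¹ * nGL D hF.xadd (D.simple j) ∈ D.borelSubgroup F := by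
    rw [h1, inv_mul_cancel]
    exact one_mem _
  exact Fin.ext (hF.eq_of_nGL_inv_mul_mem_borel i j i.2 j.2 h2)

theorem sGen_surjective : Function.Surjective (sGen hF) := by
  rintro ⟨s, i, hi, hs⟩
  refine ⟨⟨i, hi⟩, ?_⟩
  apply Subtype.ext
  apply Subtype.ext
  apply Units.ext
  show ((nGL D hF.xadd (D.simple i) : GL D.Idx F) : Matrix D.Idx D.Idx F) = _
  rw [nGL_val, hs]

/-- the distinguished generators are indexed by the fundamental roots -/
noncomputable def sEquiv : Fin D.rank ≃ ↥(hF.bnPair.S) :=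
  Equiv.ofBijective (sGen hF) ⟨sGen_injective hF, sGen_surjective hF⟩

noncomputable instance instFintypeS : Fintype ↥(hF.bnPair.S) := Fintype.ofEquiv _ (sEquiv hF)

theorem nGL_simple_mem_group' (j : ℕ) : nGL D hF.xadd (D.simple j) ∈ D.group F :=
  nGL_mem_group D hF.xadd _

/-- the parabolic subgroups of the (B, N)-pair are the standard parabolic subgroups -/
theorem par_eq (A' : Finset (Fin D.rank)) :
    par hF.bnPair (↑(A'.map (sEquiv hF).toEmbedding) : Set ↥(hF.bnPair.S)) =
      D.parabolicIn F (A'.map Fin.valEmbedding) := by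
  have hX : {g : GL D.Idx F | ∃ j ∈ (↑(A'.map Fin.valEmbedding) : Set ℕ), j < D.rank ∧
      (g : Matrix D.Idx D.Idx F) = D.nMat F (D.simple j) 1} ⊆ (D.group F : Set (GL D.Idx F)) := by
    rintro g ⟨j, _, _, hg⟩
    have : g = nGL D hF.xadd (D.simple j) := Units.ext (by rw [hg, nGL_val])
    rw [this]
    exact nGL_mem_group D hF.xadd _
  have hXG : Subgroup.closure {g : GL D.Idx F | ∃ j ∈ (↑(A'.map Fin.valEmbedding) : Set ℕ),
      j < D.rank ∧ (g : Matrix D.Idx D.Idx F) = D.nMat F (D.simple j) 1} ≤ D.group F := by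
    rw [Subgroup.closure_le]
    exact hX
  unfold par BNPair.parabolic ChevalleyDatum.parabolicIn ChevalleyDatum.parabolicSubgroup
  rw [Subgroup.subgroupOf_sup hF.borel_le_group hXG, closure_subgroupOf _ _ hX]
  show (D.borelSubgroup F).subgroupOf (D.group F) ⊔ _ = _
  congr 2
  ext s
  simp only [Set.mem_image, Finset.mem_coe, Finset.mem_map, Set.mem_preimage, Set.mem_ofPred_eq,
    Subgroup.coe_subtype]
  constructor
  · rintro ⟨x, ⟨i, hi, rfl⟩, rfl⟩
    refine ⟨i.val, ⟨i, hi, rfl⟩, i.2, ?_⟩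
    show (((sGen hF i : ↥(hF.bnPair.S)) : ↥(D.group F)) : GL D.Idx F).val = _
    rw [sGen_coe, nGL_val]
  · rintro ⟨j, ⟨i, hi, rfl⟩, _, hs⟩
    refine ⟨sEquiv hF i, ⟨i, hi, rfl⟩, ?_⟩
    apply Subtype.ext
    apply Units.ext
    show ((nGL D hF.xadd (D.simple i) : GL D.Idx F) : Matrix D.Idx D.Idx F) = _
    rw [nGL_val]
    exact hs.symm

/-- the Steinberg character is the Steinberg function of the (B, N)-pair -/
theorem steinberg_eq : D.steinbergCharacter F = St hF.bnPair := by
  funext g
  unfold ChevalleyDatum.steinbergCharacter St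
  rw [← Equiv.sum_comp (Equiv.finsetCongr (sEquiv hF)), ← sum_finset_fin D.rank
    (fun J => (-1 : ℂ) ^ J.card * Cfsg.fixedPointCharacter (D.parabolicIn F J) g)]
  apply Finset.sum_congr rfl
  intro A' _
  rw [Equiv.finsetCongr_apply, par_eq, Finset.card_map, Finset.card_map]

end Cfsg.Agent.Helper17.ChevSt
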