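import Mathlib
import Cfsg.Agent.Lib.Helper17.ChevSt1
import Cfsg.Agent.Lib.Lead.ChevOrder

/-!
# The longest element of the Weyl group of a Chevalley group, and the restriction of the Steinberg
character to the Borel subgroup (helper17)
-/

set_option autoImplicit false
set_option linter.unusedSectionVars false

namespace Cfsg.Agent.Helper17.ChevSt

open Cfsg Cfsg.Lie Cfsg.Agent.Lead.Chev Cfsg.Agent.Helper2.WordLen Cfsg.Agent.Helper2.BN
  Cfsg.Agent.Helper17.BNCox

variable {F : Type*} [Field F] {D : ChevalleyDatum} (hF : ChevFacts D F)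

/-- a word for the longest element -/
noncomputable def w0 : List ℕ := Classical.choose hF.w0

theorem w0_lt : ∀ i ∈ w0 hF, i < D.rank := (Classical.choose_spec hF.w0).1

/-- the representative of the longest element in `GL` -/
noncomputable def n0GL : GL D.Idx F := nWordGL D hF.xadd (w0 hF)

theorem n0GL_conj :
    (D.posUnipotent F).map (MulAut.conj (n0GL hF)).toMonoidHom = D.negUnipotent F :=
  map_conj_posUnipotent D hF.xadd (etaOf D) hF.nsimple (w0 hF) (w0_lt hF)
    (Classical.choose_spec hF.w0).2.1 (Classical.choose_spec hF.w0).2.2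

theorem n0GL_mem_group : n0GL hF ∈ D.group F := nWordGL_mem_group D hF.xadd _

theorem n0GL_mem_monomial : n0GL hF ∈ D.monomialSubgroup F :=
  nWordGL_mem_monomial D hF.xadd hF.simple_lt _ (w0_lt hF)

/-- the representative of the longest element -/
noncomputable def n0 : ↥(hF.bnPair.N) := ⟨⟨n0GL hF, n0GL_mem_group hF⟩, n0GL_mem_monomial hF⟩

theorem n0_coe : (((n0 hF : ↥(hF.bnPair.N)) : ↥(D.group F)) : GL D.Idx F) = n0GL hF := rfl

/-- conjugating a negative root element back -/
theorem n0GL_inv_conj_neg (v : GL D.Idx F) (hv : v ∈ D.negUnipotent F) :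
    (n0GL hF)⁻¹ * v * n0GL hF ∈ D.posUnipotent F := by
  rw [← n0GL_conj hF] at hv
  obtain ⟨u, hu, rfl⟩ := hv
  have : (n0GL hF)⁻¹ * (MulAut.conj (n0GL hF)).toMonoidHom u * n0GL hF = u := by
    show (n0GL hF)⁻¹ * (n0GL hF * u * (n0GL hF)⁻¹) * n0GL hF = u
    group
  rw [this]
  exact hu

theorem n0GL_conj_pos (u : GL D.Idx F) (hu : u ∈ D.posUnipotent F) :
    n0GL hF * u * (n0GL hF)⁻¹ ∈ D.negUnipotent F := by
  rw [← n0GL_conj hF]
  exact ⟨u, hu, rfl⟩

/-- the element `n₀` has all left descents -/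
theorem n0_allDescL (t : ↥(hF.bnPair.S)) :
    ℓ hF.bnPair (σ hF.bnPair t * π hF.bnPair (n0 hF)) < ℓ hF.bnPair (π hF.bnPair (n0 hF)) := by
  obtain ⟨i, rfl⟩ := sGen_surjective hF t
  rw [← not_Up_iff_lt]
  apply not_Up_of_exists
  set r := D.simple i with hr
  have hX := hF.xadd
  have hpos : D.IsPosRoot r := hF.simple_pos i i.2
  have hneg : D.IsNegRoot (D.neg r) := hF.sign.neg_of_pos _ hpos
  -- the elements
  let x1 : ↥(D.group F) := ⟨xGL D hX r (-1), xGL_mem_group D hX r (-1)⟩
  let x2 : ↥(D.group F) := ⟨xGL D hX r 1, xGL_mem_group D hX r 1⟩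
  let u : GL D.Idx F := (n0GL hF)⁻¹ * xGL D hX (D.neg r) (-1) * n0GL hF
  have huU : u ∈ D.posUnipotent F :=
    n0GL_inv_conj_neg hF _ (Subgroup.subset_closure ⟨D.neg r, -1, hneg, rfl⟩)
  have huG : u ∈ D.group F := hF.posUnipotent_le_group huU
  have hx1B : x1 ∈ hF.bnPair.B := by
    show (x1 : GL D.Idx F) ∈ D.borelSubgroup F
    exact posUnipotent_le_borel D (xGL_mem_posUnipotent D hX r hpos (-1))
  have hx2B : x2 ∈ hF.bnPair.B := by
    show (x2 : GL D.Idx F) ∈ D.borelSubgroup F
    exact posUnipotent_le_borel D (xGL_mem_posUnipotent D hX r hpos 1)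
  have huB : (⟨u, huG⟩ : ↥(D.group F)) ∈ hF.bnPair.B := by
    show u ∈ D.borelSubgroup F
    exact posUnipotent_le_borel D huU
  refine ⟨x1 * ((n0 hF : ↥(hF.bnPair.N)) : ↥(D.group F)), ?_, ?_⟩
  · rw [mem_C_iff]
    exact ⟨x1, hx1B, 1, one_mem _, by rw [mul_one]⟩
  · rw [mem_C_iff]
    refine ⟨x2, hx2B, ⟨u, huG⟩, huB, ?_⟩
    apply Subtype.ext
    show nGL D hX r * (xGL D hX r (-1) * n0GL hF) = xGL D hX r 1 * n0GL hF * u
    have e1 : nGL D hX r = xGL D hX r 1 * xGL D hX (D.neg r) (-1) * xGL D hX r 1 := by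
      rw [nGL_eq_nGLt, nGLt_eq, inv_one]
    have e2 : xGL D hX r 1 * xGL D hX r (-1) = 1 := by
      rw [xGL_mul, add_neg_cancel, xGL_zero]
    calc nGL D hX r * (xGL D hX r (-1) * n0GL hF)
        = xGL D hX r 1 * xGL D hX (D.neg r) (-1) * (xGL D hX r 1 * xGL D hX r (-1)) * n0GL hF := by
          rw [e1]; group
      _ = xGL D hX r 1 * xGL D hX (D.neg r) (-1) * n0GL hF := by rw [e2, mul_one]
      _ = xGL D hX r 1 * n0GL hF * u := by
          show _ = xGL D hX r 1 * n0GL hF * ((n0GL hF)⁻¹ * xGL D hX (D.neg r) (-1) * n0GL hF)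
          group

/-- the element `n₀` represents the longest element -/
theorem n0_allDescR [Finite F] (t : ↥(hF.bnPair.S)) :
    ℓ hF.bnPair (π hF.bnPair (n0 hF) * σ hF.bnPair t) < ℓ hF.bnPair (π hF.bnPair (n0 hF)) := by
  have : Finite (GL D.Idx F) := by
    have : Fintype F := Fintype.ofFinite F
    infer_instance
  obtain ⟨w₀, hL, hR, huL, huR⟩ := exists_longest hF.bnPair
  rw [huL _ (n0_allDescL hF)]
  exact hR t

/-- `B ∩ n₀ B n₀⁻¹ = H` -/
theorem mem_diagonal_iff (x : ↥(D.group F)) (hx : x ∈ hF.bnPair.B) :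
    x ∈ (D.diagonalSubgroup F).subgroupOf (D.group F) ↔
      (((n0 hF : ↥(hF.bnPair.N)) : ↥(D.group F)))⁻¹ * x * (n0 hF : ↥(hF.bnPair.N)) ∈ hF.bnPair.B := by
  have hxB : (x : GL D.Idx F) ∈ D.borelSubgroup F := hx
  constructor
  · intro h
    have h' : (x : GL D.Idx F) ∈ D.diagonalSubgroup F := h
    show (n0GL hF)⁻¹ * (x : GL D.Idx F) * n0GL hF ∈ D.borelSubgroup F
    have h1 := hF.monomial_conj_mem_diagonal _ (inv_mem (n0GL_mem_monomial hF)) _ h'
    rw [inv_inv] at h1
    exact diagonal_le_borel D h1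
  · intro h
    have h' : (n0GL hF)⁻¹ * (x : GL D.Idx F) * n0GL hF ∈ D.borelSubgroup F := h
    rw [hF.mem_borel_iff] at h'
    obtain ⟨u, hu, h₁, hh₁, e⟩ := h'
    have hv := n0GL_conj_pos hF u hu
    have hh := hF.monomial_conj_mem_diagonal _ (n0GL_mem_monomial hF) h₁ hh₁
    have ex : (x : GL D.Idx F) =
        (n0GL hF * u * (n0GL hF)⁻¹) * (n0GL hF * h₁ * (n0GL hF)⁻¹) := by
      have : (x : GL D.Idx F) = n0GL hF * ((n0GL hF)⁻¹ * (x : GL D.Idx F) * n0GL hF) * (n0GL hF)⁻¹ := by
        group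
      rw [this, e]
      group
    have h1 := hF.eq_one_of_neg_mul_diag_mem_borel _ hv _ hh (by rw [← ex]; exact hxB)
    show (x : GL D.Idx F) ∈ D.diagonalSubgroup F
    rw [ex, h1, one_mul]
    exact hh

variable [Fintype F]

include hF in
/-- the Steinberg character of a Chevalley group is irreducible -/
theorem steinberg_irr : Cfsg.IsIrrCharacter ↥(D.group F) (D.steinbergCharacter F) := by
  have : Fintype ↥(D.group F) := Fintype.ofFinite _
  rw [steinberg_eq hF]
  exact St_irr hF.bnPair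

include hF in
/-- restricted to `B` the Steinberg character is the permutation character on the cosets of `H` -/
theorem steinberg_apply_borel (b : ↥((D.borelSubgroup F).subgroupOf (D.group F))) :
    D.steinbergCharacter F ((((D.borelSubgroup F).subgroupOf (D.group F)).subtype) b) =
      Cfsg.fixedPointCharacter (((D.diagonalSubgroup F).subgroupOf (D.group F)).subgroupOf
        ((D.borelSubgroup F).subgroupOf (D.group F))) b := by
  rw [steinberg_eq hF]
  exact St_apply_B hF.bnPair (n0 hF) (n0_allDescR hF)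
    ((D.diagonalSubgroup F).subgroupOf (D.group F)) (mem_diagonal_iff hF) b

theorem fixedPointCharacter_one' {G : Type*} [Group G] (H : Subgroup G) :
    Cfsg.fixedPointCharacter H 1 = (H.index : ℂ) := by
  unfold Cfsg.fixedPointCharacter
  rw [Subgroup.index_eq_card]
  congr 1
  apply Nat.card_congr
  exact Equiv.subtypeUnivEquiv (fun c => by rw [MulAction.mem_fixedBy, one_smul])

theorem index_subgroupOf_mul {G : Type*} [Group G] [Finite G] (H B K : Subgroup G) (hHB : H ≤ B)
    (hBK : B ≤ K) :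
    ((H.subgroupOf K).subgroupOf (B.subgroupOf K)).index * Nat.card H = Nat.card B := by
  have h1 := Subgroup.card_mul_index ((H.subgroupOf K).subgroupOf (B.subgroupOf K))
  have h2 : Nat.card ↥((H.subgroupOf K).subgroupOf (B.subgroupOf K)) = Nat.card H := by
    have hle : H.subgroupOf K ≤ B.subgroupOf K := fun x hx => hHB hx
    rw [Nat.card_congr (Subgroup.subgroupOfEquivOfLe hle).toEquiv,
      Nat.card_congr (Subgroup.subgroupOfEquivOfLe (hHB.trans hBK)).toEquiv]
  have h3 : Nat.card ↥(B.subgroupOf K) = Nat.card B :=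
    Nat.card_congr (Subgroup.subgroupOfEquivOfLe hBK).toEquiv
  rw [h2, h3] at h1
  rw [mul_comm]
  exact h1

include hF in
/-- the degree of the Steinberg character is the order of `U` -/
theorem steinberg_one : D.steinbergCharacter F 1 = (Nat.card ↥(D.posUnipotent F) : ℂ) := by
  have h := steinberg_apply_borel hF 1
  rw [map_one, fixedPointCharacter_one'] at h
  rw [h]
  have h1 := index_subgroupOf_mul (D.diagonalSubgroup F) (D.borelSubgroup F) (D.group F)
    (diagonal_le_borel D) hF.borel_le_group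
  rw [hF.card_borel] at h1
  have h2 : 0 < Nat.card ↥(D.diagonalSubgroup F) := Nat.card_pos
  rw [Nat.eq_of_mul_eq_mul_right h2 h1]

end Cfsg.Agent.Helper17.ChevSt
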