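import Mathlib
import Cfsg.Agent.Lib.Helper17.BG11X

/-!
# Bender–Glauberman Theorem 11.7, the `q`-side: `A` centralises `O_q(M)`  (helper17)
-/

set_option autoImplicit false
set_option linter.style.haveILetI false
set_option linter.unusedSectionVars false

namespace Cfsg.Agent.Helper17.BG11

open Cfsg Subgroup Cfsg.Agent.Helper15

universe u

variable {G : Type u} [Group G] [Finite G] {M : Subgroup G} {p q : ℕ} [Fact p.Prime]
  [Fact q.Prime] {A A0 : Subgroup G}

/-- two normal subgroups of `M` of coprime orders centralise each other -/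
theorem le_centralizer_of_coprime_normal {N Y X : Subgroup G} (hXN : X ≤ N)
    (hN : ∀ y ∈ Y, y ∈ normalizer (N : Set G)) (hY : ∀ x ∈ X, x ∈ normalizer (Y : Set G))
    (hcop : (Nat.card N).Coprime (Nat.card Y)) : X ≤ centralizer (Y : Set G) := by
  have hinf : N ⊓ Y = ⊥ := (disjoint_of_coprime_natCard hcop).eq_bot
  intro x hx
  rw [mem_centralizer_iff]
  intro y hy
  have h1 : x * y * x⁻¹ * y⁻¹ ∈ N ⊓ Y := by
    refine Subgroup.mem_inf.mpr ⟨?_, ?_⟩
    · have h2 : y * x⁻¹ * y⁻¹ ∈ N :=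
        (mem_normalizer_iff.mp (hN y hy) x⁻¹).mp (N.inv_mem (hXN hx))
      have e : x * y * x⁻¹ * y⁻¹ = x * (y * x⁻¹ * y⁻¹) := by group
      rw [e]
      exact N.mul_mem (hXN hx) h2
    · have h2 : x * y * x⁻¹ ∈ Y := (mem_normalizer_iff.mp (hY x hx) y).mp hy
      exact Y.mul_mem h2 (Y.inv_mem hy)
  rw [hinf, mem_bot] at h1
  calc y * x = (x * y * x⁻¹ * y⁻¹)⁻¹ * (x * y) := by group
    _ = x * y := by rw [h1, inv_one, one_mul]

/-- **BG 11.7, q-side**: `A` centralises `O_q(M)` for `q ∉ σ(M) ∪ {p}`, given the Hall–Higman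
step (F2) and the signaliser step (Step 5). -/
theorem centralizes_piCore (hG : IsMinSimpleOddOrder G) (hE : Exc M p A A0) (hqp : q ≠ p)
    (hqs : q ∉ sigma M)
    (hF2 : ∀ Q : Subgroup G, Q ≤ M → IsPGroup q Q → A ≤ normalizer (Q : Set G) →
      ⁅Q, A⁆ ≤ centralizer (sigmaCore M : Set G))
    (hSig : ∀ Qs : Subgroup G, Qs ∈ maxInvSubgroups ⊤ A {q} → ∀ T : Subgroup G, T ≤ Qs →
      IsElementaryAbelian q T → Nat.card T = q ^ 2 →
      (∀ B : Subgroup G, IsElementaryAbelian q B → T ≤ B → B = T) →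
      q ∣ Nat.card (centralizer (A : Set G)) → A ≤ centralizer (Qs : Set G)) :
    A ≤ centralizer ((piCoreOf {q} M : Subgroup G) : Set G) := by
  obtain ⟨Y, hYdef⟩ : ∃ Y : Subgroup G, Y = piCoreOf {q} M := ⟨_, rfl⟩
  rw [← hYdef]
  by_cases hY1 : Y = ⊥
  · rw [hY1]
    intro a _
    rw [mem_centralizer_iff]
    intro y hy
    rw [SetLike.mem_coe, mem_bot] at hy
    rw [hy, one_mul, mul_one]
  have hM := hE.hM
  have hYM : Y ≤ M := hYdef ▸ Cfsg.Agent.Helper14.BGTrans.piCoreOf_le _ _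
  have hMY : M ≤ normalizer (Y : Set G) :=
    hYdef ▸ Cfsg.Agent.Helper14.BGTrans.le_normalizer_piCoreOf _ _
  have hYq : IsPGroup q Y := by
    rw [hYdef, ← Cfsg.Agent.Helper14.BGTrans.isPiNum_singleton_iff]
    exact Cfsg.Agent.Helper14.BGTrans.card_piCoreOf _ _
  have hqM : q ∣ Nat.card M := by
    obtain ⟨n, hn⟩ := hYq.exists_card_eq
    have hn0 : n ≠ 0 := by
      intro h0
      rw [h0, pow_zero] at hn
      exact hY1 (card_eq_one.mp hn)
    have h1 : Nat.card Y ∣ Nat.card M := card_dvd_of_le hYM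
    rw [hn] at h1
    exact (dvd_pow_self q hn0).trans h1
  have hrq : PRankLE q 2 M := by
    by_contra h
    exact hqs (Cfsg.Agent.Helper23.BG10.alpha_subset_sigma hG (uniqThm hG) hM ⟨Fact.out, h⟩)
  have hrp : PRankLE p 2 M := (hE.rank hG).1
  have hσ1 : sigmaCore M ≠ ⊥ := sigmaCore_ne_bot' hG hM
  -- `Y` centralises `M_σ`
  have hYσ : Y ≤ centralizer (sigmaCore M : Set G) := by
    have hcop : (Nat.card Y).Coprime (Nat.card (sigmaCore M)) := by
      obtain ⟨n, hn⟩ := hYq.exists_card_eq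
      rw [hn]
      apply Nat.Coprime.pow_left
      rw [Nat.Prime.coprime_iff_not_dvd Fact.out]
      intro h
      exact hqs (prime_mem_sigma_of_dvd_card M le_rfl Fact.out h)
    exact le_centralizer_of_coprime_normal (N := Y) le_rfl
      (fun y hy => hMY (sigmaCore_le M hy)) (fun x hx => le_normalizer_sigmaCore M (hYM hx)) hcop
  rcases lt_or_gt_of_ne hqp with hlt | hgt
  · -- `q < p`: `A ≤ O_{q'}(M)`, which centralises `O_q(M)`
    have hA : A ≤ ppc q M := le_ppc_of_lt hG hM.1 hqM hrq hlt hE.hAM hE.isPGroup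
    have hcop : (Nat.card (ppc q M)).Coprime (Nat.card Y) := by
      obtain ⟨n, hn⟩ := hYq.exists_card_eq
      rw [hn]
      exact Nat.Coprime.pow_right n (card_ppc_coprime q M)
    exact le_centralizer_of_coprime_normal (N := ppc q M) hA
      (fun y hy => le_normalizer_ppc q M (hYM hy)) (fun x hx => hMY (hE.hAM hx)) hcop
  · -- `p < q`
    have hNp : A ≤ normalizer (ppc p M : Set G) := hE.hAM.trans (le_normalizer_ppc p M)
    have hcopA : (Nat.card A).Coprime (Nat.card (ppc p M)) := by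
      rw [hE.hcard]
      exact Nat.Coprime.pow_left 2 (card_ppc_coprime p M).symm
    obtain ⟨P, hP⟩ := Cfsg.Agent.Helper1.exists_invariant_sylow (p := q) (K := ppc p M) A hNp
      hcopA (Or.inl hE.isSolvable)
    obtain ⟨Pq, hPqdef⟩ : ∃ Pq : Subgroup G, Pq = (P : Subgroup (ppc p M)).map (ppc p M).subtype :=
      ⟨_, rfl⟩
    rw [← hPqdef] at hP
    have hSyl1 : IsSylowIn q Pq (ppc p M) := hPqdef ▸ isSylowIn_map_subtype P
    have hPqM : Pq ≤ M := hSyl1.le.trans (ppc_le p M)
    have hle : ∀ X : Subgroup G, X ≤ M → IsPGroup q X → X ≤ ppc p M := fun X hXM hX =>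
      le_ppc_of_lt hG hM.1 hE.p_dvd_card hrp hgt hXM hX
    have hSyl : IsSylowIn q Pq M :=
      ⟨hPqM, hSyl1.isPGroup, fun T' hT' hle' hT'M => hSyl1.eq_of_le hT' hle' (hle T' hT'M hT')⟩
    -- `Y ≤ Pq`
    have hYPq : Y ≤ Pq := by
      have h1 : IsPGroup q (Pq ⊔ Y : Subgroup G) :=
        IsPGroup.to_sup_of_normal_right' hSyl.isPGroup hYq (hPqM.trans hMY)
      have h2 := hSyl.eq_of_le h1 le_sup_left (sup_le hPqM hYM)
      rw [← h2]
      exact le_sup_right
    -- `V = Ω₁(Z(Y))`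
    have hV1 : omegaZ q Y ≠ ⊥ := omegaZ_ne_bot hYq hY1
    have hVe := omegaZ_elemAb q Y
    have hVY := omegaZ_le q Y
    have hVM : omegaZ q Y ≤ M := hVY.trans hYM
    have hMV : M ≤ normalizer (omegaZ q Y : Set G) :=
      hMY.trans (normalizer_le_normalizer_omegaZ q Y)
    have hVq : IsPGroup q (omegaZ q Y) := hYq.to_le hVY
    have hNV : normalizer (omegaZ q Y : Set G) = M := by
      have hne := Cfsg.Agent.Helper14.BGTrans.normalizer_ne_top_of_isPGroup hG hVq hV1
      rcases eq_or_lt_of_le hMV with h | h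
      · exact h.symm
      · exact absurd (hM.2 _ h) hne
    have hCV : centralizer (omegaZ q Y : Set G) ≤ M :=
      (centralizer_le_normalizer _).trans hNV.le
    have hVσ : omegaZ q Y ≤ centralizer (sigmaCore M : Set G) := hVY.trans hYσ
    have hVcard : Nat.card (omegaZ q Y) ≤ q ^ 2 := card_le_of_pRankLE hrq hVM hVe
    obtain ⟨n, hn⟩ := hVq.exists_card_eq
    have hn0 : n ≠ 0 := by
      intro h0
      rw [h0, pow_zero] at hn
      exact hV1 (card_eq_one.mp hn)
    have hn2 : n ≤ 2 := by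
      rw [hn] at hVcard
      exact (Nat.pow_le_pow_iff_right (Fact.out : q.Prime).one_lt).mp hVcard
    -- the key consequence of Lemma W
    have hW : ∀ T : Subgroup G, T ≤ M → IsElementaryAbelian q T → Nat.card T = q ^ 2 →
        centralizer (T : Set G) ≤ M → ¬ T ≤ centralizer (sigmaCore M : Set G) := by
      intro T hTM hTe hTc hTC hTσ
      have h1 := lemma_W hG (⟨hM, hqs, hTM, hTe, hTc, hTC⟩ : Exc0 M q T)
      have h2 : sigmaCore M ≤ centralizer (T : Set G) := le_centralizer_iff.mp hTσ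
      rw [inf_eq_left.mpr h2] at h1
      exact hσ1 h1
    have hn1 : n = 1 := by
      by_contra hne
      have h2 : n = 2 := by omega
      rw [h2] at hn
      exact hW _ hVM hVe hn hCV hVσ
    rw [hn1, pow_one] at hn
    -- an elementary abelian `T₀ ≥ V` of order `q²`
    obtain ⟨-, -, T0, hT0e, hT0c, hVT0⟩ :=
      Cfsg.Agent.S1409.result hG M hM q hqs (omegaZ q Y) hn hNV.le
    have hT0V : T0 ≤ centralizer (omegaZ q Y : Set G) := by
      have h1 : T0 ≤ centralizer (T0 : Set G) := le_centralizer_iff_isMulCommutative.mpr hT0e.1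
      exact h1.trans (centralizer_le (SetLike.coe_subset_coe.mpr hVT0))
    have hT0M : T0 ≤ M := hT0V.trans hCV
    have hT0q : IsPGroup q T0 := IsPGroup.of_card hT0c
    -- conjugate `T₀` into `Pq`
    obtain ⟨S', hT0S', hS'⟩ := exists_isSylowIn_ge hT0q hT0M
    obtain ⟨m, hmM, hm⟩ := hS'.exists_conj hSyl
    obtain ⟨T, hTdef⟩ : ∃ T : Subgroup G, T = T0.map (MulAut.conj m).toMonoidHom := ⟨_, rfl⟩
    have hTPq : T ≤ Pq := by
      rw [hTdef, ← hm]
      exact map_conj_mono hT0S' m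
    have hTM : T ≤ M := hTPq.trans hPqM
    have hTc : Nat.card T = q ^ 2 := by rw [hTdef, card_map_conj, hT0c]
    have hTe : IsElementaryAbelian q T := by
      rw [hTdef]
      refine ⟨?_, ?_⟩
      · have := hT0e.1
        exact Subgroup.map_isMulCommutative _ _
      · rintro _ ⟨x, hx, rfl⟩
        rw [← map_pow, hT0e.2 x hx, map_one]
    have hVT : omegaZ q Y ≤ T := by
      have h1 := map_conj_mono hVT0 m
      rw [map_conj_eq_of_mem_normalizer (hMV hmM)] at h1
      rw [hTdef]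
      exact h1
    have hTC : centralizer (T : Set G) ≤ M :=
      (centralizer_le (SetLike.coe_subset_coe.mpr hVT)).trans hCV
    have hTnσ := hW T hTM hTe hTc hTC
    have hE0 : Exc0 M q T := ⟨hM, hqs, hTM, hTe, hTc, hTC⟩
    -- `q` divides `|C_G(A)|`
    have hqC : q ∣ Nat.card (centralizer (A : Set G)) := by
      by_contra hnd
      have hfix : Pq ⊓ centralizer (A : Set G) = ⊥ := by
        by_contra hne
        have hc1 : Nat.card ↥(Pq ⊓ centralizer (A : Set G)) ≠ 1 := fun h => hne (card_eq_one.mp h)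
        obtain ⟨k, hk⟩ := (hSyl.isPGroup.to_le (inf_le_left :
          Pq ⊓ centralizer (A : Set G) ≤ Pq)).exists_card_eq
        have hk0 : k ≠ 0 := by
          intro h0
          rw [h0, pow_zero] at hk
          exact hc1 hk
        have h1 : Nat.card ↥(Pq ⊓ centralizer (A : Set G)) ∣ Nat.card (centralizer (A : Set G)) :=
          card_dvd_of_le inf_le_right
        rw [hk] at h1
        exact hnd ((dvd_pow_self q hk0).trans h1)
      have hcopPA : (Nat.card A).Coprime (Nat.card Pq) := by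
        obtain ⟨k, hk⟩ := hSyl.isPGroup.exists_card_eq
        rw [hk, hE.hcard]
        apply Nat.Coprime.pow
        exact (Nat.coprime_primes Fact.out Fact.out).mpr (Ne.symm hqp)
      have h1 := comm_sup_cent_coprime Pq A hP hcopPA hE.isSolvable
      rw [hfix, sup_bot_eq] at h1
      have h2 := hF2 Pq hPqM hSyl.isPGroup hP
      rw [h1] at h2
      exact hTnσ (hTPq.trans h2)
    -- the signaliser step
    obtain ⟨Qs, hQs, hPqQs⟩ := Cfsg.Agent.Helper14.BGTrans.exists_maxInv_ge hSyl.isPGroup hP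
    have hAQs := hSig Qs hQs T (hTPq.trans hPqQs) hTe hTc (hE0.max_elem hG) hqC
    exact hAQs.trans (centralizer_le (SetLike.coe_subset_coe.mpr (hYPq.trans hPqQs)))

end Cfsg.Agent.Helper17.BG11
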