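import Mathlib
import Cfsg.Agent.Lib.Helper17.BG11Y
import Cfsg.Agent.Lib.Helper25.BG117C
import Cfsg.Agent.Lib.Helper23.BG11S

/-!
# Bender–Glauberman Theorem 11.7: `M_σ A ⊴ M` for an exceptional maximal subgroup  (assembly)

Pieces: helper25 (Step 1 and the Hall–Higman step), helper23 (signaliser step), helper17
(Lemma W and the `q`-side), following helper24's proof.  BG 11.5 (the Sylow `p`-subgroups of `M`
are abelian) is taken as a hypothesis.
-/

set_option autoImplicit false

namespace Cfsg.Agent.Helper17.BG11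

open Cfsg Subgroup

universe u

variable {G : Type u} [Group G] [Finite G] {M : Subgroup G} {p : ℕ} [Fact p.Prime]
  {A A0 : Subgroup G}

/-- BG 11.7, given one abelian Sylow `p`-subgroup of `M` containing `A` -/
theorem sec11_7_of_abelian (hG : IsMinSimpleOddOrder G) (hE : Exc M p A A0) (P : Sylow p M)
    (hAP : A ≤ (P : Subgroup M).map M.subtype)
    (hPab : ∀ x ∈ (P : Subgroup M), ∀ y ∈ (P : Subgroup M), x * y = y * x) :
    M ≤ normalizer ((sigmaCore M ⊔ A : Subgroup G) : Set G) :=
  Cfsg.Agent.Helper25.BG117.normal_of_centralizes P hG (h1410 hG) hE hAP hPab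
    (fun q _ hqp hqs =>
      centralizes_piCore hG hE hqp hqs
        (fun Q hQM hQ hAQ =>
          Cfsg.Agent.Helper25.BG117.comm_le_centralizer_sigmaCore P hG (h1410 hG) hE hAP hPab
            hqp hqs Q hQM hQ hAQ)
        (fun Qs hQs T hTQ hTe hTc hTmax hqC =>
          Cfsg.Agent.Helper23.BG11.signaliser_centralises hG hqp A hE.hA hE.hcard
            (hE.max_elem hG) hqC Qs hQs T hTQ hTe hTc hTmax))

/-- **BG Theorem 11.7**, given BG 11.5 -/
theorem sec11_7 (hG : IsMinSimpleOddOrder G) (hE : Exc M p A A0)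
    (h115 : ∀ P : Sylow p M, IsMulCommutative (P : Subgroup M)) :
    M ≤ normalizer ((sigmaCore M ⊔ A : Subgroup G) : Set G) := by
  obtain ⟨P, g, hAP, -, -⟩ := hE.exists_normalizer_not_mem
  have hc := h115 P
  refine sec11_7_of_abelian hG hE P hAP ?_
  intro x hx y hy
  have := hc.is_comm.comm ⟨x, hx⟩ ⟨y, hy⟩
  exact congrArg Subtype.val this

end Cfsg.Agent.Helper17.BG11
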