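import Cfsg.Agent.Lib.Helper10.PCDefs

/-!
# S2276, piece NSPAT (helper17): the explicit pairs on 5 and 6 points generate non-solvable groups

Both generators are commutators of words in the generators, so they lie in every term of the
derived series of the group they generate.
-/

set_option autoImplicit false

namespace Cfsg.Agent.Helper10.PC

open Equiv Equiv.Perm
open scoped commutatorElement

theorem nspat_core {G : Type*} [Group G] (a b x₁ y₁ x₂ y₂ : G)
    (hx₁ : x₁ ∈ Subgroup.closure ({a, b} : Set G)) (hy₁ : y₁ ∈ Subgroup.closure ({a, b} : Set G))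
    (hx₂ : x₂ ∈ Subgroup.closure ({a, b} : Set G)) (hy₂ : y₂ ∈ Subgroup.closure ({a, b} : Set G))
    (ha : a = ⁅x₁, y₁⁆) (hb : b = ⁅x₂, y₂⁆) (ha1 : a ≠ 1) :
    ¬ Group.IsSolvable ↥(Subgroup.closure ({a, b} : Set G)) := by
  intro hs
  have key : ∀ n, Subgroup.closure ({a, b} : Set G) ≤
      (derivedSeries ↥(Subgroup.closure ({a, b} : Set G)) n).map
        (Subgroup.closure ({a, b} : Set G)).subtype := by
    intro n
    induction n with
    | zero =>
      rw [derivedSeries_zero, ← MonoidHom.range_eq_map, Subgroup.range_subtype]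
    | succ n ih =>
      rw [derivedSeries_succ, Subgroup.map_commutator, Subgroup.closure_le]
      intro z hz
      rcases hz with hz | hz
      · have hz' : z = ⁅x₁, y₁⁆ := hz.trans ha
        rw [hz']; exact Subgroup.commutator_mem_commutator (ih hx₁) (ih hy₁)
      · have hz' : z = ⁅x₂, y₂⁆ := (Set.mem_singleton_iff.mp hz).trans hb
        rw [hz']; exact Subgroup.commutator_mem_commutator (ih hx₂) (ih hy₂)
  obtain ⟨n, hn⟩ := hs.solvable
  have h := key n
  rw [hn, Subgroup.map_bot] at h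
  exact ha1 (Subgroup.mem_bot.mp (h (Subgroup.subset_closure (by simp))))

/-- first kind of words -/
theorem nspat_words1 {G : Type*} [Group G] (a b : G)
    (ha : a = ⁅a⁻¹, b * a * b⁻¹ * a⁻¹ * b⁆) (hb : b = ⁅b⁻¹, a * b * a⁻¹ * b⁻¹ * a⁆)
    (ha1 : a ≠ 1) : ¬ Group.IsSolvable ↥(Subgroup.closure ({a, b} : Set G)) := by
  have ma : a ∈ Subgroup.closure ({a, b} : Set G) := Subgroup.subset_closure (by simp)
  have mb : b ∈ Subgroup.closure ({a, b} : Set G) := Subgroup.subset_closure (by simp)
  refine nspat_core a b _ _ _ _ (inv_mem ma) ?_ (inv_mem mb) ?_ ha hb ha1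
  · exact mul_mem (mul_mem (mul_mem (mul_mem mb ma) (inv_mem mb)) (inv_mem ma)) mb
  · exact mul_mem (mul_mem (mul_mem (mul_mem ma mb) (inv_mem ma)) (inv_mem mb)) ma

/-- second kind of words -/
theorem nspat_words2 {G : Type*} [Group G] (a b : G)
    (ha : a = ⁅a⁻¹, b * a * b⁻¹ * a⁻¹ * b⁻¹ * a * b⁻¹⁆)
    (hb : b = ⁅b⁻¹, a * b * a⁻¹ * b⁻¹ * a⁻¹ * b * a⁻¹⁆)
    (ha1 : a ≠ 1) : ¬ Group.IsSolvable ↥(Subgroup.closure ({a, b} : Set G)) := by
  have ma : a ∈ Subgroup.closure ({a, b} : Set G) := Subgroup.subset_closure (by simp)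
  have mb : b ∈ Subgroup.closure ({a, b} : Set G) := Subgroup.subset_closure (by simp)
  refine nspat_core a b _ _ _ _ (inv_mem ma) ?_ (inv_mem mb) ?_ ha hb ha1
  · exact mul_mem (mul_mem (mul_mem (mul_mem (mul_mem (mul_mem mb ma) (inv_mem mb)) (inv_mem ma))
      (inv_mem mb)) ma) (inv_mem mb)
  · exact mul_mem (mul_mem (mul_mem (mul_mem (mul_mem (mul_mem ma mb) (inv_mem ma)) (inv_mem mb))
      (inv_mem ma)) mb) (inv_mem ma)

theorem not_solvable_pat5 :
    ¬ Group.IsSolvable ↥(Subgroup.closure ({pat5a, pat5b} : Set (Perm (Fin 5)))) :=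
  nspat_words1 pat5a pat5b (by decide +kernel) (by decide +kernel) (by decide +kernel)

theorem not_solvable_patP1 :
    ¬ Group.IsSolvable ↥(Subgroup.closure ({pat6a, patP1} : Set (Perm (Fin 6)))) :=
  nspat_words1 pat6a patP1 (by decide +kernel) (by decide +kernel) (by decide +kernel)

theorem not_solvable_patP2 :
    ¬ Group.IsSolvable ↥(Subgroup.closure ({pat6a, patP2} : Set (Perm (Fin 6)))) :=
  nspat_words1 pat6a patP2 (by decide +kernel) (by decide +kernel) (by decide +kernel)

theorem not_solvable_patP3 :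
    ¬ Group.IsSolvable ↥(Subgroup.closure ({pat6a, patP3} : Set (Perm (Fin 6)))) :=
  nspat_words2 pat6a patP3 (by decide +kernel) (by decide +kernel) (by decide +kernel)

theorem not_solvable_pat6cd :
    ¬ Group.IsSolvable ↥(Subgroup.closure ({pat6c, pat6d} : Set (Perm (Fin 6)))) :=
  nspat_words1 pat6c pat6d (by decide +kernel) (by decide +kernel) (by decide +kernel)

end Cfsg.Agent.Helper10.PC
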