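import Cfsg.Agent.Lib.Helper10.PCDefs
import Cfsg.Agent.Lib.Helper23.PCGOODCONJ
import Cfsg.Agent.Lib.Helper17.PCNSPAT

/-!
# S2276, piece BASE35 (helper17): two nontrivial elements of order 3 of `Perm (Fin 5)` are `Good 3`
-/

set_option autoImplicit false

namespace Cfsg.Agent.Helper10.PC

open Equiv Equiv.Perm

section aux
universe u
variable {Ω : Type u} [Fintype Ω] [DecidableEq Ω]

omit [Fintype Ω] [DecidableEq Ω] in
theorem base35_eq_one_of_coprime (x : Perm Ω) (h : IsPElt 3 x) (m : ℕ) (hm : Nat.Coprime 3 m)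
    (hx : x ^ m = 1) : x = 1 := by
  obtain ⟨k, hk⟩ := h
  have h1 : orderOf x ∣ 3 ^ k := orderOf_dvd_of_pow_eq_one hk
  have h2 : orderOf x ∣ m := orderOf_dvd_of_pow_eq_one hx
  have h3 : orderOf x ∣ 1 := by
    have hc : Nat.Coprime (3 ^ k) m := Nat.Coprime.pow_left k hm
    rw [← hc]
    exact Nat.dvd_gcd h1 h2
  exact orderOf_eq_one_iff.mp (Nat.dvd_one.mp h3)

theorem base35_good_of_cert (a b : Perm Ω) (hne : a * b ≠ 1)
    (hpow : (a * b) ^ 5 = 1 ∨ (a * b) ^ 4 = 1)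
    (hns : ¬ Group.IsSolvable ↥(Subgroup.closure ({a, b} : Set (Perm Ω)))) : Good 3 a b := by
  refine ⟨1, Perm.sign_one, ?_, ?_⟩
  · rw [one_mul, inv_one, mul_one]
    intro h
    rcases hpow with h5 | h4
    · exact hne (base35_eq_one_of_coprime _ h 5 (by norm_num) h5)
    · exact hne (base35_eq_one_of_coprime _ h 4 (by norm_num) h4)
  · rw [one_mul, inv_one, mul_one]
    exact hns

theorem base35_good_transfer (u w a b : Perm Ω)
    (hu : ∃ h : Perm Ω, Perm.sign h = 1 ∧ h * u * h⁻¹ = a)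
    (hw : ∃ k : Perm Ω, Perm.sign k = 1 ∧ k * w * k⁻¹ = b)
    (H : Good 3 a b) : Good 3 u w := by
  obtain ⟨h, hh, rfl⟩ := hu
  obtain ⟨k, hk, rfl⟩ := hw
  exact good_conj_left 3 u w h hh (good_conj_right 3 _ w k hk H)

theorem base35_cycleType (σ : Perm Ω) (h3 : σ ^ 3 = 1) (h1 : σ ≠ 1) :
    ∃ n : ℕ, σ.cycleType = Multiset.replicate (n + 1) 3 := by
  have ho : orderOf σ = 3 := orderOf_eq_prime h3 h1
  have hp : (orderOf σ).Prime := by rw [ho]; norm_num
  obtain ⟨n, hn⟩ := Equiv.Perm.cycleType_prime_order hp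
  exact ⟨n, by rw [hn, ho]⟩

theorem base35_three_conj (h5 : 5 ≤ Fintype.card Ω) (σ τ : Perm Ω) (hσ : IsThreeCycle σ)
    (hτ : IsThreeCycle τ) : ∃ g : Perm Ω, Perm.sign g = 1 ∧ g * σ * g⁻¹ = τ := by
  have h5' : 5 ≤ Nat.card Ω := by rwa [Nat.card_eq_fintype_card]
  have hc := alternatingGroup.isThreeCycle_isConj h5' (σ := ⟨σ, hσ.mem_alternatingGroup⟩)
    (τ := ⟨τ, hτ.mem_alternatingGroup⟩) hσ hτ
  obtain ⟨c, hc⟩ := isConj_iff.mp hc
  refine ⟨(c : Perm Ω), Equiv.Perm.mem_alternatingGroup.mp c.2, ?_⟩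
  have := congrArg (Subtype.val) hc
  simpa using this

end aux

theorem base35_isThreeCycle (σ : Perm (Fin 5)) (h3 : σ ^ 3 = 1) (h1 : σ ≠ 1) :
    IsThreeCycle σ := by
  obtain ⟨n, hn⟩ := base35_cycleType σ h3 h1
  have hs : σ.cycleType.sum ≤ 5 := by
    rw [Equiv.Perm.sum_cycleType]
    exact (Finset.card_le_univ _).trans (by simp)
  rw [hn, Multiset.sum_replicate, smul_eq_mul] at hs
  have : n = 0 := by omega
  subst this
  simpa [IsThreeCycle] using hn

theorem good_fin5 (u w : Perm (Fin 5)) (hu : u ^ 3 = 1) (hw : w ^ 3 = 1) (hu1 : u ≠ 1)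
    (hw1 : w ≠ 1) : Good 3 u w := by
  have h5 : 5 ≤ Fintype.card (Fin 5) := by simp
  have ha : IsThreeCycle pat5a := by
    rw [IsThreeCycle]; decide +kernel
  have hb : IsThreeCycle pat5b := by
    rw [IsThreeCycle]; decide +kernel
  refine base35_good_transfer u w pat5a pat5b
    (base35_three_conj h5 u pat5a (base35_isThreeCycle u hu hu1) ha)
    (base35_three_conj h5 w pat5b (base35_isThreeCycle w hw hw1) hb) ?_
  exact base35_good_of_cert pat5a pat5b (by decide +kernel) (Or.inl (by decide +kernel))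
    not_solvable_pat5

end Cfsg.Agent.Helper10.PC
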