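import Cfsg.Agent.Lib.Helper10.PCDefs
import Cfsg.Agent.Lib.Helper23.PCGOODCONJ
import Cfsg.Agent.Lib.Helper17.PCNSPAT
import Cfsg.Agent.Lib.Helper17.PCBASE35

/-!
# S2276, piece BASE36 (helper17): two nontrivial elements of order 3 of `Perm (Fin 6)` are `Good 3`
-/

set_option autoImplicit false

namespace Cfsg.Agent.Helper10.PC

open Equiv Equiv.Perm

/-- the odd permutation `(0 3)(1 4)(2 5)`, which centralises `pat6a` -/
def base36_z : Perm (Fin 6) := List.formPerm [0, 3] * List.formPerm [1, 4] * List.formPerm [2, 5]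

theorem base36_type (σ : Perm (Fin 6)) (h3 : σ ^ 3 = 1) (h1 : σ ≠ 1) :
    IsThreeCycle σ ∨ σ.cycleType = {3, 3} := by
  obtain ⟨n, hn⟩ := base35_cycleType σ h3 h1
  have hs : σ.cycleType.sum ≤ 6 := by
    rw [Equiv.Perm.sum_cycleType]
    exact (Finset.card_le_univ _).trans (by simp)
  rw [hn, Multiset.sum_replicate, smul_eq_mul] at hs
  have : n = 0 ∨ n = 1 := by omega
  rcases this with rfl | rfl
  · left; simpa [IsThreeCycle] using hn
  · right; rw [hn]; rfl

theorem base36_conj_pat6a (σ : Perm (Fin 6)) (hσ : σ.cycleType = {3, 3}) :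
    ∃ g : Perm (Fin 6), Perm.sign g = 1 ∧ g * σ * g⁻¹ = pat6a := by
  have hp : pat6a.cycleType = {3, 3} := by decide +kernel
  have hc : IsConj σ pat6a := Equiv.Perm.isConj_iff_cycleType_eq.mpr (hσ.trans hp.symm)
  obtain ⟨c, hc⟩ := isConj_iff.mp hc
  rcases Int.units_eq_one_or (Perm.sign c) with h | h
  · exact ⟨c, h, hc⟩
  · refine ⟨base36_z * c, ?_, ?_⟩
    · rw [Perm.sign_mul, h]
      have : Perm.sign base36_z = -1 := by decide +kernel
      rw [this]; rfl
    · have hz : base36_z * pat6a * base36_z⁻¹ = pat6a := by decide +kernel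
      rw [mul_inv_rev]
      calc base36_z * c * σ * (c⁻¹ * base36_z⁻¹)
          = base36_z * (c * σ * c⁻¹) * base36_z⁻¹ := by group
        _ = pat6a := by rw [hc, hz]

theorem base36_conj33 (σ τ : Perm (Fin 6)) (hσ : σ.cycleType = {3, 3})
    (hτ : τ.cycleType = {3, 3}) :
    ∃ g : Perm (Fin 6), Perm.sign g = 1 ∧ g * σ * g⁻¹ = τ := by
  obtain ⟨g₁, hg₁, h₁⟩ := base36_conj_pat6a σ hσ
  obtain ⟨g₂, hg₂, h₂⟩ := base36_conj_pat6a τ hτ
  refine ⟨g₂⁻¹ * g₁, ?_, ?_⟩
  · rw [Perm.sign_mul, Perm.sign_inv, hg₁, hg₂]; rfl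
  · rw [mul_inv_rev, inv_inv]
    calc g₂⁻¹ * g₁ * σ * (g₁⁻¹ * g₂) = g₂⁻¹ * (g₁ * σ * g₁⁻¹) * g₂ := by group
      _ = g₂⁻¹ * (g₂ * τ * g₂⁻¹) * g₂ := by rw [h₁, h₂]
      _ = τ := by group

/-- type `(3,3)` against type `(3)` -/
theorem base36_good_33_3 (u w : Perm (Fin 6)) (hu : u.cycleType = {3, 3}) (hw : IsThreeCycle w) :
    Good 3 u w := by
  have h5 : 5 ≤ Fintype.card (Fin 6) := by simp
  have hb : IsThreeCycle patP3 := by
    rw [IsThreeCycle]; decide +kernel
  refine base35_good_transfer u w pat6a patP3 (base36_conj_pat6a u hu)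
    (base35_three_conj h5 w patP3 hw hb) ?_
  exact base35_good_of_cert pat6a patP3 (by decide +kernel) (Or.inr (by decide +kernel))
    not_solvable_patP3

theorem good_fin6 (u w : Perm (Fin 6)) (hu : u ^ 3 = 1) (hw : w ^ 3 = 1) (hu1 : u ≠ 1)
    (hw1 : w ≠ 1) : Good 3 u w := by
  have h5 : 5 ≤ Fintype.card (Fin 6) := by simp
  rcases base36_type u hu hu1 with tu | tu <;> rcases base36_type w hw hw1 with tw | tw
  · -- both 3-cycles
    have ha : IsThreeCycle pat6c := by
      rw [IsThreeCycle]; decide +kernel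
    have hb : IsThreeCycle pat6d := by
      rw [IsThreeCycle]; decide +kernel
    refine base35_good_transfer u w pat6c pat6d (base35_three_conj h5 u pat6c tu ha)
      (base35_three_conj h5 w pat6d tw hb) ?_
    exact base35_good_of_cert pat6c pat6d (by decide +kernel) (Or.inl (by decide +kernel))
      not_solvable_pat6cd
  · exact good_symm 3 u w (base36_good_33_3 w u tw tu)
  · exact base36_good_33_3 u w tu tw
  · have hp : patP1.cycleType = {3, 3} := by decide +kernel
    refine base35_good_transfer u w pat6a patP1 (base36_conj_pat6a u tu)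
      (base36_conj33 w patP1 tw hp) ?_
    exact base35_good_of_cert pat6a patP1 (by decide +kernel) (Or.inl (by decide +kernel))
      not_solvable_patP1

end Cfsg.Agent.Helper10.PC
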