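import Mathlib
import Cfsg.Prelude

/-!
# The standard model of the group `4 ∘ 2^{1+4}` in `GL₄(F)` (helper17)

`F` is a field with an element `i`, `i ^ 2 = -1`.  The standard group `R0 i` is generated by the
scalar `i`, the diagonal matrices `A1`, `A2` and the permutation matrices `B1`, `B2`
(the two-qubit Pauli group).
-/

set_option autoImplicit false

namespace Cfsg.Agent.Helper17.Sym4

open Matrix

variable {F : Type*} [Field F]

/-- `Z ⊗ 1`. -/
def A1m : Matrix (Fin 4) (Fin 4) F := !![1, 0, 0, 0; 0, 1, 0, 0; 0, 0, -1, 0; 0, 0, 0, -1]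
/-- `1 ⊗ Z`. -/
def A2m : Matrix (Fin 4) (Fin 4) F := !![1, 0, 0, 0; 0, -1, 0, 0; 0, 0, 1, 0; 0, 0, 0, -1]
/-- `X ⊗ 1`. -/
def B1m : Matrix (Fin 4) (Fin 4) F := !![0, 0, 1, 0; 0, 0, 0, 1; 1, 0, 0, 0; 0, 1, 0, 0]
/-- `1 ⊗ X`. -/
def B2m : Matrix (Fin 4) (Fin 4) F := !![0, 1, 0, 0; 1, 0, 0, 0; 0, 0, 0, 1; 0, 0, 1, 0]

theorem A1m_sq : (A1m : Matrix (Fin 4) (Fin 4) F) * A1m = 1 := by
  ext a b; fin_cases a <;> fin_cases b <;> simp [A1m, Matrix.mul_apply, Fin.sum_univ_four]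
theorem A2m_sq : (A2m : Matrix (Fin 4) (Fin 4) F) * A2m = 1 := by
  ext a b; fin_cases a <;> fin_cases b <;> simp [A2m, Matrix.mul_apply, Fin.sum_univ_four]
theorem B1m_sq : (B1m : Matrix (Fin 4) (Fin 4) F) * B1m = 1 := by
  ext a b; fin_cases a <;> fin_cases b <;> simp [B1m, Matrix.mul_apply, Fin.sum_univ_four]
theorem B2m_sq : (B2m : Matrix (Fin 4) (Fin 4) F) * B2m = 1 := by
  ext a b; fin_cases a <;> fin_cases b <;> simp [B2m, Matrix.mul_apply, Fin.sum_univ_four]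

/-- The generators as elements of `GL₄(F)`. -/
def A1 : GL (Fin 4) F := ⟨A1m, A1m, A1m_sq, A1m_sq⟩
def A2 : GL (Fin 4) F := ⟨A2m, A2m, A2m_sq, A2m_sq⟩
def B1 : GL (Fin 4) F := ⟨B1m, B1m, B1m_sq, B1m_sq⟩
def B2 : GL (Fin 4) F := ⟨B2m, B2m, B2m_sq, B2m_sq⟩

@[simp] theorem A1_val : ((A1 : GL (Fin 4) F) : Matrix (Fin 4) (Fin 4) F) = A1m := rfl
@[simp] theorem A2_val : ((A2 : GL (Fin 4) F) : Matrix (Fin 4) (Fin 4) F) = A2m := rfl
@[simp] theorem B1_val : ((B1 : GL (Fin 4) F) : Matrix (Fin 4) (Fin 4) F) = B1m := rfl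
@[simp] theorem B2_val : ((B2 : GL (Fin 4) F) : Matrix (Fin 4) (Fin 4) F) = B2m := rfl

/-- The scalar matrix `c`, as an element of `GL₄(F)`, for a unit `c`. -/
def sc (c : Fˣ) : GL (Fin 4) F :=
  ⟨(c : F) • 1, ((c⁻¹ : Fˣ) : F) • 1, by
    rw [Matrix.smul_mul, Matrix.mul_smul, Matrix.mul_one, smul_smul, ← Units.val_mul,
      mul_inv_cancel, Units.val_one, one_smul], by
    rw [Matrix.smul_mul, Matrix.mul_smul, Matrix.mul_one, smul_smul, ← Units.val_mul,
      inv_mul_cancel, Units.val_one, one_smul]⟩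

@[simp] theorem sc_val (c : Fˣ) :
    ((sc c : GL (Fin 4) F) : Matrix (Fin 4) (Fin 4) F) = (c : F) • 1 := rfl

/-- The standard group: generated by the scalar `i` and `A1, A2, B1, B2`. -/
def R0 (i : Fˣ) : Subgroup (GL (Fin 4) F) :=
  Subgroup.closure {sc i, A1, A2, B1, B2}

theorem sc_mem_R0 (i : Fˣ) : sc i ∈ R0 i := Subgroup.subset_closure (by simp)
theorem A1_mem_R0 (i : Fˣ) : (A1 : GL (Fin 4) F) ∈ R0 i := Subgroup.subset_closure (by simp)
theorem A2_mem_R0 (i : Fˣ) : (A2 : GL (Fin 4) F) ∈ R0 i := Subgroup.subset_closure (by simp)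
theorem B1_mem_R0 (i : Fˣ) : (B1 : GL (Fin 4) F) ∈ R0 i := Subgroup.subset_closure (by simp)
theorem B2_mem_R0 (i : Fˣ) : (B2 : GL (Fin 4) F) ∈ R0 i := Subgroup.subset_closure (by simp)

/-- Membership in the normaliser of the standard group, checked on the generators:
`y s = s' y` with `s' ∈ R0 i` for each generator `s`. -/
theorem mem_normalizer_R0 [Finite F] (i : Fˣ) (y : GL (Fin 4) F)
    (h1 : y * A1 * y⁻¹ ∈ R0 i) (h2 : y * A2 * y⁻¹ ∈ R0 i) (h3 : y * B1 * y⁻¹ ∈ R0 i)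
    (h4 : y * B2 * y⁻¹ ∈ R0 i) : y ∈ Subgroup.normalizer (R0 i : Set (GL (Fin 4) F)) := by
  have hsc : y * sc i * y⁻¹ = sc i := by
    apply Units.ext
    simp only [Units.val_mul, sc_val, Matrix.mul_smul, Matrix.mul_one, Matrix.smul_mul]
    rw [← Units.val_mul, mul_inv_cancel, Units.val_one]
  have hle : (R0 i).map (MulAut.conj y).toMonoidHom ≤ R0 i := by
    rw [R0, MonoidHom.map_closure, Subgroup.closure_le]
    rintro _ ⟨s, hs, rfl⟩
    simp only [Set.mem_insert_iff, Set.mem_singleton_iff] at hs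
    rcases hs with rfl | rfl | rfl | rfl | rfl
    · show y * sc i * y⁻¹ ∈ _
      rw [hsc]; exact sc_mem_R0 i
    · exact h1
    · exact h2
    · exact h3
    · exact h4
  have hfin : Finite (R0 i : Subgroup (GL (Fin 4) F)) := inferInstance
  -- equality by finiteness
  have heq : (R0 i).map (MulAut.conj y).toMonoidHom = R0 i := by
    apply Subgroup.eq_of_le_of_card_ge hle
    rw [Subgroup.card_map_of_injective (MulAut.conj y).injective]
  rw [Subgroup.mem_normalizer_iff]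
  intro h
  constructor
  · intro hh
    have : y * h * y⁻¹ ∈ (R0 i).map (MulAut.conj y).toMonoidHom := ⟨h, hh, rfl⟩
    rwa [heq] at this
  · intro hh
    rw [← heq] at hh
    obtain ⟨h', hh', he⟩ := hh
    have he' : y * h' * y⁻¹ = y * h * y⁻¹ := he
    have : h' = h := by
      have h5 := congrArg (fun t => y⁻¹ * t * y) he'
      have h6 : ∀ u : GL (Fin 4) F, y⁻¹ * (y * u * y⁻¹) * y = u := fun u => by group
      simpa only [h6] using h5
    rwa [← this]

end Cfsg.Agent.Helper17.Sym4
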