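import Mathlib

/-!
# One verified step of the Schreier–Sims algorithm

`schreier_step`: `S` generators (in a finite ambient group `A` acting on `Ω`), `H` a subgroup of
`closure S` fixing the base point `b`, `O` a finite set of points with transversal `T`
(`T p ∈ closure S`, `T p • b = p`, `T b = 1`), and every Schreier generator
`(T (g • p))⁻¹ * g * T p` (for `g ∈ S`, `p ∈ O`) lies in `H`.  Then `H` is the full stabilizer of
`b` in `closure S` and `|closure S| = |O| * |H|`.  See `Cfsg/Agent/S3362.lean` for a complete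
worked example (orders of `M₁₂`, `M₁₁` from generators, all data checked by `decide +kernel`).
-/

set_option autoImplicit false

namespace Cfsg.Agent.Helper17

/-- One step of the Schreier–Sims verification. -/
theorem schreier_step {A Ω : Type*} [Group A] [Finite A] [MulAction A Ω] [DecidableEq Ω]
    (S : Set A) (H : Subgroup A) (b : Ω) (O : Finset Ω) (T : Ω → A)
    (hb : b ∈ O) (hT1 : T b = 1) (hTmem : ∀ p ∈ O, T p ∈ Subgroup.closure S)
    (hTb : ∀ p ∈ O, T p • b = p)
    (hHle : H ≤ Subgroup.closure S) (hHb : ∀ h ∈ H, h • b = b)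
    (hstep : ∀ g ∈ S, ∀ p ∈ O, g • p ∈ O ∧ (T (g • p))⁻¹ * g * T p ∈ H) :
    (∀ k ∈ Subgroup.closure S, k • b = b → k ∈ H) ∧
      Nat.card (Subgroup.closure S) = O.card * Nat.card H := by
  classical
  -- the union of the cosets `T p * H`
  let X : Set A := {k | ∃ p ∈ O, ∃ h ∈ H, k = T p * h}
  have hX1 : (1 : A) ∈ X := ⟨b, hb, 1, H.one_mem, by rw [hT1, one_mul]⟩
  have hXS : ∀ g ∈ S, ∀ k ∈ X, g * k ∈ X := by
    rintro g hg k ⟨p, hp, h, hh, rfl⟩
    obtain ⟨hgp, hsch⟩ := hstep g hg p hp
    refine ⟨g • p, hgp, (T (g • p))⁻¹ * g * T p * h, H.mul_mem hsch hh, ?_⟩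
    group
  -- the left stabilizer of `X` is a subgroup containing `S`
  let Y : Subgroup A :=
    { carrier := {k | ∀ z ∈ X, k * z ∈ X}
      one_mem' := by intro z hz; simpa using hz
      mul_mem' := by
        intro a c ha hc z hz
        rw [mul_assoc]; exact ha _ (hc _ hz)
      inv_mem' := by
        intro a ha
        have hpow : ∀ n : ℕ, ∀ z ∈ X, a ^ n * z ∈ X := by
          intro n
          induction n with
          | zero => intro z hz; simpa using hz
          | succ n ih =>
            intro z hz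
            rw [pow_succ, mul_assoc]
            exact ih _ (ha _ hz)
        intro z hz
        have hfin : IsOfFinOrder a := isOfFinOrder_of_finite a
        have hinv : a⁻¹ = a ^ (orderOf a - 1) := by
          have h1 : 0 < orderOf a := orderOf_pos a
          have : a ^ (orderOf a - 1) * a = 1 := by
            rw [← pow_succ, Nat.sub_add_cancel h1, pow_orderOf_eq_one]
          exact (eq_inv_of_mul_eq_one_left this).symm
        rw [hinv]
        exact hpow _ z hz }
  have hSY : S ⊆ Y := fun g hg z hz => hXS g hg z hz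
  have hclY : Subgroup.closure S ≤ Y := (Subgroup.closure_le Y).2 hSY
  have hclX : ∀ k ∈ Subgroup.closure S, k ∈ X := by
    intro k hk
    have := hclY hk 1 hX1
    simpa using this
  have hstab : ∀ k ∈ Subgroup.closure S, k • b = b → k ∈ H := by
    intro k hk hkb
    obtain ⟨p, hp, h, hh, rfl⟩ := hclX k hk
    rw [mul_smul, hHb h hh, hTb p hp] at hkb
    rw [hkb, hT1, one_mul]
    exact hh
  refine ⟨hstab, ?_⟩
  -- the bijection `O × H ≃ closure S`
  let f : O × H → Subgroup.closure S := fun x =>
    ⟨T x.1 * x.2, (Subgroup.closure S).mul_mem (hTmem _ x.1.2) (hHle x.2.2)⟩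
  have hfinj : Function.Injective f := by
    rintro ⟨⟨p, hp⟩, ⟨h, hh⟩⟩ ⟨⟨p', hp'⟩, ⟨h', hh'⟩⟩ heq
    have heq' : T p * h = T p' * h' := congrArg Subtype.val heq
    have hpp : p = p' := by
      have := congrArg (· • b) heq'
      simp only [mul_smul, hHb h hh, hHb h' hh', hTb p hp, hTb p' hp'] at this
      exact this
    subst hpp
    have hhh : h = h' := mul_left_cancel heq'
    subst hhh
    rfl
  have hfsurj : Function.Surjective f := by
    rintro ⟨k, hk⟩
    obtain ⟨p, hp, h, hh, rfl⟩ := hclX k hk
    exact ⟨⟨⟨p, hp⟩, ⟨h, hh⟩⟩, rfl⟩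
  have hcard := Nat.card_congr (Equiv.ofBijective f ⟨hfinj, hfsurj⟩)
  rw [← hcard, Nat.card_prod]
  congr 1
  rw [Nat.card_eq_fintype_card, Fintype.card_coe]

end Cfsg.Agent.Helper17
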