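import Mathlib
import Cfsg.Prelude.Def_Classical
import Cfsg.Prelude.Def_ClassicalGeometry
import Cfsg.Agent.Lib.Helper13.MatQuad
import Cfsg.Agent.Lib.Helper17.OmegaAll

/-!
# The elliptic quadratic form, and `Ω` by matrix rank in characteristic two (helper17)

`minusQ k a b` is the bundled form whose function is `Cfsg.quadFormMinus k F a b`; it has
non-degenerate polar form as soon as the binary part is anisotropic (`F` finite).
`mem_Omega_iff_even_rank_sub_one`: in characteristic two, `g ∈ Ω` iff the matrix `g - 1` has even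
rank.
-/

set_option autoImplicit false

namespace Cfsg.Agent.Helper17.Spinor
open Cfsg QuadraticMap Module Cfsg.Agent.Helper13

section minus

variable {F : Type*} [Field F] {k : ℕ}

/-- the bundled elliptic form -/
noncomputable abbrev minusQ (k : ℕ) {F : Type*} [Field F] (a b : F) :
    QuadraticForm F ((Fin k ⊕ Fin k) ⊕ Fin 2 → F) :=
  matQ (minusMat k a b)

theorem quadFormMinus_eq (a b : F) : Cfsg.quadFormMinus k F a b = ⇑(minusQ k a b) := by
  funext v
  rw [matQ_minusMat]; rfl

theorem disc_ne_zero_of_anisotropic [Fintype F] (a b : F)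
    (hab : ∀ z₁ z₂ : F, z₁ ^ 2 + a * z₁ * z₂ + b * z₂ ^ 2 = 0 → z₁ = 0 ∧ z₂ = 0) :
    4 * b - a ^ 2 ≠ 0 := by
  intro h0
  by_cases h2 : (2 : F) = 0
  · have := charP_two_of_two_eq_zero h2
    have hchar : ringChar F = 2 := ringChar.eq F 2
    have h4 : (4 : F) = 0 := by
      have : (4 : F) = 2 * 2 := by norm_num
      rw [this, h2, mul_zero]
    have ha : a = 0 := by
      rw [h4, zero_mul, zero_sub, neg_eq_zero] at h0
      exact pow_eq_zero_iff (two_ne_zero) |>.1 h0
    obtain ⟨s, hs⟩ := FiniteField.isSquare_of_char_two hchar b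
    have := hab s 1 (by rw [ha, hs]; linear_combination (s * s) * h2)
    exact one_ne_zero this.2
  · have := hab (-a) 2 (by linear_combination h0)
    exact h2 this.2

theorem minusQ_nondeg [Fintype F] (a b : F)
    (hab : ∀ z₁ z₂ : F, z₁ ^ 2 + a * z₁ * z₂ + b * z₂ ^ 2 = 0 → z₁ = 0 ∧ z₂ = 0) :
    (polarBilin (minusQ k a b)).Nondegenerate := by
  apply matQ_nondeg
  rw [minusMat_det]
  exact mul_ne_zero (pow_ne_zero _ (neg_ne_zero.2 one_ne_zero)) (disc_ne_zero_of_anisotropic a b hab)

end minus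

section rank

variable {F : Type*} [Field F] [Fintype F] [CharP F 2] {ι : Type} [Fintype ι] [DecidableEq ι]
  (Q : QuadraticForm F (ι → F))

/-- in characteristic two, `g ∈ Ω` iff the matrix `g - 1` has even rank -/
theorem mem_Omega_iff_even_rank_sub_one (hQ : (polarBilin Q).Nondegenerate)
    (hex : Fintype.card F ≠ 2 ∨ Fintype.card ι ≠ 4) (g : ↥(Cfsg.isometryGroup F (⇑Q))) :
    g ∈ Cfsg.Omega F (⇑Q) ↔
      Even (((g : Matrix.GeneralLinearGroup ι F) : Matrix ι ι F) - 1).rank := by
  have h1 : g ∈ Cfsg.Omega F (⇑Q) ↔ Even (finrank F ↥(LinearMap.range (1 - toEnd Q g))) :=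
    mem_commutator_iff_even_rank Q hQ hex g
  rw [h1, Matrix.rank]
  have h2 : (((g : Matrix.GeneralLinearGroup ι F) : Matrix ι ι F) - 1).mulVecLin
      = -(1 - toEnd Q g) := by
    rw [neg_sub]
    apply LinearMap.ext
    intro x
    rw [Matrix.mulVecLin_apply, Matrix.sub_mulVec, Matrix.one_mulVec, LinearMap.sub_apply,
      toEnd_apply, Module.End.one_apply]
  rw [h2, LinearMap.range_neg]

end rank

end Cfsg.Agent.Helper17.Spinor
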