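import Mathlib
import Cfsg.Prelude.Def_Classical
import Cfsg.Prelude.Def_ClassicalGeometry
import Cfsg.Agent.Lib.Helper13.MatQuad
import Cfsg.Agent.Lib.Helper17.OmegaAll

/-!
# The hyperbolic quadratic form `Σ x_i y_i` (helper17)

`plusQ m F` is the bundled form whose function is `Cfsg.quadFormPlus m F`.  Reflections in vectors
supported on one hyperbolic pair are block matrices of diagonal matrices (`blk`); products over
all pairs.  The swap of the two standard maximal totally singular subspaces and the diagonal
isometries `diag(d, d⁻¹)` as explicit products of reflections.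
-/

set_option autoImplicit false

namespace Cfsg.Agent.Helper17.Spinor
open Cfsg QuadraticMap Module Cfsg.Agent.Helper13

variable {F : Type*} [Field F] {m : ℕ}

/-- the bundled hyperbolic form -/
noncomputable abbrev plusQ (m : ℕ) (F : Type*) [Field F] : QuadraticForm F (Fin m ⊕ Fin m → F) :=
  matQ (plusMat m F)

theorem quadFormPlus_eq : Cfsg.quadFormPlus m F = ⇑(plusQ m F) := by
  funext v
  rw [matQ_plusMat]; rfl

theorem plusQ_apply (v : Fin m ⊕ Fin m → F) :
    plusQ m F v = ∑ i : Fin m, v (Sum.inl i) * v (Sum.inr i) := matQ_plusMat v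

theorem plusQ_nondeg : (polarBilin (plusQ m F)).Nondegenerate := by
  apply matQ_nondeg
  rw [plusMat_add_transpose, hypBlock_det]
  exact pow_ne_zero _ (neg_ne_zero.2 one_ne_zero)

theorem polar_plusQ (u v : Fin m ⊕ Fin m → F) :
    polar (plusQ m F) u v
      = ∑ i : Fin m, (u (Sum.inl i) * v (Sum.inr i) + v (Sum.inl i) * u (Sum.inr i)) := by
  unfold polar
  rw [plusQ_apply, plusQ_apply, plusQ_apply, ← Finset.sum_sub_distrib, ← Finset.sum_sub_distrib]
  apply Finset.sum_congr rfl
  intro i _
  simp only [Pi.add_apply]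
  ring

/-- the standard maximal totally singular subspace `{y = 0}` -/
noncomputable abbrev plusU (m : ℕ) (F : Type*) [Field F] : Submodule F (Fin m ⊕ Fin m → F) :=
  LinearMap.ker (LinearMap.funLeft F F (Sum.inr : Fin m → Fin m ⊕ Fin m))

theorem mem_plusU {v : Fin m ⊕ Fin m → F} : v ∈ plusU m F ↔ ∀ i, v (Sum.inr i) = 0 := by
  rw [LinearMap.mem_ker]
  constructor
  · intro h i
    exact congrFun h i
  · intro h
    funext i
    exact h i

theorem isTS_plusU : IsTS (plusQ m F) (plusU m F) := by
  intro v hv
  rw [mem_plusU] at hv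
  rw [plusQ_apply]
  apply Finset.sum_eq_zero
  intro i _
  rw [hv i, mul_zero]

theorem finrank_plusU : finrank F ↥(plusU m F) = m := by
  show finrank F ↥(LinearMap.ker (LinearMap.funLeft F F (Sum.inr : Fin m → Fin m ⊕ Fin m))) = m
  have h1 := LinearMap.finrank_range_add_finrank_ker
    (LinearMap.funLeft F F (Sum.inr : Fin m → Fin m ⊕ Fin m))
  have h2 : LinearMap.range (LinearMap.funLeft F F (Sum.inr : Fin m → Fin m ⊕ Fin m)) = ⊤ :=
    LinearMap.range_eq_top.2 (LinearMap.funLeft_surjective_of_injective F F _ Sum.inr_injective)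
  rw [h2, finrank_top, Module.finrank_fintype_fun_eq_card, Module.finrank_fintype_fun_eq_card,
    Fintype.card_sum, Fintype.card_fin] at h1
  omega

theorem finrank_plus_space : finrank F (Fin m ⊕ Fin m → F) = 2 * m := by
  rw [Module.finrank_fintype_fun_eq_card, Fintype.card_sum, Fintype.card_fin]; ring

/-- parity of the length of a reflection decomposition from the position of `g U` relative to `U` -/
theorem length_parity_plus (vs : List (Fin m ⊕ Fin m → F)) (hvs : ∀ v ∈ vs, plusQ m F v ≠ 0) :
    (finrank F ↥(plusU m F ⊓ (plusU m F).map (vs.map (refl (plusQ m F))).prod) + vs.length) % 2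
      = m % 2 := by
  have key := (finrank_inf_map_prod_refl_add_length (plusQ m F) plusQ_nondeg
    (isTS_plusU (F := F) (m := m)) (by rw [finrank_plusU, finrank_plus_space]) vs hvs).2
  rw [finrank_plusU] at key
  exact key

/-! ### block matrices of diagonal matrices -/

/-- `[[diag a, diag b], [diag c, diag d]]` -/
def blk (a b c d : Fin m → F) : Matrix (Fin m ⊕ Fin m) (Fin m ⊕ Fin m) F :=
  Matrix.fromBlocks (Matrix.diagonal a) (Matrix.diagonal b) (Matrix.diagonal c) (Matrix.diagonal d)

theorem blk_mul (a b c d a' b' c' d' : Fin m → F) :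
    blk a b c d * blk a' b' c' d'
      = blk (a * a' + b * c') (a * b' + b * d') (c * a' + d * c') (c * b' + d * d') := by
  unfold blk
  rw [Matrix.fromBlocks_multiply]
  simp only [Matrix.diagonal_mul_diagonal, Matrix.diagonal_add]
  rfl

theorem blk_mulVec (a b c d : Fin m → F) (v : Fin m ⊕ Fin m → F) :
    (blk a b c d).mulVec v
      = Sum.elim (fun j => a j * v (Sum.inl j) + b j * v (Sum.inr j))
          (fun j => c j * v (Sum.inl j) + d j * v (Sum.inr j)) := by
  unfold blk
  rw [Matrix.fromBlocks_mulVec]
  funext k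
  rcases k with j | j
  · simp [Matrix.mulVec_diagonal]
  · simp [Matrix.mulVec_diagonal]

/-- the vector `s e_i + t f_i` -/
def pairVec (i : Fin m) (s t : F) : Fin m ⊕ Fin m → F :=
  Sum.elim (Pi.single i s) (Pi.single i t)

theorem plusQ_pairVec (i : Fin m) (s t : F) : plusQ m F (pairVec i s t) = s * t := by
  rw [plusQ_apply, Finset.sum_eq_single i]
  · simp [pairVec]
  · intro j _ hj
    simp [pairVec, Pi.single_eq_of_ne hj]
  · intro h
    exact absurd (Finset.mem_univ i) h

theorem polar_plusQ_pairVec (i : Fin m) (s t : F) (v : Fin m ⊕ Fin m → F) :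
    polar (plusQ m F) (pairVec i s t) v = s * v (Sum.inr i) + v (Sum.inl i) * t := by
  rw [polar_plusQ, Finset.sum_eq_single i]
  · simp [pairVec]
  · intro j _ hj
    simp [pairVec, Pi.single_eq_of_ne hj]
  · intro h
    exact absurd (Finset.mem_univ i) h

theorem reflectionMatrix_pairVec (i : Fin m) {s t : F} (hs : s ≠ 0) (ht : t ≠ 0) :
    Cfsg.reflectionMatrix (⇑(plusQ m F)) (pairVec i s t)
      = blk (fun j => if j = i then 0 else 1) (fun j => if j = i then -(s / t) else 0)
          (fun j => if j = i then -(t / s) else 0) (fun j => if j = i then 0 else 1) := by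
  apply Matrix.toLin'.injective
  apply LinearMap.ext
  intro v
  rw [Matrix.toLin'_apply, Matrix.toLin'_apply, reflectionMatrix_mulVec, refl_apply, blk_mulVec,
    plusQ_pairVec, polar_plusQ_pairVec]
  funext k
  rcases k with j | j
  · by_cases hj : j = i
    · subst hj
      simp [pairVec]
      field_simp
      ring
    · simp [pairVec, hj, Pi.single_eq_of_ne hj]
  · by_cases hj : j = i
    · subst hj
      simp [pairVec]
      field_simp
      ring
    · simp [pairVec, hj, Pi.single_eq_of_ne hj]

/-- product of reflections in `s_i e_i + t_i f_i` over a list of distinct indices -/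
theorem prod_reflectionMatrix_pairVec (s t : Fin m → F) (hs : ∀ i, s i ≠ 0) (ht : ∀ i, t i ≠ 0)
    (l : List (Fin m)) (hl : l.Nodup) :
    (l.map (fun i => Cfsg.reflectionMatrix (⇑(plusQ m F)) (pairVec i (s i) (t i)))).prod
      = blk (fun j => if j ∈ l then 0 else 1) (fun j => if j ∈ l then -(s j / t j) else 0)
          (fun j => if j ∈ l then -(t j / s j) else 0) (fun j => if j ∈ l then 0 else 1) := by
  induction l with
  | nil =>
    simp only [List.map_nil, List.prod_nil, List.not_mem_nil, if_false]
    unfold blk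
    have h0 : Matrix.diagonal (fun _ : Fin m => (0 : F)) = 0 := Matrix.diagonal_zero
    have h1 : Matrix.diagonal (fun _ : Fin m => (1 : F)) = 1 := Matrix.diagonal_one
    rw [h0, h1, Matrix.fromBlocks_one]
  | cons i l ih =>
    have hnd := List.nodup_cons.1 hl
    rw [List.map_cons, List.prod_cons, ih hnd.2, reflectionMatrix_pairVec i (hs i) (ht i),
      blk_mul]
    congr 1
    all_goals
      funext j
      by_cases hj : j = i
      · subst hj
        simp [hnd.1]
      · simp [hj]

theorem prod_reflectionMatrix_pairVec_univ (s t : Fin m → F) (hs : ∀ i, s i ≠ 0)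
    (ht : ∀ i, t i ≠ 0) :
    ((List.finRange m).map
        (fun i => Cfsg.reflectionMatrix (⇑(plusQ m F)) (pairVec i (s i) (t i)))).prod
      = blk 0 (fun j => -(s j / t j)) (fun j => -(t j / s j)) 0 := by
  rw [prod_reflectionMatrix_pairVec s t hs ht _ (List.nodup_finRange m)]
  congr 1
  all_goals
    funext j
    simp

theorem blk_swap : blk (0 : Fin m → F) 1 1 0 = Matrix.fromBlocks 0 1 1 0 := by
  unfold blk
  have h0 : Matrix.diagonal (0 : Fin m → F) = 0 := Matrix.diagonal_zero
  have h1 : Matrix.diagonal (1 : Fin m → F) = 1 := Matrix.diagonal_one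
  rw [h0, h1]

/-- the list of vectors `e_i - f_i` -/
def swapList (m : ℕ) (F : Type*) [Field F] : List (Fin m ⊕ Fin m → F) :=
  (List.finRange m).map (fun i => pairVec i (1 : F) (-1))

theorem swapList_Q : ∀ v ∈ swapList m F, plusQ m F v = -1 := by
  intro v hv
  unfold swapList at hv
  rw [List.mem_map] at hv
  obtain ⟨i, _, rfl⟩ := hv
  rw [plusQ_pairVec]; ring

theorem swapList_length : (swapList m F).length = m := by
  unfold swapList
  rw [List.length_map, List.length_finRange]

theorem swapList_prod :
    ((swapList m F).map (fun v => Cfsg.reflectionMatrix (⇑(plusQ m F)) v)).prod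
      = Matrix.fromBlocks 0 1 1 0 := by
  unfold swapList
  rw [List.map_map]
  have := prod_reflectionMatrix_pairVec_univ (F := F) (m := m) (fun _ => 1) (fun _ => -1)
    (fun _ => one_ne_zero) (fun _ => neg_ne_zero.2 one_ne_zero)
  rw [← blk_swap]
  refine Eq.trans this ?_
  congr 1
  · funext j; simp
  · funext j; simp

theorem swapList_prod_Q : ((swapList m F).map (fun v => plusQ m F v)).prod = (-1) ^ m := by
  have h : (swapList m F).map (fun v => plusQ m F v) = List.replicate m (-1 : F) := by
    rw [List.eq_replicate_iff]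
    constructor
    · rw [List.length_map, swapList_length]
    · intro b hb
      rw [List.mem_map] at hb
      obtain ⟨v, hv, rfl⟩ := hb
      exact swapList_Q v hv
  rw [h, List.prod_replicate]

/-- the list of vectors `e_i - d_i f_i` -/
def diagList (d : Fin m → F) : List (Fin m ⊕ Fin m → F) :=
  (List.finRange m).map (fun i => pairVec i (1 : F) (-(d i)))

theorem diagList_Q (d : Fin m → F) (hd : ∀ i, d i ≠ 0) : ∀ v ∈ diagList d, plusQ m F v ≠ 0 := by
  intro v hv
  unfold diagList at hv
  rw [List.mem_map] at hv
  obtain ⟨i, _, rfl⟩ := hv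
  rw [plusQ_pairVec, one_mul]
  exact neg_ne_zero.2 (hd i)

theorem diagList_length (d : Fin m → F) : (diagList d).length = m := by
  unfold diagList
  rw [List.length_map, List.length_finRange]

theorem diagList_prod (d : Fin m → F) (hd : ∀ i, d i ≠ 0) :
    ((diagList d).map (fun v => Cfsg.reflectionMatrix (⇑(plusQ m F)) v)).prod
      = blk 0 (fun j => (d j)⁻¹) d 0 := by
  unfold diagList
  rw [List.map_map]
  have := prod_reflectionMatrix_pairVec_univ (F := F) (m := m) (fun _ => 1) (fun i => -(d i))
    (fun _ => one_ne_zero) (fun i => neg_ne_zero.2 (hd i))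
  refine Eq.trans this ?_
  congr 1
  · funext j
    have := hd j
    field_simp
  · funext j; simp

theorem diagList_prod_Q (d : Fin m → F) :
    ((diagList d).map (fun v => plusQ m F v)).prod = (-1) ^ m * ∏ i, d i := by
  unfold diagList
  rw [List.map_map]
  have h : ((fun v => plusQ m F v) ∘ fun i => pairVec i (1 : F) (-(d i)))
      = fun i => (-1 : F) * d i := by
    funext i
    simp only [Function.comp_apply]
    rw [plusQ_pairVec]; ring
  rw [h]
  have h2 : ((List.finRange m).map (fun i => (-1 : F) * d i)).prod = ∏ i, ((-1 : F) * d i) := by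
    rw [← List.ofFn_eq_map, List.prod_ofFn]
  rw [h2, Finset.prod_mul_distrib, Finset.prod_const, Finset.card_univ, Fintype.card_fin]

theorem swapList_append_diagList_prod (d : Fin m → F) (hd : ∀ i, d i ≠ 0) :
    ((swapList m F ++ diagList d).map (fun v => Cfsg.reflectionMatrix (⇑(plusQ m F)) v)).prod
      = Matrix.fromBlocks (Matrix.diagonal d) 0 0 (Matrix.diagonal (fun j => (d j)⁻¹)) := by
  rw [List.map_append, List.prod_append, swapList_prod, diagList_prod d hd, ← blk_swap, blk_mul]
  unfold blk
  have h0 : Matrix.diagonal (0 : Fin m → F) = 0 := Matrix.diagonal_zero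
  congr 1
  · congr 1; funext j; simp
  · rw [← h0]; congr 1; funext j; simp
  · rw [← h0]; congr 1; funext j; simp
  · congr 1; funext j; simp

end Cfsg.Agent.Helper17.Spinor
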