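import Mathlib
import Cfsg.Prelude.Def_Classical
import Cfsg.Prelude.Def_ClassicalGeometry
import Cfsg.Agent.Lib.Helper17.OmegaAll
import Cfsg.Agent.Lib.Helper28.WittQuad

/-!
# Transitivity of `Ω` (helper17)

If the stabiliser of a subspace `W` in the isometry group contains a reflection and (in odd
characteristic) products of two reflections of every spinor norm, then `Ω` is transitive on the
orbit of `W` under the full isometry group; Witt's lemma (helper28) identifies these orbits.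
-/

set_option autoImplicit false

namespace Cfsg.Agent.Helper17.Spinor
open Cfsg QuadraticMap Module

variable {F : Type*} [Field F] [Fintype F] {ι : Type} [Fintype ι] [DecidableEq ι]
  (Q : QuadraticForm F (ι → F))

/-- spinor norm adjustment: an even product of reflections can be moved into `Ω` by an element of
a multiplicatively closed set containing products of two reflections of all spinor norms -/
theorem exists_mul_mem_Omega_of_even (hQ : (polarBilin Q).Nondegenerate)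
    (hex : Fintype.card F ≠ 2 ∨ Fintype.card ι ≠ 4)
    (P : ↥(Cfsg.isometryGroup F (⇑Q)) → Prop) (hP1 : P 1)
    (h2 : (2 : F) ≠ 0 → ∀ c : F, c ≠ 0 → ∃ a b : ι → F, Q a ≠ 0 ∧ Q b ≠ 0 ∧
      P (tG Q a * tG Q b) ∧ IsSquare (Q a * Q b * c))
    (vs : List (ι → F)) (hvs : ∀ v ∈ vs, Q v ≠ 0) (heven : Even vs.length) :
    ∃ s, P s ∧ s * (vs.map (tG Q)).prod ∈ Cfsg.Omega F (⇑Q) := by
  by_cases h20 : (2 : F) = 0
  · refine ⟨1, hP1, ?_⟩
    rw [one_mul, prod_tG_mem_Omega_iff_all Q hQ hex vs hvs]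
    have := charP_two_of_two_eq_zero h20
    have hchar : ringChar F = 2 := ringChar.eq F 2
    exact ⟨heven, FiniteField.isSquare_of_char_two hchar _⟩
  · have hθ : (vs.map (fun v => Q v)).prod ≠ 0 := prod_Q_ne_zero Q vs hvs
    obtain ⟨a, b, ha, hb, hPab, hsq⟩ := h2 h20 _ hθ
    refine ⟨tG Q a * tG Q b, hPab, ?_⟩
    have h1 : tG Q a * tG Q b * (vs.map (tG Q)).prod = ((a :: b :: vs).map (tG Q)).prod := by
      rw [List.map_cons, List.map_cons, List.prod_cons, List.prod_cons, mul_assoc]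
    have hvs' : ∀ v ∈ a :: b :: vs, Q v ≠ 0 := by
      intro v hv
      rcases List.mem_cons.1 hv with rfl | hv
      · exact ha
      rcases List.mem_cons.1 hv with rfl | hv
      · exact hb
      · exact hvs v hv
    rw [h1, prod_tG_mem_Omega_iff_all Q hQ hex _ hvs']
    refine ⟨?_, ?_⟩
    · rw [List.length_cons, List.length_cons]
      obtain ⟨k, hk⟩ := heven
      exact ⟨k + 1, by omega⟩
    · rw [List.map_cons, List.map_cons, List.prod_cons, List.prod_cons, ← mul_assoc]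
      exact hsq

/-- parity and spinor norm adjustment -/
theorem exists_mul_mem_Omega (hQ : (polarBilin Q).Nondegenerate)
    (hex : Fintype.card F ≠ 2 ∨ Fintype.card ι ≠ 4)
    (P : ↥(Cfsg.isometryGroup F (⇑Q)) → Prop) (hP1 : P 1) (hPmul : ∀ a b, P a → P b → P (a * b))
    (h1 : ∃ v : ι → F, Q v ≠ 0 ∧ P (tG Q v))
    (h2 : (2 : F) ≠ 0 → ∀ c : F, c ≠ 0 → ∃ a b : ι → F, Q a ≠ 0 ∧ Q b ≠ 0 ∧
      P (tG Q a * tG Q b) ∧ IsSquare (Q a * Q b * c))
    (g : ↥(Cfsg.isometryGroup F (⇑Q))) :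
    ∃ s, P s ∧ s * g ∈ Cfsg.Omega F (⇑Q) := by
  obtain ⟨vs, hvs, rfl⟩ := exists_prod_tG Q hQ hex g
  rcases Nat.even_or_odd vs.length with he | ho
  · exact exists_mul_mem_Omega_of_even Q hQ hex P hP1 h2 vs hvs he
  · obtain ⟨v, hv, hPv⟩ := h1
    have hvs' : ∀ w ∈ v :: vs, Q w ≠ 0 := by
      intro w hw
      rcases List.mem_cons.1 hw with rfl | hw
      · exact hv
      · exact hvs w hw
    have he : Even (v :: vs).length := by
      rw [List.length_cons]
      exact Nat.even_add_one.2 (Nat.not_even_iff_odd.2 ho)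
    obtain ⟨s, hs, hmem⟩ := exists_mul_mem_Omega_of_even Q hQ hex P hP1 h2 (v :: vs) hvs' he
    refine ⟨s * tG Q v, hPmul _ _ hs hPv, ?_⟩
    rw [mul_assoc]
    rw [List.map_cons, List.prod_cons] at hmem
    exact hmem

/-- the stabiliser predicate is multiplicative -/
theorem map_toEnd_mul (W : Submodule F (ι → F)) (a b : ↥(Cfsg.isometryGroup F (⇑Q)))
    (ha : W.map (toEnd Q a) = W) (hb : W.map (toEnd Q b) = W) : W.map (toEnd Q (a * b)) = W := by
  rw [map_mul]
  have : (toEnd Q a * toEnd Q b : Module.End F (ι → F)) = (toEnd Q a).comp (toEnd Q b) := rfl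
  rw [this, Submodule.map_comp, hb, ha]

theorem map_toEnd_one (W : Submodule F (ι → F)) :
    W.map (toEnd Q (1 : ↥(Cfsg.isometryGroup F (⇑Q)))) = W := by
  rw [map_one]
  exact Submodule.map_id W

/-- a reflection in a vector orthogonal to `W` fixes `W` -/
theorem map_tG_of_orth (W : Submodule F (ι → F)) {v : ι → F} (hv : Q v ≠ 0)
    (hvW : ∀ w ∈ W, polar Q v w = 0) : W.map (toEnd Q (tG Q v)) = W := by
  rw [toEnd_tG Q hv]
  apply le_antisymm
  · rintro x ⟨w, hw, rfl⟩
    rw [refl_apply_of_polar_eq_zero Q v w (hvW w hw)]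
    exact hw
  · intro w hw
    exact ⟨w, hw, refl_apply_of_polar_eq_zero Q v w (hvW w hw)⟩

/-- a reflection in a vector of `W` stabilises `W` -/
theorem map_tG_of_mem (W : Submodule F (ι → F)) {v : ι → F} (hv : Q v ≠ 0)
    (hvW : v ∈ W) : W.map (toEnd Q (tG Q v)) = W := by
  rw [toEnd_tG Q hv]
  have hle : W.map (refl Q v) ≤ W := by
    rintro x ⟨w, hw, rfl⟩
    rw [refl_apply]
    exact W.sub_mem hw (W.smul_mem _ hvW)
  apply le_antisymm hle
  intro w hw
  refine ⟨refl Q v w, hle ⟨w, hw, rfl⟩, refl_refl' Q hv w⟩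

/-- **Witt's lemma**, matrix group form -/
theorem exists_map_eq_of_equiv (hQ : (polarBilin Q).Nondegenerate)
    (hex : Fintype.card F ≠ 2 ∨ Fintype.card ι ≠ 4) (U W : Submodule F (ι → F))
    (e : U ≃ₗ[F] W) (he : ∀ u : U, Q (e u : ι → F) = Q (u : ι → F)) :
    ∃ g : ↥(Cfsg.isometryGroup F (⇑Q)), U.map (toEnd Q g) = W ∧
      ∀ u : U, toEnd Q g (u : ι → F) = (e u : ι → F) := by
  obtain ⟨g', hg', hg'e⟩ := Cfsg.Agent.Helper28.WittQuad.witt (Q := Q) hQ U W e he
  obtain ⟨g, hg⟩ := exists_toEnd_eq Q hQ hex g'.toLinearMap hg'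
  refine ⟨g, ?_, ?_⟩
  · rw [hg]
    apply le_antisymm
    · rintro x ⟨u, hu, rfl⟩
      have := hg'e ⟨u, hu⟩
      show g' u ∈ W
      simp only at this
      rw [this]
      exact (e ⟨u, hu⟩).2
    · intro w hw
      refine ⟨(e.symm ⟨w, hw⟩ : ι → F), (e.symm ⟨w, hw⟩).2, ?_⟩
      have := hg'e (e.symm ⟨w, hw⟩)
      show g' _ = w
      rw [this, LinearEquiv.apply_symm_apply]
  · intro u
    rw [hg]
    exact hg'e u

/-- `Ω` is transitive on the orbit of `W` when the stabiliser of `W` is large enough -/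
theorem exists_mem_Omega_map_eq (hQ : (polarBilin Q).Nondegenerate)
    (hex : Fintype.card F ≠ 2 ∨ Fintype.card ι ≠ 4) (U W : Submodule F (ι → F))
    (g₀ : ↥(Cfsg.isometryGroup F (⇑Q))) (hg₀ : U.map (toEnd Q g₀) = W)
    (h1 : ∃ v : ι → F, Q v ≠ 0 ∧ W.map (toEnd Q (tG Q v)) = W)
    (h2 : (2 : F) ≠ 0 → ∀ c : F, c ≠ 0 → ∃ a b : ι → F, Q a ≠ 0 ∧ Q b ≠ 0 ∧
      W.map (toEnd Q (tG Q a * tG Q b)) = W ∧ IsSquare (Q a * Q b * c)) :
    ∃ g : ↥(Cfsg.isometryGroup F (⇑Q)), g ∈ Cfsg.Omega F (⇑Q) ∧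
      U.map (Matrix.mulVecLin ((g : Matrix.GeneralLinearGroup ι F) : Matrix ι ι F)) = W := by
  obtain ⟨s, hs, hmem⟩ := exists_mul_mem_Omega Q hQ hex (fun s => W.map (toEnd Q s) = W)
    (map_toEnd_one Q W) (fun a b ha hb => map_toEnd_mul Q W a b ha hb) h1 h2 g₀
  refine ⟨s * g₀, hmem, ?_⟩
  show U.map (toEnd Q (s * g₀)) = W
  rw [map_mul]
  have : (toEnd Q s * toEnd Q g₀ : Module.End F (ι → F)) = (toEnd Q s).comp (toEnd Q g₀) := rfl
  rw [this, Submodule.map_comp, hg₀, hs]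

/-- even version of `exists_mem_Omega_map_eq` -/
theorem exists_mem_Omega_map_eq_of_even (hQ : (polarBilin Q).Nondegenerate)
    (hex : Fintype.card F ≠ 2 ∨ Fintype.card ι ≠ 4) (U W : Submodule F (ι → F))
    (vs : List (ι → F)) (hvs : ∀ v ∈ vs, Q v ≠ 0) (heven : Even vs.length)
    (hg₀ : U.map (toEnd Q (vs.map (tG Q)).prod) = W)
    (h2 : (2 : F) ≠ 0 → ∀ c : F, c ≠ 0 → ∃ a b : ι → F, Q a ≠ 0 ∧ Q b ≠ 0 ∧
      W.map (toEnd Q (tG Q a * tG Q b)) = W ∧ IsSquare (Q a * Q b * c)) :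
    ∃ g : ↥(Cfsg.isometryGroup F (⇑Q)), g ∈ Cfsg.Omega F (⇑Q) ∧
      U.map (Matrix.mulVecLin ((g : Matrix.GeneralLinearGroup ι F) : Matrix ι ι F)) = W := by
  obtain ⟨s, hs, hmem⟩ := exists_mul_mem_Omega_of_even Q hQ hex
    (fun s => W.map (toEnd Q s) = W) (map_toEnd_one Q W) h2 vs hvs heven
  refine ⟨s * (vs.map (tG Q)).prod, hmem, ?_⟩
  show U.map (toEnd Q (s * (vs.map (tG Q)).prod)) = W
  rw [map_mul]
  have : (toEnd Q s * toEnd Q (vs.map (tG Q)).prod : Module.End F (ι → F))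
      = (toEnd Q s).comp (toEnd Q (vs.map (tG Q)).prod) := rfl
  rw [this, Submodule.map_comp, hg₀, hs]

/-- a group element mapping `W` into itself maps it onto itself -/
theorem map_toEnd_eq_of_le (W : Submodule F (ι → F)) (g : ↥(Cfsg.isometryGroup F (⇑Q)))
    (h : W.map (toEnd Q g) ≤ W) : W.map (toEnd Q g) = W := by
  have hinj : Function.Injective (toEnd Q g) := by
    intro x y hxy
    have h1 : toEnd Q g⁻¹ (toEnd Q g x) = x := by
      rw [← Module.End.mul_apply, ← map_mul, inv_mul_cancel, map_one]; rfl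
    have h2 : toEnd Q g⁻¹ (toEnd Q g y) = y := by
      rw [← Module.End.mul_apply, ← map_mul, inv_mul_cancel, map_one]; rfl
    rw [← h1, hxy, h2]
  apply Submodule.eq_of_le_of_finrank_eq h
  exact (LinearEquiv.finrank_eq (Submodule.equivMapOfInjective _ hinj W)).symm

section GenericHyp

variable {V : Type*} [AddCommGroup V] [Module F V] (Q' : QuadraticForm F V)

theorem Q_hyp_sub_smul {e f : V} (he : Q' e = 0) (hf : Q' f = 0) (hef : polar Q' e f = 1)
    (c : F) : Q' (e - c • f) = -c := by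
  rw [Q_sub_smul, he, hf, hef]; ring

theorem refl_refl_hyp_left {e f : V} (he : Q' e = 0) (hf : Q' f = 0) (hef : polar Q' e f = 1)
    {c : F} (hc : c ≠ 0) : refl Q' (e - (1 : F) • f) (refl Q' (e - c • f) e) = c • e := by
  have hb : polar Q' (e - c • f) e = -c := by
    rw [polar_sub_left, polar_self, he, polar_smul_left, polar_comm Q' f e, hef]; simp
  have h1 : refl Q' (e - c • f) e = c • f := by
    rw [refl_apply, hb, Q_hyp_sub_smul Q' he hf hef]
    have : ((-c)⁻¹ * -c) = 1 := inv_mul_cancel₀ (neg_ne_zero.2 hc)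
    rw [this, one_smul]; abel
  have ha : polar Q' (e - (1 : F) • f) f = 1 := by
    rw [polar_sub_left, polar_smul_left, polar_self, hf, hef]; simp
  rw [h1, map_smul, refl_apply, ha, Q_hyp_sub_smul Q' he hf hef]
  have : ((-1 : F)⁻¹ * 1) = -1 := by norm_num
  rw [this]
  congr 1
  rw [one_smul]
  module

theorem refl_refl_hyp_orth {e f x : V} (c : F) (hex : polar Q' e x = 0)
    (hfx : polar Q' f x = 0) : refl Q' (e - (1 : F) • f) (refl Q' (e - c • f) x) = x := by
  have h1 : polar Q' (e - c • f) x = 0 := by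
    rw [polar_sub_left, polar_smul_left, hex, hfx]; simp
  have h2 : polar Q' (e - (1 : F) • f) x = 0 := by
    rw [polar_sub_left, polar_smul_left, hex, hfx]; simp
  rw [refl_apply_of_polar_eq_zero Q' _ _ h1, refl_apply_of_polar_eq_zero Q' _ _ h2]

end GenericHyp

/-- hyperbolic rotations along a singular vector `e ∈ W ≤ e^⊥` stabilise `W` -/
theorem map_hyp_rot (W : Submodule F (ι → F)) {e f : ι → F} (he : Q e = 0) (hf : Q f = 0)
    (hef : polar Q e f = 1) (heW : e ∈ W) (hWe : ∀ w ∈ W, polar Q e w = 0) {c : F} (hc : c ≠ 0) :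
    W.map (toEnd Q (tG Q (e - (1 : F) • f) * tG Q (e - c • f))) = W := by
  have ha : Q (e - (1 : F) • f) ≠ 0 := by
    rw [Q_hyp_sub_smul Q he hf hef]; exact neg_ne_zero.2 one_ne_zero
  have hb : Q (e - c • f) ≠ 0 := by
    rw [Q_hyp_sub_smul Q he hf hef]; exact neg_ne_zero.2 hc
  apply map_toEnd_eq_of_le
  rintro x ⟨w, hw, rfl⟩
  rw [map_mul, toEnd_tG Q ha, toEnd_tG Q hb, Module.End.mul_apply]
  have hdec : w = polar Q f w • e + (w - polar Q f w • e) := by abel
  have h1 : polar Q e (w - polar Q f w • e) = 0 := by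
    rw [polar_sub_right, polar_smul_right, hWe w hw, polar_self, he]; simp
  have h2 : polar Q f (w - polar Q f w • e) = 0 := by
    rw [polar_sub_right, polar_smul_right, polar_comm Q f e, hef]; simp
  rw [hdec, map_add, map_add, map_smul, map_smul, refl_refl_hyp_left Q he hf hef hc,
    refl_refl_hyp_orth Q c h1 h2]
  exact W.add_mem (W.smul_mem _ (W.smul_mem _ heW)) (W.sub_mem hw (W.smul_mem _ heW))

theorem top_inf_orthogonal_top (hQ : (polarBilin Q).Nondegenerate) :
    (⊤ : Submodule F (ι → F)) ⊓ LinearMap.BilinForm.orthogonal (polarBilin Q) ⊤ = ⊥ := by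
  rw [eq_bot_iff]
  intro x hx
  have hx2 := hx.2
  rw [SetLike.mem_coe, mem_orthogonal_iff'] at hx2
  have : x = 0 := hQ.2 x (fun y => hx2 y Submodule.mem_top)
  rw [this]; exact Submodule.zero_mem _

/-- products of two reflections of every spinor norm in the stabiliser of `W ∋ e`, `W ≤ e^⊥` -/
theorem exists_pair_hyp (hQ : (polarBilin Q).Nondegenerate) (W : Submodule F (ι → F))
    {e : ι → F} (he0 : e ≠ 0) (he : Q e = 0) (heW : e ∈ W) (hWe : ∀ w ∈ W, polar Q e w = 0)
    (c : F) (hc : c ≠ 0) :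
    ∃ a b : ι → F, Q a ≠ 0 ∧ Q b ≠ 0 ∧ W.map (toEnd Q (tG Q a * tG Q b)) = W ∧
      IsSquare (Q a * Q b * c) := by
  obtain ⟨f, -, hf, hef⟩ := exists_partner Q ⊤ (top_inf_orthogonal_top Q hQ)
    (Submodule.mem_top : e ∈ ⊤) he0 he
  refine ⟨e - (1 : F) • f, e - c • f, ?_, ?_, map_hyp_rot Q W he hf hef heW hWe hc, ?_⟩
  · rw [Q_hyp_sub_smul Q he hf hef]; exact neg_ne_zero.2 one_ne_zero
  · rw [Q_hyp_sub_smul Q he hf hef]; exact neg_ne_zero.2 hc
  · rw [Q_hyp_sub_smul Q he hf hef, Q_hyp_sub_smul Q he hf hef]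
    exact ⟨c, by ring⟩

section nondeg

/-- a non-degenerate subspace of dimension at least two over a finite field of odd order
represents every non-zero scalar -/
theorem exists_mem_Q_eq {V : Type*} [AddCommGroup V] [Module F V] [FiniteDimensional F V]
    (Q' : QuadraticForm F V) (h2 : (2 : F) ≠ 0) (X : Submodule F V)
    (hX : X ⊓ LinearMap.BilinForm.orthogonal (polarBilin Q') X = ⊥) (hdim : 2 ≤ finrank F ↥X)
    {t : F} (ht : t ≠ 0) : ∃ v ∈ X, Q' v = t := by
  have hrefl : (polarBilin Q').IsRefl := (polarBilin_isSymm Q').isRefl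
  have hnd : (polarBilin (Q'.comp X.subtype)).Nondegenerate := by
    rw [Cfsg.Agent.Helper13.polarBilin_comp_subtype]
    exact LinearMap.BilinForm.nondegenerate_restrict_of_disjoint_orthogonal _ hrefl
      (disjoint_iff.2 hX)
  obtain ⟨v, hv⟩ := exists_repr (Q'.comp X.subtype) h2 hnd hdim ht
  exact ⟨(v : V), v.2, hv⟩

/-- the orthogonal complement of a non-degenerate subspace is non-degenerate -/
theorem orthogonal_inf_orthogonal_orthogonal (hQ : (polarBilin Q).Nondegenerate)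
    (X : Submodule F (ι → F))
    (hX : X ⊓ LinearMap.BilinForm.orthogonal (polarBilin Q) X = ⊥) :
    LinearMap.BilinForm.orthogonal (polarBilin Q) X ⊓
      LinearMap.BilinForm.orthogonal (polarBilin Q)
        (LinearMap.BilinForm.orthogonal (polarBilin Q) X) = ⊥ := by
  have hrefl : (polarBilin Q).IsRefl := (polarBilin_isSymm Q).isRefl
  rw [LinearMap.BilinForm.orthogonal_orthogonal hQ hrefl, inf_comm]
  exact hX

/-- products of two reflections of every spinor norm in the stabiliser of a non-degenerate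
subspace, in dimension at least three -/
theorem exists_pair_nondeg (hQ : (polarBilin Q).Nondegenerate) (h2 : (2 : F) ≠ 0)
    (hn : 3 ≤ Fintype.card ι) (W : Submodule F (ι → F))
    (hW : W ⊓ LinearMap.BilinForm.orthogonal (polarBilin Q) W = ⊥) (c : F) (hc : c ≠ 0) :
    ∃ a b : ι → F, Q a ≠ 0 ∧ Q b ≠ 0 ∧ W.map (toEnd Q (tG Q a * tG Q b)) = W ∧
      IsSquare (Q a * Q b * c) := by
  by_cases hdim : 2 ≤ finrank F ↥W
  · obtain ⟨a, haW, ha⟩ := exists_mem_Q_eq Q h2 W hW hdim (one_ne_zero)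
    obtain ⟨b, hbW, hb⟩ := exists_mem_Q_eq Q h2 W hW hdim hc
    have ha0 : Q a ≠ 0 := by rw [ha]; exact one_ne_zero
    have hb0 : Q b ≠ 0 := by rw [hb]; exact hc
    refine ⟨a, b, ha0, hb0, map_toEnd_mul Q W _ _ (map_tG_of_mem Q W ha0 haW)
      (map_tG_of_mem Q W hb0 hbW), ?_⟩
    rw [ha, hb]
    exact ⟨c, by ring⟩
  · have hfr := LinearMap.BilinForm.finrank_orthogonal hQ W
    rw [Module.finrank_fintype_fun_eq_card] at hfr
    have hdim' : 2 ≤ finrank F ↥(LinearMap.BilinForm.orthogonal (polarBilin Q) W) := by omega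
    have hW' := orthogonal_inf_orthogonal_orthogonal Q hQ W hW
    obtain ⟨a, haW, ha⟩ := exists_mem_Q_eq Q h2 _ hW' hdim' (one_ne_zero)
    obtain ⟨b, hbW, hb⟩ := exists_mem_Q_eq Q h2 _ hW' hdim' hc
    have ha0 : Q a ≠ 0 := by rw [ha]; exact one_ne_zero
    have hb0 : Q b ≠ 0 := by rw [hb]; exact hc
    have horth : ∀ {v : ι → F}, v ∈ LinearMap.BilinForm.orthogonal (polarBilin Q) W →
        ∀ w ∈ W, polar Q v w = 0 := by
      intro v hv w hw
      rw [polar_comm]
      exact (mem_orthogonal_iff' Q W v).1 hv w hw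
    refine ⟨a, b, ha0, hb0, map_toEnd_mul Q W _ _ (map_tG_of_orth Q W ha0 (horth haW))
      (map_tG_of_orth Q W hb0 (horth hbW)), ?_⟩
    rw [ha, hb]
    exact ⟨c, by ring⟩

/-- a reflection in the stabiliser of a non-degenerate subspace -/
theorem exists_tG_nondeg (hQ : (polarBilin Q).Nondegenerate) [Nonempty ι]
    (W : Submodule F (ι → F))
    (hW : W ⊓ LinearMap.BilinForm.orthogonal (polarBilin Q) W = ⊥) :
    ∃ v : ι → F, Q v ≠ 0 ∧ W.map (toEnd Q (tG Q v)) = W := by
  by_cases hW0 : W = ⊥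
  · obtain ⟨v, hv⟩ := exists_nonsingular Q hQ
    refine ⟨v, hv, map_tG_of_orth Q W hv ?_⟩
    intro w hw
    rw [hW0, Submodule.mem_bot] at hw
    rw [hw]
    have := polar_smul_right Q (0 : F) v 0
    simpa using this
  · obtain ⟨v, hvW, hv⟩ := exists_nonsingular_of_ne_bot Q W hW hW0
    exact ⟨v, hv, map_tG_of_mem Q W hv hvW⟩

end nondeg

end Cfsg.Agent.Helper17.Spinor
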