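import Mathlib
import Cfsg.Agent.Lib.Helper17.OrthClass
import Cfsg.Agent.Lib.Helper17.OrthPairs

/-!
# The two classes of maximal totally singular subspaces (helper17)

Over any field: for maximal totally singular subspaces `U, W, X` of a `2m`-dimensional quadratic
space with non-degenerate polar form, `dim (U ∩ W) + dim (W ∩ X) + dim (U ∩ X) ≡ m (mod 2)`.
-/

set_option autoImplicit false

namespace Cfsg.Agent.Helper17.Spinor
open Cfsg QuadraticMap Module

variable {F : Type*} [Field F] {V : Type*} [AddCommGroup V] [Module F V] [FiniteDimensional F V]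
  (Q : QuadraticForm F V)

/-- two distinct maximal totally singular subspaces: a reflection moving `X` one step closer
to `W` -/
theorem exists_refl_inf_succ (hQ : (polarBilin Q).Nondegenerate) {W X : Submodule F V}
    (hW : IsTS Q W) (hW2 : 2 * finrank F ↥W = finrank F V) (hX : IsTS Q X)
    (hX2 : 2 * finrank F ↥X = finrank F V) (hne : W ≠ X) :
    ∃ v, Q v ≠ 0 ∧ finrank F ↥(W ⊓ X.map (refl Q v)) = finrank F ↥(W ⊓ X) + 1 := by
  have hex : ∃ w ∈ W, ∃ x ∈ X, polar Q w x ≠ 0 := by
    by_contra hcon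
    push Not at hcon
    apply hne
    have hle : X ≤ W := by
      intro x hx
      exact hW.mem_of_orth Q hQ hW2 (fun w hw => hcon w hw x hx)
    exact (Submodule.eq_of_le_of_finrank_eq hle (by omega)).symm
  obtain ⟨w, hw, x, hx, hwx⟩ := hex
  have hQv : Q (x - w) ≠ 0 := by
    rw [Q_sub_of_singular Q (hX x hx) (hW w hw), polar_comm Q x w]
    exact neg_ne_zero.2 hwx
  refine ⟨x - w, hQv, ?_⟩
  have hlt : W ⊓ X < W ⊓ X.map (refl Q (x - w)) := by
    apply lt_of_le_of_ne
    · intro y hy
      refine ⟨hy.1, y, hy.2, ?_⟩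
      apply refl_apply_of_polar_eq_zero
      rw [polar_sub_left, hX.polar_eq_zero Q hx hy.2, polar_comm Q w y,
        hW.polar_eq_zero Q hy.1 hw, sub_zero]
    · intro heq
      have hwmem : w ∈ W ⊓ X.map (refl Q (x - w)) :=
        ⟨hw, x, hx, refl_sub_apply_of_eq Q (by rw [hX x hx, hW w hw]) hQv⟩
      rw [← heq] at hwmem
      exact hwx (hX.polar_eq_zero Q hwmem.2 hx)
  have h1 := Submodule.finrank_lt_finrank_of_lt hlt
  rcases finrank_inf_map_refl Q hQ hW hW2 hX hX2 hQv with h | h
  · omega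
  · exact h

/-- the three pairwise intersection dimensions of maximal totally singular subspaces -/
theorem three_inf_parity (hQ : (polarBilin Q).Nondegenerate) {U W : Submodule F V}
    (hU : IsTS Q U) (hU2 : 2 * finrank F ↥U = finrank F V)
    (hW : IsTS Q W) (hW2 : 2 * finrank F ↥W = finrank F V) :
    ∀ (k : ℕ) (X : Submodule F V), IsTS Q X → 2 * finrank F ↥X = finrank F V →
      finrank F ↥W - finrank F ↥(W ⊓ X) = k →
      (finrank F ↥(U ⊓ W) + finrank F ↥(W ⊓ X) + finrank F ↥(U ⊓ X)) % 2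
        = finrank F ↥U % 2 := by
  intro k
  induction k with
  | zero =>
    intro X hX hX2 hk
    have hle : finrank F ↥(W ⊓ X) ≤ finrank F ↥W := Submodule.finrank_mono inf_le_left
    have heq : W ⊓ X = W := Submodule.eq_of_le_of_finrank_eq inf_le_left (by omega)
    have hWX : W = X :=
      Submodule.eq_of_le_of_finrank_eq (inf_eq_left.1 heq) (by omega)
    subst hWX
    rw [inf_idem]
    omega
  | succ k ih =>
    intro X hX hX2 hk
    have hne : W ≠ X := by
      intro h
      subst h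
      rw [inf_idem] at hk
      omega
    obtain ⟨v, hv, hv1⟩ := exists_refl_inf_succ Q hQ hW hW2 hX hX2 hne
    have hX' : IsTS Q (X.map (refl Q v)) := hX.map_refl Q hv
    have hX2' : 2 * finrank F ↥(X.map (refl Q v)) = finrank F V := by
      rw [finrank_map_refl Q X hv]; exact hX2
    have hle : finrank F ↥(W ⊓ X.map (refl Q v)) ≤ finrank F ↥W :=
      Submodule.finrank_mono inf_le_left
    have h1 := ih (X.map (refl Q v)) hX' hX2' (by omega)
    rcases finrank_inf_map_refl Q hQ hU hU2 hX hX2 hv with h | h <;> omega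

/-- a maximal totally singular subspace is its own orthogonal complement -/
theorem IsTS.orthogonal_eq (hQ : (polarBilin Q).Nondegenerate) {X : Submodule F V}
    (hX : IsTS Q X) (hX2 : 2 * finrank F ↥X = finrank F V) :
    LinearMap.BilinForm.orthogonal (polarBilin Q) X = X := by
  apply le_antisymm
  · intro x hx
    exact hX.mem_of_orth Q hQ hX2 ((mem_orthogonal_iff' Q X x).1 hx)
  · intro x hx
    exact (mem_orthogonal_iff' Q X x).2 (fun u hu => hX.polar_eq_zero Q hu hx)

/-- if there is a totally singular subspace of half the dimension, every totally singular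
subspace lies in one -/
theorem exists_isTS_of_le (hQ : (polarBilin Q).Nondegenerate) {X U : Submodule F V}
    (hX : IsTS Q X) (hX2 : 2 * finrank F ↥X = finrank F V) (hU : IsTS Q U) :
    ∃ W, IsTS Q W ∧ 2 * finrank F ↥W = finrank F V ∧ U ≤ W := by
  set Y : Submodule F V := X ⊓ LinearMap.BilinForm.orthogonal (polarBilin Q) U with hY
  have hYeq : Y = LinearMap.BilinForm.orthogonal (polarBilin Q) (U ⊔ X) := by
    ext x
    rw [hY, Submodule.mem_inf, mem_orthogonal_iff', mem_orthogonal_iff']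
    constructor
    · rintro ⟨hxX, hxU⟩ n hn
      obtain ⟨u, hu, x', hx', rfl⟩ := Submodule.mem_sup.1 hn
      rw [polar_add_left, hxU u hu, hX.polar_eq_zero Q hx' hxX, add_zero]
    · intro h
      refine ⟨hX.mem_of_orth Q hQ hX2 (fun w hw => h w (Submodule.mem_sup_right hw)),
        fun u hu => h u (Submodule.mem_sup_left hu)⟩
  have hUY : U ⊓ Y = U ⊓ X := by
    rw [hY]
    apply le_antisymm
    · exact inf_le_inf_left U inf_le_left
    · intro x hx
      refine ⟨hx.1, hx.2, ?_⟩
      exact (mem_orthogonal_iff' Q U x).2 (fun u hu => hU.polar_eq_zero Q hu hx.1)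
  refine ⟨U ⊔ Y, ?_, ?_, le_sup_left⟩
  · intro w hw
    obtain ⟨u, hu, y, hy, rfl⟩ := Submodule.mem_sup.1 hw
    have hy' : y ∈ X ⊓ LinearMap.BilinForm.orthogonal (polarBilin Q) U := hy
    rw [Q_add, hU u hu, hX y hy'.1, (mem_orthogonal_iff' Q U y).1 hy'.2 u hu]
    simp
  · have h1 := Submodule.finrank_sup_add_finrank_inf_eq U Y
    have h2 := Submodule.finrank_sup_add_finrank_inf_eq U X
    have h3 := LinearMap.BilinForm.finrank_orthogonal hQ (U ⊔ X)
    rw [← hYeq] at h3
    rw [hUY] at h1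
    have h4 : finrank F ↥(U ⊔ X) ≤ finrank F V := Submodule.finrank_le _
    omega

/-- in a `2m`-dimensional space with a totally singular `m`-subspace, a totally singular
`(m-1)`-subspace lies in exactly two totally singular `m`-subspaces -/
theorem exists_two_isTS_of_le (hQ : (polarBilin Q).Nondegenerate) {X U : Submodule F V}
    (hX : IsTS Q X) (hX2 : 2 * finrank F ↥X = finrank F V) (hU : IsTS Q U)
    (hU2 : 2 * (finrank F ↥U + 1) = finrank F V) :
    ∃ W₁ W₂ : Submodule F V, W₁ ≠ W₂ ∧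
      (IsTS Q W₁ ∧ 2 * finrank F ↥W₁ = finrank F V ∧ U ≤ W₁) ∧
      (IsTS Q W₂ ∧ 2 * finrank F ↥W₂ = finrank F V ∧ U ≤ W₂) ∧
      ∀ W, IsTS Q W → 2 * finrank F ↥W = finrank F V → U ≤ W → W = W₁ ∨ W = W₂ := by
  obtain ⟨W₁, hW₁, hW₁2, hUW₁⟩ := exists_isTS_of_le Q hQ hX hX2 hU
  -- a non-singular vector orthogonal to `U`
  obtain ⟨v, hvU, hv⟩ : ∃ v ∈ LinearMap.BilinForm.orthogonal (polarBilin Q) U, Q v ≠ 0 := by
    by_contra hcon
    push Not at hcon
    have hT : IsTS Q (LinearMap.BilinForm.orthogonal (polarBilin Q) U) := hcon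
    have hle : LinearMap.BilinForm.orthogonal (polarBilin Q) U
        ≤ LinearMap.BilinForm.orthogonal (polarBilin Q)
          (LinearMap.BilinForm.orthogonal (polarBilin Q) U) :=
      fun x hx => (mem_orthogonal_iff' Q _ x).2 (fun u hu => hT.polar_eq_zero Q hu hx)
    have h1 := LinearMap.BilinForm.finrank_orthogonal hQ U
    have h2 := LinearMap.BilinForm.finrank_orthogonal hQ
      (LinearMap.BilinForm.orthogonal (polarBilin Q) U)
    have h3 := Submodule.finrank_mono hle
    omega
  have hfix : ∀ u ∈ U, refl Q v u = u := by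
    intro u hu
    apply refl_apply_of_polar_eq_zero
    rw [polar_comm]
    exact (mem_orthogonal_iff' Q U v).1 hvU u hu
  have hW₂ : IsTS Q (W₁.map (refl Q v)) := hW₁.map_refl Q hv
  have hW₂2 : 2 * finrank F ↥(W₁.map (refl Q v)) = finrank F V := by
    rw [finrank_map_refl Q W₁ hv]; exact hW₁2
  have hUW₂ : U ≤ W₁.map (refl Q v) := fun u hu => ⟨u, hUW₁ hu, hfix u hu⟩
  have hne : W₁ ≠ W₁.map (refl Q v) := by
    intro h
    rcases finrank_inf_map_refl Q hQ hW₁ hW₁2 hW₁ hW₁2 hv with h1 | h1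
    · rw [← h, inf_idem] at h1; omega
    · rw [← h, inf_idem] at h1; omega
  refine ⟨W₁, W₁.map (refl Q v), hne, ⟨hW₁, hW₁2, hUW₁⟩, ⟨hW₂, hW₂2, hUW₂⟩, ?_⟩
  intro W hW hW2 hUW
  by_contra hcon
  push Not at hcon
  -- pairwise intersections all have dimension `m - 1`
  have key : ∀ A B : Submodule F V, 2 * finrank F ↥A = finrank F V →
      2 * finrank F ↥B = finrank F V → U ≤ A → U ≤ B → A ≠ B →
      finrank F ↥(A ⊓ B) = finrank F ↥U := by
    intro A B hA hB hUA hUB hAB
    have h1 : finrank F ↥U ≤ finrank F ↥(A ⊓ B) := Submodule.finrank_mono (le_inf hUA hUB)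
    have h2 : A ⊓ B < A := by
      apply lt_of_le_of_ne inf_le_left
      intro h
      apply hAB
      exact Submodule.eq_of_le_of_finrank_eq (inf_eq_left.1 h) (by omega)
    have h3 := Submodule.finrank_lt_finrank_of_lt h2
    omega
  have h1 := key W W₁ hW2 hW₁2 hUW hUW₁ hcon.1
  have h2 := key W₁ (W₁.map (refl Q v)) hW₁2 hW₂2 hUW₁ hUW₂ hne
  have h3 := key W (W₁.map (refl Q v)) hW2 hW₂2 hUW hUW₂ hcon.2
  have h4 := three_inf_parity Q hQ hW hW2 hW₁ hW₁2 _ (W₁.map (refl Q v)) hW₂ hW₂2 rfl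
  omega

end Cfsg.Agent.Helper17.Spinor
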