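import Mathlib
import Cfsg.Prelude.Def_Classical
import Cfsg.Prelude.Def_ClassicalGeometry
import Cfsg.Prelude.Def_GeometricClasses
import Cfsg.Agent.Lib.Helper17.OmegaAll
import Cfsg.Agent.Lib.Helper17.OmegaTrans
import Cfsg.Agent.Lib.Helper17.OrthClass2

/-!
# Explicit elements of `Ω` and stabilisers (helper17)

A toolbox for the statements on non-maximal subspace stabilisers in orthogonal groups: bundling a
quadratic form given as a function, membership in `omegaGL` and in subspace stabilisers, products of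
two reflections of equal norm as elements of `Ω`, and the parity of `dim (U ⊓ g U)` for `g ∈ Ω` and
`U` maximal totally singular.
-/

set_option autoImplicit false

namespace Cfsg.Agent.Helper17.OmegaElts
open Cfsg QuadraticMap Module Cfsg.Agent.Helper17.Spinor

section bundle

variable {ι : Type} [Fintype ι] [DecidableEq ι] {F : Type*} [Field F]

/-- the bundled quadratic form of a function satisfying `IsNondegenerateQuadraticForm` -/
noncomputable def toQF (Q : (ι → F) → F) (hQ : Geo.IsNondegenerateQuadraticForm Q) :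
    QuadraticForm F (ι → F) where
  toFun := Q
  toFun_smul a x := by
    rw [hQ.smul, pow_two, smul_eq_mul]
  exists_companion' :=
    ⟨LinearMap.mk₂ F (polar Q) hQ.polar_bilinear.add_left
      (fun c m n => by rw [hQ.polar_bilinear.smul_left, smul_eq_mul])
      hQ.polar_bilinear.add_right
      (fun c m n => by rw [hQ.polar_bilinear.smul_right, smul_eq_mul]),
      fun x y => by
        rw [LinearMap.mk₂_apply]
        unfold polar
        ring⟩

theorem coe_toQF (Q : (ι → F) → F) (hQ : Geo.IsNondegenerateQuadraticForm Q) :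
    ⇑(toQF Q hQ) = Q := rfl

theorem toQF_nondeg (Q : (ι → F) → F) (hQ : Geo.IsNondegenerateQuadraticForm Q) :
    (polarBilin (toQF Q hQ)).Nondegenerate := by
  constructor
  · intro x hx
    by_contra hx0
    obtain ⟨-, y, hy⟩ := hQ.nondegenerate x hx0
    exact hy (hx y)
  · intro y hy
    by_contra hy0
    obtain ⟨⟨x, hx⟩, -⟩ := hQ.nondegenerate y hy0
    exact hx (hy x)

end bundle

section membership

variable {ι : Type} [Fintype ι] [DecidableEq ι] {F : Type*} [Field F] [Fintype F]
  (Q : QuadraticForm F (ι → F))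

theorem mem_omegaGL_iff (g : Matrix.GeneralLinearGroup ι F) :
    g ∈ Geo.omegaGL (⇑Q) ↔
      ∃ h : ↥(Cfsg.isometryGroup F (⇑Q)), h ∈ Cfsg.Omega F (⇑Q) ∧
        (h : Matrix.GeneralLinearGroup ι F) = g := by
  unfold Geo.omegaGL
  rw [Subgroup.mem_map]
  rfl

theorem coe_mem_omegaGL {h : ↥(Cfsg.isometryGroup F (⇑Q))} (hh : h ∈ Cfsg.Omega F (⇑Q)) :
    (h : Matrix.GeneralLinearGroup ι F) ∈ Geo.omegaGL (⇑Q) :=
  (mem_omegaGL_iff Q _).2 ⟨h, hh, rfl⟩

/-- membership of an isometry in a subspace stabiliser -/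
theorem coe_mem_subspaceStabilizer_iff (h : ↥(Cfsg.isometryGroup F (⇑Q)))
    (W : Submodule F (ι → F)) :
    (h : Matrix.GeneralLinearGroup ι F) ∈ Geo.subspaceStabilizer W ↔ W.map (toEnd Q h) = W := by
  constructor
  · intro hmem
    apply map_toEnd_eq_of_le
    rintro _ ⟨w, hw, rfl⟩
    exact (hmem w).1 hw
  · intro hmap v
    constructor
    · intro hv
      have : toEnd Q h v ∈ W.map (toEnd Q h) := ⟨v, hv, rfl⟩
      rw [hmap] at this
      exact this
    · intro hv
      have hv' : toEnd Q h v ∈ W.map (toEnd Q h) := by rw [hmap]; exact hv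
      obtain ⟨w, hw, hwv⟩ := hv'
      have hinj : Function.Injective (toEnd Q h) := by
        intro x y hxy
        have h1 : toEnd Q h⁻¹ (toEnd Q h x) = x := by
          rw [← Module.End.mul_apply, ← map_mul, inv_mul_cancel, map_one]; rfl
        have h2 : toEnd Q h⁻¹ (toEnd Q h y) = y := by
          rw [← Module.End.mul_apply, ← map_mul, inv_mul_cancel, map_one]; rfl
        rw [← h1, hxy, h2]
      rw [← hinj hwv]
      exact hw

/-- the pattern of all the non-maximality statements -/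
theorem exists_between {G : Type*} [Group G] (S S' Ω : Subgroup G)
    (h1 : ∀ g ∈ Ω, g ∈ S → g ∈ S') (h2 : ∃ g ∈ Ω, g ∈ S' ∧ g ∉ S) (h3 : ∃ g ∈ Ω, g ∉ S') :
    ∃ K : Subgroup G, S ⊓ Ω < K ∧ K < Ω := by
  refine ⟨S' ⊓ Ω, ?_, ?_⟩
  · apply lt_of_le_of_ne
    · intro g hg
      exact ⟨h1 g hg.2 hg.1, hg.2⟩
    · intro heq
      obtain ⟨g, hgΩ, hgS', hgS⟩ := h2
      have : g ∈ S ⊓ Ω := by rw [heq]; exact ⟨hgS', hgΩ⟩
      exact hgS this.1
  · apply lt_of_le_of_ne inf_le_right
    intro heq
    obtain ⟨g, hgΩ, hgS'⟩ := h3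
    have : g ∈ S' ⊓ Ω := by rw [heq]; exact hgΩ
    exact hgS' this.1

end membership

section elements

variable {ι : Type} [Fintype ι] [DecidableEq ι] {F : Type*} [Field F] [Fintype F]
  (Q : QuadraticForm F (ι → F))

/-- the product of two reflections in vectors of the same norm lies in `Ω` -/
theorem tG_mul_tG_mem_Omega (hQ : (polarBilin Q).Nondegenerate)
    (hex : Fintype.card F ≠ 2 ∨ Fintype.card ι ≠ 4) {a b : ι → F} (ha : Q a ≠ 0)
    (hab : Q b = Q a) : tG Q a * tG Q b ∈ Cfsg.Omega F (⇑Q) := by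
  have hlist : ∀ v ∈ [a, b], Q v ≠ 0 := by
    intro v hv
    simp only [List.mem_cons, List.not_mem_nil, or_false] at hv
    rcases hv with rfl | rfl
    · exact ha
    · rw [hab]; exact ha
  have hsq : IsSquare (([a, b].map (fun v => Q v)).prod) := by
    simp only [List.map_cons, List.map_nil, List.prod_cons, List.prod_nil, mul_one, hab]
    exact ⟨Q a, rfl⟩
  have h := (prod_tG_mem_Omega_iff_all Q hQ hex [a, b] hlist).2 ⟨⟨1, rfl⟩, hsq⟩
  simpa using h

omit [Fintype F] in
theorem toEnd_tG_mul_tG {a b : ι → F} (ha : Q a ≠ 0) (hb : Q b ≠ 0) (x : ι → F) :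
    toEnd Q (tG Q a * tG Q b) x = refl Q a (refl Q b x) := by
  rw [map_mul, toEnd_tG Q ha, toEnd_tG Q hb]
  rfl

/-- for `g ∈ Ω` and `U` maximal totally singular of dimension half that of the space,
`dim (U ⊓ g U) ≡ dim U (mod 2)` -/
theorem finrank_inf_map_of_mem_Omega (hQ : (polarBilin Q).Nondegenerate)
    (hex : Fintype.card F ≠ 2 ∨ Fintype.card ι ≠ 4) {U : Submodule F (ι → F)} (hU : IsTS Q U)
    (hU2 : 2 * finrank F ↥U = finrank F (ι → F)) {g : ↥(Cfsg.isometryGroup F (⇑Q))}
    (hg : g ∈ Cfsg.Omega F (⇑Q)) :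
    finrank F ↥(U ⊓ U.map (toEnd Q g)) % 2 = finrank F ↥U % 2 := by
  obtain ⟨vs, hvs, rfl⟩ := exists_prod_tG Q hQ hex g
  obtain ⟨heven, -⟩ := (prod_tG_mem_Omega_iff_all Q hQ hex vs hvs).1 hg
  obtain ⟨-, hpar⟩ := finrank_inf_map_prod_refl_add_length Q hQ hU hU2 vs hvs
  rw [toEnd_prod_tG Q vs hvs]
  obtain ⟨k, hk⟩ := heven
  omega

end elements

section constructions

variable {ι : Type} [Fintype ι] [DecidableEq ι] {F : Type*} [Field F] [Fintype F]
  (Q : QuadraticForm F (ι → F))

omit [Fintype F] [DecidableEq ι] in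
/-- the product of the reflections in `u` and `u + e`, for `e` singular orthogonal to `u` -/
theorem refl_refl_add_apply {u e : ι → F} (hu : Q u ≠ 0) (he : Q e = 0)
    (hue : polar Q u e = 0) (x : ι → F) :
    refl Q u (refl Q (u + e) x) =
      x + ((Q u)⁻¹ * polar Q e x) • u - ((Q u)⁻¹ * (polar Q u x + polar Q e x)) • e := by
  have hQue : Q (u + e) = Q u := by rw [Q_add Q, he, hue, add_zero, add_zero]
  rw [refl_apply Q (u + e) x, refl_apply Q u, hQue]
  simp only [polar_sub_right, polar_smul_right, polar_add_left, polar_add_right, polar_self, hue,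
    he, smul_eq_mul, nsmul_eq_mul, Nat.cast_ofNat]
  set κ := Q u with hκ
  set k := κ⁻¹ with hk
  have hkκ : k * κ = 1 := inv_mul_cancel₀ hu
  set p := polar Q u x
  set q := polar Q e x
  have H : k * (p - k * (p + q) * (2 * κ + 0)) = -(k * p) - 2 * (k * q) := by
    have : k * (p - k * (p + q) * (2 * κ + 0)) = k * p - 2 * (k * κ) * (k * (p + q)) := by ring
    rw [this, hkκ]; ring
  rw [H]
  module

omit [Fintype F] [DecidableEq ι] in
theorem Q_add_singular {u e : ι → F} (he : Q e = 0) (hue : polar Q u e = 0) :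
    Q (u + e) = Q u := by
  rw [Q_add Q, he, hue, add_zero, add_zero]

/-- a non-singular vector orthogonal to a given vector, in dimension at least three -/
theorem exists_nonsingular_orth_vec (hQ : (polarBilin Q).Nondegenerate)
    (hn : 3 ≤ Fintype.card ι) (w : ι → F) : ∃ a : ι → F, Q a ≠ 0 ∧ polar Q a w = 0 := by
  by_contra hcon
  push Not at hcon
  set X := LinearMap.BilinForm.orthogonal (polarBilin Q) (Submodule.span F {w}) with hX
  have hTS : ∀ a ∈ X, Q a = 0 := by
    intro a ha
    by_contra h0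
    apply hcon a h0
    have := (mem_orthogonal_iff' Q _ a).1 ha w (Submodule.mem_span_singleton_self w)
    rw [polar_comm]; exact this
  have hle : X ≤ LinearMap.BilinForm.orthogonal (polarBilin Q) X := by
    intro x hx
    rw [mem_orthogonal_iff']
    intro y hy
    unfold polar
    rw [hTS x hx, hTS y hy, hTS (y + x) (X.add_mem hy hx)]
    ring
  have h1 := LinearMap.BilinForm.finrank_orthogonal hQ (Submodule.span F {w})
  have h2 := LinearMap.BilinForm.finrank_orthogonal hQ X
  have h3 := Submodule.finrank_mono hle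
  have h4 : finrank F ↥(Submodule.span F {w}) ≤ 1 := by
    classical
    have := finrank_span_finset_le_card (R := F) ({w} : Finset (ι → F))
    rw [Finset.coe_singleton, Finset.card_singleton] at this
    exact this
  rw [Module.finrank_fintype_fun_eq_card] at h1 h2
  rw [← hX] at h1
  omega

/-- a vector of prescribed norm pairing to `1` with a given non-zero singular vector -/
theorem exists_polar_eq_one_Q_eq (hQ : (polarBilin Q).Nondegenerate) {w : ι → F} (hw0 : w ≠ 0)
    (hw : Q w = 0) (c : F) : ∃ b : ι → F, polar Q b w = 1 ∧ Q b = c := by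
  obtain ⟨y, -, hy⟩ := exists_polar_eq_one Q ⊤ (top_inf_orthogonal_top Q hQ)
    (Submodule.mem_top : w ∈ ⊤) hw0
  refine ⟨y + (c - Q y) • w, ?_, ?_⟩
  · rw [polar_add_left, polar_smul_left, polar_self, hw, polar_comm Q y w, hy]
    simp
  · rw [Q_add Q, QuadraticMap.map_smul, hw, polar_smul_right, polar_comm Q y w, hy]
    simp

/-- an element of `Ω` not stabilising a given non-zero totally singular subspace -/
theorem exists_mem_Omega_map_ne (hQ : (polarBilin Q).Nondegenerate)
    (hex : Fintype.card F ≠ 2 ∨ Fintype.card ι ≠ 4) (hn : 3 ≤ Fintype.card ι)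
    {U : Submodule F (ι → F)} (hU : IsTS Q U) (hU0 : U ≠ ⊥) :
    ∃ g ∈ Cfsg.Omega F (⇑Q), U.map (toEnd Q g) ≠ U := by
  obtain ⟨w, hwU, hw0⟩ := Submodule.exists_mem_ne_zero_of_ne_bot hU0
  obtain ⟨a, ha, haw⟩ := exists_nonsingular_orth_vec Q hQ hn w
  obtain ⟨b, hbw, hb⟩ := exists_polar_eq_one_Q_eq Q hQ hw0 (hU w hwU) (Q a)
  have hb0 : Q b ≠ 0 := by rw [hb]; exact ha
  refine ⟨tG Q a * tG Q b, tG_mul_tG_mem_Omega Q hQ hex ha hb, ?_⟩
  intro hmap
  have hw' : w ∈ U.map (toEnd Q (tG Q a * tG Q b)) := by rw [hmap]; exact hwU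
  obtain ⟨x, hxU, hxw⟩ := hw'
  rw [toEnd_tG_mul_tG Q ha hb0] at hxw
  have h1 : refl Q b x = w := by
    have := congrArg (refl Q a) hxw
    rw [refl_refl' Q ha, refl_apply_of_polar_eq_zero Q a w haw] at this
    exact this
  have h2 : x = refl Q b w := by rw [← h1, refl_refl' Q hb0]
  rw [refl_apply, hbw, mul_one] at h2
  have hbU : b ∈ U := by
    have : b = (Q b) • (w - x) := by
      rw [h2, sub_sub_cancel, smul_smul, mul_inv_cancel₀ hb0, one_smul]
    rw [this]
    exact U.smul_mem _ (U.sub_mem hwU hxU)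
  exact hb0 (hU b hbU)

/-- a vector of norm one orthogonal to `x₁` and pairing to `1` with the singular vector `x₂`,
orthogonal to `x₁` and not a multiple of it -/
theorem exists_orth_polar_one (hQ : (polarBilin Q).Nondegenerate) {x₁ x₂ : ι → F}
    (hx₂ : Q x₂ = 0) (h12 : polar Q x₁ x₂ = 0) (hnot : x₂ ∉ Submodule.span F {x₁}) :
    ∃ u : ι → F, polar Q u x₁ = 0 ∧ polar Q u x₂ = 1 ∧ Q u = 1 := by
  have hrefl : (polarBilin Q).IsRefl := (polarBilin_isSymm Q).isRefl
  obtain ⟨u₀, hu₀1, hu₀2⟩ : ∃ u₀ : ι → F, polar Q u₀ x₁ = 0 ∧ polar Q u₀ x₂ ≠ 0 := by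
    by_contra hcon
    push Not at hcon
    apply hnot
    have hle : LinearMap.BilinForm.orthogonal (polarBilin Q) (Submodule.span F {x₁}) ≤
        LinearMap.BilinForm.orthogonal (polarBilin Q) (Submodule.span F {x₂}) := by
      intro u hu
      rw [mem_orthogonal_iff'] at hu ⊢
      intro y hy
      rw [Submodule.mem_span_singleton] at hy
      obtain ⟨c, rfl⟩ := hy
      have h1 := hu x₁ (Submodule.mem_span_singleton_self x₁)
      rw [polar_smul_left, polar_comm Q x₂ u, hcon u (by rw [polar_comm]; exact h1), smul_zero]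
    have h2 := LinearMap.BilinForm.orthogonal_le (B := polarBilin Q) hle
    rw [LinearMap.BilinForm.orthogonal_orthogonal hQ hrefl,
      LinearMap.BilinForm.orthogonal_orthogonal hQ hrefl] at h2
    exact h2 (Submodule.mem_span_singleton_self x₂)
  obtain ⟨u₁, hu₁⟩ : ∃ u₁ : ι → F, u₁ = (polar Q u₀ x₂)⁻¹ • u₀ := ⟨_, rfl⟩
  have h1 : polar Q u₁ x₁ = 0 := by rw [hu₁, polar_smul_left, hu₀1, smul_zero]
  have h2 : polar Q u₁ x₂ = 1 := by
    rw [hu₁, polar_smul_left, smul_eq_mul, inv_mul_cancel₀ hu₀2]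
  refine ⟨u₁ + (1 - Q u₁) • x₂, ?_, ?_, ?_⟩
  · rw [polar_add_left, polar_smul_left, h1, polar_comm Q x₂ x₁, h12]
    simp
  · rw [polar_add_left, polar_smul_left, polar_self, hx₂, h2]
    simp
  · rw [Q_add Q, QuadraticMap.map_smul, hx₂, polar_smul_right, h2]
    simp

end constructions

end Cfsg.Agent.Helper17.OmegaElts
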