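import Mathlib
import Cfsg.Agent.Lib.Helper13.InvNDefs

/-!
# S2176 PIECE CELLSTEP (helper17 for helper13): multiplication of a Bruhat cell by `n_i` in the length-increasing
direction.
-/

set_option autoImplicit false
set_option linter.unusedSectionVars false
set_option linter.unusedVariables false
set_option linter.unusedSimpArgs false

namespace Cfsg.Agent.Helper13.InvN

open Cfsg Cfsg.Lie Cfsg.Agent.Lead.Chev Cfsg.Agent.Helper6.ChevL

variable {F : Type*} [Field F] {D : ChevalleyDatum} (hF : ChevFacts D F) (hS : CorSize D) (hI : CorInj D)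
include hF hS hI

/-- local copy of CELLU (2): the inverse of an element of the cell of `w` lies in the cell of `w.reverse` -/
theorem cellstep_inv (g : GL D.Idx F) (w : List ℕ) (hw : WOK D w) (h : InCell hF g w) :
    InCell hF g⁻¹ w.reverse := by
  obtain ⟨b, hb, b', hb', rfl⟩ := h
  obtain ⟨k, hk, e⟩ := nWordGL_inv D hF.xadd (etaOf D) hF.nsimple hF.simple_lt w hw
  refine ⟨b'⁻¹ * k, mul_mem (inv_mem hb') (diagonal_le_borel D hk), b⁻¹, inv_mem hb, ?_⟩
  rw [mul_inv_rev, mul_inv_rev, e]
  group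

/-- PIECE CELLSTEP (2): left multiplication by `n_i` when `w⁻¹ α_i > 0` -/
theorem cell_simple_mul (g : GL D.Idx F) (w : List ℕ) (hw : WOK D w) (i : ℕ) (hi : i < D.rank)
    (hpos : D.IsPosRoot (reflWord D w.reverse (D.simple i))) (h : InCell hF g w) :
    InCell hF (nGL D hF.xadd (D.simple i) * g) (i :: w) := by
  have hX := hF.xadd
  have hN := hF.nsimple
  have hp := hF.simple_lt i hi
  obtain ⟨b, hb, b', hb', rfl⟩ := h
  obtain ⟨u, hu, h₁, hh₁, rfl⟩ := (hF.mem_borel_iff b).1 hb
  obtain ⟨u', hu', t, rfl⟩ := (hF.mem_posUnipotent_iff i hi u).1 hu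
  have hu'' := hF.nGL_conj_posExcept i hi u' hu'
  obtain ⟨c, hc, hconj⟩ := hF.diagonal_conj_xGL h₁⁻¹ (inv_mem hh₁) (D.simple i) hp
  have e1 : xGL D hX (D.simple i) t * h₁ = h₁ * xGL D hX (D.simple i) (c * t) := by
    have := hconj t
    rw [inv_inv] at this
    rw [← this]
    group
  have hh₃ := nGL_conj_mem_diagonal D hX i (etaOf D i) (hN i hi) h₁ hh₁
  have e5 := xGL_mul_nWordGL D hX (etaOf D) hN w hw (D.simple i) hp (c * t)
  refine ⟨(nGL D hX (D.simple i) * u' * (nGL D hX (D.simple i))⁻¹) *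
      (nGL D hX (D.simple i) * h₁ * (nGL D hX (D.simple i))⁻¹),
    mul_mem (posUnipotent_le_borel D (hF.posExcept_le_posUnipotent i hi hu'')) (diagonal_le_borel D hh₃),
    xGL D hX (reflWord D w.reverse (D.simple i))
      (((signWord D (etaOf D) w (reflWord D w.reverse (D.simple i)) : ℤ) : F) * (c * t)) * b',
    mul_mem (posUnipotent_le_borel D (xGL_mem_posUnipotent D hX _ hpos _)) hb', ?_⟩
  rw [nWordGL_cons]
  calc nGL D hX (D.simple i) * (u' * xGL D hX (D.simple i) t * h₁ * nWordGL D hX w * b')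
      = nGL D hX (D.simple i) * u' * (xGL D hX (D.simple i) t * h₁) * nWordGL D hX w * b' := by group
    _ = nGL D hX (D.simple i) * u' * (h₁ * xGL D hX (D.simple i) (c * t)) * nWordGL D hX w * b' := by
        rw [e1]
    _ = nGL D hX (D.simple i) * u' * h₁ * (xGL D hX (D.simple i) (c * t) * nWordGL D hX w) * b' := by
        group
    _ = nGL D hX (D.simple i) * u' * h₁ * (nWordGL D hX w *
          xGL D hX (reflWord D w.reverse (D.simple i))
            (((signWord D (etaOf D) w (reflWord D w.reverse (D.simple i)) : ℤ) : F) * (c * t))) * b' := by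
        rw [e5]
    _ = _ := by group

/-- PIECE CELLSTEP (1): right multiplication by `n_i⁻¹` when `w α_i > 0` -/
theorem cell_mul_simple (g : GL D.Idx F) (w : List ℕ) (hw : WOK D w) (i : ℕ) (hi : i < D.rank)
    (hpos : D.IsPosRoot (reflWord D w (D.simple i))) (h : InCell hF g w) :
    InCell hF (g * (nGL D hF.xadd (D.simple i))⁻¹) (w ++ [i]) := by
  have h1 := cellstep_inv hF hS hI g w hw h
  have hpos' : D.IsPosRoot (reflWord D w.reverse.reverse (D.simple i)) := by
    rw [List.reverse_reverse]; exact hpos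
  have h2 := cell_simple_mul hF hS hI g⁻¹ w.reverse hw.reverse i hi hpos' h1
  have h3 := cellstep_inv hF hS hI _ (i :: w.reverse) (WOK.cons hi hw.reverse) h2
  have e1 : (nGL D hF.xadd (D.simple i) * g⁻¹)⁻¹ = g * (nGL D hF.xadd (D.simple i))⁻¹ := by group
  have e2 : (i :: w.reverse).reverse = w ++ [i] := by
    rw [List.reverse_cons, List.reverse_reverse]
  rw [e1, e2] at h3
  exact h3

end Cfsg.Agent.Helper13.InvN
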