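import Mathlib
import Cfsg.Agent.Lib.Helper13.InvNDefs
import Cfsg.Agent.Lib.Helper17.InvNCELLSTEP
import Cfsg.Agent.Lib.Helper6.InvNLEN
import Cfsg.Agent.Lib.Helper15.InvNINVOL

/-!
# S2176 PIECE CONDM (helper17 for helper13): in a maximal cell every fundamental root is fixed or made negative.
-/

set_option autoImplicit false
set_option linter.unusedSectionVars false
set_option linter.unusedVariables false
set_option linter.unusedSimpArgs false

namespace Cfsg.Agent.Helper13.InvN

open Cfsg Cfsg.Lie Cfsg.Agent.Lead.Chev Cfsg.Agent.Helper6.ChevL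

variable {F : Type*} [Field F] {D : ChevalleyDatum} (hF : ChevFacts D F) (hS : CorSize D) (hI : CorInj D)
include hF hS hI

/-- PIECE CONDM -/
theorem condM_of_max (g : GL D.Idx F) (hg : g ∈ D.group F) (hgg : g * g = 1) (w : List ℕ) (hw : WOK D w)
    (h : IsMaxCell hF g w) : CondM D w := by
  intro i hi
  obtain ⟨hcell, hmax⟩ := h
  obtain ⟨hinv, hrev⟩ := invol_of_sq hF hS hI g hgg w hw hcell
  have hp := hF.simple_lt i hi
  have hq : reflWord D w (D.simple i) < D.nroots := reflWord_lt D (etaOf D) hF.facts w hw _ hp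
  rcases hF.sign.pos_or_neg _ hq with hpos | hneg
  · by_cases hfix : reflWord D w (D.simple i) = D.simple i
    · exact Or.inr hfix
    · exfalso
      -- `g n_i⁻¹` lies in the cell of `w ++ [i]`
      have h1 := cell_mul_simple hF hS hI g w hw i hi hpos hcell
      -- `(w ++ [i])⁻¹ α_i = s_i (w α_i) > 0`
      have hpos2 : D.IsPosRoot (reflWord D (w ++ [i]).reverse (D.simple i)) := by
        rw [List.reverse_append, List.reverse_singleton, List.singleton_append]
        show D.IsPosRoot (D.reflectRoot i (reflWord D w.reverse (D.simple i)))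
        rw [hrev _ hp]
        exact hF.refl.refl_pos i hi _ hpos hfix
      have h2 := cell_simple_mul hF hS hI _ (w ++ [i]) (hw.snoc hi) i hi hpos2 h1
      have e : nGL D hF.xadd (D.simple i) * (g * (nGL D hF.xadd (D.simple i))⁻¹) =
          nGL D hF.xadd (D.simple i) * g * (nGL D hF.xadd (D.simple i))⁻¹ := by group
      rw [e] at h2
      have h3 := hmax _ (nGL_mem_group D hF.xadd (D.simple i)) (i :: (w ++ [i])) (WOK.cons hi (hw.snoc hi)) h2
      have l1 := len_snoc_lt hF hS hI w hw i hi hpos
      have l2 := len_cons_lt hF hS hI (w ++ [i]) (hw.snoc hi) i hi hpos2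
      omega
  · exact Or.inl hneg

end Cfsg.Agent.Helper13.InvN
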