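import Mathlib

/-!
# Quadratic extensions of finite fields (helper17)

For finite fields `F`, `K` with `q` and `q ^ 2` elements: an embedding `F →+* K`, the involution
`σ x = x ^ q` as a ring homomorphism, and the basic facts about them.
-/

set_option autoImplicit false

namespace Cfsg.Agent.Helper17

/-- Data of a quadratic extension of finite fields: embedding `emb`, the `q`-power map `σ` as a ring
hom, `σ` is an involution fixing exactly the image of `emb`, and there is an element not fixed. -/
theorem exists_quadExt_data {K F : Type*} [Field K] [Fintype K] [Field F] [Fintype F] {q : ℕ}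
    (hK : Fintype.card K = q ^ 2) (hF : Fintype.card F = q) :
    ∃ (emb : F →+* K) (σ : K →+* K), (∀ x, σ x = x ^ q) ∧ (∀ x, σ (σ x) = x) ∧
      (∀ a, σ (emb a) = emb a) ∧ (∀ x, σ x = x → ∃ a, emb a = x) ∧ ∃ θ, σ θ ≠ θ := by
  classical
  obtain ⟨p, hpF⟩ := CharP.exists F
  have hp : p.Prime := CharP.char_is_prime F p
  have : Fact p.Prime := ⟨hp⟩
  obtain ⟨k, -, hk⟩ := FiniteField.card F p
  have hqk : q = p ^ (k : ℕ) := by rw [← hF, hk]
  -- characteristic of `K`
  have hpK : CharP K p := by
    obtain ⟨p', hp'K⟩ := CharP.exists K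
    have hp' : p'.Prime := CharP.char_is_prime K p'
    have h0 : ((p : ℕ) : K) = 0 := by
      have h1 : ((Fintype.card K : ℕ) : K) = 0 := Nat.cast_card_eq_zero K
      rw [hK, hqk, ← pow_mul, Nat.cast_pow] at h1
      exact pow_eq_zero_iff (by positivity) |>.1 h1
    have h2 : p' ∣ p := (CharP.cast_eq_zero_iff K p' p).1 h0
    have h3 : p' = p := (Nat.prime_dvd_prime_iff_eq hp' hp).1 h2
    rw [← h3]; exact hp'K
  let _ : Algebra (ZMod p) F := ZMod.algebra F p
  let _ : Algebra (ZMod p) K := ZMod.algebra K p
  have h1 : p ^ Module.finrank (ZMod p) F = p ^ (k : ℕ) := by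
    rw [FiniteField.pow_finrank_eq_card p F, hk]
  have h1' : Module.finrank (ZMod p) F = k := Nat.pow_right_injective hp.two_le h1
  have h2 : p ^ Module.finrank (ZMod p) K = p ^ (2 * (k : ℕ)) := by
    rw [FiniteField.pow_finrank_eq_card p K, hK, hqk, ← pow_mul, mul_comm]
  have h2' : Module.finrank (ZMod p) K = 2 * k := Nat.pow_right_injective hp.two_le h2
  obtain ⟨f⟩ := FiniteField.nonempty_algHom_of_finrank_dvd (F := ZMod p) (K := F) (L := K)
    (by rw [h1', h2']; exact dvd_mul_left _ _)
  let emb : F →+* K := f.toRingHom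
  let σ : K →+* K := iterateFrobenius K p k
  have hσ : ∀ x, σ x = x ^ q := by
    intro x; rw [hqk]; exact iterateFrobenius_def p k x
  have hσσ : ∀ x, σ (σ x) = x := by
    intro x
    rw [hσ, hσ, ← pow_mul, ← pow_two, ← hK]
    exact FiniteField.pow_card x
  have hσemb : ∀ a, σ (emb a) = emb a := by
    intro a
    rw [hσ, ← map_pow, ← hF, FiniteField.pow_card]
  -- the fixed points of `σ` are the roots of `X ^ q - X`
  have hq1 : 1 < q := by rw [← hF]; exact Fintype.one_lt_card
  have hroots : (Finset.univ.filter (fun x : K => σ x = x)).card ≤ q := by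
    have hne : (Polynomial.X ^ q - Polynomial.X : Polynomial K) ≠ 0 :=
      FiniteField.X_pow_card_sub_X_ne_zero K hq1
    have hsub : Finset.univ.filter (fun x : K => σ x = x) ⊆
        (Polynomial.X ^ q - Polynomial.X : Polynomial K).roots.toFinset := by
      intro x hx
      rw [Finset.mem_filter] at hx
      rw [Multiset.mem_toFinset, Polynomial.mem_roots hne]
      simp [Polynomial.IsRoot, ← hσ, hx.2]
    calc (Finset.univ.filter (fun x : K => σ x = x)).card
        ≤ (Polynomial.X ^ q - Polynomial.X : Polynomial K).roots.toFinset.card :=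
          Finset.card_le_card hsub
      _ ≤ Multiset.card (Polynomial.X ^ q - Polynomial.X : Polynomial K).roots :=
          Multiset.toFinset_card_le _
      _ ≤ (Polynomial.X ^ q - Polynomial.X : Polynomial K).natDegree := Polynomial.card_roots' _
      _ = q := FiniteField.X_pow_card_sub_X_natDegree_eq K hq1
  have himg : Finset.univ.image emb ⊆ Finset.univ.filter (fun x : K => σ x = x) := by
    intro x hx
    rw [Finset.mem_image] at hx
    obtain ⟨a, -, rfl⟩ := hx
    rw [Finset.mem_filter]
    exact ⟨Finset.mem_univ _, hσemb a⟩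
  have himgcard : (Finset.univ.image emb).card = q := by
    rw [Finset.card_image_of_injective _ emb.injective, Finset.card_univ, hF]
  have heq : Finset.univ.image emb = Finset.univ.filter (fun x : K => σ x = x) :=
    Finset.eq_of_subset_of_card_le himg (by rw [himgcard]; exact hroots)
  refine ⟨emb, σ, hσ, hσσ, hσemb, ?_, ?_⟩
  · intro x hx
    have : x ∈ Finset.univ.image emb := by
      rw [heq, Finset.mem_filter]; exact ⟨Finset.mem_univ _, hx⟩
    rw [Finset.mem_image] at this
    obtain ⟨a, -, ha⟩ := this
    exact ⟨a, ha⟩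
  · by_contra hcon
    push Not at hcon
    have : Finset.univ.filter (fun x : K => σ x = x) = Finset.univ := by
      ext x; simp [hcon x]
    rw [this, Finset.card_univ, hK] at hroots
    nlinarith

end Cfsg.Agent.Helper17
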