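import Mathlib

/-!
# Roots of quadratics in the quadratic extension of a finite field (helper17)
-/

set_option autoImplicit false

namespace Cfsg.Agent.Helper17

open Polynomial in
/-- A monic quadratic over `F = F_q` without roots in `F` has a root in `K = F_{q²}`. -/
theorem exists_root_quadratic {K F : Type*} [Field K] [Fintype K] [Field F] [Fintype F] {q : ℕ}
    (hK : Fintype.card K = q ^ 2) (hF : Fintype.card F = q) (emb : F →+* K) (a b : F)
    (hab : ∀ z : F, z ^ 2 + a * z + b ≠ 0) :
    ∃ t : K, t ^ 2 + emb a * t + emb b = 0 := by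
  classical
  let _ : Algebra F K := emb.toAlgebra
  have halg : algebraMap F K = emb := rfl
  obtain ⟨f, hf⟩ : ∃ f : F[X], f = X ^ 2 + C a * X + C b := ⟨_, rfl⟩
  have hdeg : f.natDegree = 2 := by
    rw [hf]; compute_degree!
  have hirr : Irreducible f := by
    apply Polynomial.irreducible_of_degree_le_three_of_not_isRoot
    · rw [hdeg]; decide
    · intro z hz
      apply hab z
      have : f.eval z = 0 := hz
      rw [hf] at this
      simpa using this
  have : Fact (Irreducible f) := ⟨hirr⟩
  have h1 : Module.finrank F (AdjoinRoot f) = 2 := by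
    rw [(AdjoinRoot.powerBasis hirr.ne_zero).finrank, AdjoinRoot.powerBasis_dim, hdeg]
  have hq1 : 1 < q := by rw [← hF]; exact Fintype.one_lt_card
  have h2 : Module.finrank F K = 2 := by
    have h := Module.card_eq_pow_finrank (K := F) (V := K)
    rw [hK, hF] at h
    exact (Nat.pow_right_injective hq1 h).symm
  obtain ⟨g⟩ := FiniteField.nonempty_algHom_of_finrank_dvd (F := F) (K := AdjoinRoot f) (L := K)
    (by rw [h1, h2])
  have h3 : Polynomial.aeval (g (AdjoinRoot.root f)) f = 0 := by
    rw [Polynomial.aeval_algHom_apply, AdjoinRoot.aeval_eq, AdjoinRoot.mk_self, map_zero]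
  obtain ⟨t, ht⟩ : ∃ t : K, Polynomial.aeval t f = 0 := ⟨_, h3⟩
  refine ⟨t, ?_⟩
  rw [hf] at ht
  simpa [halg] using ht

end Cfsg.Agent.Helper17
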