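import Mathlib
import Cfsg.Agent.Lib.Helper1.ZasDefs

/-!
# Zassenhaus, piece R4 (helper17 for helper1): words in two elements of order three

If `x ^ 2 + x + 1 = 0 = y ^ 2 + y + 1` in a ring then every element `m` of the group generated by
`x, y` is `α + β x + γ y + δ x y` with coefficients commuting with `x` and `y`, its inverse is
`α + β x⁻¹ + γ y⁻¹ + δ y⁻¹ x⁻¹`, and so `m + m⁻¹ = 2 α - β - γ + δ σ` commutes with `x, y`
(`σ = x y + y x + x + y + 1`).
-/

set_option autoImplicit false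

namespace Cfsg.Agent.Helper1.Zas

section r4

variable {R : Type*} [Ring R]

/-- `σ = x y + y x + x + y + 1` -/
def r4sig (x y : R) : R := x * y + y * x + x + y + 1

theorem r4sig_comm_left (x y : R) (hx : x * x + x + 1 = 0) :
    x * r4sig x y = r4sig x y * x := by
  have h : r4sig x y * x - x * r4sig x y = y * (x * x + x + 1) - (x * x + x + 1) * y := by
    unfold r4sig; noncomm_ring
  rw [hx] at h
  simp only [mul_zero, zero_mul, sub_zero] at h
  exact (sub_eq_zero.mp h).symm

theorem r4sig_comm_right (x y : R) (hy : y * y + y + 1 = 0) :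
    y * r4sig x y = r4sig x y * y := by
  have h : r4sig x y * y - y * r4sig x y = x * (y * y + y + 1) - (y * y + y + 1) * x := by
    unfold r4sig; noncomm_ring
  rw [hy] at h
  simp only [mul_zero, zero_mul, sub_zero] at h
  exact (sub_eq_zero.mp h).symm

theorem r4sig_mem (x y : R) (hx : x * x + x + 1 = 0) (hy : y * y + y + 1 = 0) :
    r4sig x y ∈ Subring.centralizer {x, y} := by
  rw [Subring.mem_centralizer_iff]
  intro g hg
  rcases hg with rfl | hg
  · exact r4sig_comm_left g y hx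
  · rw [Set.mem_singleton_iff] at hg
    subst hg
    exact r4sig_comm_right x g hy

theorem r4sig_inv (x y : R) :
    (-1 - y) * (-1 - x) + (-1 - x) * (-1 - y) + (-1 - x) + (-1 - y) + 1 = r4sig x y := by
  unfold r4sig; noncomm_ring

/-- right multiplication by `x` on `α + β x + γ y + δ x y` -/
theorem r4_right_x (x y α β γ δ : R) (hx : x * x + x + 1 = 0) :
    (α + β * x + γ * y + δ * (x * y)) * x =
      (-β + γ * (r4sig x y - 1) + δ) + (α - β - γ + δ * r4sig x y) * x + (-γ + δ) * y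
        + (-γ) * (x * y) := by
  have h : (α + β * x + γ * y + δ * (x * y)) * x -
      ((-β + γ * (r4sig x y - 1) + δ) + (α - β - γ + δ * r4sig x y) * x + (-γ + δ) * y
        + (-γ) * (x * y)) = (β - δ * (y + 1)) * (x * x + x + 1) := by
    unfold r4sig; noncomm_ring
  rw [hx, mul_zero] at h
  exact sub_eq_zero.mp h

/-- left multiplication by `u` on `α + β u + γ v + δ v u` (coefficients commuting with `u`) -/
theorem r4_left_x (u v α β γ δ : R) (hu : u * u + u + 1 = 0)
    (hα : u * α = α * u) (hβ : u * β = β * u) (hγ : u * γ = γ * u) (hδ : u * δ = δ * u) :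
    u * (α + β * u + γ * v + δ * (v * u)) =
      (-β + γ * (r4sig v u - 1) + δ) + (α - β - γ + δ * r4sig v u) * u + (-γ + δ) * v
        + (-γ) * (v * u) := by
  have h0 : u * (α + β * u + γ * v + δ * (v * u)) =
      α * u + β * (u * u) + γ * (u * v) + δ * (u * (v * u)) := by
    rw [mul_add, mul_add, mul_add, ← mul_assoc u β, ← mul_assoc u γ, ← mul_assoc u δ,
      hα, hβ, hγ, hδ]
    simp only [mul_assoc]
  have h : α * u + β * (u * u) + γ * (u * v) + δ * (u * (v * u)) -
      ((-β + γ * (r4sig v u - 1) + δ) + (α - β - γ + δ * r4sig v u) * u + (-γ + δ) * v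
        + (-γ) * (v * u)) = (β - δ * (v + 1)) * (u * u + u + 1) := by
    unfold r4sig; noncomm_ring
  rw [hu, mul_zero] at h
  rw [h0]
  exact sub_eq_zero.mp h

/-- right multiplication by `y` -/
theorem r4_right_y (x y α β γ δ : R) (hy : y * y + y + 1 = 0) :
    (α + β * x + γ * y + δ * (x * y)) * y =
      (-γ) + (-δ) * x + (α - γ) * y + (β - δ) * (x * y) := by
  have h : (α + β * x + γ * y + δ * (x * y)) * y -
      ((-γ) + (-δ) * x + (α - γ) * y + (β - δ) * (x * y)) =
        (γ + δ * x) * (y * y + y + 1) := by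
    noncomm_ring
  rw [hy, mul_zero] at h
  exact sub_eq_zero.mp h

/-- left multiplication by `v` on `α + β u + γ v + δ v u` (coefficients commuting with `v`) -/
theorem r4_left_y (u v α β γ δ : R) (hv : v * v + v + 1 = 0)
    (hα : v * α = α * v) (hβ : v * β = β * v) (hγ : v * γ = γ * v) (hδ : v * δ = δ * v) :
    v * (α + β * u + γ * v + δ * (v * u)) =
      (-γ) + (-δ) * u + (α - γ) * v + (β - δ) * (v * u) := by
  have h0 : v * (α + β * u + γ * v + δ * (v * u)) =
      α * v + β * (v * u) + γ * (v * v) + δ * (v * (v * u)) := by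
    rw [mul_add, mul_add, mul_add, ← mul_assoc v β, ← mul_assoc v γ, ← mul_assoc v δ,
      hα, hβ, hγ, hδ]
    simp only [mul_assoc]
  have h : α * v + β * (v * u) + γ * (v * v) + δ * (v * (v * u)) -
      ((-γ) + (-δ) * u + (α - γ) * v + (β - δ) * (v * u)) =
        γ * (v * v + v + 1) + δ * ((v * v + v + 1) * u) := by
    noncomm_ring
  rw [hv, zero_mul, mul_zero, mul_zero, add_zero] at h
  rw [h0]
  exact sub_eq_zero.mp h

/-- the pair `(a, b)` is `(α + β x + γ y + δ x y, α + β x' + γ y' + δ y' x')` with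
coefficients centralizing `x, y`; here `x' = -1 - x`, `y' = -1 - y` -/
def R4Rep (x y a b : R) : Prop :=
  ∃ α ∈ Subring.centralizer {x, y}, ∃ β ∈ Subring.centralizer {x, y},
    ∃ γ ∈ Subring.centralizer {x, y}, ∃ δ ∈ Subring.centralizer {x, y},
      a = α + β * x + γ * y + δ * (x * y) ∧
      b = α + β * (-1 - x) + γ * (-1 - y) + δ * ((-1 - y) * (-1 - x))

theorem R4Rep.one (x y : R) : R4Rep x y 1 1 := by
  refine ⟨1, one_mem _, 0, zero_mem _, 0, zero_mem _, 0, zero_mem _, ?_, ?_⟩ <;> simp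

theorem R4Rep.neg {x y a b : R} (h : R4Rep x y a b) : R4Rep x y (-a) (-b) := by
  obtain ⟨α, hα, β, hβ, γ, hγ, δ, hδ, rfl, rfl⟩ := h
  refine ⟨-α, neg_mem hα, -β, neg_mem hβ, -γ, neg_mem hγ, -δ, neg_mem hδ, ?_, ?_⟩ <;>
    noncomm_ring

theorem R4Rep.add {x y a b a' b' : R} (h : R4Rep x y a b) (h' : R4Rep x y a' b') :
    R4Rep x y (a + a') (b + b') := by
  obtain ⟨α, hα, β, hβ, γ, hγ, δ, hδ, rfl, rfl⟩ := h
  obtain ⟨α', hα', β', hβ', γ', hγ', δ', hδ', rfl, rfl⟩ := h'
  refine ⟨α + α', add_mem hα hα', β + β', add_mem hβ hβ', γ + γ', add_mem hγ hγ',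
    δ + δ', add_mem hδ hδ', ?_, ?_⟩ <;> noncomm_ring

theorem r4_comm_neg {x c : R} (h : x * c = c * x) : (-1 - x) * c = c * (-1 - x) := by
  rw [sub_mul, mul_sub, h]; simp

theorem r4_inv_rel {x : R} (hx : x * x + x + 1 = 0) :
    (-1 - x) * (-1 - x) + (-1 - x) + 1 = 0 := by
  have : (-1 - x) * (-1 - x) + (-1 - x) + 1 = x * x + x + 1 := by noncomm_ring
  rw [this, hx]

theorem R4Rep.mul_x {x y a b : R} (hx : x * x + x + 1 = 0) (hy : y * y + y + 1 = 0)
    (h : R4Rep x y a b) : R4Rep x y (a * x) ((-1 - x) * b) := by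
  obtain ⟨α, hα, β, hβ, γ, hγ, δ, hδ, rfl, rfl⟩ := h
  have hs := r4sig_mem x y hx hy
  have hC := Subring.centralizer ({x, y} : Set R)
  refine ⟨-β + γ * (r4sig x y - 1) + δ, ?_, α - β - γ + δ * r4sig x y, ?_, -γ + δ, ?_, -γ, ?_,
    r4_right_x x y α β γ δ hx, ?_⟩
  · exact add_mem (add_mem (neg_mem hβ) (mul_mem hγ (sub_mem hs (one_mem _)))) hδ
  · exact add_mem (sub_mem (sub_mem hα hβ) hγ) (mul_mem hδ hs)
  · exact add_mem (neg_mem hγ) hδ
  · exact neg_mem hγ
  · have hx' : ∀ c ∈ Subring.centralizer ({x, y} : Set R), (-1 - x) * c = c * (-1 - x) :=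
      fun c hc => r4_comm_neg (hc x (by simp))
    have := r4_left_x (-1 - x) (-1 - y) α β γ δ (r4_inv_rel hx) (hx' α hα) (hx' β hβ)
      (hx' γ hγ) (hx' δ hδ)
    rw [this]
    have e : r4sig (-1 - y) (-1 - x) = r4sig x y := by
      unfold r4sig; noncomm_ring
    rw [e]

theorem R4Rep.mul_y {x y a b : R} (hy : y * y + y + 1 = 0)
    (h : R4Rep x y a b) : R4Rep x y (a * y) ((-1 - y) * b) := by
  obtain ⟨α, hα, β, hβ, γ, hγ, δ, hδ, rfl, rfl⟩ := h
  refine ⟨-γ, neg_mem hγ, -δ, neg_mem hδ, α - γ, sub_mem hα hγ, β - δ, sub_mem hβ hδ,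
    r4_right_y x y α β γ δ hy, ?_⟩
  have hy' : ∀ c ∈ Subring.centralizer ({x, y} : Set R), (-1 - y) * c = c * (-1 - y) :=
    fun c hc => r4_comm_neg (hc y (by simp))
  exact r4_left_y (-1 - x) (-1 - y) α β γ δ (r4_inv_rel hy) (hy' α hα) (hy' β hβ)
    (hy' γ hγ) (hy' δ hδ)

theorem R4Rep.sum_mem {x y a b : R} (hx : x * x + x + 1 = 0) (hy : y * y + y + 1 = 0)
    (h : R4Rep x y a b) : a + b ∈ Subring.centralizer {x, y} := by
  obtain ⟨α, hα, β, hβ, γ, hγ, δ, hδ, rfl, rfl⟩ := h
  have hs := r4sig_mem x y hx hy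
  have e : α + β * x + γ * y + δ * (x * y) +
      (α + β * (-1 - x) + γ * (-1 - y) + δ * ((-1 - y) * (-1 - x))) =
        α + α - β - γ + δ * r4sig x y := by
    unfold r4sig; noncomm_ring
  rw [e]
  exact add_mem (sub_mem (sub_mem (add_mem hα hα) hβ) hγ) (mul_mem hδ hs)

end r4

section main

variable {R : Type*} [Ring R] {G : Type*} [Group G]

theorem r4_units_inv (u : Rˣ) (hu : (u : R) * (u : R) + (u : R) + 1 = 0) :
    ((u⁻¹ : Rˣ) : R) = -1 - (u : R) := by
  apply Units.inv_eq_of_mul_eq_one_right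
  have : (u : R) * (-1 - (u : R)) = 1 - ((u : R) * (u : R) + (u : R) + 1) := by noncomm_ring
  rw [this, hu, sub_zero]

theorem ct_closure_pair (ι : G →* Rˣ) (g h : G)
    (hg : ((ι g : Rˣ) : R) ^ 2 + (ι g : Rˣ) + 1 = 0) (hh : ((ι h : Rˣ) : R) ^ 2 + (ι h : Rˣ) + 1 = 0) :
    CT ι (Subgroup.closure {g, h}) := by
  rw [pow_two] at hg hh
  set x : R := ((ι g : Rˣ) : R) with hxdef
  set y : R := ((ι h : Rˣ) : R) with hydef
  have hxi : (((ι g)⁻¹ : Rˣ) : R) = -1 - x := r4_units_inv (ι g) hg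
  have hyi : (((ι h)⁻¹ : Rˣ) : R) = -1 - y := r4_units_inv (ι h) hh
  -- every element of the closure has a representation
  have hrep : ∀ a ∈ Subgroup.closure {g, h},
      R4Rep x y ((ι a : Rˣ) : R) (((ι a)⁻¹ : Rˣ) : R) := by
    intro a ha
    induction ha using Subgroup.closure_induction_right with
    | one => simpa using R4Rep.one x y
    | mul_right m hm s hs ih =>
      rcases hs with rfl | hs
      · have := ih.mul_x hg hh
        rw [map_mul, mul_inv_rev, Units.val_mul, Units.val_mul, hxi]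
        exact this
      · rw [Set.mem_singleton_iff] at hs
        subst hs
        have := ih.mul_y (x := x) hh
        rw [map_mul, mul_inv_rev, Units.val_mul, Units.val_mul, hyi]
        exact this
    | mul_inv_cancel m hm s hs ih =>
      rcases hs with rfl | hs
      · -- m * g⁻¹ = -m - m g ; inverse g * m⁻¹ = -m⁻¹ - g⁻¹ m⁻¹
        have h1 := (ih.neg).add ((ih.mul_x hg hh).neg)
        rw [map_mul, mul_inv_rev, map_inv, inv_inv, Units.val_mul, Units.val_mul, hxi]
        have e1 : ((ι m : Rˣ) : R) * (-1 - x) = -((ι m : Rˣ) : R) + -(((ι m : Rˣ) : R) * x) := by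
          noncomm_ring
        have e2 : x * (((ι m)⁻¹ : Rˣ) : R) =
            -(((ι m)⁻¹ : Rˣ) : R) + -((-1 - x) * (((ι m)⁻¹ : Rˣ) : R)) := by
          noncomm_ring
        rw [e1, e2]
        exact h1
      · rw [Set.mem_singleton_iff] at hs
        subst hs
        have h1 := (ih.neg).add ((ih.mul_y (x := x) hh).neg)
        rw [map_mul, mul_inv_rev, map_inv, inv_inv, Units.val_mul, Units.val_mul, hyi]
        have e1 : ((ι m : Rˣ) : R) * (-1 - y) = -((ι m : Rˣ) : R) + -(((ι m : Rˣ) : R) * y) := by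
          noncomm_ring
        have e2 : y * (((ι m)⁻¹ : Rˣ) : R) =
            -(((ι m)⁻¹ : Rˣ) : R) + -((-1 - y) * (((ι m)⁻¹ : Rˣ) : R)) := by
          noncomm_ring
        rw [e1, e2]
        exact h1
  -- elements centralizing x and y commute with the image of the closure
  have hcomm : ∀ c ∈ Subring.centralizer ({x, y} : Set R), ∀ b ∈ Subgroup.closure {g, h},
      Commute c ((ι b : Rˣ) : R) := by
    intro c hc b hb
    induction hb using Subgroup.closure_induction with
    | mem s hs =>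
      rcases hs with rfl | hs
      · exact (hc x (by simp)).symm
      · rw [Set.mem_singleton_iff] at hs
        subst hs
        exact (hc y (by simp)).symm
    | one => simp
    | mul a b _ _ iha ihb =>
      rw [map_mul, Units.val_mul]
      exact iha.mul_right ihb
    | inv a _ iha =>
      rw [map_inv]
      exact iha.units_inv_right
  intro a ha b hb
  have hm := (hrep a ha).sum_mem hg hh
  exact hcomm _ hm b hb

end main

end Cfsg.Agent.Helper1.Zas
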