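import Mathlib
import Cfsg.Agent.Lib.Helper13.G2IDefs
import Cfsg.Agent.Lib.Helper13.G2I_BASE1A
import Cfsg.Agent.Lib.Helper13.G2I_BASE1B
import Cfsg.Agent.Lib.Helper18.G2I_BASE2A
import Cfsg.Agent.Lib.Helper19.G2I_BASE2C
import Cfsg.Agent.Lib.Helper22.G2I_SL2A

/-!
# S4278 / S4279 piece TYPE1 (helper17 for helper13): the involutions of `K = SL₂ ∘ SL₂`.
-/

set_option autoImplicit false
set_option linter.unusedVariables false
set_option linter.unusedSimpArgs false

namespace Cfsg.Agent.Helper13.G2I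

open Cfsg Cfsg.Lie Cfsg.Agent.Lead.Chev Cfsg.Agent.Helper11.G2T Cfsg.Agent.Helper6.SL2Hom
  Cfsg.Agent.Helper6.ChevL Matrix

variable {F : Type*} [Field F]

/-- `nS * nS = -1` -/
theorem type1_nS_sq : (nS F) * nS F = -1 := by
  apply Matrix.SpecialLinearGroup.ext
  intro i j
  fin_cases i <;> fin_cases j <;>
    simp [nS_coe, Matrix.mul_apply, Fin.sum_univ_two]

/-- `nS ≠ 1` and `nS ≠ -1` -/
theorem type1_nS_ne : nS F ≠ 1 ∧ nS F ≠ -1 := by
  constructor
  · intro h
    have := congrArg (fun A : SpecialLinearGroup (Fin 2) F => A 0 0) h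
    simp [nS_coe] at this
  · intro h
    have := congrArg (fun A : SpecialLinearGroup (Fin 2) F => A 0 0) h
    simp [nS_coe] at this

/-- `-nS ≠ 1` and `-nS ≠ -1` -/
theorem type1_neg_nS_ne : -nS F ≠ 1 ∧ -nS F ≠ -1 := by
  constructor
  · intro h
    have := congrArg (fun A : SpecialLinearGroup (Fin 2) F => A 0 0) h
    simp [nS_coe] at this
  · intro h
    have := congrArg (fun A : SpecialLinearGroup (Fin 2) F => A 0 0) h
    simp [nS_coe] at this

/-- products of the two commuting homomorphisms multiply componentwise -/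
theorem type1_mul (A B A' B' : SpecialLinearGroup (Fin 2) F) :
    (phiL F A * phiS F B) * (phiL F A' * phiS F B') = phiL F (A * A') * phiS F (B * B') := by
  have hc := (phi_comm (F := F) A' B).eq
  rw [map_mul, map_mul]
  calc phiL F A * phiS F B * (phiL F A' * phiS F B')
      = phiL F A * (phiS F B * phiL F A') * phiS F B' := by group
    _ = phiL F A * (phiL F A' * phiS F B) * phiS F B' := by rw [hc]
    _ = phiL F A * phiL F A' * (phiS F B * phiS F B') := by group

/-- inverses of products -/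
theorem type1_inv (A B : SpecialLinearGroup (Fin 2) F) :
    (phiL F A * phiS F B)⁻¹ = phiL F A⁻¹ * phiS F B⁻¹ := by
  apply inv_eq_of_mul_eq_one_right
  rw [type1_mul, mul_inv_cancel, mul_inv_cancel, map_one, map_one, mul_one]

theorem mI_mem : mI F ∈ KK F := by
  unfold mI KK
  exact Subgroup.mul_mem _ (Subgroup.mem_sup_left ⟨nS F, rfl⟩) (Subgroup.mem_sup_right ⟨nS F, rfl⟩)

theorem mI_sq : mI F * mI F = 1 := by
  unfold mI
  rw [type1_mul, type1_nS_sq, phiL_neg_one, phiS_neg_one, zI_sq]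

theorem mI_ne (h2 : (2 : F) ≠ 0) : mI F ≠ 1 ∧ mI F ≠ zI F ∧ zI F * mI F ≠ 1 ∧ zI F * mI F ≠ zI F := by
  have h1 : mI F ≠ 1 := by
    intro h
    unfold mI at h
    rcases phi_prod_eq_one _ _ h with ⟨ha, _⟩ | ⟨ha, _⟩
    · exact type1_nS_ne.1 ha
    · exact type1_nS_ne.2 ha
  have hz : zI F * mI F = phiL F (-nS F) * phiS F (nS F) := by
    unfold mI
    rw [← phiL_neg_one, ← mul_assoc, ← map_mul]
    congr 2
    apply Matrix.SpecialLinearGroup.ext
    intro i j
    fin_cases i <;> fin_cases j <;> simp [nS_coe, Matrix.mul_apply, Fin.sum_univ_two]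
  have h3 : zI F * mI F ≠ 1 := by
    intro h
    rw [hz] at h
    rcases phi_prod_eq_one _ _ h with ⟨ha, _⟩ | ⟨ha, _⟩
    · exact type1_neg_nS_ne.1 ha
    · exact type1_neg_nS_ne.2 ha
  refine ⟨h1, ?_, h3, ?_⟩
  · intro h
    apply h3
    rw [h, zI_sq]
  · intro h
    apply h1
    have := mul_left_cancel (a := zI F) (b := mI F) (c := 1) (by rw [h, mul_one])
    exact this

/-- involutions of `K` -/
theorem type1 [Fintype F] (h2 : (2 : F) ≠ 0) (t : GL chevG2.Idx F) (ht : t ∈ KK F) (h : t * t = 1) :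
    t = 1 ∨ t = zI F ∨ ∃ k ∈ KK F, k * t * k⁻¹ = mI F := by
  obtain ⟨A, B, rfl⟩ := (mem_KK_iff t).1 ht
  rw [type1_mul] at h
  rcases phi_prod_eq_one _ _ h with ⟨hA, hB⟩ | ⟨hA, hB⟩
  · -- `A, B ∈ {1, -1}`
    rcases sl2_sq_one h2 A hA with rfl | rfl <;> rcases sl2_sq_one h2 B hB with rfl | rfl
    · left; rw [map_one, map_one, mul_one]
    · right; left; rw [map_one, one_mul, phiS_neg_one]
    · right; left; rw [map_one, mul_one, phiL_neg_one]
    · left; rw [phiL_neg_one, phiS_neg_one, zI_sq]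
  · -- `A, B` of order four
    right; right
    obtain ⟨P, hP⟩ := sl2_conj_nS h2 A hA
    obtain ⟨Q, hQ⟩ := sl2_conj_nS h2 B hB
    refine ⟨phiL F P * phiS F Q, (mem_KK_iff _).2 ⟨P, Q, rfl⟩, ?_⟩
    rw [type1_inv, type1_mul, type1_mul, hP, hQ]
    rfl

end Cfsg.Agent.Helper13.G2I
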