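import Mathlib
import Cfsg.Agent.Lib.Helper13.OInvDefs
import Cfsg.Agent.Lib.Lead.ChevOrderAll
import Cfsg.Agent.Lib.Lead.WeylCert

/-!
# ODDINV, piece CERT (helper17): the set of the `K`-positive actions from the certificate, and the filtered sum.
The first theorem is extracted from the proof of `ChevFacts.sum_weylSetPos_of_chk` of `Lib/Lead/WeylCert.lean`.
-/

set_option autoImplicit false
set_option linter.unusedSectionVars false
set_option linter.unusedSimpArgs false
set_option linter.unusedVariables false

namespace Cfsg.Agent.Helper13.OInv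

open Cfsg Cfsg.Lie Cfsg.Agent.Lead.Chev Cfsg.Agent.Lead.Tw

variable {F : Type*} [Field F] {D : ChevalleyDatum}

/-- the set of the `K`-positive actions, from the certificate -/
theorem weylSetPos_eq_of_chk (hF : ChevFacts D F) (hS : CorSize D) (hI : CorInj D) (Ws : List ℕ)
    (hWs : ∀ i < D.rank, ∀ v < D.nroots, unpack8 (Ws.getD i 0) v = D.reflectRoot i v)
    (Jl Kl Lam : List ℕ) (Reps : List Rep) (hchk : stepChk D Ws Jl Kl Lam Reps = true) :
    weylSetPos D {i | i ∈ Jl} {i | i ∈ Kl} = (Reps.map fun e => actF D e.x).toFinset ∧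
      (Reps.map fun e => actF D e.x).Nodup ∧ ∀ e ∈ Reps, ∀ i ∈ e.x, i < D.rank := by
  classical
  unfold stepChk at hchk
  simp only [Bool.and_eq_true, decide_eq_true_eq, List.all_eq_true] at hchk
  obtain ⟨⟨⟨⟨⟨⟨hn, hJl⟩, hKJ⟩, hLam⟩, hhead⟩, hnodup⟩, hreps⟩ := hchk
  set J : Set ℕ := {i | i ∈ Jl} with hJ
  set K : Set ℕ := {i | i ∈ Kl} with hK
  have hKJ' : K ⊆ J := fun k hk => hKJ k hk
  -- unpack the test of each representative
  have hrep : ∀ e ∈ Reps, WordIn D J e.x ∧ KPos D K e.x ∧
      (e.img = (List.range D.rank).map fun k => reflWord D e.x (D.simple k)) ∧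
      (e.sep = Lam.map (reflWord D e.x)) ∧ e.N = (negSet D e.x).card ∧
      ∀ i ∈ Jl, (∃ e' ∈ Reps, ∀ r < D.nroots, reflWord D (i :: e.x) r = reflWord D e'.x r) ∨
        ∃ j ∈ Kl, ∀ r < D.nroots, reflWord D (i :: e.x) r = reflWord D (e.x ++ [j]) r := by
    intro e he
    have h := hreps e he
    unfold repChk at h
    simp only [Bool.and_eq_true, decide_eq_true_eq, List.all_eq_true, beq_iff_eq] at h
    obtain ⟨⟨⟨⟨⟨⟨h1, h2⟩, h3⟩, h4⟩, h5⟩, h6⟩, h7⟩ := h
    have hx : WordIn D J e.x := fun i hi => ⟨hJl i (h1 i hi), h1 i hi⟩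
    have hxv := hx.valid
    have himg : e.img = (List.range D.rank).map fun k => reflWord D e.x (D.simple k) := by
      rw [h2]
      apply List.map_congr_left
      intro k hk
      exact reflWordP_eq D (etaOf D) hF.facts Ws hWs e.x hxv _ (hF.simple_lt k (List.mem_range.1 hk))
    have himgk : ∀ k < D.rank, e.img.getD k 0 = reflWord D e.x (D.simple k) := by
      intro k hk
      rw [himg, getD_map_range _ _ k hk]
    refine ⟨hx, ?_, himg, ?_, ?_, ?_⟩
    · intro k hk hkr
      have := h3 k hk
      rw [himgk k hkr] at this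
      exact (hF.isPosRoot_iff_ge _ (hF.rlt e.x hxv _ (hF.simple_lt k hkr))).2 this
    · rw [h4]
      apply List.map_congr_left
      intro r hr
      exact reflWordP_eq D (etaOf D) hF.facts Ws hWs e.x hxv r (hLam r hr)
    · rw [h5]
      exact (hF.card_negSet_eq_length hn Ws hWs e.x hxv).symm
    · intro i hi
      -- the position of `i` in `Jl`
      obtain ⟨pos, hpos, rfl⟩ := List.getElem_of_mem hi
      have hlen : pos < e.hints.length := by rw [h6]; exact hpos
      have hmem : (Jl[pos], e.hints[pos]) ∈ List.zip Jl e.hints := by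
        rw [List.mem_iff_getElem]
        refine ⟨pos, by rw [List.length_zip]; omega, ?_⟩
        rw [List.getElem_zip]
      have h8 := h7 _ hmem
      have hir : Jl[pos] < D.rank := hJl _ hi
      have hcons : ∀ k < D.rank, unpack8 (Ws.getD Jl[pos] 0) (e.img.getD k 0) =
          reflWord D (Jl[pos] :: e.x) (D.simple k) := by
        intro k hk
        rw [himgk k hk, hWs _ hir _ (hF.rlt e.x hxv _ (hF.simple_lt k hk))]
        rfl
      have hixv : ∀ a ∈ Jl[pos] :: e.x, a < D.rank := by
        intro a ha
        rcases List.mem_cons.1 ha with rfl | ha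
        · exact hir
        · exact hxv a ha
      simp only at h8
      split_ifs at h8 with hcode
      · left
        rw [beq_iff_eq] at h8
        have he' : Reps.getD (e.hints[pos]) Rep.nil ∈ Reps := by
          rw [List.getD_eq_getElem _ _ hcode]
          exact List.getElem_mem _
        refine ⟨_, he', ?_⟩
        have h9 := hreps _ he'
        unfold repChk at h9
        simp only [Bool.and_eq_true, decide_eq_true_eq, List.all_eq_true, beq_iff_eq] at h9
        obtain ⟨⟨⟨⟨⟨⟨g1, g2⟩, -⟩, -⟩, -⟩, -⟩, -⟩ := h9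
        have hx'v : ∀ a ∈ (Reps.getD (e.hints[pos]) Rep.nil).x, a < D.rank := fun a ha => hJl a (g1 a ha)
        apply hF.reflWord_eq_of_simple hI _ _ hixv hx'v
        intro k hk
        have e1 := congrArg (fun l => l.getD k 0) h8
        rw [g2, getD_map_range _ _ k hk, getD_map_range _ _ k hk] at e1
        rw [hcons k hk, reflWordP_eq D (etaOf D) hF.facts Ws hWs _ hx'v _ (hF.simple_lt k hk)] at e1
        exact e1
      · right
        rw [Bool.and_eq_true, decide_eq_true_eq, beq_iff_eq] at h8
        obtain ⟨hjK, h8⟩ := h8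
        set j := e.hints[pos] - Reps.length with hj
        have hjr : j < D.rank := hJl j (hKJ j hjK)
        refine ⟨j, hjK, ?_⟩
        have hxjv : ∀ a ∈ e.x ++ [j], a < D.rank := by
          intro a ha
          rcases List.mem_append.1 ha with ha | ha
          · exact hxv a ha
          · rw [List.mem_singleton.1 ha]; exact hjr
        apply hF.reflWord_eq_of_simple hI _ _ hixv hxjv
        intro k hk
        have e1 := congrArg (fun l => l.getD k 0) h8
        rw [getD_map_range _ _ k hk, getD_map_range _ _ k hk] at e1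
        rw [hcons k hk, hWs j hjr _ (hF.simple_lt k hk),
          reflWordP_eq D (etaOf D) hF.facts Ws hWs _ hxv _ ((hF.facts j hjr).wlt _ (hF.simple_lt k hk))] at e1
        rw [e1, reflWord_snoc]
  -- the empty word is a representative
  have hnil : ∃ e ∈ Reps, e.x = [] := by
    rcases Reps with _ | ⟨e, t⟩
    · simp at hhead
    · exact ⟨e, List.mem_cons_self, by simpa using hhead⟩
  -- completeness
  have hcomplete : ∀ w : List ℕ, WordIn D J w → ∃ e ∈ Reps, ∃ y : List ℕ, WordIn D K y ∧
      ∀ r < D.nroots, reflWord D w r = reflWord D (e.x ++ y) r := by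
    intro w
    induction w with
    | nil =>
      intro _
      obtain ⟨e, he, hex⟩ := hnil
      exact ⟨e, he, [], fun i hi => by simp at hi, fun r _ => by rw [hex]; rfl⟩
    | cons i w ih =>
      intro hw
      have hw' : WordIn D J w := fun a ha => hw a (List.mem_cons_of_mem _ ha)
      have hi := hw i List.mem_cons_self
      obtain ⟨e, he, y, hy, hwy⟩ := ih hw'
      obtain ⟨hx, -, -, -, -, hcl⟩ := hrep e he
      have h1 : ∀ r < D.nroots, reflWord D (i :: w) r = reflWord D ((i :: e.x) ++ y) r := by
        intro r hr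
        show D.reflectRoot i (reflWord D w r) = D.reflectRoot i (reflWord D (e.x ++ y) r)
        rw [hwy r hr]
      rcases hcl i hi.2 with ⟨e', he', h2⟩ | ⟨j, hj, h2⟩
      · refine ⟨e', he', y, hy, fun r hr => ?_⟩
        rw [h1 r hr]
        exact hF.reflWord_append_congr _ _ y hy.valid h2 r hr
      · have hjr : j < D.rank := hJl j (hKJ j hj)
        refine ⟨e, he, [j] ++ y, ?_, fun r hr => ?_⟩
        · intro a ha
          rcases List.mem_append.1 ha with ha | ha
          · rw [List.mem_singleton.1 ha]; exact ⟨hjr, hj⟩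
          · exact hy a ha
        · rw [h1 r hr, ← List.append_assoc]
          exact hF.reflWord_append_congr _ _ y hy.valid h2 r hr
  -- the set of actions
  have hset : weylSetPos D J K = (Reps.map fun e => actF D e.x).toFinset := by
    ext f
    rw [mem_weylSetPos, List.mem_toFinset, List.mem_map]
    constructor
    · rintro ⟨w, hw, hwK, rfl⟩
      obtain ⟨e, he, y, hy, hwy⟩ := hcomplete w hw
      obtain ⟨hx, hxK, -, -, -, -⟩ := hrep e he
      refine ⟨e, he, ?_⟩
      have h0 : ∀ r < D.nroots, reflWord D (w ++ []) r = reflWord D (e.x ++ y) r := by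
        intro r hr
        rw [List.append_nil]
        exact hwy r hr
      have := (hF.factor_unique hS K w e.x [] y hw.valid hx.valid hwK hxK
        (fun i hi => by simp at hi) hy h0).1
      exact ((actF_eq_iff D (etaOf D) hF.facts _ _ hw.valid hx.valid).2 this).symm
    · rintro ⟨e, he, rfl⟩
      obtain ⟨hx, hxK, -, -, -, -⟩ := hrep e he
      exact ⟨e.x, hx, hxK, rfl⟩
  have hnd : (Reps.map fun e => actF D e.x).Nodup := by
    let k : (Fin D.nroots → Fin D.nroots) → List ℕ := fun f =>
      Lam.map fun r => if h : r < D.nroots then (f ⟨r, h⟩).val else 0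
    apply List.Nodup.of_map k
    rw [List.map_map]
    have : (k ∘ fun e : Rep => actF D e.x) = fun e : Rep => if e ∈ Reps then e.sep else k (actF D e.x) := by
      funext e
      by_cases he : e ∈ Reps
      · rw [if_pos he]
        obtain ⟨hx, -, -, hsep, -, -⟩ := hrep e he
        rw [hsep]
        apply List.map_congr_left
        intro r hr
        rw [dif_pos (hLam r hr), actF_val D (etaOf D) hF.facts _ hx.valid]
      · rw [if_neg he]
        rfl
    rw [this]
    have h2 : (Reps.map fun e : Rep => if e ∈ Reps then e.sep else k (actF D e.x)) = Reps.map Rep.sep := by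
      apply List.map_congr_left
      intro e he
      rw [if_pos he]
    rw [h2]
    exact hnodup
  exact ⟨hset, hnd, fun e he => (hrep e he).1.valid⟩

/-- `weylSetPos` only depends on the valid part of `J` -/
theorem cert_weylSetPos_congr (D : ChevalleyDatum) (J J' K : Set ℕ) (h : ∀ i < D.rank, i ∈ J ↔ i ∈ J') :
    weylSetPos D J K = weylSetPos D J' K := by
  ext f
  rw [mem_weylSetPos, mem_weylSetPos]
  constructor
  · rintro ⟨w, hw, hK, rfl⟩
    exact ⟨w, fun i hi => ⟨(hw i hi).1, (h i (hw i hi).1).1 (hw i hi).2⟩, hK, rfl⟩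
  · rintro ⟨w, hw, hK, rfl⟩
    exact ⟨w, fun i hi => ⟨(hw i hi).1, (h i (hw i hi).1).2 (hw i hi).2⟩, hK, rfl⟩

/-- the computable test of fixing the sign vector is correct -/
theorem cert_chiFix_iff (hF : ChevFacts D F) (Ws : List ℕ)
    (hWs : ∀ i < D.rank, ∀ v < D.nroots, unpack8 (Ws.getD i 0) v = D.reflectRoot i v)
    (chiL : List Bool) (x : List ℕ) (hx : ∀ i ∈ x, i < D.rank) :
    ChiFixF D (chiOf chiL) (actF D x) ↔ chiFixP D Ws chiL x = true := by
  unfold ChiFixF chiFixP chiOf
  rw [List.all_eq_true]
  constructor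
  · intro h r hr
    rw [List.mem_range] at hr
    rw [beq_iff_eq, reflWordP_eq D (etaOf D) hF.facts Ws hWs x hx r hr]
    have := h ⟨r, hr⟩
    rw [actF_val D (etaOf D) hF.facts x hx] at this
    exact this
  · intro h r
    have := h r.val (List.mem_range.2 r.2)
    rw [beq_iff_eq, reflWordP_eq D (etaOf D) hF.facts Ws hWs x hx r.val r.2] at this
    rw [actF_val D (etaOf D) hF.facts x hx]
    exact this

/-- the computable relative length is correct -/
theorem cert_nNegChi_eq (hF : ChevFacts D F) (hn : D.nroots = 2 * (D.nroots / 2)) (Ws : List ℕ)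
    (hWs : ∀ i < D.rank, ∀ v < D.nroots, unpack8 (Ws.getD i 0) v = D.reflectRoot i v)
    (chiL : List Bool) (x : List ℕ) (hx : ∀ i ∈ x, i < D.rank) :
    nNegChi D (chiOf chiL) (actF D x) = nNegChiP D Ws chiL x := by
  unfold nNegChi nNegChiP
  rw [← List.toFinset_card_of_nodup (List.Nodup.filter _ List.nodup_range'),
    ← Finset.card_map Fin.valEmbedding]
  congr 1
  ext r
  rw [Finset.mem_map, List.mem_toFinset, List.mem_filter, List.mem_range'_1, Bool.and_eq_true,
    decide_eq_true_eq, Bool.not_eq_true']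
  constructor
  · rintro ⟨a, ha, rfl⟩
    rw [Finset.mem_filter] at ha
    obtain ⟨-, h1, h2, h3⟩ := ha
    rw [actF_val D (etaOf D) hF.facts x hx] at h2
    have h4 := (hF.isPosRoot_iff_ge a.val a.2).1 h1
    refine ⟨⟨h4, by have := a.2; simp only [Fin.valEmbedding_apply]; omega⟩, ?_, h3⟩
    simp only [Fin.valEmbedding_apply]
    rw [reflWordP_eq D (etaOf D) hF.facts Ws hWs x hx a.val a.2]
    exact (hF.isNegRoot_iff_lt _ (hF.rlt x hx a.val a.2)).1 h2
  · rintro ⟨⟨h1, h2⟩, h3, h4⟩
    have hr : r < D.nroots := by omega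
    refine ⟨⟨r, hr⟩, ?_, rfl⟩
    rw [Finset.mem_filter]
    refine ⟨Finset.mem_univ _, (hF.isPosRoot_iff_ge r hr).2 h1, ?_, h4⟩
    rw [actF_val D (etaOf D) hF.facts x hx]
    rw [reflWordP_eq D (etaOf D) hF.facts Ws hWs x hx r hr] at h3
    exact (hF.isNegRoot_iff_lt _ (hF.rlt x hx r hr)).2 h3

/-- a filtered list sum as a sum of conditionals -/
theorem cert_sum_filter {α : Type*} (l : List α) (p : α → Bool) (P : α → Prop) [DecidablePred P] (g g' : α → ℕ)
    (hp : ∀ a ∈ l, (P a ↔ p a = true)) (hg : ∀ a ∈ l, g a = g' a) :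
    (l.map fun a => if P a then g a else 0).sum = ((l.filter p).map g').sum := by
  induction l with
  | nil => rfl
  | cons a t ih =>
    have ih' := ih (fun b hb => hp b (List.mem_cons_of_mem _ hb)) (fun b hb => hg b (List.mem_cons_of_mem _ hb))
    rw [List.map_cons, List.sum_cons, ih', List.filter_cons]
    by_cases h : p a = true
    · rw [if_pos h, if_pos ((hp a List.mem_cons_self).2 h), List.map_cons, List.sum_cons,
        hg a List.mem_cons_self]
    · rw [if_neg h, if_neg (fun hP => h ((hp a List.mem_cons_self).1 hP)), zero_add]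

/-- the sum over the `K`-positive actions fixing the sign vector, from the certificate -/
theorem sum_weylSetPosChi_of_chk (hF : ChevFacts D F) (hS : CorSize D) (hI : CorInj D) (Ws : List ℕ)
    (hWs : ∀ i < D.rank, ∀ v < D.nroots, unpack8 (Ws.getD i 0) v = D.reflectRoot i v)
    (Kl Lam : List ℕ) (Reps : List Rep) (hchk : stepChk D Ws (List.range D.rank) Kl Lam Reps = true)
    (chiL : List Bool) (q : ℕ) :
    ∑ f ∈ weylSetPosChi D {i | i ∈ Kl} (chiOf chiL), q ^ nNegChi D (chiOf chiL) f =
      ((Reps.filter fun e => chiFixP D Ws chiL e.x).map fun e => q ^ nNegChiP D Ws chiL e.x).sum := by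
  classical
  obtain ⟨hset, hnd, hval⟩ := weylSetPos_eq_of_chk hF hS hI Ws hWs (List.range D.rank) Kl Lam Reps hchk
  have hn : D.nroots = 2 * (D.nroots / 2) := by
    unfold stepChk at hchk
    simp only [Bool.and_eq_true, decide_eq_true_eq, List.all_eq_true] at hchk
    exact hchk.1.1.1.1.1.1
  have hcongr : weylSetPos D Set.univ {i | i ∈ Kl} =
      weylSetPos D {i | i ∈ List.range D.rank} {i | i ∈ Kl} :=
    cert_weylSetPos_congr D _ _ _ (fun i hi => by simp [hi])
  unfold weylSetPosChi
  rw [hcongr, hset, Finset.sum_filter, List.sum_toFinset _ hnd, List.map_map]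
  apply cert_sum_filter Reps (fun e => chiFixP D Ws chiL e.x)
    (fun e => ChiFixF D (chiOf chiL) (actF D e.x))
  · intro e he
    exact cert_chiFix_iff hF Ws hWs chiL e.x (hval e he)
  · intro e he
    simp only [Function.comp_apply]
    rw [cert_nNegChi_eq hF hn Ws hWs chiL e.x (hval e he)]

end Cfsg.Agent.Helper13.OInv
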