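import Mathlib
import Cfsg.Agent.Lib.Helper13.OInvDefs4
import Cfsg.Agent.Lib.Helper17.OInvCERT
import Cfsg.Agent.Lib.Lead.ChevOrder

/-!
# ODDINV, piece CERT2 (helper17): the light certificate for the `K`-positive actions (counting instead of hints).
-/

set_option autoImplicit false
set_option linter.unusedSectionVars false
set_option linter.unusedSimpArgs false
set_option linter.unusedVariables false

namespace Cfsg.Agent.Helper13.OInv

open Cfsg Cfsg.Lie Cfsg.Agent.Lead.Chev Cfsg.Agent.Lead.Tw

variable {F : Type*} [Field F] {D : ChevalleyDatum}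

/-- the number of elements of `W_J` from a chain -/
theorem cert2_card_weylSet_of_chain (hF : ChevFacts D F) (hS : CorSize D) (hI : CorInj D) (Ws : List ℕ)
    (hWs : ∀ i < D.rank, ∀ v < D.nroots, unpack8 (Ws.getD i 0) v = D.reflectRoot i v)
    (J : List ℕ) (steps : List (List ℕ × List ℕ × List Rep)) (h : ChainOK D Ws J steps) :
    (weylSet D {i | i ∈ J}).card = (steps.map fun s => s.2.2.length).prod := by
  have h1 := hF.sum_weylSet_of_chain hS hI Ws hWs steps J h 1
  simp only [one_pow, Finset.sum_const, smul_eq_mul, mul_one] at h1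
  rw [h1]
  congr 1
  apply List.map_congr_left
  intro s _
  simp

/-- the number of the `K`-positive actions, from the chains: `|W^K| · |W_K| = |W|` -/
theorem card_weylSetPos_of_chains (hF : ChevFacts D F) (hS : CorSize D) (hI : CorInj D) (Ws : List ℕ)
    (hWs : ∀ i < D.rank, ∀ v < D.nroots, unpack8 (Ws.getD i 0) v = D.reflectRoot i v)
    (Kl : List ℕ) (stepsAll stepsK : List (List ℕ × List ℕ × List Rep))
    (hall : ChainOK D Ws (List.range D.rank) stepsAll) (hK : ChainOK D Ws Kl stepsK) (n : ℕ)
    (hcount : n * (stepsK.map fun s => s.2.2.length).prod = (stepsAll.map fun s => s.2.2.length).prod)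
    (hpos : 0 < (stepsK.map fun s => s.2.2.length).prod) :
    (weylSetPos D Set.univ {i | i ∈ Kl}).card = n := by
  have h1 := hF.sum_weylSet_factor hS Set.univ {i | i ∈ Kl} (Set.subset_univ _) 1
  simp only [one_pow, Finset.sum_const, smul_eq_mul, mul_one] at h1
  rw [hF.weylSet_congr Set.univ {i | i ∈ List.range D.rank} (fun i hi => by simp [hi]),
    cert2_card_weylSet_of_chain hF hS hI Ws hWs _ stepsAll hall,
    cert2_card_weylSet_of_chain hF hS hI Ws hWs _ stepsK hK, ← hcount] at h1
  exact (Nat.eq_of_mul_eq_mul_right hpos h1).symm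

/-- a list passing `sortedChk` is strictly increasing -/
theorem cert2_pairwise_of_sortedChk : ∀ l : List ℕ, sortedChk l = true → l.Pairwise (· < ·)
  | [], _ => List.Pairwise.nil
  | [a], _ => List.pairwise_singleton _ _
  | a :: b :: t, h => by
    unfold sortedChk at h
    rw [Bool.and_eq_true, decide_eq_true_eq] at h
    have ih := cert2_pairwise_of_sortedChk (b :: t) h.2
    rw [List.pairwise_cons]
    refine ⟨?_, ih⟩
    intro y hy
    rcases List.mem_cons.1 hy with rfl | hy
    · exact h.1
    · exact lt_trans h.1 ((List.pairwise_cons.1 ih).1 y hy)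

/-- the code only depends on the action -/
theorem cert2_foldl_congr (n : ℕ) (Lam : List ℕ) (a b : ℕ → ℕ) (h : ∀ r ∈ Lam, a r = b r) (acc : ℕ) :
    Lam.foldl (fun acc r => acc * n + a r) acc = Lam.foldl (fun acc r => acc * n + b r) acc := by
  induction Lam generalizing acc with
  | nil => rfl
  | cons r L ih =>
    rw [List.foldl_cons, List.foldl_cons, h r List.mem_cons_self]
    exact ih (fun s hs => h s (List.mem_cons_of_mem _ hs)) _

/-- the set of the `K`-positive actions from the light certificate -/
theorem weylSetPos_eq_of_count (hF : ChevFacts D F) (hS : CorSize D) (hI : CorInj D) (Ws : List ℕ)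
    (hWs : ∀ i < D.rank, ∀ v < D.nroots, unpack8 (Ws.getD i 0) v = D.reflectRoot i v)
    (Kl Lam : List ℕ) (xs : List (List ℕ)) (hchk : posChk D Ws Kl Lam xs = true)
    (hcard : (weylSetPos D Set.univ {i | i ∈ Kl}).card = xs.length) :
    weylSetPos D Set.univ {i | i ∈ Kl} = (xs.map (actF D)).toFinset ∧ (xs.map (actF D)).Nodup ∧
      ∀ x ∈ xs, ∀ i ∈ x, i < D.rank := by
  classical
  unfold posChk at hchk
  simp only [Bool.and_eq_true, decide_eq_true_eq, List.all_eq_true] at hchk
  obtain ⟨⟨⟨⟨hn, hLam⟩, hKl⟩, hxs⟩, hsorted⟩ := hchk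
  have hval : ∀ x ∈ xs, ∀ i ∈ x, i < D.rank := fun x hx => (hxs x hx).1
  -- every word gives a `K`-positive action
  have hmem : ∀ x ∈ xs, actF D x ∈ weylSetPos D Set.univ {i | i ∈ Kl} := by
    intro x hx
    rw [mem_weylSetPos]
    refine ⟨x, fun i hi => ⟨hval x hx i hi, Set.mem_univ _⟩, ?_, rfl⟩
    intro k hk hkr
    have h1 := (hxs x hx).2 k hk
    rw [reflWordP_eq D (etaOf D) hF.facts Ws hWs x (hval x hx) _ (hF.simple_lt k hkr)] at h1
    exact (hF.isPosRoot_iff_ge _ (hF.rlt x (hval x hx) _ (hF.simple_lt k hkr))).2 h1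
  -- the actions are distinct
  have hnd : (xs.map (actF D)).Nodup := by
    let k : (Fin D.nroots → Fin D.nroots) → ℕ := fun f =>
      Lam.foldl (fun acc r => acc * D.nroots + if h : r < D.nroots then (f ⟨r, h⟩).val else 0) 0
    apply List.Nodup.of_map k
    rw [List.map_map]
    have h2 : xs.map (k ∘ actF D) = xs.map (sepCode D Ws Lam) := by
      apply List.map_congr_left
      intro x hx
      simp only [Function.comp_apply, k, sepCode]
      apply cert2_foldl_congr
      intro r hr
      rw [dif_pos (hLam r hr), actF_val D (etaOf D) hF.facts x (hval x hx),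
        reflWordP_eq D (etaOf D) hF.facts Ws hWs x (hval x hx) r (hLam r hr)]
    rw [h2]
    exact (cert2_pairwise_of_sortedChk _ hsorted).imp (fun h => ne_of_lt h)
  refine ⟨?_, hnd, hval⟩
  symm
  apply Finset.eq_of_subset_of_card_le
  · intro f hf
    rw [List.mem_toFinset, List.mem_map] at hf
    obtain ⟨x, hx, rfl⟩ := hf
    exact hmem x hx
  · rw [hcard, List.toFinset_card_of_nodup hnd, List.length_map]

/-- the filtered sum, from the light certificate -/
theorem sum_weylSetPosChi_of_count (hF : ChevFacts D F) (hS : CorSize D) (hI : CorInj D) (Ws : List ℕ)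
    (hWs : ∀ i < D.rank, ∀ v < D.nroots, unpack8 (Ws.getD i 0) v = D.reflectRoot i v)
    (Kl Lam : List ℕ) (xs : List (List ℕ)) (hchk : posChk D Ws Kl Lam xs = true)
    (hcard : (weylSetPos D Set.univ {i | i ∈ Kl}).card = xs.length)
    (chiL : List Bool) (q : ℕ) :
    ∑ f ∈ weylSetPosChi D {i | i ∈ Kl} (chiOf chiL), q ^ nNegChi D (chiOf chiL) f =
      ((xs.filter fun x => chiFixP D Ws chiL x).map fun x => q ^ nNegChiP D Ws chiL x).sum := by
  classical
  obtain ⟨hset, hnd, hval⟩ := weylSetPos_eq_of_count hF hS hI Ws hWs Kl Lam xs hchk hcard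
  have hn : D.nroots = 2 * (D.nroots / 2) := by
    unfold posChk at hchk
    simp only [Bool.and_eq_true, decide_eq_true_eq, List.all_eq_true] at hchk
    exact hchk.1.1.1.1
  unfold weylSetPosChi
  rw [hset, Finset.sum_filter, List.sum_toFinset _ hnd, List.map_map]
  apply cert_sum_filter xs (fun x => chiFixP D Ws chiL x)
    (fun x => ChiFixF D (chiOf chiL) (actF D x))
  · intro x hx
    exact cert_chiFix_iff hF Ws hWs chiL x (hval x hx)
  · intro x hx
    rw [cert_nNegChi_eq hF hn Ws hWs chiL x (hval x hx)]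

end Cfsg.Agent.Helper13.OInv
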