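import Mathlib

/-!
# Regular nilpotent endomorphisms (helper17)

A nilpotent endomorphism `f` of a `d`-dimensional space with one-dimensional kernel has a cyclic
vector: `v, f v, …, f^(d-1) v` is a basis; the endomorphisms commuting with `f` are the
polynomials in `f` of degree `< d`, with uniquely determined coefficients.
-/

set_option autoImplicit false

namespace Cfsg.Agent.Helper17.RegNil

open Module

variable {F : Type*} [Field F] {V : Type*} [AddCommGroup V] [Module F V] [FiniteDimensional F V]

theorem finrank_ker_pow_succ_le (f : Module.End F V) (k : ℕ) :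
    finrank F (LinearMap.ker (f ^ (k + 1))) ≤
      finrank F (LinearMap.ker (f ^ k)) + finrank F (LinearMap.ker f) := by
  set K := LinearMap.ker (f ^ (k + 1)) with hK
  let g : K →ₗ[F] V := (f ^ k).domRestrict K
  have h1 := LinearMap.finrank_range_add_finrank_ker g
  have h2 : LinearMap.range g ≤ LinearMap.ker f := by
    rintro _ ⟨x, rfl⟩
    rw [LinearMap.mem_ker]
    show f ((f ^ k) x) = 0
    have : (f ^ (k + 1)) (x : V) = 0 := LinearMap.mem_ker.1 x.2
    rw [pow_succ', Module.End.mul_apply] at this
    exact this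
  have h3 : finrank F (LinearMap.ker g) ≤ finrank F (LinearMap.ker (f ^ k)) := by
    let j : LinearMap.ker g →ₗ[F] LinearMap.ker (f ^ k) :=
      LinearMap.codRestrict _ (K.subtype.comp (LinearMap.ker g).subtype) (by
        intro x
        rw [LinearMap.mem_ker]
        have := x.2
        rw [LinearMap.mem_ker] at this
        exact this)
    apply LinearMap.finrank_le_finrank_of_injective (f := j)
    intro x y hxy
    have h := congrArg (fun z : LinearMap.ker (f ^ k) => (z : V)) hxy
    apply Subtype.ext
    apply Subtype.ext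
    exact h
  have h4 := Submodule.finrank_mono h2
  omega

theorem finrank_ker_pow_le (f : Module.End F V) (h1 : finrank F (LinearMap.ker f) ≤ 1) (k : ℕ) :
    finrank F (LinearMap.ker (f ^ k)) ≤ k := by
  induction k with
  | zero =>
    rw [pow_zero]
    have : LinearMap.ker (1 : Module.End F V) = ⊥ := LinearMap.ker_id
    rw [this, finrank_bot]
  | succ k ih =>
    have := finrank_ker_pow_succ_le f k
    omega

/-- a cyclic vector -/
theorem exists_pow_apply_ne_zero (f : Module.End F V) (h1 : finrank F (LinearMap.ker f) ≤ 1)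
    {d : ℕ} (hd : finrank F V = d) (hd0 : 0 < d) : ∃ v : V, (f ^ (d - 1)) v ≠ 0 := by
  by_contra hcon
  push Not at hcon
  have hker : LinearMap.ker (f ^ (d - 1)) = ⊤ := by
    rw [eq_top_iff]
    intro v _
    exact hcon v
  have := finrank_ker_pow_le f h1 (d - 1)
  rw [hker, finrank_top, hd] at this
  omega

omit [FiniteDimensional F V] in
theorem linearIndependent_pow_apply (f : Module.End F V) {d : ℕ} (hnil : f ^ d = 0) {v : V}
    (hv : (f ^ (d - 1)) v ≠ 0) : LinearIndependent F (fun i : Fin d => (f ^ (i : ℕ)) v) := by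
  rw [Fintype.linearIndependent_iff]
  intro a ha
  -- strong induction on the index
  have key : ∀ n : ℕ, ∀ i : Fin d, (i : ℕ) < n → a i = 0 := by
    intro n
    induction n with
    | zero => intro i hi; omega
    | succ n ih =>
      intro i hi
      by_cases hin : (i : ℕ) < n
      · exact ih i hin
      have hi' : (i : ℕ) = n := by omega
      -- apply f^(d-1-n)
      have h2 := congrArg (fun w => (f ^ (d - 1 - n)) w) ha
      simp only [map_sum, map_smul, map_zero] at h2
      have h3 : ∀ j : Fin d, a j • (f ^ (d - 1 - n)) ((f ^ (j : ℕ)) v) =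
          if j = i then a i • (f ^ (d - 1)) v else 0 := by
        intro j
        by_cases hji : j = i
        · rw [if_pos hji, hji, ← Module.End.mul_apply, ← pow_add]
          congr 3
          have := i.2
          omega
        · rw [if_neg hji]
          by_cases hjn : (j : ℕ) < n
          · rw [ih j hjn, zero_smul]
          · have hjn' : n < (j : ℕ) := by
              have : (j : ℕ) ≠ n := fun h => hji (Fin.ext (h.trans hi'.symm))
              omega
            rw [← Module.End.mul_apply, ← pow_add]
            have hge : d ≤ d - 1 - n + (j : ℕ) := by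
              have := i.2
              omega
            have : f ^ (d - 1 - n + (j : ℕ)) = 0 := by
              obtain ⟨e, he⟩ := Nat.exists_eq_add_of_le hge
              rw [he, pow_add, hnil, zero_mul]
            rw [this, LinearMap.zero_apply, smul_zero]
      rw [Finset.sum_congr rfl (fun j _ => h3 j), Finset.sum_ite_eq' Finset.univ i] at h2
      simp only [Finset.mem_univ, if_true] at h2
      exact (smul_eq_zero.1 h2).resolve_right hv
  intro i
  exact key d i i.2


omit [FiniteDimensional F V] in
open Polynomial in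
/-- Endomorphisms commuting with a regular nilpotent are polynomials in it. -/
theorem exists_aeval_eq_of_commute (f g : Module.End F V) {d : ℕ} (hd : finrank F V = d)
    (hd0 : 0 < d) (hnil : f ^ d = 0) {v : V} (hv : (f ^ (d - 1)) v ≠ 0) (hc : Commute g f) :
    ∃ p : F[X], g = Polynomial.aeval f p := by
  have hli := linearIndependent_pow_apply f hnil hv
  have : Nonempty (Fin d) := ⟨⟨0, hd0⟩⟩
  let b : Basis (Fin d) F V := basisOfLinearIndependentOfCardEqFinrank hli (by simp [hd])
  have hb : ∀ i : Fin d, b i = (f ^ (i : ℕ)) v := by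
    intro i
    simp [b]
  let a := b.repr (g v)
  refine ⟨∑ i : Fin d, Polynomial.monomial (i : ℕ) (a i), ?_⟩
  have hgv : g v = ∑ i : Fin d, a i • (f ^ (i : ℕ)) v := by
    conv_lhs => rw [← b.sum_repr (g v)]
    exact Finset.sum_congr rfl (fun i _ => by rw [hb i])
  apply b.ext
  intro j
  rw [hb j, map_sum]
  simp only [Polynomial.aeval_monomial]
  have h1 : g ((f ^ (j : ℕ)) v) = (f ^ (j : ℕ)) (g v) := by
    have := (hc.pow_right (j : ℕ)).eq
    exact congrArg (fun φ : Module.End F V => φ v) this
  rw [h1, hgv, map_sum, LinearMap.sum_apply]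
  apply Finset.sum_congr rfl
  intro i _
  rw [map_smul, ← Module.End.mul_apply, ← pow_add, Module.End.mul_apply,
    ← Module.End.mul_apply, ← Algebra.smul_def, LinearMap.smul_apply, ← Module.End.mul_apply,
    ← pow_add, add_comm]

open Polynomial in
/-- The minimal polynomial of a regular nilpotent. -/
theorem minpoly_eq_X_pow (f : Module.End F V) {d : ℕ} (hnil : f ^ d = 0) (hne : f ^ (d - 1) ≠ 0)
    (hd0 : 0 < d) : minpoly F f = (X : F[X]) ^ d := by
  have hint : IsIntegral F f := Algebra.IsIntegral.isIntegral f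
  have h1 : minpoly F f ∣ (X : F[X]) ^ d := by
    apply minpoly.dvd
    simp [hnil]
  obtain ⟨k, hk, hass⟩ := (dvd_prime_pow Polynomial.prime_X d).1 h1
  have h2 : minpoly F f = (X : F[X]) ^ k :=
    Polynomial.eq_of_monic_of_associated (minpoly.monic hint) (Polynomial.monic_X_pow k) hass
  have h3 : f ^ k = 0 := by
    have := minpoly.aeval F f
    rw [h2] at this
    simpa using this
  have hkd : k = d := by
    by_contra hne'
    have hlt : k ≤ d - 1 := by omega
    apply hne
    obtain ⟨e, he⟩ := Nat.exists_eq_add_of_le hlt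
    rw [he, pow_add, h3, zero_mul]
  rw [h2, hkd]

open Polynomial in
theorem aeval_eq_zero_iff (f : Module.End F V) {d : ℕ} (hnil : f ^ d = 0) (hne : f ^ (d - 1) ≠ 0)
    (hd0 : 0 < d) (p : F[X]) : Polynomial.aeval f p = 0 ↔ (X : F[X]) ^ d ∣ p := by
  rw [← minpoly_eq_X_pow f hnil hne hd0, minpoly.dvd_iff]


section Mat

open Matrix Polynomial

variable {n : Type*} [Fintype n] [DecidableEq n]

theorem finrank_ker_toLin' (τ : Matrix n n F) {d : ℕ} (hd : Fintype.card n = d) (hd0 : 0 < d)
    (hrank : τ.rank = d - 1) :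
    finrank F (LinearMap.ker (Matrix.toLinAlgEquiv' τ : Module.End F (n → F))) = 1 := by
  have h1 := LinearMap.finrank_range_add_finrank_ker (Matrix.toLinAlgEquiv' τ : Module.End F (n → F))
  have h2 : finrank F (LinearMap.range (Matrix.toLinAlgEquiv' τ : Module.End F (n → F))) =
      τ.rank := rfl
  rw [h2, hrank, Module.finrank_fintype_fun_eq_card, hd] at h1
  omega

theorem exists_cyclic (τ : Matrix n n F) {d : ℕ} (hd : Fintype.card n = d) (hd0 : 0 < d)
    (hrank : τ.rank = d - 1) :
    ∃ v : n → F, ((Matrix.toLinAlgEquiv' τ : Module.End F (n → F)) ^ (d - 1)) v ≠ 0 := by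
  apply exists_pow_apply_ne_zero _ (finrank_ker_toLin' τ hd hd0 hrank).le _ hd0
  rw [Module.finrank_fintype_fun_eq_card, hd]

theorem matrix_exists_aeval_eq_of_commute (τ g : Matrix n n F) {d : ℕ}
    (hd : Fintype.card n = d) (hd0 : 0 < d) (hnil : τ ^ d = 0) (hrank : τ.rank = d - 1)
    (hc : Commute g τ) : ∃ p : F[X], g = Polynomial.aeval τ p := by
  obtain ⟨v, hv⟩ := exists_cyclic τ hd hd0 hrank
  have hnil' : (Matrix.toLinAlgEquiv' τ : Module.End F (n → F)) ^ d = 0 := by
    rw [← map_pow, hnil, map_zero]
  obtain ⟨p, hp⟩ := exists_aeval_eq_of_commute (Matrix.toLinAlgEquiv' τ : Module.End F (n → F))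
    (Matrix.toLinAlgEquiv' g) (by rw [Module.finrank_fintype_fun_eq_card, hd]) hd0 hnil' hv
    (hc.map (Matrix.toLinAlgEquiv' : Matrix n n F ≃ₐ[F] Module.End F (n → F)))
  refine ⟨p, ?_⟩
  apply (Matrix.toLinAlgEquiv' : Matrix n n F ≃ₐ[F] Module.End F (n → F)).injective
  rw [hp, Polynomial.aeval_algEquiv]
  rfl

theorem matrix_aeval_eq_zero_iff (τ : Matrix n n F) {d : ℕ}
    (hd : Fintype.card n = d) (hd0 : 0 < d) (hnil : τ ^ d = 0) (hrank : τ.rank = d - 1)
    (p : F[X]) : Polynomial.aeval τ p = 0 ↔ (X : F[X]) ^ d ∣ p := by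
  obtain ⟨v, hv⟩ := exists_cyclic τ hd hd0 hrank
  have hnil' : (Matrix.toLinAlgEquiv' τ : Module.End F (n → F)) ^ d = 0 := by
    rw [← map_pow, hnil, map_zero]
  have hne : (Matrix.toLinAlgEquiv' τ : Module.End F (n → F)) ^ (d - 1) ≠ 0 := by
    intro h
    rw [h] at hv
    exact hv rfl
  rw [← aeval_eq_zero_iff _ hnil' hne hd0 p, Polynomial.aeval_algEquiv]
  simp

end Mat

end Cfsg.Agent.Helper17.RegNil
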