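import Mathlib
import Cfsg.Agent.Lib.Helper17.RegNil

/-!
# Regular nilpotent endomorphisms, continued: similarity, rank (helper17)
-/

set_option autoImplicit false
set_option linter.unusedSectionVars false

namespace Cfsg.Agent.Helper17.RegNil

open Module

variable {F : Type*} [Field F] {V : Type*} [AddCommGroup V] [Module F V] [FiniteDimensional F V]

/-- two regular nilpotent endomorphisms are similar -/
theorem exists_linearEquiv_conj (f f' : Module.End F V) {d : ℕ} (hd : finrank F V = d)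
    (hd0 : 0 < d) (hnil : f ^ d = 0) (hnil' : f' ^ d = 0) {v v' : V}
    (hv : (f ^ (d - 1)) v ≠ 0) (hv' : (f' ^ (d - 1)) v' ≠ 0) :
    ∃ h : V ≃ₗ[F] V, ∀ x, h (f x) = f' (h x) := by
  have : Nonempty (Fin d) := ⟨⟨0, hd0⟩⟩
  let b : Basis (Fin d) F V := basisOfLinearIndependentOfCardEqFinrank
    (linearIndependent_pow_apply f hnil hv) (by simp [hd])
  let b' : Basis (Fin d) F V := basisOfLinearIndependentOfCardEqFinrank
    (linearIndependent_pow_apply f' hnil' hv') (by simp [hd])
  have hb : ∀ i : Fin d, b i = (f ^ (i : ℕ)) v := fun i => by simp [b]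
  have hb' : ∀ i : Fin d, b' i = (f' ^ (i : ℕ)) v' := fun i => by simp [b']
  let h : V ≃ₗ[F] V := b.equiv b' (Equiv.refl _)
  have hh : ∀ i, h (b i) = b' i := fun i => by simp [h]
  refine ⟨h, ?_⟩
  have key : (h : V →ₗ[F] V) ∘ₗ f = f' ∘ₗ (h : V →ₗ[F] V) := by
    apply b.ext
    intro i
    simp only [LinearMap.comp_apply, LinearEquiv.coe_coe]
    rw [hh, hb, hb', ← Module.End.mul_apply, ← pow_succ', ← Module.End.mul_apply, ← pow_succ']
    by_cases hi : (i : ℕ) + 1 < d
    · have e1 : (f ^ ((i : ℕ) + 1)) v = b ⟨(i : ℕ) + 1, hi⟩ := (hb ⟨(i : ℕ) + 1, hi⟩).symm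
      have e2 : (f' ^ ((i : ℕ) + 1)) v' = b' ⟨(i : ℕ) + 1, hi⟩ := (hb' ⟨(i : ℕ) + 1, hi⟩).symm
      rw [e1, e2, hh]
    · have hid : (i : ℕ) + 1 = d := by
        have := i.2
        omega
      rw [hid, hnil, hnil']
      simp
  intro x
  exact LinearMap.congr_fun key x

/-- the rank of a nilpotent endomorphism of maximal nilpotency index -/
theorem finrank_range_of_pow_ne_zero (f : Module.End F V) {d : ℕ} (hd : finrank F V = d)
    (hd0 : 0 < d) (hnil : f ^ d = 0) (hne : f ^ (d - 1) ≠ 0) :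
    finrank F (LinearMap.range f) = d - 1 := by
  obtain ⟨v, hv⟩ : ∃ v, (f ^ (d - 1)) v ≠ 0 := by
    by_contra hcon
    push Not at hcon
    exact hne (LinearMap.ext hcon)
  have hli := linearIndependent_pow_apply f hnil hv
  have h1 := LinearMap.finrank_range_add_finrank_ker f
  rw [hd] at h1
  -- the kernel is nonzero
  have h2 : 1 ≤ finrank F (LinearMap.ker f) := by
    rw [Nat.succ_le_iff, Module.finrank_pos_iff_exists_ne_zero]
    refine ⟨⟨(f ^ (d - 1)) v, ?_⟩, ?_⟩
    · rw [LinearMap.mem_ker, ← Module.End.mul_apply, ← pow_succ']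
      have : d - 1 + 1 = d := by omega
      rw [this, hnil]
      rfl
    · intro h
      exact hv (congrArg Subtype.val h)
  -- the range contains `d - 1` independent vectors
  have h3 : d - 1 ≤ finrank F (LinearMap.range f) := by
    let g : Fin (d - 1) → Fin d := fun i => ⟨(i : ℕ) + 1, by have := i.2; omega⟩
    have hg : Function.Injective g := by
      intro i j hij
      apply Fin.ext
      have := congrArg Fin.val hij
      simp only [g] at this
      omega
    have hli2 := hli.comp g hg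
    have h4 := finrank_span_eq_card hli2
    rw [Fintype.card_fin] at h4
    rw [← h4]
    apply Submodule.finrank_mono
    rw [Submodule.span_le]
    rintro _ ⟨i, rfl⟩
    simp only [Function.comp_apply, g]
    rw [pow_succ', Module.End.mul_apply]
    exact LinearMap.mem_range_self _ _
  omega

section Mat

open Matrix

variable {n : Type*} [Fintype n] [DecidableEq n]

theorem matrix_rank_of_pow_ne_zero (τ : Matrix n n F) {d : ℕ} (hd : Fintype.card n = d)
    (hd0 : 0 < d) (hnil : τ ^ d = 0) (hne : τ ^ (d - 1) ≠ 0) : τ.rank = d - 1 := by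
  have hnil' : (Matrix.toLinAlgEquiv' τ : Module.End F (n → F)) ^ d = 0 := by
    rw [← map_pow, hnil, map_zero]
  have hne' : (Matrix.toLinAlgEquiv' τ : Module.End F (n → F)) ^ (d - 1) ≠ 0 := by
    rw [← map_pow]
    intro h
    apply hne
    apply (Matrix.toLinAlgEquiv' : Matrix n n F ≃ₐ[F] Module.End F (n → F)).injective
    rw [h, map_zero]
  exact finrank_range_of_pow_ne_zero (Matrix.toLinAlgEquiv' τ : Module.End F (n → F))
    (by rw [Module.finrank_fintype_fun_eq_card, hd]) hd0 hnil' hne'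

/-- two regular nilpotent matrices are similar -/
theorem matrix_exists_conj (τ τ' : Matrix n n F) {d : ℕ} (hd : Fintype.card n = d) (hd0 : 0 < d)
    (hnil : τ ^ d = 0) (hrank : τ.rank = d - 1) (hnil' : τ' ^ d = 0) (hrank' : τ'.rank = d - 1) :
    ∃ H Hi : Matrix n n F, H * Hi = 1 ∧ Hi * H = 1 ∧ H * τ = τ' * H := by
  obtain ⟨v, hv⟩ := exists_cyclic τ hd hd0 hrank
  obtain ⟨v', hv'⟩ := exists_cyclic τ' hd hd0 hrank'
  have h1 : (Matrix.toLinAlgEquiv' τ : Module.End F (n → F)) ^ d = 0 := by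
    rw [← map_pow, hnil, map_zero]
  have h1' : (Matrix.toLinAlgEquiv' τ' : Module.End F (n → F)) ^ d = 0 := by
    rw [← map_pow, hnil', map_zero]
  obtain ⟨h, hh⟩ := exists_linearEquiv_conj _ _
    (by rw [Module.finrank_fintype_fun_eq_card, hd]) hd0 h1 h1' hv hv'
  refine ⟨LinearMap.toMatrix' (h : (n → F) →ₗ[F] (n → F)),
    LinearMap.toMatrix' (h.symm : (n → F) →ₗ[F] (n → F)), ?_, ?_, ?_⟩
  · rw [← LinearMap.toMatrix'_comp]
    have : (h : (n → F) →ₗ[F] (n → F)) ∘ₗ (h.symm : (n → F) →ₗ[F] (n → F)) = LinearMap.id := by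
      ext x
      simp
    rw [this, LinearMap.toMatrix'_id]
  · rw [← LinearMap.toMatrix'_comp]
    have : (h.symm : (n → F) →ₗ[F] (n → F)) ∘ₗ (h : (n → F) →ₗ[F] (n → F)) = LinearMap.id := by
      ext x
      simp
    rw [this, LinearMap.toMatrix'_id]
  · have e1 : τ = LinearMap.toMatrix' (Matrix.toLinAlgEquiv' τ : Module.End F (n → F)) :=
      (LinearMap.toMatrix'_toLin' τ).symm
    have e2 : τ' = LinearMap.toMatrix' (Matrix.toLinAlgEquiv' τ' : Module.End F (n → F)) :=
      (LinearMap.toMatrix'_toLin' τ').symm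
    rw [e1, e2, ← LinearMap.toMatrix'_comp, ← LinearMap.toMatrix'_comp]
    congr 1
    apply LinearMap.ext
    intro x
    exact hh x

end Mat

end Cfsg.Agent.Helper17.RegNil
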