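import Mathlib
import Cfsg.Prelude.Def_JordanBlocks
import Cfsg.Agent.Lib.Helper17.RegNil2

/-!
# Ranks of powers of `u - 1` for a unipotent matrix of given Jordan type (helper17)
-/

set_option autoImplicit false
set_option linter.unusedSectionVars false

namespace Cfsg.Agent.Helper17.JordanRank

open Module Matrix

variable {F : Type*} [Field F]

/-! ### ranks of powers of a regular nilpotent -/

section Abstract

variable {V : Type*} [AddCommGroup V] [Module F V] [FiniteDimensional F V]

theorem finrank_range_pow (f : Module.End F V) {d : ℕ} (hd : finrank F V = d)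
    (hnil : f ^ d = 0) (hne : f ^ (d - 1) ≠ 0) (i : ℕ) :
    finrank F (LinearMap.range (f ^ i)) = d - i := by
  obtain ⟨v, hv⟩ : ∃ v, (f ^ (d - 1)) v ≠ 0 := by
    by_contra hcon
    push Not at hcon
    exact hne (LinearMap.ext hcon)
  have hli := RegNil.linearIndependent_pow_apply f hnil hv
  by_cases hid : d ≤ i
  · obtain ⟨e, he⟩ := Nat.exists_eq_add_of_le hid
    have : f ^ i = 0 := by rw [he, pow_add, hnil, zero_mul]
    rw [this, LinearMap.range_zero, finrank_bot]
    omega
  push Not at hid
  have h1 := LinearMap.finrank_range_add_finrank_ker (f ^ i)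
  rw [hd] at h1
  -- the range contains `d - i` independent vectors
  have h3 : d - i ≤ finrank F (LinearMap.range (f ^ i)) := by
    let g : Fin (d - i) → Fin d := fun a => ⟨(a : ℕ) + i, by have := a.2; omega⟩
    have hg : Function.Injective g := by
      intro a b hab
      apply Fin.ext
      have := congrArg Fin.val hab
      simp only [g] at this
      omega
    have hli2 := hli.comp g hg
    have h4 := finrank_span_eq_card hli2
    rw [Fintype.card_fin] at h4
    refine le_trans (le_of_eq h4.symm) (Submodule.finrank_mono ?_)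
    rw [Submodule.span_le]
    rintro _ ⟨a, rfl⟩
    simp only [Function.comp_apply, g]
    rw [add_comm, pow_add, Module.End.mul_apply]
    exact LinearMap.mem_range_self _ _
  -- the kernel contains `i` independent vectors
  have h5 : i ≤ finrank F (LinearMap.ker (f ^ i)) := by
    let g : Fin i → Fin d := fun a => ⟨(a : ℕ) + (d - i), by have := a.2; omega⟩
    have hg : Function.Injective g := by
      intro a b hab
      apply Fin.ext
      have := congrArg Fin.val hab
      simp only [g] at this
      omega
    have hli2 := hli.comp g hg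
    have h4 := finrank_span_eq_card hli2
    rw [Fintype.card_fin] at h4
    refine le_trans (le_of_eq h4.symm) (Submodule.finrank_mono ?_)
    rw [Submodule.span_le]
    rintro _ ⟨a, rfl⟩
    simp only [Function.comp_apply, g, SetLike.mem_coe, LinearMap.mem_ker]
    rw [← Module.End.mul_apply, ← pow_add]
    have : i + ((a : ℕ) + (d - i)) = d + (a : ℕ) := by omega
    rw [this, pow_add, hnil, zero_mul]
    rfl
  omega

end Abstract

/-! ### the shift matrix -/

/-- the nilpotent part of the Jordan block -/
theorem jordanBlock_sub_one_apply (n : ℕ) (a b : Fin n) :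
    (Cfsg.jordanBlock n F - 1) a b = if (a : ℕ) = (b : ℕ) + 1 then 1 else 0 := by
  rw [Matrix.sub_apply, Cfsg.jordanBlock, Matrix.of_apply, Matrix.one_apply]
  by_cases h : a = b
  · subst h
    simp
  · have h' : (a : ℕ) ≠ (b : ℕ) := fun hab => h (Fin.ext hab)
    rw [if_neg h', if_neg h, sub_zero]

theorem jordanBlock_sub_one_pow_apply (n : ℕ) (i : ℕ) (a b : Fin n) :
    ((Cfsg.jordanBlock n F - 1) ^ i) a b = if (a : ℕ) = (b : ℕ) + i then 1 else 0 := by
  induction i generalizing a b with
  | zero =>
    rw [pow_zero, Matrix.one_apply, add_zero]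
    by_cases h : a = b
    · subst h
      simp
    · have h' : (a : ℕ) ≠ (b : ℕ) := fun hab => h (Fin.ext hab)
      rw [if_neg h, if_neg h']
  | succ i ih =>
    rw [pow_succ, Matrix.mul_apply]
    simp only [ih, jordanBlock_sub_one_apply]
    by_cases hb : (b : ℕ) + 1 < n
    · rw [Finset.sum_eq_single (⟨(b : ℕ) + 1, hb⟩ : Fin n)]
      · simp only [if_true, mul_one]
        congr 1
        apply propext
        constructor <;> intro h <;> omega
      · intro c _ hc
        have : (c : ℕ) ≠ (b : ℕ) + 1 := fun h => hc (Fin.ext h)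
        rw [if_neg this, mul_zero]
      · intro h
        exact absurd (Finset.mem_univ _) h
    · rw [Finset.sum_eq_zero]
      · have := a.2
        rw [if_neg (by omega)]
      · intro c _
        have := c.2
        rw [if_neg (show ¬ ((c : ℕ) = (b : ℕ) + 1) by omega), mul_zero]

theorem jordanBlock_sub_one_pow_self (n : ℕ) : (Cfsg.jordanBlock n F - 1) ^ n = 0 := by
  ext a b
  rw [jordanBlock_sub_one_pow_apply, Matrix.zero_apply, if_neg]
  have := a.2
  omega

theorem jordanBlock_sub_one_pow_pred (n : ℕ) (hn : 0 < n) :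
    (Cfsg.jordanBlock n F - 1) ^ (n - 1) ≠ 0 := by
  intro h
  have h1 := congrFun (congrFun h ⟨n - 1, by omega⟩) ⟨0, hn⟩
  rw [jordanBlock_sub_one_pow_apply, Matrix.zero_apply, if_pos (by simp)] at h1
  exact one_ne_zero h1

theorem rank_jordanBlock_sub_one (n : ℕ) (hn : 0 < n) :
    (Cfsg.jordanBlock n F - 1).rank = n - 1 :=
  RegNil.matrix_rank_of_pow_ne_zero _ (Fintype.card_fin n) hn (jordanBlock_sub_one_pow_self n)
    (jordanBlock_sub_one_pow_pred n hn)

theorem rank_jordanBlock_sub_one_pow (n : ℕ) (i : ℕ) :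
    ((Cfsg.jordanBlock n F - 1) ^ i).rank = n - i := by
  rcases Nat.eq_zero_or_pos n with h0 | hn
  · subst h0
    have := Matrix.rank_le_card_width ((Cfsg.jordanBlock 0 F - 1) ^ i)
    simp only [Fintype.card_fin] at this
    omega
  have hnil' : (Matrix.toLinAlgEquiv' (Cfsg.jordanBlock n F - 1) : Module.End F (Fin n → F)) ^ n
      = 0 := by
    rw [← map_pow, jordanBlock_sub_one_pow_self, map_zero]
  have hne' : (Matrix.toLinAlgEquiv' (Cfsg.jordanBlock n F - 1) : Module.End F (Fin n → F)) ^
      (n - 1) ≠ 0 := by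
    rw [← map_pow]
    intro h
    apply jordanBlock_sub_one_pow_pred (F := F) n hn
    apply (Matrix.toLinAlgEquiv' : Matrix (Fin n) (Fin n) F ≃ₐ[F] Module.End F (Fin n → F)).injective
    rw [h, map_zero]
  have := finrank_range_pow _ (by rw [Module.finrank_fintype_fun_eq_card, Fintype.card_fin])
    hnil' hne' i
  rw [← map_pow] at this
  exact this


/-! ### the rank of a block diagonal matrix -/

section Block

variable {o : Type*} [Fintype o] [DecidableEq o] {m' : o → Type*} [∀ k, Fintype (m' k)]
  [∀ k, DecidableEq (m' k)]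

theorem blockDiagonal'_mulVec_apply (M : ∀ k, Matrix (m' k) (m' k) F) (x : (Σ k, m' k) → F)
    (k : o) (i : m' k) :
    (Matrix.blockDiagonal' M *ᵥ x) ⟨k, i⟩ = (M k *ᵥ (fun j => x ⟨k, j⟩)) i := by
  simp only [Matrix.mulVec, dotProduct]
  rw [Fintype.sum_sigma, Finset.sum_eq_single k]
  · simp [Matrix.blockDiagonal'_apply]
  · intro l _ hl
    apply Finset.sum_eq_zero
    intro j _
    rw [Matrix.blockDiagonal'_apply, dif_neg hl.symm, zero_mul]
  · intro h
    exact absurd (Finset.mem_univ _) h

theorem rank_blockDiagonal' (M : ∀ k, Matrix (m' k) (m' k) F) :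
    (Matrix.blockDiagonal' M).rank = ∑ k, (M k).rank := by
  have hsum : ∑ k, (M k).rank = finrank F (∀ k, LinearMap.range (M k).mulVecLin) :=
    (Module.finrank_pi_fintype F (M := fun k => LinearMap.range (M k).mulVecLin)).symm
  rw [hsum]
  let R := LinearMap.range (Matrix.blockDiagonal' M).mulVecLin
  have hmem : ∀ (y : R) (k : o), (fun j => (y : (Σ k, m' k) → F) ⟨k, j⟩) ∈
      LinearMap.range (M k).mulVecLin := by
    rintro ⟨_, x, rfl⟩ k
    refine ⟨fun j => x ⟨k, j⟩, ?_⟩
    funext i
    exact (blockDiagonal'_mulVec_apply M x k i).symm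
  let g : R →ₗ[F] (∀ k, LinearMap.range (M k).mulVecLin) :=
    { toFun := fun y k => ⟨fun j => (y : (Σ k, m' k) → F) ⟨k, j⟩, hmem y k⟩
      map_add' := fun y z => by
        funext k
        apply Subtype.ext
        rfl
      map_smul' := fun c y => by
        funext k
        apply Subtype.ext
        rfl }
  have hg : Function.Bijective g := by
    constructor
    · intro y z hyz
      apply Subtype.ext
      funext ⟨k, j⟩
      have := congrArg (fun w : (∀ k, LinearMap.range (M k).mulVecLin) =>
        ((w k : m' k → F) j)) hyz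
      exact this
    · intro w
      choose x hx using fun k => (w k).2
      refine ⟨⟨Matrix.blockDiagonal' M *ᵥ (fun a : Σ k, m' k => x a.1 a.2), ⟨_, rfl⟩⟩, ?_⟩
      funext k
      apply Subtype.ext
      funext j
      show (Matrix.blockDiagonal' M *ᵥ (fun a : Σ k, m' k => x a.1 a.2)) ⟨k, j⟩ = (w k : m' k → F) j
      rw [blockDiagonal'_mulVec_apply, ← hx k]
      rfl
  exact LinearEquiv.finrank_eq (LinearEquiv.ofBijective g hg)

end Block

/-! ### Jordan type matrices -/

theorem jordanTypeMatrix_sub_one_pow {t : ℕ} (d : Fin t → ℕ) (i : ℕ) :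
    (Cfsg.jordanTypeMatrix d F - 1) ^ i =
      Matrix.blockDiagonal' (fun k => (Cfsg.jordanBlock (d k) F - 1) ^ i) := by
  rw [Cfsg.jordanTypeMatrix, ← Matrix.blockDiagonal'_one, ← Matrix.blockDiagonal'_sub,
    ← Matrix.blockDiagonal'_pow]
  rfl

theorem rank_jordanTypeMatrix_sub_one_pow {t : ℕ} (d : Fin t → ℕ) (i : ℕ) :
    ((Cfsg.jordanTypeMatrix d F - 1) ^ i).rank = ∑ k, (d k - i) := by
  rw [jordanTypeMatrix_sub_one_pow, rank_blockDiagonal']
  exact Finset.sum_congr rfl (fun k _ => rank_jordanBlock_sub_one_pow (d k) i)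

/-- the multiplicity of the block size `j` from the ranks -/
theorem rank_add_rank {t : ℕ} (d : Fin t → ℕ) (j : ℕ) (hj : 1 ≤ j) :
    ((Cfsg.jordanTypeMatrix d F - 1) ^ (j - 1)).rank + ((Cfsg.jordanTypeMatrix d F - 1) ^ (j + 1)).rank
      = (Finset.univ.filter (fun k : Fin t => d k = j)).card +
        2 * ((Cfsg.jordanTypeMatrix d F - 1) ^ j).rank := by
  simp only [rank_jordanTypeMatrix_sub_one_pow]
  rw [Finset.card_filter, Finset.mul_sum, ← Finset.sum_add_distrib, ← Finset.sum_add_distrib]
  apply Finset.sum_congr rfl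
  intro k _
  by_cases h : d k = j
  · rw [if_pos h]
    omega
  · rw [if_neg h]
    omega

end Cfsg.Agent.Helper17.JordanRank
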