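import Mathlib
import Cfsg.Agent.Lib.Helper17.RegNil2
import Cfsg.Agent.Lib.Helper17.JordanRank

/-!
# Invariant bilinear forms of a single unipotent Jordan block (helper17)
-/

set_option autoImplicit false
set_option linter.unusedSectionVars false

namespace Cfsg.Agent.Helper17.JordanForms

open Matrix Cfsg.Agent.Helper17.JordanRank

variable {F : Type*} [Field F]

theorem submatrix_sub_one_pow {ι κ : Type*} [Fintype ι] [DecidableEq ι] [Fintype κ]
    [DecidableEq κ] (e : κ ≃ ι) (T : Matrix ι ι F) (i : ℕ) :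
    (T.submatrix e e - 1) ^ i = ((T - 1) ^ i).submatrix e e := by
  have h4 : T.submatrix e e - 1 = (T - 1).submatrix e e := by
    ext a b
    simp [Matrix.one_apply]
  rw [h4]
  induction i with
  | zero =>
    ext a b
    simp [Matrix.one_apply]
  | succ i ih =>
    rw [pow_succ, ih, pow_succ, Matrix.submatrix_mul_equiv]

/-- a regular unipotent matrix is similar to the Jordan block, by a rectangular similarity -/
theorem exists_rect_conj {ι : Type*} [Fintype ι] [DecidableEq ι] {n : ℕ}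
    (hcard : Fintype.card ι = n) (hn : 0 < n) (U : Matrix ι ι F) (hnil : (U - 1) ^ n = 0)
    (hrank : (U - 1).rank = n - 1) :
    ∃ (H : Matrix ι (Fin n) F) (Hi : Matrix (Fin n) ι F), H * Hi = 1 ∧ Hi * H = 1 ∧
      H * Cfsg.jordanBlock n F = U * H := by
  let e : Fin n ≃ ι := (Fintype.equivFinOfCardEq hcard).symm
  set U' : Matrix (Fin n) (Fin n) F := U.submatrix e e with hU'
  have h1 : (U' - 1) ^ n = 0 := by
    rw [hU', submatrix_sub_one_pow, hnil]
    rfl
  have h2 : (U' - 1).rank = n - 1 := by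
    have := submatrix_sub_one_pow e U 1
    rw [pow_one, pow_one] at this
    rw [hU', this, Matrix.rank_submatrix, hrank]
  obtain ⟨H₀, Hi₀, h3, h4, h5⟩ := RegNil.matrix_exists_conj (Cfsg.jordanBlock n F - 1) (U' - 1)
    (Fintype.card_fin n) hn (jordanBlock_sub_one_pow_self n) (rank_jordanBlock_sub_one n hn) h1 h2
  have h6 : H₀ * Cfsg.jordanBlock n F = U' * H₀ := by
    rw [mul_sub, sub_mul, mul_one, one_mul] at h5
    exact sub_left_injective h5
  refine ⟨H₀.submatrix e.symm id, Hi₀.submatrix id e.symm, ?_, ?_, ?_⟩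
  · ext a b
    have := congrFun (congrFun h3 (e.symm a)) (e.symm b)
    rw [Matrix.mul_apply] at this
    rw [Matrix.mul_apply]
    simp only [Matrix.submatrix_apply, id]
    rw [this, Matrix.one_apply, Matrix.one_apply]
    simp
  · ext a b
    have := congrFun (congrFun h4 a) b
    rw [Matrix.mul_apply] at this
    rw [Matrix.mul_apply, ← this]
    simp only [Matrix.submatrix_apply, id]
    exact Fintype.sum_equiv e.symm _ _ (fun c => rfl)
  · ext a b
    have := congrFun (congrFun h6 (e.symm a)) b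
    rw [Matrix.mul_apply, Matrix.mul_apply] at this
    rw [Matrix.mul_apply, Matrix.mul_apply]
    simp only [Matrix.submatrix_apply, id]
    rw [this, hU']
    simp only [Matrix.submatrix_apply, Equiv.apply_symm_apply]
    exact Fintype.sum_equiv e _ _ (fun c => by simp)

/-- every unipotent Jordan block preserves some invertible bilinear form -/
theorem exists_inv_form (n : ℕ) :
    ∃ g gi : Matrix (Fin n) (Fin n) F, g * gi = 1 ∧ gi * g = 1 ∧
      (Cfsg.jordanBlock n F)ᵀ * g * Cfsg.jordanBlock n F = g := by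
  rcases Nat.eq_zero_or_pos n with h0 | hn
  · subst h0
    exact ⟨1, 1, Subsingleton.elim _ _, Subsingleton.elim _ _, Subsingleton.elim _ _⟩
  set JB := Cfsg.jordanBlock n F with hJB
  set τ := JB - 1 with hτ
  have hτn : τ ^ n = 0 := jordanBlock_sub_one_pow_self n
  have hJB1 : JB = 1 + τ := by rw [hτ]; abel
  have hu : IsUnit JB := by
    rw [hJB1]
    exact IsNilpotent.isUnit_one_add ⟨n, hτn⟩
  obtain ⟨u, hu⟩ := hu
  set JBi : Matrix (Fin n) (Fin n) F := ((u⁻¹ : (Matrix (Fin n) (Fin n) F)ˣ) : Matrix (Fin n) (Fin n) F)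
    with hJBi
  have hi1 : JBi * JB = 1 := by rw [hJBi, ← hu]; exact u.inv_mul
  have hi2 : JB * JBi = 1 := by rw [hJBi, ← hu]; exact u.mul_inv
  have hi3 : JBi - 1 = (-JBi) * τ := by
    rw [hτ, mul_sub, mul_one, neg_mul, hi1]
    abel
  have hc : Commute (-JBi) τ := by
    have h1 : Commute JBi JB := by rw [Commute, SemiconjBy, hi1, hi2]
    exact (h1.sub_right (Commute.one_right _)).neg_left
  have hnil' : (JBiᵀ - 1) ^ n = 0 := by
    have : JBiᵀ - 1 = (JBi - 1)ᵀ := by rw [transpose_sub, transpose_one]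
    rw [this, ← transpose_pow, hi3, hc.mul_pow, hτn, mul_zero, transpose_zero]
  have hrank' : (JBiᵀ - 1).rank = n - 1 := by
    have : JBiᵀ - 1 = (JBi - 1)ᵀ := by rw [transpose_sub, transpose_one]
    rw [this, Matrix.rank_transpose, hi3]
    have hdet : IsUnit (-JBi).det := by
      apply (Matrix.isUnit_iff_isUnit_det _).1
      exact (IsUnit.of_mul_eq_one _ hi1).neg
    rw [Matrix.rank_mul_eq_right_of_isUnit_det _ _ hdet]
    exact rank_jordanBlock_sub_one n hn
  obtain ⟨H, Hi, h3, h4, h5⟩ := RegNil.matrix_exists_conj τ (JBiᵀ - 1)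
    (Fintype.card_fin n) hn hτn (rank_jordanBlock_sub_one n hn) hnil' hrank'
  have h6 : H * JB = JBiᵀ * H := by
    rw [hτ, mul_sub, sub_mul, mul_one, one_mul] at h5
    exact sub_left_injective h5
  refine ⟨H, Hi, h3, h4, ?_⟩
  rw [mul_assoc, h6, ← mul_assoc, ← transpose_mul, hi1, transpose_one, one_mul]


/-! ### The explicit model of a regular unipotent with an alternating invariant form -/

/-- the flip matrix -/
def flipM (k : ℕ) (F : Type*) [Field F] : Matrix (Fin k) (Fin k) F :=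
  Matrix.of fun a b => if (a : ℕ) + (b : ℕ) + 1 = k then 1 else 0

theorem flipM_apply (k : ℕ) (a b : Fin k) :
    flipM k F a b = if (a : ℕ) + (b : ℕ) + 1 = k then 1 else 0 := rfl

theorem flipM_transpose (k : ℕ) : (flipM k F)ᵀ = flipM k F := by
  ext a b
  rw [transpose_apply, flipM_apply, flipM_apply]
  congr 1
  rw [eq_iff_iff]
  omega

theorem flipM_mul_flipM (k : ℕ) : flipM k F * flipM k F = 1 := by
  ext a b
  rw [Matrix.mul_apply, Matrix.one_apply]
  rw [Finset.sum_eq_single (⟨k - 1 - a, by have := a.2; omega⟩ : Fin k)]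
  · rw [flipM_apply, flipM_apply]
    have := a.2
    have := b.2
    by_cases hab : a = b
    · subst hab
      rw [if_pos rfl, if_pos (by simp only []; omega), if_pos (by simp only []; omega), mul_one]
    · have : (a : ℕ) ≠ b := fun h => hab (Fin.ext h)
      rw [if_neg hab, if_pos (by simp only []; omega), if_neg (by simp only []; omega), mul_zero]
  · intro c _ hc
    rw [flipM_apply, flipM_apply]
    by_cases h1 : (a : ℕ) + (c : ℕ) + 1 = k
    · exfalso
      apply hc
      apply Fin.ext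
      simp only []
      omega
    · rw [if_neg h1, zero_mul]
  · intro h
    exact absurd (Finset.mem_univ _) h

theorem transpose_mul_flipM (k : ℕ) :
    (Cfsg.jordanBlock k F - 1)ᵀ * flipM k F = flipM k F * (Cfsg.jordanBlock k F - 1) := by
  ext a b
  rw [Matrix.mul_apply, Matrix.mul_apply]
  have e1 : ∀ c : Fin k, (Cfsg.jordanBlock k F - 1)ᵀ a c * flipM k F c b =
      if (c : ℕ) = (a : ℕ) + 1 ∧ (a : ℕ) + (b : ℕ) + 2 = k then 1 else 0 := by
    intro c
    rw [transpose_apply, jordanBlock_sub_one_apply, flipM_apply]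
    by_cases h1 : (c : ℕ) = (a : ℕ) + 1
    · by_cases h2 : (c : ℕ) + (b : ℕ) + 1 = k
      · rw [if_pos h1, if_pos h2, if_pos ⟨h1, by omega⟩, mul_one]
      · rw [if_pos h1, if_neg h2, if_neg (by omega), mul_zero]
    · rw [if_neg h1, zero_mul, if_neg (fun h => h1 h.1)]
  have e2 : ∀ c : Fin k, flipM k F a c * (Cfsg.jordanBlock k F - 1) c b =
      if (c : ℕ) = (b : ℕ) + 1 ∧ (a : ℕ) + (b : ℕ) + 2 = k then 1 else 0 := by
    intro c
    rw [jordanBlock_sub_one_apply, flipM_apply]
    by_cases h1 : (c : ℕ) = (b : ℕ) + 1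
    · by_cases h2 : (a : ℕ) + (c : ℕ) + 1 = k
      · rw [if_pos h1, if_pos h2, if_pos ⟨h1, by omega⟩, mul_one]
      · rw [if_pos h1, if_neg h2, if_neg (by omega), zero_mul]
    · rw [if_neg h1, mul_zero, if_neg (fun h => h1 h.1)]
  simp only [e1, e2]
  have := a.2
  have := b.2
  by_cases h : (a : ℕ) + (b : ℕ) + 2 = k
  · rw [Finset.sum_eq_single (⟨a + 1, by omega⟩ : Fin k),
      Finset.sum_eq_single (⟨b + 1, by omega⟩ : Fin k)]
    · rw [if_pos ⟨rfl, h⟩, if_pos ⟨rfl, h⟩]
    · intro c _ hc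
      rw [if_neg]
      rintro ⟨h1, -⟩
      exact hc (Fin.ext h1)
    · intro h'
      exact absurd (Finset.mem_univ _) h'
    · intro c _ hc
      rw [if_neg]
      rintro ⟨h1, -⟩
      exact hc (Fin.ext h1)
    · intro h'
      exact absurd (Finset.mem_univ _) h'
  · rw [Finset.sum_eq_zero, Finset.sum_eq_zero]
    · intro c _
      rw [if_neg (fun h' => h h'.2)]
    · intro c _
      rw [if_neg (fun h' => h h'.2)]

/-- the model regular unipotent -/
def modelU (k : ℕ) (F : Type*) [Field F] : Matrix (Fin k ⊕ Fin k) (Fin k ⊕ Fin k) F :=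
  Matrix.fromBlocks 1 (Cfsg.jordanBlock k F - 1) 1 (1 + (Cfsg.jordanBlock k F - 1))

/-- the model alternating form -/
def modelG (k : ℕ) (F : Type*) [Field F] : Matrix (Fin k ⊕ Fin k) (Fin k ⊕ Fin k) F :=
  Matrix.fromBlocks 0 (flipM k F) (-flipM k F) 0

theorem modelG_mul (k : ℕ) :
    modelG k F * Matrix.fromBlocks 0 (-flipM k F) (flipM k F) 0 = 1 := by
  rw [modelG, Matrix.fromBlocks_multiply]
  simp only [zero_mul, mul_zero, zero_add, add_zero, flipM_mul_flipM, neg_mul, mul_neg, neg_neg,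
    neg_zero, Matrix.fromBlocks_one]

theorem mul_modelG (k : ℕ) :
    Matrix.fromBlocks 0 (-flipM k F) (flipM k F) 0 * modelG k F = 1 := by
  rw [modelG, Matrix.fromBlocks_multiply]
  simp only [zero_mul, mul_zero, zero_add, add_zero, flipM_mul_flipM, neg_mul, mul_neg, neg_neg,
    neg_zero, Matrix.fromBlocks_one]

theorem modelG_alt (k : ℕ) (v : Fin k ⊕ Fin k → F) : v ⬝ᵥ (modelG k F *ᵥ v) = 0 := by
  rw [modelG, Matrix.fromBlocks_mulVec]
  simp only [dotProduct, Fintype.sum_sum_type, Sum.elim_inl, Sum.elim_inr, Matrix.zero_mulVec,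
    zero_add, add_zero, Matrix.neg_mulVec, Pi.neg_apply, mul_neg]
  have h1 : ∑ x, v (Sum.inr x) * (flipM k F *ᵥ (v ∘ Sum.inl)) x =
      (v ∘ Sum.inr) ⬝ᵥ (flipM k F *ᵥ (v ∘ Sum.inl)) := rfl
  have h2 : ∑ x, v (Sum.inl x) * (flipM k F *ᵥ (v ∘ Sum.inr)) x =
      (v ∘ Sum.inl) ⬝ᵥ (flipM k F *ᵥ (v ∘ Sum.inr)) := rfl
  rw [Finset.sum_neg_distrib, h1, h2, Matrix.dotProduct_mulVec, ← Matrix.mulVec_transpose,
    flipM_transpose, dotProduct_comm]
  ring

theorem modelU_invariant (k : ℕ) : (modelU k F)ᵀ * modelG k F * modelU k F = modelG k F := by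
  have h := transpose_mul_flipM (F := F) k
  set T := Cfsg.jordanBlock k F - 1 with hT
  set M := flipM k F with hM
  rw [modelU, modelG, Matrix.fromBlocks_transpose, Matrix.fromBlocks_multiply,
    Matrix.fromBlocks_multiply, Matrix.fromBlocks_inj]
  simp only [transpose_one, transpose_add, one_mul, mul_one, mul_zero, zero_add, add_zero,
    mul_neg, add_mul, mul_add, neg_mul, neg_add]
  refine ⟨by abel, ?_, ?_, ?_⟩
  · abel
  · abel
  · rw [h]
    abel

theorem modelU_sub_one (k : ℕ) :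
    modelU k F - 1 = Matrix.fromBlocks 0 (Cfsg.jordanBlock k F - 1) 1 (Cfsg.jordanBlock k F - 1) := by
  rw [sub_eq_iff_eq_add, modelU]
  conv_rhs => rw [← Matrix.fromBlocks_one, Matrix.fromBlocks_add]
  rw [Matrix.fromBlocks_inj]
  exact ⟨by abel, by abel, by abel, by abel⟩

theorem modelU_sub_one_sq (k : ℕ) :
    (modelU k F - 1) * (modelU k F - 1) =
      Matrix.fromBlocks (Cfsg.jordanBlock k F - 1) 0 0 (Cfsg.jordanBlock k F - 1) * modelU k F := by
  rw [modelU_sub_one, modelU, Matrix.fromBlocks_multiply, Matrix.fromBlocks_multiply]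
  simp only [zero_mul, mul_zero, zero_add, add_zero, one_mul, mul_one, mul_add]

theorem modelU_commute (k : ℕ) :
    Commute (Matrix.fromBlocks (Cfsg.jordanBlock k F - 1) 0 0 (Cfsg.jordanBlock k F - 1))
      (modelU k F) := by
  rw [Commute, SemiconjBy, modelU, Matrix.fromBlocks_multiply, Matrix.fromBlocks_multiply]
  simp only [zero_mul, mul_zero, zero_add, add_zero, one_mul, mul_one, mul_add, add_mul]

theorem modelU_isUnit (k : ℕ) : IsUnit (modelU k F) := by
  apply IsUnit.of_mul_eq_one_right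
    (Matrix.fromBlocks 0 (-flipM k F) (flipM k F) 0 * ((modelU k F)ᵀ * modelG k F))
  rw [mul_assoc, mul_assoc, ← mul_assoc _ (modelG k F), modelU_invariant, mul_modelG]

theorem modelU_sub_one_pow (k : ℕ) :
    (modelU k F - 1) ^ (2 * k) = 0 := by
  rw [pow_mul, pow_two, modelU_sub_one_sq, (modelU_commute k).mul_pow,
    Matrix.fromBlocks_diagonal_pow, jordanBlock_sub_one_pow_self, Matrix.fromBlocks_zero, zero_mul]

theorem modelU_sub_one_pow_ne (k : ℕ) (hk : 0 < k) :
    (modelU k F - 1) ^ (2 * k - 1) ≠ 0 := by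
  have e : 2 * k - 1 = 2 * (k - 1) + 1 := by omega
  rw [e, pow_succ, pow_mul, pow_two, modelU_sub_one_sq, (modelU_commute k).mul_pow,
    ((modelU_commute k).pow_pow _ _).eq, mul_assoc, Matrix.fromBlocks_diagonal_pow]
  intro h
  have h1 : Matrix.fromBlocks ((Cfsg.jordanBlock k F - 1) ^ (k - 1)) 0 0
      ((Cfsg.jordanBlock k F - 1) ^ (k - 1)) * (modelU k F - 1) = 0 := by
    have hu : IsUnit (modelU k F ^ (k - 1)) := (modelU_isUnit k).pow _
    exact (hu.mul_right_eq_zero).1 h
  rw [modelU_sub_one, Matrix.fromBlocks_multiply] at h1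
  have h2 := congrFun (congrFun h1 (Sum.inr ⟨k - 1, by omega⟩)) (Sum.inl ⟨0, hk⟩)
  rw [Matrix.fromBlocks_apply₂₁] at h2
  simp only [zero_mul, mul_one, zero_add, Matrix.zero_apply] at h2
  rw [jordanBlock_sub_one_pow_apply, if_pos (by simp)] at h2
  exact one_ne_zero h2

theorem modelU_rank (k : ℕ) (hk : 0 < k) : (modelU k F - 1).rank = 2 * k - 1 :=
  RegNil.matrix_rank_of_pow_ne_zero _ (by simp; omega) (by omega) (modelU_sub_one_pow k)
    (modelU_sub_one_pow_ne k hk)


/-! ### Pulling back forms along a similarity -/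

section pullback

variable {ι : Type*} [Fintype ι] [DecidableEq ι] {n : ℕ}

theorem pullback_invariant (H : Matrix ι (Fin n) F) (U G : Matrix ι ι F)
    (hH : H * Cfsg.jordanBlock n F = U * H) (hG : Uᵀ * G * U = G) :
    (Cfsg.jordanBlock n F)ᵀ * (Hᵀ * G * H) * Cfsg.jordanBlock n F = Hᵀ * G * H := by
  have h1 : (Cfsg.jordanBlock n F)ᵀ * Hᵀ = Hᵀ * Uᵀ := by
    rw [← transpose_mul, hH, transpose_mul]
  calc (Cfsg.jordanBlock n F)ᵀ * (Hᵀ * G * H) * Cfsg.jordanBlock n F
      = ((Cfsg.jordanBlock n F)ᵀ * Hᵀ) * G * (H * Cfsg.jordanBlock n F) := by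
        simp only [Matrix.mul_assoc]
    _ = Hᵀ * (Uᵀ * G * U) * H := by
        rw [h1, hH]
        simp only [Matrix.mul_assoc]
    _ = Hᵀ * G * H := by rw [hG]

theorem pullback_unit (H : Matrix ι (Fin n) F) (Hi : Matrix (Fin n) ι F) (hHHi : H * Hi = 1)
    (hHiH : Hi * H = 1) (G Gi : Matrix ι ι F) (hG : G * Gi = 1) (hGi : Gi * G = 1) :
    (Hᵀ * G * H) * (Hi * Gi * Hiᵀ) = 1 ∧ (Hi * Gi * Hiᵀ) * (Hᵀ * G * H) = 1 := by
  constructor
  · calc (Hᵀ * G * H) * (Hi * Gi * Hiᵀ) = Hᵀ * (G * ((H * Hi) * Gi)) * Hiᵀ := by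
          simp only [Matrix.mul_assoc]
      _ = 1 := by
          rw [hHHi, Matrix.one_mul, hG, Matrix.mul_one, ← transpose_mul, hHiH, transpose_one]
  · calc (Hi * Gi * Hiᵀ) * (Hᵀ * G * H) = Hi * (Gi * ((Hiᵀ * Hᵀ) * G)) * H := by
          simp only [Matrix.mul_assoc]
      _ = 1 := by
          rw [← transpose_mul, hHHi, transpose_one, Matrix.one_mul, hGi, Matrix.mul_one, hHiH]

theorem pullback_alt (H : Matrix ι (Fin n) F) (G : Matrix ι ι F)
    (hG : ∀ v : ι → F, v ⬝ᵥ (G *ᵥ v) = 0) (v : Fin n → F) :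
    v ⬝ᵥ ((Hᵀ * G * H) *ᵥ v) = 0 := by
  rw [← Matrix.mulVec_mulVec, ← Matrix.mulVec_mulVec, Matrix.dotProduct_mulVec,
    Matrix.vecMul_transpose]
  exact hG _

end pullback

/-- every unipotent Jordan block of even size preserves an invertible alternating form -/
theorem exists_alt_form (n k : ℕ) (hnk : n = 2 * k) :
    ∃ G Gi : Matrix (Fin n) (Fin n) F, G * Gi = 1 ∧ Gi * G = 1 ∧
      (∀ v : Fin n → F, v ⬝ᵥ (G *ᵥ v) = 0) ∧
      (Cfsg.jordanBlock n F)ᵀ * G * Cfsg.jordanBlock n F = G := by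
  rcases Nat.eq_zero_or_pos k with h0 | hk
  · subst h0
    have hn0 : n = 0 := by omega
    subst hn0
    refine ⟨1, 1, Subsingleton.elim _ _, Subsingleton.elim _ _, ?_, Subsingleton.elim _ _⟩
    intro v
    simp [dotProduct]
  have hcard : Fintype.card (Fin k ⊕ Fin k) = n := by
    rw [Fintype.card_sum, Fintype.card_fin, hnk]
    omega
  have hn : 0 < n := by omega
  obtain ⟨H, Hi, h1, h2, h3⟩ := exists_rect_conj hcard hn (modelU k F)
    (by rw [hnk]; exact modelU_sub_one_pow k) (by rw [hnk]; exact modelU_rank k hk)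
  obtain ⟨h4, h5⟩ := pullback_unit H Hi h1 h2 (modelG k F) _ (modelG_mul k) (mul_modelG k)
  exact ⟨_, _, h4, h5, pullback_alt H _ (modelG_alt k),
    pullback_invariant H _ _ h3 (modelU_invariant k)⟩

end Cfsg.Agent.Helper17.JordanForms
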