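import Mathlib
import Cfsg.Agent.Lib.Helper11.AltForm
import Cfsg.Agent.Lib.Helper17.JordanRank
import Cfsg.Agent.Lib.Helper17.JordanForms

/-!
# Matrices preserving an invertible alternating form: the parity condition on the Jordan type
is necessary (helper17)
-/

set_option autoImplicit false
set_option linter.unusedSectionVars false

namespace Cfsg.Agent.Helper17.JordanAlt

open Matrix Cfsg.Agent.Helper17.JordanRank

variable {F : Type*} [Field F] {ι : Type*} [Fintype ι] [DecidableEq ι]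

section

variable (G Gi u ui : Matrix ι ι F) (hG : G * Gi = 1) (hu : u * ui = 1) (hinv : uᵀ * G * u = G)

include hu hinv in
theorem transpose_mul (hu' : ui * u = 1) : uᵀ * G = G * ui := by
  calc uᵀ * G = uᵀ * G * (u * ui) := by rw [hu, mul_one]
    _ = (uᵀ * G * u) * ui := by simp only [mul_assoc]
    _ = G * ui := by rw [hinv]

include hu hinv in
theorem transpose_pow_mul (hu' : ui * u = 1) (s : ℕ) :
    ((u - 1)ᵀ) ^ s * G = G * (ui - 1) ^ s := by
  have key : (u - 1)ᵀ * G = G * (ui - 1) := by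
    rw [transpose_sub, transpose_one, sub_mul, one_mul, transpose_mul G u ui hu hinv hu', mul_sub,
      mul_one]
  induction s with
  | zero => simp
  | succ s ih =>
    rw [pow_succ, mul_assoc, key, ← mul_assoc, ih, mul_assoc, ← pow_succ]

include hu in
theorem inv_sub_one_pow_mul (hu' : ui * u = 1) (s : ℕ) :
    (ui - 1) ^ s * u ^ s = (-1 : F) ^ s • (u - 1) ^ s := by
  have hc0 : Commute ui u := by rw [Commute, SemiconjBy, hu, hu']
  have hc : Commute (ui - 1) u := hc0.sub_left (Commute.one_left _)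
  rw [← hc.mul_pow, sub_mul, hu', one_mul]
  have : (1 : Matrix ι ι F) - u = (-1 : F) • (u - 1) := by
    rw [neg_one_smul, neg_sub]
  rw [this, smul_pow]

include hG hu hinv in
/-- the ranks of the even powers of `u - 1` are even -/
theorem even_rank_sub_one_pow (halt : ∀ v : ι → F, v ⬝ᵥ (G *ᵥ v) = 0) (s : ℕ) :
    Even ((u - 1) ^ (2 * s)).rank := by
  have hu' : ui * u = 1 := mul_eq_one_comm.1 hu
  set N : Matrix ι ι F := u - 1 with hN
  set S : Matrix ι ι F := (N ^ (2 * s))ᵀ * G * u ^ s with hS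
  have hS2 : S = (-1 : F) ^ s • ((N ^ s)ᵀ * G * N ^ s) := by
    rw [hS, transpose_pow, two_mul, pow_add, mul_assoc ((Nᵀ) ^ s),
      transpose_pow_mul G u ui hu hinv hu' s,
      mul_assoc, mul_assoc, inv_sub_one_pow_mul u ui hu hu' s, Matrix.mul_smul, Matrix.mul_smul,
      transpose_pow, mul_assoc]
  have halt' : ∀ v : ι → F, v ⬝ᵥ S.mulVec v = 0 := by
    intro v
    rw [hS2, Matrix.smul_mulVec, dotProduct_smul]
    have : v ⬝ᵥ ((N ^ s)ᵀ * G * N ^ s) *ᵥ v = (N ^ s *ᵥ v) ⬝ᵥ (G *ᵥ (N ^ s *ᵥ v)) := by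
      conv_lhs => rw [← Matrix.mulVec_mulVec, ← Matrix.mulVec_mulVec, Matrix.dotProduct_mulVec,
        Matrix.vecMul_transpose]
    rw [this, halt, smul_zero]
  have hrank : S.rank = (N ^ (2 * s)).rank := by
    have hu1 : IsUnit ((G * u ^ s).det) := by
      rw [Matrix.det_mul, Matrix.det_pow]
      apply IsUnit.mul
      · exact (Matrix.isUnit_iff_isUnit_det _).1 (IsUnit.of_mul_eq_one _ hG)
      · apply IsUnit.pow
        exact (Matrix.isUnit_iff_isUnit_det _).1 (IsUnit.of_mul_eq_one _ hu)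
    rw [hS, mul_assoc, Matrix.rank_mul_eq_left_of_isUnit_det _ _ hu1, Matrix.rank_transpose]
  rw [← hrank]
  exact Cfsg.Agent.Helper11.even_rank_of_alternating S halt'

end

/-- the parity condition is necessary -/
theorem even_card_of_isConj {t : ℕ} (d : Fin t → ℕ) (e : ((k : Fin t) × Fin (d k)) ≃ ι)
    (G Gi u : Matrix ι ι F) (hG : G * Gi = 1) (hinv : uᵀ * G * u = G)
    (halt : ∀ v : ι → F, v ⬝ᵥ (G *ᵥ v) = 0)
    (hc : IsConj (Matrix.reindex e e (Cfsg.jordanTypeMatrix d F)) u)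
    (j : ℕ) (hj : Odd j) : Even (Finset.univ.filter (fun k : Fin t => d k = j)).card := by
  obtain ⟨c, hc⟩ := hc
  have hGi : Gi * G = 1 := mul_eq_one_comm.1 hG
  have hu' : (Gi * uᵀ * G) * u = 1 := by
    rw [mul_assoc, mul_assoc, ← mul_assoc uᵀ, hinv, hGi]
  have hu : u * (Gi * uᵀ * G) = 1 := mul_eq_one_comm.1 hu'
  -- ranks of powers agree
  have hrank : ∀ i : ℕ, ((u - 1) ^ i).rank =
      ((Cfsg.jordanTypeMatrix d F - 1) ^ i).rank := by
    intro i
    have h1 : (c : Matrix ι ι F) * (Matrix.reindex e e (Cfsg.jordanTypeMatrix d F) - 1) =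
        (u - 1) * (c : Matrix ι ι F) := by
      rw [mul_sub, sub_mul, mul_one, one_mul, hc.eq]
    have h2 : (c : Matrix ι ι F) * (Matrix.reindex e e (Cfsg.jordanTypeMatrix d F) - 1) ^ i =
        (u - 1) ^ i * (c : Matrix ι ι F) := by
      induction i with
      | zero => simp
      | succ i ih => rw [pow_succ, ← mul_assoc, ih, mul_assoc, h1, ← mul_assoc, ← pow_succ]
    have hcu : IsUnit (c : Matrix ι ι F).det := (Matrix.isUnit_iff_isUnit_det _).1 c.isUnit
    have h3 := congrArg Matrix.rank h2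
    rw [Matrix.rank_mul_eq_right_of_isUnit_det _ _ hcu,
      Matrix.rank_mul_eq_left_of_isUnit_det _ _ hcu] at h3
    rw [← h3, Matrix.reindex_apply, JordanForms.submatrix_sub_one_pow, Matrix.rank_submatrix]
  obtain ⟨s, hs⟩ := hj
  have h1 := rank_add_rank (F := F) d j (by omega)
  have e1 : j - 1 = 2 * s := by omega
  have e2 : j + 1 = 2 * (s + 1) := by omega
  rw [e1, e2, ← hrank, ← hrank] at h1
  obtain ⟨a, ha⟩ := even_rank_sub_one_pow G Gi u _ hG hu hinv halt s
  obtain ⟨b, hb⟩ := even_rank_sub_one_pow G Gi u _ hG hu hinv halt (s + 1)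
  rw [ha, hb] at h1
  exact ⟨a + b - ((Cfsg.jordanTypeMatrix d F - 1) ^ j).rank, by omega⟩

end Cfsg.Agent.Helper17.JordanAlt
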