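import Mathlib
import Cfsg.Agent.Lib.Helper17.JordanRank

/-!
# Assembling invariant forms of a unipotent matrix of given Jordan type from forms on the
blocks and a pairing of the blocks (helper17)
-/

set_option autoImplicit false
set_option linter.unusedSectionVars false

namespace Cfsg.Agent.Helper17.JordanAsm

open Matrix

/-! ### Pairings -/

theorem exists_fpf_involution {α : Type*} [DecidableEq α] : ∀ (n : ℕ) (s : Finset α),
    s.card = 2 * n →
    ∃ f : α → α, (∀ x, f (f x) = x) ∧ (∀ x ∈ s, f x ∈ s ∧ f x ≠ x) ∧ (∀ x, x ∉ s → f x = x) := by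
  intro n
  induction n with
  | zero =>
    intro s hs
    have : s = ∅ := Finset.card_eq_zero.1 (by omega)
    subst this
    exact ⟨id, fun _ => rfl, fun x hx => absurd hx (Finset.notMem_empty x), fun _ _ => rfl⟩
  | succ n ih =>
    intro s hs
    obtain ⟨a, ha⟩ := Finset.card_pos.1 (by omega : 0 < s.card)
    have h1 : (s.erase a).card = 2 * n + 1 := by
      rw [Finset.card_erase_of_mem ha]; omega
    obtain ⟨b, hb⟩ := Finset.card_pos.1 (by omega : 0 < (s.erase a).card)
    have h2 : ((s.erase a).erase b).card = 2 * n := by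
      rw [Finset.card_erase_of_mem hb]; omega
    obtain ⟨f', hf1, hf2, hf3⟩ := ih _ h2
    have hab : b ≠ a := (Finset.mem_erase.1 hb).1
    have hbs : b ∈ s := (Finset.mem_erase.1 hb).2
    have hmem : ∀ x, x ∈ (s.erase a).erase b ↔ x ≠ b ∧ x ≠ a ∧ x ∈ s := by
      intro x
      simp [Finset.mem_erase]
    have hfa : f' a = a := hf3 a (fun h => ((hmem a).1 h).2.1 rfl)
    have hfb : f' b = b := hf3 b (fun h => ((hmem b).1 h).1 rfl)
    refine ⟨fun x => if x = a then b else if x = b then a else f' x, ?_, ?_, ?_⟩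
    · intro x
      by_cases hxa : x = a
      · subst hxa
        simp [hab]
      · by_cases hxb : x = b
        · subst hxb
          simp [hxa]
        · have h3 : f' x ≠ a := fun h => hxa (by rw [← hf1 x, h, hfa])
          have h4 : f' x ≠ b := fun h => hxb (by rw [← hf1 x, h, hfb])
          simp [hxa, hxb, h3, h4, hf1]
    · intro x hx
      by_cases hxa : x = a
      · subst hxa
        simp [hbs, hab]
      · by_cases hxb : x = b
        · subst hxb
          simp [hxa, ha, Ne.symm hxa]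
        · have hx' : x ∈ (s.erase a).erase b := (hmem x).2 ⟨hxb, hxa, hx⟩
          obtain ⟨h5, h6⟩ := hf2 x hx'
          simp only [if_neg hxa, if_neg hxb]
          exact ⟨((hmem _).1 h5).2.2, h6⟩
    · intro x hx
      have hxa : x ≠ a := fun h => hx (h ▸ ha)
      have hxb : x ≠ b := fun h => hx (h ▸ hbs)
      simp only [if_neg hxa, if_neg hxb]
      exact hf3 x (fun h => hx ((hmem x).1 h).2.2)

/-- a colour-preserving involution whose fixed points are the points of a colour not in `P` -/
theorem exists_pairing {α : Type*} [Fintype α] [DecidableEq α] (c : α → ℕ) (P : ℕ → Prop)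
    (h : ∀ j, P j → Even (Finset.univ.filter (fun x => c x = j)).card) :
    ∃ π : α → α, (∀ x, π (π x) = x) ∧ (∀ x, c (π x) = c x) ∧ (∀ x, π x = x ↔ ¬ P (c x)) := by
  classical
  have key : ∀ j, P j → ∃ f : α → α, (∀ x, f (f x) = x) ∧
      (∀ x ∈ Finset.univ.filter (fun x => c x = j),
        f x ∈ Finset.univ.filter (fun x => c x = j) ∧ f x ≠ x) ∧
      (∀ x, x ∉ Finset.univ.filter (fun x => c x = j) → f x = x) := by
    intro j hj
    obtain ⟨n, hn⟩ := h j hj
    exact exists_fpf_involution n _ (by omega)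
  choose f hf1 hf2 hf3 using key
  have hcongr : ∀ j (hj : P j) j' (hj' : P j'), j = j' → f j hj = f j' hj' := by
    intro j hj j' hj' hjj
    subst hjj
    rfl
  have hcol : ∀ x (hP : P (c x)), c (f (c x) hP x) = c x := by
    intro x hP
    have := (hf2 (c x) hP x (by simp)).1
    simpa using this
  refine ⟨fun x => if hP : P (c x) then f (c x) hP x else x, ?_, ?_, ?_⟩
  · intro x
    by_cases hP : P (c x)
    · simp only [dif_pos hP]
      have hP' : P (c (f (c x) hP x)) := by rw [hcol x hP]; exact hP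
      rw [dif_pos hP', hcongr _ hP' _ hP (hcol x hP), hf1]
    · simp only [dif_neg hP]
  · intro x
    by_cases hP : P (c x)
    · simp only [dif_pos hP]
      exact hcol x hP
    · simp only [dif_neg hP]
  · intro x
    by_cases hP : P (c x)
    · simp only [dif_pos hP]
      have := (hf2 (c x) hP x (by simp)).2
      simp [this, hP]
    · simp only [dif_neg hP]
      simp [hP]

/-! ### The assembled matrix -/

variable {F : Type*} [Field F] {t : ℕ} (d : Fin t → ℕ)

theorem jordanTypeMatrix_apply (k l : Fin t) (a : Fin (d k)) (b : Fin (d l)) :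
    Cfsg.jordanTypeMatrix d F ⟨k, a⟩ ⟨l, b⟩ =
      if k = l then (if (a : ℕ) = (b : ℕ) then 1 else if (a : ℕ) = (b : ℕ) + 1 then 1 else 0)
      else 0 := by
  rw [Cfsg.jordanTypeMatrix, Matrix.blockDiagonal'_apply]
  by_cases h : k = l
  · subst h
    rw [dif_pos rfl, if_pos rfl]
    rfl
  · rw [dif_neg h, if_neg h]

/-- a pairing of the blocks -/
structure Pairing where
  π : Fin t → Fin t
  invol : ∀ k, π (π k) = k
  size : ∀ k, d (π k) = d k

variable {d}

/-- the induced involution of the index set -/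
def Pairing.sig (p : Pairing d) : ((k : Fin t) × Fin (d k)) → ((k : Fin t) × Fin (d k)) :=
  fun x => ⟨p.π x.1, Fin.cast (p.size x.1).symm x.2⟩

theorem Pairing.sig_sig (p : Pairing d) (x : (k : Fin t) × Fin (d k)) : p.sig (p.sig x) = x := by
  rcases x with ⟨k, a⟩
  apply Sigma.ext (p.invol k)
  apply (Fin.heq_ext_iff (by show d (p.π (p.π k)) = d k; rw [p.invol k])).2
  rfl

theorem Pairing.sig_injective (p : Pairing d) : Function.Injective p.sig :=
  Function.LeftInverse.injective p.sig_sig

theorem Pairing.sum_sig (p : Pairing d) (f : ((k : Fin t) × Fin (d k)) → F) :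
    ∑ x, f (p.sig x) = ∑ x, f x :=
  Fintype.sum_bijective p.sig (Function.Involutive.bijective p.sig_sig) _ _ (fun _ => rfl)

theorem Pairing.jordanType_sig (p : Pairing d) (x y : (k : Fin t) × Fin (d k)) :
    Cfsg.jordanTypeMatrix d F (p.sig x) (p.sig y) = Cfsg.jordanTypeMatrix d F x y := by
  rcases x with ⟨k, a⟩
  rcases y with ⟨l, b⟩
  show Cfsg.jordanTypeMatrix d F ⟨p.π k, _⟩ ⟨p.π l, _⟩ = _
  rw [jordanTypeMatrix_apply, jordanTypeMatrix_apply]
  have : p.π k = p.π l ↔ k = l :=
    ⟨fun h => by rw [← p.invol k, h, p.invol l], fun h => by rw [h]⟩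
  simp only [this, Fin.val_cast]

/-- the assembled matrix -/
def Pairing.asm (p : Pairing d) (E : ∀ k, Matrix (Fin (d k)) (Fin (d k)) F) :
    Matrix ((k : Fin t) × Fin (d k)) ((k : Fin t) × Fin (d k)) F :=
  (Matrix.blockDiagonal' E).submatrix id p.sig

theorem Pairing.asm_apply (p : Pairing d) (E : ∀ k, Matrix (Fin (d k)) (Fin (d k)) F)
    (k l : Fin t) (a : Fin (d k)) (b : Fin (d l)) :
    p.asm E ⟨k, a⟩ ⟨l, b⟩ =
      if h : k = p.π l then E k a (Fin.cast (by rw [h, p.size]) b) else 0 := by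
  rw [Pairing.asm, Matrix.submatrix_apply]
  show Matrix.blockDiagonal' E ⟨k, a⟩ ⟨p.π l, _⟩ = _
  rw [Matrix.blockDiagonal'_apply]
  by_cases h : k = p.π l
  · subst h
    rw [dif_pos rfl, dif_pos rfl]
    rfl
  · rw [dif_neg h, dif_neg h]

theorem Pairing.mul_asm (p : Pairing d) (E : ∀ k, Matrix (Fin (d k)) (Fin (d k)) F)
    (C : Matrix ((k : Fin t) × Fin (d k)) ((k : Fin t) × Fin (d k)) F) :
    C * p.asm E = (C * Matrix.blockDiagonal' E).submatrix id p.sig := by
  ext x y
  rw [Pairing.asm, Matrix.mul_apply, Matrix.submatrix_apply, Matrix.mul_apply]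
  rfl

theorem Pairing.submatrix_mul (p : Pairing d)
    (A C : Matrix ((k : Fin t) × Fin (d k)) ((k : Fin t) × Fin (d k)) F)
    (hC : ∀ x y, C (p.sig x) (p.sig y) = C x y) :
    A.submatrix id p.sig * C = (A * C).submatrix id p.sig := by
  ext x y
  rw [Matrix.mul_apply, Matrix.submatrix_apply, Matrix.mul_apply,
    ← p.sum_sig (fun w => A (id x) w * C w (p.sig y))]
  apply Finset.sum_congr rfl
  intro z _
  rw [Matrix.submatrix_apply, hC]

/-- invariance of the assembled matrix -/
theorem Pairing.asm_invariant (p : Pairing d) (E : ∀ k, Matrix (Fin (d k)) (Fin (d k)) F) :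
    (Cfsg.jordanTypeMatrix d F)ᵀ * p.asm E * Cfsg.jordanTypeMatrix d F =
      p.asm (fun k => (Cfsg.jordanBlock (d k) F)ᵀ * E k * Cfsg.jordanBlock (d k) F) := by
  rw [p.mul_asm, p.submatrix_mul _ _ p.jordanType_sig, Pairing.asm]
  congr 1
  rw [Cfsg.jordanTypeMatrix, Matrix.blockDiagonal'_transpose, ← Matrix.blockDiagonal'_mul,
    ← Matrix.blockDiagonal'_mul]

theorem Pairing.asm_unit (p : Pairing d) (E Ei : ∀ k, Matrix (Fin (d k)) (Fin (d k)) F)
    (h1 : ∀ k, E k * Ei k = 1) (h2 : ∀ k, Ei k * E k = 1) :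
    p.asm E * (Matrix.blockDiagonal' Ei).submatrix p.sig id = 1 ∧
      (Matrix.blockDiagonal' Ei).submatrix p.sig id * p.asm E = 1 := by
  have e1 : Matrix.blockDiagonal' E * Matrix.blockDiagonal' Ei = 1 := by
    rw [← Matrix.blockDiagonal'_mul]
    simp only [h1]
    exact Matrix.blockDiagonal'_one
  have e2 : Matrix.blockDiagonal' Ei * Matrix.blockDiagonal' E = 1 := by
    rw [← Matrix.blockDiagonal'_mul]
    simp only [h2]
    exact Matrix.blockDiagonal'_one
  constructor
  · ext x y
    rw [Pairing.asm, Matrix.mul_apply]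
    simp only [Matrix.submatrix_apply, id]
    rw [p.sum_sig (fun z => Matrix.blockDiagonal' E x z * Matrix.blockDiagonal' Ei z y),
      ← Matrix.mul_apply, e1]
  · ext x y
    rw [Pairing.asm, Matrix.mul_apply]
    simp only [Matrix.submatrix_apply, id]
    rw [← Matrix.mul_apply, e2, Matrix.one_apply, Matrix.one_apply]
    simp only [p.sig_injective.eq_iff]


theorem Pairing.asm_transpose (p : Pairing d) (E : ∀ k, Matrix (Fin (d k)) (Fin (d k)) F) (ε : F)
    (hE : ∀ k (a b : Fin (d k)),
      E (p.π k) (Fin.cast (p.size k).symm b) (Fin.cast (p.size k).symm a) = ε * E k a b) :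
    (p.asm E)ᵀ = ε • p.asm E := by
  ext ⟨k, a⟩ ⟨l, b⟩
  rw [Matrix.transpose_apply, Matrix.smul_apply, p.asm_apply, p.asm_apply, smul_eq_mul]
  by_cases h : l = p.π k
  · subst h
    rw [dif_pos rfl, dif_pos (p.invol k).symm]
    have := hE k a (Fin.cast (p.size k) b)
    rw [← this]
    rfl
  · have h' : ¬ k = p.π l := by
      intro hk
      apply h
      rw [hk, p.invol]
    rw [dif_neg h, dif_neg h', mul_zero]

theorem Pairing.asm_diag (p : Pairing d) (E : ∀ k, Matrix (Fin (d k)) (Fin (d k)) F)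
    (hE : ∀ k, p.π k = k → ∀ a, E k a a = 0) (x : (k : Fin t) × Fin (d k)) :
    p.asm E x x = 0 := by
  rcases x with ⟨k, a⟩
  rw [p.asm_apply]
  by_cases h : k = p.π k
  · rw [dif_pos h]
    exact hE k h.symm a
  · rw [dif_neg h]

/-- a skew-symmetric matrix with zero diagonal is alternating -/
theorem alt_of_skew {ι : Type*} [Fintype ι] [DecidableEq ι] (M : Matrix ι ι F)
    (h1 : Mᵀ = -M) (h0 : ∀ x, M x x = 0) (v : ι → F) : v ⬝ᵥ (M *ᵥ v) = 0 := by
  have e1 : v ⬝ᵥ (M *ᵥ v) =
      ∑ q ∈ (Finset.univ : Finset ι) ×ˢ (Finset.univ : Finset ι), v q.1 * M q.1 q.2 * v q.2 := by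
    rw [Finset.sum_product]
    simp only [dotProduct, Matrix.mulVec, Finset.mul_sum, mul_assoc]
  rw [e1]
  have hskew : ∀ x y, M y x = -M x y := by
    intro x y
    have := congrFun (congrFun h1 x) y
    rwa [Matrix.transpose_apply, Matrix.neg_apply] at this
  apply Finset.sum_involution (fun q _ => (q.2, q.1))
  · intro q _
    simp only []
    rw [hskew q.1 q.2]
    ring
  · intro q _ hq hne
    apply hq
    have : q.2 = q.1 := congrArg Prod.fst hne
    rw [this, h0, mul_zero, zero_mul]
  · intro q _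
    simp
  · intro q _
    rfl

/-- an alternating matrix is skew-symmetric with zero diagonal -/
theorem skew_of_alt {ι : Type*} [Fintype ι] [DecidableEq ι] (M : Matrix ι ι F)
    (h : ∀ v : ι → F, v ⬝ᵥ (M *ᵥ v) = 0) : (∀ a, M a a = 0) ∧ ∀ a b, M b a = -M a b := by
  have hB : (Matrix.toBilin' M).IsAlt := by
    intro v
    rw [Matrix.toBilin'_apply']
    exact h v
  constructor
  · intro a
    have := hB (Pi.single a 1)
    rwa [Matrix.toBilin'_single] at this
  · intro a b
    have := hB.neg_eq (Pi.single a 1) (Pi.single b 1)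
    rw [Matrix.toBilin'_single, Matrix.toBilin'_single] at this
    exact this.symm


/-- the blocks of the transpose -/
def Pairing.tr (p : Pairing d) (E : ∀ k, Matrix (Fin (d k)) (Fin (d k)) F) :
    ∀ k, Matrix (Fin (d k)) (Fin (d k)) F :=
  fun k => Matrix.of fun a b =>
    E (p.π k) (Fin.cast (p.size k).symm b) (Fin.cast (p.size k).symm a)

theorem Pairing.asm_transpose' (p : Pairing d) (E : ∀ k, Matrix (Fin (d k)) (Fin (d k)) F) :
    (p.asm E)ᵀ = p.asm (p.tr E) := by
  ext ⟨k, a⟩ ⟨l, b⟩
  rw [Matrix.transpose_apply, p.asm_apply, p.asm_apply]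
  by_cases h : l = p.π k
  · subst h
    rw [dif_pos rfl, dif_pos (p.invol k).symm]
    rfl
  · have h' : ¬ k = p.π l := by
      intro hk
      apply h
      rw [hk, p.invol]
    rw [dif_neg h, dif_neg h']

theorem Pairing.asm_add (p : Pairing d) (E E' : ∀ k, Matrix (Fin (d k)) (Fin (d k)) F) :
    p.asm (fun k => E k + E' k) = p.asm E + p.asm E' := by
  have : (fun k => E k + E' k) = E + E' := rfl
  rw [Pairing.asm, Pairing.asm, Pairing.asm, this, Matrix.blockDiagonal'_add]
  rfl

theorem Pairing.asm_sub (p : Pairing d) (E E' : ∀ k, Matrix (Fin (d k)) (Fin (d k)) F) :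
    p.asm (fun k => E k - E' k) = p.asm E - p.asm E' := by
  have : (fun k => E k - E' k) = E - E' := rfl
  rw [Pairing.asm, Pairing.asm, Pairing.asm, this, Matrix.blockDiagonal'_sub]
  rfl

theorem fam_cast (X : ∀ n, Matrix (Fin n) (Fin n) F) {n n' : ℕ} (h : n = n') (a b : Fin n) :
    X n' (Fin.cast h a) (Fin.cast h b) = X n a b := by
  subst h
  rfl

end Cfsg.Agent.Helper17.JordanAsm
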