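import Mathlib
import Cfsg.Prelude.Def_Classical
import Cfsg.Agent.Lib.Helper17.JordanRank

/-!
# From an invariant quadratic form given by a matrix to an element of `Cfsg.isometryGroup`
(helper17)
-/

set_option autoImplicit false
set_option linter.unusedSectionVars false

namespace Cfsg.Agent.Helper17.JordanOrthFinish

open Matrix Cfsg.Agent.Helper17.JordanRank

variable {F : Type*} [Field F]

theorem quad_conj {ι : Type*} [Fintype ι] (A L : Matrix ι ι F) (v : ι → F) :
    v ⬝ᵥ ((Aᵀ * L * A) *ᵥ v) = (A *ᵥ v) ⬝ᵥ (L *ᵥ (A *ᵥ v)) := by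
  rw [← Matrix.mulVec_mulVec, ← Matrix.mulVec_mulVec, Matrix.dotProduct_mulVec,
    Matrix.vecMul_transpose]

theorem jordanTypeMatrix_sub_one_pow_sum {t : ℕ} (d : Fin t → ℕ) :
    (Cfsg.jordanTypeMatrix d F - 1) ^ (∑ k, d k) = 0 := by
  rw [jordanTypeMatrix_sub_one_pow]
  have : (fun k => (Cfsg.jordanBlock (d k) F - 1) ^ (∑ k, d k)) = 0 := by
    funext k
    ext a b
    rw [jordanBlock_sub_one_pow_apply, if_neg]
    · rfl
    · have := a.2
      have h2 : d k ≤ ∑ k, d k := Finset.single_le_sum (fun _ _ => Nat.zero_le _)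
        (Finset.mem_univ k)
      omega
  rw [this]
  exact Matrix.blockDiagonal'_zero

theorem isUnit_jordanTypeMatrix {t : ℕ} (d : Fin t → ℕ) : IsUnit (Cfsg.jordanTypeMatrix d F) := by
  have h1 : (Cfsg.jordanTypeMatrix d F - 1) ^ (∑ k, d k) = 0 :=
    jordanTypeMatrix_sub_one_pow_sum d
  have h2 : Cfsg.jordanTypeMatrix d F = 1 + (Cfsg.jordanTypeMatrix d F - 1) := by abel
  rw [h2]
  exact IsNilpotent.isUnit_one_add ⟨_, h1⟩

theorem exists_isometry_of_matrix {ι : Type*} [Fintype ι] [DecidableEq ι] {κ : Type} [Fintype κ]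
    [DecidableEq κ] (e : ι ≃ κ) (T L Mi : Matrix ι ι F) (hTu : IsUnit T)
    (hM : (L + Lᵀ) * Mi = 1)
    (hT : ∀ v : ι → F, v ⬝ᵥ ((Tᵀ * L * T - L) *ᵥ v) = 0) :
    ∃ Q : QuadraticForm F (κ → F), (QuadraticMap.polarBilin Q).Nondegenerate ∧
      ∃ A : ↥(Cfsg.isometryGroup F ⇑Q),
        ((A : Matrix.GeneralLinearGroup κ F) : Matrix κ κ F) = Matrix.reindex e e T := by
  obtain ⟨Tu, hTu⟩ := hTu
  set L' : Matrix κ κ F := L.submatrix e.symm e.symm with hL'
  set T' : Matrix κ κ F := T.submatrix e.symm e.symm with hT'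
  set Ti' : Matrix κ κ F := ((Tu⁻¹ : (Matrix ι ι F)ˣ) : Matrix ι ι F).submatrix e.symm e.symm
    with hTi'
  have h1 : T' * Ti' = 1 := by
    rw [hT', hTi', Matrix.submatrix_mul_equiv, ← hTu, Units.mul_inv, Matrix.submatrix_one_equiv]
  have h2 : Ti' * T' = 1 := mul_eq_one_comm.1 h1
  let gA : Matrix.GeneralLinearGroup κ F := ⟨T', Ti', h1, h2⟩
  let Q : QuadraticForm F (κ → F) := LinearMap.BilinMap.toQuadraticMap (Matrix.toBilin' L')
  have hQ : ∀ v, Q v = v ⬝ᵥ (L' *ᵥ v) := by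
    intro v
    show Matrix.toBilin' L' v v = _
    rw [Matrix.toBilin'_apply']
  have hsub : ∀ (D : Matrix ι ι F) (v : κ → F),
      v ⬝ᵥ (D.submatrix e.symm e.symm *ᵥ v) = (v ∘ e) ⬝ᵥ (D *ᵥ (v ∘ e)) := by
    intro D v
    rw [Matrix.submatrix_mulVec_equiv]
    simp only [dotProduct, Equiv.symm_symm]
    exact (Fintype.sum_equiv e _ _ (fun i => by simp)).symm
  refine ⟨Q, ?_, ⟨gA, ?_⟩, rfl⟩
  · have hpol : QuadraticMap.polarBilin Q = Matrix.toBilin' (L' + L'ᵀ) := by
      apply LinearMap.ext₂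
      intro x y
      rw [QuadraticMap.polarBilin_apply_apply]
      show QuadraticMap.polar (LinearMap.BilinMap.toQuadraticMap (Matrix.toBilin' L')) x y = _
      rw [LinearMap.BilinMap.polar_toQuadraticMap, Matrix.toBilin'_apply', Matrix.toBilin'_apply',
        Matrix.toBilin'_apply', Matrix.add_mulVec, dotProduct_add]
      congr 1
      conv_rhs => rw [Matrix.dotProduct_mulVec, Matrix.vecMul_transpose, dotProduct_comm]
    rw [hpol]
    apply LinearMap.BilinForm.nondegenerate_toBilin'_of_det_ne_zero'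
    have : L' + L'ᵀ = (L + Lᵀ).submatrix e.symm e.symm := by
      rw [hL']
      rfl
    rw [this, Matrix.det_submatrix_equiv_self]
    exact Matrix.det_ne_zero_of_right_inverse hM
  · intro u v
    show Q (T' *ᵥ u) = Q u
    rw [hQ, hQ, ← quad_conj]
    have e1 : T'ᵀ * L' * T' = L' + (Tᵀ * L * T - L).submatrix e.symm e.symm := by
      rw [hT', hL']
      have : (Tᵀ * L * T - L).submatrix e.symm e.symm =
          (Tᵀ * L * T).submatrix e.symm e.symm - L.submatrix e.symm e.symm := rfl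
      rw [this, ← Matrix.submatrix_mul_equiv (Tᵀ * L) T e.symm e.symm e.symm,
        ← Matrix.submatrix_mul_equiv Tᵀ L e.symm e.symm e.symm, Matrix.transpose_submatrix]
      abel
    rw [e1, Matrix.add_mulVec, dotProduct_add, hsub (Tᵀ * L * T - L), hT, add_zero]

end Cfsg.Agent.Helper17.JordanOrthFinish
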