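import Mathlib
import Cfsg.Agent.Lib.Helper17.JordanForms
import Cfsg.Agent.Lib.Helper17.JordanAsm

/-!
# Quadratic forms in characteristic two preserved by a unipotent Jordan block of even size
(helper17)
-/

set_option autoImplicit false
set_option linter.unusedSectionVars false

namespace Cfsg.Agent.Helper17.JordanQuadTwo

open Matrix Cfsg.Agent.Helper17.JordanRank Cfsg.Agent.Helper17.JordanForms
  Cfsg.Agent.Helper17.JordanAsm

variable {F : Type*} [Field F] [CharP F 2]

theorem matrix_neg_eq {ι κ : Type*} (X : Matrix ι κ F) : -X = X := by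
  ext a b
  rw [Matrix.neg_apply, CharTwo.neg_eq]

/-- in characteristic two the quadratic form of a symmetric matrix is diagonal -/
theorem char2_diag {ι : Type*} [Fintype ι] [DecidableEq ι] (D : Matrix ι ι F) (hD : Dᵀ = D)
    (x : ι → F) : x ⬝ᵥ (D *ᵥ x) = ∑ i, D i i * x i ^ 2 := by
  set D' : Matrix ι ι F := D - Matrix.diagonal (fun i => D i i) with hD'
  have h1 : D'ᵀ = -D' := by
    rw [hD', transpose_sub, hD, Matrix.diagonal_transpose]
    exact (matrix_neg_eq _).symm
  have h2 : ∀ i, D' i i = 0 := by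
    intro i
    rw [hD', Matrix.sub_apply, Matrix.diagonal_apply_eq, sub_self]
  have h3 := alt_of_skew D' h1 h2 x
  rw [hD', Matrix.sub_mulVec, dotProduct_sub, sub_eq_zero] at h3
  rw [h3]
  simp only [dotProduct, Matrix.mulVec_diagonal]
  apply Finset.sum_congr rfl
  intro i _
  ring

theorem exists_sqrt_sum [Finite F] {ι : Type*} [Fintype ι] (c : ι → F) :
    ∃ s : ι → F, ∀ x : ι → F, ∑ i, c i * x i ^ 2 = (s ⬝ᵥ x) ^ 2 := by
  have h : ∀ i, ∃ r : F, c i = r * r := fun i => isSquare_of_charTwo' (c i)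
  choose s hs using h
  refine ⟨s, fun x => ?_⟩
  have : ExpChar F 2 := ExpChar.prime Nat.prime_two
  rw [dotProduct, sum_pow_char 2]
  apply Finset.sum_congr rfl
  intro i _
  rw [hs i]
  ring

theorem vecMulVec_quad {ι : Type*} [Fintype ι] (l x : ι → F) :
    x ⬝ᵥ (Matrix.vecMulVec l l *ᵥ x) = (l ⬝ᵥ x) ^ 2 := by
  simp only [dotProduct, Matrix.mulVec, Matrix.vecMulVec_apply]
  rw [pow_two, Finset.sum_mul_sum]
  apply Finset.sum_congr rfl
  intro a _
  rw [Finset.mul_sum]
  apply Finset.sum_congr rfl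
  intro b _
  ring

theorem quad_conj {ι : Type*} [Fintype ι] (A L : Matrix ι ι F) (v : ι → F) :
    v ⬝ᵥ ((Aᵀ * L * A) *ᵥ v) = (A *ᵥ v) ⬝ᵥ (L *ᵥ (A *ᵥ v)) := by
  rw [← Matrix.mulVec_mulVec, ← Matrix.mulVec_mulVec, Matrix.dotProduct_mulVec,
    Matrix.vecMul_transpose]

/-- a quadratic form preserved by the Jordan block of even size, with invertible polar form -/
theorem exists_quad_form [Finite F] (n k : ℕ) (hnk : n = 2 * k) :
    ∃ L Gi : Matrix (Fin n) (Fin n) F, (L + Lᵀ) * Gi = 1 ∧ Gi * (L + Lᵀ) = 1 ∧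
      ∀ v : Fin n → F,
        v ⬝ᵥ (((Cfsg.jordanBlock n F)ᵀ * L * Cfsg.jordanBlock n F - L) *ᵥ v) = 0 := by
  rcases Nat.eq_zero_or_pos n with h0 | hn
  · subst h0
    refine ⟨1, 1, Subsingleton.elim _ _, Subsingleton.elim _ _, ?_⟩
    intro v
    simp [dotProduct]
  have h2 : (2 : F) = 0 := CharTwo.two_eq_zero
  obtain ⟨G, Gi, hG1, hG2, halt, hinv⟩ := exists_alt_form (F := F) n k hnk
  obtain ⟨hdiag, hskew⟩ := skew_of_alt G halt
  set JB := Cfsg.jordanBlock n F with hJB
  -- the upper triangular part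
  set L₀ : Matrix (Fin n) (Fin n) F := Matrix.of fun a b => if a < b then G a b else 0 with hL₀
  have hL₀G : L₀ + L₀ᵀ = G := by
    ext a b
    rw [Matrix.add_apply, Matrix.transpose_apply, hL₀, Matrix.of_apply, Matrix.of_apply]
    rcases lt_trichotomy a b with h | h | h
    · rw [if_pos h, if_neg (not_lt.2 h.le), add_zero]
    · subst h
      rw [if_neg (lt_irrefl _), add_zero, hdiag]
    · rw [if_neg (not_lt.2 h.le), if_pos h, zero_add, hskew a b, CharTwo.neg_eq]
  set D₀ : Matrix (Fin n) (Fin n) F := JBᵀ * L₀ * JB - L₀ with hD₀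
  have hD₀symm : D₀ᵀ = D₀ := by
    have h1 : D₀ + D₀ᵀ = 0 := by
      rw [hD₀, transpose_sub, transpose_mul, transpose_mul, transpose_transpose, ← mul_assoc]
      have : JBᵀ * L₀ * JB - L₀ + (JBᵀ * L₀ᵀ * JB - L₀ᵀ) =
          JBᵀ * (L₀ + L₀ᵀ) * JB - (L₀ + L₀ᵀ) := by
        rw [mul_add, add_mul]
        abel
      rw [this, hL₀G, hinv, sub_self]
    have h3 : D₀ᵀ = -D₀ := by
      rw [eq_neg_iff_add_eq_zero, add_comm]
      exact h1
    rw [h3, matrix_neg_eq]
  obtain ⟨s, hs⟩ := exists_sqrt_sum (F := F) (fun i => D₀ i i)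
  have hquad : ∀ x : Fin n → F, x ⬝ᵥ (D₀ *ᵥ x) = (s ⬝ᵥ x) ^ 2 := by
    intro x
    rw [char2_diag D₀ hD₀symm x, hs]
  -- the last coordinate of `s` vanishes
  let last : Fin n := ⟨n - 1, by omega⟩
  have hJBlast : JB *ᵥ (Pi.single last 1) = Pi.single last 1 := by
    ext a
    rw [Matrix.mulVec_single_one, Pi.single_apply]
    show JB a last = _
    rw [hJB, Cfsg.jordanBlock, Matrix.of_apply]
    have := a.2
    by_cases h : a = last
    · subst h
      rw [if_pos rfl, if_pos rfl]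
    · have h' : (a : ℕ) ≠ (last : ℕ) := fun h'' => h (Fin.ext h'')
      rw [if_neg h', if_neg h, if_neg]
      show ¬ (a : ℕ) = (n - 1) + 1
      omega
  have hslast : s last = 0 := by
    have h1 := hquad (Pi.single last 1)
    rw [hD₀, Matrix.sub_mulVec, dotProduct_sub, quad_conj, hJBlast, sub_self] at h1
    rw [dotProduct_single_one] at h1
    exact (pow_eq_zero_iff (by norm_num)).1 h1.symm
  -- the correcting functional
  let l : Fin n → F := fun a => if h : (a : ℕ) = 0 then 0 else s ⟨a - 1, by have := a.2; omega⟩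
  have hl : l ᵥ* (JB - 1) = s := by
    ext b
    simp only [Matrix.vecMul, dotProduct]
    have hb := b.2
    by_cases hb1 : (b : ℕ) + 1 < n
    · rw [Finset.sum_eq_single (⟨b + 1, hb1⟩ : Fin n)]
      · rw [hJB, jordanBlock_sub_one_apply, if_pos rfl, mul_one]
        simp only [l]
        rw [dif_neg (by simp)]
        congr 1
      · intro a _ ha
        rw [hJB, jordanBlock_sub_one_apply, if_neg, mul_zero]
        intro h
        exact ha (Fin.ext h)
      · intro h
        exact absurd (Finset.mem_univ _) h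
    · have hb2 : b = last := Fin.ext (by show (b : ℕ) = n - 1; omega)
      rw [hb2, hslast]
      apply Finset.sum_eq_zero
      intro a _
      rw [hJB, jordanBlock_sub_one_apply, if_neg, mul_zero]
      have := a.2
      show ¬ (a : ℕ) = (n - 1) + 1
      omega
  have hl' : ∀ v : Fin n → F, l ⬝ᵥ (JB *ᵥ v) = l ⬝ᵥ v + s ⬝ᵥ v := by
    intro v
    have : JB *ᵥ v = v + (JB - 1) *ᵥ v := by
      rw [Matrix.sub_mulVec, Matrix.one_mulVec]
      abel
    rw [this, dotProduct_add, Matrix.dotProduct_mulVec, hl]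
  set Lq : Matrix (Fin n) (Fin n) F := L₀ + Matrix.vecMulVec l l with hLq
  have hLqG : Lq + Lqᵀ = G := by
    have h1 : (Matrix.vecMulVec l l)ᵀ = Matrix.vecMulVec l l := by
      ext a b
      simp [Matrix.vecMulVec_apply, mul_comm]
    rw [hLq, transpose_add, h1, ← hL₀G]
    have : Matrix.vecMulVec l l + Matrix.vecMulVec l l = 0 := by
      rw [← two_smul F, h2, zero_smul]
    calc L₀ + Matrix.vecMulVec l l + (L₀ᵀ + Matrix.vecMulVec l l)
        = L₀ + L₀ᵀ + (Matrix.vecMulVec l l + Matrix.vecMulVec l l) := by abel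
      _ = L₀ + L₀ᵀ := by rw [this, add_zero]
  refine ⟨Lq, Gi, by rw [hLqG]; exact hG1, by rw [hLqG]; exact hG2, ?_⟩
  intro v
  have e1 : JBᵀ * Lq * JB - Lq =
      D₀ + (JBᵀ * Matrix.vecMulVec l l * JB - Matrix.vecMulVec l l) := by
    rw [hLq, hD₀, mul_add, add_mul]
    abel
  rw [e1, Matrix.add_mulVec, dotProduct_add, hquad, Matrix.sub_mulVec, dotProduct_sub, quad_conj,
    vecMulVec_quad, vecMulVec_quad, hl']
  linear_combination ((s ⬝ᵥ v) ^ 2 + (l ⬝ᵥ v) * (s ⬝ᵥ v)) * h2

end Cfsg.Agent.Helper17.JordanQuadTwo
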