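import Mathlib
import Cfsg.Prelude.Def_Classical
import Cfsg.Agent.Lib.Helper17.JordanAlt
import Cfsg.Agent.Lib.Helper17.JordanQuadTwo
import Cfsg.Agent.Lib.Helper17.JordanOrthFinish

/-!
# Unipotent Jordan types in orthogonal groups in characteristic two (helper17)
-/

set_option autoImplicit false
set_option linter.unusedSectionVars false

namespace Cfsg.Agent.Helper17.JordanOrthTwo

open Matrix Cfsg.Agent.Helper17.JordanRank Cfsg.Agent.Helper17.JordanForms
  Cfsg.Agent.Helper17.JordanAsm Cfsg.Agent.Helper17.JordanQuadTwo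
  Cfsg.Agent.Helper17.JordanOrthFinish

variable {F : Type*} [Field F]

/-- the Gram matrix of the polar form is preserved by isometries -/
theorem gram_invariant {κ : Type*} [Fintype κ] [DecidableEq κ] (Q : QuadraticForm F (κ → F))
    (A : Matrix κ κ F) (hA : ∀ v, Q (A *ᵥ v) = Q v) :
    Aᵀ * LinearMap.BilinForm.toMatrix' (QuadraticMap.polarBilin Q) * A =
      LinearMap.BilinForm.toMatrix' (QuadraticMap.polarBilin Q) := by
  set G := LinearMap.BilinForm.toMatrix' (QuadraticMap.polarBilin Q) with hG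
  have hB : ∀ x y, QuadraticMap.polarBilin Q x y = x ⬝ᵥ (G *ᵥ y) := by
    intro x y
    rw [← Matrix.toBilin'_apply', hG, Matrix.toBilin'_toMatrix']
  apply Matrix.toBilin'.injective
  apply LinearMap.ext₂
  intro x y
  rw [Matrix.toBilin'_apply', Matrix.toBilin'_apply']
  have h1 : x ⬝ᵥ ((Aᵀ * G * A) *ᵥ y) = (A *ᵥ x) ⬝ᵥ (G *ᵥ (A *ᵥ y)) := by
    rw [← Matrix.mulVec_mulVec, ← Matrix.mulVec_mulVec, Matrix.dotProduct_mulVec,
      Matrix.vecMul_transpose]
  rw [h1, ← hB, ← hB, QuadraticMap.polarBilin_apply_apply, QuadraticMap.polarBilin_apply_apply,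
    QuadraticMap.polar, QuadraticMap.polar, ← Matrix.mulVec_add, hA, hA, hA]

/-- necessity of the parity condition, characteristic two -/
theorem even_card_of_isometry [CharP F 2] {κ : Type} [Fintype κ] [DecidableEq κ] {t : ℕ}
    (d : Fin t → ℕ) (Q : QuadraticForm F (κ → F))
    (hnd : (QuadraticMap.polarBilin Q).Nondegenerate)
    (e : ((k : Fin t) × Fin (d k)) ≃ κ) (A : ↥(Cfsg.isometryGroup F ⇑Q))
    (hc : IsConj (Matrix.reindex e e (Cfsg.jordanTypeMatrix d F))
      ((A : Matrix.GeneralLinearGroup κ F) : Matrix κ κ F))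
    (j : ℕ) (hj : Odd j) : Even (Finset.univ.filter (fun k : Fin t => d k = j)).card := by
  set G := LinearMap.BilinForm.toMatrix' (QuadraticMap.polarBilin Q) with hG
  have hB : ∀ x y, QuadraticMap.polarBilin Q x y = x ⬝ᵥ (G *ᵥ y) := by
    intro x y
    rw [← Matrix.toBilin'_apply', hG, Matrix.toBilin'_toMatrix']
  have hdet : G.det ≠ 0 := by
    have h1 : (Matrix.toBilin' G).Nondegenerate := by
      rw [hG, Matrix.toBilin'_toMatrix']
      exact hnd
    exact LinearMap.BilinForm.nondegenerate_toBilin'_iff_det_ne_zero.1 h1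
  have hGu : IsUnit G.det := isUnit_iff_ne_zero.2 hdet
  have hA : ∀ v, Q (((A : Matrix.GeneralLinearGroup κ F) : Matrix κ κ F) *ᵥ v) = Q v := by
    intro v
    exact A.2 v v
  have halt : ∀ v : κ → F, v ⬝ᵥ (G *ᵥ v) = 0 := by
    intro v
    rw [← hB, QuadraticMap.polarBilin_apply_apply, QuadraticMap.polar_self, two_smul]
    exact CharTwo.add_self_eq_zero _
  exact JordanAlt.even_card_of_isConj d e G G⁻¹ _ (Matrix.mul_nonsing_inv G hGu)
    (gram_invariant Q _ hA) halt hc j hj

/-- an invariant quadratic form, in characteristic two, for a Jordan type whose odd sizes have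
even multiplicity -/
theorem exists_quad_invariant [CharP F 2] [Finite F] {t : ℕ} (d : Fin t → ℕ)
    (hpar : ∀ j : ℕ, Odd j → Even (Finset.univ.filter (fun k : Fin t => d k = j)).card) :
    ∃ L Mi : Matrix ((k : Fin t) × Fin (d k)) ((k : Fin t) × Fin (d k)) F,
      (L + Lᵀ) * Mi = 1 ∧
      ∀ v, v ⬝ᵥ (((Cfsg.jordanTypeMatrix d F)ᵀ * L * Cfsg.jordanTypeMatrix d F - L) *ᵥ v) = 0 := by
  classical
  have hq : ∀ n, ∃ L Gi : Matrix (Fin n) (Fin n) F, Even n →
      ((L + Lᵀ) * Gi = 1 ∧ Gi * (L + Lᵀ) = 1 ∧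
      ∀ v : Fin n → F,
        v ⬝ᵥ (((Cfsg.jordanBlock n F)ᵀ * L * Cfsg.jordanBlock n F - L) *ᵥ v) = 0) := by
    intro n
    by_cases hn : Even n
    · obtain ⟨k, hk⟩ := hn
      obtain ⟨L, Gi, h⟩ := exists_quad_form (F := F) n k (by omega)
      exact ⟨L, Gi, fun _ => h⟩
    · exact ⟨0, 0, fun h => absurd h hn⟩
  choose Lq Gq hLq using hq
  have hg : ∀ n, ∃ g gi : Matrix (Fin n) (Fin n) F, g * gi = 1 ∧ gi * g = 1 ∧
      (Cfsg.jordanBlock n F)ᵀ * g * Cfsg.jordanBlock n F = g := fun n => exists_inv_form n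
  choose gg ggi hg1 hg2 hg3 using hg
  obtain ⟨π, hπ1, hπ2, hπ3⟩ := exists_pairing d Odd hpar
  let p : Pairing d := ⟨π, hπ1, hπ2⟩
  have hev : ∀ k, π k = k → Even (d k) := fun k hk => Nat.not_odd_iff_even.1 ((hπ3 k).1 hk)
  let E' : ∀ k, Matrix (Fin (d k)) (Fin (d k)) F :=
    fun k => if k < π k then gg (d k) else if k = π k then Lq (d k) else 0
  -- the polar form
  let Es : ∀ k, Matrix (Fin (d k)) (Fin (d k)) F :=
    fun k => if k < π k then gg (d k) else if k = π k then Lq (d k) + (Lq (d k))ᵀ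
      else (gg (d k))ᵀ
  let Ei : ∀ k, Matrix (Fin (d k)) (Fin (d k)) F :=
    fun k => if k < π k then ggi (d k) else if k = π k then Gq (d k) else (ggi (d k))ᵀ
  have hEs : (fun k => E' k + p.tr E' k) = Es := by
    funext k
    ext a b
    rw [Matrix.add_apply]
    show E' k a b + E' (π k) (Fin.cast (hπ2 k).symm b) (Fin.cast (hπ2 k).symm a) = Es k a b
    rcases lt_trichotomy k (π k) with h | h | h
    · have h1 : ¬ π k < π (π k) := by rw [hπ1]; exact not_lt.2 h.le
      have h2 : ¬ π k = π (π k) := by rw [hπ1]; exact h.ne'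
      simp only [E', Es, if_pos h, if_neg h1, if_neg h2, Matrix.zero_apply, add_zero]
    · have h1 : ¬ π k < π (π k) := by rw [hπ1]; exact not_lt.2 h.le
      have h2 : π k = π (π k) := by rw [hπ1]; exact h.symm
      have h3 : ¬ k < π k := not_lt.2 h.symm.le
      simp only [E', Es, if_neg h1, if_pos h2, if_neg h3, if_pos h]
      rw [fam_cast Lq, Matrix.add_apply, Matrix.transpose_apply]
    · have h1 : π k < π (π k) := by rw [hπ1]; exact h
      have h3 : ¬ k < π k := not_lt.2 h.le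
      have h4 : ¬ k = π k := h.ne'
      simp only [E', Es, if_pos h1, if_neg h3, if_neg h4, Matrix.zero_apply, zero_add]
      rw [fam_cast gg, Matrix.transpose_apply]
  have hEs1 : ∀ k, Es k * Ei k = 1 := by
    intro k
    rcases lt_trichotomy k (π k) with h | h | h
    · simp only [Es, Ei, if_pos h]
      exact hg1 _
    · have h3 : ¬ k < π k := not_lt.2 h.symm.le
      simp only [Es, Ei, if_neg h3, if_pos h]
      exact (hLq (d k) (hev k h.symm)).1
    · have h3 : ¬ k < π k := not_lt.2 h.le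
      have h4 : ¬ k = π k := h.ne'
      simp only [Es, Ei, if_neg h3, if_neg h4]
      rw [← transpose_mul, hg2, transpose_one]
  have hEs2 : ∀ k, Ei k * Es k = 1 := fun k => mul_eq_one_comm.1 (hEs1 k)
  -- the defect of invariance
  let X : ∀ n, Matrix (Fin n) (Fin n) F :=
    fun n => (Cfsg.jordanBlock n F)ᵀ * Lq n * Cfsg.jordanBlock n F - Lq n
  let Dk : ∀ k, Matrix (Fin (d k)) (Fin (d k)) F := fun k => if k = π k then X (d k) else 0
  have hDk : (fun k => (Cfsg.jordanBlock (d k) F)ᵀ * E' k * Cfsg.jordanBlock (d k) F - E' k)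
      = Dk := by
    funext k
    rcases lt_trichotomy k (π k) with h | h | h
    · simp only [E', Dk, if_pos h, if_neg h.ne]
      rw [hg3, sub_self]
    · have h3 : ¬ k < π k := not_lt.2 h.symm.le
      simp only [E', Dk, if_neg h3, if_pos h]
      rfl
    · have h3 : ¬ k < π k := not_lt.2 h.le
      have h4 : ¬ k = π k := h.ne'
      simp only [E', Dk, if_neg h3, if_neg h4]
      simp
  have hX : ∀ k, π k = k → (∀ a, X (d k) a a = 0) ∧ ∀ a b, X (d k) b a = -X (d k) a b :=
    fun k hk => skew_of_alt _ (hLq (d k) (hev k hk)).2.2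
  have hD1 : ∀ k (a b : Fin (d k)),
      Dk (p.π k) (Fin.cast (p.size k).symm b) (Fin.cast (p.size k).symm a) = (-1 : F) * Dk k a b := by
    intro k a b
    show Dk (π k) (Fin.cast (hπ2 k).symm b) (Fin.cast (hπ2 k).symm a) = (-1 : F) * Dk k a b
    by_cases h : k = π k
    · have h2 : π k = π (π k) := by rw [hπ1]; exact h.symm
      simp only [Dk, if_pos h2, if_pos h]
      rw [fam_cast X, (hX k h.symm).2 a b]
      ring
    · have h2 : ¬ π k = π (π k) := by rw [hπ1]; exact fun h' => h h'.symm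
      simp only [Dk, if_neg h2, if_neg h, Matrix.zero_apply, mul_zero]
  have hD2 : ∀ k, p.π k = k → ∀ a, Dk k a a = 0 := by
    intro k hk a
    have hk' : π k = k := hk
    simp only [Dk, if_pos hk'.symm]
    exact (hX k hk').1 a
  obtain ⟨h1, -⟩ := p.asm_unit Es Ei hEs1 hEs2
  refine ⟨p.asm E', (Matrix.blockDiagonal' Ei).submatrix p.sig id, ?_, ?_⟩
  · rw [p.asm_transpose', ← p.asm_add, hEs]
    exact h1
  · rw [p.asm_invariant, ← p.asm_sub, hDk]
    apply alt_of_skew
    · rw [p.asm_transpose Dk (-1) hD1, neg_one_smul]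
    · exact p.asm_diag Dk hD2

/-- sufficiency of the parity condition, characteristic two -/
theorem exists_isometry [CharP F 2] [Finite F] {t : ℕ} (d : Fin t → ℕ) {κ : Type} [Fintype κ]
    [DecidableEq κ] (e : ((k : Fin t) × Fin (d k)) ≃ κ)
    (hpar : ∀ j : ℕ, Odd j → Even (Finset.univ.filter (fun k : Fin t => d k = j)).card) :
    ∃ Q : QuadraticForm F (κ → F), (QuadraticMap.polarBilin Q).Nondegenerate ∧
      ∃ A : ↥(Cfsg.isometryGroup F ⇑Q),
        IsConj (Matrix.reindex e e (Cfsg.jordanTypeMatrix d F))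
          ((A : Matrix.GeneralLinearGroup κ F) : Matrix κ κ F) := by
  obtain ⟨L, Mi, h1, h2⟩ := exists_quad_invariant (F := F) d hpar
  obtain ⟨Q, hQ, A, hA⟩ := exists_isometry_of_matrix e (Cfsg.jordanTypeMatrix d F) L Mi
    (isUnit_jordanTypeMatrix d) h1 h2
  exact ⟨Q, hQ, A, by rw [hA]⟩

end Cfsg.Agent.Helper17.JordanOrthTwo
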