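import Mathlib
import Cfsg.Prelude.Def_Classical
import Cfsg.Agent.Lib.Helper11.AltForm
import Cfsg.Agent.Lib.Helper17.JordanAlt
import Cfsg.Agent.Lib.Helper17.JordanAsm
import Cfsg.Agent.Lib.Helper17.JordanOrthFinish
import Cfsg.Agent.Lib.Helper17.JordanOrthTwo

/-!
# Unipotent Jordan types in orthogonal groups in odd characteristic (helper17)
-/

set_option autoImplicit false
set_option linter.unusedSectionVars false

namespace Cfsg.Agent.Helper17.JordanOrthOdd

open Matrix Cfsg.Agent.Helper17.JordanRank Cfsg.Agent.Helper17.JordanForms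
  Cfsg.Agent.Helper17.JordanAsm Cfsg.Agent.Helper17.JordanOrthFinish

variable {F : Type*} [Field F]

/-! ### The socle of a Jordan block -/

theorem isUnit_jordanBlock (n : ℕ) : IsUnit (Cfsg.jordanBlock n F) := by
  have h : Cfsg.jordanBlock n F = 1 + (Cfsg.jordanBlock n F - 1) := by abel
  rw [h]
  exact IsNilpotent.isUnit_one_add ⟨n, jordanBlock_sub_one_pow_self n⟩

/-- a nonzero subspace invariant under the Jordan block contains the last basis vector -/
theorem last_mem_ker (n : ℕ) (hn : 0 < n) (K : Matrix (Fin n) (Fin n) F)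
    (hK : ∀ x : Fin n → F, K *ᵥ x = 0 → K *ᵥ (Cfsg.jordanBlock n F *ᵥ x) = 0)
    (v : Fin n → F) (hv : v ≠ 0) (hKv : K *ᵥ v = 0) :
    K *ᵥ (Pi.single (⟨n - 1, by omega⟩ : Fin n) 1) = 0 := by
  set N := Cfsg.jordanBlock n F - 1 with hN
  have hKN : ∀ x : Fin n → F, K *ᵥ x = 0 → K *ᵥ (N *ᵥ x) = 0 := by
    intro x hx
    rw [hN, Matrix.sub_mulVec, Matrix.one_mulVec, Matrix.mulVec_sub, hK x hx, hx, sub_zero]
  have hNi : ∀ i : ℕ, K *ᵥ ((N ^ i) *ᵥ v) = 0 := by
    intro i
    induction i with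
    | zero => rw [pow_zero, Matrix.one_mulVec]; exact hKv
    | succ i ih =>
      rw [pow_succ', ← Matrix.mulVec_mulVec]
      exact hKN _ ih
  have hex : ∃ m, ∃ h : m < n, v ⟨m, h⟩ ≠ 0 := by
    obtain ⟨b, hb⟩ := Function.ne_iff.1 hv
    exact ⟨b, b.2, hb⟩
  classical
  obtain ⟨hm₀, hvm₀⟩ := Nat.find_spec hex
  have hmin : ∀ b : Fin n, (b : ℕ) < Nat.find hex → v b = 0 := by
    intro b hb
    by_contra hne
    exact Nat.find_min hex hb ⟨b.2, hne⟩
  set m₀ := Nat.find hex with hm₀def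
  have key : (N ^ (n - 1 - m₀)) *ᵥ v = v ⟨m₀, hm₀⟩ • Pi.single (⟨n - 1, by omega⟩ : Fin n) 1 := by
    ext a
    simp only [Matrix.mulVec, dotProduct, Pi.smul_apply, smul_eq_mul]
    have ha := a.2
    by_cases hlast : (a : ℕ) = n - 1
    · have ha' : a = ⟨n - 1, by omega⟩ := Fin.ext hlast
      rw [ha', Pi.single_eq_same, mul_one]
      rw [Finset.sum_eq_single (⟨m₀, hm₀⟩ : Fin n)]
      · rw [hN, jordanBlock_sub_one_pow_apply, if_pos (by simp only []; omega), one_mul]
      · intro b _ hb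
        rw [hN, jordanBlock_sub_one_pow_apply, if_neg, zero_mul]
        simp only []
        intro h
        apply hb
        apply Fin.ext
        simp only []
        omega
      · intro h
        exact absurd (Finset.mem_univ _) h
    · have ha' : a ≠ ⟨n - 1, by omega⟩ := fun h => hlast (congrArg Fin.val h)
      rw [Pi.single_eq_of_ne ha', mul_zero]
      apply Finset.sum_eq_zero
      intro b _
      rw [hN, jordanBlock_sub_one_pow_apply]
      by_cases h : (a : ℕ) = (b : ℕ) + (n - 1 - m₀)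
      · rw [if_pos h, one_mul]
        apply hmin
        omega
      · rw [if_neg h, zero_mul]
  have h1 := hNi (n - 1 - m₀)
  rw [key, Matrix.mulVec_smul] at h1
  have h2 := congrArg (fun w => (v ⟨m₀, hm₀⟩)⁻¹ • w) h1
  simp only [smul_zero] at h2
  rwa [smul_smul, inv_mul_cancel₀ hvm₀, one_smul] at h2

/-- a symmetric invertible invariant form of a Jordan block of odd size, characteristic not two -/
theorem exists_symm_form (h2 : (2 : F) ≠ 0) (n : ℕ) (hn : Odd n) :
    ∃ S Si : Matrix (Fin n) (Fin n) F, S * Si = 1 ∧ Si * S = 1 ∧ Sᵀ = S ∧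
      (Cfsg.jordanBlock n F)ᵀ * S * Cfsg.jordanBlock n F = S := by
  have hn0 : 0 < n := hn.pos
  obtain ⟨g, gi, hg1, hg2, hg3⟩ := exists_inv_form (F := F) n
  set JB := Cfsg.jordanBlock n F with hJB
  have hgT : JBᵀ * gᵀ * JB = gᵀ := by
    have := congrArg Matrix.transpose hg3
    rw [transpose_mul, transpose_mul, transpose_transpose, ← mul_assoc] at this
    exact this
  have hJBu : IsUnit JBᵀ := by
    rw [Matrix.isUnit_transpose]
    exact isUnit_jordanBlock n
  have hker : ∀ K : Matrix (Fin n) (Fin n) F, JBᵀ * K * JB = K →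
      ∀ x : Fin n → F, K *ᵥ x = 0 → K *ᵥ (JB *ᵥ x) = 0 := by
    intro K hK x hx
    obtain ⟨U, hU⟩ := hJBu
    have h1 : JBᵀ *ᵥ (K *ᵥ (JB *ᵥ x)) = 0 := by
      rw [Matrix.mulVec_mulVec, Matrix.mulVec_mulVec, hK, hx]
    have h3 := congrArg (fun w => ((U⁻¹ : (Matrix (Fin n) (Fin n) F)ˣ) : Matrix (Fin n) (Fin n) F) *ᵥ w) h1
    simp only [Matrix.mulVec_mulVec, Matrix.mulVec_zero] at h3
    rw [← hU, ← mul_assoc, Units.inv_mul, one_mul, ← Matrix.mulVec_mulVec] at h3
    exact h3
  set S := g + gᵀ with hS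
  set A := g - gᵀ with hA
  have hSinv : JBᵀ * S * JB = S := by
    rw [hS, mul_add, add_mul, hg3, hgT]
  have hAinv : JBᵀ * A * JB = A := by
    rw [hA, mul_sub, sub_mul, hg3, hgT]
  have hAalt : ∀ v : Fin n → F, v ⬝ᵥ (A *ᵥ v) = 0 := by
    intro v
    rw [hA, Matrix.sub_mulVec, dotProduct_sub, sub_eq_zero]
    conv_rhs => rw [Matrix.dotProduct_mulVec, Matrix.vecMul_transpose, dotProduct_comm]
  have hAdet : A.det = 0 := by
    by_contra hne
    have hu : IsUnit A := (Matrix.isUnit_iff_isUnit_det _).2 (isUnit_iff_ne_zero.2 hne)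
    have h1 := Matrix.rank_of_isUnit A hu
    rw [Fintype.card_fin] at h1
    have h3 := Cfsg.Agent.Helper11.even_rank_of_alternating A hAalt
    rw [h1] at h3
    exact (Nat.not_even_iff_odd.2 hn) h3
  have hSdet : S.det ≠ 0 := by
    intro hdet
    obtain ⟨v, hv, hSv⟩ := Matrix.exists_mulVec_eq_zero_iff.2 hdet
    obtain ⟨w, hw, hAw⟩ := Matrix.exists_mulVec_eq_zero_iff.2 hAdet
    have e1 := last_mem_ker n hn0 S (hker S hSinv) v hv hSv
    have e2 := last_mem_ker n hn0 A (hker A hAinv) w hw hAw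
    set el : Fin n → F := Pi.single (⟨n - 1, by omega⟩ : Fin n) 1 with hel
    have e3 : (S + A) *ᵥ el = 0 := by rw [Matrix.add_mulVec, e1, e2, add_zero]
    have e4 : S + A = (2 : F) • g := by
      rw [hS, hA, two_smul]
      abel
    rw [e4, Matrix.smul_mulVec] at e3
    have e5 : g *ᵥ el = 0 := by
      have := congrArg (fun w => (2 : F)⁻¹ • w) e3
      simpa [smul_smul, inv_mul_cancel₀ h2] using this
    have e6 : el = 0 := by
      have := congrArg (fun w => gi *ᵥ w) e5
      simpa [Matrix.mulVec_mulVec, hg2] using this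
    have e7 := congrFun e6 ⟨n - 1, by omega⟩
    rw [hel, Pi.single_eq_same] at e7
    exact one_ne_zero e7
  have hSu : IsUnit S.det := isUnit_iff_ne_zero.2 hSdet
  refine ⟨S, S⁻¹, Matrix.mul_nonsing_inv S hSu, Matrix.nonsing_inv_mul S hSu, ?_, hSinv⟩
  rw [hS, transpose_add, transpose_transpose, add_comm]


/-! ### Necessity -/

/-- for a unipotent isometry of a symmetric form in odd characteristic, the odd powers of `u - 1`
have even rank -/
theorem even_rank_sub_one_pow_odd (h2 : (2 : F) ≠ 0) {ι : Type*} [Fintype ι] [DecidableEq ι]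
    (G Gi u : Matrix ι ι F) (hG : G * Gi = 1) (hGs : Gᵀ = G) (hinv : uᵀ * G * u = G)
    (hnil : IsNilpotent (u - 1)) (i : ℕ) (hi : Odd i) : Even ((u - 1) ^ i).rank := by
  have hGi : Gi * G = 1 := mul_eq_one_comm.1 hG
  set ui : Matrix ι ι F := Gi * uᵀ * G with hui
  have hu' : ui * u = 1 := by
    rw [hui, mul_assoc, mul_assoc, ← mul_assoc uᵀ, hinv, hGi]
  have hu : u * ui = 1 := mul_eq_one_comm.1 hu'
  have ha : uᵀ * G = G * ui := JordanAlt.transpose_mul G u ui hu hinv hu'
  have hb : uiᵀ * G = G * u := by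
    have := congrArg Matrix.transpose ha
    rw [transpose_mul, transpose_mul, transpose_transpose, hGs] at this
    exact this.symm
  set τ : Matrix ι ι F := u - ui with hτ
  have hτG : τᵀ * G = -(G * τ) := by
    rw [hτ, transpose_sub, sub_mul, ha, hb, mul_sub]
    abel
  have hτi : ∀ s : ℕ, (τᵀ) ^ s * G = (-1 : F) ^ s • (G * τ ^ s) := by
    intro s
    induction s with
    | zero => simp
    | succ s ih =>
      rw [pow_succ, mul_assoc, hτG, mul_neg, ← mul_assoc, ih, pow_succ, pow_succ, Matrix.smul_mul,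
        mul_assoc, mul_neg_one, neg_smul]
  have hskew : (G * τ ^ i)ᵀ = -(G * τ ^ i) := by
    rw [transpose_mul, hGs, transpose_pow, hτi, hi.neg_one_pow, neg_one_smul]
  have hdiag : ∀ a, (G * τ ^ i) a a = 0 := by
    intro a
    have := congrFun (congrFun hskew a) a
    rw [Matrix.transpose_apply, Matrix.neg_apply] at this
    have h3 : (2 : F) * (G * τ ^ i) a a = 0 := by linear_combination this
    rcases mul_eq_zero.1 h3 with h | h
    · exact absurd h h2
    · exact h
  have heven := Cfsg.Agent.Helper11.even_rank_of_alternating _ (alt_of_skew _ hskew hdiag)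
  have hGu : IsUnit G.det := (Matrix.isUnit_iff_isUnit_det _).1 (IsUnit.of_mul_eq_one _ hG)
  rw [Matrix.rank_mul_eq_right_of_isUnit_det _ _ hGu] at heven
  -- `τ = ui (u + 1) (u - 1)`
  have hc0 : Commute ui u := by rw [Commute, SemiconjBy, hu, hu']
  set W : Matrix ι ι F := ui * (u + 1) with hW
  have hτW : τ = W * (u - 1) := by
    rw [hW, hτ, mul_assoc, add_mul, mul_sub, mul_sub, one_mul, mul_one, mul_one]
    have : u * u - u + (u - 1) = u * u - 1 := by abel
    rw [this, mul_sub, ← mul_assoc, hu', one_mul, mul_one]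
  have hcW : Commute W (u - 1) := by
    have h1 : Commute ui (u - 1) := hc0.sub_right (Commute.one_right _)
    have h3 : Commute (u + 1) (u - 1) :=
      ((Commute.refl u).add_left (Commute.one_left u)).sub_right (Commute.one_right _)
    exact h1.mul_left h3
  have hWu : IsUnit W := by
    apply IsUnit.mul (IsUnit.of_mul_eq_one _ hu')
    have h1 : u + 1 = (2 : F) • (1 : Matrix ι ι F) + (u - 1) := by
      rw [two_smul]
      abel
    rw [h1]
    apply hnil.isUnit_add_left_of_commute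
    · exact (isUnit_one.smul (Units.mk0 (2 : F) h2))
    · exact (Commute.one_right _).smul_right _
  have hWdet : IsUnit (W ^ i).det :=
    (Matrix.isUnit_iff_isUnit_det _).1 (hWu.pow i)
  rw [hτW, hcW.mul_pow, Matrix.rank_mul_eq_right_of_isUnit_det _ _ hWdet] at heven
  exact heven

/-- necessity of the parity condition, odd characteristic -/
theorem even_card_of_isometry (h2 : (2 : F) ≠ 0) {κ : Type} [Fintype κ] [DecidableEq κ] {t : ℕ}
    (d : Fin t → ℕ) (Q : QuadraticForm F (κ → F))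
    (hnd : (QuadraticMap.polarBilin Q).Nondegenerate)
    (e : ((k : Fin t) × Fin (d k)) ≃ κ) (A : ↥(Cfsg.isometryGroup F ⇑Q))
    (hc : IsConj (Matrix.reindex e e (Cfsg.jordanTypeMatrix d F))
      ((A : Matrix.GeneralLinearGroup κ F) : Matrix κ κ F))
    (j : ℕ) (hj : Even j) (hj0 : 0 < j) :
    Even (Finset.univ.filter (fun k : Fin t => d k = j)).card := by
  set G := LinearMap.BilinForm.toMatrix' (QuadraticMap.polarBilin Q) with hG
  set u : Matrix κ κ F := ((A : Matrix.GeneralLinearGroup κ F) : Matrix κ κ F) with hu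
  have hdet : G.det ≠ 0 := by
    have h1 : (Matrix.toBilin' G).Nondegenerate := by
      rw [hG, Matrix.toBilin'_toMatrix']
      exact hnd
    exact LinearMap.BilinForm.nondegenerate_toBilin'_iff_det_ne_zero.1 h1
  have hGu : IsUnit G.det := isUnit_iff_ne_zero.2 hdet
  have hA : ∀ v, Q (u *ᵥ v) = Q v := by
    intro v
    exact A.2 v v
  have hGs : Gᵀ = G := by
    ext a b
    rw [Matrix.transpose_apply, hG, LinearMap.BilinForm.toMatrix'_apply,
      LinearMap.BilinForm.toMatrix'_apply, QuadraticMap.polarBilin_apply_apply,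
      QuadraticMap.polarBilin_apply_apply, QuadraticMap.polar_comm]
  obtain ⟨c, hc⟩ := hc
  have h1 : (c : Matrix κ κ F) * (Matrix.reindex e e (Cfsg.jordanTypeMatrix d F) - 1) =
      (u - 1) * (c : Matrix κ κ F) := by
    rw [mul_sub, sub_mul, mul_one, one_mul, hc.eq]
  have hpow : ∀ i : ℕ, (c : Matrix κ κ F) *
      (Matrix.reindex e e (Cfsg.jordanTypeMatrix d F) - 1) ^ i = (u - 1) ^ i * (c : Matrix κ κ F) := by
    intro i
    induction i with
    | zero => simp
    | succ i ih => rw [pow_succ, ← mul_assoc, ih, mul_assoc, h1, ← mul_assoc, ← pow_succ]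
  have hcu : IsUnit (c : Matrix κ κ F).det := (Matrix.isUnit_iff_isUnit_det _).1 c.isUnit
  have hrank : ∀ i : ℕ, ((u - 1) ^ i).rank = ((Cfsg.jordanTypeMatrix d F - 1) ^ i).rank := by
    intro i
    have h3 := congrArg Matrix.rank (hpow i)
    rw [Matrix.rank_mul_eq_right_of_isUnit_det _ _ hcu,
      Matrix.rank_mul_eq_left_of_isUnit_det _ _ hcu] at h3
    rw [← h3, Matrix.reindex_apply, JordanForms.submatrix_sub_one_pow, Matrix.rank_submatrix]
  have hnil : IsNilpotent (u - 1) := by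
    refine ⟨∑ k, d k, ?_⟩
    have h3 := hpow (∑ k, d k)
    rw [Matrix.reindex_apply, JordanForms.submatrix_sub_one_pow,
      jordanTypeMatrix_sub_one_pow_sum, Matrix.submatrix_zero] at h3
    have h4 : (u - 1) ^ (∑ k, d k) * (c : Matrix κ κ F) = 0 := by
      rw [← h3]
      exact mul_zero _
    exact (c.isUnit.mul_left_eq_zero).1 h4
  obtain ⟨s, hs⟩ := hj
  have h4 := rank_add_rank (F := F) d j (by omega)
  rw [← hrank, ← hrank, ← hrank] at h4
  obtain ⟨a, ha⟩ := even_rank_sub_one_pow_odd h2 G G⁻¹ u (Matrix.mul_nonsing_inv G hGu) hGs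
    (JordanOrthTwo.gram_invariant Q _ hA) hnil (j - 1) ⟨s - 1, by omega⟩
  obtain ⟨b, hb⟩ := even_rank_sub_one_pow_odd h2 G G⁻¹ u (Matrix.mul_nonsing_inv G hGu) hGs
    (JordanOrthTwo.gram_invariant Q _ hA) hnil (j + 1) ⟨s, by omega⟩
  rw [ha, hb] at h4
  exact ⟨a + b - ((u - 1) ^ j).rank, by omega⟩


/-! ### Sufficiency -/

/-- an invertible symmetric invariant matrix for a Jordan type whose even sizes have even
multiplicity, odd characteristic -/
theorem exists_symm_invariant (h2 : (2 : F) ≠ 0) {t : ℕ} (d : Fin t → ℕ) (hd : ∀ k, 1 ≤ d k)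
    (hpar : ∀ j : ℕ, Even j → 0 < j →
      Even (Finset.univ.filter (fun k : Fin t => d k = j)).card) :
    ∃ M Mi : Matrix ((k : Fin t) × Fin (d k)) ((k : Fin t) × Fin (d k)) F,
      M * Mi = 1 ∧ Mᵀ = M ∧
      (Cfsg.jordanTypeMatrix d F)ᵀ * M * Cfsg.jordanTypeMatrix d F = M := by
  classical
  have hg : ∀ n, ∃ g gi : Matrix (Fin n) (Fin n) F, g * gi = 1 ∧ gi * g = 1 ∧
      (Odd n → gᵀ = g) ∧
      (Cfsg.jordanBlock n F)ᵀ * g * Cfsg.jordanBlock n F = g := by
    intro n
    by_cases hn : Odd n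
    · obtain ⟨S, Si, h1, h3, h4, h5⟩ := exists_symm_form h2 n hn
      exact ⟨S, Si, h1, h3, fun _ => h4, h5⟩
    · obtain ⟨g, gi, h1, h3, h4⟩ := exists_inv_form (F := F) n
      exact ⟨g, gi, h1, h3, fun h => absurd h hn, h4⟩
  choose gg ggi hg1 hg2 hg3 hg4 using hg
  obtain ⟨π, hπ1, hπ2, hπ3⟩ := exists_pairing d (fun j => Even j ∧ 0 < j)
    (fun j hj => hpar j hj.1 hj.2)
  let p : Pairing d := ⟨π, hπ1, hπ2⟩
  have hodd : ∀ k, π k = k → Odd (d k) := by
    intro k hk
    have h := (hπ3 k).1 hk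
    rw [not_and] at h
    exact Nat.not_even_iff_odd.1 (fun he => h he (hd k))
  let E : ∀ k, Matrix (Fin (d k)) (Fin (d k)) F :=
    fun k => if k ≤ π k then gg (d k) else (gg (d k))ᵀ
  let Ei : ∀ k, Matrix (Fin (d k)) (Fin (d k)) F :=
    fun k => if k ≤ π k then ggi (d k) else (ggi (d k))ᵀ
  have hE1 : ∀ k, E k * Ei k = 1 := by
    intro k
    by_cases h : k ≤ π k
    · simp only [E, Ei, if_pos h]
      exact hg1 _
    · simp only [E, Ei, if_neg h]
      rw [← transpose_mul, hg2, transpose_one]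
  have hE2 : ∀ k, Ei k * E k = 1 := fun k => mul_eq_one_comm.1 (hE1 k)
  have hE3 : ∀ k, (Cfsg.jordanBlock (d k) F)ᵀ * E k * Cfsg.jordanBlock (d k) F = E k := by
    intro k
    by_cases h : k ≤ π k
    · simp only [E, if_pos h]
      exact hg4 _
    · simp only [E, if_neg h]
      have := congrArg Matrix.transpose (hg4 (d k))
      rw [transpose_mul, transpose_mul, transpose_transpose, ← mul_assoc] at this
      exact this
  have hE4 : ∀ k (a b : Fin (d k)),
      E (p.π k) (Fin.cast (p.size k).symm b) (Fin.cast (p.size k).symm a) = (1 : F) * E k a b := by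
    intro k a b
    show E (π k) (Fin.cast (hπ2 k).symm b) (Fin.cast (hπ2 k).symm a) = (1 : F) * E k a b
    rw [one_mul]
    rcases lt_trichotomy k (π k) with h | h | h
    · have h1 : ¬ π k ≤ π (π k) := by rw [hπ1]; exact not_le.2 h
      simp only [E, if_neg h1, if_pos h.le]
      rw [Matrix.transpose_apply, fam_cast gg]
    · have h1 : π k ≤ π (π k) := by rw [hπ1]; exact h.symm.le
      simp only [E, if_pos h1, if_pos h.le]
      rw [fam_cast gg]
      have := congrFun (congrFun (hg3 (d k) (hodd k h.symm)) a) b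
      rw [Matrix.transpose_apply] at this
      exact this
    · have h1 : π k ≤ π (π k) := by rw [hπ1]; exact h.le
      simp only [E, if_pos h1, if_neg (not_le.2 h)]
      rw [Matrix.transpose_apply, fam_cast gg]
  obtain ⟨h1, -⟩ := p.asm_unit E Ei hE1 hE2
  refine ⟨p.asm E, (Matrix.blockDiagonal' Ei).submatrix p.sig id, h1, ?_, ?_⟩
  · rw [p.asm_transpose E 1 hE4, one_smul]
  · rw [p.asm_invariant]
    congr 1
    funext k
    exact hE3 k

/-- sufficiency of the parity condition, odd characteristic -/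
theorem exists_isometry (h2 : (2 : F) ≠ 0) {t : ℕ} (d : Fin t → ℕ) (hd : ∀ k, 1 ≤ d k)
    {κ : Type} [Fintype κ] [DecidableEq κ] (e : ((k : Fin t) × Fin (d k)) ≃ κ)
    (hpar : ∀ j : ℕ, Even j → 0 < j →
      Even (Finset.univ.filter (fun k : Fin t => d k = j)).card) :
    ∃ Q : QuadraticForm F (κ → F), (QuadraticMap.polarBilin Q).Nondegenerate ∧
      ∃ A : ↥(Cfsg.isometryGroup F ⇑Q),
        IsConj (Matrix.reindex e e (Cfsg.jordanTypeMatrix d F))
          ((A : Matrix.GeneralLinearGroup κ F) : Matrix κ κ F) := by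
  obtain ⟨M, Mi, h1, h3, h4⟩ := exists_symm_invariant h2 d hd hpar
  have hL : (2 : F)⁻¹ • M + ((2 : F)⁻¹ • M)ᵀ = M := by
    rw [transpose_smul, h3, ← add_smul, ← two_mul, mul_inv_cancel₀ h2, one_smul]
  obtain ⟨Q, hQ, A, hA⟩ := exists_isometry_of_matrix e (Cfsg.jordanTypeMatrix d F)
    ((2 : F)⁻¹ • M) Mi (isUnit_jordanTypeMatrix d) (by rw [hL]; exact h1) (by
      intro v
      have : (Cfsg.jordanTypeMatrix d F)ᵀ * ((2 : F)⁻¹ • M) * Cfsg.jordanTypeMatrix d F
          - (2 : F)⁻¹ • M = 0 := by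
        rw [Matrix.mul_smul, Matrix.smul_mul, h4, sub_self]
      rw [this, Matrix.zero_mulVec, dotProduct_zero])
  exact ⟨Q, hQ, A, by rw [hA]⟩

end Cfsg.Agent.Helper17.JordanOrthOdd
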