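import Mathlib
import Cfsg.Prelude.Def_Classical
import Cfsg.Prelude.Def_ClassicalGeometry
import Cfsg.Agent.Lib.Helper17.SpinorHyp
import Cfsg.Agent.Lib.Helper13.QuadFinite

/-!
# `-1` and the commutator subgroup of an orthogonal group (helper17)

`-1` is the product of the reflections in the vectors of an orthogonal basis; in even dimension
over a finite field of odd order it lies in the commutator subgroup iff the discriminant is a square.
-/

set_option autoImplicit false

namespace Cfsg.Agent.Helper17.Spinor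
open Cfsg QuadraticMap

section Generic

variable {F : Type*} [Field F] {V : Type*} [AddCommGroup V] [Module F V] (Q : QuadraticForm F V)

theorem prod_refl_apply_of_polar_eq_zero (ws : List V) (x : V)
    (h : ∀ w ∈ ws, polar Q w x = 0) : (ws.map (refl Q)).prod x = x := by
  induction ws with
  | nil => simp
  | cons w ws ih =>
    rw [List.map_cons, List.prod_cons, Module.End.mul_apply,
      ih (fun u hu => h u (List.mem_cons_of_mem _ hu)),
      refl_apply_of_polar_eq_zero Q _ _ (h w List.mem_cons_self)]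

theorem refl_self (h2 : (2 : F) ≠ 0) {v : V} (hv : Q v ≠ 0) : refl Q v v = -v := by
  rw [refl_apply, polar_self]
  have : (Q v)⁻¹ * (2 • Q v) = 2 := by
    rw [nsmul_eq_mul]; field_simp; norm_num
  rw [this, two_smul]; abel

theorem prod_refl_ofFn_apply (h2 : (2 : F) ≠ 0) :
    ∀ (k : ℕ) (v : Fin k → V), (∀ i j, i ≠ j → polar Q (v i) (v j) = 0) → (∀ i, Q (v i) ≠ 0) →
      ∀ j, ((List.ofFn v).map (refl Q)).prod (v j) = -v j := by
  intro k
  induction k with
  | zero => intro v _ _ j; exact j.elim0
  | succ k ih =>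
    intro v horth hne j
    rw [List.ofFn_succ, List.map_cons, List.prod_cons, Module.End.mul_apply]
    refine Fin.cases ?_ (fun j' => ?_) j
    · rw [prod_refl_apply_of_polar_eq_zero Q _ _ (by
        intro w hw
        rw [List.mem_ofFn] at hw
        obtain ⟨i, rfl⟩ := hw
        exact horth _ _ (Fin.succ_ne_zero i)), refl_self Q h2 (hne 0)]
    · rw [ih (fun i => v i.succ) (fun a b hab => horth _ _ (fun h => hab (Fin.succ_injective _ h)))
        (fun i => hne _) j', map_neg,
        refl_apply_of_polar_eq_zero Q _ _ (horth _ _ (Fin.succ_ne_zero j').symm)]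

theorem prod_refl_basis (h2 : (2 : F) ≠ 0) {k : ℕ} (c : Module.Basis (Fin k) F V)
    (horth : ∀ i j, i ≠ j → polar Q (c i) (c j) = 0) (hne : ∀ i, Q (c i) ≠ 0) :
    ((List.ofFn c).map (refl Q)).prod = -1 := by
  apply c.ext
  intro j
  rw [prod_refl_ofFn_apply Q h2 k c horth hne j]
  simp

end Generic

variable {F : Type*} [Field F] {ι : Type} [Fintype ι] [DecidableEq ι] (Q : QuadraticForm F (ι → F))

theorem toLin'_prod_reflectionMatrix (vs : List (ι → F)) :
    Matrix.toLin' (vs.map (fun v => Cfsg.reflectionMatrix (⇑Q) v)).prod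
      = (vs.map (refl Q)).prod := by
  induction vs with
  | nil => simp; rfl
  | cons v vs ih =>
    rw [List.map_cons, List.prod_cons, Matrix.toLin'_mul, ih, toLin'_reflectionMatrix,
      List.map_cons, List.prod_cons]
    rfl

/-- **`-1` and the discriminant**: in even dimension over a finite field of odd order, `-1` lies in
the commutator subgroup of the orthogonal group iff the discriminant is a square. -/
theorem exists_mem_Omega_neg_one_iff [Fintype F] (h2 : (2 : F) ≠ 0) {n : ℕ} (he : Even n)
    (Q : QuadraticForm F (Fin n → F)) (hQ : (QuadraticMap.polarBilin Q).Nondegenerate) :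
    (∃ g : ↥(Cfsg.isometryGroup F (⇑Q)), g ∈ Cfsg.Omega F (⇑Q) ∧
      ((g : Matrix.GeneralLinearGroup (Fin n) F) : Matrix (Fin n) (Fin n) F) = -1) ↔
    IsSquare (Matrix.of (fun i j : Fin n =>
      QuadraticMap.polar (⇑Q) (Pi.single i 1) (Pi.single j 1))).det := by
  obtain ⟨c, horth, -⟩ := Cfsg.Agent.Helper13.exists_normal_basis h2 n (Fin n → F) Q hQ
    (Module.finrank_fin_fun F)
  have hgram := Cfsg.Agent.Helper13.gram_det_orth Q c horth
  have hgne := Cfsg.Agent.Helper13.gram_det_ne_zero Q c hQ
  have hne : ∀ i, Q (c i) ≠ 0 := by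
    intro i h0
    apply hgne
    rw [hgram]
    apply Finset.prod_eq_zero (Finset.mem_univ i)
    rw [h0, mul_zero]
  have hbasis := Cfsg.Agent.Helper13.gram_det_basis Q (Pi.basisFun F (Fin n)) c
  have hstd : (Matrix.of fun i j : Fin n =>
      polar (⇑Q) (Pi.basisFun F (Fin n) i) (Pi.basisFun F (Fin n) j))
      = Matrix.of (fun i j : Fin n => QuadraticMap.polar (⇑Q) (Pi.single i 1) (Pi.single j 1)) := by
    ext i j
    simp [Pi.basisFun_apply]
  rw [hstd, hgram, Finset.prod_mul_distrib, Finset.prod_const, Finset.card_univ, Fintype.card_fin]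
    at hbasis
  set D := (Matrix.of (fun i j : Fin n =>
    QuadraticMap.polar (⇑Q) (Pi.single i 1) (Pi.single j 1))).det with hD
  set P := ((Pi.basisFun F (Fin n)).toMatrix c).det with hP
  have hP0 : P ≠ 0 := by
    intro h0
    apply hgne
    rw [hgram, Finset.prod_mul_distrib, Finset.prod_const, Finset.card_univ, Fintype.card_fin,
      hbasis, h0]
    ring
  obtain ⟨k, hk⟩ := he
  have h2k : (2 : F) ^ k ≠ 0 := pow_ne_zero _ h2
  -- the list of basis vectors
  have hvs : ∀ v ∈ List.ofFn c, Q v ≠ 0 := by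
    intro v hv
    rw [List.mem_ofFn] at hv
    obtain ⟨i, rfl⟩ := hv
    exact hne i
  have hprodQ : ((List.ofFn c).map (fun v => Q v)).prod = ∏ i, Q (c i) := by
    rw [List.map_ofFn, List.prod_ofFn]
    rfl
  have hmat : ((List.ofFn c).map (fun v => Cfsg.reflectionMatrix (⇑Q) v)).prod = -1 := by
    apply Matrix.toLin'.injective
    rw [toLin'_prod_reflectionMatrix, prod_refl_basis Q h2 c horth hne, map_neg, Matrix.toLin'_one]
    rfl
  have hiff : IsSquare (∏ i, Q (c i)) ↔ IsSquare D := by
    constructor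
    · rintro ⟨s, hs⟩
      refine ⟨2 ^ k * s / P, ?_⟩
      have : D = 2 ^ n * (∏ i, Q (c i)) / P ^ 2 := by
        rw [hbasis]; field_simp
      rw [this, hs, hk]
      field_simp
      ring
    · rintro ⟨s, hs⟩
      refine ⟨P * s / 2 ^ k, ?_⟩
      have : (∏ i, Q (c i)) = P ^ 2 * D / 2 ^ n := by
        rw [← hbasis]; field_simp
      rw [this, hs, hk]
      field_simp
      ring
  rw [← hiff, ← hprodQ]
  constructor
  · rintro ⟨g, hgO, hg⟩
    exact ((mem_Omega_iff Q h2 hQ g (List.ofFn c) hvs (hg.trans hmat.symm)).1 hgO).2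
  · intro hsq
    refine ⟨((List.ofFn c).map (rG Q h2)).prod, ?_, ?_⟩
    · rw [mem_Omega_iff Q h2 hQ _ (List.ofFn c) hvs (coe_prod_rG Q h2 _ hvs)]
      refine ⟨?_, hsq⟩
      rw [List.length_ofFn]
      exact ⟨k, hk⟩
    · rw [coe_prod_rG Q h2 _ hvs, hmat]

end Cfsg.Agent.Helper17.Spinor
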