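import Mathlib

/-!
# The Cayley transform in a commutative local algebra with involution (helper17)

`A` is a commutative `F`-algebra, every element of which is a scalar plus a nilpotent, `σ` an
involution of `A` fixing the scalars, `2 ≠ 0`.  The elements with `σ g * g = 1` are `± ` the
unipotent ones, and the unipotent ones correspond to the skew elements `σ r = - r` by the Cayley
transform `g ↦ (g - 1) / (g + 1)`.
-/

set_option autoImplicit false
set_option linter.unusedSectionVars false

namespace Cfsg.Agent.Helper17.Cayley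

/-- an involution `σ` on a commutative local `F`-algebra with residue field `F`, `2 ≠ 0` -/
structure IsLocInv (F : Type*) {A : Type*} [Field F] [CommRing A] [Algebra F A]
    (σ : A →+* A) : Prop where
  invol : ∀ a, σ (σ a) = a
  fix : ∀ c : F, σ (algebraMap F A c) = algebraMap F A c
  loc : ∀ a : A, ∃ c : F, IsNilpotent (a - algebraMap F A c)
  two : (2 : F) ≠ 0

variable {F A : Type*} [Field F] [CommRing A] [Algebra F A] [Nontrivial A] {σ : A →+* A}

omit [Nontrivial A] in
theorem map_mem_nilradical (σ : A →+* A) {x : A} (hx : x ∈ nilradical A) : σ x ∈ nilradical A := by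
  rw [mem_nilradical] at hx ⊢
  exact hx.map σ

theorem scalar_eq_zero {c : F} (h : algebraMap F A c ∈ nilradical A) : c = 0 := by
  rw [mem_nilradical] at h
  obtain ⟨k, hk⟩ := h
  rw [← map_pow] at hk
  have := (algebraMap F A).injective (hk.trans (map_zero _).symm)
  exact eq_zero_of_pow_eq_zero this

namespace IsLocInv

variable (h : IsLocInv F σ)
include h

theorem mem_nilradical_of_skew {r : A} (hr : σ r = -r) : r ∈ nilradical A := by
  obtain ⟨c, hc⟩ := h.loc r
  rw [← mem_nilradical] at hc
  have h1 := map_mem_nilradical σ hc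
  rw [map_sub, h.fix, hr] at h1
  have h2 : algebraMap F A (-2 * c) ∈ nilradical A := by
    have := Ideal.add_mem _ hc h1
    have e : r - algebraMap F A c + (-r - algebraMap F A c) = algebraMap F A (-2 * c) := by
      rw [map_mul, map_neg, map_ofNat]
      ring
    rwa [e] at this
  have h3 := scalar_eq_zero h2
  have hc0 : c = 0 := by
    rcases mul_eq_zero.1 h3 with h4 | h4
    · exact absurd (neg_eq_zero.1 h4) h.two
    · exact h4
  rwa [hc0, map_zero, sub_zero] at hc

theorem unipotent_or {g : A} (hg : σ g * g = 1) :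
    g - 1 ∈ nilradical A ∨ g + 1 ∈ nilradical A := by
  obtain ⟨c, hc⟩ := h.loc g
  rw [← mem_nilradical] at hc
  have h1 := map_mem_nilradical σ hc
  rw [map_sub, h.fix] at h1
  have h2 : algebraMap F A (1 - c ^ 2) ∈ nilradical A := by
    have := Ideal.add_mem _ (Ideal.mul_mem_right g _ h1) (Ideal.mul_mem_left _ (algebraMap F A c) hc)
    have e : (σ g - algebraMap F A c) * g + algebraMap F A c * (g - algebraMap F A c) =
        algebraMap F A (1 - c ^ 2) := by
      rw [map_sub, map_one, map_pow, ← hg]
      ring
    rwa [e] at this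
  have h3 := scalar_eq_zero h2
  have h4 : (c - 1) * (c + 1) = 0 := by linear_combination -h3
  rcases mul_eq_zero.1 h4 with h5 | h5
  · left
    have : c = 1 := by linear_combination h5
    rwa [this, map_one] at hc
  · right
    have : c = -1 := by linear_combination h5
    rwa [this, map_neg, map_one, sub_neg_eq_add] at hc

theorem not_both {g : A} (h1 : g - 1 ∈ nilradical A) (h2 : g + 1 ∈ nilradical A) : False := by
  have := Ideal.sub_mem _ h2 h1
  have e : g + 1 - (g - 1) = algebraMap F A 2 := by
    rw [map_ofNat]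
    ring
  rw [e] at this
  exact h.two (scalar_eq_zero this)

theorem isUnit_add_one {g : A} (h1 : g - 1 ∈ nilradical A) : IsUnit (g + 1) := by
  rw [mem_nilradical] at h1
  have hu : IsUnit (algebraMap F A 2) := (IsUnit.mk0 (2 : F) h.two).map (algebraMap F A)
  have := h1.isUnit_add_left_of_commute hu (Commute.all _ _)
  have e : algebraMap F A 2 + (g - 1) = g + 1 := by
    rw [map_ofNat]
    ring
  rwa [e] at this

/-- the Cayley transform -/
noncomputable def cay (g : A) : A := (g - 1) * Ring.inverse (g + 1)

/-- the inverse Cayley transform -/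
noncomputable def yac (r : A) : A := (1 + r) * Ring.inverse (1 - r)

theorem cay_mul {g : A} (h1 : g - 1 ∈ nilradical A) : cay g * (g + 1) = g - 1 := by
  unfold cay
  rw [mul_assoc, Ring.inverse_mul_cancel _ (h.isUnit_add_one h1), mul_one]

omit h in
theorem yac_mul {r : A} (h1 : r ∈ nilradical A) : yac r * (1 - r) = 1 + r := by
  unfold yac
  rw [mul_assoc, Ring.inverse_mul_cancel _ ((mem_nilradical.1 h1).isUnit_one_sub), mul_one]

theorem cay_skew {g : A} (hg : σ g * g = 1) (h1 : g - 1 ∈ nilradical A) : σ (cay g) = -cay g := by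
  have hu := h.isUnit_add_one h1
  have h2 := congrArg σ (h.cay_mul h1)
  rw [map_mul, map_add, map_sub, map_one] at h2
  apply hu.mul_left_injective
  show σ (cay g) * (g + 1) = -cay g * (g + 1)
  rw [neg_mul, h.cay_mul h1]
  have h3 : σ (cay g) * (g + 1) = σ (cay g) * (σ g + 1) * g := by
    rw [mul_assoc, add_mul, hg, one_mul, add_comm]
  rw [h3, h2, sub_mul, hg, one_mul]
  ring

theorem yac_unitary {r : A} (hr : σ r = -r) : σ (yac r) * yac r = 1 := by
  have hn := h.mem_nilradical_of_skew hr
  have hu1 := (mem_nilradical.1 hn).isUnit_one_sub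
  have hu2 := (mem_nilradical.1 hn).isUnit_one_add
  have h1 := yac_mul hn
  have h2 := congrArg σ h1
  rw [map_mul, map_sub, map_add, map_one, hr, sub_neg_eq_add] at h2
  apply (hu2.mul hu1).mul_left_injective
  show σ (yac r) * yac r * ((1 + r) * (1 - r)) = 1 * ((1 + r) * (1 - r))
  have e : σ (yac r) * yac r * ((1 + r) * (1 - r)) =
      (σ (yac r) * (1 + r)) * (yac r * (1 - r)) := by ring
  rw [e, h1, h2]
  ring

theorem yac_unipotent {r : A} (hr : σ r = -r) : yac r - 1 ∈ nilradical A := by
  have hn := h.mem_nilradical_of_skew hr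
  have hu1 := (mem_nilradical.1 hn).isUnit_one_sub
  have h1 := yac_mul hn
  have h2 : (yac r - 1) * (1 - r) = algebraMap F A 2 * r := by
    rw [sub_mul, h1, map_ofNat]
    ring
  have h3 : yac r - 1 = algebraMap F A 2 * r * Ring.inverse (1 - r) := by
    rw [← h2, mul_assoc, Ring.mul_inverse_cancel _ hu1, mul_one]
  rw [h3]
  exact Ideal.mul_mem_right _ _ (Ideal.mul_mem_left _ _ hn)

theorem yac_cay {g : A} (h1 : g - 1 ∈ nilradical A) (h2 : cay g ∈ nilradical A) :
    yac (cay g) = g := by
  have hu1 := (mem_nilradical.1 h2).isUnit_one_sub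
  apply hu1.mul_left_injective
  show yac (cay g) * (1 - cay g) = g * (1 - cay g)
  rw [yac_mul h2]
  have := h.cay_mul h1
  linear_combination this

theorem cay_yac {r : A} (hr : σ r = -r) : cay (yac r) = r := by
  have hn := h.mem_nilradical_of_skew hr
  have h1 := h.yac_unipotent hr
  have hu := h.isUnit_add_one h1
  apply hu.mul_left_injective
  show cay (yac r) * (yac r + 1) = r * (yac r + 1)
  rw [h.cay_mul h1]
  have := yac_mul hn
  linear_combination this

/-- the Cayley correspondence between unipotent unitary elements and skew elements -/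
noncomputable def cayEquiv :
    {g : A // σ g * g = 1 ∧ g - 1 ∈ nilradical A} ≃ {r : A // σ r = -r} where
  toFun g := ⟨cay g.1, h.cay_skew g.2.1 g.2.2⟩
  invFun r := ⟨yac r.1, h.yac_unitary r.2, h.yac_unipotent r.2⟩
  left_inv g := Subtype.ext
    (h.yac_cay g.2.2 (h.mem_nilradical_of_skew (h.cay_skew g.2.1 g.2.2)))
  right_inv r := Subtype.ext (h.cay_yac r.2)

open Classical in
/-- unitary elements are `±` unipotent unitary elements -/
noncomputable def signEquiv :
    {g : A // σ g * g = 1} ≃
      {g : A // σ g * g = 1 ∧ g - 1 ∈ nilradical A} ⊕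
        {g : A // σ g * g = 1 ∧ g - 1 ∈ nilradical A} where
  toFun g := if h1 : g.1 - 1 ∈ nilradical A then Sum.inl ⟨g.1, g.2, h1⟩ else
    Sum.inr ⟨-g.1, by rw [map_neg, neg_mul_neg]; exact g.2, by
      have := (h.unipotent_or g.2).resolve_left h1
      have e : -g.1 - 1 = -(g.1 + 1) := by ring
      rw [e]
      exact Ideal.neg_mem_iff _ |>.2 this⟩
  invFun x := Sum.elim (fun g => ⟨g.1, g.2.1⟩)
    (fun g => ⟨-g.1, by rw [map_neg, neg_mul_neg]; exact g.2.1⟩) x
  left_inv g := by
    by_cases h1 : g.1 - 1 ∈ nilradical A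
    · simp [h1]
    · simp [h1]
  right_inv x := by
    rcases x with g | g
    · simp [g.2.2]
    · have h1 : ¬ (-g.1 - 1 ∈ nilradical A) := by
        intro h2
        have e : -g.1 - 1 = -(g.1 + 1) := by ring
        rw [e, Ideal.neg_mem_iff] at h2
        exact h.not_both g.2.2 h2
      simp [h1]

theorem card_unitary [Finite A] :
    Nat.card {g : A // σ g * g = 1} = 2 * Nat.card {r : A // σ r = -r} := by
  rw [Nat.card_congr h.signEquiv, Nat.card_sum, Nat.card_congr h.cayEquiv]
  ring

end IsLocInv

end Cfsg.Agent.Helper17.Cayley
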