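import Mathlib
import Cfsg.Agent.Lib.Helper17.CayleyCount

/-!
# Truncated polynomial rings `F[X]/(X^d)` with the involution `X ↦ -X` (helper17)
-/

set_option autoImplicit false
set_option linter.unusedSectionVars false

namespace Cfsg.Agent.Helper17.Trunc

open Polynomial Cfsg.Agent.Helper17.Cayley

variable (F : Type*) [Field F] (d : ℕ)

/-- the truncated polynomial ring -/
abbrev TP : Type _ := AdjoinRoot ((X : F[X]) ^ d)

/-- the class of `X` -/
noncomputable abbrev rt : TP F d := AdjoinRoot.root ((X : F[X]) ^ d)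

theorem rt_pow : (rt F d) ^ d = 0 := by
  unfold rt
  rw [← AdjoinRoot.mk_X, ← map_pow, AdjoinRoot.mk_self]

/-- the involution `X ↦ -X` -/
noncomputable def sigma : TP F d →ₐ[F] TP F d :=
  AdjoinRoot.liftAlgHom _ (Algebra.ofId F _) (-rt F d) (by
    rw [eval₂_pow, eval₂_X, neg_pow, rt_pow, mul_zero])

@[simp] theorem sigma_rt : sigma F d (rt F d) = -rt F d := by
  unfold sigma
  rw [AdjoinRoot.liftAlgHom_root]

theorem sigma_sigma (a : TP F d) : sigma F d (sigma F d a) = a := by
  have : (sigma F d).comp (sigma F d) = AlgHom.id F (TP F d) := by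
    apply AdjoinRoot.algHom_ext
    simp
  exact DFunLike.congr_fun this a

theorem exists_scalar (a : TP F d) : ∃ c : F, IsNilpotent (a - algebraMap F (TP F d) c) := by
  induction a using AdjoinRoot.induction_on with
  | ih p =>
    refine ⟨p.coeff 0, d, ?_⟩
    have h1 : AdjoinRoot.mk ((X : F[X]) ^ d) p - algebraMap F (TP F d) (p.coeff 0) =
        AdjoinRoot.mk ((X : F[X]) ^ d) (divX p) * rt F d := by
      rw [AdjoinRoot.algebraMap_eq, ← AdjoinRoot.mk_C, ← map_sub]
      unfold rt
      rw [← AdjoinRoot.mk_X, ← map_mul]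
      congr 1
      have := divX_mul_X_add p
      linear_combination -this
    rw [h1, mul_pow, rt_pow, mul_zero]

theorem nontrivial_TP (hd : 0 < d) : Nontrivial (TP F d) := by
  apply AdjoinRoot.nontrivial
  rw [degree_X_pow]
  exact_mod_cast hd.ne'

instance finite_TP [Finite F] : Finite (TP F d) := by
  have : Module.Finite F (TP F d) := (monic_X_pow d).finite_adjoinRoot
  exact Module.finite_of_finite F

theorem isLocInv (h2 : (2 : F) ≠ 0) : IsLocInv F (sigma F d : TP F d →+* TP F d) where
  invol := sigma_sigma F d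
  fix c := (sigma F d).commutes c
  loc := exists_scalar F d
  two := h2

/-- the power basis `1, X, …, X^(d-1)` -/
noncomputable def pbasis : Module.Basis (Fin d) F (TP F d) :=
  (AdjoinRoot.powerBasis' (monic_X_pow (R := F) d)).basis.reindex (finCongr (by simp))

theorem pbasis_apply (i : Fin d) : pbasis F d i = (rt F d) ^ (i : ℕ) := by
  unfold pbasis
  rw [Module.Basis.reindex_apply, PowerBasis.basis_eq_pow]
  simp

theorem sigma_pbasis (i : Fin d) : sigma F d (pbasis F d i) = (-1 : F) ^ (i : ℕ) • pbasis F d i := by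
  rw [pbasis_apply, map_pow, sigma_rt, neg_pow, Algebra.smul_def, map_pow, map_neg, map_one]

theorem repr_sigma (r : TP F d) (i : Fin d) :
    (pbasis F d).repr (sigma F d r) i = (-1 : F) ^ (i : ℕ) * (pbasis F d).repr r i := by
  have h1 : sigma F d r =
      ∑ i : Fin d, ((-1 : F) ^ (i : ℕ) * (pbasis F d).repr r i) • pbasis F d i := by
    conv_lhs => rw [← (pbasis F d).sum_repr r]
    rw [map_sum]
    apply Finset.sum_congr rfl
    intro i _
    rw [map_smul, sigma_pbasis, smul_smul, mul_comm]
  rw [h1, Module.Basis.repr_sum_self]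

theorem skew_iff (h2 : (2 : F) ≠ 0) (r : TP F d) :
    sigma F d r = -r ↔ ∀ i : Fin d, Even (i : ℕ) → (pbasis F d).repr r i = 0 := by
  constructor
  · intro h i hi
    have h1 := repr_sigma F d r i
    rw [h, hi.neg_one_pow, one_mul, map_neg, Finsupp.neg_apply] at h1
    have h3 : (2 : F) * (pbasis F d).repr r i = 0 := by linear_combination -h1
    exact (mul_eq_zero.1 h3).resolve_left h2
  · intro h
    apply (pbasis F d).repr.injective
    ext i
    rw [repr_sigma, map_neg, Finsupp.neg_apply]
    rcases Nat.even_or_odd (i : ℕ) with hi | hi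
    · rw [h i hi]
      simp
    · rw [hi.neg_one_pow]
      ring

/-- coordinates of skew elements -/
noncomputable def skewEquiv (h2 : (2 : F) ≠ 0) (m : ℕ) :
    {r : TP F (2 * m) // sigma F (2 * m) r = -r} ≃ (Fin m → F) where
  toFun r := fun j => (pbasis F (2 * m)).repr r.1 ⟨2 * (j : ℕ) + 1, by have := j.2; omega⟩
  invFun c := ⟨(pbasis F (2 * m)).repr.symm (Finsupp.equivFunOnFinite.symm (fun i =>
    if h : Even (i : ℕ) then 0 else c ⟨(i : ℕ) / 2, by have := i.2; omega⟩)), by
      rw [skew_iff F _ h2]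
      intro i hi
      simp [hi]⟩
  left_inv r := by
    apply Subtype.ext
    apply (pbasis F (2 * m)).repr.injective
    ext i
    simp only [LinearEquiv.apply_symm_apply, Finsupp.coe_equivFunOnFinite_symm]
    by_cases hi : Even (i : ℕ)
    · rw [dif_pos hi, ((skew_iff F _ h2 r.1).1 r.2) i hi]
    · rw [dif_neg hi]
      congr 2
      have := Nat.not_even_iff_odd.1 hi
      show 2 * ((i : ℕ) / 2) + 1 = (i : ℕ)
      obtain ⟨k, hk⟩ := this
      omega
  right_inv c := by
    funext j
    simp only [LinearEquiv.apply_symm_apply, Finsupp.coe_equivFunOnFinite_symm]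
    have hj : ¬ Even (2 * (j : ℕ) + 1) := by
      rw [Nat.not_even_iff_odd]
      exact ⟨j, rfl⟩
    rw [dif_neg hj]
    congr 1
    apply Fin.ext
    show (2 * (j : ℕ) + 1) / 2 = (j : ℕ)
    omega

theorem card_skew [Fintype F] (h2 : (2 : F) ≠ 0) (m : ℕ) :
    Nat.card {r : TP F (2 * m) // sigma F (2 * m) r = -r} = Fintype.card F ^ m := by
  rw [Nat.card_congr (skewEquiv F h2 m), Nat.card_eq_fintype_card, Fintype.card_fun,
    Fintype.card_fin]

/-- the number of `g` with `g(-X) g(X) = 1` in `F[X]/(X^(2m))` -/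
theorem card_unitary [Fintype F] (h2 : (2 : F) ≠ 0) {m : ℕ} (hm : 0 < m) :
    Nat.card {g : TP F (2 * m) // sigma F (2 * m) g * g = 1} = 2 * Fintype.card F ^ m := by
  have : Nontrivial (TP F (2 * m)) := nontrivial_TP F _ (by omega)
  have := (isLocInv F (2 * m) h2).card_unitary
  refine this.trans ?_
  congr 1
  exact card_skew F h2 m

end Cfsg.Agent.Helper17.Trunc
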