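import Mathlib
import Cfsg.Agent.Lib.Helper17.RegNil
import Cfsg.Agent.Lib.Helper17.TruncPoly

/-!
# Regular unipotent elements of the symplectic group: the centraliser (helper17)
-/

set_option autoImplicit false
set_option linter.unusedSectionVars false

namespace Cfsg.Agent.Helper17.RegUnip

open Matrix Polynomial Cfsg.Agent.Helper17.Trunc Cfsg.Agent.Helper17

variable {F : Type*} [Field F] {n : Type*} [Fintype n] [DecidableEq n]

/-- evaluation of a truncated polynomial at a nilpotent matrix -/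
noncomputable def Psi (τ : Matrix n n F) {d : ℕ} (hnil : τ ^ d = 0) : TP F d →ₐ[F] Matrix n n F :=
  Ideal.Quotient.liftₐ (Ideal.span {(X : F[X]) ^ d}) (aeval τ) (by
    intro a ha
    obtain ⟨b, rfl⟩ := Ideal.mem_span_singleton.1 ha
    rw [map_mul, map_pow, aeval_X, hnil, zero_mul])

theorem Psi_mk (τ : Matrix n n F) {d : ℕ} (hnil : τ ^ d = 0) (p : F[X]) :
    Psi τ hnil (AdjoinRoot.mk _ p) = aeval τ p := rfl

theorem Psi_rt (τ : Matrix n n F) {d : ℕ} (hnil : τ ^ d = 0) : Psi τ hnil (rt F d) = τ := by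
  unfold rt
  rw [← AdjoinRoot.mk_X, Psi_mk, aeval_X]

theorem Psi_injective (τ : Matrix n n F) {d : ℕ} (hd : Fintype.card n = d) (hd0 : 0 < d)
    (hnil : τ ^ d = 0) (hrank : τ.rank = d - 1) : Function.Injective (Psi τ hnil) := by
  rw [injective_iff_map_eq_zero]
  intro a ha
  induction a using AdjoinRoot.induction_on with
  | ih p =>
    rw [Psi_mk, RegNil.matrix_aeval_eq_zero_iff τ hd hd0 hnil hrank] at ha
    exact AdjoinRoot.mk_eq_zero.2 ha

theorem exists_Psi_eq (τ g : Matrix n n F) {d : ℕ} (hd : Fintype.card n = d) (hd0 : 0 < d)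
    (hnil : τ ^ d = 0) (hrank : τ.rank = d - 1) (hc : Commute g τ) :
    ∃ a, Psi τ hnil a = g := by
  obtain ⟨p, hp⟩ := RegNil.matrix_exists_aeval_eq_of_commute τ g hd hd0 hnil hrank hc
  exact ⟨AdjoinRoot.mk _ p, by rw [Psi_mk, hp]⟩

theorem commute_aeval (τ g : Matrix n n F) (hc : Commute g τ) (p : F[X]) :
    Commute g (aeval τ p) := by
  have h1 : aeval τ p ∈ Algebra.adjoin F {τ} := aeval_mem_adjoin_singleton F τ
  have h2 : Algebra.adjoin F {τ} ≤ Subalgebra.centralizer F {g} := by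
    rw [Algebra.adjoin_le_iff]
    intro x hx
    rw [Set.mem_singleton_iff] at hx
    subst hx
    rw [SetLike.mem_coe, Subalgebra.mem_centralizer_iff]
    intro y hy
    rw [Set.mem_singleton_iff] at hy
    subst hy
    exact hc.eq
  have h3 := h2 h1
  rw [Subalgebra.mem_centralizer_iff] at h3
  exact h3 g rfl

theorem Psi_commute (τ g : Matrix n n F) {d : ℕ} (hnil : τ ^ d = 0) (hc : Commute g τ)
    (a : TP F d) : Commute g (Psi τ hnil a) := by
  induction a using AdjoinRoot.induction_on with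
  | ih p =>
    rw [Psi_mk]
    exact commute_aeval τ g hc p

theorem transpose_pow_mul (τ Jm : Matrix n n F) (hskew : τᵀ * Jm = -(Jm * τ)) (k : ℕ) :
    (τᵀ) ^ k * Jm = Jm * (-τ) ^ k := by
  induction k with
  | zero => simp
  | succ k ih =>
    rw [pow_succ, mul_assoc, hskew, pow_succ, ← mul_assoc, ← ih, mul_neg, mul_neg, mul_assoc]

theorem aeval_transpose_mul (τ Jm : Matrix n n F) (hskew : τᵀ * Jm = -(Jm * τ)) (p : F[X]) :
    (aeval τ p)ᵀ * Jm = Jm * aeval (-τ) p := by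
  induction p using Polynomial.induction_on' with
  | add p q hp hq =>
    rw [map_add, map_add, transpose_add, add_mul, mul_add, hp, hq]
  | monomial k c =>
    rw [aeval_monomial, aeval_monomial, ← Algebra.smul_def, ← Algebra.smul_def, transpose_smul,
      transpose_pow, smul_mul_assoc, transpose_pow_mul τ Jm hskew, mul_smul_comm]

theorem Psi_sigma (τ : Matrix n n F) {d : ℕ} (hnil : τ ^ d = 0) (p : F[X]) :
    Psi τ hnil (sigma F d (AdjoinRoot.mk _ p)) = aeval (-τ) p := by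
  have h1 : sigma F d (AdjoinRoot.mk _ p) = aeval (-rt F d) p := rfl
  rw [h1, ← Polynomial.aeval_algHom_apply, map_neg, Psi_rt]

theorem Psi_transpose_mul (τ Jm : Matrix n n F) {d : ℕ} (hnil : τ ^ d = 0)
    (hskew : τᵀ * Jm = -(Jm * τ)) (a : TP F d) :
    (Psi τ hnil a)ᵀ * Jm = Jm * Psi τ hnil (sigma F d a) := by
  induction a using AdjoinRoot.induction_on with
  | ih p =>
    rw [Psi_sigma, Psi_mk, aeval_transpose_mul τ Jm hskew]


section Symp

variable {m : ℕ}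

/-- `u - u⁻¹` -/
noncomputable def tau (u : Matrix.symplecticGroup (Fin m) F) : Matrix (Fin m ⊕ Fin m) (Fin m ⊕ Fin m) F :=
  (u : Matrix (Fin m ⊕ Fin m) (Fin m ⊕ Fin m) F) - ((u⁻¹ : Matrix.symplecticGroup (Fin m) F) : Matrix (Fin m ⊕ Fin m) (Fin m ⊕ Fin m) F)

theorem coe_mul_coe_inv (u : Matrix.symplecticGroup (Fin m) F) :
    (u : Matrix (Fin m ⊕ Fin m) (Fin m ⊕ Fin m) F) * ((u⁻¹ : Matrix.symplecticGroup (Fin m) F) : Matrix (Fin m ⊕ Fin m) (Fin m ⊕ Fin m) F) = 1 := by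
  rw [← Submonoid.coe_mul, mul_inv_cancel, Submonoid.coe_one]

theorem coe_inv_mul_coe (u : Matrix.symplecticGroup (Fin m) F) :
    ((u⁻¹ : Matrix.symplecticGroup (Fin m) F) : Matrix (Fin m ⊕ Fin m) (Fin m ⊕ Fin m) F) * (u : Matrix (Fin m ⊕ Fin m) (Fin m ⊕ Fin m) F) = 1 := by
  rw [← Submonoid.coe_mul, inv_mul_cancel, Submonoid.coe_one]

theorem transpose_mul_J (u : Matrix.symplecticGroup (Fin m) F) :
    (u : Matrix (Fin m ⊕ Fin m) (Fin m ⊕ Fin m) F)ᵀ * Matrix.J (Fin m) F =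
      Matrix.J (Fin m) F * ((u⁻¹ : Matrix.symplecticGroup (Fin m) F) : Matrix (Fin m ⊕ Fin m) (Fin m ⊕ Fin m) F) := by
  have h1 := SymplecticGroup.mem_iff'.1 u.2
  calc (u : Matrix (Fin m ⊕ Fin m) (Fin m ⊕ Fin m) F)ᵀ * Matrix.J (Fin m) F
      = (u : Matrix (Fin m ⊕ Fin m) (Fin m ⊕ Fin m) F)ᵀ * Matrix.J (Fin m) F *
          ((u : Matrix (Fin m ⊕ Fin m) (Fin m ⊕ Fin m) F) * ((u⁻¹ : Matrix.symplecticGroup (Fin m) F) : Matrix (Fin m ⊕ Fin m) (Fin m ⊕ Fin m) F)) := by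
        rw [coe_mul_coe_inv, mul_one]
    _ = _ := by rw [← mul_assoc, h1]

theorem tau_skew (u : Matrix.symplecticGroup (Fin m) F) :
    (tau u)ᵀ * Matrix.J (Fin m) F = -(Matrix.J (Fin m) F * tau u) := by
  unfold tau
  have h1 := transpose_mul_J u
  have h2 := transpose_mul_J u⁻¹
  rw [inv_inv] at h2
  rw [transpose_sub, sub_mul, h1, h2, mul_sub]
  abel

theorem commute_coe_inv (u : Matrix.symplecticGroup (Fin m) F) :
    Commute ((u⁻¹ : Matrix.symplecticGroup (Fin m) F) : Matrix (Fin m ⊕ Fin m) (Fin m ⊕ Fin m) F) (u : Matrix (Fin m ⊕ Fin m) (Fin m ⊕ Fin m) F) := by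
  show _ = _
  rw [coe_mul_coe_inv, coe_inv_mul_coe]

theorem commute_tau (u : Matrix.symplecticGroup (Fin m) F) :
    Commute (u : Matrix (Fin m ⊕ Fin m) (Fin m ⊕ Fin m) F) (tau u) := by
  unfold tau
  exact (Commute.refl _).sub_right (commute_coe_inv u).symm

theorem commute_tau_of_commute (u : Matrix.symplecticGroup (Fin m) F)
    (g : Matrix (Fin m ⊕ Fin m) (Fin m ⊕ Fin m) F)
    (hg : Commute g (u : Matrix (Fin m ⊕ Fin m) (Fin m ⊕ Fin m) F)) : Commute g (tau u) := by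
  unfold tau
  refine hg.sub_right ?_
  show g * _ = _ * g
  calc g * ((u⁻¹ : Matrix.symplecticGroup (Fin m) F) : Matrix (Fin m ⊕ Fin m) (Fin m ⊕ Fin m) F)
      = (((u⁻¹ : Matrix.symplecticGroup (Fin m) F) : Matrix (Fin m ⊕ Fin m) (Fin m ⊕ Fin m) F) *
          (u : Matrix (Fin m ⊕ Fin m) (Fin m ⊕ Fin m) F)) * g *
          ((u⁻¹ : Matrix.symplecticGroup (Fin m) F) : Matrix (Fin m ⊕ Fin m) (Fin m ⊕ Fin m) F) := by
        rw [coe_inv_mul_coe, one_mul]
    _ = ((u⁻¹ : Matrix.symplecticGroup (Fin m) F) : Matrix (Fin m ⊕ Fin m) (Fin m ⊕ Fin m) F) * g *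
          ((u : Matrix (Fin m ⊕ Fin m) (Fin m ⊕ Fin m) F) *
          ((u⁻¹ : Matrix.symplecticGroup (Fin m) F) : Matrix (Fin m ⊕ Fin m) (Fin m ⊕ Fin m) F)) := by
        rw [mul_assoc _ _ g, ← hg.eq]
        simp only [mul_assoc]
    _ = _ := by rw [coe_mul_coe_inv, mul_one]

/-- `u - u⁻¹ = u⁻¹ (u + 1) (u - 1)` -/
theorem tau_eq (u : Matrix.symplecticGroup (Fin m) F) :
    tau u = (((u⁻¹ : Matrix.symplecticGroup (Fin m) F) : Matrix (Fin m ⊕ Fin m) (Fin m ⊕ Fin m) F) *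
      ((u : Matrix (Fin m ⊕ Fin m) (Fin m ⊕ Fin m) F) + 1)) *
      ((u : Matrix (Fin m ⊕ Fin m) (Fin m ⊕ Fin m) F) - 1) := by
  unfold tau
  have h := coe_inv_mul_coe u
  have e : ((u : Matrix (Fin m ⊕ Fin m) (Fin m ⊕ Fin m) F) + 1) *
      ((u : Matrix (Fin m ⊕ Fin m) (Fin m ⊕ Fin m) F) - 1) =
      (u : Matrix (Fin m ⊕ Fin m) (Fin m ⊕ Fin m) F) * (u : Matrix (Fin m ⊕ Fin m) (Fin m ⊕ Fin m) F) - 1 := by
    noncomm_ring
  rw [mul_assoc, e, mul_sub, ← mul_assoc, h, one_mul, mul_one]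

theorem isUnit_W (h2 : (2 : F) ≠ 0) (u : Matrix.symplecticGroup (Fin m) F)
    (hN : IsNilpotent ((u : Matrix (Fin m ⊕ Fin m) (Fin m ⊕ Fin m) F) - 1)) :
    IsUnit (((u⁻¹ : Matrix.symplecticGroup (Fin m) F) : Matrix (Fin m ⊕ Fin m) (Fin m ⊕ Fin m) F) *
      ((u : Matrix (Fin m ⊕ Fin m) (Fin m ⊕ Fin m) F) + 1)) := by
  apply IsUnit.mul
  · exact IsUnit.of_mul_eq_one _ (coe_inv_mul_coe u)
  · have hu : IsUnit (algebraMap F (Matrix (Fin m ⊕ Fin m) (Fin m ⊕ Fin m) F) 2) :=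
      (IsUnit.mk0 (2 : F) h2).map _
    have := hN.isUnit_add_left_of_commute hu (Algebra.commutes _ _).symm
    have e : algebraMap F (Matrix (Fin m ⊕ Fin m) (Fin m ⊕ Fin m) F) 2 +
        ((u : Matrix (Fin m ⊕ Fin m) (Fin m ⊕ Fin m) F) - 1) =
        (u : Matrix (Fin m ⊕ Fin m) (Fin m ⊕ Fin m) F) + 1 := by
      rw [map_ofNat, ← one_add_one_eq_two]
      abel
    rwa [e] at this

theorem commute_W_N (u : Matrix.symplecticGroup (Fin m) F) :
    Commute (((u⁻¹ : Matrix.symplecticGroup (Fin m) F) : Matrix (Fin m ⊕ Fin m) (Fin m ⊕ Fin m) F) *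
      ((u : Matrix (Fin m ⊕ Fin m) (Fin m ⊕ Fin m) F) + 1))
      ((u : Matrix (Fin m ⊕ Fin m) (Fin m ⊕ Fin m) F) - 1) := by
  apply Commute.mul_left
  · exact (commute_coe_inv u).sub_right (Commute.one_right _)
  · exact ((Commute.refl _).add_left (Commute.one_left _)).sub_right (Commute.one_right _)

theorem tau_pow (u : Matrix.symplecticGroup (Fin m) F) {d : ℕ}
    (hnil : ((u : Matrix (Fin m ⊕ Fin m) (Fin m ⊕ Fin m) F) - 1) ^ d = 0) : tau u ^ d = 0 := by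
  rw [tau_eq, (commute_W_N u).mul_pow, hnil, mul_zero]

theorem tau_rank (h2 : (2 : F) ≠ 0) (u : Matrix.symplecticGroup (Fin m) F)
    (hN : IsNilpotent ((u : Matrix (Fin m ⊕ Fin m) (Fin m ⊕ Fin m) F) - 1)) :
    (tau u).rank = ((u : Matrix (Fin m ⊕ Fin m) (Fin m ⊕ Fin m) F) - 1).rank := by
  rw [tau_eq]
  exact Matrix.rank_mul_eq_right_of_isUnit_det _ _
    ((Matrix.isUnit_iff_isUnit_det _).1 (isUnit_W h2 u hN))

theorem J_mul_cancel {X : Matrix (Fin m ⊕ Fin m) (Fin m ⊕ Fin m) F}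
    (h : Matrix.J (Fin m) F * X = Matrix.J (Fin m) F) : X = 1 := by
  have h1 := congrArg (fun Y => Matrix.J (Fin m) F * Y) h
  simp only [← mul_assoc, Matrix.J_squared] at h1
  simpa using h1

theorem card_centralizer [Fintype F] (h2 : (2 : F) ≠ 0) (hm : 0 < m)
    (u : Matrix.symplecticGroup (Fin m) F)
    (hnil : ((u : Matrix (Fin m ⊕ Fin m) (Fin m ⊕ Fin m) F) - 1) ^ (2 * m) = 0)
    (hreg : ((u : Matrix (Fin m ⊕ Fin m) (Fin m ⊕ Fin m) F) - 1).rank = 2 * m - 1) :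
    Nat.card ↥(Subgroup.centralizer ({u} : Set ↥(Matrix.symplecticGroup (Fin m) F))) =
      2 * Fintype.card F ^ m := by
  have hd : Fintype.card (Fin m ⊕ Fin m) = 2 * m := by
    rw [Fintype.card_sum, Fintype.card_fin, two_mul]
  have hd0 : 0 < 2 * m := by omega
  have hτn := tau_pow u hnil
  have hτr : (tau u).rank = 2 * m - 1 := by
    rw [tau_rank h2 u ⟨_, hnil⟩, hreg]
  have hsk := tau_skew u
  rw [← Trunc.card_unitary F h2 hm]
  symm
  have hmem : ∀ a : TP F (2 * m), sigma F (2 * m) a * a = 1 →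
      Psi (tau u) hτn a ∈ Matrix.symplecticGroup (Fin m) F := by
    intro a ha
    rw [SymplecticGroup.mem_iff', Psi_transpose_mul (tau u) _ hτn hsk, mul_assoc, ← map_mul, ha,
      map_one, mul_one]
  have hcent : ∀ (a : TP F (2 * m)) (ha : sigma F (2 * m) a * a = 1),
      (⟨Psi (tau u) hτn a, hmem a ha⟩ : Matrix.symplecticGroup (Fin m) F) ∈
        Subgroup.centralizer ({u} : Set ↥(Matrix.symplecticGroup (Fin m) F)) := by
    intro a ha
    rw [Subgroup.mem_centralizer_iff]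
    intro h hh
    rw [Set.mem_singleton_iff] at hh
    rw [hh]
    apply Subtype.ext
    exact (Psi_commute (tau u) _ hτn (commute_tau u) a).eq
  apply Nat.card_eq_of_bijective (fun a : {g : TP F (2 * m) // sigma F (2 * m) g * g = 1} =>
    (⟨⟨Psi (tau u) hτn a.1, hmem a.1 a.2⟩, hcent a.1 a.2⟩ :
      ↥(Subgroup.centralizer ({u} : Set ↥(Matrix.symplecticGroup (Fin m) F)))))
  constructor
  · intro a b hab
    apply Subtype.ext
    apply Psi_injective (tau u) hd hd0 hτn hτr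
    exact congrArg (fun x : ↥(Subgroup.centralizer ({u} : Set ↥(Matrix.symplecticGroup (Fin m) F))) =>
      (x.1.1 : Matrix (Fin m ⊕ Fin m) (Fin m ⊕ Fin m) F)) hab
  · rintro ⟨g, hg⟩
    rw [Subgroup.mem_centralizer_iff] at hg
    have hgu : Commute (g : Matrix (Fin m ⊕ Fin m) (Fin m ⊕ Fin m) F)
        (u : Matrix (Fin m ⊕ Fin m) (Fin m ⊕ Fin m) F) := by
      have := hg u rfl
      exact (congrArg (fun x : ↥(Matrix.symplecticGroup (Fin m) F) =>
        (x : Matrix (Fin m ⊕ Fin m) (Fin m ⊕ Fin m) F)) this).symm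
    obtain ⟨a, ha⟩ := exists_Psi_eq (tau u) g.1 hd hd0 hτn hτr (commute_tau_of_commute u _ hgu)
    have hgs := SymplecticGroup.mem_iff'.1 g.2
    rw [← ha, Psi_transpose_mul (tau u) _ hτn hsk, mul_assoc, ← map_mul] at hgs
    have h1 := J_mul_cancel hgs
    have h3 : sigma F (2 * m) a * a = 1 := by
      apply Psi_injective (tau u) hd hd0 hτn hτr
      rw [h1, map_one]
    refine ⟨⟨a, h3⟩, ?_⟩
    apply Subtype.ext
    apply Subtype.ext
    exact ha

end Symp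

end Cfsg.Agent.Helper17.RegUnip
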