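import Mathlib
import Cfsg.Agent.Lib.Helper11.AltForm
import Cfsg.Agent.Lib.Helper28.SympIso
import Cfsg.Agent.Lib.Helper17.RegUnipSp
import Cfsg.Agent.Lib.Helper17.JordanRank

/-!
# Unipotent Jordan types in the symplectic group: the parity condition is necessary (helper17)
-/

set_option autoImplicit false
set_option linter.unusedSectionVars false

namespace Cfsg.Agent.Helper17.JordanSp

open Matrix Cfsg.Agent.Helper17.RegUnip Cfsg.Agent.Helper17.JordanRank

variable {F : Type*} [Field F] {m : ℕ}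

local notation "Mat" => Matrix (Fin m ⊕ Fin m) (Fin m ⊕ Fin m) F
local notation "Jm" => Matrix.J (Fin m) F
local notation "Spm" => Matrix.symplecticGroup (Fin m) F

theorem J_dot (v : Fin m ⊕ Fin m → F) : v ⬝ᵥ (Jm *ᵥ v) = 0 := by
  have := Cfsg.Agent.Helper28.SympIso.sympBil_isAlt (F := F) m v
  rwa [Cfsg.Agent.Helper28.SympIso.sympBil, Matrix.toBilin'_apply'] at this

theorem transpose_pow_mul_J (u : Spm) (s : ℕ) :
    (((u : Mat) - 1)ᵀ) ^ s * Jm = Jm * (((u⁻¹ : Spm) : Mat) - 1) ^ s := by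
  have key : ((u : Mat) - 1)ᵀ * Jm = Jm * (((u⁻¹ : Spm) : Mat) - 1) := by
    rw [transpose_sub, transpose_one, sub_mul, one_mul, transpose_mul_J u, mul_sub, mul_one]
  induction s with
  | zero => simp
  | succ s ih =>
    rw [pow_succ, mul_assoc, key, ← mul_assoc, ih, mul_assoc, ← pow_succ]

theorem inv_sub_one_pow_mul (u : Spm) (s : ℕ) :
    (((u⁻¹ : Spm) : Mat) - 1) ^ s * (u : Mat) ^ s = (-1 : F) ^ s • ((u : Mat) - 1) ^ s := by
  have hc : Commute (((u⁻¹ : Spm) : Mat) - 1) (u : Mat) :=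
    (commute_coe_inv u).sub_left (Commute.one_left _)
  rw [← hc.mul_pow, sub_mul, coe_inv_mul_coe, one_mul]
  have : (1 : Mat) - (u : Mat) = (-1 : F) • ((u : Mat) - 1) := by
    rw [neg_one_smul, neg_sub]
  rw [this, smul_pow]

/-- the ranks of the even powers of `u - 1` are even -/
theorem even_rank_sub_one_pow (u : Spm) (s : ℕ) : Even (((u : Mat) - 1) ^ (2 * s)).rank := by
  set N : Mat := (u : Mat) - 1 with hN
  set S : Mat := (N ^ (2 * s))ᵀ * Jm * (u : Mat) ^ s with hS
  have hS2 : S = (-1 : F) ^ s • ((N ^ s)ᵀ * Jm * N ^ s) := by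
    rw [hS, transpose_pow, two_mul, pow_add, mul_assoc ((Nᵀ) ^ s), transpose_pow_mul_J u s,
      mul_assoc, mul_assoc, inv_sub_one_pow_mul u s, Matrix.mul_smul, Matrix.mul_smul,
      transpose_pow, mul_assoc]
  have halt : ∀ v : Fin m ⊕ Fin m → F, v ⬝ᵥ S.mulVec v = 0 := by
    intro v
    rw [hS2, Matrix.smul_mulVec, dotProduct_smul]
    have : v ⬝ᵥ ((N ^ s)ᵀ * Jm * N ^ s) *ᵥ v = (N ^ s *ᵥ v) ⬝ᵥ (Jm *ᵥ (N ^ s *ᵥ v)) := by
      rw [← Matrix.mulVec_mulVec, ← Matrix.mulVec_mulVec, Matrix.dotProduct_mulVec,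
        Matrix.vecMul_transpose]
    rw [this, J_dot, smul_zero]
  have hrank : S.rank = (N ^ (2 * s)).rank := by
    have hu : IsUnit ((Jm * (u : Mat) ^ s).det) := by
      rw [Matrix.det_mul, Matrix.det_pow]
      apply IsUnit.mul (Matrix.isUnit_det_J _ _)
      apply IsUnit.pow
      exact (Matrix.isUnit_iff_isUnit_det _).1 (IsUnit.of_mul_eq_one _ (coe_mul_coe_inv u))
    rw [hS, mul_assoc, Matrix.rank_mul_eq_left_of_isUnit_det _ _ hu, Matrix.rank_transpose]
  rw [← hrank]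
  exact Cfsg.Agent.Helper11.even_rank_of_alternating S halt

theorem reindex_sub_one_pow {ι κ : Type*} [Fintype ι] [DecidableEq ι] [Fintype κ] [DecidableEq κ]
    (e : ι ≃ κ) (T : Matrix ι ι F) (i : ℕ) :
    (Matrix.reindex e e T - 1) ^ i = Matrix.reindex e e ((T - 1) ^ i) := by
  have h4 : Matrix.reindex e e T - 1 = Matrix.reindex e e (T - 1) := by
    ext a b
    simp [Matrix.one_apply]
  rw [h4]
  induction i with
  | zero =>
    ext a b
    simp [Matrix.one_apply]
  | succ i ih =>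
    rw [pow_succ, ih, pow_succ]
    simp only [Matrix.reindex_apply]
    rw [Matrix.submatrix_mul_equiv]

/-- the parity condition is necessary -/
theorem even_card_of_isConj {t : ℕ} (d : Fin t → ℕ) (e : ((k : Fin t) × Fin (d k)) ≃ (Fin m ⊕ Fin m))
    (A : Spm) (hc : IsConj (Matrix.reindex e e (Cfsg.jordanTypeMatrix d F)) (A : Mat))
    (j : ℕ) (hj : Odd j) : Even (Finset.univ.filter (fun k : Fin t => d k = j)).card := by
  obtain ⟨c, hc⟩ := hc
  -- ranks of powers agree
  have hrank : ∀ i : ℕ, (((A : Mat) - 1) ^ i).rank =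
      ((Cfsg.jordanTypeMatrix d F - 1) ^ i).rank := by
    intro i
    have h1 : (c : Mat) * (Matrix.reindex e e (Cfsg.jordanTypeMatrix d F) - 1) =
        ((A : Mat) - 1) * (c : Mat) := by
      rw [mul_sub, sub_mul, mul_one, one_mul, hc.eq]
    have h2 : (c : Mat) * (Matrix.reindex e e (Cfsg.jordanTypeMatrix d F) - 1) ^ i =
        ((A : Mat) - 1) ^ i * (c : Mat) := by
      induction i with
      | zero => simp
      | succ i ih => rw [pow_succ, ← mul_assoc, ih, mul_assoc, h1, ← mul_assoc, ← pow_succ]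
    have hcu : IsUnit (c : Mat).det := (Matrix.isUnit_iff_isUnit_det _).1 c.isUnit
    have h3 := congrArg Matrix.rank h2
    rw [Matrix.rank_mul_eq_right_of_isUnit_det _ _ hcu,
      Matrix.rank_mul_eq_left_of_isUnit_det _ _ hcu] at h3
    rw [← h3, reindex_sub_one_pow, Matrix.rank_reindex]
  obtain ⟨s, hs⟩ := hj
  have h1 := rank_add_rank (F := F) d j (by omega)
  have e1 : j - 1 = 2 * s := by omega
  have e2 : j + 1 = 2 * (s + 1) := by omega
  rw [e1, e2, ← hrank, ← hrank] at h1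
  obtain ⟨a, ha⟩ := even_rank_sub_one_pow A s
  obtain ⟨b, hb⟩ := even_rank_sub_one_pow A (s + 1)
  rw [ha, hb] at h1
  exact ⟨a + b - ((Cfsg.jordanTypeMatrix d F - 1) ^ j).rank, by omega⟩

end Cfsg.Agent.Helper17.JordanSp
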