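import Mathlib
import Cfsg.Agent.Lib.Helper28.SympIso
import Cfsg.Agent.Lib.Helper17.JordanForms
import Cfsg.Agent.Lib.Helper17.JordanAsm

/-!
# Unipotent Jordan types in the symplectic group: the parity condition is sufficient (helper17)
-/

set_option autoImplicit false
set_option linter.unusedSectionVars false

namespace Cfsg.Agent.Helper17.JordanSpEx

open Matrix Cfsg.Agent.Helper17.JordanAsm Cfsg.Agent.Helper17.JordanForms

variable {F : Type*} [Field F]

/-- a matrix preserving an invertible alternating form is similar to a symplectic matrix -/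
theorem exists_symplectic_conj {ι : Type*} [Fintype ι] [DecidableEq ι] {m : ℕ}
    (hcard : Fintype.card ι = 2 * m)
    (T M Mi : Matrix ι ι F) (hM : M * Mi = 1)
    (halt : ∀ v : ι → F, v ⬝ᵥ (M *ᵥ v) = 0) (hinv : Tᵀ * M * T = M) (e₀ : ι ≃ Fin m ⊕ Fin m) :
    ∃ A : Matrix.symplecticGroup (Fin m) F,
      IsConj (Matrix.reindex e₀ e₀ T) (A : Matrix (Fin m ⊕ Fin m) (Fin m ⊕ Fin m) F) := by
  set B : LinearMap.BilinForm F (ι → F) := Matrix.toBilin' M with hB
  have hAlt : B.IsAlt := by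
    intro v
    rw [hB, Matrix.toBilin'_apply']
    exact halt v
  have hnd : B.Nondegenerate :=
    LinearMap.BilinForm.nondegenerate_toBilin'_of_det_ne_zero' M
      (Matrix.det_ne_zero_of_right_inverse hM)
  have hfin : Module.finrank F (ι → F) = 2 * m := by
    rw [Module.finrank_fintype_fun_eq_card, hcard]
  obtain ⟨e, he⟩ := Cfsg.Agent.Helper28.SympIso.exists_symp_equiv B hAlt hnd m hfin
  have hBT : ∀ x y : ι → F, B (T *ᵥ x) (T *ᵥ y) = B x y := by
    intro x y
    rw [hB, Matrix.toBilin'_apply', Matrix.toBilin'_apply']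
    have : (T *ᵥ x) ⬝ᵥ (M *ᵥ (T *ᵥ y)) = x ⬝ᵥ ((Tᵀ * M * T) *ᵥ y) := by
      conv_rhs => rw [← Matrix.mulVec_mulVec, ← Matrix.mulVec_mulVec, Matrix.dotProduct_mulVec,
        Matrix.vecMul_transpose]
    rw [this, hinv]
  let f : (Fin m ⊕ Fin m → F) →ₗ[F] (Fin m ⊕ Fin m → F) :=
    e.toLinearMap ∘ₗ Matrix.toLin' T ∘ₗ e.symm.toLinearMap
  have hf : ∀ u, f u = e (T *ᵥ (e.symm u)) := by
    intro u
    simp [f, Matrix.toLin'_apply]
  have hA : LinearMap.toMatrix' f ∈ Matrix.symplecticGroup (Fin m) F := by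
    apply Cfsg.Agent.Helper28.SympIso.mem_symplectic_of_preserves
    intro u v
    rw [LinearMap.toMatrix'_mulVec, LinearMap.toMatrix'_mulVec, hf, hf,
      ← Cfsg.Agent.Helper28.SympIso.sympBil_apply, ← Cfsg.Agent.Helper28.SympIso.sympBil_apply,
      he, hBT, ← he, LinearEquiv.apply_symm_apply, LinearEquiv.apply_symm_apply]
  refine ⟨⟨_, hA⟩, ?_⟩
  let cl : (Fin m ⊕ Fin m → F) →ₗ[F] (Fin m ⊕ Fin m → F) :=
    e.toLinearMap ∘ₗ LinearMap.funLeft F F e₀
  let cli : (Fin m ⊕ Fin m → F) →ₗ[F] (Fin m ⊕ Fin m → F) :=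
    LinearMap.funLeft F F e₀.symm ∘ₗ e.symm.toLinearMap
  have h1 : cl ∘ₗ cli = LinearMap.id := by
    apply LinearMap.ext
    intro v
    simp only [cl, cli, LinearMap.comp_apply, LinearEquiv.coe_coe, LinearMap.id_apply]
    have : LinearMap.funLeft F F e₀ (LinearMap.funLeft F F e₀.symm (e.symm v)) = e.symm v := by
      ext i
      simp [LinearMap.funLeft_apply]
    rw [this, LinearEquiv.apply_symm_apply]
  have h2 : cli ∘ₗ cl = LinearMap.id := by
    apply LinearMap.ext
    intro v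
    simp only [cl, cli, LinearMap.comp_apply, LinearEquiv.coe_coe, LinearMap.id_apply]
    rw [LinearEquiv.symm_apply_apply]
    ext i
    simp [LinearMap.funLeft_apply]
  have h3 : LinearMap.toMatrix' cl * LinearMap.toMatrix' cli = 1 := by
    rw [← LinearMap.toMatrix'_comp, h1, LinearMap.toMatrix'_id]
  have h4 : LinearMap.toMatrix' cli * LinearMap.toMatrix' cl = 1 := by
    rw [← LinearMap.toMatrix'_comp, h2, LinearMap.toMatrix'_id]
  refine ⟨⟨LinearMap.toMatrix' cl, LinearMap.toMatrix' cli, h3, h4⟩, ?_⟩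
  show LinearMap.toMatrix' cl * Matrix.reindex e₀ e₀ T = LinearMap.toMatrix' f * LinearMap.toMatrix' cl
  apply Matrix.toLin'.injective
  apply LinearMap.ext
  intro v
  rw [Matrix.toLin'_mul, Matrix.toLin'_mul, LinearMap.comp_apply, LinearMap.comp_apply,
    Matrix.toLin'_toMatrix', Matrix.toLin'_toMatrix', Matrix.toLin'_apply, hf]
  simp only [cl, LinearMap.comp_apply, LinearEquiv.coe_coe, LinearEquiv.symm_apply_apply]
  apply congrArg
  rw [Matrix.reindex_apply, Matrix.submatrix_mulVec_equiv]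
  ext i
  simp [LinearMap.funLeft_apply]
  rfl


/-- an invertible alternating invariant matrix for a Jordan type whose odd sizes have even
multiplicity -/
theorem exists_alt_invariant {t : ℕ} (d : Fin t → ℕ)
    (hpar : ∀ j : ℕ, Odd j → Even (Finset.univ.filter (fun k : Fin t => d k = j)).card) :
    ∃ M Mi : Matrix ((k : Fin t) × Fin (d k)) ((k : Fin t) × Fin (d k)) F,
      M * Mi = 1 ∧ Mi * M = 1 ∧ (∀ v, v ⬝ᵥ (M *ᵥ v) = 0) ∧
      (Cfsg.jordanTypeMatrix d F)ᵀ * M * Cfsg.jordanTypeMatrix d F = M := by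
  classical
  have hg : ∀ n, ∃ g gi : Matrix (Fin n) (Fin n) F, g * gi = 1 ∧ gi * g = 1 ∧
      (Even n → ∀ v : Fin n → F, v ⬝ᵥ (g *ᵥ v) = 0) ∧
      (Cfsg.jordanBlock n F)ᵀ * g * Cfsg.jordanBlock n F = g := by
    intro n
    by_cases hn : Even n
    · obtain ⟨k, hk⟩ := hn
      obtain ⟨G, Gi, h1, h2, h3, h4⟩ := exists_alt_form (F := F) n k (by omega)
      exact ⟨G, Gi, h1, h2, fun _ => h3, h4⟩
    · obtain ⟨g, gi, h1, h2, h3⟩ := exists_inv_form (F := F) n
      exact ⟨g, gi, h1, h2, fun h => absurd h hn, h3⟩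
  choose gg ggi hg1 hg2 hg3 hg4 using hg
  have hcast : ∀ n n' (h : n = n') (a b : Fin n),
      gg n' (Fin.cast h a) (Fin.cast h b) = gg n a b := by
    intro n n' h a b
    subst h
    rfl
  obtain ⟨π, hπ1, hπ2, hπ3⟩ := exists_pairing d Odd hpar
  let p : Pairing d := ⟨π, hπ1, hπ2⟩
  let E : ∀ k, Matrix (Fin (d k)) (Fin (d k)) F :=
    fun k => if k ≤ π k then gg (d k) else -(gg (d k))ᵀ
  let Ei : ∀ k, Matrix (Fin (d k)) (Fin (d k)) F :=
    fun k => if k ≤ π k then ggi (d k) else -(ggi (d k))ᵀ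
  have hE1 : ∀ k, E k * Ei k = 1 := by
    intro k
    by_cases h : k ≤ π k
    · simp only [E, Ei, if_pos h]
      exact hg1 _
    · simp only [E, Ei, if_neg h]
      rw [neg_mul_neg, ← transpose_mul, hg2, transpose_one]
  have hE2 : ∀ k, Ei k * E k = 1 := by
    intro k
    by_cases h : k ≤ π k
    · simp only [E, Ei, if_pos h]
      exact hg2 _
    · simp only [E, Ei, if_neg h]
      rw [neg_mul_neg, ← transpose_mul, hg1, transpose_one]
  have hE3 : ∀ k, (Cfsg.jordanBlock (d k) F)ᵀ * E k * Cfsg.jordanBlock (d k) F = E k := by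
    intro k
    by_cases h : k ≤ π k
    · simp only [E, if_pos h]
      exact hg4 _
    · simp only [E, if_neg h]
      have := congrArg Matrix.transpose (hg4 (d k))
      rw [transpose_mul, transpose_mul, transpose_transpose, ← mul_assoc] at this
      rw [mul_neg, neg_mul, this]
  have hE4 : ∀ k (a b : Fin (d k)),
      E (p.π k) (Fin.cast (p.size k).symm b) (Fin.cast (p.size k).symm a) = (-1 : F) * E k a b := by
    intro k a b
    show E (π k) (Fin.cast (hπ2 k).symm b) (Fin.cast (hπ2 k).symm a) = (-1 : F) * E k a b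
    rcases lt_trichotomy k (π k) with h | h | h
    · have h1 : ¬ π k ≤ π (π k) := by rw [hπ1]; exact not_le.2 h
      simp only [E, if_neg h1, if_pos h.le]
      rw [Matrix.neg_apply, Matrix.transpose_apply, hcast]
      ring
    · have h1 : π k ≤ π (π k) := by rw [hπ1]; exact h.symm.le
      simp only [E, if_pos h1, if_pos h.le]
      rw [hcast]
      have hev : Even (d k) := by
        have := (hπ3 k).1 h.symm
        exact Nat.not_odd_iff_even.1 this
      have := (skew_of_alt _ (hg3 (d k) hev)).2 a b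
      rw [this]
      ring
    · have h1 : π k ≤ π (π k) := by rw [hπ1]; exact h.le
      simp only [E, if_pos h1, if_neg (not_le.2 h)]
      rw [Matrix.neg_apply, Matrix.transpose_apply, hcast]
      ring
  have hE5 : ∀ k, p.π k = k → ∀ a, E k a a = 0 := by
    intro k hk a
    have hk' : π k = k := hk
    have hev : Even (d k) := Nat.not_odd_iff_even.1 ((hπ3 k).1 hk')
    simp only [E, if_pos hk'.symm.le]
    exact (skew_of_alt _ (hg3 (d k) hev)).1 a
  obtain ⟨h1, h2⟩ := p.asm_unit E Ei hE1 hE2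
  refine ⟨p.asm E, _, h1, h2, ?_, ?_⟩
  · apply alt_of_skew
    · rw [p.asm_transpose E (-1) hE4, neg_one_smul]
    · exact p.asm_diag E hE5
  · rw [p.asm_invariant]
    congr 1
    funext k
    exact hE3 k

/-- the parity condition is sufficient -/
theorem exists_isConj {m t : ℕ} (d : Fin t → ℕ) (hsum : ∑ k, d k = 2 * m)
    (hpar : ∀ j : ℕ, Odd j → Even (Finset.univ.filter (fun k : Fin t => d k = j)).card) :
    ∃ e : ((k : Fin t) × Fin (d k)) ≃ (Fin m ⊕ Fin m),
      ∃ A : Matrix.symplecticGroup (Fin m) F,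
        IsConj (Matrix.reindex e e (Cfsg.jordanTypeMatrix d F))
          (A : Matrix (Fin m ⊕ Fin m) (Fin m ⊕ Fin m) F) := by
  have hcard : Fintype.card ((k : Fin t) × Fin (d k)) = 2 * m := by
    rw [Fintype.card_sigma]
    simp only [Fintype.card_fin]
    exact hsum
  have hcard' : Fintype.card ((k : Fin t) × Fin (d k)) = Fintype.card (Fin m ⊕ Fin m) := by
    rw [hcard, Fintype.card_sum, Fintype.card_fin]
    omega
  obtain ⟨M, Mi, h1, h2, h3, h4⟩ := exists_alt_invariant (F := F) d hpar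
  let e₀ := Fintype.equivOfCardEq hcard'
  exact ⟨e₀, exists_symplectic_conj hcard _ M Mi h1 h3 h4 e₀⟩

end Cfsg.Agent.Helper17.JordanSpEx
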