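import Mathlib
import Cfsg.Prelude.Def_JordanBlocks
import Cfsg.Agent.Lib.Helper17.JordanRank

set_option autoImplicit false
set_option linter.unusedSectionVars false

namespace Cfsg.Agent.Helper17.UnipCent

open Finset

variable {F : Type*} [Field F] {t : ℕ} (d : Fin t → ℕ)

/-- the index type of the Jordan matrix -/
abbrev Idx := (k : Fin t) × Fin (d k)

/-- the nilpotent part of the Jordan matrix -/
def Nil (F : Type*) [Field F] : Matrix (Idx d) (Idx d) F := Cfsg.jordanTypeMatrix d F - 1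

theorem Nil_apply (a b : Idx d) :
    Nil d F a b = if a.1 = b.1 ∧ a.2.val = b.2.val + 1 then 1 else 0 := by
  have h := JordanRank.jordanTypeMatrix_sub_one_pow (F := F) d 1
  rw [pow_one] at h
  unfold Nil
  rw [h]
  obtain ⟨k, i⟩ := a
  obtain ⟨l, j⟩ := b
  rw [Matrix.blockDiagonal'_apply]
  by_cases hkl : k = l
  · subst hkl
    rw [dif_pos rfl, pow_one, JordanRank.jordanBlock_sub_one_apply]
    simp
  · rw [dif_neg hkl, if_neg]
    rintro ⟨h1, _⟩
    exact hkl h1

/-- entries with natural number indices, zero out of range -/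
def ent (X : Matrix (Idx d) (Idx d) F) (k : Fin t) (i : ℕ) (l : Fin t) (j : ℕ) : F :=
  if h : i < d k ∧ j < d l then X ⟨k, ⟨i, h.1⟩⟩ ⟨l, ⟨j, h.2⟩⟩ else 0

theorem ent_eq (X : Matrix (Idx d) (Idx d) F) (a b : Idx d) :
    ent d X a.1 a.2.val b.1 b.2.val = X a b := by
  unfold ent
  rw [dif_pos ⟨a.2.2, b.2.2⟩]

theorem ent_of_lt (X : Matrix (Idx d) (Idx d) F) (k : Fin t) (i : ℕ) (l : Fin t) (j : ℕ)
    (hi : i < d k) (hj : j < d l) : ent d X k i l j = X ⟨k, ⟨i, hi⟩⟩ ⟨l, ⟨j, hj⟩⟩ := by
  unfold ent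
  rw [dif_pos ⟨hi, hj⟩]

theorem ent_of_not (X : Matrix (Idx d) (Idx d) F) (k : Fin t) (i : ℕ) (l : Fin t) (j : ℕ)
    (h : ¬ (i < d k ∧ j < d l)) : ent d X k i l j = 0 := by
  unfold ent
  rw [dif_neg h]

theorem mul_Nil_apply (X : Matrix (Idx d) (Idx d) F) (a b : Idx d) :
    (X * Nil d F) a b = ent d X a.1 a.2.val b.1 (b.2.val + 1) := by
  classical
  rw [Matrix.mul_apply]
  by_cases h : b.2.val + 1 < d b.1
  · rw [ent_of_lt d X _ _ _ _ a.2.2 h]
    rw [Finset.sum_eq_single (⟨b.1, ⟨b.2.val + 1, h⟩⟩ : Idx d)]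
    · rw [Nil_apply, if_pos ⟨rfl, rfl⟩, mul_one]
    · intro c _ hc
      rw [Nil_apply, if_neg, mul_zero]
      rintro ⟨h1, h2⟩
      apply hc
      obtain ⟨k, i⟩ := c
      simp only at h1 h2
      subst h1
      congr 1
      exact Fin.ext h2
    · intro hh
      exact absurd (mem_univ _) hh
  · rw [ent_of_not d X _ _ _ _ (fun hh => h hh.2)]
    apply Finset.sum_eq_zero
    intro c _
    rw [Nil_apply, if_neg, mul_zero]
    rintro ⟨h1, h2⟩
    apply h
    have h3 := c.2.2
    have h4 : d c.1 = d b.1 := congrArg d h1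
    omega

theorem Nil_mul_apply (X : Matrix (Idx d) (Idx d) F) (a b : Idx d) :
    (Nil d F * X) a b = if a.2.val = 0 then 0 else ent d X a.1 (a.2.val - 1) b.1 b.2.val := by
  classical
  rw [Matrix.mul_apply]
  by_cases h : a.2.val = 0
  · rw [if_pos h]
    apply Finset.sum_eq_zero
    intro c _
    rw [Nil_apply, if_neg, zero_mul]
    rintro ⟨_, h2⟩
    omega
  · rw [if_neg h]
    have hlt : a.2.val - 1 < d a.1 := by have := a.2.2; omega
    rw [ent_of_lt d X _ _ _ _ hlt b.2.2]
    rw [Finset.sum_eq_single (⟨a.1, ⟨a.2.val - 1, hlt⟩⟩ : Idx d)]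
    · rw [Nil_apply, if_pos, one_mul]
      refine ⟨rfl, ?_⟩
      show a.2.val = a.2.val - 1 + 1
      omega
    · intro c _ hc
      rw [Nil_apply, if_neg, zero_mul]
      rintro ⟨h1, h2⟩
      apply hc
      obtain ⟨k, i⟩ := c
      simp only at h1 h2
      subst h1
      congr 1
      apply Fin.ext
      show i.val = a.2.val - 1
      omega
    · intro hh
      exact absurd (mem_univ _) hh

/-- commuting with the Jordan matrix is commuting with its nilpotent part -/
theorem comm_iff (X : Matrix (Idx d) (Idx d) F) :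
    X * Cfsg.jordanTypeMatrix d F = Cfsg.jordanTypeMatrix d F * X ↔ X * Nil d F = Nil d F * X := by
  unfold Nil
  rw [Matrix.mul_sub, Matrix.sub_mul, mul_one, one_mul]
  constructor
  · intro h; rw [h]
  · intro h
    exact sub_left_injective h

/-- the commutation relation in terms of entries -/
theorem comm_iff_ent (X : Matrix (Idx d) (Idx d) F) :
    X * Nil d F = Nil d F * X ↔ ∀ (k : Fin t) (i : ℕ) (l : Fin t) (j : ℕ), i < d k → j < d l →
      ent d X k i l (j + 1) = if i = 0 then 0 else ent d X k (i - 1) l j := by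
  constructor
  · intro h k i l j hi hj
    have h1 := congrFun (congrFun h ⟨k, ⟨i, hi⟩⟩) ⟨l, ⟨j, hj⟩⟩
    rw [mul_Nil_apply, Nil_mul_apply] at h1
    exact h1
  · intro h
    ext a b
    rw [mul_Nil_apply, Nil_mul_apply]
    exact h a.1 a.2.val b.1 b.2.val a.2.2 b.2.2

section Shift

variable (X : Matrix (Idx d) (Idx d) F)
  (hX : ∀ (k : Fin t) (i : ℕ) (l : Fin t) (j : ℕ), i < d k → j < d l →
      ent d X k i l (j + 1) = if i = 0 then 0 else ent d X k (i - 1) l j)

include hX in
theorem ent_shift (k l : Fin t) : ∀ (j i : ℕ), i < d k → j < d l →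
    ent d X k i l j = if j ≤ i then ent d X k (i - j) l 0 else 0 := by
  intro j
  induction j with
  | zero => intro i hi hj; simp
  | succ j ih =>
    intro i hi hj
    rw [hX k i l j hi (by omega)]
    by_cases h0 : i = 0
    · rw [if_pos h0, if_neg (by omega)]
    · rw [if_neg h0, ih (i - 1) (by omega) (by omega)]
      by_cases h1 : j ≤ i - 1
      · rw [if_pos h1, if_pos (by omega)]
        congr 1
        omega
      · rw [if_neg h1, if_neg (by omega)]

include hX in
theorem ent_col_zero (hd : ∀ k, 1 ≤ d k) (k l : Fin t) (r : ℕ) (hr : r + d l < d k) :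
    ent d X k r l 0 = 0 := by
  have hl := hd l
  have h1 := hX k (r + d l) l (d l - 1) hr (by omega)
  rw [ent_of_not d X _ _ _ _ (by omega), if_neg (by omega)] at h1
  rw [ent_shift d X hX k l (d l - 1) (r + d l - 1) (by omega) (by omega), if_pos (by omega)] at h1
  have h2 : r + d l - 1 - (d l - 1) = r := by omega
  rw [h2] at h1
  exact h1.symm

include hX in
theorem ent_formula (hd : ∀ k, 1 ≤ d k) (k l : Fin t) (i j : ℕ) (hi : i < d k) (hj : j < d l) :
    ent d X k i l j = if j + (d k - d l) ≤ i then ent d X k (i - j) l 0 else 0 := by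
  rw [ent_shift d X hX k l j i hi hj]
  by_cases h1 : j ≤ i
  · rw [if_pos h1]
    by_cases h2 : j + (d k - d l) ≤ i
    · rw [if_pos h2]
    · rw [if_neg h2]
      apply ent_col_zero d X hX hd
      omega
  · rw [if_neg h1, if_neg (by omega)]

end Shift

/-- the parameter index type -/
abbrev Par := (k : Fin t) × (l : Fin t) × Fin (min (d k) (d l))

/-- values of a parameter family with natural number index -/
def cv (c : Par d → F) (k l : Fin t) (m : ℕ) : F :=
  if h : m < min (d k) (d l) then c ⟨k, l, ⟨m, h⟩⟩ else 0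

/-- the block-Toeplitz matrix of a parameter family -/
def Xc (c : Par d → F) : Matrix (Idx d) (Idx d) F :=
  Matrix.of fun a b =>
    if b.2.val + (d a.1 - d b.1) ≤ a.2.val then cv d c a.1 b.1 (a.2.val - b.2.val - (d a.1 - d b.1))
    else 0

theorem ent_Xc (c : Par d → F) (k : Fin t) (i : ℕ) (l : Fin t) (j : ℕ) (hi : i < d k)
    (hj : j < d l) :
    ent d (Xc d c) k i l j = if j + (d k - d l) ≤ i then cv d c k l (i - j - (d k - d l)) else 0 := by
  rw [ent_of_lt d _ _ _ _ _ hi hj]
  rfl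

theorem Xc_comm (c : Par d → F) : Xc d c * Nil d F = Nil d F * Xc d c := by
  rw [comm_iff_ent]
  intro k i l j hi hj
  by_cases hj1 : j + 1 < d l
  · rw [ent_Xc d c k i l (j + 1) hi hj1]
    by_cases h0 : i = 0
    · rw [if_pos h0, if_neg (by omega)]
    · rw [if_neg h0, ent_Xc d c k (i - 1) l j (by omega) hj]
      by_cases h1 : j + 1 + (d k - d l) ≤ i
      · rw [if_pos h1, if_pos (by omega)]
        congr 1
        omega
      · rw [if_neg h1, if_neg (by omega)]
  · rw [ent_of_not d _ _ _ _ _ (fun hh => hj1 hh.2)]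
    by_cases h0 : i = 0
    · rw [if_pos h0]
    · rw [if_neg h0, ent_Xc d c k (i - 1) l j (by omega) hj, if_neg (by omega)]

/-- the parameters of a matrix -/
def cOf (X : Matrix (Idx d) (Idx d) F) : Par d → F :=
  fun p => ent d X p.1 (p.2.2.val + (d p.1 - d p.2.1)) p.2.1 0

theorem cv_cOf (X : Matrix (Idx d) (Idx d) F) (k l : Fin t) (m : ℕ) (hm : m < min (d k) (d l)) :
    cv d (cOf d X) k l m = ent d X k (m + (d k - d l)) l 0 := by
  unfold cv
  rw [dif_pos hm]
  rfl

theorem Xc_cOf (hd : ∀ k, 1 ≤ d k) (X : Matrix (Idx d) (Idx d) F)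
    (hX : X * Nil d F = Nil d F * X) : Xc d (cOf d X) = X := by
  rw [comm_iff_ent] at hX
  ext a b
  rw [← ent_eq d X a b, ent_formula d X hX hd a.1 b.1 a.2.val b.2.val a.2.2 b.2.2]
  show (if b.2.val + (d a.1 - d b.1) ≤ a.2.val then
    cv d (cOf d X) a.1 b.1 (a.2.val - b.2.val - (d a.1 - d b.1)) else 0) = _
  by_cases h : b.2.val + (d a.1 - d b.1) ≤ a.2.val
  · rw [if_pos h, if_pos h, cv_cOf]
    · congr 1
      omega
    · have := a.2.2
      have := b.2.2
      omega
  · rw [if_neg h, if_neg h]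

theorem cOf_Xc (hd : ∀ k, 1 ≤ d k) (c : Par d → F) : cOf d (Xc d c) = c := by
  funext p
  obtain ⟨k, l, m⟩ := p
  show ent d (Xc d c) k (m.val + (d k - d l)) l 0 = c ⟨k, l, m⟩
  have hm := m.2
  rw [ent_Xc d c k _ l 0 (by omega) (by have := hd l; omega), if_pos (by omega)]
  unfold cv
  have h2 : m.val + (d k - d l) - 0 - (d k - d l) = m.val := by omega
  have h3 : m.val + (d k - d l) - 0 - (d k - d l) < min (d k) (d l) := by rw [h2]; exact hm
  rw [dif_pos h3]
  have h4 : (⟨m.val + (d k - d l) - 0 - (d k - d l), h3⟩ : Fin (min (d k) (d l))) = m := Fin.ext h2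
  rw [h4]

end Cfsg.Agent.Helper17.UnipCent
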