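import Mathlib
import Cfsg.Agent.Lib.Helper17.UnipCent1
import Cfsg.Agent.Lib.Helper17.BlockTriCount

set_option autoImplicit false
set_option linter.unusedSectionVars false

namespace Cfsg.Agent.Helper17.UnipCent

open Finset

variable {F : Type*} [Field F] {t : ℕ} (d : Fin t → ℕ)

/-- the label making the block-Toeplitz matrices block triangular -/
def lab (x : Idx d) : ℕᵒᵈ ×ₗ ℕ := toLex (OrderDual.toDual x.2.val, d x.1 - x.2.val)

theorem lab_eq_iff (x y : Idx d) : lab d x = lab d y ↔ x.2.val = y.2.val ∧ d x.1 = d y.1 := by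
  have hx := x.2.2
  have hy := y.2.2
  unfold lab
  constructor
  · intro h
    have h1 := toLex.injective h
    have h2 : x.2.val = y.2.val := congrArg (fun p : ℕᵒᵈ × ℕ => OrderDual.ofDual p.1) h1
    have h3 : d x.1 - x.2.val = d y.1 - y.2.val := congrArg Prod.snd h1
    refine ⟨h2, ?_⟩
    omega
  · rintro ⟨h1, h2⟩
    rw [h1, h2]

theorem Xc_blockTriangular (c : Par d → F) : (Xc d c).BlockTriangular (lab d) := by
  intro a b hab
  show (if b.2.val + (d a.1 - d b.1) ≤ a.2.val then _ else 0) = 0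
  rw [if_neg]
  intro h
  apply absurd hab
  rw [not_lt]
  unfold lab
  rw [Prod.Lex.toLex_le_toLex]
  have ha := a.2.2
  have hb := b.2.2
  by_cases h1 : b.2.val = a.2.val
  · right
    refine ⟨by simp [h1], ?_⟩
    show d a.1 - a.2.val ≤ d b.1 - b.2.val
    omega
  · left
    show OrderDual.toDual a.2.val < OrderDual.toDual b.2.val
    rw [OrderDual.toDual_lt_toDual]
    omega

/-- the diagonal blocks -/
def Cs (c : Par d → F) (s : ℕ) : Matrix {k : Fin t // d k = s} {k : Fin t // d k = s} F :=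
  Matrix.of fun k l => cv d c k.1 l.1 0

/-- the index set of a diagonal block of `Xc` -/
def blockEquiv (x₀ : Idx d) : {x : Idx d // lab d x = lab d x₀} ≃ {k : Fin t // d k = d x₀.1} where
  toFun x := ⟨x.1.1, ((lab_eq_iff d x.1 x₀).1 x.2).2⟩
  invFun k := ⟨⟨k.1, ⟨x₀.2.val, by rw [k.2]; exact x₀.2.2⟩⟩, by rw [lab_eq_iff]; exact ⟨rfl, k.2⟩⟩
  left_inv x := by
    obtain ⟨⟨k, i⟩, hx⟩ := x
    have h := ((lab_eq_iff d _ x₀).1 hx).1
    apply Subtype.ext
    simp only
    congr 1
    exact Fin.ext h.symm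
  right_inv k := rfl

theorem toSquareBlock_Xc (c : Par d → F) (x₀ : Idx d) :
    (Xc d c).toSquareBlock (lab d) (lab d x₀) =
      (Cs d c (d x₀.1)).submatrix (blockEquiv d x₀) (blockEquiv d x₀) := by
  ext x y
  obtain ⟨x, hx⟩ := x
  obtain ⟨y, hy⟩ := y
  have h1 := (lab_eq_iff d _ x₀).1 hx
  have h2 := (lab_eq_iff d _ x₀).1 hy
  show (if y.2.val + (d x.1 - d y.1) ≤ x.2.val then
    cv d c x.1 y.1 (x.2.val - y.2.val - (d x.1 - d y.1)) else 0) = cv d c x.1 y.1 0
  rw [if_pos (by omega)]
  congr 1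
  omega

theorem det_toSquareBlock_Xc (c : Par d → F) (x₀ : Idx d) :
    ((Xc d c).toSquareBlock (lab d) (lab d x₀)).det = (Cs d c (d x₀.1)).det := by
  rw [toSquareBlock_Xc, Matrix.det_submatrix_equiv_self]

theorem det_Xc_ne_zero_iff (hd : ∀ k, 1 ≤ d k) (c : Par d → F) :
    (Xc d c).det ≠ 0 ↔ ∀ s : ℕ, (Cs d c s).det ≠ 0 := by
  classical
  rw [(Xc_blockTriangular d c).det, Finset.prod_ne_zero_iff]
  constructor
  · intro h s
    by_cases hs : ∃ k : Fin t, d k = s
    · obtain ⟨k, rfl⟩ := hs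
      have := h (lab d ⟨k, ⟨0, hd k⟩⟩) (Finset.mem_image_of_mem _ (Finset.mem_univ _))
      rw [det_toSquareBlock_Xc] at this
      exact this
    · have : IsEmpty {k : Fin t // d k = s} := ⟨fun k => hs ⟨k.1, k.2⟩⟩
      rw [Matrix.det_isEmpty]
      exact one_ne_zero
  · intro h a ha
    obtain ⟨x₀, _, rfl⟩ := Finset.mem_image.1 ha
    rw [det_toSquareBlock_Xc]
    exact h _

section Count

variable [Fintype F]

/-- the centraliser is parametrised by the parameter families with invertible diagonal blocks -/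
theorem card_centralizer (hd : ∀ k, 1 ≤ d k) :
    Nat.card {g : GL (Idx d) F // (g : Matrix (Idx d) (Idx d) F) * Cfsg.jordanTypeMatrix d F =
        Cfsg.jordanTypeMatrix d F * (g : Matrix (Idx d) (Idx d) F)} =
      Nat.card {c : Par d → F // ∀ s : ℕ, (Cs d c s).det ≠ 0} := by
  symm
  have key : ∀ c : {c : Par d → F // ∀ s : ℕ, (Cs d c s).det ≠ 0}, IsUnit (Xc d c.1).det :=
    fun c => isUnit_iff_ne_zero.2 ((det_Xc_ne_zero_iff d hd c.1).2 c.2)
  refine Nat.card_eq_of_bijective
    (fun c => ⟨Matrix.nonsingInvUnit (Xc d c.1) (key c), ?_⟩) ⟨?_, ?_⟩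
  · show Xc d c.1 * Cfsg.jordanTypeMatrix d F = Cfsg.jordanTypeMatrix d F * Xc d c.1
    rw [comm_iff]
    exact Xc_comm d c.1
  · intro c c' h
    apply Subtype.ext
    have h1 : Xc d c.1 = Xc d c'.1 :=
      congrArg (fun g : {g : GL (Idx d) F // (g : Matrix (Idx d) (Idx d) F) *
        Cfsg.jordanTypeMatrix d F = Cfsg.jordanTypeMatrix d F * (g : Matrix (Idx d) (Idx d) F)} =>
          ((g.1 : GL (Idx d) F) : Matrix (Idx d) (Idx d) F)) h
    rw [← cOf_Xc d hd c.1, h1, cOf_Xc d hd]
  · rintro ⟨g, hg⟩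
    have hg' := hg
    rw [comm_iff] at hg'
    have h1 := Xc_cOf d hd g.1 hg'
    refine ⟨⟨cOf d g.1, ?_⟩, ?_⟩
    · rw [← det_Xc_ne_zero_iff d hd, h1]
      exact (Matrix.isUnits_det_units g).ne_zero
    · apply Subtype.ext
      apply Units.ext
      exact h1

/-- the parameters on the diagonal blocks -/
def PD (p : Par d) : Prop := d p.1 = d p.2.1 ∧ p.2.2.val = 0

instance : DecidablePred (PD d) := fun p => by unfold PD; infer_instance

/-- splitting the parameters into the diagonal blocks and the rest -/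
def split (N : ℕ) (c : {c : Par d → F // ∀ s : ℕ, (Cs d c s).det ≠ 0}) :
    (∀ s : Fin (N + 1),
      {M : Matrix {k : Fin t // d k = s.val} {k : Fin t // d k = s.val} F // M.det ≠ 0}) ×
      ({p : Par d // ¬ PD d p} → F) :=
  (fun s => ⟨Cs d c.1 s.val, c.2 s.val⟩, fun p => c.1 p.1)

theorem cv_zero (hd : ∀ k, 1 ≤ d k) (c : Par d → F) (k l : Fin t) :
    cv d c k l 0 = c ⟨k, l, ⟨0, by have := hd k; have := hd l; omega⟩⟩ := by
  unfold cv
  rw [dif_pos]

theorem split_bijective (hd : ∀ k, 1 ≤ d k) (N : ℕ) (hN : ∀ k, d k ≤ N) :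
    Function.Bijective (split (F := F) d N) := by
  constructor
  · rintro ⟨c, hc⟩ ⟨c', hc'⟩ h
    apply Subtype.ext
    funext p
    have h1 := congrArg Prod.fst h
    have h2 := congrArg Prod.snd h
    by_cases hp : PD d p
    · obtain ⟨k, l, m⟩ := p
      obtain ⟨hkl, hm⟩ := hp
      have h3 := congrArg Subtype.val (congrFun h1 ⟨d k, Nat.lt_succ_of_le (hN k)⟩)
      have h4 : cv d c k l 0 = cv d c' k l 0 := congrFun (congrFun h3 ⟨k, rfl⟩) ⟨l, hkl.symm⟩
      rw [cv_zero d hd, cv_zero d hd] at h4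
      have hm' : m = ⟨0, by have := hd k; have := hd l; omega⟩ := Fin.ext hm
      rw [hm']
      exact h4
    · exact congrFun h2 ⟨p, hp⟩
  · rintro ⟨M, u⟩
    let c : Par d → F := fun p =>
      if h : PD d p then (M ⟨d p.1, Nat.lt_succ_of_le (hN p.1)⟩).1 ⟨p.1, rfl⟩ ⟨p.2.1, h.1.symm⟩
      else u ⟨p, h⟩
    have hc : ∀ s : Fin (N + 1), Cs d c s.val = (M s).1 := by
      intro s
      ext k l
      obtain ⟨s, hs⟩ := s
      obtain ⟨k, hk⟩ := k
      obtain ⟨l, hl⟩ := l
      simp only at hk hl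
      subst hk
      show cv d c k l 0 = _
      rw [cv_zero d hd]
      have hP : PD d ⟨k, l, ⟨0, by have := hd k; have := hd l; omega⟩⟩ := ⟨hl.symm, rfl⟩
      show (if h : PD d ⟨k, l, ⟨0, _⟩⟩ then _ else _) = _
      rw [dif_pos hP]
    refine ⟨⟨c, ?_⟩, ?_⟩
    · intro s
      by_cases hs : s < N + 1
      · have := hc ⟨s, hs⟩
        simp only at this
        rw [this]
        exact (M ⟨s, hs⟩).2
      · have : IsEmpty {k : Fin t // d k = s} := ⟨fun k => hs (by have := hN k.1; have := k.2; omega)⟩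
        rw [Matrix.det_isEmpty]
        exact one_ne_zero
    · apply Prod.ext
      · funext s
        apply Subtype.ext
        exact hc s
      · funext p
        show c p.1 = u p
        show (if h : PD d p.1 then _ else _) = _
        rw [dif_neg p.2]

theorem card_params (hd : ∀ k, 1 ≤ d k) (N : ℕ) (hN : ∀ k, d k ≤ N) :
    Nat.card {c : Par d → F // ∀ s : ℕ, (Cs d c s).det ≠ 0} =
      (∏ s ∈ Finset.range (N + 1), Nat.card (GL {k : Fin t // d k = s} F)) *
        Fintype.card F ^ Nat.card {p : Par d // ¬ PD d p} := by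
  rw [Nat.card_eq_of_bijective _ (split_bijective (F := F) d hd N hN), Nat.card_prod, Nat.card_pi,
    Nat.card_fun, Nat.card_eq_fintype_card (α := F)]
  congr 1
  rw [← Fin.prod_univ_eq_prod_range (fun s => Nat.card (GL {k : Fin t // d k = s} F)) (N + 1)]
  apply Finset.prod_congr rfl
  intro s _
  exact BlockTri.card_det_ne_zero _

end Count

/-- the number of blocks of a given size -/
def mult (i : ℕ) : ℕ := (univ.filter (fun k : Fin t => d k = i)).card

theorem sum_comp_d (h : ℕ → ℕ) (N : ℕ) (hN : ∀ k, d k ≤ N) :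
    ∑ k, h (d k) = ∑ i ∈ range (N + 1), mult d i * h i := by
  rw [← Finset.sum_fiberwise_of_maps_to (s := univ) (t := range (N + 1)) (g := d)
    (fun k _ => mem_range.2 (Nat.lt_succ_of_le (hN k)))]
  apply Finset.sum_congr rfl
  intro i _
  rw [Finset.sum_congr rfl (fun k hk => by rw [(mem_filter.1 hk).2] : ∀ k ∈ univ.filter (fun k : Fin t => d k = i), h (d k) = h i)]
  rw [Finset.sum_const, smul_eq_mul]
  rfl

/-- the number of free parameters in position `(i, j)` -/
def gg (i j : ℕ) : ℕ := if i = j then i - 1 else min i j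

theorem sum_fin_aux (n : ℕ) (A : Prop) [Decidable A] :
    ∑ m : Fin n, (if A ∧ m.val = 0 then 0 else 1) = if A then n - 1 else n := by
  by_cases hA : A
  · rw [if_pos hA]
    cases n with
    | zero => simp
    | succ n =>
      rw [Fin.sum_univ_succ]
      simp [hA]
  · rw [if_neg hA]
    simp [hA]

theorem sum_fin_aux2 (a b : ℕ) :
    ∑ m : Fin (min a b), (if ¬ (a = b ∧ m.val = 0) then 1 else 0) = gg a b := by
  have h := sum_fin_aux (min a b) (a = b)
  have h2 : gg a b = if a = b then min a b - 1 else min a b := by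
    unfold gg
    by_cases hab : a = b
    · rw [if_pos hab, if_pos hab, hab, min_self]
    · rw [if_neg hab, if_neg hab]
  rw [h2, ← h]
  apply Finset.sum_congr rfl
  intro m _
  rw [ite_not]

theorem sum_gg (N : ℕ) (hN : ∀ k, d k ≤ N) :
    ∑ k, ∑ l, gg (d k) (d l) =
      ∑ i ∈ range (N + 1), ∑ j ∈ range (N + 1), mult d i * mult d j * gg i j := by
  rw [sum_comp_d d (fun x => ∑ l, gg x (d l)) N hN]
  apply Finset.sum_congr rfl
  intro i _
  rw [sum_comp_d d (fun y => gg i y) N hN, Finset.mul_sum]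
  apply Finset.sum_congr rfl
  intro j _
  ring

theorem mult_zero (hd : ∀ k, 1 ≤ d k) : mult d 0 = 0 := by
  unfold mult
  rw [Finset.card_eq_zero, Finset.filter_eq_empty_iff]
  intro k _ h
  have := hd k
  omega

theorem term_split (i j : ℕ) :
    mult d i * mult d j * gg i j =
      (if i < j then i * mult d i * mult d j else 0) +
      (if j < i then j * mult d j * mult d i else 0) +
      (if i = j then (i - 1) * mult d i ^ 2 else 0) := by
  unfold gg
  rcases lt_trichotomy i j with h | h | h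
  · rw [if_pos h, if_neg (by omega), if_neg (by omega), if_neg (by omega), min_eq_left (by omega)]
    ring
  · subst h
    rw [if_neg (lt_irrefl _), if_pos rfl, if_pos rfl]
    ring
  · rw [if_neg (by omega), if_pos h, if_neg (by omega), if_neg (by omega), min_eq_right (by omega)]
    ring

theorem sum_total (N : ℕ) :
    ∑ i ∈ range (N + 1), ∑ j ∈ range (N + 1), mult d i * mult d j * gg i j =
      2 * (∑ i ∈ range (N + 1), ∑ j ∈ range (N + 1),
        if i < j then i * mult d i * mult d j else 0) +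
      ∑ i ∈ range (N + 1), (i - 1) * mult d i ^ 2 := by
  have h1 : ∀ i ∈ range (N + 1), ∑ j ∈ range (N + 1), mult d i * mult d j * gg i j =
      (∑ j ∈ range (N + 1), if i < j then i * mult d i * mult d j else 0) +
      (∑ j ∈ range (N + 1), if j < i then j * mult d j * mult d i else 0) +
      (i - 1) * mult d i ^ 2 := by
    intro i hi
    rw [Finset.sum_congr rfl (fun j _ => term_split d i j), Finset.sum_add_distrib,
      Finset.sum_add_distrib, Finset.sum_ite_eq, if_pos hi]
  rw [Finset.sum_congr rfl h1, Finset.sum_add_distrib, Finset.sum_add_distrib]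
  have h2 : ∑ i ∈ range (N + 1), ∑ j ∈ range (N + 1),
      (if j < i then j * mult d j * mult d i else 0) =
      ∑ i ∈ range (N + 1), ∑ j ∈ range (N + 1),
        if i < j then i * mult d i * mult d j else 0 := Finset.sum_comm
  rw [h2]
  ring

section Final

variable [Fintype F]

theorem card_not_PD (N : ℕ) (hN : ∀ k, d k ≤ N) :
    Nat.card {p : Par d // ¬ PD d p} =
      2 * (∑ i ∈ range (N + 1), ∑ j ∈ range (N + 1),
        if i < j then i * mult d i * mult d j else 0) +
      ∑ i ∈ range (N + 1), (i - 1) * mult d i ^ 2 := by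
  rw [← sum_total d N, ← sum_gg d N hN, Nat.card_eq_fintype_card, Fintype.card_subtype,
    Finset.card_filter, Fintype.sum_sigma]
  apply Finset.sum_congr rfl
  intro k _
  rw [Fintype.sum_sigma]
  apply Finset.sum_congr rfl
  intro l _
  exact sum_fin_aux2 (d k) (d l)

theorem card_GL_block (s : ℕ) :
    Nat.card (GL {k : Fin t // d k = s} F) =
      ∏ j : Fin (mult d s), (Fintype.card F ^ mult d s - Fintype.card F ^ (j : ℕ)) := by
  have h : Fintype.card {k : Fin t // d k = s} = mult d s := Fintype.card_subtype _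
  rw [NilCount.card_GL_congr (Fintype.equivFinOfCardEq h), Matrix.card_GL_field]

theorem main (hd : ∀ k, 1 ≤ d k) (N : ℕ) (hN : ∀ k, d k ≤ N) :
    Nat.card {g : GL (Idx d) F // (g : Matrix (Idx d) (Idx d) F) * Cfsg.jordanTypeMatrix d F =
        Cfsg.jordanTypeMatrix d F * (g : Matrix (Idx d) (Idx d) F)} =
      Fintype.card F ^ (2 * (∑ i ∈ range (N + 1), ∑ j ∈ range (N + 1),
        if i < j then i * mult d i * mult d j else 0) +
      ∑ i ∈ range (N + 1), (i - 1) * mult d i ^ 2) *
      ∏ i ∈ range (N + 1), ∏ j : Fin (mult d i),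
        (Fintype.card F ^ mult d i - Fintype.card F ^ (j : ℕ)) := by
  rw [card_centralizer d hd, card_params d hd N hN, card_not_PD d N hN, mul_comm]
  congr 1
  apply Finset.prod_congr rfl
  intro s _
  exact card_GL_block d s

end Final

end Cfsg.Agent.Helper17.UnipCent
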