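import Mathlib
import Cfsg.Agent.Lib.Helper24.CharComplete
import Cfsg.Agent.Lib.Helper3.BSWCharDefs

/-!
# S3282 piece VAN (helper17 for helper3): `∑_ψ b μ ψ * ψ y = 0` for `y ∈ R'`.
-/

set_option autoImplicit false
set_option linter.unusedSectionVars false
set_option linter.unusedVariables false

namespace Cfsg.Agent.Helper3.BSW

open Cfsg Cfsg.Agent.Helper24
open scoped ComplexConjugate

universe u

variable {G : Type u} [Group G] [Fintype G] [Fintype (IrrCharacter G)] [DecidableEq (IrrCharacter G)]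
  {t s : G} {K : Subgroup G} [Fintype K] [Fintype (JK K)] [DecidableEq (JK K)]
  {a1 : IrrCharacter G → ℤ} {b : JK K → IrrCharacter G → ℤ} {sgn : JK K → ℤ}

namespace VAN

/-- an element of `R'` is not conjugate to an element of `K` -/
theorem not_isConj {y : G} (hy : InR K y) (x : K) : ¬ IsConj (x : G) y := by
  intro hc
  obtain ⟨c, hc⟩ := isConj_iff.1 hc
  apply hy.2 c⁻¹
  rw [← hc]
  have : c⁻¹ * (c * (x : G) * c⁻¹) * c⁻¹⁻¹ = (x : G) := by group
  rw [this]
  exact x.2

/-- the second orthogonality relation between `y ∈ R'` and `x ∈ K` -/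
theorem orth_zero {y : G} (hy : InR K y) (x : K) :
    ∑ ψ : IrrCharacter G, (ψ : G → ℂ) y * conj ((ψ : G → ℂ) (x : G)) = 0 := by
  classical
  rw [second_orthogonality' y (x : G), if_neg (not_isConj hy x)]

end VAN

open VAN in
/-- PIECE VAN (C5). -/
theorem van_K (h : Hyp t s K) (cd : CharData K t h.htK a1 b sgn) (μ : JK K) {y : G} (hy : InR K y) :
    ∑ ψ : IrrCharacter G, (b μ ψ : ℂ) * (ψ : G → ℂ) y = 0 := by
  have hb : ∀ ψ : IrrCharacter G, (b μ ψ : ℂ) =
      (Nat.card K : ℂ)⁻¹ * ∑ x : K, conj ((ψ : G → ℂ) (x : G)) * (1 - ((μ.1 x : ℂˣ) : ℂ)) := by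
    intro ψ
    have h1 : (b μ ψ : ℂ) = conj ((b μ ψ : ℂ)) := (map_intCast (starRingEnd ℂ) _).symm
    rw [h1, cd.hb μ ψ, bC, map_mul, map_inv₀, Complex.conj_natCast, map_sum]
    congr 1
    apply Finset.sum_congr rfl
    intro x _
    rw [map_mul, map_sub, map_one, Complex.conj_conj]
  calc ∑ ψ : IrrCharacter G, (b μ ψ : ℂ) * (ψ : G → ℂ) y
      = ∑ ψ : IrrCharacter G, ∑ x : K, (Nat.card K : ℂ)⁻¹ * (1 - ((μ.1 x : ℂˣ) : ℂ)) *
          ((ψ : G → ℂ) y * conj ((ψ : G → ℂ) (x : G))) := by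
        apply Finset.sum_congr rfl
        intro ψ _
        rw [hb ψ, Finset.mul_sum, Finset.sum_mul]
        apply Finset.sum_congr rfl
        intro x _
        ring
    _ = ∑ x : K, (Nat.card K : ℂ)⁻¹ * (1 - ((μ.1 x : ℂˣ) : ℂ)) *
          ∑ ψ : IrrCharacter G, ((ψ : G → ℂ) y * conj ((ψ : G → ℂ) (x : G))) := by
        rw [Finset.sum_comm]
        apply Finset.sum_congr rfl
        intro x _
        rw [Finset.mul_sum]
    _ = 0 := by
        apply Finset.sum_eq_zero
        intro x _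
        rw [orth_zero hy x, mul_zero]

end Cfsg.Agent.Helper3.BSW
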