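import Mathlib
import Cfsg.Agent.Lib.Helper21.N9KDefs
import Cfsg.Agent.Lib.Helper15.N9KCONJJ
import Cfsg.Agent.Lib.Helper22.N9TRA

/-!
# S3702 GROUP piece FUS (helper17 for helper21): `H` controls fusion in `J`.
-/

set_option autoImplicit false
set_option linter.unusedSectionVars false
set_option linter.unusedVariables false

namespace Cfsg.Agent.Helper21.N9

open Cfsg Cfsg.Agent.Helper16

universe u

/-- conjugate elements have centralizers of the same order -/
theorem fus_card_centralizer_conj {G : Type u} [Group G] (w u : G) :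
    Nat.card (Subgroup.centralizer ({w * u * w⁻¹} : Set G)) =
      Nat.card (Subgroup.centralizer ({u} : Set G)) := by
  have h : Subgroup.centralizer ({w * u * w⁻¹} : Set G) =
      (Subgroup.centralizer ({u} : Set G)).map (MulAut.conj w).toMonoidHom := by
    ext y
    rw [Subgroup.mem_centralizer_singleton_iff, Subgroup.mem_map]
    constructor
    · intro hy
      refine ⟨w⁻¹ * y * w, ?_, ?_⟩
      · rw [Subgroup.mem_centralizer_singleton_iff]
        have h1 : w⁻¹ * y * w * u = w⁻¹ * (y * (w * u * w⁻¹)) * w := by group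
        have h2 : u * (w⁻¹ * y * w) = w⁻¹ * ((w * u * w⁻¹) * y) * w := by group
        rw [h1, h2, hy]
      · simp [MulAut.conj_apply, mul_assoc]
    · rintro ⟨y0, hy0, rfl⟩
      rw [Subgroup.mem_centralizer_singleton_iff] at hy0
      simp only [MulEquiv.coe_toMonoidHom, MulAut.conj_apply]
      have h1 : w * y0 * w⁻¹ * (w * u * w⁻¹) = w * (y0 * u) * w⁻¹ := by group
      have h2 : w * u * w⁻¹ * (w * y0 * w⁻¹) = w * (u * y0) * w⁻¹ := by group
      rw [h1, h2, hy0]
  rw [h]
  exact Nat.card_congr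
    ((Subgroup.centralizer ({u} : Set G)).equivMapOfInjective _ (MulAut.conj w).injective).symm.toEquiv

/-- the class index of an element of `J0` is `0`, `1` or `2`, and the representative lies in `J0 ∖ 1` -/
theorem fus_cls : ∀ i j k : Fin 3,
    (TC648.clsJ i j k = 0 ∨ TC648.clsJ i j k = 1 ∨ TC648.clsJ i j k = 2) := by
  decide

theorem fus_z_mem : ∀ a : Fin 9, (a = 0 ∨ a = 1 ∨ a = 2) → CK.z a ^ 1 ∈ J0 ∧ CK.z a ^ 1 ≠ 1 := by
  intro a ha
  rcases ha with rfl | rfl | rfl
  · decide +kernel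
  · decide +kernel
  · decide +kernel

theorem fus_cz_inj : ∀ a b : Fin 9, (a = 0 ∨ a = 1 ∨ a = 2) → (b = 0 ∨ b = 1 ∨ b = 2) →
    TC648.cz a = TC648.cz b → a = b := by
  decide

section

variable {G : Type u} [Group G] [Finite G] {H J : Subgroup G}

/-- every element of `J ∖ 1` is `H`-conjugate to one of the three representatives -/
theorem fus_rep (c : Cfg H J) {x : G} (hx : x ∈ J) (hx1 : x ≠ 1) :
    ∃ a : Fin 9, (a = 0 ∨ a = 1 ∨ a = 2) ∧ ∃ h ∈ H, h * x * h⁻¹ = c.ι (CK.z a) := by
  obtain ⟨x0, rfl⟩ := exists_ι c (c.hJH hx)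
  have hx0 : x0 ∈ J0 := (ι_mem_J c x0).1 hx
  obtain ⟨i, j, k, rfl⟩ := (mem_J0_iff x0).1 hx0
  have hne : ¬ (i = 0 ∧ j = 0 ∧ k = 0) := by
    rintro ⟨rfl, rfl, rfl⟩
    apply hx1
    have : Wj 0 0 0 = 1 := by decide +kernel
    rw [this, map_one]
  have hc := conjJ_K0 i j k hne
  rw [CK_wJ] at hc
  obtain ⟨h0, hh0⟩ := isConj_iff.1 hc
  refine ⟨TC648.clsJ i j k, fus_cls i j k, c.ι h0, ι_mem c h0, ?_⟩
  rw [← map_inv, ← map_mul, ← map_mul, hh0]

end

/-- the three centralizer orders `108, 54, 81` in `K0` (self-contained copy of the part of KCENT used here) -/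
theorem fus_cent_K0 : ∀ a : Fin 9, (a = 0 ∨ a = 1 ∨ a = 2) →
    Nat.card (Subgroup.centralizer ({CK.z a} : Set ↥K0)) = TC648.cz a := by
  intro a ha
  have h : Nat.card (Subgroup.centralizer ({CK.z a} : Set ↥K0)) =
      Nat.card {x : ↥K0 // x * CK.z a = CK.z a * x} := by
    apply Nat.card_congr
    exact Equiv.subtypeEquivRight (fun x => Subgroup.mem_centralizer_singleton_iff)
  rw [h, card_subtype_K0]
  rcases ha with rfl | rfl | rfl
  · decide +kernel
  · decide +kernel
  · decide +kernel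

section

variable {G : Type u} [Group G] [Finite G] {H J : Subgroup G}

/-- `|C_G(ι x)| = |C_K0(x)|` for `x ∈ J0 ∖ 1` (self-contained copy of the case `k = 1` of CENT) -/
theorem fus_card_centralizer_ι (c : Cfg H J) (x : ↥K0) (hx : x ∈ J0) (hx1 : x ≠ 1) :
    Nat.card (Subgroup.centralizer ({c.ι x} : Set G)) =
      Nat.card (Subgroup.centralizer ({x} : Set ↥K0)) := by
  have hxJ : c.ι x ∈ J := (ι_mem_J c x).2 hx
  have hx1' : c.ι x ≠ 1 := fun h => hx1 (ι_injective c (by rw [h, map_one]))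
  have hle := c.hC _ hxJ hx1'
  have h : Subgroup.centralizer ({c.ι x} : Set G) =
      (Subgroup.centralizer ({x} : Set ↥K0)).map c.ι := by
    ext g
    rw [Subgroup.mem_map]
    constructor
    · intro hg
      obtain ⟨y, rfl⟩ := exists_ι c (hle hg)
      refine ⟨y, ?_, rfl⟩
      rw [Subgroup.mem_centralizer_singleton_iff] at hg ⊢
      apply ι_injective c
      rw [map_mul, map_mul]; exact hg
    · rintro ⟨y, hy, rfl⟩
      rw [Subgroup.mem_centralizer_singleton_iff] at hy ⊢
      rw [← map_mul, ← map_mul, hy]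
  rw [h]
  exact Nat.card_congr
    ((Subgroup.centralizer ({x} : Set ↥K0)).equivMapOfInjective _ (ι_injective c)).symm.toEquiv

end

section Grp

variable {G : Type u} [Group G] [Finite G] {H J : Subgroup G}

/-- PIECE S3702-GR-FUS: `H` controls fusion in `J`. -/
theorem fusion (c : Cfg H J) : ∀ x ∈ J, x ≠ 1 → ∀ g : G, g * x * g⁻¹ ∈ J → g ∈ H := by
  intro x hx hx1 g hg
  have hy1 : g * x * g⁻¹ ≠ 1 := by
    intro h
    apply hx1
    have : x = g⁻¹ * (g * x * g⁻¹) * g := by group
    rw [this, h]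
    group
  obtain ⟨a, ha, h0, hh0, e0⟩ := fus_rep c hx hx1
  obtain ⟨b, hb, h1, hh1, e1⟩ := fus_rep c hg hy1
  -- the conjugating element from `u_a` to `u_b`
  have hw : (h1 * g * h0⁻¹) * c.ι (CK.z a) * (h1 * g * h0⁻¹)⁻¹ = c.ι (CK.z b) := by
    rw [← e0, ← e1]
    group
  have hca : Nat.card (Subgroup.centralizer ({c.ι (CK.z a)} : Set G)) = TC648.cz a := by
    have h1 := fus_z_mem a ha
    rw [pow_one] at h1
    rw [fus_card_centralizer_ι c (CK.z a) h1.1 h1.2, fus_cent_K0 a ha]
  have hcb : Nat.card (Subgroup.centralizer ({c.ι (CK.z b)} : Set G)) = TC648.cz b := by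
    have h1 := fus_z_mem b hb
    rw [pow_one] at h1
    rw [fus_card_centralizer_ι c (CK.z b) h1.1 h1.2, fus_cent_K0 b hb]
  have hab : a = b := by
    apply fus_cz_inj a b ha hb
    rw [← hca, ← hcb, ← hw, fus_card_centralizer_conj]
  subst hab
  -- so the conjugating element centralizes `u_a`
  have hua : c.ι (CK.z a) ∈ J := by
    rw [ι_mem_J]
    have := (fus_z_mem a ha).1
    rwa [pow_one] at this
  have hua1 : c.ι (CK.z a) ≠ 1 := by
    intro h
    have h2 := (fus_z_mem a ha).2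
    rw [pow_one] at h2
    apply h2
    apply ι_injective c
    rw [h, map_one]
  have hwc : h1 * g * h0⁻¹ ∈ Subgroup.centralizer ({c.ι (CK.z a)} : Set G) := by
    rw [Subgroup.mem_centralizer_singleton_iff]
    have := hw
    rw [mul_inv_eq_iff_eq_mul] at this
    exact this
  have hwH : h1 * g * h0⁻¹ ∈ H := c.hC _ hua hua1 hwc
  have : g = h1⁻¹ * (h1 * g * h0⁻¹) * h0 := by group
  rw [this]
  exact H.mul_mem (H.mul_mem (H.inv_mem hh1) hwH) hh0

end Grp

end Cfsg.Agent.Helper21.N9
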