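import Mathlib

/-!
# S2425 PIECE ABS (helper17 for helper14): the alternating sum over chains in a finite partial order.
-/

set_option autoImplicit false
set_option linter.unusedSectionVars false
set_option linter.unusedVariables false

namespace Cfsg.Agent.Helper14.StGL

open scoped Classical

section ABS

variable {P : Type*} [PartialOrder P] [Fintype P]

/-- the open interval `(b, u)` inside `I` -/
noncomputable def stglabs_mid (I : P → Prop) (b u : P) : Finset P :=
  Finset.univ.filter (fun w => I w ∧ b < w ∧ w < u)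

/-- the chains of the open interval `(b, u)` inside `I` -/
noncomputable def stglabs_chains (I : P → Prop) (b u : P) : Finset (Finset P) :=
  Finset.univ.filter (fun C : Finset P => (∀ w ∈ C, I w ∧ b < w ∧ w < u) ∧ IsChain (· ≤ ·) (C : Set P))

theorem stglabs_mem_chains (I : P → Prop) (b u : P) (C : Finset P) :
    C ∈ stglabs_chains I b u ↔ (∀ w ∈ C, I w ∧ b < w ∧ w < u) ∧ IsChain (· ≤ ·) (C : Set P) := by
  simp [stglabs_chains]

theorem stglabs_mem_mid (I : P → Prop) (b u w : P) : w ∈ stglabs_mid I b u ↔ I w ∧ b < w ∧ w < u := by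
  simp [stglabs_mid]

/-- a nonempty finite chain has a greatest element -/
theorem stglabs_exists_max (C : Finset P) (hC : IsChain (· ≤ ·) (C : Set P)) (hne : C.Nonempty) :
    ∃ w ∈ C, ∀ y ∈ C, y ≤ w := by
  obtain ⟨w, hw, hmax⟩ := C.exists_maximal hne
  refine ⟨w, hw, fun y hy => ?_⟩
  by_cases e : y = w
  · rw [e]
  · rcases hC (Finset.mem_coe.2 hy) (Finset.mem_coe.2 hw) e with h | h
    · exact h
    · exact hmax hy h

/-- the decomposition of the chains of `(b, u)` by their greatest element -/
theorem stglabs_chains_eq (I : P → Prop) (b u : P) :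
    stglabs_chains I b u = insert ∅ ((stglabs_mid I b u).biUnion
      (fun w => (stglabs_chains I b w).image (insert w))) := by
  ext C
  simp only [Finset.mem_insert, Finset.mem_biUnion, Finset.mem_image, stglabs_mem_chains, stglabs_mem_mid]
  constructor
  · rintro ⟨h1, h2⟩
    by_cases hne : C = ∅
    · exact Or.inl hne
    · right
      obtain ⟨w, hw, hmax⟩ := stglabs_exists_max C h2 (Finset.nonempty_iff_ne_empty.2 hne)
      refine ⟨w, h1 w hw, C.erase w, ⟨?_, ?_⟩, Finset.insert_erase hw⟩
      · intro y hy
        have hy' := Finset.mem_erase.1 hy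
        exact ⟨(h1 y hy'.2).1, (h1 y hy'.2).2.1, lt_of_le_of_ne (hmax y hy'.2) hy'.1⟩
      · exact h2.mono (by intro y hy; exact Finset.mem_coe.2 (Finset.mem_of_mem_erase (Finset.mem_coe.1 hy)))
  · rintro (rfl | ⟨w, hw, C', ⟨h1, h2⟩, rfl⟩)
    · exact ⟨fun w hw => absurd hw (Finset.notMem_empty w), by simp⟩
    · refine ⟨?_, ?_⟩
      · intro y hy
        rcases Finset.mem_insert.1 hy with rfl | hy
        · exact hw
        · exact ⟨(h1 y hy).1, (h1 y hy).2.1, lt_trans (h1 y hy).2.2 hw.2.2⟩
      · rw [Finset.coe_insert]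
        apply h2.insert
        intro y hy _
        exact Or.inr (le_of_lt (h1 y (Finset.mem_coe.1 hy)).2.2)

/-- the recursion for the alternating chain sum -/
theorem stglabs_rec (I : P → Prop) (b u : P) :
    ∑ C ∈ stglabs_chains I b u, (-1 : ℤ) ^ C.card =
      1 - ∑ w ∈ stglabs_mid I b u, ∑ C ∈ stglabs_chains I b w, (-1 : ℤ) ^ C.card := by
  rw [stglabs_chains_eq I b u, Finset.sum_insert, Finset.sum_biUnion, Finset.card_empty, pow_zero,
    sub_eq_add_neg, ← Finset.sum_neg_distrib]
  · congr 1
    apply Finset.sum_congr rfl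
    intro w hw
    rw [Finset.sum_image, ← Finset.sum_neg_distrib]
    · apply Finset.sum_congr rfl
      intro C hC
      have hwC : w ∉ C := by
        intro h
        exact lt_irrefl w (((stglabs_mem_chains I b w C).1 hC).1 w h).2.2
      rw [Finset.card_insert_of_notMem hwC, pow_succ]
      ring
    · intro C hC C' hC' e
      have hwC : w ∉ C := fun h => lt_irrefl w (((stglabs_mem_chains I b w C).1 hC).1 w h).2.2
      have hwC' : w ∉ C' := fun h => lt_irrefl w (((stglabs_mem_chains I b w C').1 hC').1 w h).2.2
      have e1 : (insert w C).erase w = (insert w C').erase w := by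
        rw [e]
      rwa [Finset.erase_insert hwC, Finset.erase_insert hwC'] at e1
  · -- pairwise disjointness
    intro w hw w' hw' hne
    rw [Function.onFun, Finset.disjoint_left]
    intro C hC hC'
    obtain ⟨C1, hC1, rfl⟩ := Finset.mem_image.1 hC
    obtain ⟨C2, hC2, e⟩ := Finset.mem_image.1 hC'
    have h1 : w ∈ insert w' C2 := by rw [e]; exact Finset.mem_insert_self _ _
    have h2 : w' ∈ insert w C1 := by rw [← e]; exact Finset.mem_insert_self _ _
    rcases Finset.mem_insert.1 h1 with h1 | h1
    · exact hne h1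
    · rcases Finset.mem_insert.1 h2 with h2 | h2
      · exact hne h2.symm
      · have l1 := (((stglabs_mem_chains I b w' C2).1 hC2).1 w h1).2.2
        have l2 := (((stglabs_mem_chains I b w C1).1 hC1).1 w' h2).2.2
        exact lt_irrefl w (lt_trans l1 l2)
  · -- the empty chain is not of the form `insert w C`
    simp only [Finset.mem_biUnion, Finset.mem_image, not_exists, not_and]
    intro w _ C _ e
    exact Finset.insert_ne_empty w C e

theorem abs_chain (I : P → Prop) (b : P) (G : P → ℤ) (hb : G b = 1) (hI : I b)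
    (hG : ∀ u, I u → b < u → ∑ w ∈ Finset.univ.filter (fun w => I w ∧ b ≤ w ∧ w ≤ u), G w = 0)
    (u : P) (hu : I u) (hbu : b < u) :
    ∑ C ∈ Finset.univ.filter (fun C : Finset P => (∀ w ∈ C, I w ∧ b < w ∧ w < u) ∧ IsChain (· ≤ ·) (C : Set P)),
      (-1 : ℤ) ^ C.card = - G u := by
  have key : ∀ u : P, I u → b < u → ∑ C ∈ stglabs_chains I b u, (-1 : ℤ) ^ C.card = - G u := by
    intro u
    induction u using (Finite.to_wellFoundedLT (α := P)).wf.induction with
    | _ u ih =>
      intro hu hbu
      rw [stglabs_rec]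
      have h1 : ∑ w ∈ stglabs_mid I b u, ∑ C ∈ stglabs_chains I b w, (-1 : ℤ) ^ C.card =
          ∑ w ∈ stglabs_mid I b u, - G w := by
        apply Finset.sum_congr rfl
        intro w hw
        have hw' := (stglabs_mem_mid I b u w).1 hw
        exact ih w hw'.2.2 hw'.1 hw'.2.1
      rw [h1]
      have h2 := hG u hu hbu
      have h3 : Finset.univ.filter (fun w => I w ∧ b ≤ w ∧ w ≤ u) =
          insert b (insert u (stglabs_mid I b u)) := by
        ext w
        simp only [Finset.mem_filter, Finset.mem_univ, true_and, Finset.mem_insert, stglabs_mem_mid]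
        constructor
        · rintro ⟨h4, h5, h6⟩
          by_cases e1 : w = b
          · exact Or.inl e1
          · by_cases e2 : w = u
            · exact Or.inr (Or.inl e2)
            · exact Or.inr (Or.inr ⟨h4, lt_of_le_of_ne h5 (Ne.symm e1), lt_of_le_of_ne h6 e2⟩)
        · rintro (rfl | rfl | ⟨h4, h5, h6⟩)
          · exact ⟨hI, le_refl _, le_of_lt hbu⟩
          · exact ⟨hu, le_of_lt hbu, le_refl _⟩
          · exact ⟨h4, le_of_lt h5, le_of_lt h6⟩
      have h4 : u ∉ stglabs_mid I b u := by
        rw [stglabs_mem_mid]; exact fun h => lt_irrefl u h.2.2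
      have h5 : b ∉ insert u (stglabs_mid I b u) := by
        rw [Finset.mem_insert, stglabs_mem_mid, not_or]
        exact ⟨ne_of_lt hbu, fun h => lt_irrefl b h.2.1⟩
      rw [h3, Finset.sum_insert h5, Finset.sum_insert h4, hb] at h2
      rw [Finset.sum_neg_distrib]
      linarith
  exact key u hu hbu

end ABS

end Cfsg.Agent.Helper14.StGL
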