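import Mathlib
import Cfsg.Agent.Lib.Helper14.StGLDefs

/-!
# S2425 PIECE CHAINS (helper17 for helper14): regrouping the invariant flags by their dimension sets.
-/

set_option autoImplicit false
set_option linter.unusedSectionVars false
set_option linter.unusedVariables false

namespace Cfsg.Agent.Helper14.StGL

open Module Polynomial Cfsg.Agent.Helper13.SS

open scoped Classical MatrixGroups

section gl

variable {F : Type*} [Field F] {n : ℕ}

theorem stglchains_pos (W : Submodule F (Fin n → F)) (h : ⊥ < W) : 0 < finrank F ↥W := by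
  rw [Nat.pos_iff_ne_zero]
  intro e
  rw [Submodule.finrank_eq_zero] at e
  exact (ne_of_gt h) e

theorem stglchains_lt (W : Submodule F (Fin n → F)) (h : W < ⊤) : finrank F ↥W < n := by
  have h1 := Submodule.finrank_lt_finrank_of_lt h
  rw [finrank_top, Module.finrank_fin_fun] at h1
  exact h1

theorem stglchains_bot_lt (W : Submodule F (Fin n → F)) (h : 0 < finrank F ↥W) : ⊥ < W := by
  rw [bot_lt_iff_ne_bot]
  rintro rfl
  rw [finrank_bot] at h
  exact lt_irrefl 0 h

theorem stglchains_lt_top (W : Submodule F (Fin n → F)) (h : finrank F ↥W < n) : W < ⊤ := by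
  rw [lt_top_iff_ne_top]
  rintro rfl
  rw [finrank_top, Module.finrank_fin_fun] at h
  exact lt_irrefl n h

/-- on a chain the dimension is injective -/
theorem stglchains_card (C : Finset (Submodule F (Fin n → F)))
    (hC : IsChain (· ≤ ·) (C : Set (Submodule F (Fin n → F)))) :
    (C.image (fun W : Submodule F (Fin n → F) => finrank F ↥W)).card = C.card := by
  apply Finset.card_image_of_injOn
  intro W hW W' hW' e
  by_contra hne
  rcases hC hW hW' hne with h | h
  · exact hne (Submodule.eq_of_le_of_finrank_eq h e)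
  · exact hne (Submodule.eq_of_le_of_finrank_eq h e.symm).symm

theorem stglchains_sign (n k : ℕ) (hk : k ≤ n - 1) : (-1 : ℤ) ^ (n - 1 - k) = (-1) ^ (n - 1) * (-1) ^ k := by
  have h1 : n - 1 = (n - 1 - k) + k := by omega
  have h2 : (-1 : ℤ) ^ (n - 1) = (-1) ^ (n - 1 - k) * (-1) ^ k := by
    conv_lhs => rw [h1]
    rw [pow_add]
  rw [h2, mul_assoc, ← pow_add, ← two_mul, pow_mul]
  simp

theorem chains_regroup [Fintype F] (hn : 0 < n) (g : Module.End F (Fin n → F)) :
    ∑ D ∈ (Finset.Ioo 0 n).powerset, (-1 : ℤ) ^ (n - 1 - D.card) *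
        ((Finset.univ.filter (fun C : Finset (Submodule F (Fin n → F)) => IsInvFlag g D C)).card : ℤ) =
      (-1 : ℤ) ^ (n - 1) * ∑ C ∈ Finset.univ.filter
        (fun C : Finset (Submodule F (Fin n → F)) => IsInvChain g ⊤ C), (-1 : ℤ) ^ C.card := by
  have hmaps : ∀ C ∈ Finset.univ.filter
      (fun C : Finset (Submodule F (Fin n → F)) => IsInvChain g ⊤ C),
      C.image (fun W : Submodule F (Fin n → F) => finrank F ↥W) ∈ (Finset.Ioo 0 n).powerset := by
    intro C hC
    have hC' := (Finset.mem_filter.1 hC).2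
    rw [Finset.mem_powerset]
    intro d hd
    obtain ⟨W, hW, rfl⟩ := Finset.mem_image.1 hd
    rw [Finset.mem_Ioo]
    exact ⟨stglchains_pos W (hC'.1 W hW).2.1, stglchains_lt W (hC'.1 W hW).2.2⟩
  rw [← Finset.sum_fiberwise_of_maps_to hmaps, Finset.mul_sum]
  apply Finset.sum_congr rfl
  intro D hD
  rw [Finset.mem_powerset] at hD
  have hset : (Finset.univ.filter
      (fun C : Finset (Submodule F (Fin n → F)) => IsInvChain g ⊤ C)).filter
      (fun C => C.image (fun W : Submodule F (Fin n → F) => finrank F ↥W) = D) =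
      Finset.univ.filter (fun C : Finset (Submodule F (Fin n → F)) => IsInvFlag g D C) := by
    ext C
    simp only [Finset.mem_filter, Finset.mem_univ, true_and]
    constructor
    · rintro ⟨⟨h1, h2⟩, h3⟩
      exact ⟨h2, h3, fun W hW => (h1 W hW).1⟩
    · rintro ⟨h1, h2, h3⟩
      refine ⟨⟨fun W hW => ?_, h1⟩, h2⟩
      have hd : finrank F ↥W ∈ D := by
        rw [← h2]; exact Finset.mem_image_of_mem _ hW
      have hd' := Finset.mem_Ioo.1 (hD hd)
      exact ⟨h3 W hW, stglchains_bot_lt W hd'.1, stglchains_lt_top W hd'.2⟩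
  rw [hset]
  have hcard : ∀ C ∈ Finset.univ.filter (fun C : Finset (Submodule F (Fin n → F)) => IsInvFlag g D C),
      (-1 : ℤ) ^ C.card = (-1) ^ D.card := by
    intro C hC
    have hC' := (Finset.mem_filter.1 hC).2
    rw [← hC'.2.1, stglchains_card C hC'.1]
  rw [Finset.sum_congr rfl hcard, Finset.sum_const, nsmul_eq_mul]
  have hDle : D.card ≤ n - 1 := by
    have := Finset.card_le_card hD
    rw [Nat.card_Ioo] at this
    omega
  rw [stglchains_sign n D.card hDle]
  ring

end gl

end Cfsg.Agent.Helper14.StGL
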