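import Mathlib
import Cfsg.Agent.Lib.Helper23.ZS4Defs

/-!
# S3222 piece J3A (helper17 for helper23): point stabilizers in `A₆` are simple of order 60.
-/

set_option autoImplicit false

namespace Cfsg.Agent.Helper23.ZS4

open Equiv

namespace J3A

/-- the point stabilizer is the image of the alternating group of the other five points -/
theorem stabA_eq_range (i : Fin 6) :
    stabA i = (alternatingGroup.ofSubtype (Finset.univ.erase i)).range := by
  ext k
  rw [mem_stabA, alternatingGroup.mem_range_ofSubtype_iff]
  constructor
  · intro h x hx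
    rw [Finset.mem_erase]
    refine ⟨fun hxi => ?_, Finset.mem_univ _⟩
    rw [hxi] at hx
    exact (Equiv.Perm.mem_support.1 hx) h
  · intro h
    by_contra hne
    have h1 : i ∈ (k : Perm (Fin 6)).support := Equiv.Perm.mem_support.2 hne
    have := h h1
    simp at this

end J3A

/-- PIECE J3A. -/
theorem stabA_simple (i : Fin 6) : IsSimpleGroup ↥(stabA i) ∧ Nat.card ↥(stabA i) = 60 := by
  classical
  have hcard5 : Nat.card ↥(Finset.univ.erase i : Finset (Fin 6)) = 5 := by
    rw [Nat.card_eq_fintype_card, Fintype.card_coe, Finset.card_erase_of_mem (Finset.mem_univ i)]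
    simp
  have hsimple : IsSimpleGroup (alternatingGroup ↥(Finset.univ.erase i : Finset (Fin 6))) :=
    alternatingGroup.isSimpleGroup (by rw [hcard5])
  have hnt : Nontrivial ↥(Finset.univ.erase i : Finset (Fin 6)) := by
    rw [← Finite.one_lt_card_iff_nontrivial, hcard5]
    norm_num
  have hc60 : Nat.card (alternatingGroup ↥(Finset.univ.erase i : Finset (Fin 6))) = 60 := by
    have h := two_mul_card_alternatingGroup (α := ↥(Finset.univ.erase i : Finset (Fin 6)))
    rw [Fintype.card_perm, ← Nat.card_eq_fintype_card (α := ↥(Finset.univ.erase i : Finset (Fin 6))),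
      hcard5] at h
    rw [Nat.card_eq_fintype_card]
    have h5 : Nat.factorial 5 = 120 := by decide
    rw [h5] at h
    omega
  let e : alternatingGroup ↥(Finset.univ.erase i : Finset (Fin 6)) ≃*
      (alternatingGroup.ofSubtype (Finset.univ.erase i : Finset (Fin 6))).range :=
    MonoidHom.ofInjective alternatingGroup.ofSubtype_injective
  rw [J3A.stabA_eq_range i]
  constructor
  · have hnt2 : Nontrivial (alternatingGroup.ofSubtype (Finset.univ.erase i : Finset (Fin 6))).range :=
      e.symm.toEquiv.nontrivial
    exact IsSimpleGroup.isSimpleGroup_of_surjective e.toMonoidHom e.surjective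
  · rw [← Nat.card_congr e.toEquiv]
    exact hc60

end Cfsg.Agent.Helper23.ZS4
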