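import Mathlib
import Cfsg.Prelude.Def_Blocks
import Cfsg.Agent.Lib.Helper24.CharLinear

/-!
# Simple groups of order 7920 (S4429, S0435, S0434): definitions (helper17)

Paper proof: `plans/M11_proof.md`.  Skeleton with all piece statements: `plans/M11_Skel.lean.txt`.
-/

set_option autoImplicit false

namespace Cfsg.Agent.Helper17.M11

open Cfsg Cfsg.Agent.Helper24

universe u

instance fact11 : Fact (Nat.Prime 11) := ⟨by norm_num⟩

instance fact5 : Fact (Nat.Prime 5) := ⟨by norm_num⟩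

variable {G : Type u} [Group G] [Fintype G]

/-- The shape of the characters of positive `11`-defect when a Sylow `11`-subgroup `P` (of order `11`) is
self-centralizing with `|N_G(P) : P| = 5`:  the nonexceptional characters are `1, χ1, χ2, χ3, χ4`
(`χi` of degree `di`, constant `si = ±1` on `P ∖ 1`), the two exceptional ones are `θ, θ'` (degree `D`,
sign `δ₀ = -1`), all the other irreducible characters vanish on `P ∖ 1`. -/
structure B11 (P : Subgroup G) (d1 d2 d3 d4 D : ℕ) (s1 s2 s3 s4 : ℤ) where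
  χ1 : IrrCharacter G
  χ2 : IrrCharacter G
  χ3 : IrrCharacter G
  χ4 : IrrCharacter G
  θ : IrrCharacter G
  θ' : IrrCharacter G
  nodup : [principalChar G, χ1, χ2, χ3, χ4, θ, θ'].Nodup
  deg1 : charDegree (χ1 : G → ℂ) = d1
  deg2 : charDegree (χ2 : G → ℂ) = d2
  deg3 : charDegree (χ3 : G → ℂ) = d3
  deg4 : charDegree (χ4 : G → ℂ) = d4
  degθ : charDegree (θ : G → ℂ) = D
  degθ' : charDegree (θ' : G → ℂ) = D
  val1 : ∀ a ∈ P, a ≠ 1 → (χ1 : G → ℂ) a = (s1 : ℂ)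
  val2 : ∀ a ∈ P, a ≠ 1 → (χ2 : G → ℂ) a = (s2 : ℂ)
  val3 : ∀ a ∈ P, a ≠ 1 → (χ3 : G → ℂ) a = (s3 : ℂ)
  val4 : ∀ a ∈ P, a ≠ 1 → (χ4 : G → ℂ) a = (s4 : ℂ)
  sumY : ∀ a ∈ P, a ≠ 1 → (θ : G → ℂ) a + (θ' : G → ℂ) a = -1
  regY : ∀ g : G, ¬ 11 ∣ orderOf g → (θ : G → ℂ) g = (θ' : G → ℂ) g
  rel : ∀ g : G, ¬ 11 ∣ orderOf g →
    1 + (s1 : ℂ) * (χ1 : G → ℂ) g + (s2 : ℂ) * (χ2 : G → ℂ) g + (s3 : ℂ) * (χ3 : G → ℂ) g +
      (s4 : ℂ) * (χ4 : G → ℂ) g = (θ : G → ℂ) g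
  rest : ∀ χ : IrrCharacter G, χ ∉ [principalChar G, χ1, χ2, χ3, χ4, θ, θ'] →
    ∀ a ∈ P, a ≠ 1 → (χ : G → ℂ) a = 0

/-- Case (I): degrees `1, 45, 10, 10, 10 | 16, 16`. -/
abbrev B11I (P : Subgroup G) : Type u := B11 P 45 10 10 10 16 1 (-1) (-1) (-1)

/-- Case (II): degrees `1, 12, 12, 10, 10 | 5, 5`  (to be excluded). -/
abbrev B11II (P : Subgroup G) : Type u := B11 P 12 12 10 10 5 1 1 (-1) (-1)

/-- The complete list of the irreducible characters of a simple group of order `7920`, with the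
information coming from the primes `11` (`P`) and `5` (`Q`). -/
structure CT (P Q : Subgroup G) where
  b : B11I P
  α : IrrCharacter G
  β : IrrCharacter G
  γ : IrrCharacter G
  nodup : [principalChar G, b.χ1, b.χ2, b.χ3, b.χ4, b.θ, b.θ', α, β, γ].Nodup
  all : ∀ χ : IrrCharacter G, χ ∈ [principalChar G, b.χ1, b.χ2, b.χ3, b.χ4, b.θ, b.θ', α, β, γ]
  degα : charDegree (α : G → ℂ) = 11
  degβ : charDegree (β : G → ℂ) = 44
  degγ : charDegree (γ : G → ℂ) = 55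
  valθ : ∀ a ∈ Q, a ≠ 1 → (b.θ : G → ℂ) a = 1
  valθ' : ∀ a ∈ Q, a ≠ 1 → (b.θ' : G → ℂ) a = 1
  valα : ∀ a ∈ Q, a ≠ 1 → (α : G → ℂ) a = 1
  valβ : ∀ a ∈ Q, a ≠ 1 → (β : G → ℂ) a = -1
  val0 : ∀ χ : IrrCharacter G, χ ∈ [b.χ1, b.χ2, b.χ3, b.χ4, γ] → ∀ a ∈ Q, a ≠ 1 → (χ : G → ℂ) a = 0
  rel5 : ∀ g : G, ¬ 5 ∣ orderOf g →
    1 + (b.θ : G → ℂ) g + (b.θ' : G → ℂ) g + (α : G → ℂ) g - (β : G → ℂ) g = 0

end Cfsg.Agent.Helper17.M11
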