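import Mathlib
import Cfsg.Prelude.Def_Blocks
import Cfsg.Agent.Lib.Helper17.M11Defs
import Cfsg.Agent.Lib.Helper17.BRRed2
import Cfsg.Agent.S0999

/-!
# Simple groups of order 7920, piece S1 (helper17): the Sylow `11`-subgroups are self-centralizing,
`|N(P)| = 55`.  Also the general facts `perfect`, `hcore` used by the other pieces.
-/

set_option autoImplicit false
set_option linter.unusedSectionVars false
set_option linter.unusedVariables false

namespace Cfsg.Agent.Helper17.M11

open Cfsg Subgroup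

universe u

variable {G : Type u} [Group G] [Fintype G]

namespace S1

/-- a simple group of order `7920` is perfect -/
theorem perfect (hs : IsSimpleGroup G) (hG : Nat.card G = 7920) : commutator G = ⊤ := by
  haveI := hs
  apply Cfsg.Agent.S0999.perfect_of_simple
  intro hcyc
  -- a simple cyclic group has prime order
  haveI := hcyc
  have hcomm : ∀ a b : G, a * b = b * a := fun a b => by
    obtain ⟨g, hg⟩ := hcyc.exists_generator
    obtain ⟨m, rfl⟩ := hg a
    obtain ⟨k, rfl⟩ := hg b
    exact (Commute.zpow_zpow_self g m k).eq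
  letI : CommGroup G := { (inferInstance : Group G) with mul_comm := hcomm }
  have hprime : (Nat.card G).Prime := IsSimpleGroup.prime_card
  rw [hG] at hprime
  norm_num at hprime

/-- no nontrivial normal subgroup of order prime to `p` when `p ∣ 7920` -/
theorem hcore (hs : IsSimpleGroup G) (hG : Nat.card G = 7920) (p : ℕ) (hp : p ∣ 7920) (hp1 : p ≠ 1) :
    ∀ N : Subgroup G, N.Normal → (Nat.card N).Coprime p → N = ⊥ := by
  intro N hN hcop
  haveI := hs
  rcases hN.eq_bot_or_eq_top with h | h
  · exact h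
  · exfalso
    rw [h, Subgroup.card_top, hG] at hcop
    have : p ∣ Nat.gcd 7920 p := Nat.dvd_gcd hp dvd_rfl
    rw [Nat.Coprime] at hcop
    rw [hcop] at this
    exact hp1 (Nat.dvd_one.mp this)

theorem card_sylow11 (hG : Nat.card G = 7920) (P : Sylow 11 G) : Nat.card (P : Subgroup G) = 11 := by
  rw [Sylow.card_eq_multiplicity, hG]
  have : (7920 : ℕ).factorization 11 = 1 := by
    have h : (7920 : ℕ) = 11 ^ 1 * 720 := by norm_num
    rw [h, Nat.factorization_mul (by norm_num) (by norm_num), Nat.Prime.factorization_pow (by norm_num)]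
    simp
    exact Nat.factorization_eq_zero_of_not_dvd (by norm_num)
  rw [this, pow_one]

theorem card_sylow5 (hG : Nat.card G = 7920) (Q : Sylow 5 G) : Nat.card (Q : Subgroup G) = 5 := by
  rw [Sylow.card_eq_multiplicity, hG]
  have : (7920 : ℕ).factorization 5 = 1 := by
    have h : (7920 : ℕ) = 5 ^ 1 * 1584 := by norm_num
    rw [h, Nat.factorization_mul (by norm_num) (by norm_num), Nat.Prime.factorization_pow (by norm_num)]
    simp
    exact Nat.factorization_eq_zero_of_not_dvd (by norm_num)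
  rw [this, pow_one]

/-- the (NC) hypothesis for `n = 1` -/
theorem nc1 : ∀ d : ℕ, d ∣ (11 - 1) * (1 + 1 * 11) → d % 11 = 1 → d = 1 ∨ d = 1 + 1 * 11 := by
  intro d hd hmod
  have hle : d ≤ 120 := Nat.le_of_dvd (by norm_num) hd
  interval_cases d <;> simp_all <;> omega

/-- the (NC) hypothesis for `n = 4` -/
theorem nc4 : ∀ d : ℕ, d ∣ (11 - 1) * (1 + 4 * 11) → d % 11 = 1 → d = 1 ∨ d = 1 + 4 * 11 := by
  intro d hd hmod
  have hle : d ≤ 450 := Nat.le_of_dvd (by norm_num) hd
  interval_cases d <;> simp_all <;> omega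

end S1

/-- PIECE S1. -/
theorem syl11 (hs : IsSimpleGroup G) (hG : Nat.card G = 7920) (P : Sylow 11 G) :
    Nat.card (P : Subgroup G) = 11 ∧
    Subgroup.centralizer ((P : Subgroup G) : Set G) = (P : Subgroup G) ∧
    (Subgroup.centralizer ((P : Subgroup G) : Set G)).relIndex
      (Subgroup.normalizer ((P : Subgroup G) : Set G)) = 5 := by
  have hperf := S1.perfect hs hG
  have hP := S1.card_sylow11 hG P
  have hcore := S1.hcore hs hG 11 (by norm_num) (by norm_num)
  obtain ⟨q, v, n, hq, hq2, hqdvd, hn1, hv0, hpv, hr, hCcard, hGeq, hidx⟩ :=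
    Cfsg.Agent.Helper17.BRRed.numerics hperf P hP
  obtain ⟨z, hzP, hzo, hzP', hzC⟩ := Cfsg.Agent.Helper17.BRRed.exists_generator P hP
  rw [hG] at hGeq
  -- `v q (1 + 11 n) = 720`
  have h720 : v * q * (1 + n * 11) = 720 := by
    have : 11 * (v * q * (1 + n * 11)) = 11 * 720 := by rw [← mul_assoc, ← mul_assoc]; omega
    exact Nat.eq_of_mul_eq_mul_left (by norm_num) this
  have hq10 : q ∣ 10 := hqdvd
  have hqle : q ≤ 10 := Nat.le_of_dvd (by norm_num) hq10
  have hndvd : (1 + n * 11) ∣ 720 := ⟨v * q, by rw [← h720]; ring⟩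
  have hnle : 1 + n * 11 ≤ 720 := Nat.le_of_dvd (by norm_num) hndvd
  have hn_cases : n = 1 ∨ n = 4 ∨ n = 13 := by
    have hn66 : n ≤ 65 := by omega
    interval_cases n <;> simp_all <;> omega
  -- `v = 1`
  have hv1 : v = 1 := by
    by_contra hv1
    have hv2 : 2 ≤ v := by omega
    obtain ⟨t, ht⟩ := hqdvd
    rcases hn_cases with h | h | h
    · subst h
      exact Cfsg.Agent.Helper17.BRRed.core_nc_false hperf 11 P hP hcore q v 1 t hq hq2 ht.symm
        le_rfl hv2 hpv hCcard S1.nc1 z hzP hzo (by rw [hzC]; exact hidx)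
    · subst h
      exact Cfsg.Agent.Helper17.BRRed.core_nc_false hperf 11 P hP hcore q v 4 t hq hq2 ht.symm
        (by norm_num) hv2 hpv hCcard S1.nc4 z hzP hzo (by rw [hzC]; exact hidx)
    · subst h
      -- `v q = 5`, `q ≥ 2`, `q ∣ 10`, `v ≥ 2`: impossible
      have h5 : v * q = 5 := by omega
      have : q ∣ 5 := ⟨v, by rw [← h5]; ring⟩
      have hq5 : q ≤ 5 := Nat.le_of_dvd (by norm_num) this
      interval_cases q <;> omega
  subst hv1
  have hq5 : q = 5 := by
    rcases hn_cases with h | h | h <;> subst h <;> omega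
  refine ⟨hP, ?_, ?_⟩
  · symm
    apply Subgroup.eq_of_le_of_card_ge (Cfsg.Agent.Helper5.TL.gt_le_centralizer 11 P hP)
    rw [hCcard, hP]
  · rw [← hq, hq5]

end Cfsg.Agent.Helper17.M11
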