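import Mathlib
import Cfsg.Prelude.Def_Blocks
import Cfsg.Agent.Lib.Helper17.M11Defs
import Cfsg.Agent.Lib.Helper17.M11S1
import Cfsg.Agent.Lib.Helper5.BRP0
import Cfsg.Agent.Lib.Helper24.CharIntegral

/-!
# Simple groups of order 7920, piece S2 (helper17): the degrees in the principal `11`-block
-/

set_option autoImplicit false
set_option linter.unusedSectionVars false
set_option linter.unusedVariables false

namespace Cfsg.Agent.Helper17.M11

open scoped ComplexConjugate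
open Cfsg Cfsg.Agent.Helper24

universe u

namespace S2

/-- sorting four elements -/
theorem exists_sorted4 {α : Type*} (f : α → ℕ) (a b c d : α) :
    ∃ a' b' c' d' : α, List.Perm [a', b', c', d'] [a, b, c, d] ∧
      f b' ≤ f a' ∧ f c' ≤ f b' ∧ f d' ≤ f c' := by
  classical
  let r : α → α → Prop := fun x y => f y ≤ f x
  haveI : DecidableRel r := fun x y => inferInstanceAs (Decidable (f y ≤ f x))
  haveI : Std.Total r := ⟨fun x y => le_total (f y) (f x)⟩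
  haveI : IsTrans α r := ⟨fun x y z hxy hyz => le_trans hyz hxy⟩
  have hp := List.perm_insertionSort r [a, b, c, d]
  have hs := List.pairwise_insertionSort r [a, b, c, d]
  generalize List.insertionSort r [a, b, c, d] = l at hp hs
  have hl := hp.length_eq
  match l, hl, hp, hs with
  | [a', b', c', d'], _, hp, hs =>
    refine ⟨a', b', c', d', hp, ?_, ?_, ?_⟩
    · exact (List.pairwise_cons.mp hs).1 b' (by simp)
    · exact (List.pairwise_cons.mp (List.pairwise_cons.mp hs).2).1 c' (by simp)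
    · exact (List.pairwise_cons.mp (List.pairwise_cons.mp (List.pairwise_cons.mp hs).2).2).1 d'
        (by simp)

/-- the possible degrees of the nonexceptional characters -/
theorem deg_cases (d : ℕ) (hd : d ∣ 7920) (hd1 : d ≠ 1) (hsq : d * d < 7920) (ε : ℤ)
    (hε : ε = 1 ∨ ε = -1) (hmod : (d : ℤ) ≡ ε [ZMOD 11]) :
    (d = 10 ∧ ε = -1) ∨ (d = 12 ∧ ε = 1) ∨ (d = 45 ∧ ε = 1) := by
  have hle : d ≤ 88 := by nlinarith
  unfold Int.ModEq at hmod
  rcases hε with rfl | rfl <;> interval_cases d <;> omega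

set_option maxHeartbeats 1600000 in
/-- the numerical core -/
theorem num_sorted {d1 d2 d3 d4 D : ℕ} {s1 s2 s3 s4 δ₀ : ℤ}
    (h1 : (d1 = 10 ∧ s1 = -1) ∨ (d1 = 12 ∧ s1 = 1) ∨ (d1 = 45 ∧ s1 = 1))
    (h2 : (d2 = 10 ∧ s2 = -1) ∨ (d2 = 12 ∧ s2 = 1) ∨ (d2 = 45 ∧ s2 = 1))
    (h3 : (d3 = 10 ∧ s3 = -1) ∨ (d3 = 12 ∧ s3 = 1) ∨ (d3 = 45 ∧ s3 = 1))
    (h4 : (d4 = 10 ∧ s4 = -1) ∨ (d4 = 12 ∧ s4 = 1) ∨ (d4 = 45 ∧ s4 = 1))
    (h12 : d2 ≤ d1) (h23 : d3 ≤ d2) (h34 : d4 ≤ d3) (hδ₀ : δ₀ = 1 ∨ δ₀ = -1) (hD : D ∣ 7920)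
    (hDmod : (D : ℤ) ≡ -δ₀ * 5 [ZMOD 11])
    (hrel : δ₀ * D + 1 + s1 * d1 + s2 * d2 + s3 * d3 + s4 * d4 = 0)
    (hsq : 1 + d1 ^ 2 + d2 ^ 2 + d3 ^ 2 + d4 ^ 2 + 2 * D ^ 2 ≤ 7920) :
    δ₀ = -1 ∧ ((D = 16 ∧ d1 = 45 ∧ d2 = 10 ∧ d3 = 10 ∧ d4 = 10 ∧ s1 = 1 ∧ s2 = -1 ∧ s3 = -1 ∧
      s4 = -1) ∨ (D = 5 ∧ d1 = 12 ∧ d2 = 12 ∧ d3 = 10 ∧ d4 = 10 ∧ s1 = 1 ∧ s2 = 1 ∧ s3 = -1 ∧
      s4 = -1)) := by
  have hD62 : D ≤ 62 := by nlinarith
  unfold Int.ModEq at hDmod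
  rcases h1 with ⟨rfl, rfl⟩ | ⟨rfl, rfl⟩ | ⟨rfl, rfl⟩ <;>
  rcases h2 with ⟨rfl, rfl⟩ | ⟨rfl, rfl⟩ | ⟨rfl, rfl⟩ <;>
  (try omega) <;>
  rcases h3 with ⟨rfl, rfl⟩ | ⟨rfl, rfl⟩ | ⟨rfl, rfl⟩ <;>
  (try omega) <;>
  rcases h4 with ⟨rfl, rfl⟩ | ⟨rfl, rfl⟩ | ⟨rfl, rfl⟩ <;>
  (try omega) <;>
  rcases hδ₀ with rfl | rfl <;>
  (try omega) <;>
  interval_cases D <;> omega

end S2

variable {G : Type u} [Group G] [Fintype G]

set_option maxHeartbeats 1600000 in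
/-- PIECE S2. -/
theorem exists_b11 (hs : IsSimpleGroup G) (hG : Nat.card G = 7920) (P : Sylow 11 G)
    (hP : Nat.card (P : Subgroup G) = 11)
    (hC : Subgroup.centralizer ((P : Subgroup G) : Set G) = (P : Subgroup G))
    (hw : (Subgroup.centralizer ((P : Subgroup G) : Set G)).relIndex
      (Subgroup.normalizer ((P : Subgroup G) : Set G)) = 5) :
    Nonempty (B11I (P : Subgroup G)) ∨ Nonempty (B11II (P : Subgroup G)) := by
  classical
  have hperf := S1.perfect hs hG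
  letI : Fintype (IrrCharacter G) := irrFintype
  obtain ⟨-, -, X, Y, δ, δ₀, O, hdisj, hXc, hYc, hX, h1X, hrest, hδ₀, hY, -, -, hYsum, hYreg, hrel⟩ :=
    Cfsg.Agent.Helper5.BRP0.brauer_interface 11 P hP hC 5 hw
  set χ₀ := principalChar G with hχ₀
  have hχ₀X : χ₀ ∈ X := h1X (by norm_num)
  have hYc2 : Y.card = 2 := by rw [hYc]
  obtain ⟨θ, θ', hθne, hYeq⟩ := Finset.card_eq_two.mp hYc2
  -- the four other members of `X`
  have hX'c : (X.erase χ₀).card = 4 := by rw [Finset.card_erase_of_mem hχ₀X, hXc]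
  obtain ⟨a, t, hat, hins, htc⟩ := Finset.card_eq_succ.mp hX'c
  obtain ⟨b, c, d, hbc, hbd, hcd, ht⟩ := Finset.card_eq_three.mp htc
  have hmemX' : ∀ χ : IrrCharacter G, χ ∈ X.erase χ₀ ↔ χ = a ∨ χ = b ∨ χ = c ∨ χ = d := by
    intro χ
    rw [← hins, ht]
    simp only [Finset.mem_insert, Finset.mem_singleton]
  rw [ht] at hat
  simp only [Finset.mem_insert, Finset.mem_singleton, not_or] at hat
  obtain ⟨hab, hac, had⟩ := hat
  -- sort by degree
  obtain ⟨χ1, χ2, χ3, χ4, hperm, h21, h32, h43⟩ :=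
    S2.exists_sorted4 (fun χ : IrrCharacter G => charDegree (χ : G → ℂ)) a b c d
  have hnd : [χ1, χ2, χ3, χ4].Nodup := by
    rw [hperm.nodup_iff]
    simp [hab, hac, had, hbc, hbd, hcd]
  have hmem4 : ∀ χ : IrrCharacter G, χ ∈ X.erase χ₀ ↔ χ ∈ [χ1, χ2, χ3, χ4] := by
    intro χ
    rw [hmemX', hperm.mem_iff]
    simp
  have hXeq : X = insert χ₀ ({χ1, χ2, χ3, χ4} : Finset (IrrCharacter G)) := by
    ext χ
    by_cases hχ : χ = χ₀
    · subst hχ; simp [hχ₀X]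
    · have := hmem4 χ
      rw [Finset.mem_erase] at this
      simp only [List.mem_cons, List.not_mem_nil, or_false] at this
      simp only [Finset.mem_insert, Finset.mem_singleton]
      tauto
  simp only [List.nodup_cons, List.mem_cons, List.not_mem_nil, or_false, not_or, List.nodup_nil,
    and_true, not_false_eq_true] at hnd
  obtain ⟨⟨h12, h13, h14⟩, ⟨h23, h24⟩, h34⟩ := hnd
  have hmemX : ∀ i ∈ [χ1, χ2, χ3, χ4], i ∈ X ∧ i ≠ χ₀ := by
    intro i hi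
    have := (hmem4 i).mpr hi
    rw [Finset.mem_erase] at this
    exact ⟨this.2, this.1⟩
  have hχ1 := hmemX χ1 (by simp)
  have hχ2 := hmemX χ2 (by simp)
  have hχ3 := hmemX χ3 (by simp)
  have hχ4 := hmemX χ4 (by simp)
  have hθY : θ ∈ Y := by rw [hYeq]; simp
  have hθ'Y : θ' ∈ Y := by rw [hYeq]; simp
  have hone_reg : ¬ 11 ∣ orderOf (1 : G) := by rw [orderOf_one]; norm_num
  -- sum of squares
  have hsumsq := sum_charDegree_sq (G := G)
  rw [hG] at hsumsq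
  have hnotY : ∀ χ ∈ X, χ ∉ Y := fun χ hχ hY' => (Finset.disjoint_left.mp hdisj) hχ hY'
  have hS : ({χ₀, χ1, χ2, χ3, χ4, θ, θ'} : Finset (IrrCharacter G)) ⊆ Finset.univ :=
    Finset.subset_univ _
  have hsq7 : ∑ χ ∈ ({χ₀, χ1, χ2, χ3, χ4, θ, θ'} : Finset (IrrCharacter G)),
      charDegree (χ : G → ℂ) ^ 2 ≤ 7920 := by
    rw [← hsumsq]
    exact Finset.sum_le_sum_of_subset hS
  have hθX : θ ∉ X := fun h => hnotY θ h hθY
  have hθ'X : θ' ∉ X := fun h => hnotY θ' h hθ'Y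
  have hne : ∀ χ ∈ X, χ ≠ θ ∧ χ ≠ θ' := fun χ hχ =>
    ⟨fun h => hθX (h ▸ hχ), fun h => hθ'X (h ▸ hχ)⟩
  rw [Finset.sum_insert (by
      simp only [Finset.mem_insert, Finset.mem_singleton, not_or]
      exact ⟨hχ1.2.symm, hχ2.2.symm, hχ3.2.symm, hχ4.2.symm, (hne χ₀ hχ₀X).1, (hne χ₀ hχ₀X).2⟩),
    Finset.sum_insert (by
      simp only [Finset.mem_insert, Finset.mem_singleton, not_or]
      exact ⟨h12, h13, h14, (hne χ1 hχ1.1).1, (hne χ1 hχ1.1).2⟩),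
    Finset.sum_insert (by
      simp only [Finset.mem_insert, Finset.mem_singleton, not_or]
      exact ⟨h23, h24, (hne χ2 hχ2.1).1, (hne χ2 hχ2.1).2⟩),
    Finset.sum_insert (by
      simp only [Finset.mem_insert, Finset.mem_singleton, not_or]
      exact ⟨h34, (hne χ3 hχ3.1).1, (hne χ3 hχ3.1).2⟩),
    Finset.sum_insert (by
      simp only [Finset.mem_insert, Finset.mem_singleton, not_or]
      exact ⟨(hne χ4 hχ4.1).1, (hne χ4 hχ4.1).2⟩),
    Finset.sum_insert (by simpa using hθne), Finset.sum_singleton] at hsq7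
  have hdeg₀ : charDegree (χ₀ : G → ℂ) = 1 := by
    apply charDegree_natCast 1
    simp [hχ₀, principalChar]
  rw [hdeg₀] at hsq7
  -- degrees of the members of `X`
  have hdegX : ∀ χ ∈ X, χ ≠ χ₀ →
      (charDegree (χ : G → ℂ) = 10 ∧ δ χ = -1) ∨ (charDegree (χ : G → ℂ) = 12 ∧ δ χ = 1) ∨
        (charDegree (χ : G → ℂ) = 45 ∧ δ χ = 1) := by
    intro χ hχ hχne
    obtain ⟨hδ, -, hmod⟩ := hX χ hχ
    apply S2.deg_cases _ _ _ _ _ hδ hmod
    · have := charDegree_dvd_card χ.2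
      rwa [hG] at this
    · intro h1
      apply hχne
      apply Cfsg.Agent.Helper17.BRRed.eq_principal_of_degree_one hperf χ
      rw [irr_one_eq_charDegree χ.2, h1]; simp
    · have h2 : ∑ ψ ∈ ({χ₀, χ} : Finset (IrrCharacter G)), charDegree (ψ : G → ℂ) ^ 2 ≤ 7920 := by
        rw [← hsumsq]
        exact Finset.sum_le_sum_of_subset (Finset.subset_univ _)
      rw [Finset.sum_insert (by simpa using hχne.symm), Finset.sum_singleton, hdeg₀] at h2
      nlinarith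
  have hd1 := hdegX χ1 hχ1.1 hχ1.2
  have hd2 := hdegX χ2 hχ2.1 hχ2.2
  have hd3 := hdegX χ3 hχ3.1 hχ3.2
  have hd4 := hdegX χ4 hχ4.1 hχ4.2
  -- the exceptional degree
  obtain ⟨-, -, -, hDmod⟩ := hY θ hθY
  have hDD : charDegree (θ' : G → ℂ) = charDegree (θ : G → ℂ) := by
    have h := hYreg θ hθY θ' hθ'Y 1 hone_reg
    rw [irr_one_eq_charDegree θ.2, irr_one_eq_charDegree θ'.2] at h
    exact_mod_cast h.symm
  have hDdvd : charDegree (θ : G → ℂ) ∣ 7920 := by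
    have := charDegree_dvd_card θ.2
    rwa [hG] at this
  -- `δ χ₀ = 1`
  have hδχ₀ : δ χ₀ = 1 := by
    obtain ⟨hδ, -, hmod⟩ := hX χ₀ hχ₀X
    rw [hdeg₀] at hmod
    unfold Int.ModEq at hmod
    rcases hδ with h | h
    · exact h
    · rw [h] at hmod; omega
  -- the relation at `1`
  have hrel1 := hrel 1 hone_reg θ hθY
  rw [hXeq, Finset.sum_insert (by
      simp only [Finset.mem_insert, Finset.mem_singleton, not_or]
      exact ⟨hχ1.2.symm, hχ2.2.symm, hχ3.2.symm, hχ4.2.symm⟩),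
    Finset.sum_insert (by
      simp only [Finset.mem_insert, Finset.mem_singleton, not_or]
      exact ⟨h12, h13, h14⟩),
    Finset.sum_insert (by
      simp only [Finset.mem_insert, Finset.mem_singleton, not_or]
      exact ⟨h23, h24⟩),
    Finset.sum_insert (by simpa using h34), Finset.sum_singleton] at hrel1
  rw [irr_one_eq_charDegree θ.2, irr_one_eq_charDegree χ₀.2, irr_one_eq_charDegree χ1.2,
    irr_one_eq_charDegree χ2.2, irr_one_eq_charDegree χ3.2, irr_one_eq_charDegree χ4.2, hdeg₀,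
    hδχ₀] at hrel1
  have hrelZ : δ₀ * (charDegree (θ : G → ℂ) : ℤ) + 1 + δ χ1 * (charDegree (χ1 : G → ℂ) : ℤ) +
      δ χ2 * (charDegree (χ2 : G → ℂ) : ℤ) + δ χ3 * (charDegree (χ3 : G → ℂ) : ℤ) +
      δ χ4 * (charDegree (χ4 : G → ℂ) : ℤ) = 0 := by
    have : ((δ₀ * (charDegree (θ : G → ℂ) : ℤ) + 1 + δ χ1 * (charDegree (χ1 : G → ℂ) : ℤ) +
      δ χ2 * (charDegree (χ2 : G → ℂ) : ℤ) + δ χ3 * (charDegree (χ3 : G → ℂ) : ℤ) +
      δ χ4 * (charDegree (χ4 : G → ℂ) : ℤ) : ℤ) : ℂ) = 0 := by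
      push_cast
      linear_combination hrel1
    exact_mod_cast this
  rw [hDD] at hsq7
  have hmain := S2.num_sorted hd1 hd2 hd3 hd4 h21 h32 h43 hδ₀ hDdvd
    (by simpa using hDmod) hrelZ (by linarith)
  obtain ⟨hδ₀', hcase⟩ := hmain
  -- common fields
  have hval : ∀ χ ∈ X, ∀ a ∈ (P : Subgroup G), a ≠ 1 → (χ : G → ℂ) a = (δ χ : ℂ) :=
    fun χ hχ => (hX χ hχ).2.1
  have hsumY : ∀ a ∈ (P : Subgroup G), a ≠ 1 → (θ : G → ℂ) a + (θ' : G → ℂ) a = -1 := by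
    intro a ha ha1
    have := hYsum a ha ha1
    rw [hYeq, Finset.sum_insert (by simpa using hθne), Finset.sum_singleton, hδ₀'] at this
    rw [this]; simp
  have hregY : ∀ g : G, ¬ 11 ∣ orderOf g → (θ : G → ℂ) g = (θ' : G → ℂ) g :=
    fun g hg => hYreg θ hθY θ' hθ'Y g hg
  have hrelg : ∀ g : G, ¬ 11 ∣ orderOf g →
      1 + (δ χ1 : ℂ) * (χ1 : G → ℂ) g + (δ χ2 : ℂ) * (χ2 : G → ℂ) g +
        (δ χ3 : ℂ) * (χ3 : G → ℂ) g + (δ χ4 : ℂ) * (χ4 : G → ℂ) g = (θ : G → ℂ) g := by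
    intro g hg
    have h := hrel g hg θ hθY
    rw [hXeq, Finset.sum_insert (by
        simp only [Finset.mem_insert, Finset.mem_singleton, not_or]
        exact ⟨hχ1.2.symm, hχ2.2.symm, hχ3.2.symm, hχ4.2.symm⟩),
      Finset.sum_insert (by
        simp only [Finset.mem_insert, Finset.mem_singleton, not_or]
        exact ⟨h12, h13, h14⟩),
      Finset.sum_insert (by
        simp only [Finset.mem_insert, Finset.mem_singleton, not_or]
        exact ⟨h23, h24⟩),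
      Finset.sum_insert (by simpa using h34), Finset.sum_singleton, hδχ₀, hδ₀'] at h
    have h0 : (χ₀ : G → ℂ) g = 1 := rfl
    rw [h0] at h
    push_cast at h
    linear_combination h
  have hrestg : ∀ χ : IrrCharacter G, χ ∉ [χ₀, χ1, χ2, χ3, χ4, θ, θ'] →
      ∀ a ∈ (P : Subgroup G), a ≠ 1 → (χ : G → ℂ) a = 0 := by
    intro χ hχ
    simp only [List.mem_cons, List.not_mem_nil, or_false, not_or] at hχ
    apply hrest χ
    · rw [hXeq]
      simp only [Finset.mem_insert, Finset.mem_singleton, not_or]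
      exact ⟨hχ.1, hχ.2.1, hχ.2.2.1, hχ.2.2.2.1, hχ.2.2.2.2.1⟩
    · rw [hYeq]
      simp only [Finset.mem_insert, Finset.mem_singleton, not_or]
      exact ⟨hχ.2.2.2.2.2.1, hχ.2.2.2.2.2.2⟩
  have hnodup : [χ₀, χ1, χ2, χ3, χ4, θ, θ'].Nodup := by
    simp only [List.nodup_cons, List.mem_cons, List.not_mem_nil, or_false, not_or, List.nodup_nil,
      and_true, not_false_eq_true]
    exact ⟨⟨hχ1.2.symm, hχ2.2.symm, hχ3.2.symm, hχ4.2.symm, (hne χ₀ hχ₀X).1, (hne χ₀ hχ₀X).2⟩,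
      ⟨h12, h13, h14, (hne χ1 hχ1.1).1, (hne χ1 hχ1.1).2⟩,
      ⟨h23, h24, (hne χ2 hχ2.1).1, (hne χ2 hχ2.1).2⟩,
      ⟨h34, (hne χ3 hχ3.1).1, (hne χ3 hχ3.1).2⟩,
      ⟨(hne χ4 hχ4.1).1, (hne χ4 hχ4.1).2⟩, hθne⟩
  rcases hcase with ⟨hD, e1, e2, e3, e4, f1, f2, f3, f4⟩ | ⟨hD, e1, e2, e3, e4, f1, f2, f3, f4⟩
  · left
    exact ⟨⟨χ1, χ2, χ3, χ4, θ, θ', hnodup, e1, e2, e3, e4, hD, by rw [hDD, hD],
      by have := hval χ1 hχ1.1; rw [f1] at this; exact this,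
      by have := hval χ2 hχ2.1; rw [f2] at this; exact this,
      by have := hval χ3 hχ3.1; rw [f3] at this; exact this,
      by have := hval χ4 hχ4.1; rw [f4] at this; exact this,
      hsumY, hregY, by rw [f1, f2, f3, f4] at hrelg; exact hrelg, hrestg⟩⟩
  · right
    exact ⟨⟨χ1, χ2, χ3, χ4, θ, θ', hnodup, e1, e2, e3, e4, hD, by rw [hDD, hD],
      by have := hval χ1 hχ1.1; rw [f1] at this; exact this,
      by have := hval χ2 hχ2.1; rw [f2] at this; exact this,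
      by have := hval χ3 hχ3.1; rw [f3] at this; exact this,
      by have := hval χ4 hχ4.1; rw [f4] at this; exact this,
      hsumY, hregY, by rw [f1, f2, f3, f4] at hrelg; exact hrelg, hrestg⟩⟩

end Cfsg.Agent.Helper17.M11
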