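import Mathlib
import Cfsg.Prelude.Def_Blocks
import Cfsg.Agent.Lib.Helper24.CharLinear
import Cfsg.Agent.Lib.Helper24.CharComplete
import Cfsg.Agent.Lib.Helper24.CharHom
import Cfsg.Agent.Lib.Helper17.BRRedGrp
import Cfsg.Agent.Lib.Helper17.M11Defs
import Cfsg.Agent.Lib.Helper24.M11T1
import Cfsg.Agent.Lib.Helper17.M11T3
import Cfsg.Agent.Lib.Helper25.M11T4
import Cfsg.Agent.Lib.Helper15.M11S3
import Cfsg.Agent.Lib.Helper25.M11N1
import Cfsg.Agent.Lib.Helper25.M11N2
import Cfsg.Agent.Lib.Helper17.M11S4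

/-!
# Simple groups of order 7920: piece S5 (`not_commute_invol_five`) (helper17)

No involution commutes with an element of order `5`.
-/

set_option autoImplicit false
set_option linter.unusedSectionVars false
set_option linter.unusedVariables false

namespace Cfsg.Agent.Helper17.M11

open scoped ComplexConjugate
open Cfsg Cfsg.Agent.Helper24

universe u

variable {G : Type u} [Group G] [Fintype G]

namespace S5

/-- In a simple group, an element at which an irreducible character takes its degree as a value is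
trivial as soon as the character is not constant. -/
theorem eq_one_of_value (hs : IsSimpleGroup G) (χ : IrrCharacter G) {x t : G}
    (hx : (χ : G → ℂ) x ≠ (χ : G → ℂ) 1) (ht : (χ : G → ℂ) t = (χ : G → ℂ) 1) : t = 1 := by
  have hχ := isCharacter_of_isIrrCharacter χ.2
  haveI := charKer_normal hχ
  rcases hs.eq_bot_or_eq_top_of_normal (charKer hχ) inferInstance with h | h
  · have : t ∈ charKer hχ := (mem_charKer hχ t).2 ht
    rw [h] at this
    exact Subgroup.mem_bot.1 this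
  · exfalso
    have : x ∈ charKer hχ := by rw [h]; exact Subgroup.mem_top x
    exact hx ((mem_charKer hχ x).1 this)

/-- A character of `5`-defect zero: `10 ∣ χ(1) + χ(t)` when the involution `t` commutes with an
element of order `5`. -/
theorem dvd_of_dz (hG : Nat.card G = 7920) (χ : IrrCharacter G) {d : ℕ}
    (hd : charDegree (χ : G → ℂ) = d) (h5 : ¬ 5 ∣ 7920 / d) {t u : G} (ht : orderOf t = 2)
    (hu : orderOf u = 5) (hc : Commute t u) {a : ℤ} (ha : (χ : G → ℂ) t = (a : ℂ)) :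
    (10 : ℤ) ∣ (d : ℤ) + a := by
  have hv := dz_vanish 5 χ (by rw [hG, hd]; exact h5)
  obtain ⟨m, hm⟩ := dvd_add_of_commute (isCharacter_of_isIrrCharacter χ.2) 5 (by norm_num) hv ht hu hc
  rw [irr_one_eq_charDegree χ.2, hd, ha] at hm
  have h1 : (d : ℤ) + a = ((2 * 5 * m : ℕ) : ℤ) := by exact_mod_cast hm
  exact ⟨m, by rw [h1]; push_cast; ring⟩

end S5

theorem not_commute_invol_five (hs : IsSimpleGroup G) (hG : Nat.card G = 7920) (P : Sylow 11 G)
    (hP : Nat.card (P : Subgroup G) = 11)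
    (hC : Subgroup.centralizer ((P : Subgroup G) : Set G) = (P : Subgroup G))
    (hw : (Subgroup.centralizer ((P : Subgroup G) : Set G)).relIndex
      (Subgroup.normalizer ((P : Subgroup G) : Set G)) = 5)
    (hB : Nonempty (B11I (P : Subgroup G)) ∨ Nonempty (B11II (P : Subgroup G)))
    {t u : G} (ht : orderOf t = 2) (hu : orderOf u = 5) : ¬ Commute t u := by
  classical
  intro hcomm
  have ht2 : t * t = 1 := by
    have := pow_orderOf_eq_one t
    rw [ht, sq] at this
    exact this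
  have ht1 : t ≠ 1 := by
    intro h
    rw [h, orderOf_one] at ht
    omega
  obtain ⟨x, hx, hxo, -, -⟩ := BRRed.exists_generator P hP
  have hx1 : x ≠ 1 := by
    intro h
    rw [h, orderOf_one] at hxo
    omega
  have hno := no_invol_inverts P hP hC hw hx hx1
  rcases hB with ⟨⟨B⟩⟩ | ⟨⟨B⟩⟩
  · -- case (I)
    obtain ⟨a, ha, hab⟩ := invol_value (isCharacter_of_isIrrCharacter B.χ1.2) ht2
    obtain ⟨b1, hb1, hb1b⟩ := invol_value (isCharacter_of_isIrrCharacter B.χ2.2) ht2
    obtain ⟨b2, hb2, hb2b⟩ := invol_value (isCharacter_of_isIrrCharacter B.χ3.2) ht2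
    obtain ⟨b3, hb3, hb3b⟩ := invol_value (isCharacter_of_isIrrCharacter B.χ4.2) ht2
    obtain ⟨c, hc, hcb⟩ := invol_value (isCharacter_of_isIrrCharacter B.θ.2) ht2
    rw [B.deg1] at hab
    rw [B.deg2] at hb1b
    rw [B.deg3] at hb2b
    rw [B.deg4] at hb3b
    obtain ⟨R1, R2⟩ := invol_eq11 B hx hx1 hno ht2 ht1 ha hb1 hb2 hb3 hc
    have R1' : c = 1 + a - b1 - b2 - b3 := by rw [R1]; ring
    have R2' : 720 + 16 * a ^ 2 - 72 * (b1 ^ 2 + b2 ^ 2 + b3 ^ 2) - 45 * c ^ 2 = 0 := by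
      have : (720 : ℚ) + 16 * (a : ℚ) ^ 2 - 72 * ((b1 : ℚ) ^ 2 + (b2 : ℚ) ^ 2 + (b3 : ℚ) ^ 2)
          - 45 * (c : ℚ) ^ 2 = 0 := by
        push_cast at R2
        linear_combination 720 * R2
      exact_mod_cast this
    have d1 := S5.dvd_of_dz hG B.χ1 B.deg1 (by norm_num) ht hu hcomm ha
    have d2 := S5.dvd_of_dz hG B.χ2 B.deg2 (by norm_num) ht hu hcomm hb1
    have d3 := S5.dvd_of_dz hG B.χ3 B.deg3 (by norm_num) ht hu hcomm hb2
    have d4 := S5.dvd_of_dz hG B.χ4 B.deg4 (by norm_num) ht hu hcomm hb3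
    have ha45 : a = 45 := num_inv5_I R1' R2' (by exact_mod_cast hab) (by exact_mod_cast hb1b)
      (by exact_mod_cast hb2b) (by exact_mod_cast hb3b) (by exact_mod_cast d1)
      (by exact_mod_cast d2) (by exact_mod_cast d3) (by exact_mod_cast d4)
    have e1 : (B.χ1 : G → ℂ) 1 = 45 := by
      rw [irr_one_eq_charDegree B.χ1.2, B.deg1]; norm_num
    apply ht1
    apply S5.eq_one_of_value hs B.χ1 (x := x)
    · rw [B.val1 x hx hx1, e1]; norm_num
    · rw [ha, e1, ha45]; norm_num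
  · -- case (II)
    obtain ⟨a1, ha1, ha1b⟩ := invol_value (isCharacter_of_isIrrCharacter B.χ1.2) ht2
    obtain ⟨a2, ha2, ha2b⟩ := invol_value (isCharacter_of_isIrrCharacter B.χ2.2) ht2
    obtain ⟨b1, hb1, hb1b⟩ := invol_value (isCharacter_of_isIrrCharacter B.χ3.2) ht2
    obtain ⟨b2, hb2, hb2b⟩ := invol_value (isCharacter_of_isIrrCharacter B.χ4.2) ht2
    obtain ⟨c, hc, hcb⟩ := invol_value (isCharacter_of_isIrrCharacter B.θ.2) ht2
    rw [B.deg1] at ha1b
    rw [B.deg2] at ha2b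
    rw [B.deg3] at hb1b
    rw [B.deg4] at hb2b
    rw [B.degθ] at hcb
    obtain ⟨R1, R2⟩ := invol_eq11 B hx hx1 hno ht2 ht1 ha1 ha2 hb1 hb2 hc
    have R1' : c = 1 + a1 + a2 - b1 - b2 := by rw [R1]; ring
    have R2' : 60 + 5 * (a1 ^ 2 + a2 ^ 2) - 6 * (b1 ^ 2 + b2 ^ 2) - 12 * c ^ 2 = 0 := by
      have : (60 : ℚ) + 5 * ((a1 : ℚ) ^ 2 + (a2 : ℚ) ^ 2) - 6 * ((b1 : ℚ) ^ 2 + (b2 : ℚ) ^ 2)
          - 12 * (c : ℚ) ^ 2 = 0 := by
        push_cast at R2
        linear_combination 60 * R2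
      exact_mod_cast this
    have d3 := S5.dvd_of_dz hG B.χ3 B.deg3 (by norm_num) ht hu hcomm hb1
    have d4 := S5.dvd_of_dz hG B.χ4 B.deg4 (by norm_num) ht hu hcomm hb2
    have d5 := S5.dvd_of_dz hG B.θ B.degθ (by norm_num) ht hu hcomm hc
    have hb10 : b1 = 10 := num_inv5_II R1' R2' (by exact_mod_cast ha1b) (by exact_mod_cast ha2b)
      (by exact_mod_cast hb1b) (by exact_mod_cast hb2b) (by exact_mod_cast hcb)
      (by exact_mod_cast d3) (by exact_mod_cast d4) (by exact_mod_cast d5)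
    have e1 : (B.χ3 : G → ℂ) 1 = 10 := by
      rw [irr_one_eq_charDegree B.χ3.2, B.deg3]; norm_num
    apply ht1
    apply S5.eq_one_of_value hs B.χ3 (x := x)
    · rw [B.val3 x hx hx1, e1]; norm_num
    · rw [hb1, e1, hb10]; norm_num

end Cfsg.Agent.Helper17.M11
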