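import Mathlib
import Cfsg.Prelude.Def_Blocks
import Cfsg.Agent.Lib.Helper17.M11Defs
import Cfsg.Agent.Lib.Helper17.M11S1
import Cfsg.Agent.Lib.Helper17.M11S2
import Cfsg.Agent.Lib.Helper17.M11S5
import Cfsg.Agent.Lib.Helper15.M11S6
import Cfsg.Agent.Lib.Helper27.M11S7
import Cfsg.Agent.Lib.Helper27.M11S8

/-!
# Simple groups of order 7920: the character table data (assembly, helper17)
-/

set_option autoImplicit false
set_option linter.unusedSectionVars false
set_option linter.unusedVariables false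

namespace Cfsg.Agent.Helper17.M11

open Cfsg Cfsg.Agent.Helper24

universe u

variable {G : Type u} [Group G] [Fintype G]

/-- The character table data of a simple group of order `7920`, for any Sylow `11`-subgroup `P` and
any Sylow `5`-subgroup `Q`. -/
theorem main_ct (hs : IsSimpleGroup G) (hG : Nat.card G = 7920) (P : Sylow 11 G) (Q : Sylow 5 G) :
    Nonempty (CT (P : Subgroup G) (Q : Subgroup G)) := by
  obtain ⟨hP, hC, hw⟩ := syl11 hs hG P
  have hB := exists_b11 hs hG P hP hC hw
  have hinv : ∀ t u : G, orderOf t = 2 → orderOf u = 5 → ¬ Commute t u :=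
    fun t u ht hu => not_commute_invol_five hs hG P hP hC hw hB ht hu
  have h11 : ∀ P' : Sylow 11 G,
      Subgroup.centralizer ((P' : Subgroup G) : Set G) = (P' : Subgroup G) :=
    fun P' => (syl11 hs hG P').2.1
  obtain ⟨hQ, hCQ, hwQ⟩ := syl5 hs hG hinv h11 Q
  rcases hB with ⟨⟨B⟩⟩ | ⟨⟨B⟩⟩
  · exact exists_ct hG P hP B Q hQ hCQ hwQ
  · exact (not_b11II P B Q hQ hCQ hwQ).elim

/-- All the Sylow `5`-subgroups are self-centralizing. -/
theorem syl5_all (hs : IsSimpleGroup G) (hG : Nat.card G = 7920) (Q : Sylow 5 G) :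
    Nat.card (Q : Subgroup G) = 5 ∧
    Subgroup.centralizer ((Q : Subgroup G) : Set G) = (Q : Subgroup G) ∧
    (Subgroup.centralizer ((Q : Subgroup G) : Set G)).relIndex
      (Subgroup.normalizer ((Q : Subgroup G) : Set G)) = 4 := by
  obtain ⟨P⟩ : Nonempty (Sylow 11 G) := inferInstance
  obtain ⟨hP, hC, hw⟩ := syl11 hs hG P
  have hB := exists_b11 hs hG P hP hC hw
  have hinv : ∀ t u : G, orderOf t = 2 → orderOf u = 5 → ¬ Commute t u :=
    fun t u ht hu => not_commute_invol_five hs hG P hP hC hw hB ht hu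
  have h11 : ∀ P' : Sylow 11 G,
      Subgroup.centralizer ((P' : Subgroup G) : Set G) = (P' : Subgroup G) :=
    fun P' => (syl11 hs hG P').2.1
  exact syl5 hs hG hinv h11 Q

end Cfsg.Agent.Helper17.M11
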