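import Mathlib
import Cfsg.Prelude.Def_Blocks
import Cfsg.Agent.Lib.Helper24.CharLinear
import Cfsg.Agent.Lib.Helper24.CharComplete
import Cfsg.Agent.Lib.Helper17.M11Defs
import Cfsg.Agent.Lib.Helper15.M11T2

/-!
# Simple groups of order 7920: piece S4 (`invol_eq11`) (helper17)

The two equations for the character values at an involution coming from the prime `11`.
-/

set_option autoImplicit false
set_option linter.unusedSectionVars false
set_option linter.unusedVariables false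

namespace Cfsg.Agent.Helper17.M11

open scoped ComplexConjugate
open Cfsg Cfsg.Agent.Helper24

universe u

variable {G : Type u} [Group G] [Fintype G]

namespace S4

/-- Splitting a sum over all irreducible characters along a duplicate-free list. -/
theorem sum_split [Fintype (IrrCharacter G)] (L : List (IrrCharacter G)) (hL : L.Nodup)
    (f : IrrCharacter G → ℂ) (h0 : ∀ χ, χ ∉ L → f χ = 0) :
    ∑ χ : IrrCharacter G, f χ = (L.map f).sum := by
  classical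
  rw [← List.sum_toFinset f hL]
  symm
  apply Finset.sum_subset (Finset.subset_univ _)
  intro χ _ hχ
  exact h0 χ (by simpa using hχ)

end S4

theorem invol_eq11 {P : Subgroup G} {d1 d2 d3 d4 D : ℕ} {s1 s2 s3 s4 : ℤ}
    (B : B11 P d1 d2 d3 d4 D s1 s2 s3 s4) {x : G} (hx : x ∈ P) (hx1 : x ≠ 1)
    (hno : ∀ s : G, s * s = 1 → s ≠ 1 → s * x * s⁻¹ ≠ x⁻¹) {t : G} (ht : t * t = 1) (ht1 : t ≠ 1)
    {v1 v2 v3 v4 c : ℤ} (h1 : (B.χ1 : G → ℂ) t = (v1 : ℂ)) (h2 : (B.χ2 : G → ℂ) t = (v2 : ℂ))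
    (h3 : (B.χ3 : G → ℂ) t = (v3 : ℂ)) (h4 : (B.χ4 : G → ℂ) t = (v4 : ℂ))
    (hc : (B.θ : G → ℂ) t = (c : ℂ)) :
    c = 1 + s1 * v1 + s2 * v2 + s3 * v3 + s4 * v4 ∧
    (1 : ℚ) + s1 * v1 ^ 2 / d1 + s2 * v2 ^ 2 / d2 + s3 * v3 ^ 2 / d3 + s4 * v4 ^ 2 / d4
      - c ^ 2 / D = 0 := by
  classical
  have hot : orderOf t = 2 := orderOf_eq_prime (by rw [sq]; exact ht) ht1
  have hreg : ¬ 11 ∣ orderOf t := by rw [hot]; norm_num
  have R1c := B.rel t hreg
  rw [h1, h2, h3, h4, hc] at R1c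
  have R1 : c = 1 + s1 * v1 + s2 * v2 + s3 * v3 + s4 * v4 := by exact_mod_cast R1c.symm
  refine ⟨R1, ?_⟩
  letI : Fintype (IrrCharacter G) := irrFintype
  have key := cc_invol_zero (G := G) ht ht1 hno
  rw [S4.sum_split _ B.nodup _ ?_] at key
  · have hc' : (B.θ' : G → ℂ) t = (c : ℂ) := by rw [← B.regY t hreg, hc]
    have e1 : (B.χ1 : G → ℂ) 1 = (d1 : ℂ) := by
      rw [irr_one_eq_charDegree B.χ1.2, B.deg1]
    have e2 : (B.χ2 : G → ℂ) 1 = (d2 : ℂ) := by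
      rw [irr_one_eq_charDegree B.χ2.2, B.deg2]
    have e3 : (B.χ3 : G → ℂ) 1 = (d3 : ℂ) := by
      rw [irr_one_eq_charDegree B.χ3.2, B.deg3]
    have e4 : (B.χ4 : G → ℂ) 1 = (d4 : ℂ) := by
      rw [irr_one_eq_charDegree B.χ4.2, B.deg4]
    have e5 : (B.θ : G → ℂ) 1 = (D : ℂ) := by
      rw [irr_one_eq_charDegree B.θ.2, B.degθ]
    have e6 : (B.θ' : G → ℂ) 1 = (D : ℂ) := by
      rw [irr_one_eq_charDegree B.θ'.2, B.degθ']
    have e0 : ∀ g : G, (principalChar G : G → ℂ) g = 1 := fun g => rfl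
    have hs : conj ((B.θ : G → ℂ) x) + conj ((B.θ' : G → ℂ) x) = -1 := by
      rw [← map_add, B.sumY x hx hx1]; simp
    simp only [List.map_cons, List.map_nil, List.sum_cons, List.sum_nil, e0, e1, e2, e3, e4, e5, e6,
      h1, h2, h3, h4, hc, hc', B.val1 x hx hx1, B.val2 x hx hx1, B.val3 x hx hx1,
      B.val4 x hx hx1, map_intCast, map_one] at key
    have key2 : (1 : ℂ) + (s1 : ℂ) * (v1 : ℂ) ^ 2 / (d1 : ℂ) + (s2 : ℂ) * (v2 : ℂ) ^ 2 / (d2 : ℂ)
        + (s3 : ℂ) * (v3 : ℂ) ^ 2 / (d3 : ℂ) + (s4 : ℂ) * (v4 : ℂ) ^ 2 / (d4 : ℂ)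
        - (c : ℂ) ^ 2 / (D : ℂ) = 0 := by
      have h5 : (c : ℂ) * (c : ℂ) * conj ((B.θ : G → ℂ) x) / (D : ℂ)
          + (c : ℂ) * (c : ℂ) * conj ((B.θ' : G → ℂ) x) / (D : ℂ) = - ((c : ℂ) ^ 2 / (D : ℂ)) := by
        rw [← add_div, ← mul_add, hs]; ring
      linear_combination key - h5
    exact_mod_cast key2
  · intro χ hχ
    rw [B.rest χ hχ x hx hx1]
    simp

end Cfsg.Agent.Helper17.M11
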