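import Mathlib
import Cfsg.Prelude.Def_Blocks
import Cfsg.Agent.Lib.Helper24.CharLinear
import Cfsg.Agent.Lib.Helper24.CharComplete
import Cfsg.Agent.Lib.Helper24.CharHom
import Cfsg.Agent.Lib.Helper17.BRRedGrp
import Cfsg.Agent.Lib.Helper17.M11Defs
import Cfsg.Agent.Lib.Helper24.M11T1
import Cfsg.Agent.Lib.Helper15.M11S3
import Cfsg.Agent.Lib.Helper19.M11S9
import Cfsg.Agent.Lib.Helper19.M11S10
import Cfsg.Agent.Lib.Helper6.M11N3
import Cfsg.Agent.Lib.Helper17.M11S4
import Cfsg.Agent.Lib.Helper17.M11S5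

/-!
# Simple groups of order 7920: piece S11 (`card_centralizer_invol`, = S0435) (helper17)

Every involution has a centralizer of order `48`.
-/

set_option autoImplicit false
set_option linter.unusedSectionVars false
set_option linter.unusedVariables false

namespace Cfsg.Agent.Helper17.M11

open scoped ComplexConjugate
open Cfsg Cfsg.Agent.Helper24

universe u

variable {G : Type u} [Group G] [Fintype G]

theorem card_centralizer_invol (hs : IsSimpleGroup G) (hG : Nat.card G = 7920) (P : Sylow 11 G)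
    (hP : Nat.card (P : Subgroup G) = 11)
    (hC : Subgroup.centralizer ((P : Subgroup G) : Set G) = (P : Subgroup G))
    (hw : (Subgroup.centralizer ((P : Subgroup G) : Set G)).relIndex
      (Subgroup.normalizer ((P : Subgroup G) : Set G)) = 5)
    (Q : Sylow 5 G) (hQ : Nat.card (Q : Subgroup G) = 5)
    (hCQ : Subgroup.centralizer ((Q : Subgroup G) : Set G) = (Q : Subgroup G))
    (T : CT (P : Subgroup G) (Q : Subgroup G)) {t : G} (ht : orderOf t = 2) :
    Nat.card (Subgroup.centralizer ({t} : Set G)) = 48 := by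
  classical
  have ht2 : t * t = 1 := by
    have := pow_orderOf_eq_one t
    rw [ht, sq] at this
    exact this
  have ht1 : t ≠ 1 := by
    intro h
    rw [h, orderOf_one] at ht
    omega
  have hreg : ¬ 11 ∣ orderOf t := by rw [ht]; norm_num
  obtain ⟨x, hx, hxo, -, -⟩ := BRRed.exists_generator P hP
  have hx1 : x ≠ 1 := by
    intro h
    rw [h, orderOf_one] at hxo
    omega
  obtain ⟨u, hu, huo, -, hucent⟩ := BRRed.exists_generator Q hQ
  have hu1 : u ≠ 1 := by
    intro h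
    rw [h, orderOf_one] at huo
    omega
  have hCu : Nat.card (Subgroup.centralizer ({u} : Set G)) = 5 := by
    rw [hucent, hCQ, hQ]
  have hno := no_invol_inverts P hP hC hw hx hx1
  obtain ⟨a, ha, hab⟩ := invol_value (isCharacter_of_isIrrCharacter T.b.χ1.2) ht2
  obtain ⟨b1, hb1, hb1b⟩ := invol_value (isCharacter_of_isIrrCharacter T.b.χ2.2) ht2
  obtain ⟨b2, hb2, hb2b⟩ := invol_value (isCharacter_of_isIrrCharacter T.b.χ3.2) ht2
  obtain ⟨b3, hb3, hb3b⟩ := invol_value (isCharacter_of_isIrrCharacter T.b.χ4.2) ht2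
  obtain ⟨c, hc, hcb⟩ := invol_value (isCharacter_of_isIrrCharacter T.b.θ.2) ht2
  obtain ⟨d, hd, hdb⟩ := invol_value (isCharacter_of_isIrrCharacter T.α.2) ht2
  obtain ⟨f, hf, hfb⟩ := invol_value (isCharacter_of_isIrrCharacter T.β.2) ht2
  obtain ⟨g, hg, hgb⟩ := invol_value (isCharacter_of_isIrrCharacter T.γ.2) ht2
  rw [T.b.deg1] at hab
  rw [T.b.deg2] at hb1b
  rw [T.b.deg3] at hb2b
  rw [T.b.deg4] at hb3b
  rw [T.b.degθ] at hcb
  rw [T.degα] at hdb
  rw [T.degβ] at hfb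
  rw [T.degγ] at hgb
  have hc' : (T.b.θ' : G → ℂ) t = (c : ℂ) := by rw [← T.b.regY t hreg, hc]
  obtain ⟨R1, R2⟩ := invol_eq11 T.b hx hx1 hno ht2 ht1 ha hb1 hb2 hb3 hc
  have R1' : c = 1 + a - b1 - b2 - b3 := by rw [R1]; ring
  have R2' : 720 + 16 * a ^ 2 - 72 * (b1 ^ 2 + b2 ^ 2 + b3 ^ 2) - 45 * c ^ 2 = 0 := by
    have : (720 : ℚ) + 16 * (a : ℚ) ^ 2 - 72 * ((b1 : ℚ) ^ 2 + (b2 : ℚ) ^ 2 + (b3 : ℚ) ^ 2)
        - 45 * (c : ℚ) ^ 2 = 0 := by
      push_cast at R2
      linear_combination 720 * R2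
    exact_mod_cast this
  obtain ⟨R3, k, hk, R4⟩ := invol_eq5 T hG hu hu1 hCu ht2 ht1 hc hd hf
  have R5 := sum_sq_values T ha hb1 hb2 hb3 hc hc' hd hf hg
  have R5' : (Nat.card (Subgroup.centralizer ({t} : Set G)) : ℤ) =
      1 + a ^ 2 + b1 ^ 2 + b2 ^ 2 + b3 ^ 2 + 2 * c ^ 2 + d ^ 2 + f ^ 2 + g ^ 2 := by
    rw [R5]; ring
  have ha45 : a ≠ 45 := by
    intro h
    have e1 : (T.b.χ1 : G → ℂ) 1 = 45 := by
      rw [irr_one_eq_charDegree T.b.χ1.2, T.b.deg1]; norm_num
    apply ht1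
    apply S5.eq_one_of_value hs T.b.χ1 (x := x)
    · rw [T.b.val1 x hx hx1, e1]; norm_num
    · rw [ha, e1, h]; norm_num
  exact num435 R1' R2' R3 R4 hk R5' (by exact_mod_cast hab) (by exact_mod_cast hb1b)
    (by exact_mod_cast hb2b) (by exact_mod_cast hb3b) (by exact_mod_cast hcb)
    (by exact_mod_cast hdb) (by exact_mod_cast hfb) (by exact_mod_cast hgb) ha45

end Cfsg.Agent.Helper17.M11
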