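import Mathlib
import Cfsg.Prelude.Def_Blocks
import Cfsg.Agent.Lib.Helper24.CharLinear
import Cfsg.Agent.Lib.Helper24.CharComplete
import Cfsg.Agent.Lib.Helper17.M11Defs
import Cfsg.Agent.Lib.Helper17.M11T3
import Cfsg.Agent.Lib.Helper24.M11T6
import Cfsg.Agent.Lib.Helper25.M11T7
import Cfsg.Agent.Lib.Helper24.M11T8
import Cfsg.Agent.Lib.Helper6.M11S12
import Cfsg.Agent.Lib.Helper6.M11N4
import Cfsg.Agent.Lib.Helper17.M11S4

/-!
# Simple groups of order 7920: piece S13 (`ord3_values`) (helper17)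

The character values at an element of order `3`, and `|C(y)| = 18`.
-/

set_option autoImplicit false
set_option linter.unusedSectionVars false
set_option linter.unusedVariables false

namespace Cfsg.Agent.Helper17.M11

open scoped ComplexConjugate
open Cfsg Cfsg.Agent.Helper24

universe u

variable {G : Type u} [Group G] [Fintype G]

namespace S13

theorem charDegree_principal : charDegree (principalChar G : G → ℂ) = 1 := by
  have h := irr_one_eq_charDegree (principalChar G).2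
  have h1 : (principalChar G : G → ℂ) 1 = 1 := rfl
  rw [h1] at h
  exact_mod_cast h.symm

theorem all_cases {P Q : Subgroup G} (T : CT P Q) (ψ : IrrCharacter G) :
    ψ = principalChar G ∨ ψ = T.b.χ1 ∨ ψ = T.b.χ2 ∨ ψ = T.b.χ3 ∨ ψ = T.b.χ4 ∨ ψ = T.b.θ ∨
      ψ = T.b.θ' ∨ ψ = T.α ∨ ψ = T.β ∨ ψ = T.γ := by
  have h := T.all ψ
  simp only [List.mem_cons, List.not_mem_nil, or_false] at h
  exact h

theorem sum_all [Fintype (IrrCharacter G)] {P Q : Subgroup G} (T : CT P Q)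
    (F : IrrCharacter G → ℂ) :
    ∑ χ : IrrCharacter G, F χ = F (principalChar G) + F T.b.χ1 + F T.b.χ2 + F T.b.χ3 + F T.b.χ4
      + F T.b.θ + F T.b.θ' + F T.α + F T.β + F T.γ := by
  rw [S4.sum_split _ T.nodup F (fun χ h => absurd (T.all χ) h)]
  simp only [List.map_cons, List.map_nil, List.sum_cons, List.sum_nil]
  ring

theorem eq_of_deg16 {P Q : Subgroup G} (T : CT P Q) (ψ : IrrCharacter G)
    (h : charDegree (ψ : G → ℂ) = 16) : ψ = T.b.θ ∨ ψ = T.b.θ' := by
  rcases all_cases T ψ with h1 | h1 | h1 | h1 | h1 | h1 | h1 | h1 | h1 | h1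
  · rw [h1, charDegree_principal] at h; omega
  · rw [h1, T.b.deg1] at h; omega
  · rw [h1, T.b.deg2] at h; omega
  · rw [h1, T.b.deg3] at h; omega
  · rw [h1, T.b.deg4] at h; omega
  · exact Or.inl h1
  · exact Or.inr h1
  · rw [h1, T.degα] at h; omega
  · rw [h1, T.degβ] at h; omega
  · rw [h1, T.degγ] at h; omega

theorem eq_of_deg11 {P Q : Subgroup G} (T : CT P Q) (ψ : IrrCharacter G)
    (h : charDegree (ψ : G → ℂ) = 11) : ψ = T.α := by
  rcases all_cases T ψ with h1 | h1 | h1 | h1 | h1 | h1 | h1 | h1 | h1 | h1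
  · rw [h1, charDegree_principal] at h; omega
  · rw [h1, T.b.deg1] at h; omega
  · rw [h1, T.b.deg2] at h; omega
  · rw [h1, T.b.deg3] at h; omega
  · rw [h1, T.b.deg4] at h; omega
  · rw [h1, T.b.degθ] at h; omega
  · rw [h1, T.b.degθ'] at h; omega
  · exact h1
  · rw [h1, T.degβ] at h; omega
  · rw [h1, T.degγ] at h; omega

theorem eq_of_deg44 {P Q : Subgroup G} (T : CT P Q) (ψ : IrrCharacter G)
    (h : charDegree (ψ : G → ℂ) = 44) : ψ = T.β := by
  rcases all_cases T ψ with h1 | h1 | h1 | h1 | h1 | h1 | h1 | h1 | h1 | h1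
  · rw [h1, charDegree_principal] at h; omega
  · rw [h1, T.b.deg1] at h; omega
  · rw [h1, T.b.deg2] at h; omega
  · rw [h1, T.b.deg3] at h; omega
  · rw [h1, T.b.deg4] at h; omega
  · rw [h1, T.b.degθ] at h; omega
  · rw [h1, T.b.degθ'] at h; omega
  · rw [h1, T.degα] at h; omega
  · exact h1
  · rw [h1, T.degγ] at h; omega

theorem eq_of_deg55 {P Q : Subgroup G} (T : CT P Q) (ψ : IrrCharacter G)
    (h : charDegree (ψ : G → ℂ) = 55) : ψ = T.γ := by
  rcases all_cases T ψ with h1 | h1 | h1 | h1 | h1 | h1 | h1 | h1 | h1 | h1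
  · rw [h1, charDegree_principal] at h; omega
  · rw [h1, T.b.deg1] at h; omega
  · rw [h1, T.b.deg2] at h; omega
  · rw [h1, T.b.deg3] at h; omega
  · rw [h1, T.b.deg4] at h; omega
  · rw [h1, T.b.degθ] at h; omega
  · rw [h1, T.b.degθ'] at h; omega
  · rw [h1, T.degα] at h; omega
  · rw [h1, T.degβ] at h; omega
  · exact h1

/-- Cauchy–Schwarz for three complex numbers. -/
theorem cs3 (z1 z2 z3 : ℂ) :
    Complex.normSq (z1 + z2 + z3) ≤
      3 * (Complex.normSq z1 + Complex.normSq z2 + Complex.normSq z3) := by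
  simp only [Complex.normSq_apply, Complex.add_re, Complex.add_im]
  nlinarith [sq_nonneg (z1.re - z2.re), sq_nonneg (z1.re - z3.re), sq_nonneg (z2.re - z3.re),
    sq_nonneg (z1.im - z2.im), sq_nonneg (z1.im - z3.im), sq_nonneg (z2.im - z3.im)]

/-- Three complex numbers with sum `3` and sum of squared norms `3` are all equal to `1`. -/
theorem all_one {z1 z2 z3 : ℂ} (hs : z1 + z2 + z3 = 3)
    (hn : Complex.normSq z1 + Complex.normSq z2 + Complex.normSq z3 = 3) :
    z1 = 1 ∧ z2 = 1 ∧ z3 = 1 := by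
  have hre : z1.re + z2.re + z3.re = 3 := by
    have := congrArg Complex.re hs
    simpa using this
  have him : z1.im + z2.im + z3.im = 0 := by
    have := congrArg Complex.im hs
    simpa using this
  simp only [Complex.normSq_apply] at hn
  have key : (z1.re - 1) ^ 2 + z1.im ^ 2 + ((z2.re - 1) ^ 2 + z2.im ^ 2)
      + ((z3.re - 1) ^ 2 + z3.im ^ 2) = 0 := by
    nlinarith
  have e1 : (z1.re - 1) ^ 2 = 0 := by
    nlinarith [sq_nonneg (z1.re - 1), sq_nonneg z1.im, sq_nonneg (z2.re - 1), sq_nonneg z2.im,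
      sq_nonneg (z3.re - 1), sq_nonneg z3.im]
  have e2 : z1.im ^ 2 = 0 := by
    nlinarith [sq_nonneg (z1.re - 1), sq_nonneg z1.im, sq_nonneg (z2.re - 1), sq_nonneg z2.im,
      sq_nonneg (z3.re - 1), sq_nonneg z3.im]
  have e3 : (z2.re - 1) ^ 2 = 0 := by
    nlinarith [sq_nonneg (z1.re - 1), sq_nonneg z1.im, sq_nonneg (z2.re - 1), sq_nonneg z2.im,
      sq_nonneg (z3.re - 1), sq_nonneg z3.im]
  have e4 : z2.im ^ 2 = 0 := by
    nlinarith [sq_nonneg (z1.re - 1), sq_nonneg z1.im, sq_nonneg (z2.re - 1), sq_nonneg z2.im,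
      sq_nonneg (z3.re - 1), sq_nonneg z3.im]
  have e5 : (z3.re - 1) ^ 2 = 0 := by
    nlinarith [sq_nonneg (z1.re - 1), sq_nonneg z1.im, sq_nonneg (z2.re - 1), sq_nonneg z2.im,
      sq_nonneg (z3.re - 1), sq_nonneg z3.im]
  have e6 : z3.im ^ 2 = 0 := by
    nlinarith [sq_nonneg (z1.re - 1), sq_nonneg z1.im, sq_nonneg (z2.re - 1), sq_nonneg z2.im,
      sq_nonneg (z3.re - 1), sq_nonneg z3.im]
  have f1 : z1.re = 1 := by have := pow_eq_zero_iff (two_ne_zero) |>.1 e1; linarith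
  have f2 : z1.im = 0 := pow_eq_zero_iff (two_ne_zero) |>.1 e2
  have f3 : z2.re = 1 := by have := pow_eq_zero_iff (two_ne_zero) |>.1 e3; linarith
  have f4 : z2.im = 0 := pow_eq_zero_iff (two_ne_zero) |>.1 e4
  have f5 : z3.re = 1 := by have := pow_eq_zero_iff (two_ne_zero) |>.1 e5; linarith
  have f6 : z3.im = 0 := pow_eq_zero_iff (two_ne_zero) |>.1 e6
  refine ⟨Complex.ext ?_ ?_, Complex.ext ?_ ?_, Complex.ext ?_ ?_⟩ <;> simp [*]

end S13

theorem ord3_values (hG : Nat.card G = 7920)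
    (h11 : ∀ P : Sylow 11 G, Subgroup.centralizer ((P : Subgroup G) : Set G) = (P : Subgroup G))
    (h5 : ∀ Q : Sylow 5 G, Subgroup.centralizer ((Q : Subgroup G) : Set G) = (Q : Subgroup G))
    {P Q : Subgroup G} (T : CT P Q) {y : G} (hy : orderOf y = 3) :
    Nat.card (Subgroup.centralizer ({y} : Set G)) = 18 ∧
    (T.b.χ1 : G → ℂ) y = 0 ∧ (T.b.χ2 : G → ℂ) y = 1 ∧ (T.b.χ3 : G → ℂ) y = 1 ∧
    (T.b.χ4 : G → ℂ) y = 1 ∧ (T.b.θ : G → ℂ) y = -2 ∧ (T.b.θ' : G → ℂ) y = -2 ∧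
    (T.α : G → ℂ) y = 2 ∧ (T.β : G → ℂ) y = -1 ∧ (T.γ : G → ℂ) y = 1 := by
  classical
  letI : Fintype (IrrCharacter G) := irrFintype
  have hy1 : y ≠ 1 := by
    intro h
    rw [h, orderOf_one] at hy
    omega
  have hreg11 : ∀ k : ℕ, ¬ 11 ∣ orderOf (y ^ k) := by
    intro k h
    have h1 : orderOf (y ^ k) ∣ 3 := hy ▸ orderOf_pow_dvd k
    have h2 := Nat.le_of_dvd (by norm_num) (Nat.dvd_trans h h1)
    omega
  have hreg11' : ¬ 11 ∣ orderOf y := by rw [hy]; norm_num
  have hreg5 : ¬ 5 ∣ orderOf y := by rw [hy]; norm_num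
  -- the character of degree 45 vanishes
  have ha : (T.b.χ1 : G → ℂ) y = 0 :=
    dz_vanish 3 T.b.χ1 (by rw [hG, T.b.deg1]; norm_num) y (by rw [hy])
  -- integrality
  obtain ⟨c, hc⟩ := int_of_unique T.b.θ y (by
    intro ψ hψ k
    rw [T.b.degθ] at hψ
    rcases S13.eq_of_deg16 T ψ hψ with h | h
    · rw [h]
    · rw [h]; exact (T.b.regY _ (hreg11 k)).symm)
  obtain ⟨d, hd⟩ := int_of_unique T.α y (by
    intro ψ hψ k
    rw [T.degα] at hψ
    rw [S13.eq_of_deg11 T ψ hψ])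
  obtain ⟨f, hf⟩ := int_of_unique T.β y (by
    intro ψ hψ k
    rw [T.degβ] at hψ
    rw [S13.eq_of_deg44 T ψ hψ])
  obtain ⟨g, hg⟩ := int_of_unique T.γ y (by
    intro ψ hψ k
    rw [T.degγ] at hψ
    rw [S13.eq_of_deg55 T ψ hψ])
  have hc' : (T.b.θ' : G → ℂ) y = (c : ℂ) := by rw [← T.b.regY y hreg11', hc]
  set b1 := (T.b.χ2 : G → ℂ) y with hb1
  set b2 := (T.b.χ3 : G → ℂ) y with hb2
  set b3 := (T.b.χ4 : G → ℂ) y with hb3
  set N := Nat.card (Subgroup.centralizer ({y} : Set G)) with hN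
  -- the relation from the prime 11
  have hsum : b1 + b2 + b3 = 1 - (c : ℂ) := by
    have h := T.b.rel y hreg11'
    rw [ha, hc] at h
    push_cast at h
    linear_combination -h
  -- the relation from the prime 5
  have R3 : 1 + 2 * c + d - f = 0 := by
    have h := T.rel5 y hreg5
    rw [hc, hc', hd, hf] at h
    have h' : ((1 + 2 * c + d - f : ℤ) : ℂ) = 0 := by
      push_cast
      linear_combination h
    exact_mod_cast h'
  -- degrees as values at 1
  have e0 : ∀ z : G, (principalChar G : G → ℂ) z = 1 := fun z => rfl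
  have e1 : (T.b.χ1 : G → ℂ) 1 = 45 := by
    rw [irr_one_eq_charDegree T.b.χ1.2, T.b.deg1]; norm_num
  have e2 : (T.b.χ2 : G → ℂ) 1 = 10 := by
    rw [irr_one_eq_charDegree T.b.χ2.2, T.b.deg2]; norm_num
  have e3 : (T.b.χ3 : G → ℂ) 1 = 10 := by
    rw [irr_one_eq_charDegree T.b.χ3.2, T.b.deg3]; norm_num
  have e4 : (T.b.χ4 : G → ℂ) 1 = 10 := by
    rw [irr_one_eq_charDegree T.b.χ4.2, T.b.deg4]; norm_num
  have e5 : (T.b.θ : G → ℂ) 1 = 16 := by
    rw [irr_one_eq_charDegree T.b.θ.2, T.b.degθ]; norm_num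
  have e6 : (T.b.θ' : G → ℂ) 1 = 16 := by
    rw [irr_one_eq_charDegree T.b.θ'.2, T.b.degθ']; norm_num
  have e7 : (T.α : G → ℂ) 1 = 11 := by
    rw [irr_one_eq_charDegree T.α.2, T.degα]; norm_num
  have e8 : (T.β : G → ℂ) 1 = 44 := by
    rw [irr_one_eq_charDegree T.β.2, T.degβ]; norm_num
  have e9 : (T.γ : G → ℂ) 1 = 55 := by
    rw [irr_one_eq_charDegree T.γ.2, T.degγ]; norm_num
  -- column orthogonality with the identity
  have R6 : g = -f := by
    have h := second_orthogonality' (G := G) y 1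
    rw [if_neg (by rw [isConj_one_right]; exact hy1), S13.sum_all T] at h
    simp only [e0, e1, e2, e3, e4, e5, e6, e7, e8, e9, ha, hc, hc', hd, hf, hg, map_one,
      map_ofNat] at h
    have h' : ((11 + 22 * c + 11 * d + 44 * f + 55 * g : ℤ) : ℂ) = 0 := by
      push_cast
      linear_combination h - 10 * hsum
    have h'' : 11 + 22 * c + 11 * d + 44 * f + 55 * g = 0 := by exact_mod_cast h'
    omega
  -- the norm equation
  have R5c : (1 : ℂ) + b1 * conj b1 + b2 * conj b2 + b3 * conj b3 + (c : ℂ) ^ 2 + (c : ℂ) ^ 2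
      + (d : ℂ) ^ 2 + (f : ℂ) ^ 2 + (g : ℂ) ^ 2 = (N : ℂ) := by
    have h := second_orthogonality' (G := G) y y
    rw [if_pos (IsConj.refl y), S13.sum_all T] at h
    simp only [e0, ha, hc, hc', hd, hf, hg, map_one, map_intCast, map_zero] at h
    rw [← h]
    ring
  set B : ℤ := (N : ℤ) - 1 - 2 * c ^ 2 - d ^ 2 - f ^ 2 - g ^ 2 with hBdef
  have hBr : Complex.normSq b1 + Complex.normSq b2 + Complex.normSq b3 = (B : ℝ) := by
    have h1 : ((Complex.normSq b1 + Complex.normSq b2 + Complex.normSq b3 : ℝ) : ℂ) = ((B : ℝ) : ℂ) := by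
      rw [hBdef]
      push_cast
      rw [← Complex.mul_conj, ← Complex.mul_conj, ← Complex.mul_conj]
      linear_combination R5c
    exact_mod_cast h1
  have hB0 : 0 ≤ B := by
    have : (0 : ℝ) ≤ (B : ℝ) := by
      rw [← hBr]
      exact add_nonneg (add_nonneg (Complex.normSq_nonneg _) (Complex.normSq_nonneg _))
        (Complex.normSq_nonneg _)
    exact_mod_cast this
  have hBcs : (1 - c) ^ 2 ≤ 3 * B := by
    have h1 := S13.cs3 b1 b2 b3
    rw [hsum, hBr] at h1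
    have h2 : Complex.normSq (1 - (c : ℂ)) = ((1 - c : ℤ) : ℝ) ^ 2 := by
      have : (1 - (c : ℂ)) = (((1 - c : ℤ) : ℝ) : ℂ) := by push_cast; ring
      rw [this, Complex.normSq_ofReal]; ring
    rw [h2] at h1
    exact_mod_cast h1
  have R5 : (N : ℤ) = 1 + B + 2 * c ^ 2 + d ^ 2 + f ^ 2 + g ^ 2 := by rw [hBdef]; ring
  -- congruences
  have hc3 : (3 : ℤ) ∣ c - 16 := by
    have := mod_three (isCharacter_of_isIrrCharacter T.b.θ.2) hy hc
    rw [T.b.degθ] at this
    exact_mod_cast this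
  have hd3 : (3 : ℤ) ∣ d - 11 := by
    have := mod_three (isCharacter_of_isIrrCharacter T.α.2) hy hd
    rw [T.degα] at this
    exact_mod_cast this
  -- central characters
  have hcI : (16 * (N : ℤ)) ∣ 7920 * c := by
    have := centralChar_dvd T.b.θ y hc
    rw [T.b.degθ, hG] at this
    exact_mod_cast this
  have hdI : (11 * (N : ℤ)) ∣ 7920 * d := by
    have := centralChar_dvd T.α y hd
    rw [T.degα, hG] at this
    exact_mod_cast this
  have hfI : (44 * (N : ℤ)) ∣ 7920 * f := by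
    have := centralChar_dvd T.β y hf
    rw [T.degβ, hG] at this
    exact_mod_cast this
  have hgI : (55 * (N : ℤ)) ∣ 7920 * g := by
    have := centralChar_dvd T.γ y hg
    rw [T.degγ, hG] at this
    exact_mod_cast this
  have hNmem := card_centralizer_ord3_mem hG h11 h5 hy
  have hN144 : (N : ℤ) ≤ 144 := by
    rcases hNmem with h | h | h | h | h <;> rw [← hN] at h <;> rw [h] <;> norm_num
  have hcb : |c| ≤ 16 := by
    rw [abs_le]; constructor <;> nlinarith [sq_nonneg d, sq_nonneg f, sq_nonneg g]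
  have hdb : |d| ≤ 11 := by
    rw [abs_le]; constructor <;> nlinarith [sq_nonneg c, sq_nonneg f, sq_nonneg g]
  obtain ⟨hN18, hcv, hdv, hfv, hgv, hBv⟩ :=
    num434 hNmem R3 R6 R5 hBcs hc3 hd3 hcI hdI hfI hgI hcb hdb
  have hb : b1 = 1 ∧ b2 = 1 ∧ b3 = 1 := by
    apply S13.all_one
    · rw [hsum, hcv]; norm_num
    · rw [hBr, hBv]; norm_num
  refine ⟨hN18, ha, hb.1, hb.2.1, hb.2.2, ?_, ?_, ?_, ?_, ?_⟩
  · rw [hc, hcv]; norm_num
  · rw [hc', hcv]; norm_num
  · rw [hd, hdv]; norm_num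
  · rw [hf, hfv]; norm_num
  · rw [hg, hgv]; norm_num

end Cfsg.Agent.Helper17.M11
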