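import Mathlib
import Cfsg.Prelude.Def_Blocks
import Cfsg.Agent.Lib.Helper17.M11Defs
import Cfsg.Agent.Lib.Helper17.M11Asm
import Cfsg.Agent.Lib.Helper17.M11S11
import Cfsg.Agent.Lib.Helper17.M11S13
import Cfsg.Agent.Lib.Helper15.M11S14
import Cfsg.Agent.Lib.Helper6.M11S16

/-!
# Simple groups of order 7920: involution centralizers and Sylow 3-normalizers (assembly, helper17)
-/

set_option autoImplicit false
set_option linter.unusedSectionVars false
set_option linter.unusedVariables false

namespace Cfsg.Agent.Helper17.M11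

open Cfsg Cfsg.Agent.Helper24

universe u

variable {G : Type u} [Group G] [Fintype G]

/-- Every involution of a simple group of order `7920` has a centralizer of order `48`. -/
theorem card_centralizer_invol_main (hs : IsSimpleGroup G) (hG : Nat.card G = 7920) {t : G}
    (ht : orderOf t = 2) : Nat.card (Subgroup.centralizer ({t} : Set G)) = 48 := by
  obtain ⟨P⟩ : Nonempty (Sylow 11 G) := inferInstance
  obtain ⟨Q⟩ : Nonempty (Sylow 5 G) := inferInstance
  obtain ⟨hP, hC, hw⟩ := syl11 hs hG P
  obtain ⟨hQ, hCQ, hwQ⟩ := syl5_all hs hG Q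
  obtain ⟨T⟩ := main_ct hs hG P Q
  exact card_centralizer_invol hs hG P hP hC hw Q hQ hCQ T ht

/-- The normalizer of a Sylow `3`-subgroup of a simple group of order `7920` has order `144`. -/
theorem card_normalizer_syl3_main (hs : IsSimpleGroup G) (hG : Nat.card G = 7920) (S : Sylow 3 G) :
    Nat.card (Subgroup.normalizer ((S : Subgroup G) : Set G)) = 144 := by
  classical
  obtain ⟨P⟩ : Nonempty (Sylow 11 G) := inferInstance
  obtain ⟨Q⟩ : Nonempty (Sylow 5 G) := inferInstance
  obtain ⟨T⟩ := main_ct hs hG P Q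
  have h11 : ∀ P' : Sylow 11 G,
      Subgroup.centralizer ((P' : Subgroup G) : Set G) = (P' : Subgroup G) :=
    fun P' => (syl11 hs hG P').2.1
  have h5 : ∀ Q' : Sylow 5 G,
      Subgroup.centralizer ((Q' : Subgroup G) : Set G) = (Q' : Subgroup G) :=
    fun Q' => (syl5_all hs hG Q').2.1
  have hv := fun (y : G) (hy : orderOf y = 3) => ord3_values hG h11 h5 T hy
  have h18 : ∀ y : G, orderOf y = 3 → Nat.card (Subgroup.centralizer ({y} : Set G)) = 18 :=
    fun y hy => (hv y hy).1
  have h3 : ∀ y y' : G, orderOf y = 3 → orderOf y' = 3 → IsConj y y' := by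
    intro y y' hy hy'
    letI : Fintype (IrrCharacter G) := irrFintype
    apply isConj_of_values_eq
    intro χ
    obtain ⟨-, a1, a2, a3, a4, a5, a6, a7, a8, a9⟩ := hv y hy
    obtain ⟨-, b1, b2, b3, b4, b5, b6, b7, b8, b9⟩ := hv y' hy'
    rcases S13.all_cases T χ with h | h | h | h | h | h | h | h | h | h
    · rw [h]; rfl
    · rw [h, a1, b1]
    · rw [h, a2, b2]
    · rw [h, a3, b3]
    · rw [h, a4, b4]
    · rw [h, a5, b5]
    · rw [h, a6, b6]
    · rw [h, a7, b7]
    · rw [h, a8, b8]
    · rw [h, a9, b9]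
  have h48 : ∀ t : G, orderOf t = 2 → Nat.card (Subgroup.centralizer ({t} : Set G)) = 48 :=
    fun t ht => card_centralizer_invol_main hs hG ht
  exact card_normalizer_syl3 hG h3 h18 h48 S

end Cfsg.Agent.Helper17.M11
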