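import Mathlib
import Cfsg.Agent.Lib.Helper21.KPi

/-!
# S2479 piece SLK-LOW2: `k(GL_n(q)) ≤ (q - 1) k(SL_n(q))`
-/

namespace Cfsg.Agent.Helper17.SLk

universe u

theorem low2_kpi_univ_eq (X : Type*) [Group X] :
    Cfsg.Agent.Helper21.KPi.kpi (Set.univ : Set ℕ) X = Nat.card (ConjClasses X) := by
  unfold Cfsg.Agent.Helper21.KPi.kpi
  apply Nat.card_congr
  refine (Equiv.subtypeUnivEquiv ?_)
  intro C q _ _
  exact Set.mem_univ q

theorem low2_card_conjClasses_le (X : Type*) [Group X] [Finite X] :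
    Nat.card (ConjClasses X) ≤ Nat.card X :=
  Nat.card_le_card_of_surjective (ConjClasses.mk : X → ConjClasses X) ConjClasses.mk_surjective

/-- PIECE SLK-LOW2 -/
theorem card_GL_le_mul {F : Type u} [Field F] [Fintype F] (n : ℕ) (hn : 1 ≤ n) :
    Nat.card (ConjClasses (Matrix.GeneralLinearGroup (Fin n) F)) ≤
      (Fintype.card F - 1) * Nat.card (ConjClasses
        (Matrix.GeneralLinearGroup.det : Matrix.GeneralLinearGroup (Fin n) F →* Fˣ).ker) := by
  classical
  set φ : Matrix.GeneralLinearGroup (Fin n) F →* Fˣ := Matrix.GeneralLinearGroup.det with hφ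
  have h := Cfsg.Agent.Helper21.KPi.kpi_le (G := Matrix.GeneralLinearGroup (Fin n) F) φ.ker
    (Set.univ : Set ℕ)
  rw [low2_kpi_univ_eq, low2_kpi_univ_eq, low2_kpi_univ_eq] at h
  have h2 : Nat.card (ConjClasses (Matrix.GeneralLinearGroup (Fin n) F ⧸ φ.ker))
      ≤ Fintype.card F - 1 := by
    refine le_trans (low2_card_conjClasses_le _) ?_
    rw [Nat.card_congr (QuotientGroup.quotientKerEquivRange φ).toEquiv]
    refine le_trans (Nat.card_le_card_of_injective (Subtype.val : φ.range → Fˣ)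
      Subtype.val_injective) ?_
    rw [Nat.card_eq_fintype_card, Fintype.card_units]
  calc Nat.card (ConjClasses (Matrix.GeneralLinearGroup (Fin n) F))
      ≤ Nat.card (ConjClasses φ.ker) *
          Nat.card (ConjClasses (Matrix.GeneralLinearGroup (Fin n) F ⧸ φ.ker)) := h
    _ ≤ Nat.card (ConjClasses φ.ker) * (Fintype.card F - 1) := Nat.mul_le_mul_left _ h2
    _ = (Fintype.card F - 1) * Nat.card (ConjClasses φ.ker) := Nat.mul_comm _ _

end Cfsg.Agent.Helper17.SLk
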