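import Mathlib
import Cfsg.Agent.Lib.Helper17.SLkDefs

/-!
# S2479 piece SLK-NUMA: regrouping `KK q n` by `e = lcm d d'`
-/

namespace Cfsg.Agent.Helper17.SLk

open Cfsg.Agent.Helper17.GLk

/-- pairs of divisors of `e` other than `(1,1)` have totient weight `e^2 - 1`. -/
theorem numa_pairs (e : ℕ) (he : 1 ≤ e) :
    ∑ x ∈ (e.divisors ×ˢ e.divisors).erase (1, 1), Nat.totient x.1 * Nat.totient x.2 = e ^ 2 - 1 := by
  have h1 : ∑ x ∈ e.divisors ×ˢ e.divisors, Nat.totient x.1 * Nat.totient x.2 = e ^ 2 := by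
    rw [Finset.sum_product]
    simp_rw [← Finset.mul_sum, ← Finset.sum_mul, Nat.sum_totient]
    ring
  have hmem : ((1 : ℕ), (1 : ℕ)) ∈ e.divisors ×ˢ e.divisors := by
    simp only [Finset.mem_product, Nat.mem_divisors, one_dvd, true_and]
    omega
  have h2 := Finset.add_sum_erase (e.divisors ×ˢ e.divisors)
    (fun x : ℕ × ℕ => Nat.totient x.1 * Nat.totient x.2) hmem
  simp only [Nat.totient_one, mul_one] at h2
  omega

/-- PIECE SLK-NUMA -/
theorem KK_le (q n : ℕ) (hq : 2 ≤ q) (hn : 1 ≤ n) :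
    KK q n ≤ D q n 1 n +
      ∑ e ∈ (Nat.gcd (q - 1) n).divisors.filter (fun e => 2 ≤ e),
        (e ^ 2 - 1) * D q (n / e) 1 (n / e) := by
  classical
  set N := q - 1 with hN
  have hN1 : 1 ≤ N := by omega
  set g := Nat.gcd N n with hg
  have hg1 : 1 ≤ g := Nat.gcd_pos_of_pos_left _ (by omega)
  set c : ℕ → ℕ := fun m => D q m 1 m with hc
  -- rewrite `KK` as a sum over pairs
  set P := N.divisors ×ˢ N.divisors with hP
  have hKK : KK q n = ∑ x ∈ P.filter (fun x => Nat.lcm x.1 x.2 ∣ n),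
      Nat.totient x.1 * Nat.totient x.2 * c (n / Nat.lcm x.1 x.2) := by
    unfold KK
    rw [Finset.sum_filter, hP, Finset.sum_product]
  rw [hKK]
  -- fibre over `e = lcm`
  have hmaps : ∀ x ∈ P.filter (fun x => Nat.lcm x.1 x.2 ∣ n), Nat.lcm x.1 x.2 ∈ g.divisors := by
    intro x hx
    rw [Finset.mem_filter, hP, Finset.mem_product, Nat.mem_divisors, Nat.mem_divisors] at hx
    rw [Nat.mem_divisors]
    refine ⟨Nat.dvd_gcd (Nat.lcm_dvd hx.1.1.1 hx.1.2.1) hx.2, by omega⟩
  rw [← Finset.sum_fiberwise_of_maps_to hmaps]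
  -- split off `e = 1`
  have hsplit : g.divisors = insert 1 (g.divisors.filter (fun e => 2 ≤ e)) := by
    ext e
    simp only [Finset.mem_insert, Finset.mem_filter, Nat.mem_divisors]
    constructor
    · rintro ⟨h1, h2⟩
      have : 1 ≤ e := Nat.pos_of_dvd_of_pos h1 (by omega)
      by_cases he : e = 1
      · exact Or.inl he
      · exact Or.inr ⟨⟨h1, h2⟩, by omega⟩
    · rintro (rfl | ⟨h, -⟩)
      · exact ⟨one_dvd _, by omega⟩
      · exact h
  have hnot : (1 : ℕ) ∉ g.divisors.filter (fun e => 2 ≤ e) := by simp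
  have hLHS : ∀ f : ℕ → ℕ, ∑ e ∈ g.divisors, f e
      = f 1 + ∑ e ∈ g.divisors.filter (fun e => 2 ≤ e), f e := by
    intro f
    have := Finset.sum_insert (f := f) hnot
    rw [← hsplit] at this
    exact this
  rw [hLHS]
  apply add_le_add
  · -- the fibre over 1 is `{(1,1)}`
    have : (P.filter (fun x => Nat.lcm x.1 x.2 ∣ n)).filter (fun x => Nat.lcm x.1 x.2 = 1)
        ⊆ {((1 : ℕ), (1 : ℕ))} := by
      intro x hx
      rw [Finset.mem_filter] at hx
      have h1 := hx.2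
      have hx1 : x.1 = 1 := Nat.dvd_one.mp (h1 ▸ Nat.dvd_lcm_left x.1 x.2)
      have hx2 : x.2 = 1 := Nat.dvd_one.mp (h1 ▸ Nat.dvd_lcm_right x.1 x.2)
      rw [Finset.mem_singleton]
      exact Prod.ext hx1 hx2
    refine le_trans (Finset.sum_le_sum_of_subset this) ?_
    simp [hc]
  · apply Finset.sum_le_sum
    intro e he
    rw [Finset.mem_filter, Nat.mem_divisors] at he
    have he1 : 1 ≤ e := by omega
    -- all terms have `lcm = e`
    have hterm : ∀ x ∈ (P.filter (fun x => Nat.lcm x.1 x.2 ∣ n)).filter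
        (fun x => Nat.lcm x.1 x.2 = e),
        Nat.totient x.1 * Nat.totient x.2 * c (n / Nat.lcm x.1 x.2)
          = Nat.totient x.1 * Nat.totient x.2 * c (n / e) := by
      intro x hx
      rw [Finset.mem_filter] at hx
      rw [hx.2]
    rw [Finset.sum_congr rfl hterm, ← Finset.sum_mul]
    apply Nat.mul_le_mul_right
    have hsub : (P.filter (fun x => Nat.lcm x.1 x.2 ∣ n)).filter (fun x => Nat.lcm x.1 x.2 = e)
        ⊆ (e.divisors ×ˢ e.divisors).erase (1, 1) := by
      intro x hx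
      rw [Finset.mem_filter] at hx
      have h1 := hx.2
      rw [Finset.mem_erase, Finset.mem_product, Nat.mem_divisors, Nat.mem_divisors]
      refine ⟨?_, ⟨h1 ▸ Nat.dvd_lcm_left x.1 x.2, by omega⟩, ⟨h1 ▸ Nat.dvd_lcm_right x.1 x.2, by omega⟩⟩
      intro hx11
      rw [hx11] at h1
      simp at h1
      omega
    exact le_trans (Finset.sum_le_sum_of_subset hsub) (le_of_eq (numa_pairs e he1))

end Cfsg.Agent.Helper17.SLk
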