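import Mathlib
import Cfsg.Agent.Lib.Helper17.SLkDefs

/-!
# S2479 piece SLK-NUMB: small values of `D` and the sharp bound `D q n 1 n + 1 ≤ q^n`
-/

namespace Cfsg.Agent.Helper17.SLk

open Cfsg.Agent.Helper17.GLk

theorem D_one (q : ℕ) (hq : 1 ≤ q) : D q 1 1 1 = q - 1 := by
  simp [D, Nw, Finset.sum_range_succ]

theorem D_two (q : ℕ) (hq : 1 ≤ q) : D q 2 1 2 = q ^ 2 - 1 := by
  have h1 : q ≤ q ^ 2 := by nlinarith
  simp [D, Nw, Finset.sum_range_succ]
  omega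

theorem D_three (q : ℕ) (hq : 1 ≤ q) : D q 3 1 3 = q ^ 3 - q := by
  have h1 : q ≤ q ^ 2 := by nlinarith
  have h2 : q ^ 2 ≤ q ^ 3 := by nlinarith [pow_pos (show 0 < q by omega) 2]
  simp [D, Nw, Finset.sum_range_succ]
  zify [h1, h2, hq, le_trans h1 h2]
  ring

theorem D_succ_le (q n : ℕ) (hq : 1 ≤ q) (hn : 1 ≤ n) : D q n 1 n + 1 ≤ q ^ n := by
  have h1 : Dz q n 1 n ≤ Ez q n n := by
    unfold Ez
    have := Finset.single_le_sum (f := fun J : ℕ => Dz q (n - J) (J + 1) ((n : ℤ) - J))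
      (s := Finset.range n) (fun J _ => Dz_nonneg _ _ _ _) (Finset.mem_range.mpr (by omega : 0 < n))
    simpa using this
  rw [Ez_eq q n hq hn] at h1
  unfold Dz at h1
  rw [if_pos (by omega)] at h1
  simp only [Int.toNat_natCast] at h1
  have : ((D q n 1 n + 1 : ℕ) : ℤ) ≤ ((q ^ n : ℕ) : ℤ) := by push_cast; linarith
  exact_mod_cast this

end Cfsg.Agent.Helper17.SLk
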