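import Mathlib
import Cfsg.Agent.Lib.Helper17.SLkDefs
import Cfsg.Agent.Lib.Helper22.SLkDETPI
import Cfsg.Agent.Lib.Helper13.SLkDETX
import Cfsg.Agent.Lib.Helper1.SLkUCONST
import Cfsg.Agent.Lib.Helper11.SLkNORM2
import Cfsg.Agent.Lib.Helper12.SLkDET
import Cfsg.Agent.Lib.Helper24.SLkCENT
import Cfsg.Agent.Lib.Helper12.SLkDETT
import Cfsg.Agent.Lib.Helper24.SLkBEZ
import Cfsg.Agent.Lib.Helper4.SLkGRP
import Cfsg.Agent.Lib.Helper21.SLkSLGL
import Cfsg.Agent.Lib.Helper1.SLkSC1
import Cfsg.Agent.Lib.Helper13.SLkSC2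
import Cfsg.Agent.Lib.Helper11.SLkFIBR
import Cfsg.Agent.Lib.Helper25.SLkLOW1
import Cfsg.Agent.Lib.Helper17.SLkNUMA
import Cfsg.Agent.Lib.Helper17.SLkNUMB
import Cfsg.Agent.Lib.Helper17.SLkLOW2
import Cfsg.Agent.Lib.Helper19.SLkAVG
import Cfsg.Agent.Lib.Helper19.SLkDIV
import Cfsg.Agent.Lib.Helper1.SLkNUMC
import Cfsg.Agent.Lib.Helper9.SLkSQ
import Cfsg.Agent.Lib.Helper21.SLkFIBC
import Cfsg.Agent.Lib.Helper21.SLkFIBD
import Cfsg.Agent.Lib.Helper2.SLkNORM1
import Cfsg.Agent.Lib.Helper17.SLkSUPP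

/-!
# S2479: `q^(n-1) < k(SL_n(q)) ≤ 5/2 q^(n-1)`, and `≤ q^(n-1) + 3 q^(n-2)` for `n ≥ 3`.

Assembly of the 25 pieces SLK-* (see `plans/S2479_plan.md`).
-/

open Polynomial

namespace Cfsg.Agent.Helper17.SLk

open Cfsg.Agent.Helper17.GLk

universe u

section asm1
variable {F : Type u} [Field F]

/-- decomposition data of an invertible matrix: dimension identity -/
theorem dd_dim {n : ℕ} (A : Matrix.GeneralLinearGroup (Fin n) F) :
    let d := decompData (endOf A)
    @Finset.sum _ _ _ (@Finset.univ _ d.inst) (fun i => d.e i * (d.p i).natDegree) = n := by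
  intro d
  let _ := d.inst
  rw [decomp_dim (endOf A) d.h]; simp

theorem det_typeTuple {n : ℕ} (A : Matrix.GeneralLinearGroup (Fin n) F) :
    detT (typeTuple A) = (A : Matrix (Fin n) (Fin n) F).det := by
  let d := decompData (endOf A)
  let _ := d.inst
  have h1 := det_of_decomp det_piMap det_mulQ_X uconst_normalize_pow A d.h
  have h2 := detT_tuple uconst_mul uconst_one n d.h.1 d.h.2.1 (dd_dim A)
  rw [h1]
  exact h2

theorem gam_typeTuple {n : ℕ} (A : Matrix.GeneralLinearGroup (Fin n) F) :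
    gam (typeTuple A) =
      @Finset.gcd _ _ _ _ (@Finset.univ _ (decompData (endOf A)).inst) (decompData (endOf A)).e := by
  let d := decompData (endOf A)
  let _ := d.inst
  exact gam_tuple n d.h.1 d.h.2.1 (dd_dim A)

/-- every `gam`-th power is the determinant of an element of the centralizer -/
theorem exists_centralizer_pow [Fintype F] {n : ℕ} (A : Matrix.GeneralLinearGroup (Fin n) F)
    (x : Fˣ) :
    ∃ z : Matrix.GeneralLinearGroup (Fin n) F, z * A = A * z ∧
      Matrix.GeneralLinearGroup.det z = x ^ gam (typeTuple A) := by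
  classical
  let d := decompData (endOf A)
  let _ := d.inst
  -- the subgroup of determinants of centralizer elements
  let Dsub : Subgroup Fˣ :=
    (Subgroup.centralizer ({A} : Set (Matrix.GeneralLinearGroup (Fin n) F))).map
      Matrix.GeneralLinearGroup.det
  have hmem : ∀ i ∈ (Finset.univ : Finset d.ι), ∀ c : Fˣ, c ^ d.e i ∈ Dsub := by
    intro i _ c
    obtain ⟨r, hr⟩ := exists_det_mulQ_eq (d.p i) (d.h.1 i) (c : F)
    have hdet : LinearMap.det (mulQ (d.p i ^ d.e i) r) = (c : F) ^ d.e i := by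
      rw [det_mulQ_pow (d.p i) r (d.h.1 i).ne_zero, hr]
    have hne : LinearMap.det (mulQ (d.p i ^ d.e i) r) ≠ 0 := by
      rw [hdet]; exact pow_ne_zero _ c.ne_zero
    obtain ⟨z, hz1, hz2⟩ := exists_centralizer_det det_piMap A d.h i r hne
    refine ⟨z, ?_, ?_⟩
    · rw [SetLike.mem_coe, Subgroup.mem_centralizer_iff]
      intro y hy
      rw [Set.mem_singleton_iff] at hy
      rw [hy]; exact hz1.symm
    · apply Units.ext
      rw [Matrix.GeneralLinearGroup.val_det_apply, hz2, hdet]
      simp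
  have := pow_gcd_mem Dsub Finset.univ d.e hmem x
  rw [← gam_typeTuple A] at this
  obtain ⟨z, hz, hz'⟩ := this
  refine ⟨z, ?_, hz'⟩
  rw [SetLike.mem_coe, Subgroup.mem_centralizer_iff] at hz
  exact (hz A rfl).symm

open Classical in
/-- **Upper bound, first form.** -/
theorem card_SL_le_sum [Fintype F] (n : ℕ) (T : Finset (Fin n → F[X]))
    (hT : ∀ f, f ∈ T ↔ f ∈ Tup F n 1 n) :
    Nat.card (ConjClasses (Matrix.SpecialLinearGroup (Fin n) F)) ≤
      ∑ f ∈ T.filter (fun f => detT f = 1), Nat.gcd (Fintype.card F - 1) (gam f) := by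
  classical
  rw [card_classes_SL_eq]
  let tt : ConjClasses (Matrix.GeneralLinearGroup (Fin n) F) → (Fin n → F[X]) :=
    fun c => typeTuple (Quotient.out c)
  have htt : Function.Injective tt := by
    intro c c' hcc
    have h2 := isConj_of_typeTuple_eq _ _ hcc
    have h3 : ConjClasses.mk (Quotient.out c) = ConjClasses.mk (Quotient.out c') :=
      ConjClasses.mk_eq_mk_iff_isConj.mpr h2
    have e1 : ConjClasses.mk (Quotient.out c) = c := Quotient.out_eq c
    have e2 : ConjClasses.mk (Quotient.out c') = c' := Quotient.out_eq c'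
    rw [← e1, ← e2, h3]
  let Γ : (Fin n → F[X]) → Subgroup Fˣ := fun f => (powMonoidHom (gam f) : Fˣ →* Fˣ).range
  have hΓ : ∀ c : ConjClasses (Matrix.GeneralLinearGroup (Fin n) F), ∀ d ∈ Γ (tt c),
      ∃ z : Matrix.GeneralLinearGroup (Fin n) F,
        z * Quotient.out c = Quotient.out c * z ∧ Matrix.GeneralLinearGroup.det z = d := by
    intro c d hd
    obtain ⟨x, rfl⟩ := hd
    exact exists_centralizer_pow (Quotient.out c) x
  have hs : ∀ r : Matrix.GeneralLinearGroup (Fin n) F, Matrix.GeneralLinearGroup.det r = 1 →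
      tt (ConjClasses.mk r) ∈ T.filter (fun f => detT f = 1) := by
    intro r hr
    rw [Finset.mem_filter, hT]
    refine ⟨typeTuple_mem _, ?_⟩
    rw [det_typeTuple]
    have hconj : IsConj (Quotient.out (ConjClasses.mk r)) r :=
      ConjClasses.mk_eq_mk_iff_isConj.mp (Quotient.out_eq (ConjClasses.mk r))
    obtain ⟨w, hw⟩ := isConj_iff.mp hconj
    have h1 : Matrix.GeneralLinearGroup.det (Quotient.out (ConjClasses.mk r)) = 1 := by
      have := congrArg Matrix.GeneralLinearGroup.det hw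
      rw [map_mul, map_mul, map_inv, mul_comm, ← mul_assoc, inv_mul_cancel, one_mul, hr] at this
      exact this
    have := congrArg Units.val h1
    simpa using this
  have key := card_classes_ker_le
    (Matrix.GeneralLinearGroup.det : Matrix.GeneralLinearGroup (Fin n) F →* Fˣ) tt htt Γ hΓ
    (T.filter (fun f => detT f = 1)) hs
  refine le_trans key (le_of_eq ?_)
  apply Finset.sum_congr rfl
  intro f _
  have := IsCyclic.index_powMonoidHom_range Fˣ (gam f)
  rw [Nat.card_eq_fintype_card, Fintype.card_units] at this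
  exact this

end asm1

end Cfsg.Agent.Helper17.SLk

namespace Cfsg.Agent.Helper17.SLk

open Cfsg.Agent.Helper17.GLk

universe u

section final
variable {F : Type u} [Field F]

theorem KK_le_three (q n : ℕ) (hq : 2 ≤ q) (hn : 3 ≤ n) :
    KK q n ≤ (q - 1) * (q ^ (n - 1) + 3 * q ^ (n - 2)) :=
  le_trans (KK_le q n hq (by omega))
    (num_three q n hq hn (fun m => D q m 1 m) (D_one q (by omega)) (D_two q (by omega))
      (D_three q (by omega)) (fun m hm => D_succ_le q m (by omega) hm))

theorem KK_le_two (q : ℕ) (hq : 2 ≤ q) : 2 * KK q 2 ≤ 5 * ((q - 1) * q) :=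
  le_trans (Nat.mul_le_mul_left 2 (KK_le q 2 hq (by omega)))
    (num_two q hq (fun m => D q m 1 m) (D_one q (by omega)) (D_two q (by omega)))

/-- `(q-1) k(SL_n(q)) ≤ KK q n`. -/
theorem card_SL_mul_le [Fintype F] (n : ℕ) (hn : 1 ≤ n) :
    (Fintype.card F - 1) * Nat.card (ConjClasses (Matrix.SpecialLinearGroup (Fin n) F)) ≤
      KK (Fintype.card F) n := by
  classical
  obtain ⟨hfin, -⟩ := Tup_finite_ncard_le (F := F) n 1 n le_rfl
  let T : Finset (Fin n → F[X]) := hfin.toFinset
  have hT : ∀ f, f ∈ T ↔ f ∈ Tup F n 1 n := fun f => Set.Finite.mem_toFinset hfin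
  have h1 := card_SL_le_sum n T hT
  have h2 := avg_sum n T hT scT_mem scT_scT scT_one gam_scT detT_scT
    (fun f hf => card_fiber f (chiT_mul f) (chiT_range pow_gcd_mem f) (detT_eq_pow f hf))
  have h3 := sum_sq_le n hn T hT (fun e he => ncard_dvd_gam_le n e hn he)
  calc (Fintype.card F - 1) * Nat.card (ConjClasses (Matrix.SpecialLinearGroup (Fin n) F))
      ≤ (Fintype.card F - 1) * ∑ f ∈ T.filter (fun f => detT f = 1),
          Nat.gcd (Fintype.card F - 1) (gam f) := Nat.mul_le_mul_left _ h1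
    _ = ∑ f ∈ T, Nat.gcd (Fintype.card F - 1) (gam f) ^ 2 := h2
    _ ≤ KK (Fintype.card F) n := h3

theorem main [Fintype F] (n : ℕ) (hn : 2 ≤ n) :
    Fintype.card F ^ (n - 1) < Nat.card (ConjClasses (Matrix.SpecialLinearGroup (Fin n) F)) ∧
      2 * Nat.card (ConjClasses (Matrix.SpecialLinearGroup (Fin n) F)) ≤
        5 * Fintype.card F ^ (n - 1) ∧
      (3 ≤ n → Nat.card (ConjClasses (Matrix.SpecialLinearGroup (Fin n) F)) ≤
        Fintype.card F ^ (n - 1) + 3 * Fintype.card F ^ (n - 2)) := by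
  have hq : 2 ≤ Fintype.card F := Fintype.one_lt_card
  set q := Fintype.card F with hqdef
  set k := Nat.card (ConjClasses (Matrix.SpecialLinearGroup (Fin n) F)) with hk
  have hq1 : 0 < q - 1 := by omega
  have hup := card_SL_mul_le (F := F) n (by omega)
  have hthree : 3 ≤ n → k ≤ q ^ (n - 1) + 3 * q ^ (n - 2) := by
    intro h3
    have := le_trans hup (KK_le_three q n hq h3)
    exact Nat.le_of_mul_le_mul_left this hq1
  refine ⟨?_, ?_, hthree⟩
  · -- lower bound
    have h1 := card_GL_ge (F := F) n hn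
    have h2 := card_GL_le_mul (F := F) n (by omega)
    rw [← card_classes_SL_eq] at h2
    have h3 : q ^ n - q ^ (n - 1) + 1 ≤ (q - 1) * k := le_trans h1 h2
    have h4 : q ^ n = q * q ^ (n - 1) := by
      conv_lhs => rw [show n = (n - 1) + 1 by omega]
      rw [pow_succ]; ring
    have h5 : q ^ n - q ^ (n - 1) = (q - 1) * q ^ (n - 1) := by
      rw [h4, Nat.sub_mul, one_mul]
    rw [h5] at h3
    by_contra hlt
    have hlt := not_lt.mp hlt
    have := Nat.mul_le_mul_left (q - 1) hlt
    omega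
  · -- 5/2 bound
    rcases Nat.lt_or_ge n 3 with h | h
    · have hn2 : n = 2 := by omega
      subst hn2
      have := le_trans (Nat.mul_le_mul_left 2 hup) (KK_le_two q hq)
      have h' : (q - 1) * (2 * k) ≤ (q - 1) * (5 * q) := by
        calc (q - 1) * (2 * k) = 2 * ((q - 1) * k) := by ring
          _ ≤ 5 * ((q - 1) * q) := this
          _ = (q - 1) * (5 * q) := by ring
      have := Nat.le_of_mul_le_mul_left h' hq1
      simpa using this
    · have h3 := hthree h
      have h6 : q ^ (n - 1) = q * q ^ (n - 2) := by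
        conv_lhs => rw [show n - 1 = (n - 2) + 1 by omega]
        rw [pow_succ]; ring
      have h7 : 2 * q ^ (n - 2) ≤ q ^ (n - 1) := by
        rw [h6]; exact Nat.mul_le_mul_right _ hq
      calc 2 * k ≤ 2 * (q ^ (n - 1) + 3 * q ^ (n - 2)) := Nat.mul_le_mul_left 2 h3
        _ = 2 * q ^ (n - 1) + 3 * (2 * q ^ (n - 2)) := by ring
        _ ≤ 2 * q ^ (n - 1) + 3 * q ^ (n - 1) := by omega
        _ = 5 * q ^ (n - 1) := by ring

end final

end Cfsg.Agent.Helper17.SLk
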