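import Mathlib

set_option autoImplicit false

namespace Cfsg.Agent.Helper17

/-- In a finite group with a normal subgroup `V` of exponent dividing a prime `p`, the order of an
element is `k` or `k * p` where `k` is the order of its image in `G ⧸ V`. -/
theorem orderOf_eq_or_of_exp {G : Type*} [Group G] [Finite G] (V : Subgroup G) [V.Normal] (p : ℕ)
    (hp : p.Prime) (hexp : ∀ x ∈ V, x ^ p = 1) (a : G) :
    orderOf a = orderOf (a : G ⧸ V) ∨ orderOf a = orderOf (a : G ⧸ V) * p := by
  set k := orderOf (a : G ⧸ V) with hk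
  have hkpos : 0 < k := orderOf_pos _
  have h1 : k ∣ orderOf a := by
    have := orderOf_map_dvd (QuotientGroup.mk' V) a
    simpa using this
  have h2 : orderOf a ∣ k * p := by
    apply orderOf_dvd_of_pow_eq_one
    rw [pow_mul]
    apply hexp
    have : ((a ^ k : G) : G ⧸ V) = 1 := by
      rw [QuotientGroup.mk_pow, hk, pow_orderOf_eq_one]
    exact (QuotientGroup.eq_one_iff _).1 this
  obtain ⟨d, hd⟩ := h1
  rw [hd] at h2 ⊢
  have h3 : d ∣ p := Nat.dvd_of_mul_dvd_mul_left hkpos h2
  rcases (Nat.dvd_prime hp).1 h3 with rfl | rfl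
  · left; simp
  · right; rfl

theorem lcm_orderOf_of_same_coset {G : Type*} [Group G] [Finite G] (V : Subgroup G) [V.Normal] (p : ℕ)
    (hp : p.Prime) (hexp : ∀ x ∈ V, x ^ p = 1) (a b : G) (hab : (a : G ⧸ V) = (b : G ⧸ V)) :
    Nat.lcm (orderOf a) (orderOf b) = orderOf a ∨ Nat.lcm (orderOf a) (orderOf b) = orderOf b := by
  rcases orderOf_eq_or_of_exp V p hp hexp a with ha | ha <;>
    rcases orderOf_eq_or_of_exp V p hp hexp b with hb | hb <;> rw [ha, hb, hab]
  · left; exact Nat.lcm_self _
  · right; exact Nat.lcm_eq_right (Dvd.intro _ rfl)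
  · left; exact Nat.lcm_eq_left (Dvd.intro _ rfl)
  · left; exact Nat.lcm_self _

/-- the multiplication map `V ⋊ G → G`. -/
def sdMul {G : Type*} [Group G] (V : Subgroup G) [V.Normal] : V ⋊[MulAut.conjNormal] G →* G :=
  SemidirectProduct.lift V.subtype (MonoidHom.id G) (by
    intro g
    ext v
    simp [MulAut.conjNormal_apply])

theorem sdMul_apply {G : Type*} [Group G] (V : Subgroup G) [V.Normal] (x : V ⋊[MulAut.conjNormal] G) :
    sdMul V x = (x.left : G) * x.right := rfl

theorem sd_orderOf {G : Type*} [Group G] (V : Subgroup G) [V.Normal] (x : V ⋊[MulAut.conjNormal] G) :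
    orderOf x = Nat.lcm (orderOf ((x.left : G) * x.right)) (orderOf x.right) := by
  have hinj : Function.Injective ((sdMul V).prod SemidirectProduct.rightHom) := by
    rw [injective_iff_map_eq_one]
    intro y hy
    rw [MonoidHom.prod_apply, Prod.mk_eq_one, sdMul_apply, SemidirectProduct.rightHom_eq_right] at hy
    obtain ⟨h1, h2⟩ := hy
    rw [h2, mul_one] at h1
    ext
    · simpa using h1
    · simpa using h2
  rw [← orderOf_injective _ hinj x, MonoidHom.prod_apply, Prod.orderOf_mk, sdMul_apply,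
    SemidirectProduct.rightHom_eq_right]

theorem sd_spectrum {G : Type*} [Group G] [Finite G] (V : Subgroup G) [V.Normal] (p : ℕ) (hp : p.Prime)
    (hexp : ∀ x ∈ V, x ^ p = 1) :
    Set.range (orderOf : V ⋊[MulAut.conjNormal] G → ℕ) = Set.range (orderOf : G → ℕ) := by
  ext n
  simp only [Set.mem_range]
  constructor
  · rintro ⟨x, rfl⟩
    rw [sd_orderOf]
    have hab : (((x.left : G) * x.right : G) : G ⧸ V) = ((x.right : G) : G ⧸ V) := by
      rw [QuotientGroup.mk_mul]
      have : ((x.left : G) : G ⧸ V) = 1 := (QuotientGroup.eq_one_iff _).2 x.left.2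
      rw [this, one_mul]
    rcases lcm_orderOf_of_same_coset V p hp hexp _ _ hab with h | h
    · exact ⟨_, h.symm⟩
    · exact ⟨_, h.symm⟩
  · rintro ⟨g, rfl⟩
    exact ⟨SemidirectProduct.inr g, orderOf_injective _ SemidirectProduct.inr_injective g⟩

end Cfsg.Agent.Helper17
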