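import Mathlib
import Cfsg.Agent.Lib.Helper17.SemidirectSpectrum

set_option autoImplicit false

namespace Cfsg.Agent.Helper17

open scoped commutatorElement

universe u

theorem commutator_lt_of_solvable_subgroup {G : Type*} [Group G] (A : Subgroup G) [Group.IsSolvable A]
    (hA : A ≠ ⊥) : ⁅A, A⁆ < A := by
  rw [← Subgroup.nontrivial_iff_ne_bot] at hA
  have h := Group.IsSolvable.commutator_lt_top_of_nontrivial A
  have h2 : (commutator A).map A.subtype < (⊤ : Subgroup A).map A.subtype :=
    (Subgroup.map_subtype_lt_map_subtype).2 h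
  rw [Subgroup.map_subtype_commutator, ← MonoidHom.range_eq_map, A.range_subtype] at h2
  exact h2

/-- A finite group with a nontrivial solvable normal subgroup has a nontrivial normal subgroup of
prime exponent. -/
theorem exists_normal_prime_exponent {G : Type*} [Group G] [Finite G] (K : Subgroup G) [K.Normal]
    (hK : K ≠ ⊥) (hs : Group.IsSolvable K) :
    ∃ (V : Subgroup G) (p : ℕ), V.Normal ∧ V ≠ ⊥ ∧ p.Prime ∧ ∀ x ∈ V, x ^ p = 1 := by
  -- minimal normal subgroup inside K
  obtain ⟨A, hAP, hAmin⟩ := exists_minimal_of_wellFoundedLT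
    (fun A : Subgroup G => A.Normal ∧ A ≠ ⊥ ∧ A ≤ K) ⟨K, inferInstance, hK, le_rfl⟩
  obtain ⟨hAn, hAne, hAK⟩ := hAP
  haveI := hAn
  haveI : Group.IsSolvable A :=
    solvable_of_solvable_injective (f := Subgroup.inclusion hAK) (Subgroup.inclusion_injective hAK)
  -- A is abelian
  have hcomm : ⁅A, A⁆ = ⊥ := by
    by_contra hne
    have hlt := commutator_lt_of_solvable_subgroup A hAne
    have hle : A ≤ ⁅A, A⁆ :=
      hAmin ⟨Subgroup.commutator_normal A A, hne, hlt.le.trans hAK⟩ hlt.le
    exact (lt_irrefl _ (lt_of_le_of_lt hle hlt))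
  have hab : ∀ x ∈ A, ∀ y ∈ A, x * y = y * x := by
    intro x hx y hy
    have : ⁅x, y⁆ ∈ ⁅A, A⁆ := Subgroup.commutator_mem_commutator hx hy
    rw [hcomm, Subgroup.mem_bot] at this
    exact commutatorElement_eq_one_iff_mul_comm.1 this
  -- prime dividing |A|
  haveI : Nontrivial A := (Subgroup.nontrivial_iff_ne_bot A).2 hAne
  have hcard : Nat.card A ≠ 1 := by
    intro h1
    have := (Nat.card_eq_one_iff_unique.1 h1).1
    exact not_subsingleton A this
  obtain ⟨p, hp, hpd⟩ := Nat.exists_prime_and_dvd hcard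
  haveI : Fact p.Prime := ⟨hp⟩
  obtain ⟨a, ha⟩ := exists_prime_orderOf_dvd_card' (G := A) p hpd
  -- V = p-torsion of A
  let V : Subgroup G :=
    { carrier := {x | x ∈ A ∧ x ^ p = 1}
      one_mem' := ⟨A.one_mem, one_pow _⟩
      mul_mem' := by
        rintro x y ⟨hx, hxp⟩ ⟨hy, hyp⟩
        refine ⟨A.mul_mem hx hy, ?_⟩
        have hc : Commute x y := hab x hx y hy
        rw [hc.mul_pow, hxp, hyp, one_mul]
      inv_mem' := by
        rintro x ⟨hx, hxp⟩
        exact ⟨A.inv_mem hx, by rw [inv_pow, hxp, inv_one]⟩ }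
  refine ⟨V, p, ?_, ?_, hp, ?_⟩
  · constructor
    rintro x ⟨hx, hxp⟩ g
    refine ⟨hAn.conj_mem x hx g, ?_⟩
    rw [conj_pow, hxp, mul_one, mul_inv_cancel]
  · intro hV
    have hav : (a : G) ∈ V := by
      refine ⟨a.2, ?_⟩
      have : a ^ p = 1 := by rw [← ha, pow_orderOf_eq_one]
      exact_mod_cast congrArg Subtype.val this
    rw [hV, Subgroup.mem_bot] at hav
    have ha1 : a = 1 := Subtype.ext hav
    rw [ha1, orderOf_one] at ha
    exact hp.one_lt.ne ha
  · rintro x ⟨_, hxp⟩
    exact hxp

/-- iteration step -/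
theorem exists_larger_same_spectrum (n : ℕ) :
    ∀ (G : Type u) [Group G] [Finite G] (V : Subgroup G) (p : ℕ), V.Normal → V ≠ ⊥ → p.Prime →
      (∀ x ∈ V, x ^ p = 1) →
      ∃ (H : Type u) (_ : Group H) (_ : Finite H), Nat.card G + n ≤ Nat.card H ∧
        Set.range (orderOf : H → ℕ) = Set.range (orderOf : G → ℕ) := by
  induction n with
  | zero =>
    intro G _ _ V p _ _ _ _
    exact ⟨G, inferInstance, inferInstance, le_rfl, rfl⟩
  | succ n ih =>
    intro G _ _ V p hVn hV hp hexp
    haveI := hVn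
    -- the semidirect product
    let G' := V ⋊[MulAut.conjNormal] G
    haveI : Finite G' := Finite.of_equiv _ (SemidirectProduct.equivProd (φ := (MulAut.conjNormal : G →* MulAut V))).symm
    let V' : Subgroup G' := (SemidirectProduct.rightHom (N := V) (φ := (MulAut.conjNormal : G →* MulAut V))).ker
    have hV'n : V'.Normal := MonoidHom.normal_ker _
    haveI : Nontrivial V := (Subgroup.nontrivial_iff_ne_bot V).2 hV
    have hV' : V' ≠ ⊥ := by
      obtain ⟨v, hv⟩ := exists_ne (1 : V)
      intro hbot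
      have hmem : (SemidirectProduct.inl v : G') ∈ V' := by
        simp [V', MonoidHom.mem_ker]
      rw [hbot, Subgroup.mem_bot] at hmem
      have := SemidirectProduct.inl_injective (hmem.trans (map_one _).symm)
      exact hv this
    have hexp' : ∀ x ∈ V', x ^ p = 1 := by
      intro x hx
      have hx' : x.right = 1 := by
        rw [← SemidirectProduct.rightHom_eq_right]
        exact hx
      have hxl : x = SemidirectProduct.inl x.left := by
        ext
        · simp
        · simp [hx']
      rw [hxl, ← map_pow]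
      have : x.left ^ p = 1 := Subtype.ext (by simpa using hexp x.left x.left.2)
      rw [this, map_one]
    obtain ⟨H, hHg, hHf, hcard, hspec⟩ := ih G' V' p hV'n hV' hp hexp'
    refine ⟨H, hHg, hHf, ?_, ?_⟩
    · have hc : Nat.card G' = Nat.card V * Nat.card G := by
        rw [Nat.card_congr (SemidirectProduct.equivProd (φ := (MulAut.conjNormal : G →* MulAut V))), Nat.card_prod]
      have hV2 : 2 ≤ Nat.card V := by
        have : 1 < Nat.card V := Finite.one_lt_card
        omega
      have hG1 : 1 ≤ Nat.card G := Nat.one_le_iff_ne_zero.2 Nat.card_pos.ne'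
      have : Nat.card G + 1 ≤ Nat.card G' := by
        rw [hc]
        nlinarith
      omega
    · rw [hspec]
      exact sd_spectrum V p hp hexp

/-- transport a finite group to universe 0 -/
theorem exists_type0_copy (H : Type u) [Group H] [Finite H] :
    ∃ (H' : Type) (_ : Group H') (_ : Fintype H'), Fintype.card H' = Nat.card H ∧
      Set.range (orderOf : H' → ℕ) = Set.range (orderOf : H → ℕ) := by
  let f : Shrink.{0} H ≃* H := Shrink.mulEquiv
  haveI : Finite (Shrink.{0} H) := Finite.of_equiv _ f.symm.toEquiv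
  letI : Fintype (Shrink.{0} H) := Fintype.ofFinite _
  refine ⟨Shrink.{0} H, inferInstance, inferInstance, ?_, ?_⟩
  · rw [← Nat.card_eq_fintype_card, Nat.card_congr f.toEquiv]
  · ext k
    simp only [Set.mem_range]
    constructor
    · rintro ⟨x, rfl⟩
      exact ⟨f x, (MulEquiv.orderOf_eq f x)⟩
    · rintro ⟨y, rfl⟩
      exact ⟨f.symm y, by rw [← MulEquiv.orderOf_eq f, MulEquiv.apply_symm_apply]⟩

theorem exists_large_same_spectrum_of_prime_exponent (G : Type u) [Group G] [Finite G] (V : Subgroup G)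
    (p : ℕ) (hVn : V.Normal) (hV : V ≠ ⊥) (hp : p.Prime) (hexp : ∀ x ∈ V, x ^ p = 1) (N : ℕ) :
    ∃ (H : Type) (_ : Group H) (_ : Fintype H), N < Fintype.card H ∧
      Set.range (orderOf : H → ℕ) = Set.range (orderOf : G → ℕ) := by
  obtain ⟨H, hHg, hHf, hcard, hspec⟩ := exists_larger_same_spectrum (N + 1) G V p hVn hV hp hexp
  obtain ⟨H', hg', hf', hc', hs'⟩ := exists_type0_copy H
  refine ⟨H', hg', hf', ?_, ?_⟩
  · rw [hc']; omega
  · rw [hs', hspec]

theorem exists_large_same_spectrum_of_solvable_normal {G : Type u} [Group G] [Finite G] (K : Subgroup G)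
    [K.Normal] (hK : K ≠ ⊥) (hs : Group.IsSolvable K) (N : ℕ) :
    ∃ (H : Type) (_ : Group H) (_ : Fintype H), N < Fintype.card H ∧
      Set.range (orderOf : H → ℕ) = Set.range (orderOf : G → ℕ) := by
  obtain ⟨V, p, hVn, hV, hp, hexp⟩ := exists_normal_prime_exponent K hK hs
  exact exists_large_same_spectrum_of_prime_exponent G V p hVn hV hp hexp N

end Cfsg.Agent.Helper17
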