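import Mathlib
import Cfsg.Prelude.Def_Blocks
import Cfsg.Agent.Lib.Helper24.CharLinear
import Cfsg.Agent.Lib.Helper24.CharHom
import Cfsg.Agent.Lib.Helper16.ITODefs

/-!
# S4707 piece FAITH: exceptional characters are faithful (helper17)
-/

set_option autoImplicit false
set_option linter.unusedSectionVars false
set_option linter.unusedVariables false

namespace Cfsg.Agent.Helper16.ITO

open scoped ComplexConjugate
open Cfsg Cfsg.Agent.Helper24

universe u

variable {G : Type u} [Group G] [Fintype G]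
variable {p : ℕ} [Fact p.Prime] {P : Subgroup G}

/-- PIECE FAITH: exceptional characters are faithful. -/
theorem eq_one_of_value (D : B0Data p P) (hp : 3 < p) (hcard : Nat.card P = p)
    (hnormal : ∀ N : Subgroup G, N.Normal → N ≠ ⊥ → P ≤ N) {ζ : IrrCharacter G} (hζ : ζ ∈ D.Y)
    {x : G} (hx : (ζ : G → ℂ) x = (ζ : G → ℂ) 1) : x = 1 := by
  by_contra hx1
  have hζc : IsCharacter G (ζ : G → ℂ) := isCharacter_of_isIrrCharacter ζ.2
  have hKn : (charKer hζc).Normal := charKer_normal hζc
  have hxK : x ∈ charKer hζc := (mem_charKer hζc x).mpr hx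
  have hne : charKer hζc ≠ ⊥ := by
    intro h
    rw [h, Subgroup.mem_bot] at hxK
    exact hx1 hxK
  have hPK : P ≤ charKer hζc := hnormal _ hKn hne
  -- a nontrivial element of `P`
  have h1 : 1 < Nat.card P := by omega
  haveI : Finite P := Nat.finite_of_card_ne_zero (by omega)
  haveI : Nontrivial P := Finite.one_lt_card_iff_nontrivial.mp h1
  obtain ⟨a, ha⟩ := exists_ne (1 : P)
  have ha1 : (a : G) ≠ 1 := fun h => ha (Subtype.ext h)
  have haK : (ζ : G → ℂ) a = (ζ : G → ℂ) 1 := (mem_charKer hζc _).mp (hPK a.2)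
  have haaK : (ζ : G → ℂ) (a * a) = (ζ : G → ℂ) 1 :=
    (mem_charKer hζc _).mp (hPK (P.mul_mem a.2 a.2))
  have hsq := D.sq_rel ζ hζ a a.2 ha1
  rw [haK, haaK, D.degY ζ hζ] at hsq
  -- `(p-2)^2 = 2 - (p-2)`, i.e. `p (p - 3) = 0`
  have h2 : (p : ℂ) * ((p : ℂ) - 3) = 0 := by linear_combination hsq
  rcases mul_eq_zero.mp h2 with h | h
  · have : p = 0 := by exact_mod_cast h
    omega
  · have h3 : (p : ℂ) = ((3 : ℕ) : ℂ) := by
      push_cast
      linear_combination h
    have : p = 3 := by exact_mod_cast h3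
    omega

end Cfsg.Agent.Helper16.ITO
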