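import Mathlib
import Cfsg.Agent.Lib.Helper16.TC648Defs
import Cfsg.Agent.Lib.Helper16.TC648Core

/-!
# S3702 CHAR piece SUMJ (helper17 for helper16): the sum of a class function over `J`.
-/

set_option autoImplicit false
set_option linter.unusedSectionVars false
set_option linter.unusedVariables false

namespace Cfsg.Agent.Helper16.TC648

open Cfsg Cfsg.Agent.Helper24
open scoped ComplexConjugate

universe u

section Pieces

variable {G : Type u} [Group G]

/-- a class function is constant on conjugacy classes -/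
theorem sumj_conj {φ : G → ℂ} (hφ : IsClassFunction G φ) {x y : G} (h : IsConj x y) : φ x = φ y := by
  obtain ⟨c, hc⟩ := isConj_iff.1 h
  rw [← hc]
  exact (hφ x c).symm

/-- the value at a nontrivial word of `J` -/
theorem sumj_val (C : Cfg G) (hF : Facts C) {φ : G → ℂ} (hφ : IsClassFunction G φ) (i j k : Fin 3)
    (h : ¬ (i = 0 ∧ j = 0 ∧ k = 0)) : φ (C.wJ i j k) = φ (C.z (clsJ i j k)) :=
  sumj_conj hφ (hF.conjJ i j k h)

/-- PIECE SUMJ -/
theorem sum_J (C : Cfg G) (hF : Facts C) {φ : G → ℂ} (hφ : IsClassFunction G φ) :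
    ∑ i : Fin 3, ∑ j : Fin 3, ∑ k : Fin 3, φ (C.wJ i j k) =
      φ 1 + 6 * φ (C.z 0) + 12 * φ (C.z 1) + 8 * φ (C.z 2) := by
  have h000 : C.wJ 0 0 0 = 1 := by simp [Cfg.wJ]
  simp only [Fin.sum_univ_three]
  rw [h000]
  rw [sumj_val C hF hφ 0 0 1 (by decide), sumj_val C hF hφ 0 0 2 (by decide),
    sumj_val C hF hφ 0 1 0 (by decide), sumj_val C hF hφ 0 1 1 (by decide),
    sumj_val C hF hφ 0 1 2 (by decide), sumj_val C hF hφ 0 2 0 (by decide),
    sumj_val C hF hφ 0 2 1 (by decide), sumj_val C hF hφ 0 2 2 (by decide),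
    sumj_val C hF hφ 1 0 0 (by decide), sumj_val C hF hφ 1 0 1 (by decide),
    sumj_val C hF hφ 1 0 2 (by decide), sumj_val C hF hφ 1 1 0 (by decide),
    sumj_val C hF hφ 1 1 1 (by decide), sumj_val C hF hφ 1 1 2 (by decide),
    sumj_val C hF hφ 1 2 0 (by decide), sumj_val C hF hφ 1 2 1 (by decide),
    sumj_val C hF hφ 1 2 2 (by decide), sumj_val C hF hφ 2 0 0 (by decide),
    sumj_val C hF hφ 2 0 1 (by decide), sumj_val C hF hφ 2 0 2 (by decide),
    sumj_val C hF hφ 2 1 0 (by decide), sumj_val C hF hφ 2 1 1 (by decide),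
    sumj_val C hF hφ 2 1 2 (by decide), sumj_val C hF hφ 2 2 0 (by decide),
    sumj_val C hF hφ 2 2 1 (by decide), sumj_val C hF hφ 2 2 2 (by decide)]
  have e001 : clsJ 0 0 1 = 0 := by decide
  have e002 : clsJ 0 0 2 = 0 := by decide
  have e010 : clsJ 0 1 0 = 0 := by decide
  have e011 : clsJ 0 1 1 = 1 := by decide
  have e012 : clsJ 0 1 2 = 1 := by decide
  have e020 : clsJ 0 2 0 = 0 := by decide
  have e021 : clsJ 0 2 1 = 1 := by decide
  have e022 : clsJ 0 2 2 = 1 := by decide
  have e100 : clsJ 1 0 0 = 0 := by decide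
  have e101 : clsJ 1 0 1 = 1 := by decide
  have e102 : clsJ 1 0 2 = 1 := by decide
  have e110 : clsJ 1 1 0 = 1 := by decide
  have e111 : clsJ 1 1 1 = 2 := by decide
  have e112 : clsJ 1 1 2 = 2 := by decide
  have e120 : clsJ 1 2 0 = 1 := by decide
  have e121 : clsJ 1 2 1 = 2 := by decide
  have e122 : clsJ 1 2 2 = 2 := by decide
  have e200 : clsJ 2 0 0 = 0 := by decide
  have e201 : clsJ 2 0 1 = 1 := by decide
  have e202 : clsJ 2 0 2 = 1 := by decide
  have e210 : clsJ 2 1 0 = 1 := by decide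
  have e211 : clsJ 2 1 1 = 2 := by decide
  have e212 : clsJ 2 1 2 = 2 := by decide
  have e220 : clsJ 2 2 0 = 1 := by decide
  have e221 : clsJ 2 2 1 = 2 := by decide
  have e222 : clsJ 2 2 2 = 2 := by decide
  rw [e001, e002, e010, e011, e012, e020, e021, e022, e100, e101, e102, e110, e111, e112, e120,
    e121, e122, e200, e201, e202, e210, e211, e212, e220, e221, e222]
  ring

end Pieces

end Cfsg.Agent.Helper16.TC648
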