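import Mathlib

/-!
# Eigenspace bounds for elements normalising an extraspecial group: linear algebra (helper17)
-/

set_option autoImplicit false

namespace Cfsg.Agent.Helper17.ExtraEig

open Module

section general

variable {F : Type*} [Field F] {W : Type*} [AddCommGroup W] [Module F W] [FiniteDimensional F W]

/-- The dimensions of an independent finite family of subspaces add up to at most the dimension. -/
theorem sum_finrank_le_of_indep {ι : Type*} [Fintype ι] (p : ι → Submodule F W)
    (h : iSupIndep p) : ∑ i, finrank F (p i) ≤ finrank F W := by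
  classical
  let Φ : (∀ i, p i) →ₗ[F] W := LinearMap.lsum F (fun i => p i) F (fun i => (p i).subtype)
  have hΦ : ∀ f : (∀ i, p i), Φ f = ∑ i, (f i : W) := by
    intro f
    simp [Φ, LinearMap.lsum_apply]
  have hinj : Function.Injective Φ := by
    rw [← LinearMap.ker_eq_bot, LinearMap.ker_eq_bot']
    intro f hf
    rw [hΦ] at hf
    have h0 := (iSupIndep_iff_finsetSum_eq_zero_imp_eq_zero p).1 h Finset.univ
      (fun i => (f i : W)) (fun i _ => (f i).2) hf
    funext i
    exact Subtype.ext (h0 i (Finset.mem_univ i))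
  have := LinearMap.finrank_le_finrank_of_injective hinj
  rwa [Module.finrank_pi_fintype] at this

/-- The dimension of a finite supremum is at most the sum of the dimensions. -/
theorem finrank_le_sum_of_le_iSup {ι : Type*} [Fintype ι] (p : ι → Submodule F W)
    (U : Submodule F W) (h : U ≤ ⨆ i, p i) : finrank F U ≤ ∑ i, finrank F (p i) := by
  classical
  let Φ : (∀ i, p i) →ₗ[F] W := LinearMap.lsum F (fun i => p i) F (fun i => (p i).subtype)
  have hΦ : ∀ f : (∀ i, p i), Φ f = ∑ i, (f i : W) := by
    intro f
    simp [Φ, LinearMap.lsum_apply]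
  have hrange : (⨆ i, p i) ≤ LinearMap.range Φ := by
    refine iSup_le fun i v hv => ?_
    refine ⟨Pi.single i ⟨v, hv⟩, ?_⟩
    rw [hΦ, Finset.sum_eq_single i]
    · simp
    · intro j _ hj
      simp [Pi.single_eq_of_ne hj]
    · intro hi
      exact absurd (Finset.mem_univ i) hi
  calc finrank F U ≤ finrank F (LinearMap.range Φ) := Submodule.finrank_mono (h.trans hrange)
    _ ≤ finrank F (∀ i, p i) := LinearMap.finrank_range_le Φ
    _ = ∑ i, finrank F (p i) := Module.finrank_pi_fintype F

/-- If `u` is injective and twists `f` by a nontrivial `k`-th root of unity `θ` (`k` prime), then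
every eigenspace of `f` for a nonzero eigenvalue has dimension at most `dim W / k`. -/
theorem mul_finrank_eigenspace_le (f u : Module.End F W) (hu : Function.Injective u) (θ : F)
    (k : ℕ) (hk : k.Prime) (hθ1 : θ ≠ 1) (hθk : θ ^ k = 1)
    (h : ∀ v, f (u v) = θ • u (f v)) (c : F) (hc : c ≠ 0) :
    k * finrank F (Module.End.eigenspace f c) ≤ finrank F W := by
  classical
  have hprim : IsPrimitiveRoot θ k := by
    have hdvd : orderOf θ ∣ k := orderOf_dvd_of_pow_eq_one hθk
    rcases (Nat.dvd_prime hk).1 hdvd with h1 | h1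
    · exact absurd (orderOf_eq_one_iff.1 h1) hθ1
    · rw [← h1]
      exact IsPrimitiveRoot.orderOf θ
  -- u^j maps the c-eigenspace into the θ^j c eigenspace
  have hmap : ∀ j : ℕ, ∀ v ∈ Module.End.eigenspace f c,
      (u ^ j) v ∈ Module.End.eigenspace f (θ ^ j * c) := by
    intro j
    induction j with
    | zero => intro v hv; simpa using hv
    | succ j ih =>
      intro v hv
      have h1 := ih v hv
      rw [Module.End.mem_eigenspace_iff] at h1 ⊢
      rw [pow_succ', Module.End.mul_apply, h, h1, map_smul, smul_smul, pow_succ]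
      ring_nf
  have hinj : ∀ j : ℕ, Function.Injective (u ^ j) := by
    intro j
    induction j with
    | zero => exact fun a b hab => by simpa using hab
    | succ j ih =>
      rw [pow_succ']
      exact fun a b hab => ih (hu (by simpa [Module.End.mul_apply] using hab))
  have hle : ∀ j : Fin k, finrank F (Module.End.eigenspace f c) ≤
      finrank F (Module.End.eigenspace f (θ ^ (j : ℕ) * c)) := by
    intro j
    let ψ : Module.End.eigenspace f c →ₗ[F] Module.End.eigenspace f (θ ^ (j : ℕ) * c) :=
      LinearMap.codRestrict _ ((u ^ (j : ℕ)).comp (Module.End.eigenspace f c).subtype)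
        (fun v => hmap j v v.2)
    have hψ : Function.Injective ψ := by
      intro a b hab
      have : (u ^ (j : ℕ)) a = (u ^ (j : ℕ)) b := congrArg Subtype.val hab
      exact Subtype.ext (hinj j this)
    exact LinearMap.finrank_le_finrank_of_injective hψ
  have hindep : iSupIndep (fun j : Fin k => Module.End.eigenspace f (θ ^ (j : ℕ) * c)) := by
    apply (Module.End.eigenspaces_iSupIndep f).comp
    intro a b hab
    have hab' : θ ^ (a : ℕ) = θ ^ (b : ℕ) := mul_right_cancel₀ hc hab
    exact Fin.ext (hprim.pow_inj a.2 b.2 hab')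
  calc k * finrank F (Module.End.eigenspace f c)
      = ∑ _j : Fin k, finrank F (Module.End.eigenspace f c) := by simp
    _ ≤ ∑ j : Fin k, finrank F (Module.End.eigenspace f (θ ^ (j : ℕ) * c)) :=
        Finset.sum_le_sum fun j _ => hle j
    _ ≤ finrank F W := sum_finrank_le_of_indep _ hindep

/-- The dimensions of an independent finite family of subspaces of `U` add up to at most `dim U`. -/
theorem sum_finrank_le_of_indep_le {ι : Type*} [Fintype ι] (p : ι → Submodule F W)
    (h : iSupIndep p) (U : Submodule F W) (hU : ∀ i, p i ≤ U) :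
    ∑ i, finrank F (p i) ≤ finrank F U := by
  classical
  let Φ : (∀ i, p i) →ₗ[F] W := LinearMap.lsum F (fun i => p i) F (fun i => (p i).subtype)
  have hΦ : ∀ f : (∀ i, p i), Φ f = ∑ i, (f i : W) := by
    intro f
    simp [Φ, LinearMap.lsum_apply]
  have hinj : Function.Injective Φ := by
    rw [← LinearMap.ker_eq_bot, LinearMap.ker_eq_bot']
    intro f hf
    rw [hΦ] at hf
    have h0 := (iSupIndep_iff_finsetSum_eq_zero_imp_eq_zero p).1 h Finset.univ
      (fun i => (f i : W)) (fun i _ => (f i).2) hf
    funext i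
    exact Subtype.ext (h0 i (Finset.mem_univ i))
  have hrange : LinearMap.range Φ ≤ U := by
    rintro _ ⟨f, rfl⟩
    rw [hΦ]
    exact U.sum_mem fun i _ => hU i (f i).2
  calc ∑ i, finrank F (p i) = finrank F (∀ i, p i) := (Module.finrank_pi_fintype F).symm
    _ = finrank F (LinearMap.range Φ) := (LinearMap.finrank_range_of_inj hinj).symm
    _ ≤ finrank F U := Submodule.finrank_mono hrange

/-- Relative version of `mul_finrank_eigenspace_le` on an invariant subspace `U`. -/
theorem mul_finrank_inf_eigenspace_le (f u : Module.End F W) (U : Submodule F W)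
    (huU : ∀ v ∈ U, u v ∈ U) (hu : ∀ v ∈ U, u v = 0 → v = 0) (θ : F)
    (k : ℕ) (hk : k.Prime) (hθ1 : θ ≠ 1) (hθk : θ ^ k = 1)
    (h : ∀ v ∈ U, f (u v) = θ • u (f v)) (c : F) (hc : c ≠ 0) :
    k * finrank F ↥(U ⊓ Module.End.eigenspace f c) ≤ finrank F U := by
  classical
  have hprim : IsPrimitiveRoot θ k := by
    have hdvd : orderOf θ ∣ k := orderOf_dvd_of_pow_eq_one hθk
    rcases (Nat.dvd_prime hk).1 hdvd with h1 | h1
    · exact absurd (orderOf_eq_one_iff.1 h1) hθ1
    · rw [← h1]
      exact IsPrimitiveRoot.orderOf θ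
  have hmap : ∀ j : ℕ, ∀ v ∈ U ⊓ Module.End.eigenspace f c,
      (u ^ j) v ∈ U ⊓ Module.End.eigenspace f (θ ^ j * c) := by
    intro j
    induction j with
    | zero => intro v hv; simpa using hv
    | succ j ih =>
      intro v hv
      obtain ⟨h1U, h1⟩ := Submodule.mem_inf.1 (ih v hv)
      refine Submodule.mem_inf.2 ⟨?_, ?_⟩
      · rw [pow_succ', Module.End.mul_apply]
        exact huU _ h1U
      · rw [Module.End.mem_eigenspace_iff] at h1 ⊢
        rw [pow_succ', Module.End.mul_apply, h _ h1U, h1, map_smul, smul_smul, pow_succ]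
        ring_nf
  have hinj : ∀ j : ℕ, ∀ v ∈ U, (u ^ j) v = 0 → v = 0 := by
    intro j
    induction j with
    | zero => intro v _ hv; simpa using hv
    | succ j ih =>
      intro v hv hv0
      rw [pow_succ, Module.End.mul_apply] at hv0
      exact hu v hv (ih _ (huU v hv) hv0)
  have hle : ∀ j : Fin k, finrank F ↥(U ⊓ Module.End.eigenspace f c) ≤
      finrank F ↥(U ⊓ Module.End.eigenspace f (θ ^ (j : ℕ) * c)) := by
    intro j
    let ψ : ↥(U ⊓ Module.End.eigenspace f c) →ₗ[F]
        ↥(U ⊓ Module.End.eigenspace f (θ ^ (j : ℕ) * c)) :=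
      LinearMap.codRestrict _ ((u ^ (j : ℕ)).comp (U ⊓ Module.End.eigenspace f c).subtype)
        (fun v => hmap j v v.2)
    have hψ : Function.Injective ψ := by
      rw [← LinearMap.ker_eq_bot, LinearMap.ker_eq_bot']
      intro a ha
      have h0 : (u ^ (j : ℕ)) a = 0 := congrArg Subtype.val ha
      exact Subtype.ext (hinj j a a.2.1 h0)
    exact LinearMap.finrank_le_finrank_of_injective hψ
  have hindep : iSupIndep (fun j : Fin k => U ⊓ Module.End.eigenspace f (θ ^ (j : ℕ) * c)) := by
    have h0 : iSupIndep (fun j : Fin k => Module.End.eigenspace f (θ ^ (j : ℕ) * c)) := by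
      apply (Module.End.eigenspaces_iSupIndep f).comp
      intro a b hab
      have hab' : θ ^ (a : ℕ) = θ ^ (b : ℕ) := mul_right_cancel₀ hc hab
      exact Fin.ext (hprim.pow_inj a.2 b.2 hab')
    exact h0.mono fun j => inf_le_right
  calc k * finrank F ↥(U ⊓ Module.End.eigenspace f c)
      = ∑ _j : Fin k, finrank F ↥(U ⊓ Module.End.eigenspace f c) := by simp
    _ ≤ ∑ j : Fin k, finrank F ↥(U ⊓ Module.End.eigenspace f (θ ^ (j : ℕ) * c)) :=
        Finset.sum_le_sum fun j _ => hle j
    _ ≤ finrank F U := sum_finrank_le_of_indep_le _ hindep U fun j => inf_le_left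

end general

end Cfsg.Agent.Helper17.ExtraEig
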