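import Mathlib
import Cfsg.Agent.Lib.Helper17.ExtraEigA

/-!
# Eigenspace bounds: decomposition under an operator of prime order (helper17)
-/

set_option autoImplicit false

namespace Cfsg.Agent.Helper17.ExtraEig

open Module

section decomp

variable {F : Type*} [Field F] {W : Type*} [AddCommGroup W] [Module F W]

theorem sum_pow_succ_apply_eq (b : Module.End F W) (r : ℕ) (hb : b ^ r = 1) (v : W) :
    b (∑ k ∈ Finset.range r, (b ^ k) v) = ∑ k ∈ Finset.range r, (b ^ k) v := by
  rw [map_sum]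
  have h1 : ∑ k ∈ Finset.range r, b ((b ^ k) v) = ∑ k ∈ Finset.range r, (b ^ (k + 1)) v := by
    refine Finset.sum_congr rfl fun k _ => ?_
    rw [pow_succ', Module.End.mul_apply]
  rw [h1]
  have h2 := Finset.sum_range_succ (fun k => (b ^ k) v) r
  have h3 := Finset.sum_range_succ' (fun k => (b ^ k) v) r
  rw [h2] at h3
  simp only [hb, pow_zero] at h3
  exact (add_right_cancel h3).symm

/-- If `a ^ r = 1`, the field contains a primitive `r`-th root of unity `ζ`, and `U` is an
`a`-invariant subspace, then `U` is the sum of its intersections with the eigenspaces of `a`. -/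
theorem le_iSup_inf_eigenspace (a : Module.End F W) (r : ℕ) (hr : r.Prime) (ha : a ^ r = 1)
    (ζ : F) (hζ : IsPrimitiveRoot ζ r) (U : Submodule F W) (hU : ∀ v ∈ U, a v ∈ U) :
    U ≤ ⨆ i : Fin r, U ⊓ Module.End.eigenspace a (ζ ^ (i : ℕ)) := by
  classical
  haveI : NeZero r := ⟨hr.ne_zero⟩
  have hr0 : (r : F) ≠ 0 := (hζ.neZero' (R := F)).ne
  have hζr : ζ ^ r = 1 := hζ.pow_eq_one
  have hζ0 : ζ ≠ 0 := hζ.ne_zero hr.ne_zero
  have hpow1 : ∀ m : ℕ, ζ ^ (r * m) = 1 := fun m => by rw [pow_mul, hζr, one_pow]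
  intro v hv
  -- invariance under powers
  have hUk : ∀ k : ℕ, ∀ w ∈ U, (a ^ k) w ∈ U := by
    intro k
    induction k with
    | zero => intro w hw; simpa using hw
    | succ k ih =>
      intro w hw
      rw [pow_succ', Module.End.mul_apply]
      exact hU _ (ih w hw)
  -- the components
  let ξ : Fin r → F := fun i => (ζ ^ (i : ℕ)) ^ (r - 1)
  have hξ : ∀ i : Fin r, ζ ^ (i : ℕ) * ξ i = 1 := by
    intro i
    show ζ ^ (i : ℕ) * (ζ ^ (i : ℕ)) ^ (r - 1) = 1
    rw [← pow_succ', Nat.sub_add_cancel hr.one_le, ← pow_mul, mul_comm, pow_mul, hζr, one_pow]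
  have hξr : ∀ i : Fin r, ξ i ^ r = 1 := by
    intro i
    show ((ζ ^ (i : ℕ)) ^ (r - 1)) ^ r = 1
    rw [← pow_mul, ← pow_mul, show (i : ℕ) * ((r - 1) * r) = r * ((i : ℕ) * (r - 1)) by ring, hpow1]
  let w : Fin r → W := fun i => (r : F)⁻¹ • ∑ k ∈ Finset.range r, ((ξ i • a) ^ k) v
  have hpow : ∀ (i : Fin r) (k : ℕ), (ξ i • a) ^ k = ξ i ^ k • a ^ k := fun i k => smul_pow _ _ _
  have hwU : ∀ i, w i ∈ U := by
    intro i
    refine U.smul_mem _ (U.sum_mem fun k _ => ?_)
    rw [hpow, LinearMap.smul_apply]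
    exact U.smul_mem _ (hUk k v hv)
  have hwE : ∀ i : Fin r, w i ∈ Module.End.eigenspace a (ζ ^ (i : ℕ)) := by
    intro i
    rw [Module.End.mem_eigenspace_iff]
    have hb : (ξ i • a) ^ r = 1 := by rw [hpow, hξr, ha, one_smul]
    have h1 := sum_pow_succ_apply_eq (ξ i • a) r hb v
    have h2 : (ξ i • a) (w i) = w i := by
      show (ξ i • a) ((r : F)⁻¹ • ∑ k ∈ Finset.range r, ((ξ i • a) ^ k) v) = _
      rw [map_smul, h1]
    rw [LinearMap.smul_apply] at h2
    calc a (w i) = (ζ ^ (i : ℕ) * ξ i) • a (w i) := by rw [hξ, one_smul]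
      _ = ζ ^ (i : ℕ) • (ξ i • a (w i)) := by rw [smul_smul]
      _ = ζ ^ (i : ℕ) • w i := by rw [h2]
  have hsum : ∑ i, w i = v := by
    show ∑ i : Fin r, (r : F)⁻¹ • ∑ k ∈ Finset.range r, ((ξ i • a) ^ k) v = v
    rw [← Finset.smul_sum, Finset.sum_comm]
    have hk : ∀ k ∈ Finset.range r, ∑ i : Fin r, ((ξ i • a) ^ k) v =
        (if k = 0 then (r : F) else 0) • (a ^ k) v := by
      intro k hk
      have h1 : ∀ i : Fin r, ((ξ i • a) ^ k) v = (ξ i ^ k) • (a ^ k) v := by
        intro i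
        rw [hpow, LinearMap.smul_apply]
      rw [Finset.sum_congr rfl fun i _ => h1 i, ← Finset.sum_smul]
      congr 1
      by_cases hk0 : k = 0
      · subst hk0
        simp
      · rw [if_neg hk0]
        have hx : ∀ i : Fin r, ξ i ^ k = (ζ ^ ((r - 1) * k)) ^ (i : ℕ) := by
          intro i
          show ((ζ ^ (i : ℕ)) ^ (r - 1)) ^ k = _
          rw [← pow_mul, ← pow_mul, ← pow_mul]
          ring_nf
        rw [Finset.sum_congr rfl fun i _ => hx i, Fin.sum_univ_eq_sum_range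
          (fun i => (ζ ^ ((r - 1) * k)) ^ i) r]
        have hne : ζ ^ ((r - 1) * k) ≠ 1 := by
          intro h1
          have hdvd := (hζ.pow_eq_one_iff_dvd _).1 h1
          rcases (Nat.Prime.dvd_mul hr).1 hdvd with h2 | h2
          · have := Nat.le_of_dvd (by have := hr.two_le; omega) h2
            have := hr.two_le
            omega
          · have := Nat.le_of_dvd (Nat.pos_of_ne_zero hk0) h2
            have := Finset.mem_range.1 hk
            omega
        have hgs := mul_geom_sum (ζ ^ ((r - 1) * k)) r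
        have hxr : (ζ ^ ((r - 1) * k)) ^ r = 1 := by
          rw [← pow_mul, mul_comm, hpow1]
        rw [hxr, sub_self] at hgs
        rcases mul_eq_zero.1 hgs with h2 | h2
        · exact absurd (sub_eq_zero.1 h2) hne
        · exact h2
    rw [Finset.sum_congr rfl hk, Finset.sum_eq_single 0]
    · simp [hr0]
    · intro k _ hk0
      rw [if_neg hk0, zero_smul]
    · intro h0
      exact absurd (Finset.mem_range.2 hr.pos) h0
  rw [← hsum]
  exact Submodule.sum_mem _ fun i _ =>
    Submodule.mem_iSup_of_mem i ⟨hwU i, hwE i⟩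

/-- Dimension version. -/
theorem finrank_le_sum_inf_eigenspace [FiniteDimensional F W] (a : Module.End F W) (r : ℕ)
    (hr : r.Prime) (ha : a ^ r = 1) (ζ : F) (hζ : IsPrimitiveRoot ζ r) (U : Submodule F W)
    (hU : ∀ v ∈ U, a v ∈ U) :
    finrank F U ≤ ∑ i : Fin r, finrank F ↥(U ⊓ Module.End.eigenspace a (ζ ^ (i : ℕ))) :=
  finrank_le_sum_of_le_iSup _ U (le_iSup_inf_eigenspace a r hr ha ζ hζ U hU)

end decomp

end Cfsg.Agent.Helper17.ExtraEig
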