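import Mathlib
import Cfsg.Prelude.Def_GeometricClasses
import Cfsg.Agent.Lib.Helper17.ExtraEigB

/-!
# Eigenspace bounds: twisted commutation and the extraspecial set-up (helper17)
-/

set_option autoImplicit false

namespace Cfsg.Agent.Helper17.ExtraEig

open Module Matrix

variable {F : Type*} [Field F] {n : ℕ}

/-- Twisted commutation of two invertible matrices: `a b = s • b a`. -/
def TC (a b : GL (Fin n) F) (s : F) : Prop :=
  (a : Matrix (Fin n) (Fin n) F) * (b : Matrix (Fin n) (Fin n) F) =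
    s • ((b : Matrix (Fin n) (Fin n) F) * (a : Matrix (Fin n) (Fin n) F))

theorem TC_iff_mul (a b : GL (Fin n) F) (s : F) :
    TC a b s ↔ ((a * b : GL (Fin n) F) : Matrix (Fin n) (Fin n) F) =
      s • ((b * a : GL (Fin n) F) : Matrix (Fin n) (Fin n) F) := by
  unfold TC
  rw [Units.val_mul, Units.val_mul]

theorem TC_one_iff (a b : GL (Fin n) F) : TC a b 1 ↔ a * b = b * a := by
  rw [TC_iff_mul, one_smul]
  exact ⟨fun h => Units.ext h, fun h => by rw [h]⟩

theorem TC.ne_zero [NeZero n] {a b : GL (Fin n) F} {s : F} (h : TC a b s) : s ≠ 0 := by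
  rintro rfl
  rw [TC_iff_mul, zero_smul] at h
  have h1 : IsUnit ((a * b : GL (Fin n) F) : Matrix (Fin n) (Fin n) F) := (a * b).isUnit
  rw [h] at h1
  haveI : Nonempty (Fin n) := ⟨⟨0, Nat.pos_of_ne_zero (NeZero.ne n)⟩⟩
  exact not_isUnit_zero h1

theorem TC.unique [NeZero n] {a b : GL (Fin n) F} {s t : F} (h1 : TC a b s) (h2 : TC a b t) :
    s = t := by
  rw [TC_iff_mul] at h1 h2
  rw [h1] at h2
  have h3 : (s - t) • ((b * a : GL (Fin n) F) : Matrix (Fin n) (Fin n) F) = 0 := by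
    rw [sub_smul, h2, sub_self]
  have h4 : (s - t) • (1 : Matrix (Fin n) (Fin n) F) = 0 := by
    have := congrArg (fun M => M * (((b * a)⁻¹ : GL (Fin n) F) : Matrix (Fin n) (Fin n) F)) h3
    simp only [Matrix.smul_mul, Matrix.zero_mul] at this
    rwa [← Units.val_mul, mul_inv_cancel, Units.val_one] at this
  have h5 := congrFun (congrFun h4 ⟨0, Nat.pos_of_ne_zero (NeZero.ne n)⟩)
    ⟨0, Nat.pos_of_ne_zero (NeZero.ne n)⟩
  simp only [Matrix.smul_apply, Matrix.one_apply_eq, smul_eq_mul, mul_one, Matrix.zero_apply] at h5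
  exact sub_eq_zero.1 h5

theorem TC.mul_right {a b c : GL (Fin n) F} {s t : F} (h1 : TC a b s) (h2 : TC a c t) :
    TC a (b * c) (s * t) := by
  unfold TC at *
  rw [Units.val_mul]
  calc (a : Matrix (Fin n) (Fin n) F) * (↑b * ↑c) = (↑a * ↑b) * ↑c := by rw [Matrix.mul_assoc]
    _ = s • (↑b * (↑a * ↑c)) := by rw [h1, Matrix.smul_mul, Matrix.mul_assoc]
    _ = (s * t) • (↑b * ↑c * ↑a) := by rw [h2, Matrix.mul_smul, smul_smul, Matrix.mul_assoc]

theorem TC.mul_left {a b c : GL (Fin n) F} {s t : F} (h1 : TC a c s) (h2 : TC b c t) :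
    TC (a * b) c (s * t) := by
  unfold TC at *
  rw [Units.val_mul]
  calc (a : Matrix (Fin n) (Fin n) F) * ↑b * ↑c = ↑a * (↑b * ↑c) := by rw [Matrix.mul_assoc]
    _ = t • (↑a * ↑c * ↑b) := by rw [h2, Matrix.mul_smul, Matrix.mul_assoc]
    _ = (s * t) • (↑c * (↑a * ↑b)) := by
        rw [h1, Matrix.smul_mul, smul_smul, Matrix.mul_assoc, mul_comm]

theorem TC.symm [NeZero n] {a b : GL (Fin n) F} {s : F} (h : TC a b s) : TC b a s⁻¹ := by
  have hs := h.ne_zero
  unfold TC at *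
  rw [h, smul_smul, inv_mul_cancel₀ hs, one_smul]

theorem TC.inv_left [NeZero n] {a b : GL (Fin n) F} {s : F} (h : TC a b s) : TC a⁻¹ b s⁻¹ := by
  have hs := h.ne_zero
  rw [TC_iff_mul] at h ⊢
  have h3 : ((b * a⁻¹ : GL (Fin n) F) : Matrix (Fin n) (Fin n) F) =
      (((a⁻¹ : GL (Fin n) F) : Matrix (Fin n) (Fin n) F)) *
        ((a * b : GL (Fin n) F) : Matrix (Fin n) (Fin n) F) *
        (((a⁻¹ : GL (Fin n) F) : Matrix (Fin n) (Fin n) F)) := by
    rw [← Units.val_mul, ← Units.val_mul]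
    congr 1
    group
  have h4 : ((a⁻¹ * b : GL (Fin n) F) : Matrix (Fin n) (Fin n) F) =
      (((a⁻¹ : GL (Fin n) F) : Matrix (Fin n) (Fin n) F)) *
        ((b * a : GL (Fin n) F) : Matrix (Fin n) (Fin n) F) *
        (((a⁻¹ : GL (Fin n) F) : Matrix (Fin n) (Fin n) F)) := by
    rw [← Units.val_mul, ← Units.val_mul]
    congr 1
    group
  rw [h3, h, Matrix.mul_smul, Matrix.smul_mul, ← h4, smul_smul, inv_mul_cancel₀ hs, one_smul]

theorem TC.inv_right [NeZero n] {a b : GL (Fin n) F} {s : F} (h : TC a b s) : TC a b⁻¹ s⁻¹ := by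
  have h1 := h.symm.inv_left.symm
  rwa [inv_inv] at h1

theorem TC.conj {a b : GL (Fin n) F} {s : F} (h : TC a b s) (g : GL (Fin n) F) :
    TC (g * a * g⁻¹) (g * b * g⁻¹) s := by
  rw [TC_iff_mul] at h ⊢
  have h1 : (g * a * g⁻¹ * (g * b * g⁻¹) : GL (Fin n) F) = g * (a * b) * g⁻¹ := by group
  have h2 : (g * b * g⁻¹ * (g * a * g⁻¹) : GL (Fin n) F) = g * (b * a) * g⁻¹ := by group
  rw [h1, h2]
  calc ((g * (a * b) * g⁻¹ : GL (Fin n) F) : Matrix (Fin n) (Fin n) F)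
      = (g : Matrix (Fin n) (Fin n) F) * ((a * b : GL (Fin n) F) : Matrix (Fin n) (Fin n) F) *
          ((g⁻¹ : GL (Fin n) F) : Matrix (Fin n) (Fin n) F) := by
        rw [Units.val_mul, Units.val_mul]
    _ = s • ((g : Matrix (Fin n) (Fin n) F) *
          ((b * a : GL (Fin n) F) : Matrix (Fin n) (Fin n) F) *
          ((g⁻¹ : GL (Fin n) F) : Matrix (Fin n) (Fin n) F)) := by
        rw [h, Matrix.mul_smul, Matrix.smul_mul]
    _ = s • ((g * (b * a) * g⁻¹ : GL (Fin n) F) : Matrix (Fin n) (Fin n) F) := by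
        simp only [Units.val_mul, Matrix.mul_assoc]

theorem TC.self (a : GL (Fin n) F) : TC a a 1 := (TC_one_iff a a).2 rfl

theorem TC.one_right (a : GL (Fin n) F) : TC a 1 1 := (TC_one_iff a 1).2 (by group)

theorem TC.pow_right {a b : GL (Fin n) F} {s : F} (h : TC a b s) (k : ℕ) :
    TC a (b ^ k) (s ^ k) := by
  induction k with
  | zero => simpa using TC.one_right a
  | succ k ih =>
    rw [pow_succ, pow_succ]
    exact ih.mul_right h

theorem TC.pow_left [NeZero n] {a b : GL (Fin n) F} {s : F} (h : TC a b s) (k : ℕ) :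
    TC (a ^ k) b (s ^ k) := by
  have h1 := (h.symm.pow_right k).symm
  rwa [inv_pow, inv_inv] at h1

/-- scalar matrices commute with everything -/
theorem scalar_comm {z : GL (Fin n) F} (hz : z ∈ Cfsg.Geo.scalars (Fin n) F) (a : GL (Fin n) F) :
    z * a = a * z := by
  obtain ⟨c, hc⟩ := (Cfsg.Geo.mem_scalars_iff z).1 hz
  apply Units.ext
  rw [Units.val_mul, Units.val_mul, hc, Matrix.smul_mul, Matrix.mul_smul, Matrix.one_mul,
    Matrix.mul_one]

theorem TC.scalar_left {z : GL (Fin n) F} (hz : z ∈ Cfsg.Geo.scalars (Fin n) F)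
    (a : GL (Fin n) F) : TC z a 1 := (TC_one_iff z a).2 (scalar_comm hz a)

theorem TC.scalar_right {z : GL (Fin n) F} (hz : z ∈ Cfsg.Geo.scalars (Fin n) F)
    (a : GL (Fin n) F) : TC a z 1 := (TC_one_iff a z).2 (scalar_comm hz a).symm

/-- membership in `R ⊔ scalars`. -/
theorem mem_RZ_iff (R : Subgroup (GL (Fin n) F)) (w : GL (Fin n) F) :
    w ∈ R ⊔ Cfsg.Geo.scalars (Fin n) F ↔
      ∃ x ∈ R, ∃ z ∈ Cfsg.Geo.scalars (Fin n) F, w = x * z := by
  constructor
  · intro hw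
    have h1 : w ∈ ((R ⊔ Cfsg.Geo.scalars (Fin n) F : Subgroup (GL (Fin n) F)) :
        Set (GL (Fin n) F)) := hw
    rw [Subgroup.mul_normal] at h1
    obtain ⟨x, hx, z, hz, rfl⟩ := Set.mem_mul.1 h1
    exact ⟨x, hx, z, hz, rfl⟩
  · rintro ⟨x, hx, z, hz, rfl⟩
    exact Subgroup.mul_mem _ (Subgroup.mem_sup_left hx) (Subgroup.mem_sup_right hz)

/-- The extraspecial set-up in the form we use. -/
structure Ext (R : Subgroup (GL (Fin n) F)) (r : ℕ) : Prop where
  prime : r.Prime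
  npos : NeZero n
  cent : ∀ w : GL (Fin n) F, (∀ x ∈ R, w * x = x * w) → w ∈ Cfsg.Geo.scalars (Fin n) F
  comm : ∀ x ∈ R, ∀ y ∈ R, ∃ s : F, s ^ r = 1 ∧ TC x y s

variable {R : Subgroup (GL (Fin n) F)} {r : ℕ}

theorem Ext.comm_RZ (hE : Ext R r) {a b : GL (Fin n) F}
    (ha : a ∈ R ⊔ Cfsg.Geo.scalars (Fin n) F) (hb : b ∈ R ⊔ Cfsg.Geo.scalars (Fin n) F) :
    ∃ s : F, s ^ r = 1 ∧ TC a b s := by
  obtain ⟨x, hx, z, hz, rfl⟩ := (mem_RZ_iff R a).1 ha
  obtain ⟨y, hy, z', hz', rfl⟩ := (mem_RZ_iff R b).1 hb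
  obtain ⟨s, hs, h⟩ := hE.comm x hx y hy
  refine ⟨s, hs, ?_⟩
  have h1 : TC x (y * z') (s * 1) := h.mul_right (TC.scalar_right hz' x)
  have h2 : TC z (y * z') 1 := TC.scalar_left hz _
  have h3 := h1.mul_left h2
  simpa using h3

/-- a nonscalar element of `R ⊔ scalars` is twisted by some element of `R`. -/
theorem Ext.exists_twist (hE : Ext R r) {w : GL (Fin n) F}
    (hw : w ∈ R ⊔ Cfsg.Geo.scalars (Fin n) F) (hws : w ∉ Cfsg.Geo.scalars (Fin n) F) :
    ∃ u ∈ R, ∃ s : F, s ≠ 1 ∧ s ^ r = 1 ∧ TC u w s := by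
  by_contra hcon
  push Not at hcon
  apply hws
  apply hE.cent
  intro x hx
  obtain ⟨s, hs, h⟩ := hE.comm_RZ (Subgroup.mem_sup_left hx) hw
  by_cases hs1 : s = 1
  · subst hs1
    exact ((TC_one_iff x w).1 h).symm
  · exact absurd h (hcon x hx s hs1 hs)

/-- the eigenspace of a matrix -/
noncomputable def eig (a : GL (Fin n) F) (c : F) : Submodule F (Fin n → F) :=
  Module.End.eigenspace (Matrix.toLin' (a : Matrix (Fin n) (Fin n) F)) c

theorem mem_eig (a : GL (Fin n) F) (c : F) (v : Fin n → F) :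
    v ∈ eig a c ↔ (a : Matrix (Fin n) (Fin n) F) *ᵥ v = c • v := by
  unfold eig
  rw [Module.End.mem_eigenspace_iff, Matrix.toLin'_apply]

theorem eig_zero (a : GL (Fin n) F) : eig a 0 = ⊥ := by
  rw [eq_bot_iff]
  intro v hv
  rw [mem_eig, zero_smul] at hv
  have h1 : ((a⁻¹ : GL (Fin n) F) : Matrix (Fin n) (Fin n) F) *ᵥ
      ((a : Matrix (Fin n) (Fin n) F) *ᵥ v) = 0 := by rw [hv, Matrix.mulVec_zero]
  rw [Matrix.mulVec_mulVec, ← Units.val_mul, inv_mul_cancel, Units.val_one, Matrix.one_mulVec] at h1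
  exact (Submodule.mem_bot F).2 h1

theorem mulVec_injective (a : GL (Fin n) F) :
    Function.Injective (Matrix.toLin' (a : Matrix (Fin n) (Fin n) F)) := by
  intro v w hvw
  rw [Matrix.toLin'_apply, Matrix.toLin'_apply] at hvw
  have h1 := congrArg (fun u => ((a⁻¹ : GL (Fin n) F) : Matrix (Fin n) (Fin n) F) *ᵥ u) hvw
  simp only [Matrix.mulVec_mulVec] at h1
  rwa [← Units.val_mul, inv_mul_cancel, Units.val_one, Matrix.one_mulVec, Matrix.one_mulVec] at h1

/-- twisted commutation on vectors -/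
theorem TC.mulVec {a b : GL (Fin n) F} {s : F} (h : TC a b s) (v : Fin n → F) :
    (a : Matrix (Fin n) (Fin n) F) *ᵥ ((b : Matrix (Fin n) (Fin n) F) *ᵥ v) =
      s • ((b : Matrix (Fin n) (Fin n) F) *ᵥ ((a : Matrix (Fin n) (Fin n) F) *ᵥ v)) := by
  unfold TC at h
  rw [Matrix.mulVec_mulVec, h, Matrix.smul_mulVec, Matrix.mulVec_mulVec]

/-- eigenspaces of a nonscalar element of `R ⊔ scalars` have dimension at most `n / r`. -/
theorem Ext.finrank_eig_le (hE : Ext R r) {w : GL (Fin n) F}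
    (hw : w ∈ R ⊔ Cfsg.Geo.scalars (Fin n) F) (hws : w ∉ Cfsg.Geo.scalars (Fin n) F) (c : F) :
    r * finrank F (eig w c) ≤ n := by
  haveI := hE.npos
  by_cases hc : c = 0
  · subst hc
    rw [eig_zero]
    simp
  obtain ⟨u, _, s, hs1, hsr, h⟩ := hE.exists_twist hw hws
  have h' := h.symm
  have := mul_finrank_eigenspace_le (Matrix.toLin' (w : Matrix (Fin n) (Fin n) F))
    (Matrix.toLin' (u : Matrix (Fin n) (Fin n) F)) (mulVec_injective u) s⁻¹ r hE.prime
    (by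
      intro h1
      exact hs1 (inv_eq_one.1 h1))
    (by rw [inv_pow, hsr, inv_one])
    (fun v => by
      rw [Matrix.toLin'_apply, Matrix.toLin'_apply, Matrix.toLin'_apply, Matrix.toLin'_apply]
      exact h'.mulVec v) c hc
  rwa [Module.finrank_fin_fun] at this

end Cfsg.Agent.Helper17.ExtraEig
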