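import Mathlib
import Cfsg.Agent.Lib.Helper17.ExtraEigC

/-!
# Eigenspace bounds: the basic cases (helper17)
-/

set_option autoImplicit false

namespace Cfsg.Agent.Helper17.ExtraEig

open Module Matrix

variable {F : Type*} [Field F] {n : ℕ}

theorem mulVec_mul (a b : GL (Fin n) F) (v : Fin n → F) :
    ((a * b : GL (Fin n) F) : Matrix (Fin n) (Fin n) F) *ᵥ v =
      (a : Matrix (Fin n) (Fin n) F) *ᵥ ((b : Matrix (Fin n) (Fin n) F) *ᵥ v) := by
  rw [Units.val_mul, Matrix.mulVec_mulVec]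

theorem mulVec_inv_mulVec (a : GL (Fin n) F) (v : Fin n → F) :
    ((a⁻¹ : GL (Fin n) F) : Matrix (Fin n) (Fin n) F) *ᵥ
      ((a : Matrix (Fin n) (Fin n) F) *ᵥ v) = v := by
  rw [← mulVec_mul, inv_mul_cancel, Units.val_one, Matrix.one_mulVec]

theorem mulVec_mulVec_inv (a : GL (Fin n) F) (v : Fin n → F) :
    (a : Matrix (Fin n) (Fin n) F) *ᵥ
      (((a⁻¹ : GL (Fin n) F) : Matrix (Fin n) (Fin n) F) *ᵥ v) = v := by
  rw [← mulVec_mul, mul_inv_cancel, Units.val_one, Matrix.one_mulVec]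

theorem eig_pow {g : GL (Fin n) F} {c : F} {v : Fin n → F} (hv : v ∈ eig g c) (k : ℕ) :
    v ∈ eig (g ^ k) (c ^ k) := by
  induction k with
  | zero => rw [mem_eig]; simp
  | succ k ih =>
    rw [mem_eig] at hv ih ⊢
    rw [pow_succ, mulVec_mul, hv, Matrix.mulVec_smul, ih, smul_smul, pow_succ, mul_comm]

theorem eig_inv {g : GL (Fin n) F} {c : F} (hc : c ≠ 0) {v : Fin n → F} (hv : v ∈ eig g c) :
    v ∈ eig g⁻¹ c⁻¹ := by
  rw [mem_eig] at hv ⊢
  have h1 : ((g⁻¹ : GL (Fin n) F) : Matrix (Fin n) (Fin n) F) *ᵥ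
      ((g : Matrix (Fin n) (Fin n) F) *ᵥ v) = v := mulVec_inv_mulVec g v
  rw [hv, Matrix.mulVec_smul] at h1
  calc ((g⁻¹ : GL (Fin n) F) : Matrix (Fin n) (Fin n) F) *ᵥ v
      = c⁻¹ • (c • (((g⁻¹ : GL (Fin n) F) : Matrix (Fin n) (Fin n) F) *ᵥ v)) := by
        rw [smul_smul, inv_mul_cancel₀ hc, one_smul]
    _ = c⁻¹ • v := by rw [h1]

/-- conjugation maps eigenspaces to eigenspaces -/
theorem mem_eig_conj {g x : GL (Fin n) F} {c : F} {v : Fin n → F} (hv : v ∈ eig g c) :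
    (x : Matrix (Fin n) (Fin n) F) *ᵥ v ∈ eig (x * g * x⁻¹) c := by
  rw [mem_eig] at hv ⊢
  rw [mulVec_mul, mulVec_mul, mulVec_inv_mulVec, hv, Matrix.mulVec_smul]

theorem finrank_eig_le_conj (g x : GL (Fin n) F) (c : F) :
    finrank F (eig g c) ≤ finrank F (eig (x * g * x⁻¹) c) := by
  let ψ : eig g c →ₗ[F] eig (x * g * x⁻¹) c :=
    LinearMap.codRestrict _ ((Matrix.toLin' (x : Matrix (Fin n) (Fin n) F)).comp (eig g c).subtype)
      (fun v => by
        have := mem_eig_conj (x := x) v.2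
        simpa [Matrix.toLin'_apply] using this)
  have hψ : Function.Injective ψ := by
    intro a b hab
    have h1 : Matrix.toLin' (x : Matrix (Fin n) (Fin n) F) a =
        Matrix.toLin' (x : Matrix (Fin n) (Fin n) F) b := congrArg Subtype.val hab
    exact Subtype.ext (mulVec_injective x h1)
  exact LinearMap.finrank_le_finrank_of_injective hψ

theorem finrank_eig_conj (g x : GL (Fin n) F) (c : F) :
    finrank F (eig (x * g * x⁻¹) c) = finrank F (eig g c) := by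
  apply le_antisymm _ (finrank_eig_le_conj g x c)
  have h1 := finrank_eig_le_conj (x * g * x⁻¹) x⁻¹ c
  have h2 : x⁻¹ * (x * g * x⁻¹) * x⁻¹⁻¹ = g := by group
  rwa [h2] at h1

theorem finrank_add_le_of_inf (A B : Submodule F (Fin n → F)) :
    finrank F A + finrank F B ≤ n + finrank F ↥(A ⊓ B) := by
  have h1 := Submodule.finrank_sup_add_finrank_inf_eq A B
  have h2 : finrank F ↥(A ⊔ B) ≤ n := by
    have := Submodule.finrank_le (A ⊔ B)
    rwa [Module.finrank_fin_fun] at this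
  omega

variable {R : Subgroup (GL (Fin n) F)} {r : ℕ}

/-- Case A: `g` is twisted by an element with a nontrivial root of unity of prime order `k`. -/
theorem finrank_eig_le_of_twist [NeZero n] {g x : GL (Fin n) F} {t : F} {k : ℕ} (hk : k.Prime)
    (h : TC g x t) (ht1 : t ≠ 1) (htk : t ^ k = 1) (c : F) :
    k * finrank F (eig g c) ≤ n := by
  by_cases hc : c = 0
  · subst hc
    rw [eig_zero]
    simp
  have := mul_finrank_eigenspace_le (Matrix.toLin' (g : Matrix (Fin n) (Fin n) F))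
    (Matrix.toLin' (x : Matrix (Fin n) (Fin n) F)) (mulVec_injective x) t k hk ht1 htk
    (fun v => by
      rw [Matrix.toLin'_apply, Matrix.toLin'_apply, Matrix.toLin'_apply, Matrix.toLin'_apply]
      exact h.mulVec v) c hc
  rwa [Module.finrank_fin_fun] at this

/-- Case A of the main theorem. -/
theorem caseA (hE : Ext R r) {g : GL (Fin n) F} {ϖ : ℕ} (hϖ : ϖ.Prime) (hgϖ : g ^ ϖ = 1)
    (hns : g ∉ Cfsg.Geo.scalars (Fin n) F) (hA : ∀ x ∈ R, ∃ t : F, TC g x t) (c : F) :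
    ϖ * finrank F (eig g c) ≤ n := by
  haveI := hE.npos
  have hex : ∃ x ∈ R, ∃ t : F, t ≠ 1 ∧ TC g x t := by
    by_contra hcon
    push Not at hcon
    apply hns
    apply hE.cent
    intro x hx
    obtain ⟨t, ht⟩ := hA x hx
    by_cases ht1 : t = 1
    · subst ht1
      exact (TC_one_iff g x).1 ht
    · exact absurd ht (hcon x hx t ht1)
  obtain ⟨x, _, t, ht1, ht⟩ := hex
  have htϖ : t ^ ϖ = 1 := by
    have h1 := ht.pow_left ϖ
    rw [hgϖ] at h1
    have h2 : TC (1 : GL (Fin n) F) x 1 := (TC_one_iff 1 x).2 (by group)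
    exact h1.unique h2
  exact finrank_eig_le_of_twist hϖ ht ht1 htϖ c

/-- The basic estimate in case B. -/
theorem caseB_simple (hE : Ext R r) {g : GL (Fin n) F}
    (hN : ∀ w, w ∈ R ⊔ Cfsg.Geo.scalars (Fin n) F ↔
      g * w * g⁻¹ ∈ R ⊔ Cfsg.Geo.scalars (Fin n) F)
    {x : GL (Fin n) F} (hx : x ∈ R) (hB : ∀ t : F, ¬ TC g x t) (c : F) :
    2 * r * finrank F (eig g c) ≤ (r + 1) * n := by
  haveI := hE.npos
  by_cases hc : c = 0
  · subst hc
    rw [eig_zero]
    simp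
  have hxRZ : x ∈ R ⊔ Cfsg.Geo.scalars (Fin n) F := Subgroup.mem_sup_left hx
  -- y = g⁻¹ x g x⁻¹
  set y : GL (Fin n) F := g⁻¹ * (x * g * x⁻¹) with hy
  have hyRZ : y ∈ R ⊔ Cfsg.Geo.scalars (Fin n) F := by
    have h1 : g⁻¹ * x * g ∈ R ⊔ Cfsg.Geo.scalars (Fin n) F := by
      rw [hN]
      have : g * (g⁻¹ * x * g) * g⁻¹ = x := by group
      rw [this]
      exact hxRZ
    have h2 : y = (g⁻¹ * x * g) * x⁻¹ := by rw [hy]; group
    rw [h2]
    exact Subgroup.mul_mem _ h1 (Subgroup.inv_mem _ hxRZ)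
  have hyns : y ∉ Cfsg.Geo.scalars (Fin n) F := by
    intro hys
    obtain ⟨z, hz⟩ := (Cfsg.Geo.mem_scalars_iff y).1 hys
    apply hB ((z : F)⁻¹)
    rw [TC_iff_mul]
    have h1 : x * g = g * y * x := by rw [hy]; group
    have h2 : ((g * x : GL (Fin n) F) : Matrix (Fin n) (Fin n) F) =
        (z : F)⁻¹ • ((x * g : GL (Fin n) F) : Matrix (Fin n) (Fin n) F) := by
      have h3 : ((x * g : GL (Fin n) F) : Matrix (Fin n) (Fin n) F) =
          (z : F) • ((g * x : GL (Fin n) F) : Matrix (Fin n) (Fin n) F) := by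
        rw [h1]
        simp only [Units.val_mul]
        rw [hz, Matrix.mul_smul, Matrix.smul_mul, Matrix.mul_one]
      rw [h3, smul_smul, inv_mul_cancel₀ z.ne_zero, one_smul]
    exact h2
  have hfix := hE.finrank_eig_le hyRZ hyns 1
  have hinf : eig g c ⊓ eig (x * g * x⁻¹) c ≤ eig y 1 := by
    intro v hv
    obtain ⟨h1, h2⟩ := Submodule.mem_inf.1 hv
    have h3 := eig_inv hc h1
    rw [mem_eig] at h2 h3 ⊢
    rw [hy, mulVec_mul, h2, Matrix.mulVec_smul, h3, smul_smul, mul_inv_cancel₀ hc]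
  have h1 := finrank_add_le_of_inf (eig g c) (eig (x * g * x⁻¹) c)
  have h2 := Submodule.finrank_mono hinf
  rw [finrank_eig_conj] at h1
  have hr := hE.prime.two_le
  nlinarith

/-- If `x⁻¹ (g x g⁻¹)` and `x⁻¹ (g^k x g^-k)` are twisted by a nontrivial scalar, the eigenspaces
of `g` have dimension at most `n / 2`. -/
theorem two_mul_finrank_le_of_noncomm [NeZero n] {g x : GL (Fin n) F} {k : ℕ} {s : F}
    (h : TC (x⁻¹ * (g * x * g⁻¹)) (x⁻¹ * (g ^ k * x * (g ^ k)⁻¹)) s) (hs : s ≠ 1) (c : F) :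
    2 * finrank F (eig g c) ≤ n := by
  by_cases hc : c = 0
  · subst hc
    rw [eig_zero]
    simp
  have hinf : eig g c ⊓ eig (x⁻¹ * g * x⁻¹⁻¹) c = ⊥ := by
    rw [eq_bot_iff]
    intro u hu
    obtain ⟨h1, h2⟩ := Submodule.mem_inf.1 hu
    -- all conjugates g^j x g^-j map u to x u
    have hj : ∀ j : ℕ, ((x⁻¹ * (g ^ j * x * (g ^ j)⁻¹) : GL (Fin n) F) :
        Matrix (Fin n) (Fin n) F) *ᵥ u = u := by
      intro j
      have h3 := eig_inv (pow_ne_zero j hc) (eig_pow h1 j)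
      have h4 : (x : Matrix (Fin n) (Fin n) F) *ᵥ u ∈ eig g c := by
        have := mem_eig_conj (x := x) h2
        have h5 : x * (x⁻¹ * g * x⁻¹⁻¹) * x⁻¹ = g := by group
        rwa [h5] at this
      have h6 := eig_pow h4 j
      rw [mem_eig] at h3 h6
      rw [mulVec_mul, mulVec_mul, mulVec_mul, h3, Matrix.mulVec_smul, Matrix.mulVec_smul, h6,
        Matrix.mulVec_smul, Matrix.mulVec_smul, mulVec_inv_mulVec, smul_smul,
        inv_mul_cancel₀ (pow_ne_zero j hc), one_smul]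
    have h7 := h.mulVec u
    have h8 := hj k
    have h9 := hj 1
    rw [pow_one] at h9
    rw [h8, h9, h8] at h7
    have h10 : (1 - s) • u = 0 := by rw [sub_smul, one_smul, ← h7, sub_self]
    rcases smul_eq_zero.1 h10 with h11 | h11
    · exact absurd (sub_eq_zero.1 h11).symm hs
    · exact (Submodule.mem_bot F).2 h11
  have h1 := finrank_add_le_of_inf (eig g c) (eig (x⁻¹ * g * x⁻¹⁻¹) c)
  rw [finrank_eig_conj, hinf, finrank_bot] at h1
  omega

end Cfsg.Agent.Helper17.ExtraEig
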