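import Mathlib
import Cfsg.Agent.Lib.Helper17.ExtraEigD

/-!
# Eigenspace bounds: elements of odd prime order different from `r` (helper17)
-/

set_option autoImplicit false

namespace Cfsg.Agent.Helper17.ExtraEig

open Module Matrix

variable {F : Type*} [Field F] {n : ℕ} {R : Subgroup (GL (Fin n) F)} {r : ℕ}

theorem conj_pow_mem {g : GL (Fin n) F}
    (hN : ∀ w, w ∈ R ⊔ Cfsg.Geo.scalars (Fin n) F ↔
      g * w * g⁻¹ ∈ R ⊔ Cfsg.Geo.scalars (Fin n) F)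
    (k : ℕ) {w : GL (Fin n) F} (hw : w ∈ R ⊔ Cfsg.Geo.scalars (Fin n) F) :
    g ^ k * w * (g ^ k)⁻¹ ∈ R ⊔ Cfsg.Geo.scalars (Fin n) F := by
  induction k with
  | zero => simpa using hw
  | succ k ih =>
    have h1 : g ^ (k + 1) * w * (g ^ (k + 1))⁻¹ = g * (g ^ k * w * (g ^ k)⁻¹) * g⁻¹ := by
      rw [pow_succ']
      group
    rw [h1]
    exact (hN _).1 ih

theorem conj_inv_mem {g : GL (Fin n) F}
    (hN : ∀ w, w ∈ R ⊔ Cfsg.Geo.scalars (Fin n) F ↔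
      g * w * g⁻¹ ∈ R ⊔ Cfsg.Geo.scalars (Fin n) F)
    {w : GL (Fin n) F} (hw : w ∈ R ⊔ Cfsg.Geo.scalars (Fin n) F) :
    g⁻¹ * w * g ∈ R ⊔ Cfsg.Geo.scalars (Fin n) F := by
  rw [hN]
  have : g * (g⁻¹ * w * g) * g⁻¹ = w := by group
  rw [this]
  exact hw

/-- Case B for `ϖ` odd and different from `r`. -/
theorem caseB_coprime (hE : Ext R r) {g : GL (Fin n) F}
    (hN : ∀ w, w ∈ R ⊔ Cfsg.Geo.scalars (Fin n) F ↔
      g * w * g⁻¹ ∈ R ⊔ Cfsg.Geo.scalars (Fin n) F)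
    {ϖ : ℕ} (hϖ : ϖ.Prime) (hodd : Odd ϖ) (hne : ϖ ≠ r) (hgϖ : g ^ ϖ = 1)
    {x₀ : GL (Fin n) F} (hx₀ : x₀ ∈ R) (hB : ∀ t : F, ¬ TC g x₀ t) (c : F) :
    2 * finrank F (eig g c) ≤ n := by
  haveI := hE.npos
  by_contra hcon
  -- all the `b`'s commute
  have hcomm : ∀ x ∈ R, ∀ k : ℕ,
      TC (x⁻¹ * (g * x * g⁻¹)) (x⁻¹ * (g ^ k * x * (g ^ k)⁻¹)) 1 := by
    intro x hx k
    have hxRZ : x ∈ R ⊔ Cfsg.Geo.scalars (Fin n) F := Subgroup.mem_sup_left hx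
    have h1 : x⁻¹ * (g * x * g⁻¹) ∈ R ⊔ Cfsg.Geo.scalars (Fin n) F :=
      Subgroup.mul_mem _ (Subgroup.inv_mem _ hxRZ) ((hN _).1 hxRZ)
    have h2 : x⁻¹ * (g ^ k * x * (g ^ k)⁻¹) ∈ R ⊔ Cfsg.Geo.scalars (Fin n) F :=
      Subgroup.mul_mem _ (Subgroup.inv_mem _ hxRZ) (conj_pow_mem hN k hxRZ)
    obtain ⟨s, _, hs⟩ := hE.comm_RZ h1 h2
    by_cases hs1 : s = 1
    · rwa [hs1] at hs
    · exact absurd (two_mul_finrank_le_of_noncomm hs hs1 c) hcon
  -- every x in R commutes with g x g⁻¹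
  have hcomm1 : ∀ x ∈ R, TC x (g * x * g⁻¹) 1 := by
    intro x hx
    have hxRZ : x ∈ R ⊔ Cfsg.Geo.scalars (Fin n) F := Subgroup.mem_sup_left hx
    have hq : ∀ k : ℕ, ∃ q : F, q ^ r = 1 ∧ TC x (g ^ k * x * (g ^ k)⁻¹) q :=
      fun k => hE.comm_RZ hxRZ (conj_pow_mem hN k hxRZ)
    choose q hqr hq using hq
    have hq0 : q 0 = 1 := by
      have h1 := hq 0
      simp only [pow_zero, one_mul, inv_one, mul_one] at h1
      exact h1.unique (TC.self x)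
    have hstep : ∀ k : ℕ, q (k + 1) = q 1 * q k := by
      intro k
      have h0 := hcomm x hx (k + 1)
      have hx1 : g ^ 1 * x * (g ^ 1)⁻¹ = g * x * g⁻¹ := by rw [pow_one]
      have hq1 := hq 1
      rw [hx1] at hq1
      have a1 : TC x⁻¹ x⁻¹ 1 := TC.self _
      have a2 : TC x⁻¹ (g ^ (k + 1) * x * (g ^ (k + 1))⁻¹) (q (k + 1))⁻¹ := (hq (k + 1)).inv_left
      have a3 : TC (g * x * g⁻¹) x⁻¹ (q 1) := by
        have := hq1.symm.inv_right
        rwa [inv_inv] at this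
      have a4 : TC (g * x * g⁻¹) (g ^ (k + 1) * x * (g ^ (k + 1))⁻¹) (q k) := by
        have := (hq k).conj g
        have h5 : g * (g ^ k * x * (g ^ k)⁻¹) * g⁻¹ = g ^ (k + 1) * x * (g ^ (k + 1))⁻¹ := by
          rw [pow_succ']
          group
        rwa [h5] at this
      have a5 := (a1.mul_right a2).mul_left (a3.mul_right a4)
      have a6 := a5.unique h0
      have hne0 : q (k + 1) ≠ 0 := (hq (k + 1)).ne_zero
      field_simp at a6
      rw [a6]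
    have hpow : ∀ k : ℕ, q k = q 1 ^ k := by
      intro k
      induction k with
      | zero => rw [hq0, pow_zero]
      | succ k ih => rw [hstep, ih, pow_succ']
    have hqϖ : q ϖ = 1 := by
      have h1 := hq ϖ
      rw [hgϖ] at h1
      simp only [one_mul, inv_one, mul_one] at h1
      exact h1.unique (TC.self x)
    have h1 : q 1 ^ ϖ = 1 := by rw [← hpow, hqϖ]
    have h2 : q 1 ^ r = 1 := hqr 1
    have hcop : Nat.gcd ϖ r = 1 := (Nat.coprime_primes hϖ hE.prime).2 hne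
    have h3 : q 1 ^ Nat.gcd ϖ r = 1 := pow_gcd_eq_one.2 ⟨h1, h2⟩
    rw [hcop, pow_one] at h3
    have h4 := hq 1
    rwa [pow_one, h3] at h4
  -- polarization: g² acts trivially on R modulo scalars
  have hsq : ∀ y ∈ R, ∃ z : F, TC (g ^ 2) y z := by
    intro y hy
    have hyRZ : y ∈ R ⊔ Cfsg.Geo.scalars (Fin n) F := Subgroup.mem_sup_left hy
    have hw : (g * y * g⁻¹) * (g⁻¹ * y * g)⁻¹ ∈ Cfsg.Geo.scalars (Fin n) F := by
      apply hE.cent
      intro x hx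
      have hxRZ : x ∈ R ⊔ Cfsg.Geo.scalars (Fin n) F := Subgroup.mem_sup_left hx
      obtain ⟨s, _, hs⟩ := hE.comm_RZ hxRZ ((hN _).1 hyRZ)
      obtain ⟨t, _, ht⟩ := hE.comm_RZ hyRZ ((hN _).1 hxRZ)
      have b1 := hcomm1 x hx
      have b2 := hcomm1 y hy
      have b3 := hcomm1 (x * y) (R.mul_mem hx hy)
      have h5 : g * (x * y) * g⁻¹ = (g * x * g⁻¹) * (g * y * g⁻¹) := by group
      rw [h5] at b3
      have b4 := (b1.mul_right hs).mul_left (ht.mul_right b2)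
      have b5 := b4.unique b3
      have hs0 := hs.ne_zero
      have ht0 := ht.ne_zero
      -- TC x (g⁻¹ y g) s
      have b6 : TC x (g⁻¹ * y * g) t⁻¹ := by
        have := (ht.conj g⁻¹).symm
        have h6 : g⁻¹ * (g * x * g⁻¹) * g⁻¹⁻¹ = x := by group
        have h7 : g⁻¹ * y * g⁻¹⁻¹ = g⁻¹ * y * g := by group
        rwa [h6, h7] at this
      have b7 := hs.mul_right b6.inv_right
      have hst : s * t⁻¹⁻¹ = 1 := by
        rw [inv_inv]
        simpa using b5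
      rw [hst] at b7
      exact ((TC_one_iff _ _).1 b7).symm
    obtain ⟨z, hz⟩ := (Cfsg.Geo.mem_scalars_iff _).1 hw
    refine ⟨(z : F), ?_⟩
    rw [TC_iff_mul]
    have h1 : g ^ 2 * y = g * ((g * y * g⁻¹) * (g⁻¹ * y * g)⁻¹) * (g⁻¹ * y * g) * g := by
      rw [pow_two]
      group
    have h2 : y * g ^ 2 = g * (g⁻¹ * y * g) * g := by
      rw [pow_two]
      group
    rw [h1, h2]
    simp only [Units.val_mul] at hz ⊢
    rw [hz]
    simp only [Matrix.mul_smul, Matrix.smul_mul, Matrix.mul_one]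
  -- hence g acts trivially on R modulo scalars
  obtain ⟨m, hm⟩ := hodd
  obtain ⟨z, hz⟩ := hsq x₀ hx₀
  have h1 := hz.pow_left (m + 1)
  have h2 : (g ^ 2) ^ (m + 1) = g := by
    rw [← pow_mul, show 2 * (m + 1) = ϖ + 1 by omega, pow_succ, hgϖ, one_mul]
  rw [h2] at h1
  exact hB _ h1

end Cfsg.Agent.Helper17.ExtraEig
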