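import Mathlib

/-!
# A fixed point lemma for an element of prime order normalising an abelian group of exponent `r`
(helper17)
-/

set_option autoImplicit false

namespace Cfsg.Agent.Helper17.ExtraEig

/-- Let `Rb` be a finite abelian subgroup of exponent `r` (prime) normalised by `γ` with `γ ^ r = 1`.
If `γ` does not centralise `Rb`, some commutator `a = u⁻¹ (γ u γ⁻¹)`, `u ∈ Rb`, is nontrivial and
centralised by `γ`. -/
theorem exists_fixed_comm {P : Type*} [Group P] (r : ℕ) [hr : Fact r.Prime] (Rb : Subgroup P)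
    [Finite Rb] (hcomm : ∀ u ∈ Rb, ∀ v ∈ Rb, u * v = v * u) (hexp : ∀ u ∈ Rb, u ^ r = 1)
    (γ : P) (hγ : γ ^ r = 1) (hnorm : ∀ u ∈ Rb, γ * u * γ⁻¹ ∈ Rb)
    (u₀ : P) (hu₀ : u₀ ∈ Rb) (hne : γ * u₀ * γ⁻¹ ≠ u₀) :
    ∃ u ∈ Rb, u⁻¹ * (γ * u * γ⁻¹) ≠ 1 ∧
      γ * (u⁻¹ * (γ * u * γ⁻¹)) * γ⁻¹ = u⁻¹ * (γ * u * γ⁻¹) := by
  classical
  -- the subgroup of commutators
  let I : Subgroup P :=
    { carrier := {a | ∃ u ∈ Rb, a = u⁻¹ * (γ * u * γ⁻¹)}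
      mul_mem' := by
        rintro a b ⟨u, hu, rfl⟩ ⟨v, hv, rfl⟩
        refine ⟨u * v, Rb.mul_mem hu hv, ?_⟩
        have h1 : γ * (u * v) * γ⁻¹ = (γ * u * γ⁻¹) * (γ * v * γ⁻¹) := by group
        rw [h1, mul_inv_rev]
        have h2 := hcomm _ (Rb.inv_mem hv) _ (hnorm u hu)
        have h3 := hcomm _ (Rb.inv_mem hu) _ (Rb.inv_mem hv)
        calc u⁻¹ * (γ * u * γ⁻¹) * (v⁻¹ * (γ * v * γ⁻¹))
            = u⁻¹ * ((γ * u * γ⁻¹) * v⁻¹) * (γ * v * γ⁻¹) := by group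
          _ = u⁻¹ * (v⁻¹ * (γ * u * γ⁻¹)) * (γ * v * γ⁻¹) := by rw [h2]
          _ = (u⁻¹ * v⁻¹) * ((γ * u * γ⁻¹) * (γ * v * γ⁻¹)) := by group
          _ = v⁻¹ * u⁻¹ * (γ * u * γ⁻¹ * (γ * v * γ⁻¹)) := by rw [h3]
      one_mem' := ⟨1, Rb.one_mem, by group⟩
      inv_mem' := by
        rintro a ⟨u, hu, rfl⟩
        refine ⟨u⁻¹, Rb.inv_mem hu, ?_⟩
        have h2 := hcomm _ (Rb.inv_mem (hnorm u hu)) _ hu
        calc (u⁻¹ * (γ * u * γ⁻¹))⁻¹ = (γ * u * γ⁻¹)⁻¹ * u := by group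
          _ = u * (γ * u * γ⁻¹)⁻¹ := h2
          _ = u⁻¹⁻¹ * (γ * u⁻¹ * γ⁻¹) := by group }
  have hI_mem : ∀ a, a ∈ I ↔ ∃ u ∈ Rb, a = u⁻¹ * (γ * u * γ⁻¹) := fun a => Iff.rfl
  have hI_le : I ≤ Rb := by
    rintro a ⟨u, hu, rfl⟩
    exact Rb.mul_mem (Rb.inv_mem hu) (hnorm u hu)
  haveI : Finite I := Finite.of_injective (Subgroup.inclusion hI_le)
    (Subgroup.inclusion_injective hI_le)
  -- conjugation by powers of γ preserves I
  have hconj1 : ∀ a ∈ I, γ * a * γ⁻¹ ∈ I := by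
    rintro a ⟨u, hu, rfl⟩
    refine ⟨γ * u * γ⁻¹, hnorm u hu, ?_⟩
    group
  have hconjk : ∀ k : ℕ, ∀ a ∈ I, γ ^ k * a * (γ ^ k)⁻¹ ∈ I := by
    intro k
    induction k with
    | zero => intro a ha; simpa using ha
    | succ k ih =>
      intro a ha
      have h1 : γ ^ (k + 1) * a * (γ ^ (k + 1))⁻¹ = γ * (γ ^ k * a * (γ ^ k)⁻¹) * γ⁻¹ := by
        rw [pow_succ']
        group
      rw [h1]
      exact hconj1 _ (ih a ha)
  -- the acting group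
  let Γ : Subgroup P := Subgroup.zpowers γ
  have hΓ_mem : ∀ h ∈ Γ, ∃ k : ℕ, h = γ ^ k := by
    intro h hh
    have hfin : IsOfFinOrder γ := isOfFinOrder_iff_pow_eq_one.2 ⟨r, hr.out.pos, hγ⟩
    have := (hfin.mem_powers_iff_mem_zpowers).2 hh
    obtain ⟨k, hk⟩ := this
    exact ⟨k, hk.symm⟩
  have hΓ_conj : ∀ h ∈ Γ, ∀ a ∈ I, h * a * h⁻¹ ∈ I := by
    intro h hh a ha
    obtain ⟨k, rfl⟩ := hΓ_mem h hh
    exact hconjk k a ha
  letI : MulAction Γ I :=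
    { smul := fun h a => ⟨h * a * (h : P)⁻¹, hΓ_conj h h.2 a a.2⟩
      one_smul := by
        intro a
        apply Subtype.ext
        show ((1 : Γ) : P) * a * ((1 : Γ) : P)⁻¹ = a
        simp
      mul_smul := by
        intro h1 h2 a
        apply Subtype.ext
        show ((h1 * h2 : Γ) : P) * a * ((h1 * h2 : Γ) : P)⁻¹ =
          (h1 : P) * ((h2 : P) * a * (h2 : P)⁻¹) * (h1 : P)⁻¹
        rw [Subgroup.coe_mul]
        group }
  have hsmul : ∀ (h : Γ) (a : I), ((h • a : I) : P) = (h : P) * a * (h : P)⁻¹ := fun _ _ => rfl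
  have hΓp : IsPGroup r Γ := by
    intro h
    refine ⟨1, ?_⟩
    obtain ⟨k, hk⟩ := hΓ_mem h h.2
    apply Subtype.ext
    rw [pow_one, Subgroup.coe_pow, hk, ← pow_mul, mul_comm, pow_mul, hγ, one_pow]
    rfl
  have hIp : IsPGroup r I := by
    intro a
    refine ⟨1, ?_⟩
    apply Subtype.ext
    rw [pow_one, Subgroup.coe_pow, hexp _ (hI_le a.2)]
    rfl
  have hInontriv : Nontrivial I := by
    refine ⟨⟨⟨u₀⁻¹ * (γ * u₀ * γ⁻¹), u₀, hu₀, rfl⟩, 1, ?_⟩⟩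
    intro h
    have h1 : u₀⁻¹ * (γ * u₀ * γ⁻¹) = 1 := congrArg Subtype.val h
    apply hne
    calc γ * u₀ * γ⁻¹ = u₀ * (u₀⁻¹ * (γ * u₀ * γ⁻¹)) := by group
      _ = u₀ := by rw [h1, mul_one]
  have hdvd : r ∣ Nat.card I := by
    obtain ⟨m, hm0, hm⟩ := (hIp.nontrivial_iff_card).1 hInontriv
    rw [hm]
    exact dvd_pow_self r (Nat.pos_iff_ne_zero.1 hm0)
  have hone : (1 : I) ∈ MulAction.fixedPoints Γ I := by
    intro h
    apply Subtype.ext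
    rw [hsmul]
    simp
  obtain ⟨b, hb, hb1⟩ := hΓp.exists_fixed_point_of_prime_dvd_card_of_fixed_point I hdvd hone
  obtain ⟨u, hu, hbu⟩ := (hI_mem b).1 b.2
  refine ⟨u, hu, ?_, ?_⟩
  · rw [← hbu]
    intro h
    apply hb1
    apply Subtype.ext
    rw [h]
    rfl
  · rw [← hbu]
    have := hb ⟨γ, Subgroup.mem_zpowers γ⟩
    have h2 := congrArg Subtype.val this
    rwa [hsmul] at h2

end Cfsg.Agent.Helper17.ExtraEig
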