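import Mathlib
import Cfsg.Agent.Lib.Helper17.ExtraEigE
import Cfsg.Agent.Lib.Helper17.ExtraEigF

/-!
# Eigenspace bounds: a commutator centralised by `g` when the order of `g` is `r` (helper17)
-/

set_option autoImplicit false

namespace Cfsg.Agent.Helper17.ExtraEig

open Module Matrix

variable {F : Type*} [Field F] {n : ℕ} {R : Subgroup (GL (Fin n) F)} {r : ℕ}

theorem mk_eq_iff [NeZero n] (a b : GL (Fin n) F) :
    ((a : GL (Fin n) F ⧸ Cfsg.Geo.scalars (Fin n) F)) = (b : GL (Fin n) F ⧸ Cfsg.Geo.scalars (Fin n) F) ↔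
      ∃ t : F, (b : Matrix (Fin n) (Fin n) F) = t • (a : Matrix (Fin n) (Fin n) F) := by
  rw [QuotientGroup.eq, Cfsg.Geo.mem_scalars_iff]
  constructor
  · rintro ⟨c, hc⟩
    refine ⟨(c : F), ?_⟩
    have h1 : b = a * (a⁻¹ * b) := by group
    rw [h1, Units.val_mul, hc, Matrix.mul_smul, Matrix.mul_one]
  · rintro ⟨t, ht⟩
    have ht0 : t ≠ 0 := by
      rintro rfl
      rw [zero_smul] at ht
      have h1 : IsUnit ((b : GL (Fin n) F) : Matrix (Fin n) (Fin n) F) := b.isUnit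
      rw [ht] at h1
      haveI : Nonempty (Fin n) := ⟨⟨0, Nat.pos_of_ne_zero (NeZero.ne n)⟩⟩
      exact not_isUnit_zero h1
    refine ⟨Units.mk0 t ht0, ?_⟩
    rw [Units.val_mul, ht, Matrix.mul_smul, ← Units.val_mul, inv_mul_cancel, Units.val_one,
      Units.val_mk0]

/-- When `g ^ r = 1` and `g` does not centralise `R` modulo scalars, there is `x ∈ R` such that
`a = x⁻¹ (g x g⁻¹)` is not scalar but is centralised by `g` modulo scalars. -/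
theorem exists_special [Finite F] (hE : Ext R r) (hexpR : ∀ x ∈ R, x ^ r = 1) {g : GL (Fin n) F}
    (hN : ∀ w, w ∈ R ⊔ Cfsg.Geo.scalars (Fin n) F ↔
      g * w * g⁻¹ ∈ R ⊔ Cfsg.Geo.scalars (Fin n) F)
    (hgr : g ^ r = 1) {x₀ : GL (Fin n) F} (hx₀ : x₀ ∈ R) (hB : ∀ t : F, ¬ TC g x₀ t) :
    ∃ x ∈ R, x⁻¹ * (g * x * g⁻¹) ∉ Cfsg.Geo.scalars (Fin n) F ∧
      ∃ μ : F, TC g (x⁻¹ * (g * x * g⁻¹)) μ := by
  classical
  haveI := hE.npos
  haveI : Fact r.Prime := ⟨hE.prime⟩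
  let π : GL (Fin n) F →* GL (Fin n) F ⧸ Cfsg.Geo.scalars (Fin n) F :=
    QuotientGroup.mk' (Cfsg.Geo.scalars (Fin n) F)
  have hπ : ∀ a : GL (Fin n) F, π a = (a : GL (Fin n) F ⧸ Cfsg.Geo.scalars (Fin n) F) :=
    fun _ => rfl
  let Rb : Subgroup (GL (Fin n) F ⧸ Cfsg.Geo.scalars (Fin n) F) :=
    (R ⊔ Cfsg.Geo.scalars (Fin n) F).map π
  haveI : Finite (GL (Fin n) F ⧸ Cfsg.Geo.scalars (Fin n) F) := inferInstance
  have hcomm : ∀ u ∈ Rb, ∀ v ∈ Rb, u * v = v * u := by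
    rintro _ ⟨a, ha, rfl⟩ _ ⟨b, hb, rfl⟩
    obtain ⟨s, _, hs⟩ := hE.comm_RZ ha hb
    rw [← map_mul, ← map_mul, hπ, hπ, eq_comm, mk_eq_iff]
    exact ⟨s, (TC_iff_mul a b s).1 hs⟩
  have hexp : ∀ u ∈ Rb, u ^ r = 1 := by
    rintro _ ⟨a, ha, rfl⟩
    obtain ⟨x, hx, z, hz, rfl⟩ := (mem_RZ_iff R a).1 ha
    rw [← map_pow, ← map_one π, hπ, hπ, QuotientGroup.eq]
    have h1 : (x * z) ^ r = x ^ r * z ^ r :=
      (show Commute x z from (scalar_comm hz x).symm).mul_pow r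
    rw [h1, hexpR x hx, one_mul, mul_one]
    exact Subgroup.inv_mem _ (Subgroup.pow_mem _ hz r)
  have hγ : (π g) ^ r = 1 := by rw [← map_pow, hgr, map_one]
  have hnorm : ∀ u ∈ Rb, π g * u * (π g)⁻¹ ∈ Rb := by
    rintro _ ⟨a, ha, rfl⟩
    refine ⟨g * a * g⁻¹, (hN a).1 ha, ?_⟩
    rw [map_mul, map_mul, map_inv]
  have hu₀ : π x₀ ∈ Rb := ⟨x₀, Subgroup.mem_sup_left hx₀, rfl⟩
  have hne : π g * π x₀ * (π g)⁻¹ ≠ π x₀ := by
    intro h
    rw [← map_inv, ← map_mul, ← map_mul, hπ, hπ, mk_eq_iff] at h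
    obtain ⟨t, ht⟩ := h
    -- x₀ = t • g x₀ g⁻¹, so x₀ g = t • g x₀
    have ht0 : t ≠ 0 := by
      rintro rfl
      rw [zero_smul] at ht
      have h1 : IsUnit ((x₀ : GL (Fin n) F) : Matrix (Fin n) (Fin n) F) := x₀.isUnit
      rw [ht] at h1
      haveI : Nonempty (Fin n) := ⟨⟨0, Nat.pos_of_ne_zero (NeZero.ne n)⟩⟩
      exact not_isUnit_zero h1
    apply hB t⁻¹
    rw [TC_iff_mul]
    have h1 : ((x₀ * g : GL (Fin n) F) : Matrix (Fin n) (Fin n) F) =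
        t • ((g * x₀ : GL (Fin n) F) : Matrix (Fin n) (Fin n) F) := by
      have h2 : g * x₀ = (g * x₀ * g⁻¹) * g := by group
      rw [Units.val_mul x₀ g, ht, Matrix.smul_mul, ← Units.val_mul, ← h2]
    rw [h1, smul_smul, inv_mul_cancel₀ ht0, one_smul]
  obtain ⟨u, hu, hu1, hu2⟩ := exists_fixed_comm r Rb hcomm hexp (π g) hγ hnorm (π x₀) hu₀ hne
  obtain ⟨x', hx', rfl⟩ := hu
  obtain ⟨x, hx, z, hz, rfl⟩ := (mem_RZ_iff R x').1 hx'
  have hsame : (x * z)⁻¹ * (g * (x * z) * g⁻¹) = x⁻¹ * (g * x * g⁻¹) := by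
    have h1 := scalar_comm hz (x⁻¹ * (g * x))
    have h2 := scalar_comm hz g⁻¹
    calc (x * z)⁻¹ * (g * (x * z) * g⁻¹) = z⁻¹ * ((x⁻¹ * (g * x)) * z) * g⁻¹ := by group
      _ = z⁻¹ * (z * (x⁻¹ * (g * x))) * g⁻¹ := by rw [h1]
      _ = x⁻¹ * (g * x * g⁻¹) := by group
  have hmap1 : ∀ w : GL (Fin n) F, (π w)⁻¹ * (π g * π w * (π g)⁻¹) = π (w⁻¹ * (g * w * g⁻¹)) := by
    intro w
    simp only [map_mul, map_inv]
  have hmap2 : ∀ w : GL (Fin n) F, π g * π w * (π g)⁻¹ = π (g * w * g⁻¹) := by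
    intro w
    simp only [map_mul, map_inv]
  rw [hmap1, hsame] at hu1 hu2
  rw [hmap2] at hu2
  refine ⟨x, hx, ?_, ?_⟩
  · intro hs
    apply hu1
    rw [hπ, ← map_one π, hπ, QuotientGroup.eq, mul_one]
    exact Subgroup.inv_mem _ hs
  · rw [hπ, hπ, mk_eq_iff] at hu2
    obtain ⟨t, ht⟩ := hu2
    set a := x⁻¹ * (g * x * g⁻¹) with ha
    have ht0 : t ≠ 0 := by
      rintro rfl
      rw [zero_smul] at ht
      have h1 : IsUnit ((a : GL (Fin n) F) : Matrix (Fin n) (Fin n) F) := a.isUnit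
      rw [ht] at h1
      haveI : Nonempty (Fin n) := ⟨⟨0, Nat.pos_of_ne_zero (NeZero.ne n)⟩⟩
      exact not_isUnit_zero h1
    refine ⟨t⁻¹, ?_⟩
    rw [TC_iff_mul]
    have h1 : ((a * g : GL (Fin n) F) : Matrix (Fin n) (Fin n) F) =
        t • ((g * a : GL (Fin n) F) : Matrix (Fin n) (Fin n) F) := by
      have h2 : g * a = (g * a * g⁻¹) * g := by group
      rw [Units.val_mul a g, ht, Matrix.smul_mul, ← Units.val_mul, ← h2]
    rw [h1, smul_smul, inv_mul_cancel₀ ht0, one_smul]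

end Cfsg.Agent.Helper17.ExtraEig
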