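import Mathlib
import Cfsg.Agent.Lib.Helper17.ExtraEigG

/-!
# Eigenspace bounds: elements of order `r` (helper17)
-/

set_option autoImplicit false

namespace Cfsg.Agent.Helper17.ExtraEig

open Module Matrix

variable {F : Type*} [Field F] {n : ℕ} {R : Subgroup (GL (Fin n) F)} {r : ℕ}

theorem finrank_le_of_maps (A B : Submodule F (Fin n → F)) (x : GL (Fin n) F)
    (h : ∀ v ∈ A, (x : Matrix (Fin n) (Fin n) F) *ᵥ v ∈ B) : finrank F A ≤ finrank F B := by
  let ψ : A →ₗ[F] B :=
    LinearMap.codRestrict _ ((Matrix.toLin' (x : Matrix (Fin n) (Fin n) F)).comp A.subtype)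
      (fun v => by
        have := h v v.2
        simpa [Matrix.toLin'_apply] using this)
  have hψ : Function.Injective ψ := by
    intro a b hab
    have h1 : Matrix.toLin' (x : Matrix (Fin n) (Fin n) F) a =
        Matrix.toLin' (x : Matrix (Fin n) (Fin n) F) b := congrArg Subtype.val hab
    exact Subtype.ext (mulVec_injective x h1)
  exact LinearMap.finrank_le_finrank_of_injective hψ

/-- the joint eigenspace dimensions -/
noncomputable def jd (a g : GL (Fin n) F) (α lam : F) : ℕ :=
  finrank F ↥(eig a α ⊓ eig g lam)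

theorem comm_mulVec {a g : GL (Fin n) F} (h : g * a = a * g) (v : Fin n → F) :
    (g : Matrix (Fin n) (Fin n) F) *ᵥ ((a : Matrix (Fin n) (Fin n) F) *ᵥ v) =
      (a : Matrix (Fin n) (Fin n) F) *ᵥ ((g : Matrix (Fin n) (Fin n) F) *ᵥ v) := by
  rw [← mulVec_mul, ← mulVec_mul, h]

/-- decomposition of an eigenspace of `g` along the eigenspaces of a commuting `a` with `a^r = 1` -/
theorem finrank_eig_le_sum_jd {a g : GL (Fin n) F} (hr : r.Prime) (har : a ^ r = 1)
    (hga : g * a = a * g) (ζ : F) (hζ : IsPrimitiveRoot ζ r) (c : F) :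
    finrank F (eig g c) ≤ ∑ i : Fin r, jd a g (ζ ^ (i : ℕ)) c := by
  have h1 : (Matrix.toLin' (a : Matrix (Fin n) (Fin n) F)) ^ r = 1 := by
    rw [← Matrix.toLin'_pow, ← Units.val_pow_eq_pow_val, har, Units.val_one, Matrix.toLin'_one]
    rfl
  have h2 := finrank_le_sum_inf_eigenspace (Matrix.toLin' (a : Matrix (Fin n) (Fin n) F)) r hr h1
    ζ hζ (eig g c) (by
      intro v hv
      rw [mem_eig] at hv
      rw [Matrix.toLin'_apply, mem_eig, comm_mulVec hga, hv, Matrix.mulVec_smul])
  refine h2.trans (le_of_eq ?_)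
  refine Finset.sum_congr rfl fun i _ => ?_
  unfold jd
  rw [inf_comm]
  rfl

/-- one step: `x` maps joint eigenspaces to joint eigenspaces. -/
theorem jd_step [NeZero n] {a g x : GL (Fin n) F} {θ : F} (hθ : TC x a θ)
    (hxg : g * x = x * (a * g)) (α lam : F) :
    jd a g α lam ≤ jd a g (θ⁻¹ * α) (α * lam) := by
  unfold jd
  apply finrank_le_of_maps _ _ x
  intro v hv
  obtain ⟨h1, h2⟩ := Submodule.mem_inf.1 hv
  rw [mem_eig] at h1 h2
  refine Submodule.mem_inf.2 ⟨?_, ?_⟩
  · rw [mem_eig, hθ.symm.mulVec, h1, Matrix.mulVec_smul, smul_smul]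
  · rw [mem_eig, ← mulVec_mul, hxg, mulVec_mul, mulVec_mul, h2, Matrix.mulVec_smul, h1,
      Matrix.mulVec_smul, Matrix.mulVec_smul, smul_smul, mul_comm]

theorem jd_iter [NeZero n] {a g x : GL (Fin n) F} {θ : F} (hθ : TC x a θ)
    (hxg : g * x = x * (a * g)) (k : ℕ) (α lam : F) :
    jd a g α lam ≤
      jd a g ((θ⁻¹) ^ k * α) (α ^ k * (θ⁻¹) ^ (∑ l ∈ Finset.range k, l) * lam) := by
  induction k with
  | zero => simp
  | succ k ih =>
    refine ih.trans ((jd_step hθ hxg _ _).trans (le_of_eq ?_))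
    rw [Finset.sum_range_succ]
    congr 1
    · rw [pow_succ]; ring
    · rw [pow_succ, pow_add]; ring

end Cfsg.Agent.Helper17.ExtraEig

namespace Cfsg.Agent.Helper17.ExtraEig

open Module Matrix

variable {F : Type*} [Field F] {n : ℕ} {R : Subgroup (GL (Fin n) F)} {r : ℕ}

theorem sum_jd_le (a g : GL (Fin n) F) (α : F) (S : Finset F) :
    ∑ lam ∈ S, jd a g α lam ≤ finrank F (eig a α) := by
  classical
  rw [← Finset.sum_coe_sort S]
  unfold jd
  apply sum_finrank_le_of_indep_le (fun lam : S => eig a α ⊓ eig g (lam : F)) _ (eig a α)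
    (fun _ => inf_le_left)
  have h0 : iSupIndep (fun lam : S => eig g (lam : F)) := by
    have := (Module.End.eigenspaces_iSupIndep
      (Matrix.toLin' (g : Matrix (Fin n) (Fin n) F))).comp (f := fun lam : S => (lam : F))
      Subtype.val_injective
    exact this
  exact h0.mono fun _ => inf_le_right

theorem primitive_of_ne_one {ρ : F} (hr : r.Prime) (h1 : ρ ≠ 1) (hρ : ρ ^ r = 1) :
    IsPrimitiveRoot ρ r := by
  have hdvd : orderOf ρ ∣ r := orderOf_dvd_of_pow_eq_one hρ
  rcases (Nat.dvd_prime hr).1 hdvd with h | h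
  · exact absurd (orderOf_eq_one_iff.1 h) h1
  · rw [← h]
    exact IsPrimitiveRoot.orderOf ρ

/-- the commuting subcase -/
theorem bound_comm (hE : Ext R r) {a g x : GL (Fin n) F}
    (haRZ : a ∈ R ⊔ Cfsg.Geo.scalars (Fin n) F) (hans : a ∉ Cfsg.Geo.scalars (Fin n) F)
    (har : a ^ r = 1) (hga : g * a = a * g) (hxa : TC x a 1) (hxg : g * x = x * (a * g))
    (c : F) (hc : c ≠ 0) :
    r * r * finrank F (eig g c) ≤ r * n + (r - 1) * n := by
  classical
  haveI := hE.npos
  have hr := hE.prime
  obtain ⟨u, _, s, hs1, hsr, _⟩ := hE.exists_twist haRZ hans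
  have hζ : IsPrimitiveRoot s r := primitive_of_ne_one hr hs1 hsr
  have hV : ∀ α : F, r * finrank F (eig a α) ≤ n := fun α => hE.finrank_eig_le haRZ hans α
  have h1 := finrank_eig_le_sum_jd hr har hga s hζ c
  have hxa' : x * a = a * x := (TC_one_iff x a).1 hxa
  have hterm : ∀ i : Fin r, r * r * jd a g (s ^ (i : ℕ)) c ≤
      n + (if (i : ℕ) = 0 then (r - 1) * n else 0) := by
    intro i
    by_cases hi : (i : ℕ) = 0
    · rw [if_pos hi, hi, pow_zero]
      have h2 : jd a g 1 c ≤ finrank F (eig a 1) := Submodule.finrank_mono inf_le_left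
      have h3 := hV 1
      have h4 : n + (r - 1) * n = r * n := by
        have := hr.one_le
        nlinarith [Nat.sub_add_cancel this]
      rw [h4]
      calc r * r * jd a g 1 c ≤ r * r * finrank F (eig a 1) := Nat.mul_le_mul_left _ h2
        _ = r * (r * finrank F (eig a 1)) := by ring
        _ ≤ r * n := Nat.mul_le_mul_left _ h3
    · rw [if_neg hi, add_zero]
      have hne1 : s ^ (i : ℕ) ≠ 1 := by
        intro h
        have := (hζ.pow_eq_one_iff_dvd _).1 h
        have := Nat.le_of_dvd (Nat.pos_of_ne_zero hi) this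
        have := i.2
        omega
      have hpr : (s ^ (i : ℕ)) ^ r = 1 := by rw [← pow_mul, mul_comm, pow_mul, hsr, one_pow]
      have h2 := mul_finrank_inf_eigenspace_le (Matrix.toLin' (g : Matrix (Fin n) (Fin n) F))
        (Matrix.toLin' (x : Matrix (Fin n) (Fin n) F)) (eig a (s ^ (i : ℕ)))
        (by
          intro v hv
          rw [mem_eig] at hv
          rw [Matrix.toLin'_apply, mem_eig, ← mulVec_mul, ← hxa', mulVec_mul, hv,
            Matrix.mulVec_smul])
        (by
          intro v _ hv0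
          exact mulVec_injective x (by rw [hv0, map_zero]))
        (s ^ (i : ℕ)) r hr hne1 hpr
        (by
          intro v hv
          rw [mem_eig] at hv
          rw [Matrix.toLin'_apply, Matrix.toLin'_apply, Matrix.toLin'_apply, Matrix.toLin'_apply,
            ← mulVec_mul, hxg, mulVec_mul, mulVec_mul, ← comm_mulVec hga, hv, Matrix.mulVec_smul,
            Matrix.mulVec_smul])
        c hc
      have h3 : r * jd a g (s ^ (i : ℕ)) c ≤ finrank F (eig a (s ^ (i : ℕ))) := h2
      calc r * r * jd a g (s ^ (i : ℕ)) c = r * (r * jd a g (s ^ (i : ℕ)) c) := by ring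
        _ ≤ r * finrank F (eig a (s ^ (i : ℕ))) := Nat.mul_le_mul_left _ h3
        _ ≤ n := hV _
  calc r * r * finrank F (eig g c) ≤ r * r * ∑ i : Fin r, jd a g (s ^ (i : ℕ)) c :=
        Nat.mul_le_mul_left _ h1
    _ = ∑ i : Fin r, r * r * jd a g (s ^ (i : ℕ)) c := by rw [Finset.mul_sum]
    _ ≤ ∑ i : Fin r, (n + (if (i : ℕ) = 0 then (r - 1) * n else 0)) :=
        Finset.sum_le_sum fun i _ => hterm i
    _ = r * n + (r - 1) * n := by
        rw [Finset.sum_add_distrib, Finset.sum_const, Finset.card_univ, Fintype.card_fin,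
          smul_eq_mul]
        congr 1
        rw [Finset.sum_eq_single (⟨0, hr.pos⟩ : Fin r)]
        · simp
        · intro j _ hj
          rw [if_neg]
          intro h0
          exact hj (Fin.ext h0)
        · intro h
          exact absurd (Finset.mem_univ _) h

end Cfsg.Agent.Helper17.ExtraEig
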