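import Mathlib
import Cfsg.Agent.Lib.Helper17.ExtraEigH

/-!
# Eigenspace bounds: elements of order `r`, the non-commuting subcase and the main theorem (helper17)
-/

set_option autoImplicit false

namespace Cfsg.Agent.Helper17.ExtraEig

open Module Matrix

variable {F : Type*} [Field F] {n : ℕ} {R : Subgroup (GL (Fin n) F)} {r : ℕ}

/-- the exponent appearing when moving from the `ρ^i`-eigenspace of `a` back to the `1`-eigenspace -/
def mexp (r i : ℕ) : ℕ := i * (r - i) + ∑ l ∈ Finset.range (r - i), l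

theorem mexp_cast (r : ℕ) [Fact r.Prime] (i : ℕ) (hi : i < r) :
    ((mexp r i : ℕ) : ZMod r) * 2 = (i : ZMod r) - (i : ZMod r) ^ 2 := by
  unfold mexp
  have h1 : ((r - i : ℕ) : ZMod r) = -(i : ZMod r) := by
    rw [Nat.cast_sub hi.le, ZMod.natCast_self, zero_sub]
  have h2 : ((r - i - 1 : ℕ) : ZMod r) = -(i : ZMod r) - 1 := by
    rw [Nat.cast_sub (by omega), h1, Nat.cast_one]
  have h3 := Finset.sum_range_id_mul_two (r - i)
  have h4 : ((∑ l ∈ Finset.range (r - i), l : ℕ) : ZMod r) * 2 =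
      (-(i : ZMod r)) * (-(i : ZMod r) - 1) := by
    have := congrArg (fun t : ℕ => (t : ZMod r)) h3
    simp only [Nat.cast_mul] at this
    rw [h1, h2] at this
    rw [← this]
    norm_num
  rw [Nat.cast_add, Nat.cast_mul, h1, add_mul, h4]
  ring

theorem fiber_card_le_two (hr : r.Prime) (hr2 : r ≠ 2) {ρ : F} (hρ : IsPrimitiveRoot ρ r)
    (c : F) (hc : c ≠ 0) [DecidableEq F] (lam : F) :
    (Finset.univ.filter (fun i : Fin r => ρ ^ mexp r (i : ℕ) * c = lam)).card ≤ 2 := by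
  haveI : Fact r.Prime := ⟨hr⟩
  by_contra hcon
  rw [not_le, Finset.two_lt_card] at hcon
  obtain ⟨i1, h1, i2, h2, i3, h3, h12, h13, h23⟩ := hcon
  rw [Finset.mem_filter] at h1 h2 h3
  have hfin : IsOfFinOrder ρ := isOfFinOrder_iff_pow_eq_one.2 ⟨r, hr.pos, hρ.pow_eq_one⟩
  have hord : orderOf ρ = r := hρ.eq_orderOf.symm
  have h2inv : (2 : ZMod r) ≠ 0 := by
    intro h
    have h' : ((2 : ℕ) : ZMod r) = 0 := by exact_mod_cast h
    rw [ZMod.natCast_eq_zero_iff] at h'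
    have := (Nat.prime_dvd_prime_iff_eq hr Nat.prime_two).1 h'
    exact hr2 this
  have key : ∀ i j : Fin r, ρ ^ mexp r (i : ℕ) * c = ρ ^ mexp r (j : ℕ) * c →
      ((i : ℕ) : ZMod r) = ((j : ℕ) : ZMod r) ∨ ((i : ℕ) : ZMod r) + ((j : ℕ) : ZMod r) = 1 := by
    intro i j hij
    have h4 : ρ ^ mexp r (i : ℕ) = ρ ^ mexp r (j : ℕ) := mul_right_cancel₀ hc hij
    rw [hfin.pow_eq_pow_iff_modEq, hord] at h4
    have h5 : ((mexp r (i : ℕ) : ℕ) : ZMod r) = ((mexp r (j : ℕ) : ℕ) : ZMod r) :=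
      (ZMod.natCast_eq_natCast_iff _ _ _).2 h4
    have h6 := mexp_cast r (i : ℕ) i.2
    have h7 := mexp_cast r (j : ℕ) j.2
    rw [h5, h7] at h6
    have h8 : (((i : ℕ) : ZMod r) - ((j : ℕ) : ZMod r)) *
        (1 - ((i : ℕ) : ZMod r) - ((j : ℕ) : ZMod r)) = 0 := by
      linear_combination -h6
    rcases mul_eq_zero.1 h8 with h9 | h9
    · left
      exact sub_eq_zero.1 h9
    · right
      linear_combination -h9
  have hinj : ∀ i j : Fin r, ((i : ℕ) : ZMod r) = ((j : ℕ) : ZMod r) → i = j := by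
    intro i j hij
    rw [ZMod.natCast_eq_natCast_iff'] at hij
    rw [Nat.mod_eq_of_lt i.2, Nat.mod_eq_of_lt j.2] at hij
    exact Fin.ext hij
  have k12 := key i1 i2 (by rw [h1.2, h2.2])
  have k13 := key i1 i3 (by rw [h1.2, h3.2])
  rcases k12 with e12 | e12
  · exact h12 (hinj _ _ e12)
  rcases k13 with e13 | e13
  · exact h13 (hinj _ _ e13)
  apply h23
  apply hinj
  have : ((i1 : ℕ) : ZMod r) + ((i2 : ℕ) : ZMod r) = ((i1 : ℕ) : ZMod r) + ((i3 : ℕ) : ZMod r) := by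
    rw [e12, e13]
  exact add_left_cancel this

/-- the non-commuting subcase -/
theorem bound_noncomm (hE : Ext R r) (hr2 : r ≠ 2) {a g x : GL (Fin n) F}
    (haRZ : a ∈ R ⊔ Cfsg.Geo.scalars (Fin n) F) (hans : a ∉ Cfsg.Geo.scalars (Fin n) F)
    (har : a ^ r = 1) (hga : g * a = a * g) {θ : F} (hθ : TC x a θ) (hθ1 : θ ≠ 1)
    (hθr : θ ^ r = 1) (hxg : g * x = x * (a * g)) (c : F) (hc : c ≠ 0) :
    r * finrank F (eig g c) ≤ 2 * n := by
  classical
  haveI := hE.npos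
  have hr := hE.prime
  have hθ0 : θ ≠ 0 := hθ.ne_zero
  have hρ1 : θ⁻¹ ≠ 1 := fun h => hθ1 (inv_eq_one.1 h)
  have hρr : θ⁻¹ ^ r = 1 := by rw [inv_pow, hθr, inv_one]
  have hρ : IsPrimitiveRoot θ⁻¹ r := primitive_of_ne_one hr hρ1 hρr
  have hV : ∀ α : F, r * finrank F (eig a α) ≤ n := fun α => hE.finrank_eig_le haRZ hans α
  have h1 := finrank_eig_le_sum_jd hr har hga θ⁻¹ hρ c
  have hterm : ∀ i : Fin r, jd a g (θ⁻¹ ^ (i : ℕ)) c ≤ jd a g 1 (θ⁻¹ ^ mexp r (i : ℕ) * c) := by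
    intro i
    have h2 := jd_iter hθ hxg (r - (i : ℕ)) (θ⁻¹ ^ (i : ℕ)) c
    refine h2.trans (le_of_eq ?_)
    congr 1
    · rw [← pow_add, Nat.sub_add_cancel i.2.le, hρr]
    · unfold mexp
      rw [← pow_mul, ← pow_add]
  let ψ : Fin r → F := fun i => θ⁻¹ ^ mexp r (i : ℕ) * c
  have h3 : ∑ i : Fin r, jd a g 1 (ψ i) ≤ 2 * finrank F (eig a 1) := by
    have h4 := Finset.sum_comp (s := (Finset.univ : Finset (Fin r))) (fun lam => jd a g 1 lam) ψ
    rw [h4]
    calc ∑ b ∈ Finset.univ.image ψ,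
          (Finset.univ.filter (fun i : Fin r => ψ i = b)).card • jd a g 1 b
        ≤ ∑ b ∈ Finset.univ.image ψ, 2 * jd a g 1 b := by
          refine Finset.sum_le_sum fun b _ => ?_
          rw [smul_eq_mul]
          exact Nat.mul_le_mul_right _ (fiber_card_le_two hr hr2 hρ c hc b)
      _ = 2 * ∑ b ∈ Finset.univ.image ψ, jd a g 1 b := by rw [Finset.mul_sum]
      _ ≤ 2 * finrank F (eig a 1) := Nat.mul_le_mul_left _ (sum_jd_le a g 1 _)
  have h5 : finrank F (eig g c) ≤ 2 * finrank F (eig a 1) :=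
    h1.trans ((Finset.sum_le_sum fun i _ => hterm i).trans h3)
  have h6 := hV 1
  nlinarith

/-- Case B when the order of `g` is `r ≥ 5`. -/
theorem caseB_order_r [Finite F] (hE : Ext R r) (hr5 : 5 ≤ r) (hexpR : ∀ x ∈ R, x ^ r = 1)
    {g : GL (Fin n) F}
    (hN : ∀ w, w ∈ R ⊔ Cfsg.Geo.scalars (Fin n) F ↔
      g * w * g⁻¹ ∈ R ⊔ Cfsg.Geo.scalars (Fin n) F)
    (hgr : g ^ r = 1) {x₀ : GL (Fin n) F} (hx₀ : x₀ ∈ R) (hB : ∀ t : F, ¬ TC g x₀ t) (c : F) :
    2 * finrank F (eig g c) ≤ n := by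
  haveI := hE.npos
  have hr := hE.prime
  by_cases hc : c = 0
  · subst hc
    rw [eig_zero]
    simp
  obtain ⟨x, hx, hans, μ, hμ⟩ := exists_special hE hexpR hN hgr hx₀ hB
  have hxRZ : x ∈ R ⊔ Cfsg.Geo.scalars (Fin n) F := Subgroup.mem_sup_left hx
  set a := x⁻¹ * (g * x * g⁻¹) with ha
  have haRZ : a ∈ R ⊔ Cfsg.Geo.scalars (Fin n) F :=
    Subgroup.mul_mem _ (Subgroup.inv_mem _ hxRZ) ((hN _).1 hxRZ)
  have hμr : μ ^ r = 1 := by
    have h1 := hμ.pow_left r
    rw [hgr] at h1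
    have h2 : TC (1 : GL (Fin n) F) a 1 := (TC_one_iff 1 a).2 (by group)
    exact h1.unique h2
  by_cases hμ1 : μ = 1
  · subst hμ1
    have hga : g * a = a * g := (TC_one_iff g a).1 hμ
    have hxg : g * x = x * (a * g) := by rw [ha]; group
    have har : a ^ r = 1 := by
      have h1 : (a * g) ^ r = a ^ r * g ^ r := (show Commute a g from hga.symm).mul_pow r
      have h2 : a * g = x⁻¹ * g * x := by rw [ha]; group
      have h3 : (x⁻¹ * g * x) ^ r = x⁻¹ * g ^ r * x := by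
        have := conj_pow (a := x⁻¹) (b := g) (i := r)
        rwa [inv_inv] at this
      rw [h2, h3, hgr] at h1
      simpa using h1.symm
    obtain ⟨θ, hθr, hθ⟩ := hE.comm_RZ hxRZ haRZ
    by_cases hθ1 : θ = 1
    · subst hθ1
      have h1 := bound_comm hE haRZ hans har hga hθ hxg c hc
      have h2 : (r - 1) * n ≤ r * n := Nat.mul_le_mul_right _ (Nat.sub_le r 1)
      have hrr : 5 * r ≤ r * r := Nat.mul_le_mul_right _ hr5
      have h3 : r * r * (2 * finrank F (eig g c)) ≤ r * r * n := by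
        calc r * r * (2 * finrank F (eig g c)) = 2 * (r * r * finrank F (eig g c)) := by ring
          _ ≤ 2 * (r * n + (r - 1) * n) := Nat.mul_le_mul_left _ h1
          _ ≤ 2 * (r * n + r * n) := Nat.mul_le_mul_left _ (Nat.add_le_add_left h2 _)
          _ = 4 * r * n := by ring
          _ ≤ 5 * r * n := Nat.mul_le_mul_right _ (Nat.mul_le_mul_right _ (by norm_num))
          _ ≤ r * r * n := Nat.mul_le_mul_right _ hrr
      exact Nat.le_of_mul_le_mul_left h3 (Nat.mul_pos hr.pos hr.pos)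
    · have hr2 : r ≠ 2 := by omega
      have h1 := bound_noncomm hE hr2 haRZ hans har hga hθ hθ1 hθr hxg c hc
      nlinarith
  · have h1 := finrank_eig_le_of_twist hr hμ hμ1 hμr c
    nlinarith

end Cfsg.Agent.Helper17.ExtraEig
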