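import Mathlib
import Cfsg.Agent.Lib.Helper17.ExtraEigI

/-!
# Eigenspace bounds: assembling the main theorem (helper17)
-/

set_option autoImplicit false

namespace Cfsg.Agent.Helper17.ExtraEig

open Module Matrix
open scoped commutatorElement

variable {F : Type*} [Field F] {n : ℕ} {R : Subgroup (GL (Fin n) F)} {r : ℕ}

theorem Ext.dvd_of_nonscalar (hE : Ext R r) {w : GL (Fin n) F}
    (hw : w ∈ R ⊔ Cfsg.Geo.scalars (Fin n) F) (hws : w ∉ Cfsg.Geo.scalars (Fin n) F) : r ∣ n := by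
  obtain ⟨u, _, s, hs1, hsr, h⟩ := hE.exists_twist hw hws
  have hprim := primitive_of_ne_one hE.prime hs1 hsr
  unfold TC at h
  have h1 := congrArg Matrix.det h
  rw [Matrix.det_mul, Matrix.det_smul, Matrix.det_mul, Fintype.card_fin] at h1
  have hu : (u : Matrix (Fin n) (Fin n) F).det ≠ 0 := by
    have := (Matrix.isUnit_iff_isUnit_det _).1 u.isUnit
    exact this.ne_zero
  have hw' : (w : Matrix (Fin n) (Fin n) F).det ≠ 0 := by
    have := (Matrix.isUnit_iff_isUnit_det _).1 w.isUnit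
    exact this.ne_zero
  have h2 : s ^ n = 1 := by
    have h3 : (u : Matrix (Fin n) (Fin n) F).det * (w : Matrix (Fin n) (Fin n) F).det * 1 =
        (u : Matrix (Fin n) (Fin n) F).det * (w : Matrix (Fin n) (Fin n) F).det * s ^ n := by
      linear_combination h1
    exact (mul_left_cancel₀ (mul_ne_zero hu hw') h3).symm
  exact (hprim.pow_eq_one_iff_dvd n).1 h2

/-- Construction of the set-up from the hypotheses of the statement. -/
theorem ext_of_hyp [Finite F] (hr : r.Prime)
    (hZ : Nat.card (Subgroup.center R) = r) (hext : commutator R = Subgroup.center R)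
    (hirr : Cfsg.Geo.ActsAbsolutelyIrreducibly (Cfsg.Geo.matrixSet R)) : Ext R r := by
  have hn : NeZero n := by
    refine ⟨?_⟩
    rintro rfl
    haveI : Subsingleton (GL (Fin 0) F) := ⟨fun a b => Units.ext (Subsingleton.elim _ _)⟩
    haveI : Subsingleton R := ⟨fun a b => Subtype.ext (Subsingleton.elim _ _)⟩
    have : Nat.card (Subgroup.center R) = 1 := Nat.card_eq_one_iff_unique.2
      ⟨⟨fun a b => Subtype.ext (Subsingleton.elim _ _)⟩, ⟨1⟩⟩
    rw [this] at hZ
    exact hr.ne_one hZ.symm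
  have hcent : ∀ w : GL (Fin n) F, (∀ x ∈ R, w * x = x * w) →
      w ∈ Cfsg.Geo.scalars (Fin n) F := by
    intro w hw
    obtain ⟨c, hc⟩ := hirr.2 (w : Matrix (Fin n) (Fin n) F) (by
      rintro _ ⟨x, hx, rfl⟩
      have := hw x hx
      show (w : Matrix (Fin n) (Fin n) F) * (x : Matrix (Fin n) (Fin n) F) =
        (x : Matrix (Fin n) (Fin n) F) * (w : Matrix (Fin n) (Fin n) F)
      rw [← Units.val_mul, ← Units.val_mul, this])
    have hc0 : c ≠ 0 := by
      rintro rfl
      rw [zero_smul] at hc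
      have h1 : IsUnit ((w : GL (Fin n) F) : Matrix (Fin n) (Fin n) F) := w.isUnit
      rw [hc] at h1
      haveI : Nonempty (Fin n) := ⟨⟨0, Nat.pos_of_ne_zero (NeZero.ne n)⟩⟩
      exact not_isUnit_zero h1
    exact (Cfsg.Geo.mem_scalars_iff w).2 ⟨Units.mk0 c hc0, hc⟩
  refine ⟨hr, hn, hcent, ?_⟩
  intro x hx y hy
  -- the commutator is central
  have hz' : ⁅(⟨x, hx⟩ : R), (⟨y, hy⟩ : R)⁆ ∈ Subgroup.center R := by
    rw [← hext, commutator_def]
    exact Subgroup.commutator_mem_commutator (Subgroup.mem_top _) (Subgroup.mem_top _)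
  set z' : R := ⁅(⟨x, hx⟩ : R), (⟨y, hy⟩ : R)⁆ with hz'def
  have hzr' : z' ^ r = 1 := by
    have h1 : (⟨z', hz'⟩ : Subgroup.center R) ^ Nat.card (Subgroup.center R) = 1 :=
      pow_card_eq_one'
    rw [hZ] at h1
    have h2 := congrArg Subtype.val h1
    simpa using h2
  have hzval : (z' : GL (Fin n) F) = x * y * x⁻¹ * y⁻¹ := by
    rw [hz'def, commutatorElement_def]
    rfl
  have hzs : (z' : GL (Fin n) F) ∈ Cfsg.Geo.scalars (Fin n) F := by
    apply hcent
    intro w hw
    have h1 := (Subgroup.mem_center_iff.1 hz') ⟨w, hw⟩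
    have h2 := congrArg Subtype.val h1
    simpa using h2.symm
  obtain ⟨s, hs⟩ := (Cfsg.Geo.mem_scalars_iff _).1 hzs
  refine ⟨(s : F), ?_, ?_⟩
  · have h1 : ((z' : GL (Fin n) F) ^ r : GL (Fin n) F) = 1 := by
      have := congrArg Subtype.val hzr'
      simpa using this
    have h2 := congrArg (fun u : GL (Fin n) F => (u : Matrix (Fin n) (Fin n) F)) h1
    simp only [Units.val_pow_eq_pow_val, Units.val_one] at h2
    rw [hs, smul_pow, one_pow] at h2
    have h3 := congrFun (congrFun h2 ⟨0, Nat.pos_of_ne_zero (NeZero.ne n)⟩)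
      ⟨0, Nat.pos_of_ne_zero (NeZero.ne n)⟩
    simpa using h3
  · rw [TC_iff_mul]
    have h1 : x * y = (z' : GL (Fin n) F) * (y * x) := by rw [hzval]; group
    rw [h1, Units.val_mul, hs, Matrix.smul_mul, Matrix.one_mul]

/-- The main theorem, with the eigenspaces written as `eig g c`. -/
theorem main [Finite F] {ϖ : ℕ} (hr : r.Prime) (hR : IsPGroup r R)
    (hZ : Nat.card (Subgroup.center R) = r) (hext : commutator R = Subgroup.center R)
    (hexp : Monoid.exponent R = r ∨ Monoid.exponent R = 4)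
    (hirr : Cfsg.Geo.ActsAbsolutelyIrreducibly (Cfsg.Geo.matrixSet R)) (g : GL (Fin n) F)
    (hg : g ∈ Cfsg.Geo.subgroupNormalizer (R ⊔ Cfsg.Geo.scalars (Fin n) F)) (hϖ : ϖ.Prime)
    (hord : orderOf g = ϖ) (hns : g ∉ Cfsg.Geo.scalars (Fin n) F) (c : F) :
    (ϖ = 2 → 4 * finrank F (eig g c) ≤ 3 * n) ∧
    (ϖ = 3 → 3 * finrank F (eig g c) ≤ 2 * n) ∧
    (3 < ϖ → 2 * finrank F (eig g c) ≤ n) ∧
    (ϖ = 3 → ¬ 3 ∣ n → 2 * finrank F (eig g c) ≤ n) := by
  have hE := ext_of_hyp hr hZ hext hirr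
  haveI := hE.npos
  haveI : Fact r.Prime := ⟨hr⟩
  have hN : ∀ w, w ∈ R ⊔ Cfsg.Geo.scalars (Fin n) F ↔
      g * w * g⁻¹ ∈ R ⊔ Cfsg.Geo.scalars (Fin n) F := by
    unfold Cfsg.Geo.subgroupNormalizer at hg
    exact Subgroup.mem_normalizer_iff.1 hg
  have hgϖ : g ^ ϖ = 1 := by rw [← hord]; exact pow_orderOf_eq_one g
  have hr2 := hr.two_le
  have hϖ2 := hϖ.two_le
  -- exponent r when r is odd
  have hexpR : r ≠ 2 → ∀ x ∈ R, x ^ r = 1 := by
    intro hr2' x hx
    have hexp' : Monoid.exponent R = r := by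
      rcases hexp with h | h
      · exact h
      · exfalso
        obtain ⟨k, hk⟩ := (IsPGroup.iff_card (p := r) (G := R)).1 hR
        have h1 : Monoid.exponent R ∣ Nat.card R := Group.exponent_dvd_nat_card
        rw [h, hk] at h1
        have h2 : 2 ∣ r ^ k := dvd_trans (by norm_num) h1
        have h3 := Nat.Prime.dvd_of_dvd_pow Nat.prime_two h2
        exact hr2' ((Nat.prime_dvd_prime_iff_eq Nat.prime_two hr).1 h3).symm
    have h1 : (⟨x, hx⟩ : R) ^ Monoid.exponent R = 1 := Monoid.pow_exponent_eq_one _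
    rw [hexp'] at h1
    have := congrArg Subtype.val h1
    simpa using this
  by_cases hA : ∀ x ∈ R, ∃ t : F, TC g x t
  · -- case A
    have h1 := caseA hE hϖ hgϖ hns hA c
    refine ⟨fun _ => ?_, fun _ => ?_, fun _ => ?_, fun _ _ => ?_⟩ <;> nlinarith
  · push Not at hA
    obtain ⟨x₀, hx₀, hB⟩ := hA
    have hBs := caseB_simple hE hN hx₀ hB c
    have hx₀RZ : x₀ ∈ R ⊔ Cfsg.Geo.scalars (Fin n) F := Subgroup.mem_sup_left hx₀
    have hx₀ns : x₀ ∉ Cfsg.Geo.scalars (Fin n) F := by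
      intro h
      exact hB 1 (TC.scalar_right h g)
    have hrn : r ∣ n := hE.dvd_of_nonscalar hx₀RZ hx₀ns
    refine ⟨fun _ => ?_, fun h3 => ?_, fun h3 => ?_, fun h3 hn3 => ?_⟩
    · -- ϖ = 2
      have h1 : r * (4 * finrank F (eig g c)) ≤ r * (3 * n) := by
        calc r * (4 * finrank F (eig g c)) = 2 * (2 * r * finrank F (eig g c)) := by ring
          _ ≤ 2 * ((r + 1) * n) := Nat.mul_le_mul_left _ hBs
          _ = 2 * r * n + 2 * n := by ring
          _ ≤ 2 * r * n + r * n := Nat.add_le_add_left (Nat.mul_le_mul_right _ hr2) _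
          _ = r * (3 * n) := by ring
      exact Nat.le_of_mul_le_mul_left h1 hr.pos
    · -- ϖ = 3
      by_cases hr3 : r = 3
      · subst hr3
        omega
      · have hodd : Odd ϖ := by rw [h3]; decide
        have := caseB_coprime hE hN hϖ hodd (by rw [h3]; exact fun h => hr3 h.symm) hgϖ hx₀ hB c
        omega
    · -- ϖ > 3
      have hodd : Odd ϖ := hϖ.odd_of_ne_two (by omega)
      by_cases hϖr : ϖ = r
      · subst hϖr
        exact caseB_order_r hE (by
          rcases Nat.lt_or_ge ϖ 5 with h | h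
          · exfalso
            have : ϖ = 4 := by omega
            rw [this] at hϖ
            exact absurd hϖ (by norm_num)
          · exact h) (hexpR (by omega)) hN hgϖ hx₀ hB c
      · exact caseB_coprime hE hN hϖ hodd hϖr hgϖ hx₀ hB c
    · -- ϖ = 3, 3 ∤ n
      have hr3 : r ≠ 3 := by
        rintro rfl
        exact hn3 hrn
      have hodd : Odd ϖ := by rw [h3]; decide
      exact caseB_coprime hE hN hϖ hodd (by rw [h3]; exact fun h => hr3 h.symm) hgϖ hx₀ hB c

end Cfsg.Agent.Helper17.ExtraEig
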