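import Mathlib
import Cfsg.Agent.Lib.Helper17.ExtraEigJ
import Cfsg.Agent.Lib.Helper17.Sym4Defs

/-!
# Structure of an absolutely irreducible group `4 ∘ 2^{1+4}` in `GL₄(F)` (helper17)
-/

set_option autoImplicit false

namespace Cfsg.Agent.Helper17.Sym4

open Matrix Cfsg.Agent.Helper17.ExtraEig

variable {F : Type*} [Field F]

/-- The facts about `R` used everywhere. -/
structure SymData (R : Subgroup (GL (Fin 4) F)) : Prop where
  cent : ∀ w : GL (Fin 4) F, (∀ x ∈ R, w * x = x * w) → w ∈ Cfsg.Geo.scalars (Fin 4) F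
  centM : ∀ M : Matrix (Fin 4) (Fin 4) F,
    (∀ x ∈ R, M * (x : Matrix (Fin 4) (Fin 4) F) = (x : Matrix (Fin 4) (Fin 4) F) * M) →
    ∃ c : F, M = c • (1 : Matrix (Fin 4) (Fin 4) F)
  comm : ∀ x ∈ R, ∀ y ∈ R, ∃ s : F, s ^ 2 = 1 ∧ TC x y s
  exp4 : ∀ x ∈ R, x ^ 4 = 1
  card : Nat.card R = 64
  cardZ : Nat.card (Subgroup.center R) = 4
  two_ne : (2 : F) ≠ 0

variable {R : Subgroup (GL (Fin 4) F)}

theorem SymData.ext (hS : SymData R) : Ext R 2 :=
  ⟨Nat.prime_two, ⟨by norm_num⟩, hS.cent, hS.comm⟩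

theorem sq_eq_one_iff' {s : F} (hs : s ^ 2 = 1) : s = 1 ∨ s = -1 := by
  have : (s - 1) * (s + 1) = 0 := by linear_combination hs
  rcases mul_eq_zero.1 this with h | h
  · left; linear_combination h
  · right; linear_combination h

/-- Two elements of `R` commute or anticommute. -/
theorem SymData.comm_or (hS : SymData R) {x y : GL (Fin 4) F} (hx : x ∈ R) (hy : y ∈ R) :
    TC x y 1 ∨ TC x y (-1) := by
  obtain ⟨s, hs, h⟩ := hS.comm x hx y hy
  rcases sq_eq_one_iff' hs with rfl | rfl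
  · exact Or.inl h
  · exact Or.inr h

theorem neg_one_ne_one (h2 : (2 : F) ≠ 0) : (-1 : F) ≠ 1 := by
  intro h
  apply h2
  linear_combination -h

/-- A non-scalar element of `R` anticommutes with some element of `R`. -/
theorem SymData.exists_anti (hS : SymData R) {x : GL (Fin 4) F} (hx : x ∈ R)
    (hxs : x ∉ Cfsg.Geo.scalars (Fin 4) F) : ∃ y ∈ R, TC x y (-1) := by
  by_contra hcon
  push Not at hcon
  apply hxs
  apply hS.cent
  intro y hy
  rcases hS.comm_or hx hy with h | h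
  · exact (TC_one_iff x y).1 h
  · exact absurd h (hcon y hy)

/-- Non-scalar elements of `R` have trace zero. -/
theorem SymData.trace_eq_zero (hS : SymData R) {x : GL (Fin 4) F} (hx : x ∈ R)
    (hxs : x ∉ Cfsg.Geo.scalars (Fin 4) F) : (x : Matrix (Fin 4) (Fin 4) F).trace = 0 := by
  obtain ⟨y, hy, h⟩ := hS.exists_anti hx hxs
  unfold TC at h
  -- x = -(y x y⁻¹)
  have h1 : (x : Matrix (Fin 4) (Fin 4) F) =
      -((y : Matrix (Fin 4) (Fin 4) F) * (x : Matrix (Fin 4) (Fin 4) F) *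
        ((y⁻¹ : GL (Fin 4) F) : Matrix (Fin 4) (Fin 4) F)) := by
    calc (x : Matrix (Fin 4) (Fin 4) F)
        = (x : Matrix (Fin 4) (Fin 4) F) * (y : Matrix (Fin 4) (Fin 4) F) *
          ((y⁻¹ : GL (Fin 4) F) : Matrix (Fin 4) (Fin 4) F) := by
          rw [Matrix.mul_assoc, ← Units.val_mul, mul_inv_cancel, Units.val_one, Matrix.mul_one]
      _ = _ := by rw [h, neg_one_smul, Matrix.neg_mul]
  have h3 := congrArg Matrix.trace h1
  rw [Matrix.trace_neg, Matrix.trace_units_conj] at h3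
  have h4 : (2 : F) * (x : Matrix (Fin 4) (Fin 4) F).trace = 0 := by linear_combination h3
  rcases mul_eq_zero.1 h4 with h5 | h5
  · exact absurd h5 hS.two_ne
  · exact h5

/-- The square of an element of `R` is `±1`. -/
theorem SymData.sq_eq (hS : SymData R) {x : GL (Fin 4) F} (hx : x ∈ R) :
    (x : Matrix (Fin 4) (Fin 4) F) * (x : Matrix (Fin 4) (Fin 4) F) = 1 ∨
    (x : Matrix (Fin 4) (Fin 4) F) * (x : Matrix (Fin 4) (Fin 4) F) = -1 := by
  have hsc : x ^ 2 ∈ Cfsg.Geo.scalars (Fin 4) F := by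
    apply hS.cent
    intro y hy
    obtain ⟨s, hs, h⟩ := hS.comm x hx y hy
    have h1 := h.pow_left (n := 4) 2
    rw [hs] at h1
    exact (TC_one_iff _ _).1 h1
  obtain ⟨c, hc⟩ := (Cfsg.Geo.mem_scalars_iff _).1 hsc
  have h4 := hS.exp4 x hx
  have h5 : ((x ^ 2 : GL (Fin 4) F) : Matrix (Fin 4) (Fin 4) F) *
      ((x ^ 2 : GL (Fin 4) F) : Matrix (Fin 4) (Fin 4) F) = 1 := by
    rw [← Units.val_mul, ← pow_add, h4, Units.val_one]
  rw [hc, Matrix.smul_mul, Matrix.mul_smul, Matrix.mul_one, smul_smul] at h5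
  have h6 : (c : F) * c = 1 := by
    have := congrFun (congrFun h5 0) 0
    simpa using this
  have h7 : ((x ^ 2 : GL (Fin 4) F) : Matrix (Fin 4) (Fin 4) F) =
      (x : Matrix (Fin 4) (Fin 4) F) * (x : Matrix (Fin 4) (Fin 4) F) := by
    rw [pow_two, Units.val_mul]
  rw [← h7, hc]
  rcases sq_eq_one_iff' (s := (c : F)) (by rw [pow_two]; exact h6) with h | h
  · left; rw [h, one_smul]
  · right; rw [h, neg_one_smul]

end Cfsg.Agent.Helper17.Sym4
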