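import Mathlib
import Cfsg.Agent.Lib.Helper17.Sym4A

/-!
# The trace formula for elements normalising `R` (helper17)
-/

set_option autoImplicit false

namespace Cfsg.Agent.Helper17.Sym4

open Matrix Cfsg.Agent.Helper17.ExtraEig

variable {F : Type*} [Field F] [Finite F] {R : Subgroup (GL (Fin 4) F)}

/-- Averaging over `R` gives a scalar. -/
theorem SymData.sum_conj (hS : SymData R) [Fintype ↥R] (X : Matrix (Fin 4) (Fin 4) F) :
    ∑ a : ↥R, ((a : GL (Fin 4) F) : Matrix (Fin 4) (Fin 4) F) * X *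
      (((a : GL (Fin 4) F)⁻¹ : GL (Fin 4) F) : Matrix (Fin 4) (Fin 4) F) =
      ((16 : F) * X.trace) • (1 : Matrix (Fin 4) (Fin 4) F) := by
  set Φ : Matrix (Fin 4) (Fin 4) F := ∑ a : ↥R, ((a : GL (Fin 4) F) : Matrix (Fin 4) (Fin 4) F) * X *
      (((a : GL (Fin 4) F)⁻¹ : GL (Fin 4) F) : Matrix (Fin 4) (Fin 4) F) with hΦ
  have hcomm : ∀ b ∈ R, Φ * (b : Matrix (Fin 4) (Fin 4) F) = (b : Matrix (Fin 4) (Fin 4) F) * Φ := by
    intro b hb
    rw [hΦ, Finset.sum_mul, Finset.mul_sum]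
    -- reindex by a ↦ b * a
    rw [← Equiv.sum_comp (Equiv.mulLeft (⟨b, hb⟩ : ↥R))]
    apply Finset.sum_congr rfl
    intro a _
    simp only [Equiv.coe_mulLeft, Subgroup.coe_mul]
    have h2 : ((b * (a : GL (Fin 4) F))⁻¹ : GL (Fin 4) F) = (a : GL (Fin 4) F)⁻¹ * b⁻¹ := by group
    rw [h2, Units.val_mul, Units.val_mul]
    have h1 : ((b⁻¹ : GL (Fin 4) F) : Matrix (Fin 4) (Fin 4) F) *
        (b : Matrix (Fin 4) (Fin 4) F) = 1 := by
      rw [← Units.val_mul, inv_mul_cancel, Units.val_one]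
    simp only [Matrix.mul_assoc, h1, Matrix.mul_one]
  obtain ⟨c, hc⟩ := hS.centM Φ hcomm
  have htr : Φ.trace = (64 : F) * X.trace := by
    rw [hΦ, Matrix.trace_sum]
    have : ∀ a : ↥R, (((a : GL (Fin 4) F) : Matrix (Fin 4) (Fin 4) F) * X *
      (((a : GL (Fin 4) F)⁻¹ : GL (Fin 4) F) : Matrix (Fin 4) (Fin 4) F)).trace = X.trace :=
      fun a => Matrix.trace_units_conj _ _
    rw [Finset.sum_congr rfl (fun a _ => this a), Finset.sum_const, Finset.card_univ,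
      ← Nat.card_eq_fintype_card, hS.card]
    simp
  have h4 : (4 : F) ≠ 0 := by
    have : (4 : F) = 2 * 2 := by norm_num
    rw [this]
    exact mul_ne_zero hS.two_ne hS.two_ne
  rw [hc] at htr ⊢
  rw [Matrix.trace_smul, Matrix.trace_one, Fintype.card_fin, smul_eq_mul] at htr
  have : c = 16 * X.trace := by
    have h5 : (4 : F) * c = 4 * (16 * X.trace) := by
      push_cast at htr
      linear_combination htr
    exact mul_left_cancel₀ h4 h5
  rw [this]


/-- For `g` normalising `R` with `g ^ r` scalar, `r` odd, the "commutator" `a g a⁻¹ g⁻¹` with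
`a ∈ R` is either `1` or non-scalar. -/
theorem SymData.comm_nonscalar (hS : SymData R) {g : GL (Fin 4) F} {r : ℕ} (hr : Odd r)
    (hgr : g ^ r ∈ Cfsg.Geo.scalars (Fin 4) F) {a : GL (Fin 4) F}
    (hc : a * g * a⁻¹ * g⁻¹ ∈ R) (hne : a * g ≠ g * a) :
    a * g * a⁻¹ * g⁻¹ ∉ Cfsg.Geo.scalars (Fin 4) F := by
  intro hz
  set z := a * g * a⁻¹ * g⁻¹ with hzdef
  have h4 : z ^ 4 = 1 := hS.exp4 z hc
  have h1 : a * g * a⁻¹ = z * g := by rw [hzdef]; group
  have h2 : (a * g * a⁻¹) ^ r = z ^ r * g ^ r := by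
    rw [h1]
    exact (Commute.mul_pow (scalar_comm hz g) r)
  have h3 : (a * g * a⁻¹) ^ r = g ^ r := by
    rw [conj_pow]
    have := scalar_comm hgr a
    calc a * g ^ r * a⁻¹ = g ^ r * a * a⁻¹ := by rw [this]
      _ = g ^ r := by group
  have h5 : z ^ r = 1 := by
    rw [h3] at h2
    have : z ^ r * g ^ r = 1 * g ^ r := by rw [one_mul]; exact h2.symm
    exact mul_right_cancel this
  have h6 : z ^ Nat.gcd r 4 = 1 := pow_gcd_eq_one.2 ⟨h5, h4⟩
  have h7 : Nat.gcd r 4 = 1 := by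
    have h8 : Nat.Coprime r 2 := by
      apply Nat.Coprime.symm
      rw [Nat.Prime.coprime_iff_not_dvd Nat.prime_two]
      rcases hr with ⟨k, rfl⟩
      omega
    have : Nat.Coprime r (2 ^ 2) := Nat.Coprime.pow_right 2 h8
    simpa using this
  rw [h7, pow_one] at h6
  apply hne
  have : a * g * a⁻¹ * g⁻¹ = 1 := h6
  calc a * g = (a * g * a⁻¹ * g⁻¹) * (g * a) := by group
    _ = g * a := by rw [this, one_mul]

theorem SymData.trace_formula (hS : SymData R) [Fintype ↥R] {g : GL (Fin 4) F}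
    (hg : g ∈ Cfsg.Geo.subgroupNormalizer R) {r : ℕ} (hr : Odd r)
    (hgr : g ^ r ∈ Cfsg.Geo.scalars (Fin 4) F) :
    4 * (g : Matrix (Fin 4) (Fin 4) F).trace *
      ((g⁻¹ : GL (Fin 4) F) : Matrix (Fin 4) (Fin 4) F).trace =
    ((Nat.card {a : ↥R // (a : GL (Fin 4) F) * g = g * a} : ℕ) : F) := by
  classical
  have hcard : Nat.card {a : ↥R // (a : GL (Fin 4) F) * g = g * a} =
      (Finset.univ.filter (fun a : ↥R => (a : GL (Fin 4) F) * g = g * a)).card := by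
    rw [Nat.card_eq_fintype_card, Fintype.card_subtype]
  rw [hcard]
  have hN : ∀ w, w ∈ R ↔ g * w * g⁻¹ ∈ R := by
    unfold Cfsg.Geo.subgroupNormalizer at hg
    exact Subgroup.mem_normalizer_iff.1 hg
  have hmem : ∀ a : ↥R, (a : GL (Fin 4) F) * g * (a : GL (Fin 4) F)⁻¹ * g⁻¹ ∈ R := by
    intro a
    have h1 : g * (a : GL (Fin 4) F)⁻¹ * g⁻¹ ∈ R := (hN _).1 (R.inv_mem a.2)
    have h2 := R.mul_mem a.2 h1
    have : (a : GL (Fin 4) F) * (g * (a : GL (Fin 4) F)⁻¹ * g⁻¹) =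
        (a : GL (Fin 4) F) * g * (a : GL (Fin 4) F)⁻¹ * g⁻¹ := by group
    rwa [this] at h2
  have hterm : ∀ a : ↥R,
      (((a : GL (Fin 4) F) * g * (a : GL (Fin 4) F)⁻¹ * g⁻¹ : GL (Fin 4) F) :
        Matrix (Fin 4) (Fin 4) F).trace =
      if (a : GL (Fin 4) F) * g = g * a then (4 : F) else 0 := by
    intro a
    split_ifs with h
    · have : (a : GL (Fin 4) F) * g * (a : GL (Fin 4) F)⁻¹ * g⁻¹ = 1 := by
        rw [h]; group
      rw [this, Units.val_one, Matrix.trace_one, Fintype.card_fin]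
      norm_num
    · exact hS.trace_eq_zero (hmem a) (hS.comm_nonscalar hr hgr (hmem a) h)
  have hsum1 : ∑ a : ↥R, (((a : GL (Fin 4) F) * g * (a : GL (Fin 4) F)⁻¹ * g⁻¹ : GL (Fin 4) F) :
        Matrix (Fin 4) (Fin 4) F).trace =
      4 * (((Finset.univ.filter (fun a : ↥R => (a : GL (Fin 4) F) * g = g * a)).card : ℕ) : F) := by
    rw [Finset.sum_congr rfl (fun a _ => hterm a), Finset.sum_ite, Finset.sum_const_zero, add_zero,
      Finset.sum_const, nsmul_eq_mul, mul_comm]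
  have hsum2 : ∑ a : ↥R, (((a : GL (Fin 4) F) * g * (a : GL (Fin 4) F)⁻¹ * g⁻¹ : GL (Fin 4) F) :
        Matrix (Fin 4) (Fin 4) F).trace =
      16 * (g : Matrix (Fin 4) (Fin 4) F).trace *
        ((g⁻¹ : GL (Fin 4) F) : Matrix (Fin 4) (Fin 4) F).trace := by
    have h1 := hS.sum_conj (g : Matrix (Fin 4) (Fin 4) F)
    have h2 : ∑ a : ↥R, (((a : GL (Fin 4) F) * g * (a : GL (Fin 4) F)⁻¹ * g⁻¹ : GL (Fin 4) F) :
        Matrix (Fin 4) (Fin 4) F) =
        (∑ a : ↥R, ((a : GL (Fin 4) F) : Matrix (Fin 4) (Fin 4) F) * (g : Matrix (Fin 4) (Fin 4) F) *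
      (((a : GL (Fin 4) F)⁻¹ : GL (Fin 4) F) : Matrix (Fin 4) (Fin 4) F)) *
        ((g⁻¹ : GL (Fin 4) F) : Matrix (Fin 4) (Fin 4) F) := by
      rw [Finset.sum_mul]
      apply Finset.sum_congr rfl
      intro a _
      simp only [Units.val_mul]
    rw [← Matrix.trace_sum, h2, h1, Matrix.smul_mul, Matrix.one_mul, Matrix.trace_smul, smul_eq_mul]
  rw [hsum1] at hsum2
  have h4 : (4 : F) ≠ 0 := by
    have : (4 : F) = 2 * 2 := by norm_num
    rw [this]
    exact mul_ne_zero hS.two_ne hS.two_ne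
  have : (4 : F) * (((Finset.univ.filter (fun a : ↥R => (a : GL (Fin 4) F) * g = g * a)).card : ℕ) : F)
      = 4 * (4 * (g : Matrix (Fin 4) (Fin 4) F).trace *
        ((g⁻¹ : GL (Fin 4) F) : Matrix (Fin 4) (Fin 4) F).trace) := by
    linear_combination hsum2
  exact (mul_left_cancel₀ h4 this).symm

end Cfsg.Agent.Helper17.Sym4
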