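import Mathlib
import Cfsg.Agent.Lib.Helper17.Sym4B

/-!
# Counting fixed points of the conjugation action on `R` (helper17)
-/

set_option autoImplicit false

namespace Cfsg.Agent.Helper17.Sym4

open Matrix Cfsg.Agent.Helper17.ExtraEig

section general

variable {G : Type*} [Group G]

/-- The elements of `H` commuting with `g`, as a subgroup of `H`. -/
def CR (H : Subgroup G) (g : G) : Subgroup ↥H where
  carrier := {a | (a : G) * g = g * a}
  mul_mem' {a b} ha hb := by
    simp only [Set.mem_setOf_eq, Subgroup.coe_mul] at *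
    rw [mul_assoc, hb, ← mul_assoc, ha, mul_assoc]
  one_mem' := by simp
  inv_mem' {a} ha := by
    simp only [Set.mem_setOf_eq, Subgroup.coe_inv] at *
    calc (a : G)⁻¹ * g = (a : G)⁻¹ * (g * a) * (a : G)⁻¹ := by group
      _ = (a : G)⁻¹ * (a * g) * (a : G)⁻¹ := by rw [ha]
      _ = g * (a : G)⁻¹ := by group

theorem mem_CR (H : Subgroup G) (g : G) (a : ↥H) : a ∈ CR H g ↔ (a : G) * g = g * a := Iff.rfl

theorem conj_pow_mul (g a : G) (k : ℕ) : g ^ k * a * (g ^ k)⁻¹ = g ^ k * a * (g⁻¹) ^ k := by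
  rw [inv_pow]

/-- The number of elements of `H` commuting with `g` is congruent to `|H|` modulo `r` when `g`
normalises `H` and `g ^ r` centralises `H`. -/
theorem card_CR_modEq (H : Subgroup G) [Finite H] {g : G}
    (hg : ∀ a, a ∈ H ↔ g * a * g⁻¹ ∈ H) {r : ℕ} [Fact r.Prime]
    (hgr : ∀ a ∈ H, g ^ r * a = a * g ^ r) :
    Nat.card H ≡ Nat.card (CR H g) [MOD r] := by
  classical
  haveI : Fintype ↥H := Fintype.ofFinite _
  let f : Function.End ↥H := fun a => ⟨g * a * g⁻¹, (hg a).1 a.2⟩
  have hpow : ∀ k : ℕ, ∀ a : ↥H, (((f ^ k) a : ↥H) : G) = g ^ k * a * (g ^ k)⁻¹ := by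
    intro k
    induction k with
    | zero =>
      intro a
      rw [pow_zero, pow_zero, one_mul, inv_one, mul_one]
      rfl
    | succ k ih =>
      intro a
      have h1 : (f ^ (k + 1)) a = f ((f ^ k) a) := by
        rw [pow_succ']; rfl
      rw [h1]
      show g * ((f ^ k) a : G) * g⁻¹ = _
      rw [ih a, pow_succ']
      group
  have hf : f ^ r ^ 1 = 1 := by
    rw [pow_one]
    funext a
    apply Subtype.ext
    rw [hpow r a, hgr a a.2]
    show (a : G) * g ^ r * (g ^ r)⁻¹ = a
    group
  have h1 := Equiv.Perm.card_fixedPoints_modEq (p := r) (n := 1) hf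
  rw [Nat.card_eq_fintype_card]
  refine h1.trans ?_
  have h2 : Fintype.card (Function.fixedPoints f) = Nat.card (CR H g) := by
    rw [← Nat.card_eq_fintype_card]
    apply Nat.card_congr
    refine Equiv.subtypeEquivRight ?_
    intro a
    rw [Function.mem_fixedPoints, Function.IsFixedPt, mem_CR]
    constructor
    · intro h
      have h3 := congrArg Subtype.val h
      have h4 : g * (a : G) * g⁻¹ = a := h3
      calc (a : G) * g = (g * a * g⁻¹) * g := by rw [h4]
        _ = g * a := by group
    · intro h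
      apply Subtype.ext
      show g * (a : G) * g⁻¹ = a
      rw [← h]; group
  rw [h2]

/-- Relative version: a subgroup `K` of `H` stable under conjugation by `g`. -/
theorem card_inf_CR_modEq (H : Subgroup G) [Finite H] {g : G}
    (hg : ∀ a, a ∈ H ↔ g * a * g⁻¹ ∈ H) {r : ℕ} [Fact r.Prime]
    (hgr : ∀ a ∈ H, g ^ r * a = a * g ^ r) (K : Subgroup ↥H)
    (hK : ∀ a : ↥H, a ∈ K → (⟨g * a * g⁻¹, (hg a).1 a.2⟩ : ↥H) ∈ K) :
    Nat.card K ≡ Nat.card (K ⊓ CR H g : Subgroup ↥H) [MOD r] := by
  classical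
  haveI : Fintype ↥K := Fintype.ofFinite _
  let f : Function.End ↥K := fun a => ⟨⟨g * (a : ↥H) * g⁻¹, (hg (a : ↥H)).1 (a : ↥H).2⟩, hK a a.2⟩
  have hpow : ∀ k : ℕ, ∀ a : ↥K, ((((f ^ k) a : ↥K) : ↥H) : G) =
      g ^ k * ((a : ↥H) : G) * (g ^ k)⁻¹ := by
    intro k
    induction k with
    | zero =>
      intro a
      rw [pow_zero, pow_zero, one_mul, inv_one, mul_one]
      rfl
    | succ k ih =>
      intro a
      have h1 : (f ^ (k + 1)) a = f ((f ^ k) a) := by
        rw [pow_succ']; rfl
      rw [h1]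
      show g * ((((f ^ k) a : ↥K) : ↥H) : G) * g⁻¹ = _
      rw [ih a, pow_succ']
      group
  have hf : f ^ r ^ 1 = 1 := by
    rw [pow_one]
    funext a
    apply Subtype.ext
    apply Subtype.ext
    rw [hpow r a, hgr _ (a : ↥H).2]
    show ((a : ↥H) : G) * g ^ r * (g ^ r)⁻¹ = ((a : ↥H) : G)
    group
  have h1 := Equiv.Perm.card_fixedPoints_modEq (p := r) (n := 1) hf
  rw [Nat.card_eq_fintype_card]
  refine h1.trans ?_
  have h2 : Fintype.card (Function.fixedPoints f) = Nat.card (K ⊓ CR H g : Subgroup ↥H) := by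
    rw [← Nat.card_eq_fintype_card]
    apply Nat.card_congr
    have key : ∀ a : ↥K, a ∈ Function.fixedPoints f ↔ (a : ↥H) ∈ CR H g := by
      intro a
      rw [Function.mem_fixedPoints, Function.IsFixedPt, mem_CR]
      constructor
      · intro h
        have h3 := congrArg (fun t : ↥K => ((t : ↥H) : G)) h
        have h4 : g * ((a : ↥H) : G) * g⁻¹ = ((a : ↥H) : G) := h3
        calc ((a : ↥H) : G) * g = (g * ((a : ↥H) : G) * g⁻¹) * g := by rw [h4]
          _ = g * ((a : ↥H) : G) := by group
      · intro h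
        apply Subtype.ext
        apply Subtype.ext
        show g * ((a : ↥H) : G) * g⁻¹ = ((a : ↥H) : G)
        rw [← h]; group
    exact
      { toFun := fun a => ⟨(a.1 : ↥H), Subgroup.mem_inf.2 ⟨a.1.2, (key a.1).1 a.2⟩⟩
        invFun := fun b => ⟨⟨b.1, (Subgroup.mem_inf.1 b.2).1⟩,
          (key ⟨b.1, (Subgroup.mem_inf.1 b.2).1⟩).2 (Subgroup.mem_inf.1 b.2).2⟩
        left_inv := fun a => rfl
        right_inv := fun b => rfl }
  rw [h2]

end general

section sym

variable {F : Type*} [Field F] [Finite F] {R : Subgroup (GL (Fin 4) F)}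

theorem SymData.mem_center_iff (hS : SymData R) (z : ↥R) :
    z ∈ Subgroup.center ↥R ↔ (z : GL (Fin 4) F) ∈ Cfsg.Geo.scalars (Fin 4) F := by
  constructor
  · intro hz
    apply hS.cent
    intro x hx
    have := (Subgroup.mem_center_iff.1 hz) ⟨x, hx⟩
    have h2 := congrArg Subtype.val this
    exact h2.symm
  · intro hz
    rw [Subgroup.mem_center_iff]
    intro x
    apply Subtype.ext
    exact (scalar_comm hz (x : GL (Fin 4) F)).symm

theorem SymData.center_le_CR (hS : SymData R) (g : GL (Fin 4) F) :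
    Subgroup.center ↥R ≤ CR R g := by
  intro z hz
  rw [mem_CR]
  exact scalar_comm ((hS.mem_center_iff z).1 hz) g

theorem mem_of_dvd_64 {c : ℕ} (h1 : c ∣ 64) (h2 : 4 ∣ c) :
    c = 4 ∨ c = 8 ∨ c = 16 ∨ c = 32 ∨ c = 64 := by
  have h3 : c ∈ Nat.divisors 64 := Nat.mem_divisors.2 ⟨h1, by norm_num⟩
  have h4 : Nat.divisors 64 = {1, 2, 4, 8, 16, 32, 64} := by decide
  rw [h4] at h3
  simp only [Finset.mem_insert, Finset.mem_singleton] at h3
  rcases h3 with rfl | rfl | rfl | rfl | rfl | rfl | rfl <;> omega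

/-- A subgroup of `R` containing the centre has order 4, 8, 16, 32 or 64. -/
theorem SymData.card_of_center_le (hS : SymData R) (K : Subgroup ↥R)
    (hK : Subgroup.center ↥R ≤ K) :
    Nat.card K = 4 ∨ Nat.card K = 8 ∨ Nat.card K = 16 ∨ Nat.card K = 32 ∨ Nat.card K = 64 := by
  apply mem_of_dvd_64
  · have := Subgroup.card_subgroup_dvd_card K
    rwa [hS.card] at this
  · have := Subgroup.card_dvd_of_le hK
    rwa [hS.cardZ] at this

theorem SymData.scalar_of_card_CR (hS : SymData R) {g : GL (Fin 4) F}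
    (h : Nat.card (CR R g) = 64) : g ∈ Cfsg.Geo.scalars (Fin 4) F := by
  have htop : CR R g = ⊤ := by
    apply Subgroup.eq_top_of_card_eq
    rw [h, hS.card]
  apply hS.cent
  intro x hx
  have : (⟨x, hx⟩ : ↥R) ∈ CR R g := by rw [htop]; trivial
  exact ((mem_CR R g _).1 this).symm

theorem SymData.card_CR_modEq (hS : SymData R) {g : GL (Fin 4) F}
    (hg : g ∈ Cfsg.Geo.subgroupNormalizer R) {r : ℕ} [Fact r.Prime]
    (hgr : g ^ r ∈ Cfsg.Geo.scalars (Fin 4) F) :
    64 ≡ Nat.card (CR R g) [MOD r] := by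
  have hN : ∀ w, w ∈ R ↔ g * w * g⁻¹ ∈ R := by
    unfold Cfsg.Geo.subgroupNormalizer at hg
    exact Subgroup.mem_normalizer_iff.1 hg
  have := _root_.Cfsg.Agent.Helper17.Sym4.card_CR_modEq R hN (r := r)
    (fun a _ => scalar_comm hgr a)
  rwa [hS.card] at this

/-- The centraliser in `R` of an element of `R` has index at most two. -/
theorem SymData.card_le_two_mul (hS : SymData R) {a : GL (Fin 4) F} (ha : a ∈ R) :
    64 ≤ 2 * Nat.card (CR R a) := by
  classical
  by_cases has : a ∈ Cfsg.Geo.scalars (Fin 4) F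
  · have htop : CR R a = ⊤ := by
      rw [eq_top_iff]
      intro x _
      rw [mem_CR]
      exact (scalar_comm has x).symm
    rw [htop, Subgroup.card_top, hS.card]
    norm_num
  · obtain ⟨y, hy, hay⟩ := hS.exists_anti ha has
    haveI : NeZero 4 := ⟨by norm_num⟩
    have hneg : ((-1 : F))⁻¹ = -1 := by
      rw [inv_neg, inv_one]
    let φ : ↥R → Bool × ↥(CR R a) := fun b =>
      if h : b ∈ CR R a then (false, ⟨b, h⟩)
      else (true, ⟨⟨y⁻¹ * b, R.mul_mem (R.inv_mem hy) b.2⟩, by
        rw [mem_CR]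
        have h1 : TC a (b : GL (Fin 4) F) (-1) := by
          rcases hS.comm_or ha b.2 with h2 | h2
          · exfalso
            apply h
            rw [mem_CR]
            exact ((TC_one_iff _ _).1 h2).symm
          · exact h2
        have h3 : TC a y⁻¹ (-1) := by
          have := hay.inv_right
          rwa [hneg] at this
        have h4 := h3.mul_right h1
        have h5 : ((-1 : F)) * (-1) = 1 := by norm_num
        rw [h5] at h4
        exact ((TC_one_iff _ _).1 h4).symm⟩)
    have hφ : Function.Injective φ := by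
      intro b b' hbb
      by_cases h : b ∈ CR R a
      · by_cases h' : b' ∈ CR R a
        · simp only [φ, dif_pos h, dif_pos h'] at hbb
          have := congrArg (fun t => (t.2 : ↥R)) hbb
          exact this
        · simp only [φ, dif_pos h, dif_neg h'] at hbb
          have := congrArg Prod.fst hbb
          simp at this
      · by_cases h' : b' ∈ CR R a
        · simp only [φ, dif_neg h, dif_pos h'] at hbb
          have := congrArg Prod.fst hbb
          simp at this
        · simp only [φ, dif_neg h, dif_neg h'] at hbb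
          have h1 := congrArg (fun t => ((t.2 : ↥R) : GL (Fin 4) F)) hbb
          have h2 : y⁻¹ * (b : GL (Fin 4) F) = y⁻¹ * (b' : GL (Fin 4) F) := h1
          exact Subtype.ext (mul_left_cancel h2)
    have h1 := Nat.card_le_card_of_injective φ hφ
    rw [hS.card, Nat.card_prod] at h1
    simpa using h1

end sym

end Cfsg.Agent.Helper17.Sym4
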