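import Mathlib
import Cfsg.Agent.Lib.Helper17.Sym4C

/-!
# Consequences of the counting: elements of `N(R)` of prime order modulo scalars (helper17)
-/

set_option autoImplicit false

namespace Cfsg.Agent.Helper17.Sym4

open Matrix Cfsg.Agent.Helper17.ExtraEig

variable {F : Type*} [Field F] [Finite F] {R : Subgroup (GL (Fin 4) F)}

theorem prime_dvd_two_pow {r k : ℕ} (hr : r.Prime) (h : r ∣ 2 ^ k) : r = 2 :=
  (Nat.prime_dvd_prime_iff_eq hr Nat.prime_two).1 (hr.dvd_of_dvd_pow h)

/-- The exceptional configuration for `r = 7` does not occur. -/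
theorem SymData.card_CR_ne_eight (hS : SymData R) {g : GL (Fin 4) F}
    (hg : g ∈ Cfsg.Geo.subgroupNormalizer R) (hgr : g ^ 7 ∈ Cfsg.Geo.scalars (Fin 4) F) :
    Nat.card (CR R g) ≠ 8 := by
  intro h8
  haveI : Fact (Nat.Prime 7) := ⟨by norm_num⟩
  have hN : ∀ w, w ∈ R ↔ g * w * g⁻¹ ∈ R := by
    unfold Cfsg.Geo.subgroupNormalizer at hg
    exact Subgroup.mem_normalizer_iff.1 hg
  have hle := hS.center_le_CR g
  -- an element of `CR R g` outside the centre
  obtain ⟨a, haC, haZ⟩ : ∃ a : ↥R, a ∈ CR R g ∧ a ∉ Subgroup.center ↥R := by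
    by_contra hcon
    push Not at hcon
    have : CR R g ≤ Subgroup.center ↥R := fun a ha => hcon a ha
    have h1 := Subgroup.card_le_of_le this
    rw [h8, hS.cardZ] at h1
    omega
  have hga : (a : GL (Fin 4) F) * g = g * a := (mem_CR R g a).1 haC
  set K := CR R (a : GL (Fin 4) F) with hK
  have hKinv : ∀ b : ↥R, b ∈ K → (⟨g * b * g⁻¹, (hN b).1 b.2⟩ : ↥R) ∈ K := by
    intro b hb
    rw [hK, mem_CR] at hb ⊢
    show g * (b : GL (Fin 4) F) * g⁻¹ * (a : GL (Fin 4) F) = (a : GL (Fin 4) F) * (g * b * g⁻¹)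
    have h1 : g⁻¹ * (a : GL (Fin 4) F) = (a : GL (Fin 4) F) * g⁻¹ := by
      calc g⁻¹ * (a : GL (Fin 4) F) = g⁻¹ * ((a : GL (Fin 4) F) * g) * g⁻¹ := by group
        _ = g⁻¹ * (g * a) * g⁻¹ := by rw [hga]
        _ = (a : GL (Fin 4) F) * g⁻¹ := by group
    calc g * (b : GL (Fin 4) F) * g⁻¹ * (a : GL (Fin 4) F)
        = g * (b : GL (Fin 4) F) * (g⁻¹ * (a : GL (Fin 4) F)) := by group
      _ = g * ((b : GL (Fin 4) F) * (a : GL (Fin 4) F)) * g⁻¹ := by rw [h1]; group
      _ = g * ((a : GL (Fin 4) F) * (b : GL (Fin 4) F)) * g⁻¹ := by rw [hb]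
      _ = (g * (a : GL (Fin 4) F)) * b * g⁻¹ := by group
      _ = ((a : GL (Fin 4) F) * g) * b * g⁻¹ := by rw [hga]
      _ = (a : GL (Fin 4) F) * (g * b * g⁻¹) := by group
  have hmod := card_inf_CR_modEq R hN (r := 7) (fun x _ => scalar_comm hgr x) K hKinv
  -- the subgroup E
  set E : Subgroup ↥R := K ⊓ CR R g with hE
  have hZK : Subgroup.center ↥R ≤ K := hS.center_le_CR _
  have hZE : Subgroup.center ↥R ≤ E := le_inf hZK hle
  have haE : a ∈ E := by
    refine Subgroup.mem_inf.2 ⟨?_, haC⟩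
    rw [hK, mem_CR]
  have hE8 : Nat.card E = 8 := by
    have h1 : Nat.card E ∣ 8 := by
      rw [← h8]; exact Subgroup.card_dvd_of_le inf_le_right
    rcases hS.card_of_center_le E hZE with h | h | h | h | h
    · exfalso
      apply haZ
      have : Subgroup.center ↥R = E := by
        apply Subgroup.eq_of_le_of_card_ge hZE
        rw [h, hS.cardZ]
      rw [this]; exact haE
    · exact h
    all_goals (rw [h] at h1; norm_num at h1)
  rw [hE8] at hmod
  have h2 := hS.card_le_two_mul a.2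
  rw [← hK] at h2
  rcases hS.card_of_center_le K hZK with h | h | h | h | h
  · omega
  · omega
  · omega
  · rw [h] at hmod; exact absurd hmod (by decide)
  · -- `a` is central
    apply haZ
    have htop : K = ⊤ := by
      apply Subgroup.eq_top_of_card_eq
      rw [h, hS.card]
    rw [hS.mem_center_iff]
    apply hS.cent
    intro x hx
    have : (⟨x, hx⟩ : ↥R) ∈ K := by rw [htop]; trivial
    rw [hK, mem_CR] at this
    exact this.symm

/-- Elements of `N(R)` whose `r`-th power is scalar, `r ≥ 7` prime, are scalar. -/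
theorem SymData.scalar_of_seven_le (hS : SymData R) {g : GL (Fin 4) F}
    (hg : g ∈ Cfsg.Geo.subgroupNormalizer R) {r : ℕ} [hr : Fact r.Prime] (hr7 : 7 ≤ r)
    (hgr : g ^ r ∈ Cfsg.Geo.scalars (Fin 4) F) : g ∈ Cfsg.Geo.scalars (Fin 4) F := by
  have hmod := hS.card_CR_modEq hg hgr
  have hdvd : ∀ c : ℕ, c ≤ 64 → 64 ≡ c [MOD r] → r ∣ 64 - c := by
    intro c hc h
    exact (Nat.modEq_iff_dvd' hc).1 h.symm
  rcases hS.card_of_center_le (CR R g) (hS.center_le_CR g) with h | h | h | h | h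
  · exfalso
    rw [h] at hmod
    have h1 : r ∣ 2 ^ 2 * (3 * 5) := hdvd 4 (by norm_num) hmod
    rcases (Nat.Prime.dvd_mul hr.out).1 h1 with h2 | h2
    · have := prime_dvd_two_pow hr.out h2; omega
    · rcases (Nat.Prime.dvd_mul hr.out).1 h2 with h3 | h3
      · have := (Nat.prime_dvd_prime_iff_eq hr.out Nat.prime_three).1 h3; omega
      · have := (Nat.prime_dvd_prime_iff_eq hr.out Nat.prime_five).1 h3; omega
  · exfalso
    have h0 := h
    rw [h] at hmod
    have h1 : r ∣ 2 ^ 3 * 7 := hdvd 8 (by norm_num) hmod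
    rcases (Nat.Prime.dvd_mul hr.out).1 h1 with h2 | h2
    · have := prime_dvd_two_pow hr.out h2; omega
    · have h7 : r = 7 := (Nat.prime_dvd_prime_iff_eq hr.out (by norm_num)).1 h2
      subst h7
      exact hS.card_CR_ne_eight hg hgr h0
  · exfalso
    rw [h] at hmod
    have h1 : r ∣ 2 ^ 4 * 3 := hdvd 16 (by norm_num) hmod
    rcases (Nat.Prime.dvd_mul hr.out).1 h1 with h2 | h2
    · have := prime_dvd_two_pow hr.out h2; omega
    · have := (Nat.prime_dvd_prime_iff_eq hr.out Nat.prime_three).1 h2; omega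
  · exfalso
    rw [h] at hmod
    have h1 : r ∣ 2 ^ 5 := hdvd 32 (by norm_num) hmod
    have := prime_dvd_two_pow hr.out h1; omega
  · exact hS.scalar_of_card_CR h

/-- `r = 5`. -/
theorem SymData.trace_five (hS : SymData R) {g : GL (Fin 4) F}
    (hg : g ∈ Cfsg.Geo.subgroupNormalizer R) (hgr : g ^ 5 ∈ Cfsg.Geo.scalars (Fin 4) F)
    (hgs : g ∉ Cfsg.Geo.scalars (Fin 4) F) :
    (g : Matrix (Fin 4) (Fin 4) F).trace *
      ((g⁻¹ : GL (Fin 4) F) : Matrix (Fin 4) (Fin 4) F).trace = 1 := by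
  haveI : Fact (Nat.Prime 5) := ⟨by norm_num⟩
  haveI : Fintype ↥R := Fintype.ofFinite _
  have hmod := hS.card_CR_modEq hg hgr
  have hc : Nat.card (CR R g) = 4 := by
    rcases hS.card_of_center_le (CR R g) (hS.center_le_CR g) with h | h | h | h | h
    · exact h
    · rw [h] at hmod; exact absurd hmod (by decide)
    · rw [h] at hmod; exact absurd hmod (by decide)
    · rw [h] at hmod; exact absurd hmod (by decide)
    · exact absurd (hS.scalar_of_card_CR h) hgs
  have htr := hS.trace_formula hg (r := 5) (by decide) hgr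
  have hc' : Nat.card {a : ↥R // (a : GL (Fin 4) F) * g = g * a} = 4 := hc
  rw [hc'] at htr
  have h4 : (4 : F) ≠ 0 := by
    have : (4 : F) = 2 * 2 := by norm_num
    rw [this]
    exact mul_ne_zero hS.two_ne hS.two_ne
  have : (4 : F) * ((g : Matrix (Fin 4) (Fin 4) F).trace *
      ((g⁻¹ : GL (Fin 4) F) : Matrix (Fin 4) (Fin 4) F).trace) = 4 * 1 := by
    rw [Nat.cast_ofNat] at htr
    linear_combination htr
  exact mul_left_cancel₀ h4 this

/-- `r = 3`. -/
theorem SymData.trace_three (hS : SymData R) {g : GL (Fin 4) F}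
    (hg : g ∈ Cfsg.Geo.subgroupNormalizer R) (hgr : g ^ 3 ∈ Cfsg.Geo.scalars (Fin 4) F)
    (hgs : g ∉ Cfsg.Geo.scalars (Fin 4) F) :
    (g : Matrix (Fin 4) (Fin 4) F).trace *
      ((g⁻¹ : GL (Fin 4) F) : Matrix (Fin 4) (Fin 4) F).trace = 1 ∨
    (g : Matrix (Fin 4) (Fin 4) F).trace *
      ((g⁻¹ : GL (Fin 4) F) : Matrix (Fin 4) (Fin 4) F).trace = 4 := by
  haveI : Fact (Nat.Prime 3) := ⟨by norm_num⟩
  haveI : Fintype ↥R := Fintype.ofFinite _
  have hmod := hS.card_CR_modEq hg hgr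
  have htr := hS.trace_formula hg (r := 3) (by decide) hgr
  have h4 : (4 : F) ≠ 0 := by
    have : (4 : F) = 2 * 2 := by norm_num
    rw [this]
    exact mul_ne_zero hS.two_ne hS.two_ne
  have hc : Nat.card (CR R g) = 4 ∨ Nat.card (CR R g) = 16 := by
    rcases hS.card_of_center_le (CR R g) (hS.center_le_CR g) with h | h | h | h | h
    · exact Or.inl h
    · rw [h] at hmod; exact absurd hmod (by decide)
    · exact Or.inr h
    · rw [h] at hmod; exact absurd hmod (by decide)
    · exact absurd (hS.scalar_of_card_CR h) hgs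
  rcases hc with hc | hc
  · left
    have hc' : Nat.card {a : ↥R // (a : GL (Fin 4) F) * g = g * a} = 4 := hc
    rw [hc'] at htr
    have : (4 : F) * ((g : Matrix (Fin 4) (Fin 4) F).trace *
        ((g⁻¹ : GL (Fin 4) F) : Matrix (Fin 4) (Fin 4) F).trace) = 4 * 1 := by
      rw [Nat.cast_ofNat] at htr
      linear_combination htr
    exact mul_left_cancel₀ h4 this
  · right
    have hc' : Nat.card {a : ↥R // (a : GL (Fin 4) F) * g = g * a} = 16 := hc
    rw [hc'] at htr
    have : (4 : F) * ((g : Matrix (Fin 4) (Fin 4) F).trace *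
        ((g⁻¹ : GL (Fin 4) F) : Matrix (Fin 4) (Fin 4) F).trace) = 4 * 4 := by
      rw [Nat.cast_ofNat] at htr
      linear_combination htr
    exact mul_left_cancel₀ h4 this

end Cfsg.Agent.Helper17.Sym4
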