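import Mathlib
import Cfsg.Agent.Lib.Helper17.Sym4D
import Cfsg.Agent.Lib.Helper16.Sym4P1

/-!
# `SymData` from the hypotheses of the statement (helper17)
-/

set_option autoImplicit false

namespace Cfsg.Agent.Helper17.Sym4

open Matrix Cfsg.Agent.Helper17.ExtraEig
open scoped commutatorElement

variable {F : Type*} [Field F]

/-- If `x y = s y x` with `x⁴ = y⁴ = (y x)⁴ = 1` then `s⁶ = 1`. -/
theorem TC.pow_six {x y : GL (Fin 4) F} {s : F} (h : TC x y s) (hx : x ^ 4 = 1) (hy : y ^ 4 = 1)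
    (hyx : (y * x) ^ 4 = 1) : s ^ 6 = 1 := by
  have h22 : TC (x ^ 2) (y ^ 2) ((s ^ 2) ^ 2) := (h.pow_left (n := 4) 2).pow_right 2
  unfold TC at h h22
  set X := (x : Matrix (Fin 4) (Fin 4) F) with hX
  set Y := (y : Matrix (Fin 4) (Fin 4) F) with hY
  have hX2 : ((x ^ 2 : GL (Fin 4) F) : Matrix (Fin 4) (Fin 4) F) = X * X := by
    rw [pow_two, Units.val_mul]
  have hY2 : ((y ^ 2 : GL (Fin 4) F) : Matrix (Fin 4) (Fin 4) F) = Y * Y := by
    rw [pow_two, Units.val_mul]
  rw [hX2, hY2] at h22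
  have hX4 : X * X * (X * X) = 1 := by
    have e : (x ^ 2 * x ^ 2 : GL (Fin 4) F) = 1 := by rw [← pow_add]; exact hx
    have := congrArg (fun u : GL (Fin 4) F => (u : Matrix (Fin 4) (Fin 4) F)) e
    simp only [Units.val_one, Units.val_mul] at this
    rwa [hX2] at this
  have hY4 : Y * Y * (Y * Y) = 1 := by
    have e : (y ^ 2 * y ^ 2 : GL (Fin 4) F) = 1 := by rw [← pow_add]; exact hy
    have := congrArg (fun u : GL (Fin 4) F => (u : Matrix (Fin 4) (Fin 4) F)) e
    simp only [Units.val_one, Units.val_mul] at this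
    rwa [hY2] at this
  have h1 : Y * X * (Y * X) = s • (Y * Y * (X * X)) := by
    calc Y * X * (Y * X) = Y * (X * Y) * X := by simp only [Matrix.mul_assoc]
      _ = Y * (s • (Y * X)) * X := by rw [h]
      _ = s • (Y * Y * (X * X)) := by
        simp only [Matrix.mul_smul, Matrix.smul_mul, Matrix.mul_assoc]
  have h2 : (Y * X * (Y * X)) * (Y * X * (Y * X)) = (s ^ 6) • (1 : Matrix (Fin 4) (Fin 4) F) := by
    rw [h1]
    calc s • (Y * Y * (X * X)) * s • (Y * Y * (X * X))
        = (s * s) • (Y * Y * ((X * X) * (Y * Y)) * (X * X)) := by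
          simp only [Matrix.mul_smul, Matrix.smul_mul, Matrix.mul_assoc, smul_smul]
      _ = (s * s) • (Y * Y * ((s ^ 2) ^ 2 • ((Y * Y) * (X * X))) * (X * X)) := by rw [h22]
      _ = (s * s * (s ^ 2) ^ 2) • ((Y * Y * (Y * Y)) * (X * X * (X * X))) := by
          simp only [Matrix.mul_smul, Matrix.smul_mul, Matrix.mul_assoc, smul_smul]
      _ = (s ^ 6) • (1 : Matrix (Fin 4) (Fin 4) F) := by
          rw [hX4, hY4, Matrix.mul_one]
          congr 1
          ring
  have h3 : (Y * X * (Y * X)) * (Y * X * (Y * X)) = 1 := by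
    have e : ((y * x) * (y * x) * ((y * x) * (y * x)) : GL (Fin 4) F) = 1 := by
      have e2 : (y * x) ^ 4 = (y * x) * (y * x) * ((y * x) * (y * x)) := by
        rw [pow_succ, pow_succ, pow_succ, pow_one]; group
      rw [← e2]; exact hyx
    have := congrArg (fun u : GL (Fin 4) F => (u : Matrix (Fin 4) (Fin 4) F)) e
    simpa only [Units.val_one, Units.val_mul] using this
  rw [h3] at h2
  have := congrFun (congrFun h2 0) 0
  simpa using this.symm

/-- Construction of `SymData` from the hypotheses of the statement. -/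
theorem symData_of_hyp [Fintype F] (h2 : (2 : F) ≠ 0) (R : Subgroup (GL (Fin 4) F))
    (hR : Cfsg.Geo.IsLinearSymplecticTypeData 2 R) (hR6 : Nat.card R = 2 ^ 6) : SymData R := by
  have hsym := hR.symplecticType
  have hirr := hR.absIrred
  -- the centre has order four
  have hZ : Nat.card (Subgroup.center ↥R) = 4 := by
    obtain ⟨p', e, _, _, h | h | h⟩ := hR.field
    · exact absurd h.1 (by decide)
    · exact h.2.2.1
    · exfalso
      have := h.2.2.1
      rw [Fintype.card_fin] at this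
      omega
  have hexp : Monoid.exponent ↥R = 4 := by
    rw [hsym.exponent_eq]
    norm_num
  have hexp4 : ∀ x ∈ R, x ^ 4 = 1 := by
    intro x hx
    have h1 : (⟨x, hx⟩ : ↥R) ^ Monoid.exponent ↥R = 1 := Monoid.pow_exponent_eq_one _
    rw [hexp] at h1
    have := congrArg Subtype.val h1
    simpa using this
  have hcentM : ∀ M : Matrix (Fin 4) (Fin 4) F,
      (∀ x ∈ R, M * (x : Matrix (Fin 4) (Fin 4) F) = (x : Matrix (Fin 4) (Fin 4) F) * M) →
      ∃ c : F, M = c • (1 : Matrix (Fin 4) (Fin 4) F) := by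
    intro M hM
    apply hirr.2 M
    rintro _ ⟨x, hx, rfl⟩
    exact hM x hx
  have hcent : ∀ w : GL (Fin 4) F, (∀ x ∈ R, w * x = x * w) →
      w ∈ Cfsg.Geo.scalars (Fin 4) F := by
    intro w hw
    obtain ⟨c, hc⟩ := hcentM (w : Matrix (Fin 4) (Fin 4) F) (by
      intro x hx
      have := hw x hx
      rw [← Units.val_mul, ← Units.val_mul, this])
    have hc0 : c ≠ 0 := by
      rintro rfl
      rw [zero_smul] at hc
      have h1 : IsUnit ((w : GL (Fin 4) F) : Matrix (Fin 4) (Fin 4) F) := w.isUnit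
      rw [hc] at h1
      exact not_isUnit_zero h1
    exact (Cfsg.Geo.mem_scalars_iff w).2 ⟨Units.mk0 c hc0, hc⟩
  have hclass := Cfsg.Agent.Helper16.Sym4P1.commutator_le_center_of_char_cyclic
    (G := ↥R) hsym.pGroup hsym.cyclic_of_characteristic hexp hZ
  refine ⟨hcent, hcentM, ?_, hexp4, by rw [hR6]; norm_num, hZ, h2⟩
  intro x hx y hy
  have hz' : ⁅(⟨x, hx⟩ : ↥R), (⟨y, hy⟩ : ↥R)⁆ ∈ Subgroup.center ↥R := by
    apply hclass
    rw [commutator_def]
    exact Subgroup.commutator_mem_commutator (Subgroup.mem_top _) (Subgroup.mem_top _)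
  set z' : ↥R := ⁅(⟨x, hx⟩ : ↥R), (⟨y, hy⟩ : ↥R)⁆ with hz'def
  have hzval : (z' : GL (Fin 4) F) = x * y * x⁻¹ * y⁻¹ := by
    rw [hz'def, commutatorElement_def]
    rfl
  have hzs : (z' : GL (Fin 4) F) ∈ Cfsg.Geo.scalars (Fin 4) F := by
    apply hcent
    intro w hw
    have h1 := (Subgroup.mem_center_iff.1 hz') ⟨w, hw⟩
    have h2 := congrArg Subtype.val h1
    simpa using h2.symm
  obtain ⟨s, hs⟩ := (Cfsg.Geo.mem_scalars_iff _).1 hzs
  have hTC : TC x y (s : F) := by
    rw [TC_iff_mul]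
    have h1 : x * y = (z' : GL (Fin 4) F) * (y * x) := by rw [hzval]; group
    rw [h1, Units.val_mul, hs, Matrix.smul_mul, Matrix.one_mul]
  have h6 : (s : F) ^ 6 = 1 :=
    TC.pow_six hTC (hexp4 x hx) (hexp4 y hy) (hexp4 _ (R.mul_mem hy hx))
  have h4 : (s : F) ^ 4 = 1 := by
    have h1 := hexp4 _ z'.2
    have h2 := congrArg (fun u : GL (Fin 4) F => (u : Matrix (Fin 4) (Fin 4) F)) h1
    simp only [Units.val_pow_eq_pow_val, Units.val_one] at h2
    rw [hs, smul_pow, one_pow] at h2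
    have h3 := congrFun (congrFun h2 0) 0
    simpa using h3
  refine ⟨(s : F), ?_, hTC⟩
  have hs0 : (s : F) ≠ 0 := s.ne_zero
  have : (s : F) ^ 4 * (s : F) ^ 2 = (s : F) ^ 4 * 1 := by
    rw [mul_one, h4, one_mul]
    have h7 : (s : F) ^ 6 = (s : F) ^ 4 * (s : F) ^ 2 := by ring
    rw [h7, h4, one_mul] at h6
    exact h6
  exact mul_left_cancel₀ (pow_ne_zero 4 hs0) this

end Cfsg.Agent.Helper17.Sym4
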