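import Mathlib
import Cfsg.Agent.Lib.Helper17.Sym4H
import Cfsg.Agent.Lib.Helper25.Sym4Q2

/-!
# Standard form of `R`: a hyperbolic quadruple and generation (helper17)
-/

set_option autoImplicit false

namespace Cfsg.Agent.Helper17.Sym4

open Matrix Cfsg.Agent.Helper17.ExtraEig

variable {F : Type*} [Field F] [Finite F] {R : Subgroup (GL (Fin 4) F)}

/-- Relative index-two lemma. -/
theorem SymData.card_le_two_mul_inf (hS : SymData R) (K : Subgroup ↥R) {t : GL (Fin 4) F}
    (ht : t ∈ R) : Nat.card K ≤ 2 * Nat.card (K ⊓ CR R t : Subgroup ↥R) := by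
  classical
  by_cases hall : ∀ b ∈ K, b ∈ CR R t
  · have : K ⊓ CR R t = K := inf_eq_left.2 hall
    rw [this]; omega
  · push Not at hall
    obtain ⟨y, hyK, hyt⟩ := hall
    haveI : NeZero 4 := ⟨by norm_num⟩
    have hneg : ((-1 : F))⁻¹ = -1 := by rw [inv_neg, inv_one]
    have hanti : ∀ b : ↥R, b ∉ CR R t → TC t (b : GL (Fin 4) F) (-1) := by
      intro b hb
      rcases hS.comm_or ht b.2 with h2 | h2
      · exfalso
        apply hb
        rw [mem_CR]
        exact ((TC_one_iff _ _).1 h2).symm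
      · exact h2
    have hty := hanti y hyt
    let φ : ↥K → Bool × ↥(K ⊓ CR R t : Subgroup ↥R) := fun b =>
      if h : (b : ↥R) ∈ CR R t then (false, ⟨b, Subgroup.mem_inf.2 ⟨b.2, h⟩⟩)
      else (true, ⟨y⁻¹ * b, Subgroup.mem_inf.2 ⟨K.mul_mem (K.inv_mem hyK) b.2, by
        rw [mem_CR]
        have h1 := hanti b h
        have h3 : TC t ((y : GL (Fin 4) F))⁻¹ (-1) := by
          have := hty.inv_right
          rwa [hneg] at this
        have h4 := h3.mul_right h1
        have h5 : ((-1 : F)) * (-1) = 1 := by norm_num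
        rw [h5] at h4
        exact ((TC_one_iff _ _).1 h4).symm⟩⟩)
    have hφ : Function.Injective φ := by
      intro b b' hbb
      by_cases h : (b : ↥R) ∈ CR R t
      · by_cases h' : (b' : ↥R) ∈ CR R t
        · simp only [φ, dif_pos h, dif_pos h'] at hbb
          have := congrArg (fun u => (u.2 : ↥R)) hbb
          exact Subtype.ext this
        · simp only [φ, dif_pos h, dif_neg h'] at hbb
          have := congrArg Prod.fst hbb
          simp at this
      · by_cases h' : (b' : ↥R) ∈ CR R t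
        · simp only [φ, dif_neg h, dif_pos h'] at hbb
          have := congrArg Prod.fst hbb
          simp at this
        · simp only [φ, dif_neg h, dif_neg h'] at hbb
          have h1 := congrArg (fun u => (u.2 : ↥R)) hbb
          have h2 : y⁻¹ * (b : ↥R) = y⁻¹ * (b' : ↥R) := h1
          exact Subtype.ext (mul_left_cancel h2)
    have h1 := Nat.card_le_card_of_injective φ hφ
    rw [Nat.card_prod] at h1
    simpa using h1

/-- There is a non-scalar element of `R`. -/
theorem SymData.exists_nonscalar (hS : SymData R) :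
    ∃ a ∈ R, a ∉ Cfsg.Geo.scalars (Fin 4) F := by
  by_contra hcon
  push Not at hcon
  have : Subgroup.center ↥R = ⊤ := by
    rw [eq_top_iff]
    intro z _
    rw [hS.mem_center_iff]
    exact hcon z z.2
  have h1 := hS.cardZ
  rw [this, Subgroup.card_top, hS.card] at h1
  omega

/-- Adjusting an element of `R` into the centraliser of a hyperbolic pair. -/
theorem SymData.exists_adjust (hS : SymData R) {a1 b1 : GL (Fin 4) F} (ha1 : a1 ∈ R) (hb1 : b1 ∈ R)
    (hab : TC a1 b1 (-1)) {y : GL (Fin 4) F} (hy : y ∈ R) :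
    ∃ q ∈ R, (∀ c : GL (Fin 4) F, TC c a1 1 → TC c b1 1 → TC c q 1) ∧
      TC a1 (q * y) 1 ∧ TC b1 (q * y) 1 := by
  haveI : NeZero 4 := ⟨by norm_num⟩
  have hneg : ((-1 : F))⁻¹ = -1 := by rw [inv_neg, inv_one]
  have hba : TC b1 a1 (-1) := by
    have := hab.symm
    rwa [hneg] at this
  have h11 : ((-1 : F)) * (-1) = 1 := by norm_num
  rcases hS.comm_or ha1 hy with h1 | h1 <;> rcases hS.comm_or hb1 hy with h2 | h2
  · refine ⟨1, R.one_mem, fun c _ _ => TC.one_right c, ?_, ?_⟩
    · rw [one_mul]; exact h1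
    · rw [one_mul]; exact h2
  · -- multiply by a1
    refine ⟨a1, ha1, fun c h _ => h, ?_, ?_⟩
    · have := (TC.self a1).mul_right h1
      rwa [one_mul] at this
    · have := hba.mul_right h2
      rwa [h11] at this
  · -- multiply by b1
    refine ⟨b1, hb1, fun c _ h => h, ?_, ?_⟩
    · have := hab.mul_right h1
      rwa [h11] at this
    · have := (TC.self b1).mul_right h2
      rwa [one_mul] at this
  · -- multiply by b1 * a1
    refine ⟨b1 * a1, R.mul_mem hb1 ha1, fun c h h' => ?_, ?_, ?_⟩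
    · have := h'.mul_right h
      rwa [one_mul] at this
    · have h3 := (hab.mul_right (TC.self a1)).mul_right h1
      rw [mul_one, h11] at h3
      exact h3
    · have h3 := ((TC.self b1).mul_right hba).mul_right h2
      rw [one_mul, h11] at h3
      exact h3


/-- A hyperbolic quadruple in `R`. -/
theorem SymData.exists_quadruple (hS : SymData R) : ∃ a1 ∈ R, ∃ b1 ∈ R, ∃ a2 ∈ R, ∃ b2 ∈ R,
    TC a1 b1 (-1) ∧ TC a2 b2 (-1) ∧ TC a1 a2 1 ∧ TC a1 b2 1 ∧ TC b1 a2 1 ∧ TC b1 b2 1 := by
  haveI : NeZero 4 := ⟨by norm_num⟩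
  obtain ⟨a1, ha1, ha1s⟩ := hS.exists_nonscalar
  obtain ⟨b1, hb1, hab⟩ := hS.exists_anti ha1 ha1s
  set K : Subgroup ↥R := CR R a1 ⊓ CR R b1 with hK
  have hcard : 16 ≤ Nat.card K := by
    have h1 := hS.card_le_two_mul ha1
    have h2 := hS.card_le_two_mul_inf (CR R a1) hb1
    rw [← hK] at h2
    omega
  obtain ⟨a2', ha2K, ha2Z⟩ : ∃ a : ↥R, a ∈ K ∧ a ∉ Subgroup.center ↥R := by
    by_contra hcon
    push Not at hcon
    have : K ≤ Subgroup.center ↥R := fun a ha => hcon a ha
    have h1 := Subgroup.card_le_of_le this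
    rw [hS.cardZ] at h1
    omega
  have ha2 : (a2' : GL (Fin 4) F) ∈ R := a2'.2
  have ha2s : (a2' : GL (Fin 4) F) ∉ Cfsg.Geo.scalars (Fin 4) F := fun h =>
    ha2Z ((hS.mem_center_iff a2').2 h)
  have h1a2 : TC a1 (a2' : GL (Fin 4) F) 1 := by
    have := (mem_CR R a1 a2').1 (Subgroup.mem_inf.1 ha2K).1
    exact (TC_one_iff _ _).2 this.symm
  have hb1a2 : TC b1 (a2' : GL (Fin 4) F) 1 := by
    have := (mem_CR R b1 a2').1 (Subgroup.mem_inf.1 ha2K).2
    exact (TC_one_iff _ _).2 this.symm
  obtain ⟨y, hy, ha2y⟩ := hS.exists_anti ha2 ha2s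
  obtain ⟨q, hq, hqc, h1q, hbq⟩ := hS.exists_adjust ha1 hb1 hab hy
  have ha2a1 : TC (a2' : GL (Fin 4) F) a1 1 := by
    have := h1a2.symm
    rwa [inv_one] at this
  have ha2b1 : TC (a2' : GL (Fin 4) F) b1 1 := by
    have := hb1a2.symm
    rwa [inv_one] at this
  refine ⟨a1, ha1, b1, hb1, a2', ha2, q * y, R.mul_mem hq hy, hab, ?_, h1a2, h1q, hb1a2, hbq⟩
  have := (hqc _ ha2a1 ha2b1).mul_right ha2y
  rwa [one_mul] at this

/-- The scalar `i` in `R`. -/
theorem SymData.exists_i (hS : SymData R) : ∃ i : Fˣ, (i : F) ^ 2 = -1 ∧ sc i ∈ R := by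
  classical
  obtain ⟨z, hzZ, hz2⟩ : ∃ z : ↥R, z ∈ Subgroup.center ↥R ∧ z * z ≠ 1 := by
    by_contra hcon
    push Not at hcon
    -- every central element is `1` or `-1`
    have hval : ∀ z : ↥R, z ∈ Subgroup.center ↥R → z ≠ 1 →
        ((z : GL (Fin 4) F) : Matrix (Fin 4) (Fin 4) F) = (-1 : F) • 1 := by
      intro z hz hz1
      obtain ⟨c, hc⟩ := (Cfsg.Geo.mem_scalars_iff _).1 ((hS.mem_center_iff z).1 hz)
      have h1 := hcon z hz
      have h2 := congrArg (fun u : ↥R => ((u : GL (Fin 4) F) : Matrix (Fin 4) (Fin 4) F)) h1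
      simp only [Subgroup.coe_mul, Units.val_mul, Subgroup.coe_one, Units.val_one] at h2
      rw [hc, Matrix.smul_mul, Matrix.mul_smul, Matrix.mul_one, smul_smul] at h2
      have h3 : (c : F) * c = 1 := by
        have := congrFun (congrFun h2 0) 0
        simpa using this
      rcases sq_eq_one_iff' (s := (c : F)) (by rw [pow_two]; exact h3) with h | h
      · exfalso
        apply hz1
        apply Subtype.ext
        apply Units.ext
        rw [hc, h, one_smul]
        rfl
      · rw [hc, h]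
    let f : ↥(Subgroup.center ↥R) → Bool := fun z => decide ((z : ↥R) = 1)
    have hf : Function.Injective f := by
      intro z z' hzz
      by_cases h : (z : ↥R) = 1
      · by_cases h' : (z' : ↥R) = 1
        · exact Subtype.ext (h.trans h'.symm)
        · exfalso
          simp only [f, decide_eq_decide] at hzz
          exact h' (hzz.1 h)
      · by_cases h' : (z' : ↥R) = 1
        · exfalso
          simp only [f, decide_eq_decide] at hzz
          exact h (hzz.2 h')
        · apply Subtype.ext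
          apply Subtype.ext
          apply Units.ext
          rw [hval z z.2 h, hval z' z'.2 h']
    have h1 := Nat.card_le_card_of_injective f hf
    rw [hS.cardZ] at h1
    simp at h1
  obtain ⟨c, hc⟩ := (Cfsg.Geo.mem_scalars_iff _).1 ((hS.mem_center_iff z).1 hzZ)
  have hmem : sc c ∈ R := by
    have : sc c = (z : GL (Fin 4) F) := by
      apply Units.ext
      rw [hc]; rfl
    rw [this]; exact z.2
  refine ⟨c, ?_, hmem⟩
  have h4 := hS.exp4 _ z.2
  have h5 := congrArg (fun u : GL (Fin 4) F => (u : Matrix (Fin 4) (Fin 4) F)) h4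
  simp only [Units.val_pow_eq_pow_val, Units.val_one] at h5
  rw [hc, smul_pow, one_pow] at h5
  have h6 : (c : F) ^ 4 = 1 := by
    have := congrFun (congrFun h5 0) 0
    simpa using this
  have h7 : ((c : F) ^ 2) ^ 2 = 1 := by rw [← pow_mul]; exact h6
  rcases sq_eq_one_iff' h7 with h | h
  · exfalso
    apply hz2
    apply Subtype.ext
    apply Units.ext
    show ((z : GL (Fin 4) F) : Matrix (Fin 4) (Fin 4) F) *
      ((z : GL (Fin 4) F) : Matrix (Fin 4) (Fin 4) F) = 1
    rw [hc, Matrix.smul_mul, Matrix.mul_smul, Matrix.mul_one, smul_smul, ← pow_two, h, one_smul]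
  · exact h


theorem sc_mem_scalars (c : Fˣ) : (sc c : GL (Fin 4) F) ∈ Cfsg.Geo.scalars (Fin 4) F :=
  (Cfsg.Geo.mem_scalars_iff _).2 ⟨c, rfl⟩

theorem sc_pow (c : Fˣ) (k : ℕ) : (sc c : GL (Fin 4) F) ^ k = sc (c ^ k) := by
  apply Units.ext
  rw [Units.val_pow_eq_pow_val, sc_val, sc_val, smul_pow, one_pow, Units.val_pow_eq_pow_val]

theorem sc_eq_one_iff (c : Fˣ) : (sc c : GL (Fin 4) F) = 1 ↔ c = 1 := by
  constructor
  · intro h
    have h1 := congrArg (fun u : GL (Fin 4) F => (u : Matrix (Fin 4) (Fin 4) F) 0 0) h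
    simp only [sc_val, Units.val_one, Matrix.smul_apply, Matrix.one_apply_eq, smul_eq_mul,
      mul_one] at h1
    exact Units.ext h1
  · rintro rfl
    apply Units.ext
    simp

theorem nonscalar_of_anti (h2 : (2 : F) ≠ 0) {x y : GL (Fin 4) F} (h : TC x y (-1)) :
    x ∉ Cfsg.Geo.scalars (Fin 4) F := by
  haveI : NeZero 4 := ⟨by norm_num⟩
  intro hx
  have h1 := TC.scalar_left hx y
  exact neg_one_ne_one h2 (h.unique h1)

theorem not_commute_of_anti (h2 : (2 : F) ≠ 0) {x y : GL (Fin 4) F} (h : TC x y (-1)) :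
    y * x ≠ x * y := by
  haveI : NeZero 4 := ⟨by norm_num⟩
  intro hx
  have h1 := (TC_one_iff x y).2 hx.symm
  exact neg_one_ne_one h2 (h.unique h1)

/-- Replacing an element of `R` by an involution in the same coset of the centre. -/
theorem SymData.exists_invol (hS : SymData R) {i : Fˣ} (hi : (i : F) ^ 2 = -1) (hiR : sc i ∈ R)
    {x : GL (Fin 4) F} (hx : x ∈ R) :
    ∃ x' ∈ R, x' * x' = 1 ∧ (∀ (c : GL (Fin 4) F) (s : F), TC c x s → TC c x' s) ∧
      (∀ (c : GL (Fin 4) F) (s : F), TC x c s → TC x' c s) := by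
  rcases hS.sq_eq hx with h | h
  · refine ⟨x, hx, ?_, fun c s h => h, fun c s h => h⟩
    apply Units.ext
    rw [Units.val_mul, h, Units.val_one]
  · refine ⟨sc i * x, R.mul_mem hiR hx, ?_, ?_, ?_⟩
    · apply Units.ext
      rw [Units.val_mul, Units.val_mul, sc_val, Units.val_one, Matrix.smul_mul, Matrix.one_mul,
        Matrix.mul_smul, Matrix.smul_mul, smul_smul, h, ← pow_two, hi]
      simp
    · intro c s hc
      have := (TC.scalar_right (sc_mem_scalars i) c).mul_right hc
      rwa [one_mul] at this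
    · intro c s hc
      have := (TC.scalar_left (sc_mem_scalars i) c).mul_left hc
      rwa [one_mul] at this

theorem two_mul_card_le {G : Type*} [Group G] {H K : Subgroup G} [Finite K] (hle : H ≤ K)
    {x : G} (hxK : x ∈ K) (hxH : x ∉ H) : 2 * Nat.card H ≤ Nat.card K := by
  have hdvd := Subgroup.card_dvd_of_le hle
  obtain ⟨m, hm⟩ := hdvd
  have hpos : 0 < Nat.card K := Nat.card_pos
  have hHpos : 0 < Nat.card H := by
    rcases Nat.eq_zero_or_pos (Nat.card H) with h | h
    · rw [h, zero_mul] at hm; omega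
    · exact h
  have hm1 : m ≠ 1 := by
    rintro rfl
    rw [mul_one] at hm
    have : H = K := Subgroup.eq_of_le_of_card_ge hle (by rw [hm])
    exact hxH (this ▸ hxK)
  have hm0 : m ≠ 0 := by
    rintro rfl
    rw [mul_zero] at hm; omega
  have : 2 ≤ m := by omega
  calc 2 * Nat.card H ≤ m * Nat.card H := Nat.mul_le_mul_right _ this
    _ = Nat.card K := by rw [hm, mul_comm]

/-- Elements of a closure commute with `t` if the generators do. -/
theorem commute_of_mem_closure {G : Type*} [Group G] {S : Set G} {t : G}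
    (hS : ∀ s ∈ S, t * s = s * t) {x : G} (hx : x ∈ Subgroup.closure S) : t * x = x * t := by
  have : Subgroup.closure S ≤ Subgroup.centralizer {t} := by
    rw [Subgroup.closure_le]
    intro s hs
    rw [SetLike.mem_coe, Subgroup.mem_centralizer_iff]
    intro u hu
    rw [Set.mem_singleton_iff] at hu
    subst hu
    exact hS s hs
  have h1 := this hx
  rw [Subgroup.mem_centralizer_iff] at h1
  exact h1 t rfl

end Cfsg.Agent.Helper17.Sym4
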