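import Mathlib
import Cfsg.Agent.Lib.Helper17.Sym4S

/-!
# Standard form of `R` (helper17)
-/

set_option autoImplicit false

namespace Cfsg.Agent.Helper17.Sym4

open Matrix Cfsg.Agent.Helper17.ExtraEig

variable {F : Type*} [Field F] [Finite F] {R : Subgroup (GL (Fin 4) F)}

/-- Generation of `R` by the scalar `i` and a hyperbolic quadruple. -/
theorem SymData.closure_eq (hS : SymData R) {i : Fˣ} (hi : (i : F) ^ 2 = -1) (hiR : sc i ∈ R)
    {a1 a2 b1 b2 : GL (Fin 4) F} (ha1 : a1 ∈ R) (ha2 : a2 ∈ R) (hb1 : b1 ∈ R) (hb2 : b2 ∈ R)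
    (h11 : TC a1 b1 (-1)) (h22 : TC a2 b2 (-1)) (h12 : TC a1 a2 1) (h1b2 : TC a1 b2 1)
    (hb1a2 : TC b1 a2 1) (hbb : TC b1 b2 1) :
    Subgroup.closure {sc i, a1, a2, b1, b2} = R := by
  haveI : NeZero 4 := ⟨by norm_num⟩
  have h2 := hS.two_ne
  have hneg : ((-1 : F))⁻¹ = -1 := by rw [inv_neg, inv_one]
  have hsci : ∀ t : GL (Fin 4) F, t * sc i = sc i * t := fun t =>
    (scalar_comm (sc_mem_scalars i) t).symm
  set H0 : Subgroup (GL (Fin 4) F) := Subgroup.closure {sc i} with hH0
  set H1 : Subgroup (GL (Fin 4) F) := Subgroup.closure {sc i, a1} with hH1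
  set H2 : Subgroup (GL (Fin 4) F) := Subgroup.closure {sc i, a1, a2} with hH2
  set H3 : Subgroup (GL (Fin 4) F) := Subgroup.closure {sc i, a1, a2, b1} with hH3
  set H4 : Subgroup (GL (Fin 4) F) := Subgroup.closure {sc i, a1, a2, b1, b2} with hH4
  have hle01 : H0 ≤ H1 := Subgroup.closure_mono (by intro x hx; simp at hx ⊢; tauto)
  have hle12 : H1 ≤ H2 := Subgroup.closure_mono (by intro x hx; simp at hx ⊢; tauto)
  have hle23 : H2 ≤ H3 := Subgroup.closure_mono (by intro x hx; simp at hx ⊢; tauto)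
  have hle34 : H3 ≤ H4 := Subgroup.closure_mono (by intro x hx; simp at hx ⊢; tauto)
  have hle4R : H4 ≤ R := by
    rw [hH4, Subgroup.closure_le]
    intro x hx
    simp only [Set.mem_insert_iff, Set.mem_singleton_iff] at hx
    rcases hx with rfl | rfl | rfl | rfl | rfl <;> assumption
  -- the order of `sc i`
  have hord : orderOf (sc i : GL (Fin 4) F) = 2 ^ (1 + 1) := by
    apply orderOf_eq_prime_pow
    · rw [sc_pow, sc_eq_one_iff]
      intro h
      have h3 := congrArg (fun u : Fˣ => (u : F)) h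
      simp only [Units.val_pow_eq_pow_val, Units.val_one, pow_one] at h3
      rw [hi] at h3
      exact neg_one_ne_one h2 h3
    · rw [sc_pow, sc_eq_one_iff]
      apply Units.ext
      rw [Units.val_pow_eq_pow_val, Units.val_one]
      have : (i : F) ^ 2 ^ (1 + 1) = ((i : F) ^ 2) ^ 2 := by ring
      rw [this, hi]; norm_num
  have hc0 : Nat.card H0 = 4 := by
    rw [hH0, ← Subgroup.zpowers_eq_closure, Nat.card_zpowers, hord]
    norm_num
  -- strictness of the chain
  have hn1 : a1 ∉ H0 := by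
    intro h
    have : H0 ≤ Cfsg.Geo.scalars (Fin 4) F := by
      rw [hH0, Subgroup.closure_le]
      intro x hx
      rw [Set.mem_singleton_iff] at hx
      rw [hx]; exact sc_mem_scalars i
    exact nonscalar_of_anti h2 h11 (this h)
  have hn2 : a2 ∉ H1 := by
    intro h
    have := commute_of_mem_closure (t := b2) (S := {sc i, a1}) (by
      intro s hs
      simp only [Set.mem_insert_iff, Set.mem_singleton_iff] at hs
      rcases hs with rfl | rfl
      · exact hsci b2
      · exact ((TC_one_iff _ _).1 h1b2).symm) h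
    exact not_commute_of_anti h2 h22 this
  have hn3 : b1 ∉ H2 := by
    intro h
    have := commute_of_mem_closure (t := a1) (S := {sc i, a1, a2}) (by
      intro s hs
      simp only [Set.mem_insert_iff, Set.mem_singleton_iff] at hs
      rcases hs with rfl | rfl | rfl
      · exact hsci a1
      · rfl
      · exact (TC_one_iff _ _).1 h12) h
    have h5 : TC b1 a1 (-1) := by
      have := h11.symm
      rwa [hneg] at this
    exact not_commute_of_anti h2 h5 this
  have hn4 : b2 ∉ H3 := by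
    intro h
    have := commute_of_mem_closure (t := a2) (S := {sc i, a1, a2, b1}) (by
      intro s hs
      simp only [Set.mem_insert_iff, Set.mem_singleton_iff] at hs
      rcases hs with rfl | rfl | rfl | rfl
      · exact hsci a2
      · exact ((TC_one_iff _ _).1 h12).symm
      · rfl
      · exact ((TC_one_iff _ _).1 hb1a2).symm) h
    have h5 : TC b2 a2 (-1) := by
      have := h22.symm
      rwa [hneg] at this
    exact not_commute_of_anti h2 h5 this
  have hm1 : a1 ∈ H1 := Subgroup.subset_closure (by simp)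
  have hm2 : a2 ∈ H2 := Subgroup.subset_closure (by simp)
  have hm3 : b1 ∈ H3 := Subgroup.subset_closure (by simp)
  have hm4 : b2 ∈ H4 := Subgroup.subset_closure (by simp)
  have k1 := two_mul_card_le hle01 hm1 hn1
  have k2 := two_mul_card_le hle12 hm2 hn2
  have k3 := two_mul_card_le hle23 hm3 hn3
  have k4 := two_mul_card_le hle34 hm4 hn4
  apply Subgroup.eq_of_le_of_card_ge hle4R
  rw [hS.card]
  omega

/-- **Standard form**: `R` is conjugate to the standard group `R0 i`. -/
theorem SymData.exists_standard (hS : SymData R) :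
    ∃ (i : Fˣ) (P : GL (Fin 4) F), (i : F) ^ 2 = -1 ∧
      R = (R0 i).map (MulAut.conj P).toMonoidHom := by
  haveI : NeZero 4 := ⟨by norm_num⟩
  have h2 := hS.two_ne
  obtain ⟨i, hi, hiR⟩ := hS.exists_i
  obtain ⟨a1, ha1, b1, hb1, a2, ha2, b2, hb2, h11, h22, h12, h1b2, hb1a2, hbb⟩ :=
    hS.exists_quadruple
  obtain ⟨a1', ha1', sa1, ra1, la1⟩ := hS.exists_invol hi hiR ha1
  obtain ⟨b1', hb1', sb1, rb1, lb1⟩ := hS.exists_invol hi hiR hb1
  obtain ⟨a2', ha2', sa2, ra2, la2⟩ := hS.exists_invol hi hiR ha2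
  obtain ⟨b2', hb2', sb2, rb2, lb2⟩ := hS.exists_invol hi hiR hb2
  have h11' : TC a1' b1' (-1) := la1 _ _ (rb1 _ _ h11)
  have h22' : TC a2' b2' (-1) := la2 _ _ (rb2 _ _ h22)
  have h12' : TC a1' a2' 1 := la1 _ _ (ra2 _ _ h12)
  have h1b2' : TC a1' b2' 1 := la1 _ _ (rb2 _ _ h1b2)
  have hb1a2' : TC b1' a2' 1 := lb1 _ _ (ra2 _ _ hb1a2)
  have hbb' : TC b1' b2' 1 := lb1 _ _ (rb2 _ _ hbb)
  have htr1 := hS.trace_eq_zero ha1' (nonscalar_of_anti h2 h11')
  have htr2 := hS.trace_eq_zero ha2' (nonscalar_of_anti h2 h22')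
  have h12b : TC (a1' * a2') b1' (-1) := by
    have h5 : TC a2' b1' 1 := by
      have := hb1a2'.symm
      rwa [inv_one] at this
    have := h11'.mul_left h5
    rwa [mul_one] at this
  have htr12 := hS.trace_eq_zero (R.mul_mem ha1' ha2') (nonscalar_of_anti h2 h12b)
  have e11 : (a1' : Matrix (Fin 4) (Fin 4) F) * (b1' : Matrix (Fin 4) (Fin 4) F) =
      -((b1' : Matrix (Fin 4) (Fin 4) F) * (a1' : Matrix (Fin 4) (Fin 4) F)) := by
    have := h11'
    unfold TC at this
    rw [this, neg_one_smul]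
  have e22 : (a2' : Matrix (Fin 4) (Fin 4) F) * (b2' : Matrix (Fin 4) (Fin 4) F) =
      -((b2' : Matrix (Fin 4) (Fin 4) F) * (a2' : Matrix (Fin 4) (Fin 4) F)) := by
    have := h22'
    unfold TC at this
    rw [this, neg_one_smul]
  have ha2b1 : a2' * b1' = b1' * a2' := ((TC_one_iff _ _).1 hb1a2').symm
  obtain ⟨P, e1, e2, e3, e4⟩ := Cfsg.Agent.Helper25.Sym4Q2.exists_standard_basis h2 a1' a2' b1' b2'
    sa1 sa2 sb1 sb2 ((TC_one_iff _ _).1 h12') ((TC_one_iff _ _).1 hbb')
    ((TC_one_iff _ _).1 h1b2') ha2b1 e11 e22 htr1 htr2 htr12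
  refine ⟨i, P, hi, ?_⟩
  have hgen := hS.closure_eq hi hiR ha1' ha2' hb1' hb2' h11' h22' h12' h1b2' hb1a2' hbb'
  rw [← hgen, R0, MonoidHom.map_closure]
  congr 1
  have hsc : P * sc i * P⁻¹ = sc i := by
    have := scalar_comm (sc_mem_scalars i) P
    rw [← this]; group
  simp only [Set.image_insert_eq, Set.image_singleton, MulEquiv.coe_toMonoidHom,
    MulAut.conj_apply]
  rw [hsc, ← e1, ← e2, ← e3, ← e4]

/-- Transport of normaliser membership. -/
theorem mem_normalizer_map {G : Type*} [Group G] (H : Subgroup G) (P y : G)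
    (hy : y ∈ Subgroup.normalizer (H : Set G)) :
    P * y * P⁻¹ ∈ Subgroup.normalizer ((H.map (MulAut.conj P).toMonoidHom : Subgroup G) : Set G) := by
  rw [Subgroup.mem_normalizer_iff] at hy ⊢
  intro h
  have key : ∀ u : G, u ∈ H.map (MulAut.conj P).toMonoidHom ↔ P⁻¹ * u * P ∈ H := by
    intro u
    constructor
    · rintro ⟨v, hv, rfl⟩
      have : P⁻¹ * ((MulAut.conj P).toMonoidHom v) * P = v := by
        simp only [MulEquiv.coe_toMonoidHom, MulAut.conj_apply]; group
      rw [this]; exact hv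
    · intro hu
      refine ⟨P⁻¹ * u * P, hu, ?_⟩
      simp only [MulEquiv.coe_toMonoidHom, MulAut.conj_apply]; group
  rw [key, key, hy (P⁻¹ * h * P)]
  have : P⁻¹ * (P * y * P⁻¹ * h * (P * y * P⁻¹)⁻¹) * P = y * (P⁻¹ * h * P) * y⁻¹ := by group
  rw [this]

end Cfsg.Agent.Helper17.Sym4
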