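import Mathlib
import Cfsg.Agent.Lib.Helper17.Sym4T
import Cfsg.Agent.Lib.Helper11.Unitary2
import Cfsg.Agent.Lib.Helper13.UnitaryConj

/-!
# The group `4 ∘ 2^{1+4}` inside `GU₄(p)`: basic unitary facts (helper17)

`F` has `p ^ 2` elements, `p ≡ 3 (mod 4)`; `φ` is the Frobenius `x ↦ x ^ p`.
-/

set_option autoImplicit false
set_option linter.unusedSectionVars false
set_option linter.unusedVariables false

namespace Cfsg.Agent.Helper17.USym4

open Matrix Cfsg.Agent.Helper17.ExtraEig Cfsg.Agent.Helper17.Sym4 Cfsg.Agent.Helper11.Herm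

section general

variable {F : Type*} [Field F] (φ : F →+* F)

/-- The inverse of a unitary matrix is its conjugate transpose. -/
theorem IsU.mul_eq_one {M : Matrix (Fin 4) (Fin 4) F} (hM : IsU φ M) :
    M * (M.map φ)ᵀ = 1 := by
  have h1 : Mᵀ * M.map φ = 1 := hM
  have h2 : M.map φ * Mᵀ = 1 := mul_eq_one_comm.1 h1
  have h3 := congrArg Matrix.transpose h2
  rwa [Matrix.transpose_mul, Matrix.transpose_transpose, Matrix.transpose_one] at h3

/-- The trace of the inverse of a unitary matrix. -/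
theorem trace_inv_of_isU {g : GL (Fin 4) F} (hg : IsU φ (g : Matrix (Fin 4) (Fin 4) F)) :
    ((g⁻¹ : GL (Fin 4) F) : Matrix (Fin 4) (Fin 4) F).trace =
      φ ((g : Matrix (Fin 4) (Fin 4) F).trace) := by
  have h1 := IsU.mul_eq_one φ hg
  have h2 : ((g⁻¹ : GL (Fin 4) F) : Matrix (Fin 4) (Fin 4) F) =
      ((g : Matrix (Fin 4) (Fin 4) F).map φ)ᵀ := by
    have h3 : ((g⁻¹ : GL (Fin 4) F) : Matrix (Fin 4) (Fin 4) F) * (g : Matrix (Fin 4) (Fin 4) F) = 1 := by
      rw [← Units.val_mul, inv_mul_cancel, Units.val_one]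
    calc ((g⁻¹ : GL (Fin 4) F) : Matrix (Fin 4) (Fin 4) F)
        = ((g⁻¹ : GL (Fin 4) F) : Matrix (Fin 4) (Fin 4) F) *
          ((g : Matrix (Fin 4) (Fin 4) F) * ((g : Matrix (Fin 4) (Fin 4) F).map φ)ᵀ) := by
          rw [h1, Matrix.mul_one]
      _ = ((g : Matrix (Fin 4) (Fin 4) F).map φ)ᵀ := by
          rw [← Matrix.mul_assoc, h3, Matrix.one_mul]
  rw [h2, Matrix.trace_transpose]
  unfold Matrix.trace
  rw [map_sum]
  rfl

end general

end Cfsg.Agent.Helper17.USym4
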