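import Mathlib
import Cfsg.Agent.Lib.Helper17.USym4A

/-!
# The group `4 ∘ 2^{1+4}` inside `GU₄(p)`: the standard group is unitary (helper17)
-/

set_option autoImplicit false
set_option linter.unusedSectionVars false
set_option linter.unusedVariables false

namespace Cfsg.Agent.Helper17.USym4

open Matrix Cfsg.Agent.Helper17.ExtraEig Cfsg.Agent.Helper17.Sym4 Cfsg.Agent.Helper11.Herm

section general

variable {F : Type*} [Field F] (φ : F →+* F)

/-- A symmetric involution with entries fixed by `φ` is unitary. -/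
theorem isU_of_symm_invol {M : Matrix (Fin 4) (Fin 4) F} (h1 : Mᵀ = M) (h2 : M.map φ = M)
    (h3 : M * M = 1) : IsU φ M := by
  unfold IsU
  rw [h1, h2, h3]

theorem isU_A1m : IsU φ (A1m : Matrix (Fin 4) (Fin 4) F) := by
  apply isU_of_symm_invol φ _ _ A1m_sq
  · ext a b; fin_cases a <;> fin_cases b <;> simp [A1m]
  · ext a b; fin_cases a <;> fin_cases b <;> simp [A1m]

theorem isU_A2m : IsU φ (A2m : Matrix (Fin 4) (Fin 4) F) := by
  apply isU_of_symm_invol φ _ _ A2m_sq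
  · ext a b; fin_cases a <;> fin_cases b <;> simp [A2m]
  · ext a b; fin_cases a <;> fin_cases b <;> simp [A2m]

theorem isU_B1m : IsU φ (B1m : Matrix (Fin 4) (Fin 4) F) := by
  apply isU_of_symm_invol φ _ _ B1m_sq
  · ext a b; fin_cases a <;> fin_cases b <;> simp [B1m]
  · ext a b; fin_cases a <;> fin_cases b <;> simp [B1m]

theorem isU_B2m : IsU φ (B2m : Matrix (Fin 4) (Fin 4) F) := by
  apply isU_of_symm_invol φ _ _ B2m_sq
  · ext a b; fin_cases a <;> fin_cases b <;> simp [B2m]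
  · ext a b; fin_cases a <;> fin_cases b <;> simp [B2m]

theorem isU_smul_one {c : F} (hc : c * φ c = 1) : IsU φ (c • (1 : Matrix (Fin 4) (Fin 4) F)) := by
  have : c • (1 : Matrix (Fin 4) (Fin 4) F) = Matrix.diagonal (fun _ => c) := by
    ext a b
    by_cases hab : a = b
    · subst hab; simp
    · simp [hab]
  rw [this]
  exact isU_diagonal φ _ (fun _ => hc)

/-- A matrix commuting with the four generators is scalar. -/
theorem scalar_of_comm_gens (h2 : (2 : F) ≠ 0) (M : Matrix (Fin 4) (Fin 4) F)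
    (hA1 : M * A1m = A1m * M) (hA2 : M * A2m = A2m * M) (hB1 : M * B1m = B1m * M)
    (hB2 : M * B2m = B2m * M) : ∃ c : F, M = c • (1 : Matrix (Fin 4) (Fin 4) F) := by
  have z : ∀ t : F, -t = t → t = 0 := by
    intro t ht
    have : (2 : F) * t = 0 := by linear_combination -ht
    rcases mul_eq_zero.1 this with h | h
    · exact absurd h h2
    · exact h
  have e1 : ∀ a b : Fin 4, (M * (A1m : Matrix (Fin 4) (Fin 4) F)) a b =
      ((A1m : Matrix (Fin 4) (Fin 4) F) * M) a b := fun a b => by rw [hA1]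
  have e2 : ∀ a b : Fin 4, (M * (A2m : Matrix (Fin 4) (Fin 4) F)) a b =
      ((A2m : Matrix (Fin 4) (Fin 4) F) * M) a b := fun a b => by rw [hA2]
  have e3 : ∀ a b : Fin 4, (M * (B1m : Matrix (Fin 4) (Fin 4) F)) a b =
      ((B1m : Matrix (Fin 4) (Fin 4) F) * M) a b := fun a b => by rw [hB1]
  have e4 : ∀ a b : Fin 4, (M * (B2m : Matrix (Fin 4) (Fin 4) F)) a b =
      ((B2m : Matrix (Fin 4) (Fin 4) F) * M) a b := fun a b => by rw [hB2]
  simp only [A1m, A2m, B1m, B2m, Matrix.mul_apply, Fin.sum_univ_four] at e1 e2 e3 e4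
  have h01 := e2 0 1
  have h02 := e1 0 2
  have h03 := e1 0 3
  have h10 := e2 1 0
  have h12 := e1 1 2
  have h13 := e1 1 3
  have h20 := e1 2 0
  have h21 := e1 2 1
  have h23 := e2 2 3
  have h30 := e1 3 0
  have h31 := e1 3 1
  have h32 := e2 3 2
  have d02 := e3 0 2
  have d13 := e3 1 3
  have d01 := e4 0 1
  simp at h01 h02 h03 h10 h12 h13 h20 h21 h23 h30 h31 h32 d02 d13 d01
  refine ⟨M 0 0, ?_⟩
  ext a b
  fin_cases a <;> fin_cases b <;> simp
  · exact z _ h01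
  · exact z _ h02
  · exact z _ h03
  · exact z _ h10.symm
  · exact d01.symm
  · exact z _ h12
  · exact z _ h13
  · exact z _ h20.symm
  · exact z _ h21.symm
  · exact d02.symm
  · exact z _ h23
  · exact z _ h30.symm
  · exact z _ h31.symm
  · exact z _ h32.symm
  · rw [← d13]; exact d01.symm

/-- the conjugate of a unitary matrix: `g ^ φ = (gᵀ)⁻¹`. -/
theorem IsU.map_mul_transpose {g : Matrix (Fin 4) (Fin 4) F} (hg : IsU φ g) :
    g.map φ * gᵀ = 1 :=
  mul_eq_one_comm.1 hg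

/-- **Lemma S**: if `y` conjugates a group `A` of unitary matrices with scalar commutant to
unitary matrices, then `yᵀ y^φ` is scalar. -/
theorem scalar_of_conj_unitary {A : Subgroup (GL (Fin 4) F)}
    (hA : ∀ g ∈ A, IsU φ (g : Matrix (Fin 4) (Fin 4) F)) (y : GL (Fin 4) F)
    (hy : ∀ g ∈ A, IsU φ ((y * g * y⁻¹ : GL (Fin 4) F) : Matrix (Fin 4) (Fin 4) F))
    (hc : ∀ M : Matrix (Fin 4) (Fin 4) F,
      (∀ g ∈ A, M * (g : Matrix (Fin 4) (Fin 4) F) = (g : Matrix (Fin 4) (Fin 4) F) * M) →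
      ∃ c : F, M = c • (1 : Matrix (Fin 4) (Fin 4) F)) :
    ∃ c : F, (y : Matrix (Fin 4) (Fin 4) F)ᵀ * (y : Matrix (Fin 4) (Fin 4) F).map φ =
      c • (1 : Matrix (Fin 4) (Fin 4) F) := by
  set Y : Matrix (Fin 4) (Fin 4) F := (y : Matrix (Fin 4) (Fin 4) F) with hY
  set M : Matrix (Fin 4) (Fin 4) F := Yᵀ * Y.map φ with hM
  have key : ∀ g ∈ A, Mᵀ * (g : Matrix (Fin 4) (Fin 4) F) =
      (g : Matrix (Fin 4) (Fin 4) F) * Mᵀ := by
    intro g hg
    set G : Matrix (Fin 4) (Fin 4) F := (g : Matrix (Fin 4) (Fin 4) F) with hG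
    set G' : Matrix (Fin 4) (Fin 4) F :=
      ((y * g * y⁻¹ : GL (Fin 4) F) : Matrix (Fin 4) (Fin 4) F) with hG'
    have e1 : G' * Y = Y * G := by
      rw [hG', hY, hG, ← Units.val_mul, ← Units.val_mul]
      congr 1
      group
    have u1 : G'ᵀ * G'.map φ = 1 := hy g hg
    have u2 : G.map φ * Gᵀ = 1 := IsU.map_mul_transpose φ (hA g hg)
    -- `Gᵀ M G^φ = M`
    have e2 : Gᵀ * M * G.map φ = M := by
      have h1 : (Y * G)ᵀ * (Y * G).map φ = Gᵀ * M * G.map φ := by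
        rw [Matrix.transpose_mul, Matrix.map_mul, hM]
        simp only [Matrix.mul_assoc]
      have h2 : (G' * Y)ᵀ * (G' * Y).map φ = M := by
        rw [Matrix.transpose_mul, Matrix.map_mul, hM]
        calc Yᵀ * G'ᵀ * (G'.map φ * Y.map φ) = Yᵀ * (G'ᵀ * G'.map φ) * Y.map φ := by
              simp only [Matrix.mul_assoc]
          _ = Yᵀ * Y.map φ := by rw [u1, Matrix.mul_one]
      rw [← h1, ← e1, h2]
    -- `Gᵀ M = M Gᵀ`
    have e3 : Gᵀ * M = M * Gᵀ := by
      calc Gᵀ * M = Gᵀ * M * (G.map φ * Gᵀ) := by rw [u2, Matrix.mul_one]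
        _ = (Gᵀ * M * G.map φ) * Gᵀ := by simp only [Matrix.mul_assoc]
        _ = M * Gᵀ := by rw [e2]
    have e4 := congrArg Matrix.transpose e3
    rw [Matrix.transpose_mul Gᵀ M, Matrix.transpose_mul M Gᵀ, Matrix.transpose_transpose] at e4
    exact e4
  obtain ⟨c, hc'⟩ := hc Mᵀ key
  refine ⟨c, ?_⟩
  have := congrArg Matrix.transpose hc'
  rw [Matrix.transpose_transpose, Matrix.transpose_smul, Matrix.transpose_one] at this
  exact this

end general

section fin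

variable {F : Type*} [Field F] [Fintype F] {p : ℕ} [Fact p.Prime] [CharP F p]

/-- trace of the inverse of a unitary matrix -/
theorem trace_inv_of_mem_GU (hF : Fintype.card F = p ^ 2) {g : GL (Fin 4) F}
    (hg : g ∈ Cfsg.GU 4 F p) :
    ((g⁻¹ : GL (Fin 4) F) : Matrix (Fin 4) (Fin 4) F).trace =
      ((g : Matrix (Fin 4) (Fin 4) F).trace) ^ p := by
  obtain ⟨φ, hφ⟩ := exists_frob hF
  rw [← hφ]
  exact trace_inv_of_isU φ ((mem_GU_iff_isU φ hφ 4 g).1 hg)

theorem two_ne_zero_of_mod_four (hp4 : p % 4 = 3) : (2 : F) ≠ 0 := by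
  have hpp : p.Prime := Fact.out
  intro h
  have h' : ((2 : ℕ) : F) = 0 := by exact_mod_cast h
  rw [CharP.cast_eq_zero_iff F p 2] at h'
  have := (Nat.prime_dvd_prime_iff_eq hpp Nat.prime_two).1 h'
  omega

/-- `i ^ (p + 1) = 1` when `p ≡ 3 (mod 4)`. -/
theorem i_norm (hp4 : p % 4 = 3) {i : F} (hi : i ^ 2 = -1) : i * i ^ p = 1 := by
  obtain ⟨k, hk⟩ : ∃ k, p + 1 = 2 * (2 * k) := ⟨(p + 1) / 4, by omega⟩
  rw [← pow_succ', hk, pow_mul, hi, pow_mul]
  norm_num

/-- The standard group is unitary. -/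
theorem R0_le_GU (hF : Fintype.card F = p ^ 2) (hp4 : p % 4 = 3) (i : Fˣ)
    (hi : (i : F) ^ 2 = -1) : R0 i ≤ Cfsg.GU 4 F p := by
  obtain ⟨φ, hφ⟩ := exists_frob hF
  unfold R0
  rw [Subgroup.closure_le]
  intro s hs
  simp only [Set.mem_insert_iff, Set.mem_singleton_iff] at hs
  show s ∈ Cfsg.GU 4 F p
  rw [mem_GU_iff_isU φ hφ]
  rcases hs with rfl | rfl | rfl | rfl | rfl
  · rw [sc_val]
    apply isU_smul_one
    rw [hφ]
    exact i_norm hp4 hi
  · exact isU_A1m φ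
  · exact isU_A2m φ
  · exact isU_B1m φ
  · exact isU_B2m φ

/-- The commutant of the standard group consists of scalars. -/
theorem R0_commutant (h2 : (2 : F) ≠ 0) (i : Fˣ) (M : Matrix (Fin 4) (Fin 4) F)
    (hM : ∀ g ∈ R0 i, M * (g : Matrix (Fin 4) (Fin 4) F) = (g : Matrix (Fin 4) (Fin 4) F) * M) :
    ∃ c : F, M = c • (1 : Matrix (Fin 4) (Fin 4) F) :=
  scalar_of_comm_gens h2 M (hM _ (A1_mem_R0 i)) (hM _ (A2_mem_R0 i)) (hM _ (B1_mem_R0 i))
    (hM _ (B2_mem_R0 i))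

/-- **Lemma U'**: an element of odd order and determinant one normalising a unitary group with
scalar commutant is unitary. -/
theorem mem_GU_of_normalizes (hF : Fintype.card F = p ^ 2) {A : Subgroup (GL (Fin 4) F)}
    (hA : A ≤ Cfsg.GU 4 F p)
    (hc : ∀ M : Matrix (Fin 4) (Fin 4) F,
      (∀ g ∈ A, M * (g : Matrix (Fin 4) (Fin 4) F) = (g : Matrix (Fin 4) (Fin 4) F) * M) →
      ∃ c : F, M = c • (1 : Matrix (Fin 4) (Fin 4) F))
    {y : GL (Fin 4) F} (hy : ∀ g ∈ A, y * g * y⁻¹ ∈ A)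
    (hdet : (y : Matrix (Fin 4) (Fin 4) F).det = 1) {k : ℕ} (hk : Odd k) (hyk : y ^ k = 1) :
    y ∈ Cfsg.GU 4 F p := by
  obtain ⟨φ, hφ⟩ := exists_frob hF
  rw [mem_GU_iff_isU φ hφ]
  obtain ⟨c, hc'⟩ := scalar_of_conj_unitary φ (A := A)
    (fun g hg => (mem_GU_iff_isU φ hφ 4 g).1 (hA hg)) y
    (fun g hg => (mem_GU_iff_isU φ hφ 4 _).1 (hA (hy g hg))) hc
  set Y : Matrix (Fin 4) (Fin 4) F := (y : Matrix (Fin 4) (Fin 4) F) with hY
  set Yi : Matrix (Fin 4) (Fin 4) F := ((y⁻¹ : GL (Fin 4) F) : Matrix (Fin 4) (Fin 4) F) with hYi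
  -- `c ^ 4 = 1`
  have h4 : c ^ 4 = 1 := by
    have := congrArg Matrix.det hc'
    rw [Matrix.det_mul, Matrix.det_transpose, Matrix.det_smul, Matrix.det_one, mul_one,
      Fintype.card_fin, ← RingHom.mapMatrix_apply, ← RingHom.map_det, hdet, map_one,
      mul_one] at this
    exact this.symm
  -- `c ^ k = 1`
  have hk1 : c ^ k = 1 := by
    have e1 : Yiᵀ * Yᵀ = 1 := by
      rw [← Matrix.transpose_mul, hY, hYi, ← Units.val_mul, mul_inv_cancel, Units.val_one,
        Matrix.transpose_one]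
    have e2 : Y.map φ = c • Yiᵀ := by
      calc Y.map φ = (Yiᵀ * Yᵀ) * Y.map φ := by rw [e1, Matrix.one_mul]
        _ = Yiᵀ * (Yᵀ * Y.map φ) := by rw [Matrix.mul_assoc]
        _ = c • Yiᵀ := by rw [hc', Matrix.mul_smul, Matrix.mul_one]
    have e3 : (Y.map φ) ^ k = 1 := by
      have : Y.map φ = φ.mapMatrix Y := rfl
      rw [this, ← map_pow, hY, ← Units.val_pow_eq_pow_val, hyk, Units.val_one, map_one]
    have e4 : (c • Yiᵀ) ^ k = c ^ k • (1 : Matrix (Fin 4) (Fin 4) F) := by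
      rw [smul_pow, ← Matrix.transpose_pow, hYi, ← Units.val_pow_eq_pow_val, inv_pow, hyk,
        inv_one, Units.val_one, Matrix.transpose_one]
    rw [e2, e4] at e3
    have := congrFun (congrFun e3 0) 0
    simpa using this
  have hc1 : c = 1 := by
    have hcop : Nat.gcd k 4 = 1 := by
      have : Nat.Coprime k 4 := by
        have h2 : Nat.Coprime k 2 := Nat.Coprime.symm (Nat.coprime_two_left.2 hk)
        exact Nat.Coprime.pow_right 2 h2
      exact this
    have := pow_gcd_eq_one.2 ⟨hk1, h4⟩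
    rwa [hcop, pow_one] at this
  unfold IsU
  rw [hc', hc1, one_smul]

/-- odd-order elements of determinant one normalising the standard group are unitary -/
theorem mem_GU_of_mem_normalizer_R0 (hF : Fintype.card F = p ^ 2) (hp4 : p % 4 = 3) (i : Fˣ)
    (hi : (i : F) ^ 2 = -1) {y : GL (Fin 4) F}
    (hy : y ∈ Subgroup.normalizer (R0 i : Set (GL (Fin 4) F)))
    (hdet : (y : Matrix (Fin 4) (Fin 4) F).det = 1) {k : ℕ} (hk : Odd k) (hyk : y ^ k = 1) :
    y ∈ Cfsg.GU 4 F p := by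
  apply mem_GU_of_normalizes hF (R0_le_GU hF hp4 i hi)
    (R0_commutant (two_ne_zero_of_mod_four hp4) i) _ hdet hk hyk
  intro g hg
  exact (Subgroup.mem_normalizer_iff.1 hy g).1 hg

end fin

end Cfsg.Agent.Helper17.USym4
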