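import Mathlib
import Cfsg.Agent.Lib.Helper20.A3Defs

/-!
# S3117 PIECE CONST (helper17 for helper20): a quadratic map on a group of order `≥ 8` is not constant `≠ 1` off the
identity.
-/

set_option autoImplicit false
set_option linter.unusedSectionVars false
set_option linter.unusedVariables false
set_option linter.style.haveILetI false

namespace Cfsg.Agent.Helper20.A3

section Abs

variable {W U : Type*} [Group W] [Group U] [Finite W] [Finite U]

/-- an element outside a small finite set -/
theorem const_exists_notMem [DecidableEq W] (S : Finset W) (h : S.card < Nat.card W) : ∃ z, z ∉ S := by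
  by_contra hcon
  simp only [not_exists, not_not] at hcon
  letI : Fintype W := Fintype.ofFinite W
  have h1 : (Finset.univ : Finset W) ⊆ S := fun z _ => hcon z
  have h2 := Finset.card_le_card h1
  rw [Finset.card_univ, ← Nat.card_eq_fintype_card] at h2
  omega

/-- **A3-CONST.** A quadratic map on a group of order `≥ 8` is not constant `≠ 1` off the
identity. -/
theorem not_const (hW : ∀ w : W, w * w = 1) (hU : ∀ u : U, u * u = 1) (q : W → U)
    (hq : IsQuadMap q) (hcard : 8 ≤ Nat.card W) (u : U) (hu : u ≠ 1)
    (hconst : ∀ w : W, w ≠ 1 → q w = u) : False := by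
  classical
  obtain ⟨x, hx⟩ := const_exists_notMem ({1} : Finset W) (by rw [Finset.card_singleton]; omega)
  obtain ⟨y, hy⟩ := const_exists_notMem ({1, x} : Finset W)
    (lt_of_le_of_lt (Finset.card_le_two) (by omega))
  obtain ⟨z, hz⟩ := const_exists_notMem ({1, x, y, x * y} : Finset W)
    (lt_of_le_of_lt (Finset.card_le_four) (by omega))
  simp only [Finset.mem_singleton] at hx
  simp only [Finset.mem_insert, Finset.mem_singleton, not_or] at hy hz
  have hxy : x * y ≠ 1 := by
    intro e
    apply hy.2
    calc y = (x * x) * y := by rw [hW, one_mul]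
      _ = x * (x * y) := by rw [mul_assoc]
      _ = x := by rw [e, mul_one]
  have hxz : x * z ≠ 1 := by
    intro e
    apply hz.2.1
    calc z = (x * x) * z := by rw [hW, one_mul]
      _ = x * (x * z) := by rw [mul_assoc]
      _ = x := by rw [e, mul_one]
  have hyz : y * z ≠ 1 := by
    intro e
    apply hz.2.2.1
    calc z = (y * y) * z := by rw [hW, one_mul]
      _ = y * (y * z) := by rw [mul_assoc]
      _ = y := by rw [e, mul_one]
  have hxyz : x * y * z ≠ 1 := by
    intro e
    apply hz.2.2.2
    calc z = ((x * y) * (x * y)) * z := by rw [hW, one_mul]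
      _ = (x * y) * (x * y * z) := by rw [mul_assoc]
      _ = x * y := by rw [e, mul_one]
  have h := hq x y z
  unfold bet at h
  rw [hconst _ hxyz, hconst _ hxy, hconst _ hz.1, hconst _ hxz, hconst _ hx, hconst _ hyz,
    hconst _ hy.1, hU u, one_mul] at h
  -- `u = u * u`
  apply hu
  rw [h, hU u]

end Abs

end Cfsg.Agent.Helper20.A3
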