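import Mathlib
import Cfsg.Agent.Lib.Helper20.A3Defs
import Cfsg.Agent.S4058

/-!
# S3117 PIECE D4 (helper17 for helper20): a `2`-group with at most three involutions has Frattini quotient of order
at most `16` (S4058 with `k = 2`).
-/

set_option autoImplicit false
set_option linter.unusedSectionVars false
set_option linter.unusedVariables false

namespace Cfsg.Agent.Helper20.A3

section Glue

variable {C : Type*} [Group C] [Finite C]

/-- **A3-D4.** At most three involutions: the Frattini quotient has order at most `16`. -/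
theorem card_frattini_quot_le (hC : IsPGroup 2 C)
    (h3 : Nat.card {x : C // orderOf x = 2} ≤ 3) : Nat.card (C ⧸ frattini C) ≤ 16 := by
  have : Fact (Nat.Prime 2) := ⟨Nat.prime_two⟩
  have hQ : IsPGroup 2 (C ⧸ frattini C) := hC.to_quotient (frattini C)
  obtain ⟨n, hn⟩ := IsPGroup.iff_card.mp hQ
  by_contra hcon
  have hn5 : 5 ≤ n := by
    by_contra h5
    have h4 : n ≤ 4 := by omega
    have : 2 ^ n ≤ 2 ^ 4 := Nat.pow_le_pow_right (by norm_num) h4
    rw [hn] at hcon
    omega
  have hge : 2 ^ (2 * 2 + 1) ≤ Nat.card (C ⧸ frattini C) := by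
    rw [hn]
    exact Nat.pow_le_pow_right (by norm_num) hn5
  have hdvd := Cfsg.Agent.S4058.result hC 2 hge
  rw [Cfsg.Agent.S4058.card_sq_eq_one] at hdvd
  have h8 : (8 : ℕ) ∣ 1 + Nat.card {x : C // orderOf x = 2} := by
    have : (2 : ℕ) ^ (2 + 1) = 8 := by norm_num
    rw [this] at hdvd
    exact hdvd
  omega

end Glue

end Cfsg.Agent.Helper20.A3
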