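import Mathlib

set_option autoImplicit false

namespace Cfsg.Agent.Helper17

set_option maxRecDepth 100000 in
theorem a5_pow : ∀ g : alternatingGroup (Fin 5), g ^ 2 = 1 ∨ g ^ 3 = 1 ∨ g ^ 5 = 1 := by
  decide

/-- order of an element of `A₅` is 1, 2, 3 or 5 -/
theorem a5_orderOf (g : alternatingGroup (Fin 5)) :
    orderOf g = 1 ∨ orderOf g = 2 ∨ orderOf g = 3 ∨ orderOf g = 5 := by
  rcases a5_pow g with h | h | h
  · have := orderOf_dvd_of_pow_eq_one h
    rcases (Nat.dvd_prime Nat.prime_two).1 this with h1 | h1 <;> simp [h1]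
  · have := orderOf_dvd_of_pow_eq_one h
    rcases (Nat.dvd_prime Nat.prime_three).1 this with h1 | h1 <;> simp [h1]
  · have := orderOf_dvd_of_pow_eq_one h
    rcases (Nat.dvd_prime Nat.prime_five).1 this with h1 | h1 <;> simp [h1]

set_option maxRecDepth 100000 in
theorem a5_exists_two : ∃ g : alternatingGroup (Fin 5), g ^ 2 = 1 ∧ g ≠ 1 := by
  decide

set_option maxRecDepth 100000 in
theorem a5_exists_three : ∃ g : alternatingGroup (Fin 5), g ^ 3 = 1 ∧ g ≠ 1 := by
  decide

set_option maxRecDepth 100000 in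
theorem a5_exists_five : ∃ g : alternatingGroup (Fin 5), g ^ 5 = 1 ∧ g ≠ 1 := by
  decide

theorem a5_order_two : ∃ g : alternatingGroup (Fin 5), orderOf g = 2 := by
  obtain ⟨g, h1, h2⟩ := a5_exists_two
  exact ⟨g, orderOf_eq_prime h1 h2⟩

theorem a5_order_three : ∃ g : alternatingGroup (Fin 5), orderOf g = 3 := by
  obtain ⟨g, h1, h2⟩ := a5_exists_three
  haveI : Fact (Nat.Prime 3) := ⟨Nat.prime_three⟩
  exact ⟨g, orderOf_eq_prime h1 h2⟩

theorem a5_order_five : ∃ g : alternatingGroup (Fin 5), orderOf g = 5 := by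
  obtain ⟨g, h1, h2⟩ := a5_exists_five
  haveI : Fact (Nat.Prime 5) := ⟨Nat.prime_five⟩
  exact ⟨g, orderOf_eq_prime h1 h2⟩

theorem a5_spectrum :
    Set.range (orderOf : alternatingGroup (Fin 5) → ℕ) = {1, 2, 3, 5} := by
  ext n
  simp only [Set.mem_range, Set.mem_insert_iff, Set.mem_singleton_iff]
  constructor
  · rintro ⟨g, rfl⟩
    exact a5_orderOf g
  · rintro (rfl | rfl | rfl | rfl)
    · exact ⟨1, orderOf_one⟩
    · exact a5_order_two
    · exact a5_order_three
    · exact a5_order_five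

end Cfsg.Agent.Helper17
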