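import Mathlib

set_option autoImplicit false

namespace Cfsg.Agent.Helper17

set_option maxRecDepth 100000 in
theorem a6_pow : ∀ g : alternatingGroup (Fin 6), g ^ 4 = 1 ∨ g ^ 3 = 1 ∨ g ^ 5 = 1 := by
  decide +kernel

theorem orderOf_of_pow_four {G : Type*} [Monoid G] (g : G) (h : g ^ 4 = 1) :
    orderOf g = 1 ∨ orderOf g = 2 ∨ orderOf g = 4 := by
  have hd := orderOf_dvd_of_pow_eq_one h
  have hmem : orderOf g ∈ Nat.divisors 4 := Nat.mem_divisors.2 ⟨hd, by norm_num⟩
  have : Nat.divisors 4 = {1, 2, 4} := by decide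
  rw [this] at hmem
  simpa using hmem

/-- order of an element of `A₆` is 1, 2, 3, 4 or 5 -/
theorem a6_orderOf (g : alternatingGroup (Fin 6)) :
    orderOf g = 1 ∨ orderOf g = 2 ∨ orderOf g = 3 ∨ orderOf g = 4 ∨ orderOf g = 5 := by
  rcases a6_pow g with h | h | h
  · rcases orderOf_of_pow_four g h with h1 | h1 | h1 <;> simp [h1]
  · have := orderOf_dvd_of_pow_eq_one h
    rcases (Nat.dvd_prime Nat.prime_three).1 this with h1 | h1 <;> simp [h1]
  · have := orderOf_dvd_of_pow_eq_one h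
    rcases (Nat.dvd_prime Nat.prime_five).1 this with h1 | h1 <;> simp [h1]

set_option maxRecDepth 100000 in
theorem a6_exists_two : ∃ g : alternatingGroup (Fin 6), g ^ 2 = 1 ∧ g ≠ 1 := by
  decide +kernel

set_option maxRecDepth 100000 in
theorem a6_exists_three : ∃ g : alternatingGroup (Fin 6), g ^ 3 = 1 ∧ g ≠ 1 := by
  decide +kernel

set_option maxRecDepth 100000 in
theorem a6_exists_four : ∃ g : alternatingGroup (Fin 6), g ^ 4 = 1 ∧ g ^ 2 ≠ 1 := by
  decide +kernel

set_option maxRecDepth 100000 in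
theorem a6_exists_five : ∃ g : alternatingGroup (Fin 6), g ^ 5 = 1 ∧ g ≠ 1 := by
  decide +kernel

theorem a6_spectrum :
    Set.range (orderOf : alternatingGroup (Fin 6) → ℕ) = {1, 2, 3, 4, 5} := by
  ext n
  simp only [Set.mem_range, Set.mem_insert_iff, Set.mem_singleton_iff]
  constructor
  · rintro ⟨g, rfl⟩
    exact a6_orderOf g
  · rintro (rfl | rfl | rfl | rfl | rfl)
    · exact ⟨1, orderOf_one⟩
    · obtain ⟨g, h1, h2⟩ := a6_exists_two
      exact ⟨g, orderOf_eq_prime h1 h2⟩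
    · obtain ⟨g, h1, h2⟩ := a6_exists_three
      have : Fact (Nat.Prime 3) := ⟨Nat.prime_three⟩
      exact ⟨g, orderOf_eq_prime h1 h2⟩
    · obtain ⟨g, h1, h2⟩ := a6_exists_four
      have : Fact (Nat.Prime 2) := ⟨Nat.prime_two⟩
      exact ⟨g, orderOf_eq_prime_pow (p := 2) (n := 1) (by simpa using h2) (by simpa using h1)⟩
    · obtain ⟨g, h1, h2⟩ := a6_exists_five
      have : Fact (Nat.Prime 5) := ⟨Nat.prime_five⟩
      exact ⟨g, orderOf_eq_prime h1 h2⟩

end Cfsg.Agent.Helper17
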