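import Mathlib
import Cfsg.Prelude.Def_Solvable
import Cfsg.Agent.Lib.Helper8.ABDefs

/-!
# S3301, piece AB-CHI (helper17): in the exceptional configuration the elements `e ∈ Q ∖ H` with `κ_e ∈ H` lie in
one coset of `Q ⊓ H`.
-/

set_option autoImplicit false

namespace Cfsg.Agent.Helper8.AB

open Cfsg.Agent.Helper8.XS

section aux

variable {G : Type*} [Group G] {A : Type*} [CommGroup A] {H : Subgroup G} {φ : ↥H →* A}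

/-- `ψ(u) = 1` for the involution `u` -/
theorem abchi_psi_u (u : G) (huu : u * u = 1) (huH : u ∈ H) : valH (psi φ) u = 1 := by
  rw [valH_of_mem _ huH, psi_apply, pow_two, ← map_mul]
  have : (⟨u, huH⟩ : ↥H) * ⟨u, huH⟩ = 1 := Subtype.ext huu
  rw [this, map_one]

/-- conjugating an element of `Q ⊓ H` by an element of `Q` stays in `H` and does not change `ψ` -/
theorem abchi_conj {u : G} {Q : Subgroup G} (xs : XSp Q u) (huH : u ∈ H) (k g : G) (hk : k ∈ Q)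
    (hkH : k ∈ H) (hg : g ∈ Q) :
    g⁻¹ * k * g ∈ H ∧ valH (psi φ) (g⁻¹ * k * g) = valH (psi φ) k := by
  rcases xs.hcomm k hk g hg with h | h
  · have : g⁻¹ * k * g = k := by
      rw [mul_assoc, h, ← mul_assoc, inv_mul_cancel, one_mul]
    rw [this]
    exact ⟨hkH, rfl⟩
  · have hgu : g⁻¹ * u = u * g⁻¹ := by
      have := xs.hcen g⁻¹ (Q.inv_mem hg)
      exact this
    have : g⁻¹ * k * g = u * k := by
      rw [mul_assoc, h, ← mul_assoc, ← mul_assoc, hgu, mul_assoc u, inv_mul_cancel, mul_one]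
    rw [this]
    refine ⟨H.mul_mem huH hkH, ?_⟩
    rw [valH_mul _ huH hkH, abchi_psi_u u xs.hzz huH, one_mul]

/-- the values of `ψ` on `Q ⊓ H` are `1` or `φ(u)` -/
theorem abchi_vals {u : G} {Q : Subgroup G} (xs : XSp Q u) (huH : u ∈ H) (k : G) (hk : k ∈ Q)
    (hkH : k ∈ H) : valH (psi φ) k = 1 ∨ valH (psi φ) k = φ ⟨u, huH⟩ := by
  rw [valH_of_mem _ hkH, psi_apply, pow_two, ← map_mul]
  rcases xs.hsq k hk with h | h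
  · left
    have : (⟨k, hkH⟩ : ↥H) * ⟨k, hkH⟩ = 1 := Subtype.ext h
    rw [this, map_one]
  · right
    have : (⟨k, hkH⟩ : ↥H) * ⟨k, hkH⟩ = ⟨u, huH⟩ := Subtype.ext h
    rw [this]

/-- `κ_e ∈ Q` -/
theorem abchi_kappa_mem {Q : Subgroup G} (v : G) (hvQ : ∀ x ∈ Q, v⁻¹ * x * v ∈ Q) (e : G) (he : e ∈ Q) :
    v⁻¹ * e⁻¹ * v * e ∈ Q :=
  Q.mul_mem (hvQ e⁻¹ (Q.inv_mem he)) he

/-- `κ_{xy} = κ_y (y⁻¹ κ_x y)` -/
theorem abchi_kappa_mul (v x y : G) :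
    v⁻¹ * (x * y)⁻¹ * v * (x * y) = (v⁻¹ * y⁻¹ * v * y) * (y⁻¹ * (v⁻¹ * x⁻¹ * v * x) * y) := by
  group

end aux

section block

variable {G : Type*} [Group G] [Finite G] {A : Type*} [CommGroup A] {z : G} {H : Subgroup G}
  [Fintype (G ⧸ H)] {φ : ↥H →* A} {n : ℕ}

/-- PIECE AB-CHI: in the exceptional configuration the elements `e ∈ Q` with `κ_e ∈ H` lie in at most
two cosets of `Q ⊓ H`. -/
theorem exc_coset (gl : Glob z H φ n) (u : G) (Q : Subgroup G) (xs : XSp Q u)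
    (v : G) (hvQ : ∀ x ∈ Q, v⁻¹ * x * v ∈ Q) (hvH : v ∈ H) (huH : u ∈ H)
    (hexc : ∀ e ∈ Q, e ∉ H → v⁻¹ * e⁻¹ * v * e ∈ H → valH (psi φ) (v⁻¹ * e⁻¹ * v * e) ≠ 1)
    (e e' : G) (he : e ∈ Q) (he' : e' ∈ Q) (heH : e ∉ H) (he'H : e' ∉ H)
    (hk : v⁻¹ * e⁻¹ * v * e ∈ H) (hk' : v⁻¹ * e'⁻¹ * v * e' ∈ H) : e'⁻¹ * e ∈ H := by
  by_contra hgH
  have hg : e'⁻¹ * e ∈ Q := Q.mul_mem (Q.inv_mem he') he
  -- `κ` at `e'⁻¹`
  have hkinv : v⁻¹ * (e'⁻¹)⁻¹ * v * e'⁻¹ = e' * (v⁻¹ * e'⁻¹ * v * e')⁻¹ * e'⁻¹ := by group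
  have hkQ' : v⁻¹ * e'⁻¹ * v * e' ∈ Q := abchi_kappa_mem v hvQ e' he'
  have hkQ : v⁻¹ * e⁻¹ * v * e ∈ Q := abchi_kappa_mem v hvQ e he
  have h1 := abchi_conj (φ := φ) xs huH (v⁻¹ * e'⁻¹ * v * e')⁻¹ e'⁻¹ (Q.inv_mem hkQ') (H.inv_mem hk')
    (Q.inv_mem he')
  rw [inv_inv] at h1
  have h1Q : e' * (v⁻¹ * e'⁻¹ * v * e')⁻¹ * e'⁻¹ ∈ Q :=
    Q.mul_mem (Q.mul_mem he' (Q.inv_mem hkQ')) (Q.inv_mem he')
  have h2 := abchi_conj (φ := φ) xs huH (e' * (v⁻¹ * e'⁻¹ * v * e')⁻¹ * e'⁻¹) e h1Q h1.1 he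
  have hform : v⁻¹ * (e'⁻¹ * e)⁻¹ * v * (e'⁻¹ * e) =
      (v⁻¹ * e⁻¹ * v * e) * (e⁻¹ * (e' * (v⁻¹ * e'⁻¹ * v * e')⁻¹ * e'⁻¹) * e) := by
    rw [abchi_kappa_mul, hkinv]
  have hmemH : v⁻¹ * (e'⁻¹ * e)⁻¹ * v * (e'⁻¹ * e) ∈ H := by
    rw [hform]
    exact H.mul_mem hk h2.1
  have hne := hexc (e'⁻¹ * e) hg hgH hmemH
  apply hne
  rw [hform, valH_mul _ hk h2.1, h2.2, h1.2, valH_inv _ hk']
  have hv1 := hexc e he heH hk
  have hv2 := hexc e' he' he'H hk'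
  rcases abchi_vals (φ := φ) xs huH _ hkQ hk with h | h
  · exact absurd h hv1
  · rcases abchi_vals (φ := φ) xs huH _ hkQ' hk' with h' | h'
    · exact absurd h' hv2
    · rw [h, h', mul_inv_cancel]

end block

end Cfsg.Agent.Helper8.AB
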