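import Mathlib
import Cfsg.Prelude.Def_Solvable
import Cfsg.Agent.Lib.Helper8.ABDefs
import Cfsg.Agent.Lib.Helper9.ABINVPROD
import Cfsg.Agent.Lib.Helper17.ABCHI

/-!
# S3301, piece AB-BLKPAIR (helper17): a good pairing element `e` makes the block product trivial.
-/

set_option autoImplicit false

namespace Cfsg.Agent.Helper8.AB

open Cfsg.Agent.Helper8.XS

section aux

variable {G : Type*} [Group G] {A : Type*} [CommGroup A] {H : Subgroup G} {φ : ↥H →* A}

/-- multiplying by an element of `H` with trivial `ψ` does not change the value -/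
theorem abblkpair_mul_right (w c : G) (hc : c ∈ H) (hc1 : valH (psi φ) c = 1) :
    valH (psi φ) (w * c) = valH (psi φ) w := by
  by_cases hw : w ∈ H
  · rw [valH_mul _ hw hc, hc1, mul_one]
  · have : w * c ∉ H := by
      intro h
      apply hw
      have := H.mul_mem h (H.inv_mem hc)
      rwa [mul_assoc, mul_inv_cancel, mul_one] at this
    rw [valH_of_not_mem _ hw, valH_of_not_mem _ this]

/-- a conjugate of `e ∈ Q ∖ H` by an element of `Q` is not in `H` -/
theorem abblkpair_conj_not_mem {u : G} {Q : Subgroup G} (xs : XSp Q u) (huH : u ∈ H) (e a : G)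
    (he : e ∈ Q) (ha : a ∈ Q) (heH : e ∉ H) : a⁻¹ * e * a ∉ H := by
  rcases xs.hcomm e he a ha with h | h
  · have : a⁻¹ * e * a = e := by
      rw [mul_assoc, h, ← mul_assoc, inv_mul_cancel, one_mul]
    rw [this]
    exact heH
  · have hau : a⁻¹ * u = u * a⁻¹ := xs.hcen a⁻¹ (Q.inv_mem ha)
    have : a⁻¹ * e * a = u * e := by
      rw [mul_assoc, h, ← mul_assoc, ← mul_assoc, hau, mul_assoc u, inv_mul_cancel, mul_one]
    rw [this]
    intro hue
    apply heH
    have := H.mul_mem (H.inv_mem huH) hue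
    rwa [← mul_assoc, inv_mul_cancel, one_mul] at this

end aux

section block

variable {G : Type*} [Group G] [Finite G] {A : Type*} [CommGroup A] {z : G} {H : Subgroup G}
  [Fintype (G ⧸ H)] {φ : ↥H →* A} {n : ℕ}

/-- PIECE AB-BLKPAIR: a good pairing element `e`. -/
theorem block_pair (gl : Glob z H φ n) (u : G) (Q : Subgroup G) (xs : XSp Q u)
    (v : G) (hvQ : ∀ x ∈ Q, v⁻¹ * x * v ∈ Q) (hvH : v ∈ H) (huH : u ∈ H)
    (e : G) (he : e ∈ Q) (heH : e ∉ H) (hk : v⁻¹ * e⁻¹ * v * e ∈ H)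
    (hk1 : valH (psi φ) (v⁻¹ * e⁻¹ * v * e) = 1) :
    ∏ x ∈ blk Q H ((1 : G) : G ⧸ H), valH (psi φ) (x.out⁻¹ * v * x.out) = 1 := by
  have hrep : ∀ x ∈ blk Q H ((1 : G) : G ⧸ H), ∃ a ∈ Q, x = ((a : G) : G ⧸ H) := by
    intro x hx
    obtain ⟨a, ha, rfl⟩ := mem_blk.1 hx
    refine ⟨a, ha, ?_⟩
    rw [MulAction.Quotient.smul_mk, smul_eq_mul, mul_one]
  have hsmul : ∀ a : G, e • ((a : G) : G ⧸ H) = ((e * a : G) : G ⧸ H) := by
    intro a
    rw [MulAction.Quotient.smul_mk, smul_eq_mul]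
  apply blk_prod_one Q H (fun x => valH (psi φ) (x.out⁻¹ * v * x.out)) ((1 : G) : G ⧸ H) e he
  · -- the square of `e` acts trivially
    intro x hx
    obtain ⟨a, ha, rfl⟩ := hrep x hx
    rw [hsmul, hsmul, QuotientGroup.eq]
    have heq : (e * (e * a))⁻¹ * a = a⁻¹ * (e * e)⁻¹ * a := by group
    rw [heq]
    rcases xs.hsq e he with h | h
    · rw [h, inv_one, mul_one, inv_mul_cancel]
      exact H.one_mem
    · rw [h]
      have huinv : u⁻¹ = u := inv_eq_of_mul_eq_one_right xs.hzz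
      have hau : a⁻¹ * u = u * a⁻¹ := xs.hcen a⁻¹ (Q.inv_mem ha)
      rw [huinv, hau, mul_assoc, inv_mul_cancel, mul_one]
      exact huH
  · -- no fixed points
    intro x hx
    obtain ⟨a, ha, rfl⟩ := hrep x hx
    rw [hsmul]
    intro hfix
    rw [QuotientGroup.eq] at hfix
    have heq : (e * a)⁻¹ * a = (a⁻¹ * e * a)⁻¹ := by group
    rw [heq] at hfix
    exact abblkpair_conj_not_mem xs huH e a he ha heH (by simpa using H.inv_mem hfix)
  · -- the factor is preserved
    intro x hx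
    obtain ⟨a, ha, rfl⟩ := hrep x hx
    rw [hsmul, valH_out, valH_out]
    have hkQ : v⁻¹ * e⁻¹ * v * e ∈ Q := abchi_kappa_mem v hvQ e he
    have hc := abchi_conj (φ := φ) xs huH (v⁻¹ * e⁻¹ * v * e) a hkQ hk ha
    have heq : (e * a)⁻¹ * v * (e * a) = (a⁻¹ * v * a) * (a⁻¹ * (v⁻¹ * e⁻¹ * v * e) * a) := by group
    rw [heq, abblkpair_mul_right _ _ hc.1 (by rw [hc.2, hk1])]
  · intro x _
    exact valH_psi_sq φ gl.h4 _

end block

end Cfsg.Agent.Helper8.AB
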