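import Mathlib
import Cfsg.Agent.Lib.Helper2.Psln25
import Cfsg.Agent.Lib.Helper2.OutCongr
import Cfsg.Agent.Lib.Helper10.EOAssembly
import Cfsg.Agent.Lib.Helper1.AONUM4
import Cfsg.Agent.Lib.Helper11.AOS3A
import Cfsg.Agent.Lib.Helper12.AOMINT
import Cfsg.Agent.Lib.Helper13.AOF4
import Cfsg.Agent.Lib.Helper19.AOCNTB
import Cfsg.Agent.Lib.Helper19.AOFORM
import Cfsg.Agent.Lib.Helper2.AOART
import Cfsg.Agent.Lib.Helper22.AOCENT
import Cfsg.Agent.Lib.Helper23.AONUM2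
import Cfsg.Agent.Lib.Helper24.AOCNTA
import Cfsg.Agent.Lib.Helper25.AONUM3
import Cfsg.Agent.Lib.Helper26.AOP2B
import Cfsg.Agent.Lib.Helper27.AOMINP
import Cfsg.Agent.Lib.Helper27.AOP1S
import Cfsg.Agent.Lib.Helper28.AOGRP3
import Cfsg.Agent.Lib.Helper4.AOP2C
import Cfsg.Agent.Lib.Helper5.AOP2A
import Cfsg.Agent.Lib.Helper7.AONUM1
import Cfsg.Agent.Lib.Helper8.AOGRP4
import Cfsg.Agent.Lib.Helper9.AOS3C
import Cfsg.Agent.Lib.Helper9.AOS3B
import Cfsg.Agent.Lib.Helper6.AOS3D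

/-!
# S2262 assembly (helper17): from the leaf pieces to the two coset bounds.
See `plans/S2262_plan.md`.
-/

set_option autoImplicit false

namespace Cfsg.Agent.Helper17.AO

open Polynomial Matrix Cfsg.Agent.Helper2.PN
open Cfsg.Agent.Helper10.EO (star)
open Cfsg.Agent.Helper13.FAut (fixedField mem_fixedField)

section asm
variable {F : Type*} [Field F] {n : ℕ}

theorem ao_finite_ringAut [Finite F] : Finite (RingAut F) :=
  Finite.of_injective (fun f : F ≃+* F => (f : F → F)) DFunLike.coe_injective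

theorem gnorm_conj (σ : RingAut F) (g : GL (Fin n) F) (e : ℕ) (he : σ ^ e = 1) :
    fieldGLHom σ (gnorm σ g e) = g⁻¹ * gnorm σ g e * g := by
  have h1 : gnorm σ g (e + 1) = g * fieldGLHom σ (gnorm σ g e) := gnorm_succ σ g e
  have h2 : gnorm σ g (e + 1) = gnorm σ g e * fieldGLHom (σ ^ e) g := gnorm_succ' σ g e
  rw [he, map_one, MulAut.one_apply] at h2
  have h3 : fieldGLHom σ (gnorm σ g e) = g⁻¹ * gnorm σ g (e + 1) := by
    rw [h1]; group
  rw [h3, h2]; group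

theorem field_core [Fintype F] (hn : 1 ≤ n) (σ : RingAut F) (g : GL (Fin n) F) :
    ∃ k : ℕ, 0 < k ∧ (Psi g * phiF σ) ^ (orderOf σ * k) = 1 ∧
      (Nat.card (fixedField σ) - 1) * k ≤ Nat.card (fixedField σ) ^ n - 1 := by
  have hσe : σ ^ orderOf σ = 1 := pow_orderOf_eq_one σ
  have hconj := gnorm_conj σ g (orderOf σ) hσe
  have hμ := minpoly_map_of_conj σ (gnorm σ g (orderOf σ)) g hconj
  obtain ⟨k, hk0, hkc, hkb⟩ := count_of_span (fixedField σ) hn (gnorm σ g (orderOf σ))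
    (fun j => powers_mem_span σ _ hμ j)
  refine ⟨k, hk0, ?_, hkb⟩
  rw [pow_mul, pow_Psi_mul_phiF, hσe, map_one, mul_one, ← map_pow]
  exact Psi_of_mem_center hkc

theorem field_coset_bound [Fintype F] (hn : 2 ≤ n) (h24 : ¬(n = 2 ∧ Fintype.card F = 4))
    (σ : RingAut F) (g : GL (Fin n) F) :
    (Fintype.card F - 1) * orderOf (Psi g * phiF σ) ≤ Fintype.card F ^ n - 1 := by
  have := ao_finite_ringAut (F := F)
  obtain ⟨k, hk0, hpow, hkb⟩ := field_core (by omega : 1 ≤ n) σ g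
  obtain ⟨hx2, hxe⟩ := card_fixed_pow σ
  have he : 1 ≤ orderOf σ := orderOf_pos σ
  have hne : ¬(Nat.card (fixedField σ) = 2 ∧ orderOf σ = 2 ∧ n = 2) := by
    rintro ⟨h1, h2, h3⟩
    apply h24
    refine ⟨h3, ?_⟩
    rw [← hxe, h1, h2]
    norm_num
  have hnum := num_field _ _ n k hx2 he hn hne hkb
  rw [hxe] at hnum
  have hord : orderOf (Psi g * phiF σ) ≤ orderOf σ * k :=
    orderOf_le_of_pow_eq_one (Nat.mul_pos he hk0) hpow
  exact (Nat.mul_le_mul_left _ hord).trans hnum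

theorem real_bound [Fintype F] (hn : 4 ≤ n) (μ : F[X]) (hμ : μ.Monic) (h0 : μ.coeff 0 ≠ 0)
    (hstar : star μ = μ) (hdeg : μ.natDegree ≤ n) :
    ∃ N : ℕ, 0 < N ∧ (Fintype.card F - 1) * (2 * N) ≤ Fintype.card F ^ n - 1 ∧
      (μ ∣ X ^ N - 1 ∨ μ ∣ X ^ N + 1) := by
  obtain ⟨m, hm⟩ : ∃ m, n = 2 * m ∨ n + 1 = 2 * m := by
    rcases Nat.even_or_odd' n with ⟨m, h | h⟩
    · exact ⟨m, Or.inl h⟩
    · exact ⟨m + 1, Or.inr (by omega)⟩
  have hm2 : 2 ≤ m := by omega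
  have hdeg' : μ.natDegree ≤ 2 * m := by omega
  obtain ⟨N, hN0, hNb, hN⟩ := Cfsg.Agent.Helper10.EO.exists_pow_dvd μ hμ h0 hstar (2 * m) m hdeg'
    (Or.inl ⟨rfl, hm2⟩)
  have hq2 : 2 ≤ Fintype.card F := Fintype.one_lt_card
  by_cases hex : Fintype.card F = 2 ∧ n ≤ 5
  · obtain ⟨hq, hn5⟩ := hex
    have hn45 : n = 4 ∨ n = 5 := by omega
    have hNle : N ≤ 2 ^ (n - 1) := by
      rw [hq] at hNb
      have : m + 1 = n - 1 := by omega
      rw [this] at hNb
      simpa using hNb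
    obtain ⟨N', hN'0, hN'b, hN'⟩ := real_bound_two hq μ hμ n hn45 hdeg N hN0 hNle hN
    refine ⟨N', hN'0, ?_, Or.inl hN'⟩
    rw [hq]
    simpa using hN'b
  · exact ⟨N, hN0, num_real _ n m N hq2 hn hm hex hNb, hN⟩

theorem unitary_bound [Fintype F] (hn : 4 ≤ n) (σ : RingAut F) (hσ2 : σ ^ 2 = 1) (hσ1 : σ ≠ 1)
    (μ : F[X]) (hμ : μ.Monic) (h0 : μ.coeff 0 ≠ 0) (hstar : star μ = μ.map (σ : F →+* F))
    (hdeg : μ.natDegree ≤ n) :
    ∃ N : ℕ, 0 < N ∧ (Fintype.card F - 1) * (2 * N) ≤ Fintype.card F ^ n - 1 ∧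
      (μ ∣ X ^ N - 1 ∨ μ ∣ X ^ N + 1) := by
  classical
  obtain ⟨hνm, hν0, hνs, hνσ, hνd⟩ := nu_props σ hσ2 μ hμ h0 hstar
  obtain ⟨ν', hν'⟩ := descend_poly σ _ hνσ
  haveI : Fintype (fixedField σ) := Fintype.ofFinite _
  have hinj : Function.Injective (fixedField σ).subtype := Subtype.val_injective
  have hν'm : ν'.Monic := Polynomial.monic_of_injective hinj (by rw [hν']; exact hνm)
  have hν'0 : ν'.coeff 0 ≠ 0 := by
    intro h
    apply hν0
    rw [← hν', coeff_map, h, map_zero]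
  have hν's : star ν' = ν' := by
    apply Polynomial.map_injective _ hinj
    rw [← star_map, hν', hνs]
  have hν'd : ν'.natDegree ≤ 2 * n := by
    have h1 : ν'.natDegree = (μ * μ.map (σ : F →+* F)).natDegree := by
      rw [← hν', natDegree_map]
    omega
  obtain ⟨N, hN0, hNb, hN⟩ := Cfsg.Agent.Helper10.EO.exists_pow_dvd ν' hν'm hν'0 hν's (2 * n) n
    hν'd (Or.inl ⟨rfl, by omega⟩)
  obtain ⟨hx2, hxe⟩ := card_fixed_pow σ
  have hord : orderOf σ = 2 := orderOf_eq_prime hσ2 hσ1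
  rw [hord] at hxe
  rw [← Nat.card_eq_fintype_card] at hNb
  have hnum := Cfsg.Agent.Helper1.AONUM4.num_unitary (Nat.card (fixedField σ)) n N hx2 hn hNb
  rw [hxe] at hnum
  refine ⟨N, hN0, hnum, ?_⟩
  have hμν : μ ∣ μ * μ.map (σ : F →+* F) := Dvd.intro _ rfl
  rcases hN with h | h
  · left
    have h1 := Polynomial.map_dvd (fixedField σ).subtype h
    rw [hν'] at h1
    simp only [Polynomial.map_sub, Polynomial.map_pow, map_X, Polynomial.map_one] at h1
    exact hμν.trans h1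
  · right
    have h1 := Polynomial.map_dvd (fixedField σ).subtype h
    rw [hν'] at h1
    simp only [Polynomial.map_add, Polynomial.map_pow, map_X, Polynomial.map_one] at h1
    exact hμν.trans h1

theorem ao_two_mul_sq_le (q : ℕ) (hq : 2 ≤ q) : 2 * (q ^ 2 - 1) ≤ q ^ 3 - 1 := by
  obtain ⟨r, rfl⟩ := Nat.exists_eq_add_of_le hq
  have h1 : 1 ≤ (2 + r) ^ 2 := Nat.one_le_pow _ _ (by omega)
  have h2 : 1 ≤ (2 + r) ^ 3 := Nat.one_le_pow _ _ (by omega)
  zify [h1, h2]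
  nlinarith [sq_nonneg (r : ℤ), mul_nonneg (Int.natCast_nonneg r) (Int.natCast_nonneg r)]

theorem deg_three_bound [Fintype F] (hq : Fintype.card F ≠ 2) (σ : RingAut F)
    (A : GL (Fin 3) F) (J : Matrix (Fin 3) (Fin 3) F) (hJ : IsUnit J.det)
    (hA : ((A : Matrix (Fin 3) (Fin 3) F).map σ)ᵀ * J * (A : Matrix (Fin 3) (Fin 3) F) = J) :
    ∃ N : ℕ, 0 < N ∧ A ^ N ∈ Subgroup.center (GL (Fin 3) F) ∧
      (Fintype.card F - 1) * (2 * N) ≤ Fintype.card F ^ 3 - 1 := by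
  have hD3 : (minpoly F (A : Matrix (Fin 3) (Fin 3) F)).natDegree ≤ 3 := by
    have h1 := Matrix.minpoly_dvd_charpoly (A : Matrix (Fin 3) (Fin 3) F)
    have h2 := Polynomial.natDegree_le_of_dvd h1 (Matrix.charpoly_monic _).ne_zero
    rwa [Matrix.charpoly_natDegree_eq_dim, Fintype.card_fin] at h2
  have hq2 : 2 ≤ Fintype.card F := Fintype.one_lt_card
  by_cases hD2 : (minpoly F (A : Matrix (Fin 3) (Fin 3) F)).natDegree ≤ 2
  · obtain ⟨k, hk0, hkc, hkb⟩ := count_one (by norm_num : 1 ≤ 3) A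
    refine ⟨k, hk0, hkc, ?_⟩
    have h1 : Fintype.card F ^ (minpoly F (A : Matrix (Fin 3) (Fin 3) F)).natDegree ≤
        Fintype.card F ^ 2 := Nat.pow_le_pow_right (by omega) hD2
    have h2 : (Fintype.card F - 1) * k ≤ Fintype.card F ^ 2 - 1 :=
      hkb.trans (Nat.sub_le_sub_right h1 1)
    have h3 := ao_two_mul_sq_le (Fintype.card F) hq2
    calc (Fintype.card F - 1) * (2 * k) = 2 * ((Fintype.card F - 1) * k) := by ring
      _ ≤ 2 * (Fintype.card F ^ 2 - 1) := by omega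
      _ ≤ _ := h3
  · by_cases ht : ∃ t : F, t ≠ 0 ∧ (1 + t • (A : Matrix (Fin 3) (Fin 3) F)).det ≠ 0
    · obtain ⟨t, ht0, htd⟩ := ht
      have hne : ∀ (c : F) (j : ℕ), 1 + t • (A : Matrix (Fin 3) (Fin 3) F) ≠
          c • (A : Matrix (Fin 3) (Fin 3) F) ^ j := by
        intro c j h
        obtain ⟨p, hp0, hpd, hpA⟩ := quad_of_eq σ _ J hJ hA t c ht0 j h
        have h1 := Polynomial.natDegree_le_of_dvd (minpoly.dvd F _ hpA) hp0
        omega
      obtain ⟨k, hk0, hkc, hkb⟩ := count_two (by norm_num : 1 ≤ 3) A t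
        (isUnit_iff_ne_zero.2 htd) hne
      refine ⟨k, hk0, hkc, hkb.trans ?_⟩
      exact Nat.sub_le_sub_right (Nat.pow_le_pow_right (by omega) hD3) 1
    · push Not at ht
      obtain ⟨N, hN0, hN1, hNb⟩ := small_field_case A hq (fun t ht0 => ht t ht0)
      exact ⟨N, hN0, by rw [hN1]; exact Subgroup.one_mem _, hNb⟩

theorem form_bound [Fintype F] (hn : 3 ≤ n) (h32 : ¬(n = 3 ∧ Fintype.card F = 2))
    (σ : RingAut F) (hσ2 : σ ^ 2 = 1) (A : GL (Fin n) F) (J : Matrix (Fin n) (Fin n) F)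
    (hJ : IsUnit J.det)
    (hA : ((A : Matrix (Fin n) (Fin n) F).map σ)ᵀ * J * (A : Matrix (Fin n) (Fin n) F) = J) :
    ∃ N : ℕ, 0 < N ∧ A ^ N ∈ Subgroup.center (GL (Fin n) F) ∧
      (Fintype.card F - 1) * (2 * N) ≤ Fintype.card F ^ n - 1 := by
  rcases Nat.lt_or_ge n 4 with h4 | h4
  · have h3 : n = 3 := by omega
    subst h3
    exact deg_three_bound (fun h => h32 ⟨rfl, h⟩) σ A J hJ hA
  · obtain ⟨h0, hstar⟩ := minpoly_twisted σ (by omega : 1 ≤ n) _ J hJ hA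
    have hmonic : (minpoly F (A : Matrix (Fin n) (Fin n) F)).Monic :=
      minpoly.monic (Matrix.isIntegral _)
    have hdeg : (minpoly F (A : Matrix (Fin n) (Fin n) F)).natDegree ≤ n := by
      have h1 := Matrix.minpoly_dvd_charpoly (A : Matrix (Fin n) (Fin n) F)
      have h2 := Polynomial.natDegree_le_of_dvd h1 (Matrix.charpoly_monic _).ne_zero
      rwa [Matrix.charpoly_natDegree_eq_dim, Fintype.card_fin] at h2
    have key : ∃ N : ℕ, 0 < N ∧ (Fintype.card F - 1) * (2 * N) ≤ Fintype.card F ^ n - 1 ∧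
        (minpoly F (A : Matrix (Fin n) (Fin n) F) ∣ X ^ N - 1 ∨
          minpoly F (A : Matrix (Fin n) (Fin n) F) ∣ X ^ N + 1) := by
      by_cases hσ1 : σ = 1
      · subst hσ1
        have h1 : (minpoly F (A : Matrix (Fin n) (Fin n) F)).map
            (((1 : RingAut F) : F ≃+* F) : F →+* F) =
            minpoly F (A : Matrix (Fin n) (Fin n) F) := Polynomial.map_id
        rw [h1] at hstar
        exact real_bound h4 _ hmonic h0 hstar hdeg
      · exact unitary_bound h4 σ hσ2 hσ1 _ hmonic h0 hstar hdeg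
    obtain ⟨N, hN0, hNb, hN⟩ := key
    refine ⟨N, hN0, ?_, hNb⟩
    rcases hN with h | h
    · have h1 := Polynomial.aeval_eq_zero_of_dvd_aeval_eq_zero h (minpoly.aeval F _)
      apply mem_center_of_scalar (A ^ N) 1
      rw [Units.val_pow_eq_pow_val, one_smul]
      simpa [sub_eq_zero] using h1
    · have h1 := Polynomial.aeval_eq_zero_of_dvd_aeval_eq_zero h (minpoly.aeval F _)
      apply mem_center_of_scalar (A ^ N) (-1)
      rw [Units.val_pow_eq_pow_val, neg_smul, one_smul]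
      simpa [add_eq_zero_iff_eq_neg] using h1

theorem graph_coset_bound [Fintype F] (hn : 3 ≤ n) (h32 : ¬(n = 3 ∧ Fintype.card F = 2))
    (σ : RingAut F) (g : GL (Fin n) F) :
    (Fintype.card F - 1) * orderOf (tauAut * (Psi g * phiF σ)) ≤ Fintype.card F ^ n - 1 := by
  have := ao_finite_ringAut (F := F)
  have hsq := sq_tau_mul σ g
  by_cases hσ2 : σ ^ 2 = 1
  · rw [hσ2, map_one, mul_one] at hsq
    have hform := twisted_form σ hσ2 g
    have hJ : IsUnit ((g : Matrix (Fin n) (Fin n) F).map σ).det := by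
      rw [← fieldGLHom_coe' σ g]
      exact (Matrix.isUnit_iff_isUnit_det _).1 (Units.isUnit _)
    obtain ⟨N, hN0, hNc, hNb⟩ := form_bound hn h32 σ hσ2 (gT g * fieldGLHom σ g) _ hJ hform
    have hpow : (tauAut * (Psi g * phiF σ)) ^ (2 * N) = 1 := by
      rw [pow_mul, hsq, ← map_pow]
      exact Psi_of_mem_center hNc
    have hord : orderOf (tauAut * (Psi g * phiF σ)) ≤ 2 * N :=
      orderOf_le_of_pow_eq_one (by omega) hpow
    exact (Nat.mul_le_mul_left _ hord).trans hNb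
  · obtain ⟨k, hk0, hpow, hkb⟩ := field_core (by omega : 1 ≤ n) (σ ^ 2) (gT g * fieldGLHom σ g)
    obtain ⟨hx2, hxe⟩ := card_fixed_pow (σ ^ 2)
    have he0 : 1 ≤ orderOf (σ ^ 2) := orderOf_pos _
    have he : 2 ≤ orderOf (σ ^ 2) := by
      rcases Nat.lt_or_ge (orderOf (σ ^ 2)) 2 with h | h
      · exfalso
        have h1 : orderOf (σ ^ 2) = 1 := by omega
        exact hσ2 (orderOf_eq_one_iff.1 h1)
      · exact h
    have hne : ¬(Nat.card (fixedField (σ ^ 2)) = 2 ∧ orderOf (σ ^ 2) = 2 ∧ n = 3) := by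
      rintro ⟨h1, h2, h3⟩
      apply hσ2
      apply ringAut_sq_of_card_four
      rw [← hxe, h1, h2]
      norm_num
    have hnum := num_graph_field _ _ n k hx2 he hn hne hkb
    rw [hxe] at hnum
    have hpow' : (tauAut * (Psi g * phiF σ)) ^ (2 * (orderOf (σ ^ 2) * k)) = 1 := by
      rw [pow_mul, hsq]
      exact hpow
    have hord : orderOf (tauAut * (Psi g * phiF σ)) ≤ 2 * (orderOf (σ ^ 2) * k) :=
      orderOf_le_of_pow_eq_one (by positivity) hpow'
    exact (Nat.mul_le_mul_left _ hord).trans hnum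

end asm

end Cfsg.Agent.Helper17.AO
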