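import Mathlib

set_option autoImplicit false

namespace Cfsg.Agent.Helper17

open Matrix Polynomial

section general

variable {R : Type*} [CommRing R]

theorem cubic_rel (M : Matrix (Fin 3) (Fin 3) R)
    (h20 : M 2 0 = 0) (h21 : M 2 1 = 0) (h22 : M 2 2 = 1)
    (hdet : M 0 0 * M 1 1 - M 0 1 * M 1 0 = 1) :
    M ^ 3 - (M 0 0 + M 1 1 + 1) • M ^ 2 + (M 0 0 + M 1 1 + 1) • M - 1 = 0 := by
  ext i j
  fin_cases i <;> fin_cases j <;>
    simp [pow_succ, Matrix.mul_apply, Fin.sum_univ_three, h20, h21, h22] <;>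
    first
    | linear_combination (1 - M 0 0) * hdet
    | linear_combination (1 - M 1 1) * hdet
    | linear_combination (- M 0 1) * hdet
    | linear_combination (- M 1 0) * hdet
    | linear_combination (- M 0 2) * hdet
    | linear_combination (- M 1 2) * hdet
    | ring

theorem det_of_lastRow (M : Matrix (Fin 3) (Fin 3) R)
    (h20 : M 2 0 = 0) (h21 : M 2 1 = 0) (h22 : M 2 2 = 1) :
    M.det = M 0 0 * M 1 1 - M 0 1 * M 1 0 := by
  rw [Matrix.det_fin_three, h20, h21, h22]
  ring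

end general

section field

variable {F : Type*} [Field F]

/-- evaluating a multiple of the cubic at `M` -/
theorem aeval_mul_cubic (M : Matrix (Fin 3) (Fin 3) F) (s : F)
    (h : M ^ 3 - s • M ^ 2 + s • M - 1 = 0) (q : F[X]) :
    aeval M (q * (X ^ 3 - C s * X ^ 2 + C s * X - 1)) = 0 := by
  have h2 : aeval M (X ^ 3 - C s * X ^ 2 + C s * X - 1 : F[X]) = M ^ 3 - s • M ^ 2 + s • M - 1 := by
    simp [Algebra.smul_def]
  rw [map_mul, h2, h, mul_zero]

variable [Fintype F]

theorem two_eq_zero_of_card_four (hF : Fintype.card F = 4) : (2 : F) = 0 := by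
  have h := FiniteField.pow_card (-1 : F)
  rw [hF] at h
  have h1 : ((-1 : F)) ^ 4 = 1 := by ring
  rw [h1] at h
  linear_combination h

theorem trichotomy_of_card_four (hF : Fintype.card F = 4) (t : F) :
    t = 0 ∨ t = 1 ∨ t ^ 2 + t + 1 = 0 := by
  have h := FiniteField.pow_card t
  rw [hF] at h
  have h2 : t * ((t - 1) * (t ^ 2 + t + 1)) = 0 := by linear_combination h
  rcases mul_eq_zero.1 h2 with h3 | h3
  · left; exact h3
  · rcases mul_eq_zero.1 h3 with h4 | h4
    · right; left; linear_combination h4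
    · right; right; exact h4

theorem pow_cases_of_card_four (hF : Fintype.card F = 4) (M : Matrix (Fin 3) (Fin 3) F)
    (h20 : M 2 0 = 0) (h21 : M 2 1 = 0) (h22 : M 2 2 = 1) (hdet : M.det = 1) :
    (M 0 0 + M 1 1 = 0 → M ^ 4 = 1) ∧ (M 0 0 + M 1 1 = 1 → M ^ 3 = 1) ∧
      ((M 0 0 + M 1 1) ^ 2 + (M 0 0 + M 1 1) + 1 = 0 → M ^ 5 = 1) := by
  have h2 : (2 : F) = 0 := two_eq_zero_of_card_four hF
  rw [det_of_lastRow M h20 h21 h22] at hdet
  have hc := cubic_rel M h20 h21 h22 hdet
  set t := M 0 0 + M 1 1 with ht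
  refine ⟨?_, ?_, ?_⟩
  · intro h0
    have := aeval_mul_cubic M (t + 1) hc (X + 1)
    rw [h0, zero_add, map_one] at this
    have e : ((X + 1) * (X ^ 3 - 1 * X ^ 2 + 1 * X - 1) : F[X]) = X ^ 4 - 1 := by ring
    rw [e] at this
    simp at this
    exact sub_eq_zero.1 this
  · intro h1
    have hs : t + 1 = 0 := by rw [h1]; linear_combination h2
    rw [hs] at hc
    simp at hc
    exact sub_eq_zero.1 hc
  · intro h3
    have := aeval_mul_cubic M (t + 1) hc (X ^ 2 + C (t + 1) * X + 1)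
    have hs : (t + 1) - (t + 1) ^ 2 + 1 = 0 := by linear_combination (-1 : F) * h3 + h2
    have e : ((X ^ 2 + C (t + 1) * X + 1) * (X ^ 3 - C (t + 1) * X ^ 2 + C (t + 1) * X - 1) : F[X])
        = X ^ 5 - 1 + C ((t + 1) - (t + 1) ^ 2 + 1) * (X ^ 3 - X ^ 2) := by
      simp only [map_sub, map_add, map_pow, map_one]
      ring
    rw [e, hs, map_zero, zero_mul, add_zero] at this
    simp at this
    exact sub_eq_zero.1 this

theorem pow_or_of_card_four (hF : Fintype.card F = 4) (M : Matrix (Fin 3) (Fin 3) F)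
    (h20 : M 2 0 = 0) (h21 : M 2 1 = 0) (h22 : M 2 2 = 1) (hdet : M.det = 1) :
    M ^ 4 = 1 ∨ M ^ 3 = 1 ∨ M ^ 5 = 1 := by
  obtain ⟨h4, h3, h5⟩ := pow_cases_of_card_four hF M h20 h21 h22 hdet
  rcases trichotomy_of_card_four hF (M 0 0 + M 1 1) with h | h | h
  · left; exact h4 h
  · right; left; exact h3 h
  · right; right; exact h5 h

end field

end Cfsg.Agent.Helper17
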