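import Mathlib
import Cfsg.Agent.Lib.Helper17.AffineSL24
import Cfsg.Agent.Lib.Helper17.A6Spectrum

set_option autoImplicit false

namespace Cfsg.Agent.Helper17

open Matrix

variable {F : Type*} [Field F]

/-- the set of matrices in `SL₃(F)` with last row `(0,0,1)` -/
def affSet (F : Type*) [Field F] : Set (Matrix.SpecialLinearGroup (Fin 3) F) :=
  {M : Matrix.SpecialLinearGroup (Fin 3) F |
    (M : Matrix (Fin 3) (Fin 3) F) 2 0 = 0 ∧ (M : Matrix (Fin 3) (Fin 3) F) 2 1 = 0 ∧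
      (M : Matrix (Fin 3) (Fin 3) F) 2 2 = 1}

theorem mem_affSet_of_mem_closure {M : Matrix.SpecialLinearGroup (Fin 3) F}
    (h : M ∈ Subgroup.closure (affSet F)) : M ∈ affSet F := by
  induction h using Subgroup.closure_induction with
  | mem x hx => exact hx
  | one => simp [affSet]
  | mul x y _ _ hx hy =>
    obtain ⟨hx0, hx1, hx2⟩ := hx
    obtain ⟨hy0, hy1, hy2⟩ := hy
    refine ⟨?_, ?_, ?_⟩ <;>
      simp [Matrix.SpecialLinearGroup.coe_mul, Matrix.mul_apply, Fin.sum_univ_three, hx0, hx1, hx2,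
        hy0, hy1, hy2]
  | inv x _ hx =>
    obtain ⟨hx0, hx1, hx2⟩ := hx
    have hmul : (x : Matrix (Fin 3) (Fin 3) F) * ((x⁻¹ : Matrix.SpecialLinearGroup (Fin 3) F) :
        Matrix (Fin 3) (Fin 3) F) = 1 := by
      rw [← Matrix.SpecialLinearGroup.coe_mul, mul_inv_cancel, Matrix.SpecialLinearGroup.coe_one]
    have e0 := congrFun (congrFun hmul 2) 0
    have e1 := congrFun (congrFun hmul 2) 1
    have e2 := congrFun (congrFun hmul 2) 2
    simp [Matrix.mul_apply, Fin.sum_univ_three, hx0, hx1, hx2] at e0 e1 e2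
    exact ⟨e0, e1, e2⟩

variable [Fintype F]

theorem closure_affSet_pow (hF : Fintype.card F = 4) (g : Subgroup.closure (affSet F)) :
    g ^ 4 = 1 ∨ g ^ 3 = 1 ∨ g ^ 5 = 1 := by
  obtain ⟨h0, h1, h2⟩ := mem_affSet_of_mem_closure g.2
  have hdet : ((g : Matrix.SpecialLinearGroup (Fin 3) F) : Matrix (Fin 3) (Fin 3) F).det = 1 :=
    (g : Matrix.SpecialLinearGroup (Fin 3) F).2
  have key := pow_or_of_card_four hF _ h0 h1 h2 hdet
  have conv : ∀ k : ℕ, ((g : Matrix.SpecialLinearGroup (Fin 3) F) : Matrix (Fin 3) (Fin 3) F) ^ k = 1 →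
      g ^ k = 1 := by
    intro k hk
    apply Subtype.ext
    apply Matrix.SpecialLinearGroup.ext
    intro i j
    rw [Subgroup.coe_pow, Matrix.SpecialLinearGroup.coe_pow, hk]
    simp
  rcases key with h | h | h
  · left; exact conv 4 h
  · right; left; exact conv 3 h
  · right; right; exact conv 5 h

theorem closure_affSet_orderOf (hF : Fintype.card F = 4) (g : Subgroup.closure (affSet F)) :
    orderOf g = 1 ∨ orderOf g = 2 ∨ orderOf g = 3 ∨ orderOf g = 4 ∨ orderOf g = 5 := by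
  rcases closure_affSet_pow hF g with h | h | h
  · rcases orderOf_of_pow_four g h with h1 | h1 | h1 <;> simp [h1]
  · have := orderOf_dvd_of_pow_eq_one h
    rcases (Nat.dvd_prime Nat.prime_three).1 this with h1 | h1 <;> simp [h1]
  · have := orderOf_dvd_of_pow_eq_one h
    rcases (Nat.dvd_prime Nat.prime_five).1 this with h1 | h1 <;> simp [h1]

/-- build an element of the closure from an explicit matrix -/
def mkAff (M : Matrix (Fin 3) (Fin 3) F) (hdet : M.det = 1) (h0 : M 2 0 = 0) (h1 : M 2 1 = 0)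
    (h2 : M 2 2 = 1) : Subgroup.closure (affSet F) :=
  ⟨⟨M, hdet⟩, Subgroup.subset_closure ⟨h0, h1, h2⟩⟩

theorem mkAff_pow (M : Matrix (Fin 3) (Fin 3) F) (hdet : M.det = 1) (h0 : M 2 0 = 0) (h1 : M 2 1 = 0)
    (h2 : M 2 2 = 1) (k : ℕ) :
    (((mkAff M hdet h0 h1 h2) ^ k : Subgroup.closure (affSet F)) : Matrix.SpecialLinearGroup (Fin 3) F).1
      = M ^ k := by
  rw [Subgroup.coe_pow, Matrix.SpecialLinearGroup.coe_pow]
  rfl

theorem mkAff_pow_eq_one_iff (M : Matrix (Fin 3) (Fin 3) F) (hdet : M.det = 1) (h0 : M 2 0 = 0)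
    (h1 : M 2 1 = 0) (h2 : M 2 2 = 1) (k : ℕ) :
    (mkAff M hdet h0 h1 h2) ^ k = 1 ↔ M ^ k = 1 := by
  constructor
  · intro h
    have := mkAff_pow M hdet h0 h1 h2 k
    rw [h] at this
    rw [← this]
    rfl
  · intro h
    apply Subtype.ext
    apply Subtype.ext
    rw [mkAff_pow, h]
    rfl

end Cfsg.Agent.Helper17
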