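import Mathlib
import Cfsg.Agent.Lib.Helper17.AffineSL24Group

set_option autoImplicit false

namespace Cfsg.Agent.Helper17

open Matrix

variable {F : Type*} [Field F] [Fintype F]

/-- explicit affine matrix -/
def affMat (a b c d x y : F) : Matrix (Fin 3) (Fin 3) F := !![a, b, x; c, d, y; 0, 0, 1]

theorem affMat_20 (a b c d x y : F) : affMat a b c d x y 2 0 = 0 := rfl
theorem affMat_21 (a b c d x y : F) : affMat a b c d x y 2 1 = 0 := rfl
theorem affMat_22 (a b c d x y : F) : affMat a b c d x y 2 2 = 1 := rfl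
theorem affMat_00 (a b c d x y : F) : affMat a b c d x y 0 0 = a := rfl
theorem affMat_11 (a b c d x y : F) : affMat a b c d x y 1 1 = d := rfl
theorem affMat_01 (a b c d x y : F) : affMat a b c d x y 0 1 = b := rfl

theorem affMat_det (a b c d x y : F) : (affMat a b c d x y).det = a * d - b * c := by
  rw [det_of_lastRow _ (affMat_20 ..) (affMat_21 ..) (affMat_22 ..)]
  rfl

/-- the element of the closure given by an explicit affine matrix -/
def mkAff' (a b c d x y : F) (h : a * d - b * c = 1) : Subgroup.closure (affSet F) :=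
  mkAff (affMat a b c d x y) ((affMat_det a b c d x y).trans h) (affMat_20 ..) (affMat_21 ..) (affMat_22 ..)

theorem mkAff'_pow_eq_one_iff (a b c d x y : F) (h : a * d - b * c = 1) (k : ℕ) :
    (mkAff' a b c d x y h) ^ k = 1 ↔ (affMat a b c d x y) ^ k = 1 :=
  mkAff_pow_eq_one_iff _ _ _ _ _ k

theorem mkAff'_ne_one (a b c d x y : F) (h : a * d - b * c = 1) (hb : b ≠ 0) :
    mkAff' a b c d x y h ≠ 1 := by
  intro h1
  have h2 := (mkAff'_pow_eq_one_iff a b c d x y h 1).1 (by rw [pow_one]; exact h1)
  rw [pow_one] at h2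
  have := congrFun (congrFun h2 0) 1
  rw [affMat_01] at this
  simp at this
  exact hb this

theorem exists_omega_of_card_four (hF : Fintype.card F = 4) : ∃ w : F, w ^ 2 + w + 1 = 0 := by
  classical
  have hcard : ({0, 1} : Finset F).card < Fintype.card F := by
    rw [hF]
    calc ({0, 1} : Finset F).card ≤ 2 := Finset.card_le_two
      _ < 4 := by norm_num
  obtain ⟨w, hw⟩ := Finset.exists_mem_notMem_of_card_lt_card (s := ({0, 1} : Finset F)) (t := Finset.univ)
    (by simpa using hcard)
  have hw' : w ≠ 0 ∧ w ≠ 1 := by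
    simpa using hw.2
  rcases trichotomy_of_card_four hF w with h | h | h
  · exact absurd h hw'.1
  · exact absurd h hw'.2
  · exact ⟨w, h⟩

theorem neg_one_eq_one_of_card_four (hF : Fintype.card F = 4) : (-1 : F) = 1 := by
  have h2 := two_eq_zero_of_card_four hF
  linear_combination (-1 : F) * h2

theorem exists_order_two (hF : Fintype.card F = 4) :
    ∃ g : Subgroup.closure (affSet F), orderOf g = 2 := by
  have h2 := two_eq_zero_of_card_four hF
  refine ⟨mkAff' 1 1 0 1 0 0 (by ring), ?_⟩
  apply orderOf_eq_prime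
  · rw [mkAff'_pow_eq_one_iff]
    ext i j
    fin_cases i <;> fin_cases j <;> simp [affMat, pow_two, Matrix.mul_apply, Fin.sum_univ_three]
    linear_combination h2
  · exact mkAff'_ne_one _ _ _ _ _ _ _ one_ne_zero

theorem exists_order_four (hF : Fintype.card F = 4) :
    ∃ g : Subgroup.closure (affSet F), orderOf g = 4 := by
  have h2 := two_eq_zero_of_card_four hF
  refine ⟨mkAff' 1 1 0 1 0 1 (by ring), ?_⟩
  have : Fact (Nat.Prime 2) := ⟨Nat.prime_two⟩
  apply orderOf_eq_prime_pow (p := 2) (n := 1)
  · rw [mkAff'_pow_eq_one_iff]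
    intro h
    have := congrFun (congrFun h 0) 2
    simp [affMat, pow_two, Matrix.mul_apply, Fin.sum_univ_three] at this
  · rw [mkAff'_pow_eq_one_iff]
    have key := (pow_cases_of_card_four hF (affMat (1 : F) 1 0 1 0 1) (affMat_20 ..) (affMat_21 ..)
      (affMat_22 ..) ((affMat_det ..).trans (by ring))).1
    apply key
    rw [affMat_00, affMat_11]
    linear_combination h2

theorem exists_order_three (hF : Fintype.card F = 4) :
    ∃ g : Subgroup.closure (affSet F), orderOf g = 3 := by
  have hneg := neg_one_eq_one_of_card_four hF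
  have hd : (0 : F) * 1 - 1 * 1 = 1 := by linear_combination hneg
  refine ⟨mkAff' 0 1 1 1 0 0 hd, ?_⟩
  have : Fact (Nat.Prime 3) := ⟨Nat.prime_three⟩
  apply orderOf_eq_prime
  · rw [mkAff'_pow_eq_one_iff]
    have key := (pow_cases_of_card_four hF (affMat (0 : F) 1 1 1 0 0) (affMat_20 ..) (affMat_21 ..)
      (affMat_22 ..) ((affMat_det ..).trans hd)).2.1
    apply key
    rw [affMat_00, affMat_11]
    ring
  · exact mkAff'_ne_one _ _ _ _ _ _ _ one_ne_zero

theorem exists_order_five (hF : Fintype.card F = 4) :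
    ∃ g : Subgroup.closure (affSet F), orderOf g = 5 := by
  have hneg := neg_one_eq_one_of_card_four hF
  obtain ⟨w, hw⟩ := exists_omega_of_card_four hF
  have hd : (0 : F) * w - 1 * 1 = 1 := by linear_combination hneg
  refine ⟨mkAff' 0 1 1 w 0 0 hd, ?_⟩
  have : Fact (Nat.Prime 5) := ⟨Nat.prime_five⟩
  apply orderOf_eq_prime
  · rw [mkAff'_pow_eq_one_iff]
    have key := (pow_cases_of_card_four hF (affMat (0 : F) 1 1 w 0 0) (affMat_20 ..) (affMat_21 ..)
      (affMat_22 ..) ((affMat_det ..).trans hd)).2.2
    apply key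
    rw [affMat_00, affMat_11]
    linear_combination hw
  · exact mkAff'_ne_one _ _ _ _ _ _ _ one_ne_zero

theorem closure_affSet_spectrum (hF : Fintype.card F = 4) :
    Set.range (orderOf : Subgroup.closure (affSet F) → ℕ) = {1, 2, 3, 4, 5} := by
  ext n
  simp only [Set.mem_range, Set.mem_insert_iff, Set.mem_singleton_iff]
  constructor
  · rintro ⟨g, rfl⟩
    exact closure_affSet_orderOf hF g
  · rintro (rfl | rfl | rfl | rfl | rfl)
    · exact ⟨1, orderOf_one⟩
    · exact exists_order_two hF
    · exact exists_order_three hF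
    · exact exists_order_four hF
    · exact exists_order_five hF

theorem closure_affSet_spectrum_eq_a6 (hF : Fintype.card F = 4) :
    Set.range (orderOf : Subgroup.closure (affSet F) → ℕ) =
      Set.range (orderOf : alternatingGroup (Fin 6) → ℕ) := by
  rw [closure_affSet_spectrum hF, a6_spectrum]

end Cfsg.Agent.Helper17
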