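import Mathlib
import Cfsg.Agent.Lib.Helper17.AffineSL24Spectrum
import Cfsg.Agent.Lib.Helper17.SpectrumIterate

set_option autoImplicit false

namespace Cfsg.Agent.Helper17

open Matrix

variable {F : Type*} [Field F] [Fintype F]

/-- the linear part of an affine matrix, as a monoid homomorphism -/
def affLinear (F : Type*) [Field F] [Fintype F] :
    Subgroup.closure (affSet F) →* Matrix (Fin 2) (Fin 2) F where
  toFun g := Matrix.of fun i j =>
    ((g : Matrix.SpecialLinearGroup (Fin 3) F) : Matrix (Fin 3) (Fin 3) F) (Fin.castSucc i) (Fin.castSucc j)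
  map_one' := by
    ext i j
    fin_cases i <;> fin_cases j <;> simp
  map_mul' g h := by
    obtain ⟨h0, h1, _⟩ := mem_affSet_of_mem_closure h.2
    ext i j
    fin_cases i <;> fin_cases j <;>
      simp [Matrix.mul_apply, Fin.sum_univ_three, h0, h1]

theorem affLinear_ker_sq (hF : Fintype.card F = 4) (g : Subgroup.closure (affSet F))
    (hg : g ∈ (affLinear F).ker) : g ^ 2 = 1 := by
  have h2 := two_eq_zero_of_card_four hF
  obtain ⟨h20, h21, h22⟩ := mem_affSet_of_mem_closure g.2
  have hk : affLinear F g = 1 := hg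
  have e00 := congrFun (congrFun hk 0) 0
  have e01 := congrFun (congrFun hk 0) 1
  have e10 := congrFun (congrFun hk 1) 0
  have e11 := congrFun (congrFun hk 1) 1
  simp [affLinear] at e00 e01 e10 e11
  apply Subtype.ext
  apply Matrix.SpecialLinearGroup.ext
  intro i j
  rw [Subgroup.coe_pow, Matrix.SpecialLinearGroup.coe_pow]
  fin_cases i <;> fin_cases j <;>
    simp [pow_two, Matrix.mul_apply, Fin.sum_univ_three, h20, h21, h22, e00, e01, e10, e11]
  · linear_combination (((g : Matrix.SpecialLinearGroup (Fin 3) F) : Matrix (Fin 3) (Fin 3) F) 0 2) * h2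
  · linear_combination (((g : Matrix.SpecialLinearGroup (Fin 3) F) : Matrix (Fin 3) (Fin 3) F) 1 2) * h2

theorem affLinear_ker_ne_bot : (affLinear F).ker ≠ ⊥ := by
  intro hbot
  have hmem : mkAff' (1 : F) 0 0 1 1 0 (by ring) ∈ (affLinear F).ker := by
    rw [MonoidHom.mem_ker]
    ext i j
    fin_cases i <;> fin_cases j <;> simp [affLinear, mkAff', mkAff, affMat]
  rw [hbot, Subgroup.mem_bot] at hmem
  have h2 := (mkAff'_pow_eq_one_iff (1 : F) 0 0 1 1 0 (by ring) 1).1 (by rw [pow_one]; exact hmem)
  rw [pow_one] at h2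
  have := congrFun (congrFun h2 0) 2
  simp [affMat] at this

/-- arbitrarily large finite groups with the spectrum of `A₆` -/
theorem exists_large_a6_spectrum (N : ℕ) :
    ∃ (H : Type) (_ : Group H) (_ : Fintype H), N < Fintype.card H ∧
      Set.range (orderOf : H → ℕ) = Set.range (orderOf : alternatingGroup (Fin 6) → ℕ) := by
  letI : Fintype (GaloisField 2 2) := Fintype.ofFinite _
  have hF : Fintype.card (GaloisField 2 2) = 4 := by
    rw [← Nat.card_eq_fintype_card, GaloisField.card 2 2 (by norm_num)]
    norm_num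
  haveI : Finite (Matrix.SpecialLinearGroup (Fin 3) (GaloisField 2 2)) :=
    Finite.of_injective (fun M => (M : Matrix (Fin 3) (Fin 3) (GaloisField 2 2))) (fun a b h => Subtype.ext h)
  obtain ⟨H, hg, hf, hcard, hspec⟩ := exists_large_same_spectrum_of_prime_exponent
    (Subgroup.closure (affSet (GaloisField 2 2))) (affLinear (GaloisField 2 2)).ker 2
    (MonoidHom.normal_ker _) affLinear_ker_ne_bot Nat.prime_two
    (fun x hx => affLinear_ker_sq hF x hx) N
  exact ⟨H, hg, hf, hcard, hspec.trans (closure_affSet_spectrum_eq_a6 hF)⟩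

end Cfsg.Agent.Helper17
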