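import Mathlib

/-!
# BG 12.16 (S1421), part A (helper17): generic lemmas

* `inf_centralizer_eq_bot_of_prime` : a subgroup all of whose elements of prime order act freely
  on `σ` acts freely on `σ`.
* `exponent_eq_of_le` : a subgroup `H₀ ≤ H` containing an element of each prime power order that
  occurs in `H` has the same exponent as `H`.
-/

set_option autoImplicit false

namespace Cfsg.Agent.Helper17.BG1221

open Subgroup

variable {G : Type*} [Group G]

theorem inf_centralizer_pow_le (σ : Subgroup G) (e : G) (k : ℕ) :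
    σ ⊓ centralizer ({e} : Set G) ≤ σ ⊓ centralizer ({e ^ k} : Set G) := by
  refine inf_le_inf le_rfl ?_
  intro x hx
  rw [mem_centralizer_iff] at hx ⊢
  intro y hy
  rw [Set.mem_singleton_iff] at hy
  subst hy
  have h1 : Commute e x := hx e (Set.mem_singleton e)
  exact (h1.pow_left k).eq

/-- a subgroup all of whose elements of prime order act freely on `σ` acts freely on `σ` -/
theorem inf_centralizer_eq_bot_of_prime [Finite G] (σ F : Subgroup G)
    (hF : ∀ e ∈ F, (orderOf e).Prime → σ ⊓ centralizer ({e} : Set G) = ⊥) :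
    ∀ e ∈ F, e ≠ 1 → σ ⊓ centralizer ({e} : Set G) = ⊥ := by
  intro e he he1
  have ho : orderOf e ≠ 1 := by rwa [Ne, orderOf_eq_one_iff]
  obtain ⟨q, hq, hqd⟩ := Nat.exists_prime_and_dvd ho
  have hpos : 0 < orderOf e := orderOf_pos e
  have h1 : orderOf (e ^ (orderOf e / q)) = q := orderOf_pow_orderOf_div hpos.ne' hqd
  have h2 := hF _ (F.pow_mem he (orderOf e / q)) (by rw [h1]; exact hq)
  rw [eq_bot_iff, ← h2]
  exact inf_centralizer_pow_le σ e _

/-- a subgroup `H₀ ≤ H` containing an element of each prime power order occurring in `H` has the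
same exponent as `H` -/
theorem exponent_eq_of_le [Finite G] {H₀ H : Subgroup G} (hle : H₀ ≤ H)
    (h : ∀ x ∈ H, ∀ q k : ℕ, q.Prime → orderOf x = q ^ k → ∃ y ∈ H₀, orderOf y = q ^ k) :
    Monoid.exponent ↥H₀ = Monoid.exponent ↥H := by
  apply Nat.dvd_antisymm
  · exact Monoid.exponent_dvd_of_monoidHom (Subgroup.inclusion hle)
      (Subgroup.inclusion_injective hle)
  · apply Monoid.exponent_dvd_of_forall_pow_eq_one
    intro x
    have hx0 : orderOf (x : G) ≠ 0 := (orderOf_pos (x : G)).ne'
    have he0 : Monoid.exponent ↥H₀ ≠ 0 := Monoid.exponent_ne_zero_of_finite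
    have hdvd : orderOf (x : G) ∣ Monoid.exponent ↥H₀ := by
      rw [← Nat.factorization_le_iff_dvd hx0 he0]
      intro q
      by_cases hq : q.Prime
      · rw [← hq.pow_dvd_iff_le_factorization he0]
        set v := (orderOf (x : G)).factorization q with hv
        have hqv : q ^ v ∣ orderOf (x : G) := Nat.ordProj_dvd _ _
        have h1 : orderOf ((x : G) ^ (orderOf (x : G) / q ^ v)) = q ^ v :=
          orderOf_pow_orderOf_div hx0 hqv
        obtain ⟨y, hy, hyo⟩ := h _ (H.pow_mem x.2 _) q v hq h1
        have h2 : orderOf (⟨y, hy⟩ : ↥H₀) = q ^ v := by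
          rw [← hyo]; exact Subgroup.orderOf_mk y hy
        rw [← h2]
        exact Monoid.order_dvd_exponent _
      · rw [Nat.factorization_eq_zero_of_not_prime _ hq]
        exact Nat.zero_le _
    apply Subtype.ext
    rw [Subgroup.coe_pow, Subgroup.coe_one]
    exact orderOf_dvd_iff_pow_eq_one.mp hdvd

end Cfsg.Agent.Helper17.BG1221
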