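import Mathlib
import Cfsg.Agent.Lib.Lead.BG129
import Cfsg.Agent.Lib.Helper8.RankTwoAut
import Cfsg.Agent.Lib.Helper14.KBal
import Cfsg.Agent.Lib.Helper14.BGUniqL
import Cfsg.Agent.Lib.Helper22.BG127B
import Cfsg.Agent.Lib.Helper17.BG11X
import Cfsg.Agent.Lib.Helper17.BG1221A

/-!
# BG 12.16 (S1421), part B (helper17): regular and nonregular lines of `A = Ω₁(S_p)`

In the context `Ctx M E A S p` of `Lib/Lead/BG129` (`p ∈ τ₂(M)`, `A = E_{p²} ≤ E`, `S` an abelian
Sylow `p`-subgroup of `E` and of `G`):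

* `nab` : `N_G(A)/C_G(A)` is abelian.
* `exists_nonregular` : some subgroup of order `p` of `A` has fixed points on `M_σ`.
* `mem_of_nonregular_conj`, `normalizer_le_of_nonregular` : an element of `G` which maps
  a nonregular line to a nonregular line lies in `M`.
* `exists_invariant_regular` : if `E` normalises some line of `A`, it normalises a regular one.
* `regular_of_normalizer_le` : a line of `A` normalised by `N_G(S)` is regular.
-/

set_option autoImplicit false

namespace Cfsg.Agent.Helper17.BG1221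

open Cfsg Subgroup
open scoped commutatorElement
open Cfsg.Agent.Helper15 (IsSylowIn)
open Cfsg.Agent.Lead.BG129

universe u

variable {G : Type u} [Group G] [Finite G]

/-- a variant of `Helper3.BGSig.commutator_le_centralizer_of_rankTwo` where the acting group `N`
need not be a `q'`-group: it is enough that `C_N(S)` contains a Sylow `q`-subgroup of `N`. -/
theorem commutator_le_centralizer_of_rankTwo' (q : ℕ) [Fact q.Prime] (hq2 : q ≠ 2)
    (S N Q : Subgroup G) (hS : IsPGroup q ↥S) (hSr : Cfsg.PRankLE q 2 ↥S)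
    (hNS : N ≤ normalizer (S : Set G)) (hodd : Odd (Nat.card ↥N))
    (hsolv : Group.IsSolvable ↥N) (hQC : Q ≤ centralizer (S : Set G))
    (hQ : ¬ q ∣ Q.relIndex N) :
    ⁅N, N⁆ ≤ centralizer (S : Set G) := by
  have hqp : q.Prime := Fact.out
  set φ : ↥N →* MulAut ↥S := S.normalizerMonoidHom.comp (Subgroup.inclusion hNS) with hφ
  have hφapp : ∀ (a : ↥N) (s : ↥S), ((φ a s : ↥S) : G) = (a : G) * s * (a : G)⁻¹ := fun a s => rfl
  set Γ := ↥N ⧸ φ.ker with hΓ
  set ψ : Γ →* MulAut ↥S := QuotientGroup.kerLift φ with hψ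
  have hψinj : Function.Injective ψ := QuotientGroup.kerLift_injective φ
  haveI : Group.IsSolvable Γ :=
    Group.isSolvable_of_surjective (QuotientGroup.mk'_surjective φ.ker)
  have hcardΓ : Nat.card Γ ∣ Nat.card ↥N := Subgroup.card_quotient_dvd_card φ.ker
  have hoddΓ : Odd (Nat.card Γ) := Odd.of_dvd_nat hodd hcardΓ
  have hP : IsPGroup q ↥(commutator Γ) :=
    Cfsg.Agent.Helper8.RankTwo.derived_isPGroup q hq2 hS hSr inferInstance hoddΓ ψ hψinj
  have hQker : Q.subgroupOf N ≤ φ.ker := by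
    intro a ha
    rw [MonoidHom.mem_ker]
    ext s
    rw [hφapp]
    have h1 : (a : G) ∈ centralizer (S : Set G) := hQC (Subgroup.mem_subgroupOf.mp ha)
    have h2 : (s : G) * (a : G) = (a : G) * (s : G) := Subgroup.mem_centralizer_iff.mp h1 s s.2
    show (a : G) * s * (a : G)⁻¹ = s
    rw [← h2]; group
  have hidx : Nat.card Γ ∣ Q.relIndex N := by
    have h1 : φ.ker.index ∣ (Q.subgroupOf N).index := Subgroup.index_dvd_of_le hQker
    rwa [Subgroup.index_eq_card] at h1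
  have hqΓ : ¬ q ∣ Nat.card Γ := fun h => hQ (h.trans hidx)
  have hcomm : commutator Γ = ⊥ := by
    obtain ⟨n, hn⟩ := IsPGroup.exists_card_eq hP
    have h1 : Nat.card ↥(commutator Γ) ∣ Nat.card Γ := Subgroup.card_subgroup_dvd_card _
    by_contra hne
    have h3 : n ≠ 0 := by
      rintro rfl
      rw [pow_zero] at hn
      exact hne (Subgroup.card_eq_one.mp hn)
    apply hqΓ
    refine (dvd_pow_self q h3).trans ?_
    rw [← hn]
    exact h1
  rw [Subgroup.commutator_le]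
  intro a ha b hb
  have h1 : (QuotientGroup.mk' φ.ker) ⁅(⟨a, ha⟩ : ↥N), ⟨b, hb⟩⁆ ∈ commutator Γ := by
    rw [map_commutatorElement, _root_.commutator_def]
    exact Subgroup.commutator_mem_commutator (Subgroup.mem_top _) (Subgroup.mem_top _)
  rw [hcomm, Subgroup.mem_bot] at h1
  have h2 : ⁅(⟨a, ha⟩ : ↥N), ⟨b, hb⟩⁆ ∈ φ.ker :=
    (QuotientGroup.eq_one_iff (N := φ.ker) _).mp h1
  rw [MonoidHom.mem_ker] at h2
  rw [Subgroup.mem_centralizer_iff]
  intro s hs
  have h3 := hφapp ⁅(⟨a, ha⟩ : ↥N), ⟨b, hb⟩⁆ ⟨s, hs⟩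
  rw [h2] at h3
  have h4 : (s : G) = ⁅a, b⁆ * s * ⁅a, b⁆⁻¹ := h3
  calc s * ⁅a, b⁆ = (⁅a, b⁆ * s * ⁅a, b⁆⁻¹) * ⁅a, b⁆ := by rw [← h4]
    _ = ⁅a, b⁆ * s := by group

section ctx

variable {M E A S : Subgroup G} {p : ℕ} [Fact p.Prime]

theorem A_ne_bot (c : Ctx M E A S p) : A ≠ ⊥ := by
  have hpp : p.Prime := Fact.out
  intro h
  have h1 := c.hA.2.2
  rw [h, Subgroup.card_bot] at h1
  have := hpp.one_lt
  nlinarith

theorem A_le_M (c : Ctx M E A S p) : A ≤ M := c.hA.1.trans c.hE.1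

theorem A_ne_top (c : Ctx M E A S p) : A ≠ ⊤ := by
  intro h
  apply c.hM.1
  rw [eq_top_iff, ← h]
  exact A_le_M c

theorem p_ne_two (h : Hyps G) (c : Ctx M E A S p) : p ≠ 2 := by
  rintro rfl
  have h1 : 2 ∣ Nat.card A := by rw [c.hA.2.2]; exact dvd_pow_self 2 two_ne_zero
  have h2 : 2 ∣ Nat.card G := h1.trans (Subgroup.card_subgroup_dvd_card A)
  exact (Nat.not_even_iff_odd.mpr h.hG.1) (even_iff_two_dvd.mpr h2)

/-- **`N_G(A)/C_G(A)` is abelian.** -/
theorem nab (h : Hyps G) (c : Ctx M E A S p) :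
    ⁅normalizer (A : Set G), normalizer (A : Set G)⁆ ≤ centralizer (A : Set G) := by
  have hNtop := Cfsg.Agent.Helper22.BG127.normalizer_ne_top_of_simple h.hG (A_ne_bot c) (A_ne_top c)
  have hsolv : Group.IsSolvable ↥(normalizer (A : Set G)) := h.hG.2.2.2 _ hNtop
  have hoddN : Odd (Nat.card ↥(normalizer (A : Set G))) :=
    Odd.of_dvd_nat h.hG.1 (Subgroup.card_subgroup_dvd_card _)
  have hSN : S ≤ normalizer (A : Set G) :=
    (c.S_le_centralizer_A h).trans (centralizer_le_normalizer _)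
  have hrank : PRankLE p 2 ↥A := by
    intro B _ _
    calc Nat.card B ≤ Nat.card A := Subgroup.card_le_card_group B
      _ = p ^ 2 := c.hA.2.2
  exact commutator_le_centralizer_of_rankTwo' p (p_ne_two h c) A (normalizer (A : Set G)) S
    c.A_isPGroup hrank le_rfl hoddN hsolv (c.S_le_centralizer_A h)
    ((c.hSG.of_le hSN le_top).not_dvd_relIndex)

/-- some subgroup of order `p` of `A` has fixed points on `M_σ` -/
theorem exists_nonregular (h : Hyps G) (c : Ctx M E A S p) :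
    ∃ X : Subgroup G, X ≤ A ∧ Nat.card X = p ∧
      sigmaCore M ⊓ centralizer (X : Set G) ≠ ⊥ := by
  have hpp : p.Prime := Fact.out
  have hσ1 : sigmaCore M ≠ ⊥ := Cfsg.Agent.Helper17.BG11.sigmaCore_ne_bot' h.hG c.hM
  have hσp : ¬ p ∣ Nat.card ↥(sigmaCore M) := fun hd =>
    c.hp.2.1 (Cfsg.Agent.Helper22.BG13.isPiNum_card_sigmaCore M p hpp hd)
  have hAσ : A ≤ normalizer (sigmaCore M : Set G) :=
    (A_le_M c).trans (Cfsg.Agent.Helper22.BG13.le_normalizer_sigmaCore M)
  have key := Cfsg.Agent.Helper14.KBal.le_iSup_hyperplane c.hA.2.1 (A_ne_bot c) hσp hAσ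
  by_contra hno
  push Not at hno
  apply hσ1
  rw [eq_bot_iff]
  refine key.trans (iSup_le ?_)
  rintro ⟨D, hDA, hDr⟩
  have h1 := Cfsg.Agent.Helper14.KBal.card_hyperplane hDA hDr
  rw [c.hA.2.2, sq] at h1
  have hDc : Nat.card D = p := Nat.eq_of_mul_eq_mul_right hpp.pos h1
  exact (hno D hDA hDc).le

/-- an element mapping a nonregular line of `A` to a nonregular line of `A` lies in `M` -/
theorem mem_of_nonregular_conj (h : Hyps G) (c : Ctx M E A S p) {X : Subgroup G} (hXA : X ≤ A)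
    (hXc : Nat.card X = p) (hXb : sigmaCore M ⊓ centralizer (X : Set G) ≠ ⊥) {g : G}
    (hgA : X.map (MulAut.conj g).toMonoidHom ≤ A)
    (hgb : sigmaCore M ⊓
      centralizer ((X.map (MulAut.conj g).toMonoidHom : Subgroup G) : Set G) ≠ ⊥) :
    g ∈ M := by
  have hbad := (c.h18 h).2.2
  obtain ⟨-, hU1⟩ := hbad X hXA hXc hXb
  obtain ⟨hC2, -⟩ := hbad (X.map (MulAut.conj g).toMonoidHom) hgA
    (by rw [Cfsg.Agent.Helper15.card_map_conj, hXc]) hgb
  have h1 : centralizer (X : Set G) ≤ M.map (MulAut.conj g⁻¹).toMonoidHom := by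
    intro x hx
    have h2 : g * x * g⁻¹ ∈
        centralizer ((X.map (MulAut.conj g).toMonoidHom : Subgroup G) : Set G) := by
      apply Subgroup.mem_centralizer_iff.mpr
      rintro y ⟨w, hw, rfl⟩
      have h3 : w * x = x * w := Subgroup.mem_centralizer_iff.mp hx w hw
      show g * w * g⁻¹ * (g * x * g⁻¹) = g * x * g⁻¹ * (g * w * g⁻¹)
      calc g * w * g⁻¹ * (g * x * g⁻¹) = g * (w * x) * g⁻¹ := by group
        _ = g * (x * w) * g⁻¹ := by rw [h3]
        _ = g * x * g⁻¹ * (g * w * g⁻¹) := by group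
    refine ⟨g * x * g⁻¹, hC2 h2, ?_⟩
    show g⁻¹ * (g * x * g⁻¹) * g⁻¹⁻¹ = x
    group
  have h4 := hU1 _ (Cfsg.Agent.Helper14.BGUniq.isCoatom_map_conj c.hM g⁻¹) h1
  have h5 := Cfsg.Agent.Helper22.BG127.mem_of_map_conj_eq h.hG c.hM h4
  have := M.inv_mem h5
  rwa [inv_inv] at this

/-- the normalizer of a nonregular line of `A` lies in `M` -/
theorem normalizer_le_of_nonregular (h : Hyps G) (c : Ctx M E A S p) {X : Subgroup G}
    (hXA : X ≤ A) (hXc : Nat.card X = p)
    (hXb : sigmaCore M ⊓ centralizer (X : Set G) ≠ ⊥) : normalizer (X : Set G) ≤ M := by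
  intro g hg
  have hmap : X.map (MulAut.conj g).toMonoidHom = X :=
    Cfsg.Agent.Helper15.map_conj_eq_of_mem_normalizer hg
  exact mem_of_nonregular_conj h c hXA hXc hXb (by rw [hmap]; exact hXA) (by rw [hmap]; exact hXb)

/-- if `E` normalises a line of `A`, then it normalises a regular line of `A` -/
theorem exists_invariant_regular (h : Hyps G) (c : Ctx M E A S p) {X : Subgroup G}
    (hXA : X ≤ A) (hXc : Nat.card X = p) (hEX : E ≤ normalizer (X : Set G)) :
    ∃ X' : Subgroup G, X' ≤ A ∧ Nat.card X' = p ∧ E ≤ normalizer (X' : Set G) ∧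
      sigmaCore M ⊓ centralizer (X' : Set G) = ⊥ := by
  by_cases hXb : sigmaCore M ⊓ centralizer (X : Set G) = ⊥
  · exact ⟨X, hXA, hXc, hEX, hXb⟩
  have hNM : ¬ normalizer (A : Set G) ≤ M := (c.h18 h).2.1.2.2
  obtain ⟨n, hnN, hnM⟩ := SetLike.not_le_iff_exists.mp hNM
  have hle : X.map (MulAut.conj n).toMonoidHom ≤ A := by
    have h1 : A.map (MulAut.conj n).toMonoidHom = A :=
      Cfsg.Agent.Helper15.map_conj_eq_of_mem_normalizer hnN
    rw [← h1]
    exact Cfsg.Agent.Helper15.map_conj_mono hXA n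
  refine ⟨X.map (MulAut.conj n).toMonoidHom, hle, ?_, ?_, ?_⟩
  · rw [Cfsg.Agent.Helper15.card_map_conj, hXc]
  · intro e he
    apply Cfsg.Agent.Helper15.mem_normalizer_of_map_conj_eq
    have hEN : E ≤ normalizer (A : Set G) := (c.h18 h).1.1
    have hc0 : ⁅e⁻¹, n⁻¹⁆ ∈ centralizer (A : Set G) :=
      nab h c (Subgroup.commutator_mem_commutator
        (Subgroup.inv_mem _ (hEN he)) (Subgroup.inv_mem _ hnN))
    have hc0X : ⁅e⁻¹, n⁻¹⁆ ∈ normalizer (X : Set G) :=
      centralizer_le_normalizer _ (Subgroup.centralizer_le (by exact_mod_cast hXA) hc0)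
    have heq : e * n = n * (e * ⁅e⁻¹, n⁻¹⁆) := by
      rw [commutatorElement_def]; group
    rw [Cfsg.Agent.Helper15.map_conj_map_conj, heq,
      ← Cfsg.Agent.Helper15.map_conj_map_conj, ← Cfsg.Agent.Helper15.map_conj_map_conj,
      Cfsg.Agent.Helper15.map_conj_eq_of_mem_normalizer hc0X,
      Cfsg.Agent.Helper15.map_conj_eq_of_mem_normalizer (hEX he)]
  · by_contra hb
    exact hnM (mem_of_nonregular_conj h c hXA hXc hXb hle hb)

/-- a line of `A` normalised by `N_G(S)` is regular -/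
theorem regular_of_normalizer_le (h : Hyps G) (c : Ctx M E A S p) {X : Subgroup G}
    (hXA : X ≤ A) (hXc : Nat.card X = p)
    (hN : normalizer (S : Set G) ≤ normalizer (X : Set G)) :
    sigmaCore M ⊓ centralizer (X : Set G) = ⊥ := by
  by_contra hb
  have h1 : normalizer (S : Set G) ≤ M := hN.trans (normalizer_le_of_nonregular h c hXA hXc hb)
  have hSM : S ≤ M := c.hS.le.trans c.hE.1
  have hSyl : IsSylowIn p S M := c.hSG.of_le hSM le_top
  obtain ⟨-, h17, -⟩ := h.h1417 M c.hM p c.hp A ⟨A_le_M c, c.hA.2.1, c.hA.2.2⟩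
  have h2 := (h17 hSyl.toSylow).2 (by rw [hSyl.map_toSylow]; exact c.A_le_S h)
  apply h2.2
  rw [hSyl.map_toSylow]
  exact h1

end ctx

end Cfsg.Agent.Helper17.BG1221
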