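import Mathlib
import Cfsg.Agent.Lib.Helper17.BG1221B
import Cfsg.Agent.Lib.Helper8.BG149A
import Cfsg.Agent.Lib.Helper16.BG1221C4
import Cfsg.Agent.Lib.Helper19.CoprimeAbelian2

/-!
# BG 12.16 (S1421), part C (helper17): `E` normalises a line of `A`

In the context `Ctx M E A S p` of `Lib/Lead/BG129`, under the hypothesis of S1421 (the
`τ₁(M) ∪ τ₃(M)`-elements of `E` act freely on `M_σ`), the complement `E` normalises a subgroup of
order `p` of `A`.
-/

set_option autoImplicit false

namespace Cfsg.Agent.Helper17.BG1221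

open Cfsg Subgroup
open scoped commutatorElement
open Cfsg.Agent.Helper15 (IsSylowIn)
open Cfsg.Agent.Lead.BG129

universe u

variable {G : Type u} [Group G] [Finite G]

/-- the primes dividing the order of a complement `E` of `M_σ` lie in `τ₁ ∪ τ₂ ∪ τ₃` -/
theorem mem_tau_of_dvd_card_compl (h : Hyps G) {M E : Subgroup G} (hM : IsCoatom M)
    (hE : IsComplIn E (sigmaCore M) M) {q : ℕ} (hq : q.Prime) (hd : q ∣ Nat.card E) :
    q ∈ tau1 M ∨ q ∈ tau2 M ∨ q ∈ tau3 M := by
  have hqσ : q ∉ sigma M :=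
    Cfsg.Agent.Helper20.BG12.not_mem_sigma_of_dvd_card_compl (h.h1350 M hM).1 hE hq hd
  have hq2 : PRankLE q 2 M := by
    by_contra hq2
    exact hqσ (h.hασ M hM ⟨hq, hq2⟩)
  by_cases hq1 : PRankLE q 1 M
  · have hqM : q ∣ Nat.card M := hd.trans (Subgroup.card_dvd_of_le hE.1)
    by_cases hqM' : q ∣ Nat.card ↥⁅M, M⁆
    · exact Or.inr (Or.inr ⟨hq, hqσ, hqM', hq1⟩)
    · exact Or.inl ⟨hq, hqσ, hqM, hqM', hq1⟩
  · exact Or.inr (Or.inl ⟨hq, hqσ, hq2, hq1⟩)

section ctx

variable {M E A S : Subgroup G} {p : ℕ} [Fact p.Prime]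

/-- `A = Ω₁(S)` -/
theorem mem_A_of_pow_eq_one (h : Hyps G) (c : Ctx M E A S p) {x : G} (hx : x ∈ S)
    (hxp : x ^ p = 1) : x ∈ A := by
  have hSM : S ≤ M := c.hS.le.trans c.hE.1
  have hSyl : IsSylowIn p S M := c.hSG.of_le hSM le_top
  obtain ⟨-, h17, -⟩ := h.h1417 M c.hM p c.hp A ⟨A_le_M c, c.hA.2.1, c.hA.2.2⟩
  have h2 := ((h17 hSyl.toSylow).2 (by rw [hSyl.map_toSylow]; exact c.A_le_S h)).1
  exact (h2 x (by rw [hSyl.map_toSylow]; exact hx)).mp hxp

/-- a subgroup of `A` is trivial, a line, or `A` -/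
theorem eq_bot_or_card_eq_or_eq (c : Ctx M E A S p) {W : Subgroup G} (hW : W ≤ A) :
    W = ⊥ ∨ Nat.card W = p ∨ W = A := by
  have hpp : p.Prime := Fact.out
  have h1 : Nat.card W ∣ p ^ 2 := by
    rw [← c.hA.2.2]; exact Subgroup.card_dvd_of_le hW
  obtain ⟨k, hk2, hk⟩ := (Nat.dvd_prime_pow hpp).mp h1
  interval_cases k
  · left
    rw [pow_zero] at hk
    exact Subgroup.card_eq_one.mp hk
  · right; left
    rw [pow_one] at hk
    exact hk
  · right; right
    apply Subgroup.eq_of_le_of_card_ge hW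
    rw [hk, c.hA.2.2]

theorem centralizer_S_le_normalizer (h : Hyps G) (c : Ctx M E A S p) {X : Subgroup G}
    (hXA : X ≤ A) : centralizer (S : Set G) ≤ normalizer (X : Set G) :=
  (Subgroup.centralizer_le (by exact_mod_cast hXA.trans (c.A_le_S h))).trans
    (centralizer_le_normalizer _)

/-- **`E` normalises a line of `A`** -/
theorem exists_invariant_line (h : Hyps G) (h1409 : Cfsg.Agent.Helper16.BG1221.Hyp1409 G)
    (h1423 : Cfsg.Agent.Helper5.BG1222.H1423 G)
    (c : Ctx M E A S p)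
    (hreg : ∀ e ∈ E, e ≠ 1 → (∀ q : ℕ, q.Prime → q ∣ orderOf e → q ∈ tau1 M ∪ tau3 M) →
      sigmaCore M ⊓ centralizer ({e} : Set G) = ⊥) :
    ∃ X : Subgroup G, X ≤ A ∧ Nat.card X = p ∧ E ≤ normalizer (X : Set G) := by
  have hpp : p.Prime := Fact.out
  by_contra hno
  push Not at hno
  have hsolvM : Group.IsSolvable ↥M := Cfsg.Agent.Helper20.BG12.isSolvable_coatom h.hG c.hM
  have hsolvE : Group.IsSolvable ↥E := by
    haveI := hsolvM
    exact Group.isSolvable_of_isSolvable_injective (Subgroup.inclusion_injective c.hE.1)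
  have hbot : ∀ π : Set ℕ, ∀ q : ℕ, q.Prime → q ∣ Nat.card (⊥ : Subgroup G) → q ∈ π := by
    intro π q hq hqd
    rw [Subgroup.card_bot] at hqd
    exact absurd (Nat.dvd_one.mp hqd) hq.one_lt.ne'
  obtain ⟨E₁, -, hE₁⟩ := Cfsg.Agent.Helper4.BGSig.exists_isPiHallOf_ge hsolvE (tau1 M)
    (bot_le : (⊥ : Subgroup G) ≤ E) (hbot _)
  obtain ⟨E₃, -, hE₃⟩ := Cfsg.Agent.Helper4.BGSig.exists_isPiHallOf_ge hsolvE (tau3 M)
    (bot_le : (⊥ : Subgroup G) ≤ E) (hbot _)
  have hE₁cyc : IsCyclic ↥E₁ := (h.h1415 M c.hM E c.hE).2.1 E₁ hE₁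
  have hE₃C : E₃ ≤ centralizer (S : Set G) := c.tau3_le_centralizer h hE₃
  obtain ⟨⟨t, htE₁⟩, hgen⟩ := hE₁cyc.exists_generator
  have hzt : zpowers t = E₁ := by
    apply le_antisymm (zpowers_le.mpr htE₁)
    intro x hx
    obtain ⟨k, hk⟩ := Subgroup.mem_zpowers_iff.mp (hgen ⟨x, hx⟩)
    have h2 : t ^ k = x := by simpa using congrArg Subtype.val hk
    rw [← h2]
    exact Subgroup.zpow_mem _ (Subgroup.mem_zpowers t) k
  have htE : t ∈ E := hE₁.1 htE₁
  -- a `t`-invariant subgroup of `A` is `E`-invariant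
  have hinv : ∀ X : Subgroup G, X ≤ A → t ∈ normalizer (X : Set G) →
      E ≤ normalizer (X : Set G) := by
    intro X hXA htX
    have hCS := centralizer_S_le_normalizer h c hXA
    have heq := Cfsg.Agent.Helper4.BGSig.eq_of_forall_sylow_le
      (C := E ⊓ normalizer (X : Set G)) (E := E) inf_le_left (by
        intro u hu hud
        haveI : Fact u.Prime := ⟨hu⟩
        by_cases hup : u = p
        · subst hup
          exact ⟨S, c.hS, le_inf c.hS.le (fun s hs => hCS
            (mem_centralizer_iff.mpr (fun a ha => c.S_comm h a ha s hs)))⟩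
        rcases mem_tau_of_dvd_card_compl h c.hM c.hE hu hud with h1 | h2 | h3
        · obtain ⟨U, hU⟩ := Cfsg.Agent.Helper15.exists_isSylowIn (p := u) E₁
          refine ⟨U, isSylowIn_of_hall hE₁ h1 hU, le_inf (hU.le.trans hE₁.1) ?_⟩
          rw [← hzt] at hU
          exact hU.le.trans (zpowers_le.mpr htX)
        · obtain ⟨T, hT, hTC⟩ := c.exists_sylow_tau2 h h2 (Ne.symm hup)
          exact ⟨T, hT, le_inf hT.le (hTC.trans hCS)⟩
        · obtain ⟨U, hU⟩ := Cfsg.Agent.Helper15.exists_isSylowIn (p := u) E₃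
          exact ⟨U, isSylowIn_of_hall hE₃ h3 hU,
            le_inf (hU.le.trans hE₃.1) ((hU.le.trans hE₃C).trans hCS)⟩)
    rw [← heq]
    exact inf_le_right
  -- `t` is irreducible on `A`
  have hirr : ∀ W : Subgroup G, W ≤ A → t ∈ normalizer (W : Set G) → W = ⊥ ∨ W = A := by
    intro W hW htW
    rcases eq_bot_or_card_eq_or_eq c hW with h1 | h1 | h1
    · exact Or.inl h1
    · exact absurd (hinv W hW htW) (hno W hW h1)
    · exact Or.inr h1
  obtain ⟨X, hXA, hXc, hXb⟩ := exists_nonregular h c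
  -- an element of prime power order of `⟨t⟩` outside `C(A)`
  have hex : ∃ y ∈ zpowers t, ∃ r k : ℕ, r.Prime ∧ orderOf y = r ^ k ∧
      y ∉ centralizer (A : Set G) := by
    by_contra hall
    push Not at hall
    have heq := Cfsg.Agent.Helper4.BGSig.eq_of_forall_sylow_le
      (C := zpowers t ⊓ centralizer (A : Set G)) (E := zpowers t) inf_le_left (by
        intro u hu hud
        haveI : Fact u.Prime := ⟨hu⟩
        obtain ⟨U, hU⟩ := Cfsg.Agent.Helper15.exists_isSylowIn (p := u) (zpowers t)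
        refine ⟨U, hU, le_inf hU.le ?_⟩
        intro z hz
        obtain ⟨k, hk⟩ := (IsPGroup.iff_orderOf.mp hU.isPGroup) ⟨z, hz⟩
        exact hall z (hU.le hz) u k hu (by rw [← hk, Subgroup.orderOf_mk]))
    have htC : t ∈ centralizer (A : Set G) := by
      have : t ∈ zpowers t ⊓ centralizer (A : Set G) := by rw [heq]; exact mem_zpowers t
      exact this.2
    have htX : t ∈ normalizer (X : Set G) :=
      centralizer_le_normalizer _ (Subgroup.centralizer_le (by exact_mod_cast hXA) htC)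
    exact hno X hXA hXc (hinv X hXA htX)
  obtain ⟨y, hy, r, k, hr, hyo, hyA⟩ := hex
  haveI : Fact r.Prime := ⟨hr⟩
  have hy1 : y ≠ 1 := by
    rintro rfl
    exact hyA (Subgroup.one_mem _)
  have hk : k ≠ 0 := by
    rintro rfl
    rw [pow_zero, orderOf_eq_one_iff] at hyo
    exact hy1 hyo
  have hyE₁ : y ∈ E₁ := by rw [← hzt]; exact hy
  have hrτ : r ∈ tau1 M := by
    apply hE₁.2.1 r hr
    have h1 : r ∣ orderOf y := by rw [hyo]; exact dvd_pow_self r hk
    exact h1.trans (Subgroup.orderOf_dvd_natCard _ hyE₁)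
  set x0 := y ^ r ^ (k - 1) with hx0
  have hx0o : orderOf x0 = r := by
    rw [hx0, orderOf_pow_of_dvd (pow_ne_zero _ hr.ne_zero)
      (by rw [hyo]; exact pow_dvd_pow r (Nat.sub_le k 1)), hyo,
      Nat.pow_div (Nat.sub_le k 1) hr.pos]
    have : k - (k - 1) = 1 := by omega
    rw [this, pow_one]
  have hx0E : x0 ∈ E := E.pow_mem (hE₁.1 hyE₁) _
  have hx01 : x0 ≠ 1 := by
    intro h1
    rw [h1, orderOf_one] at hx0o
    exact hr.one_lt.ne hx0o
  have hx0t : x0 ∈ zpowers t := (zpowers t).pow_mem hy _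
  have hfree : sigmaCore M ⊓ centralizer ({x0} : Set G) = ⊥ := by
    apply hreg x0 hx0E hx01
    intro q hq hqd
    rw [hx0o] at hqd
    rw [(Nat.prime_dvd_prime_iff_eq hq hr).mp hqd]
    exact Or.inl hrτ
  have hEN : E ≤ normalizer (A : Set G) := (c.h18 h).1.1
  -- `x0` centralises `A`
  have hx0C : x0 ∈ centralizer (A : Set G) := by
    set W := A ⊓ centralizer ({x0} : Set G) with hW
    have htx : t * x0 = x0 * t := by
      obtain ⟨j, hj⟩ := Subgroup.mem_zpowers_iff.mp hx0t
      rw [← hj]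
      exact (Commute.zpow_right (Commute.refl t) j).eq
    have htW : t ∈ normalizer (W : Set G) := by
      apply Cfsg.Agent.Helper15.mem_normalizer_of_map_conj_eq
      rw [Cfsg.Agent.Helper15.map_conj_eq_iff_le]
      rintro _ ⟨w, hw, rfl⟩
      simp only [MulEquiv.coe_toMonoidHom, MulAut.conj_apply]
      have hwA : w ∈ A := (Subgroup.mem_inf.mp hw).1
      have hwC : w ∈ centralizer ({x0} : Set G) := (Subgroup.mem_inf.mp hw).2
      refine Subgroup.mem_inf.mpr ⟨(Subgroup.mem_normalizer_iff.mp (hEN htE) w).mp hwA, ?_⟩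
      rw [mem_centralizer_iff] at hwC ⊢
      intro z hz
      rw [Set.mem_singleton_iff] at hz
      subst hz
      have h1 : x0 * w = w * x0 := hwC x0 (Set.mem_singleton _)
      have h2 : x0 * t⁻¹ = t⁻¹ * x0 := by
        calc x0 * t⁻¹ = t⁻¹ * (t * x0) * t⁻¹ := by group
          _ = t⁻¹ * (x0 * t) * t⁻¹ := by rw [htx]
          _ = t⁻¹ * x0 := by group
      calc x0 * (t * w * t⁻¹) = (x0 * t) * w * t⁻¹ := by group
        _ = (t * x0) * w * t⁻¹ := by rw [htx]
        _ = t * (x0 * w) * t⁻¹ := by group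
        _ = t * (w * x0) * t⁻¹ := by rw [h1]
        _ = t * w * (x0 * t⁻¹) := by group
        _ = t * w * (t⁻¹ * x0) := by rw [h2]
        _ = t * w * t⁻¹ * x0 := by group
    rcases hirr W inf_le_left htW with h0 | h0
    · exfalso
      have hK : Nat.card (zpowers x0) = r := by rw [Nat.card_zpowers, hx0o]
      have hhall := (h.h1350 M c.hM).1
      have hσM : sigmaCore M ≤ M := hhall.1
      have hcent := Cfsg.Agent.Helper8.BG149.frob_centralizes A (zpowers x0) (sigmaCore M)
        (by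
          intro e he u hu
          exact (Subgroup.mem_normalizer_iff.mp (hEN (zpowers_le.mpr hx0E he)) u).mp hu)
        (by
          intro e he he1 u hu heu
          have hze : zpowers x0 = zpowers e :=
            Cfsg.Agent.Helper22.BG127.eq_zpowers_of_mem_of_ne_one hr hK he he1
          have hx0e : x0 ∈ zpowers e := by rw [← hze]; exact mem_zpowers x0
          obtain ⟨j, hj⟩ := Subgroup.mem_zpowers_iff.mp hx0e
          have huW : u ∈ W := by
            refine Subgroup.mem_inf.mpr ⟨hu, ?_⟩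
            rw [mem_centralizer_iff]
            intro z hz
            rw [Set.mem_singleton_iff] at hz
            subst hz
            rw [← hj]
            have hc : Commute e u := heu
            exact (hc.zpow_left j).eq
          rw [h0, Subgroup.mem_bot] at huW
          exact huW)
        c.A_isPGroup.isNilpotent
        (by
          haveI := hsolvM
          exact Group.isSolvable_of_isSolvable_injective (Subgroup.inclusion_injective hσM))
        (sup_le ((A_le_M c).trans (Cfsg.Agent.Helper22.BG13.le_normalizer_sigmaCore M))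
          ((zpowers_le.mpr (c.hE.1 hx0E)).trans
            (Cfsg.Agent.Helper22.BG13.le_normalizer_sigmaCore M)))
        (by
          have h1 := Cfsg.Agent.Helper20.BG12.coprime_card_compl hhall c.hE
          have h2 : Nat.card ↥(A ⊔ zpowers x0) ∣ Nat.card E :=
            Subgroup.card_dvd_of_le (sup_le c.hA.1 (zpowers_le.mpr hx0E))
          exact (Nat.Coprime.coprime_dvd_left h2 h1).symm)
        (by
          rw [eq_bot_iff, ← hfree]
          refine inf_le_inf le_rfl (Subgroup.centralizer_le ?_)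
          intro z hz
          rw [Set.mem_singleton_iff] at hz
          subst hz
          exact mem_zpowers _)
      obtain ⟨-, -, -, hCA, -, -⟩ := h.h1417 M c.hM p c.hp A ⟨A_le_M c, c.hA.2.1, c.hA.2.2⟩
      apply Cfsg.Agent.Helper17.BG11.sigmaCore_ne_bot' h.hG c.hM
      rw [eq_bot_iff, ← hCA]
      exact le_inf le_rfl hcent
    · rw [mem_centralizer_iff]
      intro a ha
      have haW : a ∈ W := by rw [h0]; exact ha
      have haC : a ∈ centralizer ({x0} : Set G) := (Subgroup.mem_inf.mp haW).2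
      exact ((mem_centralizer_iff.mp haC) x0 (Set.mem_singleton _)).symm
  exact Cfsg.Agent.Helper16.BG1221.false_of_irreducible h h1409 h1423 c (nab h c)
    ⟨X, hXA, hXc, hXb⟩ hr hrτ.2.1 hrτ.2.2.2.2 htE hy hyo hyA hx0C hirr

end ctx

end Cfsg.Agent.Helper17.BG1221
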