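import Mathlib
import Cfsg.Agent.Lib.Helper17.BG1221C

/-!
# BG 12.16 (S1421), part D (helper17): the cyclic subgroups `P₀ ≤ S_p`

In the context `Ctx M E A S p` of `Lib/Lead/BG129`, under the hypothesis of S1421, the Sylow
subgroup `S` of `E` contains an `E`-invariant cyclic subgroup `P₀` of order the exponent of `S`
whose subgroup of order `p` acts freely on `M_σ`.
-/

set_option autoImplicit false

namespace Cfsg.Agent.Helper17.BG1221

open Cfsg Subgroup
open scoped commutatorElement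
open Cfsg.Agent.Helper15 (IsSylowIn)
open Cfsg.Agent.Lead.BG129

universe u

variable {G : Type u} [Group G]

/-- the subgroup of `n`-th powers of an abelian subgroup -/
def powSub (S : Subgroup G) (hS : ∀ a ∈ S, ∀ b ∈ S, a * b = b * a) (n : ℕ) : Subgroup G where
  carrier := {u | ∃ s ∈ S, s ^ n = u}
  mul_mem' := by
    rintro _ _ ⟨a, ha, rfl⟩ ⟨b, hb, rfl⟩
    exact ⟨a * b, S.mul_mem ha hb, Commute.mul_pow (hS a ha b hb) n⟩
  one_mem' := ⟨1, S.one_mem, one_pow n⟩
  inv_mem' := by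
    rintro _ ⟨a, ha, rfl⟩
    exact ⟨a⁻¹, S.inv_mem ha, inv_pow a n⟩

theorem mem_powSub {S : Subgroup G} {hS : ∀ a ∈ S, ∀ b ∈ S, a * b = b * a} {n : ℕ} {u : G} :
    u ∈ powSub S hS n ↔ ∃ s ∈ S, s ^ n = u := Iff.rfl

theorem powSub_le (S : Subgroup G) (hS : ∀ a ∈ S, ∀ b ∈ S, a * b = b * a) (n : ℕ) :
    powSub S hS n ≤ S := by
  rintro _ ⟨s, hs, rfl⟩
  exact S.pow_mem hs n

theorem normalizer_le_normalizer_powSub [Finite G] (S : Subgroup G)
    (hS : ∀ a ∈ S, ∀ b ∈ S, a * b = b * a) (n : ℕ) :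
    normalizer (S : Set G) ≤ normalizer ((powSub S hS n : Subgroup G) : Set G) := by
  intro g hg
  apply Cfsg.Agent.Helper15.mem_normalizer_of_map_conj_eq
  rw [Cfsg.Agent.Helper15.map_conj_eq_iff_le]
  rintro _ ⟨_, ⟨s, hs, rfl⟩, rfl⟩
  simp only [MulEquiv.coe_toMonoidHom, MulAut.conj_apply]
  refine ⟨g * s * g⁻¹, (Subgroup.mem_normalizer_iff.mp hg s).mp hs, ?_⟩
  rw [conj_pow]

/-- in a cyclic group, the elements of order dividing `p` lie in every subgroup of order `p` -/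
theorem mem_of_pow_eq_one_of_isCyclic' [Finite G] {C P : Subgroup G} {p : ℕ} (hp : 0 < p)
    (hC : IsCyclic C) (hPC : P ≤ C) (hP : Nat.card P = p) {c : G} (hc : c ∈ C)
    (hcp : c ^ p = 1) : c ∈ P := by
  classical
  haveI := hC
  letI : CommGroup ↥C := IsCyclic.commGroup
  obtain ⟨Q, hQ⟩ : ∃ Q : Subgroup ↥C, Q = (powMonoidHom p : ↥C →* ↥C).ker := ⟨_, rfl⟩
  have hmem : ∀ a : ↥C, a ∈ Q ↔ a ^ p = 1 := by
    intro a
    rw [hQ, MonoidHom.mem_ker, powMonoidHom_apply]
  have hQc : Nat.card Q ≤ p := by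
    haveI : IsCyclic ↥Q := inferInstance
    letI := Fintype.ofFinite ↥Q
    have h1 := IsCyclic.card_pow_eq_one_le (α := ↥Q) hp
    have h2 : (Finset.univ.filter fun a : ↥Q => a ^ p = 1) = Finset.univ := by
      ext a
      simp only [Finset.mem_filter, Finset.mem_univ, true_and, iff_true]
      have h3 := (hmem a).mp a.2
      exact Subtype.ext h3
    rw [h2, Finset.card_univ] at h1
    rwa [Nat.card_eq_fintype_card]
  have hPQ : P.subgroupOf C ≤ Q := by
    intro a ha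
    rw [hmem]
    have h1 : (⟨(a : G), Subgroup.mem_subgroupOf.mp ha⟩ : ↥P) ^ Nat.card P = 1 :=
      pow_card_eq_one'
    rw [hP] at h1
    have h2 : ((a : G)) ^ p = 1 := by simpa using congrArg Subtype.val h1
    exact Subtype.ext (by simpa using h2)
  have hcard : Nat.card (P.subgroupOf C) = p := by
    rw [← hP]
    exact Nat.card_congr (Subgroup.subgroupOfEquivOfLe hPC).toEquiv
  have heq : P.subgroupOf C = Q :=
    Subgroup.eq_of_le_of_card_ge hPQ (by rw [hcard]; exact hQc)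
  have hcQ : (⟨c, hc⟩ : ↥C) ∈ Q := by
    rw [hmem]
    exact Subtype.ext (by simpa using hcp)
  rw [← heq] at hcQ
  exact Subgroup.mem_subgroupOf.mp hcQ

section ctx

variable [Finite G] {M E A S : Subgroup G} {p : ℕ} [Fact p.Prime]

/-- **The cyclic subgroup `P₀`.** -/
theorem exists_P0 (h : Hyps G) (h1409 : Cfsg.Agent.Helper16.BG1221.Hyp1409 G)
    (h1423 : Cfsg.Agent.Helper5.BG1222.H1423 G) (c : Ctx M E A S p)
    (hreg : ∀ e ∈ E, e ≠ 1 → (∀ q : ℕ, q.Prime → q ∣ orderOf e → q ∈ tau1 M ∪ tau3 M) →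
      sigmaCore M ⊓ centralizer ({e} : Set G) = ⊥) :
    ∃ (P₀ : Subgroup G) (e : ℕ), P₀ ≤ S ∧ E ≤ normalizer (P₀ : Set G) ∧ IsCyclic P₀ ∧
      Nat.card P₀ = p ^ e ∧ (∀ s ∈ S, s ^ p ^ e = 1) ∧
      ∀ x ∈ P₀, orderOf x = p → sigmaCore M ⊓ centralizer ({x} : Set G) = ⊥ := by
  classical
  have hpp : p.Prime := Fact.out
  have hSab := c.S_comm h
  have hAS : A ≤ S := c.A_le_S h
  -- the exponent of `S`
  have hex : ∃ e : ℕ, ∀ s ∈ S, s ^ p ^ e = 1 := by
    obtain ⟨n, hn⟩ := c.hS.isPGroup.exists_card_eq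
    refine ⟨n, fun s hs => ?_⟩
    have h1 : (⟨s, hs⟩ : ↥S) ^ Nat.card S = 1 := pow_card_eq_one'
    rw [hn] at h1
    simpa using congrArg Subtype.val h1
  obtain ⟨e, hexp, hmin⟩ : ∃ e : ℕ, (∀ s ∈ S, s ^ p ^ e = 1) ∧
      ∀ m < e, ¬ ∀ s ∈ S, s ^ p ^ m = 1 :=
    ⟨Nat.find hex, Nat.find_spec hex, fun m hm => Nat.find_min hex hm⟩
  have he : 1 ≤ e := by
    by_contra he
    have he0 : e = 0 := by omega
    subst he0
    apply A_ne_bot c
    rw [eq_bot_iff]
    intro a ha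
    have := hexp a (hAS ha)
    rw [pow_zero, pow_one] at this
    rw [Subgroup.mem_bot]; exact this
  obtain ⟨s0, hs0, hs0ne⟩ : ∃ s0 ∈ S, s0 ^ p ^ (e - 1) ≠ 1 := by
    have := hmin (e - 1) (by omega)
    push Not at this
    exact this
  have hpe : p ^ (e - 1) * p = p ^ e := by
    rw [← pow_succ]
    congr 1
    omega
  -- the subgroup `U` of `p^(e-1)`-th powers
  set U := powSub S hSab (p ^ (e - 1)) with hU
  have hUA : U ≤ A := by
    rintro _ ⟨s, hs, rfl⟩
    apply mem_A_of_pow_eq_one h c (S.pow_mem hs _)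
    rw [← pow_mul, hpe]
    exact hexp s hs
  have hU1 : U ≠ ⊥ := by
    intro hb
    have : s0 ^ p ^ (e - 1) ∈ U := ⟨s0, hs0, rfl⟩
    rw [hb, Subgroup.mem_bot] at this
    exact hs0ne this
  have hNU : normalizer (S : Set G) ≤ normalizer (U : Set G) :=
    normalizer_le_normalizer_powSub S hSab _
  have hES : E ≤ normalizer (S : Set G) := c.main h
  -- the regular invariant line `L ≤ U`
  obtain ⟨L, hLU, hLc, hEL, hLreg⟩ : ∃ L : Subgroup G, L ≤ U ∧ Nat.card L = p ∧
      E ≤ normalizer (L : Set G) ∧ sigmaCore M ⊓ centralizer (L : Set G) = ⊥ := by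
    rcases eq_bot_or_card_eq_or_eq c hUA with h0 | h1 | h2
    · exact absurd h0 hU1
    · exact ⟨U, le_rfl, h1, hES.trans hNU, regular_of_normalizer_le h c hUA h1 hNU⟩
    · obtain ⟨X, hXA, hXc, hEX⟩ := exists_invariant_line h h1409 h1423 c hreg
      obtain ⟨L, hLA, hLc, hEL, hLreg⟩ := exists_invariant_regular h c hXA hXc hEX
      exact ⟨L, by rw [h2]; exact hLA, hLc, hEL, hLreg⟩
  -- a Hall `p'`-subgroup `T` of `E`
  have hsolvM : Group.IsSolvable ↥M := Cfsg.Agent.Helper20.BG12.isSolvable_coatom h.hG c.hM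
  have hsolvE : Group.IsSolvable ↥E := by
    haveI := hsolvM
    exact Group.isSolvable_of_isSolvable_injective (Subgroup.inclusion_injective c.hE.1)
  obtain ⟨T, -, hT⟩ := Cfsg.Agent.Helper4.BGSig.exists_isPiHallOf_ge hsolvE {q : ℕ | q ≠ p}
    (bot_le : (⊥ : Subgroup G) ≤ E) (by
      intro q hq hqd
      rw [Subgroup.card_bot] at hqd
      exact absurd (Nat.dvd_one.mp hqd) hq.one_lt.ne')
  have hTco : (Nat.card T).Coprime p :=
    ((Nat.Prime.coprime_iff_not_dvd hpp).mpr (fun hd => (hT.2.1 p hpp hd) rfl)).symm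
  obtain ⟨P₀, hLP, hPS, hTP, hPcyc, hPc⟩ :=
    Cfsg.Agent.Helper19.exists_invariant_cyclic (S := S) (T := T) (L := L) he hSab hexp
      (hT.1.trans hES) hTco ((hLU.trans hUA).trans hAS) hLc (hT.1.trans hEL) (by
        intro l hl
        exact hLU hl)
  -- `E` normalises `P₀`
  have hEP : E ≤ normalizer (P₀ : Set G) := by
    have heq := Cfsg.Agent.Helper4.BGSig.eq_of_forall_sylow_le
      (C := E ⊓ normalizer (P₀ : Set G)) (E := E) inf_le_left (by
        intro u hu hud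
        haveI : Fact u.Prime := ⟨hu⟩
        by_cases hup : u = p
        · subst hup
          refine ⟨S, c.hS, le_inf c.hS.le ?_⟩
          intro s hs
          apply centralizer_le_normalizer
          rw [mem_centralizer_iff]
          intro x hx
          exact hSab x (hPS hx) s hs
        · obtain ⟨U', hU'⟩ := Cfsg.Agent.Helper15.exists_isSylowIn (p := u) T
          exact ⟨U', isSylowIn_of_hall hT hup hU', le_inf (hU'.le.trans hT.1) (hU'.le.trans hTP)⟩)
    rw [← heq]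
    exact inf_le_right
  refine ⟨P₀, e, hPS, hEP, hPcyc, hPc, hexp, ?_⟩
  intro x hx hxo
  have hxp : x ^ p = 1 := by rw [← hxo]; exact pow_orderOf_eq_one x
  have hxL : x ∈ L := mem_of_pow_eq_one_of_isCyclic' hpp.pos hPcyc hLP hLc hx hxp
  have hx1 : x ≠ 1 := by
    intro h1
    rw [h1, orderOf_one] at hxo
    exact hpp.one_lt.ne hxo
  have hLz : L = zpowers x := Cfsg.Agent.Helper22.BG127.eq_zpowers_of_mem_of_ne_one hpp hLc hxL hx1
  rw [eq_bot_iff, ← hLreg]
  refine inf_le_inf le_rfl ?_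
  intro a ha
  rw [hLz]
  apply Cfsg.Agent.Helper16.BG1221.mem_centralizer_zpowers
  exact ((mem_centralizer_iff.mp ha) x (Set.mem_singleton x)).symm

end ctx

end Cfsg.Agent.Helper17.BG1221
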