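import Mathlib
import Cfsg.Agent.Lib.Helper17.BG1221D

/-!
# BG 12.16 (S1421), part E (helper17): the case where all `τ₂(M)`-Sylow subgroups of `G` are abelian

* `exists_Y` : (generic) in an abelian group `E₂`, given subgroups `P₀ p` of the Sylow subgroups
  `S p`, the product `Y` of the `P₀ p` meets `S p` in `P₀ p`.
* `caseB` : the conclusion of S1421 when the Sylow `q`-subgroups of `G` are abelian for all
  `q ∈ τ₂(M)`.
-/

set_option autoImplicit false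

namespace Cfsg.Agent.Helper17.BG1221

open Cfsg Subgroup
open scoped commutatorElement
open Cfsg.Agent.Helper15 (IsSylowIn)
open Cfsg.Agent.Lead.BG129

universe u

variable {G : Type u} [Group G] [Finite G]

theorem card_mul_relIndex {H K : Subgroup G} (hHK : H ≤ K) :
    Nat.card H * H.relIndex K = Nat.card K := by
  have := Subgroup.relIndex_mul_relIndex (⊥ : Subgroup G) H K bot_le hHK
  rwa [Subgroup.relIndex_bot_left, Subgroup.relIndex_bot_left] at this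

/-- the "product" of subgroups `P₀ p` of the Sylow subgroups `S p` of an abelian group `E₂` -/
theorem exists_Y {E E₂ : Subgroup G} (hab : ∀ a ∈ E₂, ∀ b ∈ E₂, a * b = b * a)
    (hEE₂ : E ≤ normalizer (E₂ : Set G)) (π : Set ℕ) (hπ : ∀ p ∈ π, p.Prime)
    (Sf Pf : ℕ → Subgroup G) (hS : ∀ p ∈ π, IsSylowIn p (Sf p) E₂)
    (hPS : ∀ p ∈ π, Pf p ≤ Sf p) (hEP : ∀ p ∈ π, E ≤ normalizer (Pf p : Set G)) :
    ∃ Y : Subgroup G, Y ≤ E₂ ∧ E ≤ normalizer (Y : Set G) ∧ (∀ p ∈ π, Pf p ≤ Y) ∧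
      ∀ p ∈ π, ∀ y ∈ Y, y ∈ Sf p → y ∈ Pf p := by
  classical
  let m : ℕ → ℕ := fun p => (Sf p).relIndex E₂
  have hcard : ∀ p ∈ π, Nat.card (Sf p) * m p = Nat.card E₂ := fun p hp =>
    card_mul_relIndex (hS p hp).le
  have hpow : ∀ p ∈ π, ∀ s ∈ Sf p, ∃ k : ℕ, Nat.card (Sf p) = p ^ k := by
    intro p hp s _
    haveI : Fact p.Prime := ⟨hπ p hp⟩
    exact (hS p hp).isPGroup.exists_card_eq
  let Y : Subgroup G :=
    { carrier := {y | y ∈ E₂ ∧ ∀ p ∈ π, y ^ m p ∈ Pf p}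
      mul_mem' := by
        rintro a b ⟨ha, ha'⟩ ⟨hb, hb'⟩
        refine ⟨E₂.mul_mem ha hb, fun p hp => ?_⟩
        rw [Commute.mul_pow (hab a ha b hb)]
        exact (Pf p).mul_mem (ha' p hp) (hb' p hp)
      one_mem' := ⟨E₂.one_mem, fun p _ => by rw [one_pow]; exact (Pf p).one_mem⟩
      inv_mem' := by
        rintro a ⟨ha, ha'⟩
        refine ⟨E₂.inv_mem ha, fun p hp => ?_⟩
        rw [inv_pow]
        exact (Pf p).inv_mem (ha' p hp) }
  have hYmem : ∀ y, y ∈ Y ↔ y ∈ E₂ ∧ ∀ p ∈ π, y ^ m p ∈ Pf p := fun y => Iff.rfl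
  refine ⟨Y, fun y hy => ((hYmem y).mp hy).1, ?_, ?_, ?_⟩
  · intro e he
    apply Cfsg.Agent.Helper15.mem_normalizer_of_map_conj_eq
    rw [Cfsg.Agent.Helper15.map_conj_eq_iff_le]
    rintro _ ⟨y, hy, rfl⟩
    simp only [MulEquiv.coe_toMonoidHom, MulAut.conj_apply]
    obtain ⟨hy1, hy2⟩ := (hYmem y).mp hy
    rw [hYmem]
    refine ⟨(Subgroup.mem_normalizer_iff.mp (hEE₂ he) y).mp hy1, fun p hp => ?_⟩
    rw [conj_pow]
    exact (Subgroup.mem_normalizer_iff.mp (hEP p hp he) _).mp (hy2 p hp)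
  · intro p hp g hg
    rw [hYmem]
    have hgS : g ∈ Sf p := hPS p hp hg
    refine ⟨(hS p hp).le hgS, fun p' hp' => ?_⟩
    by_cases hpp' : p' = p
    · subst hpp'
      exact (Pf p').pow_mem hg _
    · -- `g ^ m p' = 1`
      have hprime := hπ p hp
      have hprime' := hπ p' hp'
      haveI : Fact p.Prime := ⟨hprime⟩
      haveI : Fact p'.Prime := ⟨hprime'⟩
      obtain ⟨k, hk⟩ := (hS p hp).isPGroup.exists_card_eq
      obtain ⟨k', hk'⟩ := (hS p' hp').isPGroup.exists_card_eq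
      have h1 : Nat.card (Sf p) ∣ Nat.card (Sf p') * m p' := by
        rw [hcard p' hp']
        exact Subgroup.card_dvd_of_le (hS p hp).le
      have hcop : (Nat.card (Sf p)).Coprime (Nat.card (Sf p')) := by
        rw [hk, hk']
        exact Nat.Coprime.pow _ _ ((Nat.coprime_primes hprime hprime').mpr (Ne.symm hpp'))
      have h2 : Nat.card (Sf p) ∣ m p' := hcop.dvd_of_dvd_mul_left h1
      have h3 : g ^ Nat.card (Sf p) = 1 := by
        have h4 : (⟨g, hgS⟩ : ↥(Sf p)) ^ Nat.card (Sf p) = 1 := pow_card_eq_one'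
        have h5 := congrArg Subtype.val h4
        rwa [Subgroup.coe_pow] at h5
      obtain ⟨j, hj⟩ := h2
      rw [hj, pow_mul, h3, one_pow]
      exact (Pf p').one_mem
  · intro p hp y hy hyS
    have hprime := hπ p hp
    haveI : Fact p.Prime := ⟨hprime⟩
    obtain ⟨hy1, hy2⟩ := (hYmem y).mp hy
    obtain ⟨k, hk⟩ := (hS p hp).isPGroup.exists_card_eq
    have hcop : (m p).Coprime (Nat.card (Sf p)) := by
      rw [hk]
      apply Nat.Coprime.pow_right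
      exact ((Nat.Prime.coprime_iff_not_dvd hprime).mpr (hS p hp).not_dvd_relIndex).symm
    have h3 : y ^ Nat.card (Sf p) = 1 := by
      have h4 : (⟨y, hyS⟩ : ↥(Sf p)) ^ Nat.card (Sf p) = 1 := pow_card_eq_one'
      have h5 := congrArg Subtype.val h4
      rwa [Subgroup.coe_pow] at h5
    exact Cfsg.Agent.Helper20.BG12.mem_of_pow_mem_of_coprime hcop (hy2 p hp)
      (by rw [h3]; exact (Pf p).one_mem)

/-- a `q`-subgroup of `E` lies in a normal Sylow `q`-subgroup of `E` -/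
theorem le_of_isSylowIn_normal {E S Q : Subgroup G} {q : ℕ} [Fact q.Prime]
    (hS : IsSylowIn q S E) (hES : E ≤ normalizer (S : Set G)) (hQE : Q ≤ E)
    (hQ : IsPGroup q Q) : Q ≤ S := by
  have hqp : q.Prime := Fact.out
  have hprimesS : ∀ r : ℕ, r.Prime → r ∣ Nat.card S → r ∈ ({q} : Set ℕ) := by
    intro r hr hrd
    obtain ⟨k, hk⟩ := hS.isPGroup.exists_card_eq
    rw [hk] at hrd
    exact (Nat.prime_dvd_prime_iff_eq hr hqp).mp (hr.dvd_of_dvd_pow hrd)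
  have hHall : IsPiHallOf ({q} : Set ℕ) S E := by
    refine ⟨hS.le, hprimesS, ?_⟩
    intro r hr hrq
    rw [Set.mem_singleton_iff] at hrq
    subst hrq
    exact hS.not_dvd_relIndex
  apply Cfsg.Agent.Helper4.BGSig.le_of_isPiHallOf_normal hHall hES hQE
  intro r hr hrd
  obtain ⟨k, hk⟩ := hQ.exists_card_eq
  rw [hk] at hrd
  exact (Nat.prime_dvd_prime_iff_eq hr hqp).mp (hr.dvd_of_dvd_pow hrd)

/-- the data attached to a prime `p ∈ τ₂(M)` -/
def Good (M E : Subgroup G) (p : ℕ) (S P₀ : Subgroup G) (e : ℕ) : Prop :=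
  IsSylowIn p S E ∧ E ≤ normalizer (S : Set G) ∧ P₀ ≤ S ∧ E ≤ normalizer (P₀ : Set G) ∧
    IsCyclic P₀ ∧ Nat.card P₀ = p ^ e ∧ (∀ s ∈ S, s ^ p ^ e = 1) ∧
    ∀ x ∈ P₀, orderOf x = p → sigmaCore M ⊓ centralizer ({x} : Set G) = ⊥

theorem exists_good (h : Hyps G) (h1409 : Cfsg.Agent.Helper16.BG1221.Hyp1409 G)
    (h1423 : Cfsg.Agent.Helper5.BG1222.H1423 G) {M E : Subgroup G} (hM : IsCoatom M)
    (hE : IsComplIn E (sigmaCore M) M)
    (hreg : ∀ e ∈ E, e ≠ 1 → (∀ q : ℕ, q.Prime → q ∣ orderOf e → q ∈ tau1 M ∪ tau3 M) →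
      sigmaCore M ⊓ centralizer ({e} : Set G) = ⊥)
    (hab : ∀ q : ℕ, q ∈ tau2 M → ∀ [Fact q.Prime],
      ∃ P : Sylow q G, ∀ a ∈ (P : Subgroup G), ∀ b ∈ (P : Subgroup G), a * b = b * a) :
    ∀ p : ℕ, p ∈ tau2 M → ∃ (S P₀ : Subgroup G) (e : ℕ), Good M E p S P₀ e := by
  intro p hp
  haveI : Fact p.Prime := ⟨hp.1⟩
  obtain ⟨S, hS⟩ := Cfsg.Agent.Helper15.exists_isSylowIn (p := p) E
  obtain ⟨A, c⟩ := exists_ctx h hM hE hp (hab p hp) hS
  obtain ⟨P₀, e, h1, h2, h3, h4, h5, h6⟩ := exists_P0 h h1409 h1423 c hreg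
  exact ⟨S, P₀, e, hS, c.main h, h1, h2, h3, h4, h5, h6⟩

end Cfsg.Agent.Helper17.BG1221
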