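import Mathlib
import Cfsg.Agent.Lib.Helper17.BG1221E

/-!
# BG 12.16 (S1421), part F (helper17): the case where all `τ₂(M)`-Sylow subgroups of `G` are
abelian (this includes the case `τ₂(M) = ∅`)
-/

set_option autoImplicit false

namespace Cfsg.Agent.Helper17.BG1221

open Cfsg Subgroup
open scoped commutatorElement
open Cfsg.Agent.Helper15 (IsSylowIn)
open Cfsg.Agent.Lead.BG129

universe u

variable {G : Type u} [Group G] [Finite G]

/-- **BG 12.16 when the Sylow `q`-subgroups of `G` are abelian for all `q ∈ τ₂(M)`.** -/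
theorem caseB (h : Hyps G) (h1409 : Cfsg.Agent.Helper16.BG1221.Hyp1409 G)
    (h1423 : Cfsg.Agent.Helper5.BG1222.H1423 G) {M E : Subgroup G} (hM : IsCoatom M)
    (hE : IsComplIn E (sigmaCore M) M)
    (hreg : ∀ e ∈ E, e ≠ 1 → (∀ q : ℕ, q.Prime → q ∣ orderOf e → q ∈ tau1 M ∪ tau3 M) →
      sigmaCore M ⊓ centralizer ({e} : Set G) = ⊥)
    (hab : ∀ q : ℕ, q ∈ tau2 M → ∀ [Fact q.Prime],
      ∃ P : Sylow q G, ∀ a ∈ (P : Subgroup G), ∀ b ∈ (P : Subgroup G), a * b = b * a) :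
    (∃ A₀ : Subgroup G, A₀ ≤ E ∧ E ≤ normalizer (A₀ : Set G) ∧ IsMulCommutative A₀ ∧
        ∀ x ∈ sigmaCore M, x ≠ 1 → E ⊓ centralizer ({x} : Set G) ≤ A₀) ∧
      ∃ E₀ : Subgroup G, E₀ ≤ E ∧ Monoid.exponent E₀ = Monoid.exponent E ∧
        ∀ e ∈ E₀, e ≠ 1 → sigmaCore M ⊓ centralizer ({e} : Set G) = ⊥ := by
  classical
  have hsolvM : Group.IsSolvable ↥M := Cfsg.Agent.Helper20.BG12.isSolvable_coatom h.hG hM
  have hsolvE : Group.IsSolvable ↥E := by
    haveI := hsolvM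
    exact Group.isSolvable_of_isSolvable_injective (Subgroup.inclusion_injective hE.1)
  have hbot : ∀ π : Set ℕ, ∀ q : ℕ, q.Prime → q ∣ Nat.card (⊥ : Subgroup G) → q ∈ π := by
    intro π q hq hqd
    rw [Subgroup.card_bot] at hqd
    exact absurd (Nat.dvd_one.mp hqd) hq.one_lt.ne'
  obtain ⟨E₂, -, hE₂⟩ := Cfsg.Agent.Helper4.BGSig.exists_isPiHallOf_ge hsolvE (tau2 M)
    (bot_le : (⊥ : Subgroup G) ≤ E) (hbot _)
  obtain ⟨T, -, hT⟩ := Cfsg.Agent.Helper4.BGSig.exists_isPiHallOf_ge hsolvE (tau2 M)ᶜ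
    (bot_le : (⊥ : Subgroup G) ≤ E) (hbot _)
  obtain ⟨hnorm, hcomm⟩ := hall_tau2_normal h hM hE hab hE₂
  -- the primes of `E` outside `τ₂` are in `τ₁ ∪ τ₃`
  have hτ13 : ∀ q : ℕ, q.Prime → q ∣ Nat.card E → q ∉ tau2 M → q ∈ tau1 M ∪ tau3 M := by
    intro q hq hqd hq2
    rcases mem_tau_of_dvd_card_compl h hM hE hq hqd with h1 | h1 | h1
    · exact Or.inl h1
    · exact absurd h1 hq2
    · exact Or.inr h1
  have hregq : ∀ e ∈ E, ∀ q : ℕ, q.Prime → orderOf e = q → q ∉ tau2 M →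
      sigmaCore M ⊓ centralizer ({e} : Set G) = ⊥ := by
    intro e he q hq heo hq2
    have he1 : e ≠ 1 := by
      rintro rfl
      rw [orderOf_one] at heo
      exact hq.one_lt.ne heo
    apply hreg e he he1
    intro q' hq' hq'd
    rw [heo] at hq'd
    rw [(Nat.prime_dvd_prime_iff_eq hq' hq).mp hq'd]
    apply hτ13 q hq _ hq2
    rw [← heo]
    exact Subgroup.orderOf_dvd_natCard _ he
  -- part (a)
  refine ⟨⟨E₂, hE₂.1, hnorm, ⟨⟨fun a b => Subtype.ext (hcomm a a.2 b b.2)⟩⟩, ?_⟩, ?_⟩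
  · intro x hx hx1
    apply Cfsg.Agent.Helper4.BGSig.le_of_isPiHallOf_normal hE₂ hnorm inf_le_left
    intro q hq hqd
    by_contra hq2
    haveI : Fact q.Prime := ⟨hq⟩
    obtain ⟨d, hd⟩ := exists_prime_orderOf_dvd_card' (G := ↥(E ⊓ centralizer ({x} : Set G))) q hqd
    have hdo : orderOf (d : G) = q := by rw [Subgroup.orderOf_coe]; exact hd
    have hdE : (d : G) ∈ E := (Subgroup.mem_inf.mp d.2).1
    have hdC : (d : G) ∈ centralizer ({x} : Set G) := (Subgroup.mem_inf.mp d.2).2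
    have hfree := hregq (d : G) hdE q hq hdo hq2
    have hxd : x ∈ sigmaCore M ⊓ centralizer ({(d : G)} : Set G) := by
      refine Subgroup.mem_inf.mpr ⟨hx, ?_⟩
      rw [mem_centralizer_iff]
      intro z hz
      rw [Set.mem_singleton_iff] at hz
      subst hz
      exact ((mem_centralizer_iff.mp hdC) x (Set.mem_singleton x)).symm
    rw [hfree, Subgroup.mem_bot] at hxd
    exact hx1 hxd
  -- part (b)
  obtain ⟨Sf, Pf, ef, hf⟩ : ∃ (Sf Pf : ℕ → Subgroup G) (ef : ℕ → ℕ),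
      ∀ p ∈ tau2 M, Good M E p (Sf p) (Pf p) (ef p) := by
    have hgood := exists_good h h1409 h1423 hM hE hreg hab
    choose! Sf Pf ef hf using hgood
    exact ⟨Sf, Pf, ef, hf⟩
  have hπ : ∀ p ∈ tau2 M, p.Prime := fun p hp => hp.1
  have hSE₂ : ∀ p ∈ tau2 M, Sf p ≤ E₂ := by
    intro p hp
    haveI : Fact p.Prime := ⟨hp.1⟩
    apply Cfsg.Agent.Helper4.BGSig.le_of_isPiHallOf_normal hE₂ hnorm (hf p hp).1.le
    intro r hr hrd
    obtain ⟨k, hk⟩ := (hf p hp).1.isPGroup.exists_card_eq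
    rw [hk] at hrd
    rw [(Nat.prime_dvd_prime_iff_eq hr hp.1).mp (hr.dvd_of_dvd_pow hrd)]
    exact hp
  obtain ⟨Y, hYE₂, hEY, hPY, hYS⟩ := exists_Y hcomm hnorm (tau2 M) hπ Sf Pf
    (fun p hp => (hf p hp).1.of_le (hSE₂ p hp) hE₂.1) (fun p hp => (hf p hp).2.2.1)
    (fun p hp => (hf p hp).2.2.2.1)
  have hTY : T ≤ normalizer (Y : Set G) := hT.1.trans hEY
  have hE₂T : E₂ ⊓ T = ⊥ := by
    apply disjoint_iff.mp
    apply Subgroup.disjoint_of_coprime_natCard
    apply Nat.coprime_of_dvd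
    intro k hk h1 h2
    exact (hT.2.1 k hk h2) (hE₂.2.1 k hk h1)
  -- elements of `τ₂`-prime-power order of `E` lie in the normal Sylow subgroup
  have hmemS : ∀ q ∈ tau2 M, ∀ x ∈ E, ∀ k : ℕ, orderOf x = q ^ k → x ∈ Sf q := by
    intro q hq x hx k hxo
    haveI : Fact q.Prime := ⟨hq.1⟩
    have hz : IsPGroup q (zpowers x) := by
      apply IsPGroup.of_card (n := k)
      rw [Nat.card_zpowers, hxo]
    exact le_of_isSylowIn_normal (hf q hq).1 (hf q hq).2.1 (zpowers_le.mpr hx) hz (mem_zpowers x)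
  refine ⟨Y ⊔ T, sup_le (hYE₂.trans hE₂.1) hT.1, ?_, ?_⟩
  · -- the exponent
    apply exponent_eq_of_le (sup_le (hYE₂.trans hE₂.1) hT.1)
    intro x hx q k hq hxo
    haveI : Fact q.Prime := ⟨hq⟩
    by_cases hq2 : q ∈ tau2 M
    · obtain ⟨-, -, -, -, hcyc, hcard, hexp, -⟩ := hf q hq2
      have hxS := hmemS q hq2 x hx k hxo
      have hke : k ≤ ef q := by
        have h1 : orderOf x ∣ q ^ ef q := orderOf_dvd_of_pow_eq_one (hexp x hxS)
        rw [hxo] at h1
        exact (Nat.pow_dvd_pow_iff_le_right hq.one_lt).mp h1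
      haveI := hcyc
      obtain ⟨g, hg⟩ := IsCyclic.exists_generator (α := ↥(Pf q))
      have hgo : orderOf (g : G) = q ^ ef q := by
        rw [Subgroup.orderOf_coe, orderOf_eq_card_of_forall_mem_zpowers hg, hcard]
      refine ⟨(g : G) ^ q ^ (ef q - k), ?_, ?_⟩
      · exact Subgroup.mem_sup_left (hPY q hq2 ((Pf q).pow_mem g.2 _))
      · rw [orderOf_pow_of_dvd (pow_ne_zero _ hq.ne_zero)
          (by rw [hgo]; exact pow_dvd_pow q (Nat.sub_le _ _)), hgo,
          Nat.pow_div (Nat.sub_le _ _) hq.pos]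
        congr 1
        omega
    · by_cases hk0 : k = 0
      · subst hk0
        refine ⟨1, Subgroup.one_mem _, ?_⟩
        rw [orderOf_one, pow_zero]
      obtain ⟨U, hU⟩ := Cfsg.Agent.Helper15.exists_isSylowIn (p := q) T
      have hUE : IsSylowIn q U E := isSylowIn_of_hall hT hq2 hU
      have hz : IsPGroup q (zpowers x) := by
        apply IsPGroup.of_card (n := k)
        rw [Nat.card_zpowers, hxo]
      obtain ⟨S', hxS', hS'⟩ := Cfsg.Agent.Helper15.exists_isSylowIn_ge hz (zpowers_le.mpr hx)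
      obtain ⟨g, -, hg⟩ := hS'.exists_conj hUE
      refine ⟨g * x * g⁻¹, ?_, ?_⟩
      · apply Subgroup.mem_sup_right
        apply hU.le
        rw [← hg]
        exact ⟨x, hxS' (mem_zpowers x), rfl⟩
      · rw [← hxo]
        exact (MulAut.conj g).orderOf_eq x
  · -- freeness
    apply inf_centralizer_eq_bot_of_prime
    intro e he heo
    have heE : e ∈ E := (sup_le (hYE₂.trans hE₂.1) hT.1) he
    by_cases hq2 : orderOf e ∈ tau2 M
    · obtain ⟨-, -, -, -, -, -, -, hfree⟩ := hf (orderOf e) hq2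
      have heS : e ∈ Sf (orderOf e) := hmemS _ hq2 e heE 1 (pow_one _).symm
      -- `e ∈ Y`
      have hmul : e ∈ ((Y ⊔ T : Subgroup G) : Set G) := he
      rw [Subgroup.coe_mul_of_right_le_normalizer_left Y T hTY] at hmul
      obtain ⟨y, hy, t, ht, hyt⟩ := Set.mem_mul.mp hmul
      have htE₂ : t ∈ E₂ := by
        have h1 : t = y⁻¹ * e := by rw [← hyt]; group
        rw [h1]
        exact E₂.mul_mem (E₂.inv_mem (hYE₂ hy)) (hSE₂ _ hq2 heS)
      have ht1 : t = 1 := by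
        have : t ∈ E₂ ⊓ T := Subgroup.mem_inf.mpr ⟨htE₂, ht⟩
        rw [hE₂T, Subgroup.mem_bot] at this
        exact this
      have heY : e ∈ Y := by
        rw [← hyt, ht1, mul_one]
        exact hy
      exact hfree e (hYS _ hq2 e heY heS) rfl
    · exact hregq e heE (orderOf e) heo rfl hq2

end Cfsg.Agent.Helper17.BG1221
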