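import Mathlib
import Cfsg.Prelude.Def_OddOrder
import Cfsg.Prelude.Def_OddOrderLocal

/-!
# BG 12.16 (S1421), part H (helper17): frozen statements used as hypotheses

* `Hyp1409` : the frozen statement S1409, verbatim.
* `Hyp1423` : the part of the frozen statement S1423 that is used.
-/

set_option autoImplicit false

namespace Cfsg.Agent.Helper17.BG1221

open Subgroup Cfsg

universe u

/-- S1409 verbatim -/
def Hyp1409 (G : Type u) [Group G] : Prop :=
  ∀ (M : Subgroup G), IsCoatom M → ∀ (p : ℕ) [Fact p.Prime], p ∉ Cfsg.sigma M →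
    ∀ (X : Subgroup G), Nat.card X = p → Subgroup.normalizer (X : Set G) ≤ M →
    (Cfsg.PRankLE p 2 M ∧ ¬ Cfsg.PRankLE p 1 M) ∧ ¬ Cfsg.IsIdealPrime p G ∧
      ∃ A : Subgroup G, Cfsg.IsElementaryAbelian p A ∧ Nat.card A = p ^ 2 ∧ X ≤ A

/-- the part of S1423 used -/
def Hyp1423 (G : Type u) [Group G] : Prop :=
  ∀ (M : Subgroup G), IsCoatom M → ∀ (p : ℕ) [Fact p.Prime], p ∈ Cfsg.sigma M →
    ∀ (X : Subgroup G), X ≤ M → Nat.card X = p →
    X ≤ ⁅Cfsg.sigmaCore M, Cfsg.sigmaCore M⁆ →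
    (Subgroup.centralizer (X : Set G) ≤ M ∧
      ∀ L : Subgroup G, IsCoatom L → Subgroup.centralizer (X : Set G) ≤ L → L = M)

end Cfsg.Agent.Helper17.BG1221
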