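import Mathlib
import Cfsg.Agent.Lib.Helper3.BSWDefs
import Cfsg.Agent.Lib.Helper4.BSWHSTRUCT
import Cfsg.Agent.Lib.Helper10.BSWSYLCONJ

/-!
# S3282 piece DVDQ (helper17 for helper3): a subgroup `M` with `M# ⊆ R0` has order dividing `q = 2k-1`.
-/

set_option autoImplicit false
set_option linter.unusedSectionVars false
set_option linter.unusedVariables false

namespace Cfsg.Agent.Helper3.BSW

universe u

variable {G : Type u} [Group G] [Fintype G] {t s : G} {K : Subgroup G} {St : G → ℤ}

namespace DVDQ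

/-- the order of `G` in case B, as a natural number -/
theorem card_G (h : Hyp t s K) (hB : StB K St) :
    Nat.card G = 2 * Nat.card K * (Nat.card K - 1) * (2 * Nat.card K - 1) := by
  have hk := (even_card_K h).2
  have hc := hB.card
  obtain ⟨m, hm⟩ : ∃ m, Nat.card K = m + 2 := ⟨Nat.card K - 2, by omega⟩
  rw [hm] at hc ⊢
  have h1 : m + 2 - 1 = m + 1 := by omega
  have h2 : 2 * (m + 2) - 1 = 2 * m + 3 := by omega
  rw [h1, h2]
  have : (Nat.card G : ℤ) = ((2 * (m + 2) * (m + 1) * (2 * m + 3) : ℕ) : ℤ) := by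
    rw [hc]
    push_cast
    ring
  exact_mod_cast this

/-- the index of a subgroup of known order -/
theorem index_eq {A : Subgroup G} {a r : ℕ} (ha : Nat.card A = a) (ha0 : 0 < a)
    (hG : Nat.card G = a * r) : A.index = r := by
  have := A.card_mul_index
  rw [ha, hG] at this
  exact Nat.eq_of_mul_eq_mul_left ha0 this

end DVDQ

open DVDQ in
/-- PIECE DVDQ (IIB4). -/
theorem card_dvd_q (h : Hyp t s K) (hB : StB K St)
    (hD : 2 < Nat.card K → ∃ D : Subgroup G, Nat.card D + 1 = Nat.card K ∧
      ∀ x ∈ D, x ≠ 1 → InR K x ∧ St x = 1)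
    {M : Subgroup G} (hM : ∀ x ∈ M, x ≠ 1 → InR K x ∧ St x = 0) :
    Nat.card M ∣ 2 * Nat.card K - 1 := by
  obtain ⟨hkev, hk2⟩ := even_card_K h
  have hG := card_G h hB
  set k := Nat.card K with hkdef
  have hMG : Nat.card M ∣ Nat.card G := Subgroup.card_subgroup_dvd_card M
  rw [hG] at hMG
  refine Nat.Coprime.dvd_of_dvd_mul_left ?_ hMG
  apply Nat.coprime_of_dvd
  intro l hl hlM hl2
  have : Fact l.Prime := ⟨hl⟩
  obtain ⟨x, hx⟩ := exists_prime_orderOf_dvd_card' (G := M) l hlM
  have hxo : orderOf (x : G) = l := by rw [Subgroup.orderOf_coe]; exact hx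
  have hx1 : (x : G) ≠ 1 := by
    intro h1
    rw [h1, orderOf_one] at hxo
    exact hl.one_lt.ne hxo
  obtain ⟨hxR, hxS⟩ := hM x x.2 hx1
  have hpow : ∃ j : ℕ, orderOf (x : G) = l ^ j := ⟨1, by rw [hxo, pow_one]⟩
  -- the case `l = 2`
  have hcase2 : l ≠ 2 := by
    rintro rfl
    obtain ⟨c, hc⟩ := isConj_iff.1 (h.hconj (x : G) t hxo h.ht)
    apply hxR.2 c
    rw [hc]
    exact h.htK
  have hodd : ¬ l ∣ 2 := by
    intro hd
    exact hcase2 ((Nat.prime_dvd_prime_iff_eq hl Nat.prime_two).1 hd)
  rcases (Nat.Prime.dvd_mul hl).1 hl2 with hl2 | hlk1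
  · rcases (Nat.Prime.dvd_mul hl).1 hl2 with hd | hlk
    · exact hodd hd
    · -- `l ∣ k`, `l` odd: `x` is conjugate into `K`
      have hidx : K.index = 2 * (k - 1) * (2 * k - 1) := by
        apply index_eq (a := k) hkdef.symm (by omega)
        rw [hG]; ring
      have hcop : ¬ l ∣ K.index := by
        rw [hidx]
        intro hd
        rcases (Nat.Prime.dvd_mul hl).1 hd with hd | hd
        · rcases (Nat.Prime.dvd_mul hl).1 hd with hd | hd
          · exact hodd hd
          · have : l ∣ 1 := by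
              have h3 : k = (k - 1) + 1 := by omega
              rw [h3] at hlk
              exact (Nat.dvd_add_right hd).1 hlk
            exact hl.one_lt.ne' (Nat.dvd_one.1 this)
        · have : l ∣ 1 := by
            have h3 : 2 * k = (2 * k - 1) + 1 := by omega
            have h4 : l ∣ 2 * k := Dvd.dvd.mul_left hlk 2
            rw [h3] at h4
            exact (Nat.dvd_add_right hd).1 h4
          exact hl.one_lt.ne' (Nat.dvd_one.1 this)
      obtain ⟨g, hg⟩ := conj_mem_of_sylow (A := K) hl hcop hpow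
      exact hxR.2 g hg
  · -- `l ∣ k - 1`: `x` is conjugate into `D`
    have hk3 : 2 < k := by
      have := Nat.le_of_dvd (by omega) hlk1
      have := hl.two_le
      omega
    obtain ⟨D, hDc, hDR⟩ := hD hk3
    have hidx : D.index = 2 * k * (2 * k - 1) := by
      apply index_eq (a := k - 1) (by omega) (by omega)
      rw [hG]; ring
    have hlk : ¬ l ∣ k := by
      intro hd
      have : l ∣ 1 := by
        have h3 : k = (k - 1) + 1 := by omega
        rw [h3] at hd
        exact (Nat.dvd_add_right hlk1).1 hd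
      exact hl.one_lt.ne' (Nat.dvd_one.1 this)
    have hcop : ¬ l ∣ D.index := by
      rw [hidx]
      intro hd
      rcases (Nat.Prime.dvd_mul hl).1 hd with hd | hd
      · rcases (Nat.Prime.dvd_mul hl).1 hd with hd | hd
        · exact hodd hd
        · exact hlk hd
      · have : l ∣ 1 := by
          have h3 : 2 * k - 1 = 2 * (k - 1) + 1 := by omega
          rw [h3] at hd
          exact (Nat.dvd_add_right (Dvd.dvd.mul_left hlk1 2)).1 hd
        exact hl.one_lt.ne' (Nat.dvd_one.1 this)
    obtain ⟨g, hg⟩ := conj_mem_of_sylow (A := D) hl hcop hpow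
    have hg1 : g * (x : G) * g⁻¹ ≠ 1 := by
      intro h1
      apply hx1
      have : (x : G) = g⁻¹ * (g * (x : G) * g⁻¹) * g := by group
      rw [this, h1]; group
    have h1 := (hDR _ hg hg1).2
    rw [hB.conj, hxS] at h1
    exact absurd h1 (by norm_num)

end Cfsg.Agent.Helper3.BSW
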