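import Mathlib
import Cfsg.Agent.Lib.Helper3.BSWArithDefs

/-!
# S3282 piece NUMB (helper17 for helper3): the final arithmetic of the good shape, `ε = -1`, `k ≥ 4`.
-/

set_option autoImplicit false

namespace Cfsg.Agent.Helper3.BSW

/-- PIECE NUMB (A5, `ε = -1`, `k ≥ 4`). -/
theorem num_arith_B (k g : ℕ) (d z1 z2 a : ℤ) (hk : 4 ≤ k) (hd : 0 < d) (hz1 : 0 < z1)
    (hz2 : 0 < z2) (hg : 0 < g) (hdeg : -d + z1 + z2 = -1) (hcong : z1 = (k : ℤ) * a - 1)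
    (e1 : (1 : ℚ) - 1 / (d : ℚ) + 4 / ((d : ℚ) - 1) = 4 * (k : ℚ) ^ 3 / (g : ℚ))
    (e2 : (1 : ℚ) - 1 / (d : ℚ) + 1 / (z1 : ℚ) + 1 / (z2 : ℚ) = 4 * (k : ℚ) ^ 3 / (g : ℚ))
    (hb : 2 + 2 * d ^ 2 + ((k : ℤ) - 2) * (d - 1) ^ 2 + 2 * z1 ^ 2 + 2 * z2 ^ 2 ≤ 2 * (g : ℤ)) :
    d = 2 * (k : ℤ) - 1 ∧ z1 = (k : ℤ) - 1 ∧ z2 = (k : ℤ) - 1 ∧
      (g : ℤ) = 2 * (k : ℤ) * (2 * (k : ℤ) - 1) * ((k : ℤ) - 1) := by
  have hkZ : (4 : ℤ) ≤ (k : ℤ) := by exact_mod_cast hk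
  have hgZ : (0 : ℤ) < (g : ℤ) := by exact_mod_cast hg
  have hsum : z1 + z2 = d - 1 := by linarith
  have hd1 : 0 < d - 1 := by linarith
  have hdq : (d : ℚ) ≠ 0 := by exact_mod_cast hd.ne'
  have hd1q : (d : ℚ) - 1 ≠ 0 := by
    have : ((d - 1 : ℤ) : ℚ) ≠ 0 := by exact_mod_cast hd1.ne'
    push_cast at this
    exact this
  have hz1q : (z1 : ℚ) ≠ 0 := by exact_mod_cast hz1.ne'
  have hz2q : (z2 : ℚ) ≠ 0 := by exact_mod_cast hz2.ne'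
  have hgq : (g : ℚ) ≠ 0 := by exact_mod_cast hg.ne'
  -- `1/z1 + 1/z2 = 4/(d-1)`
  have hA : ((z1 : ℚ) + z2) * ((d : ℚ) - 1) = 4 * z1 * z2 := by
    have h1 : 1 / (z1 : ℚ) + 1 / (z2 : ℚ) = 4 / ((d : ℚ) - 1) := by linarith
    field_simp at h1
    linarith
  have hAZ : (z1 + z2) * (d - 1) = 4 * z1 * z2 := by exact_mod_cast hA
  have hzz : z1 = z2 := by
    have h0 : (z1 - z2) ^ 2 = 0 := by
      rw [← hsum] at hAZ
      nlinarith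
    have := pow_eq_zero_iff (two_ne_zero) |>.1 h0
    linarith
  subst hzz
  have hdz : d = 2 * (k : ℤ) * a - 1 := by
    have : d = 2 * z1 + 1 := by linarith
    rw [this, hcong]; ring
  -- `a ≥ 1`
  have ha1 : 1 ≤ a := by
    by_contra hcon
    have ha0 : a ≤ 0 := by omega
    have : (k : ℤ) * a ≤ 0 := mul_nonpos_of_nonneg_of_nonpos (by linarith) ha0
    linarith
  -- `g (d+1)^2 = 4 k^3 d (d-1)`
  have hB : (g : ℚ) * ((d : ℚ) + 1) ^ 2 = 4 * (k : ℚ) ^ 3 * ((d : ℚ) * ((d : ℚ) - 1)) := by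
    have h1 : ((d : ℚ) + 1) ^ 2 / ((d : ℚ) * ((d : ℚ) - 1)) = 4 * (k : ℚ) ^ 3 / (g : ℚ) := by
      rw [← e1]
      field_simp
      ring
    rw [div_eq_div_iff (mul_ne_zero hdq hd1q) hgq] at h1
    linarith
  have hBZ : (g : ℤ) * (d + 1) ^ 2 = 4 * (k : ℤ) ^ 3 * (d * (d - 1)) := by exact_mod_cast hB
  have hga : (g : ℤ) * a ^ 2 = (k : ℤ) * (d * (d - 1)) := by
    have h1 : d + 1 = 2 * (k : ℤ) * a := by linarith
    rw [h1] at hBZ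
    have h2 : (4 * (k : ℤ) ^ 2) * ((g : ℤ) * a ^ 2) = (4 * (k : ℤ) ^ 2) * ((k : ℤ) * (d * (d - 1))) := by
      nlinarith
    have h3 : (4 * (k : ℤ) ^ 2) ≠ 0 := by positivity
    exact mul_left_cancel₀ h3 h2
  rcases eq_or_lt_of_le ha1 with ha1' | ha2
  · -- `a = 1`
    have ha1'' : a = 1 := ha1'.symm
    subst ha1''
    have hd' : d = 2 * (k : ℤ) - 1 := by linarith
    refine ⟨hd', by linarith, by linarith, ?_⟩
    rw [one_pow, mul_one] at hga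
    rw [hga, hd']; ring
  · -- `a ≥ 2` is impossible
    exfalso
    have ha2' : 2 ≤ a := by omega
    have ha4 : 4 ≤ a ^ 2 := by nlinarith
    have h4 : 4 * (g : ℤ) ≤ (g : ℤ) * a ^ 2 := by
      have := mul_le_mul_of_nonneg_left ha4 hgZ.le
      linarith
    have hz : 2 * z1 = d - 1 := by linarith
    have hb' : 4 + 4 * d ^ 2 + 2 * ((k : ℤ) - 1) * (d - 1) ^ 2 ≤ 4 * (g : ℤ) := by
      have : 4 * z1 ^ 2 = (d - 1) ^ 2 := by rw [← hz]; ring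
      nlinarith
    -- `d ≥ 4 k - 1`
    have hdk : 4 * (k : ℤ) ≤ d + 1 := by
      have : 2 * (k : ℤ) * 2 ≤ 2 * (k : ℤ) * a :=
        mul_le_mul_of_nonneg_left ha2' (by linarith)
      linarith
    -- `k d (d-1) ≤ k (d-1)^2 + k (d-1)` and `k (d-1) ≤ (d+1)(d-1)/4 < 4 d^2`
    have h5 : (k : ℤ) * (d * (d - 1)) = (k : ℤ) * (d - 1) ^ 2 + (k : ℤ) * (d - 1) := by ring
    have h6 : 4 * ((k : ℤ) * (d - 1)) ≤ (d + 1) * (d - 1) :=by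
      have := mul_le_mul_of_nonneg_right hdk hd1.le
      linarith
    have h7 : (k : ℤ) * (d - 1) ^ 2 ≤ 2 * ((k : ℤ) - 1) * (d - 1) ^ 2 := by
      have h8 : (k : ℤ) ≤ 2 * ((k : ℤ) - 1) := by linarith
      exact mul_le_mul_of_nonneg_right h8 (by positivity)
    nlinarith

end Cfsg.Agent.Helper3.BSW
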