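import Mathlib
import Cfsg.Agent.Lib.Helper24.CharComplete
import Cfsg.Agent.Lib.Helper3.BSWCharDefs
import Cfsg.Agent.Lib.Helper4.BSWHSTRUCT
import Cfsg.Agent.Lib.Helper4.BSWCENT
import Cfsg.Agent.Lib.Helper4.BSWFUS

/-!
# S3282 piece ORTHK (helper17 for helper3): second orthogonality on `K`.
-/

set_option autoImplicit false
set_option linter.unusedSectionVars false
set_option linter.unusedVariables false

namespace Cfsg.Agent.Helper3.BSW

open Cfsg Cfsg.Agent.Helper24
open scoped ComplexConjugate

universe u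

variable {G : Type u} [Group G] [Fintype G] [Fintype (IrrCharacter G)] [DecidableEq (IrrCharacter G)]
  {t s : G} {K : Subgroup G} [Fintype K] [Fintype (JK K)] [DecidableEq (JK K)]
  {a1 : IrrCharacter G → ℤ} {b : JK K → IrrCharacter G → ℤ} {sgn : JK K → ℤ}

namespace ORTHK

/-- the order of the centralizer of `t` -/
theorem card_cent_t (h : Hyp t s K) :
    Nat.card (Subgroup.centralizer ({t} : Set G)) = 2 * Nat.card K := card_H h

/-- the order of the centralizer of `x ∈ K#`, `x ≠ t` -/
theorem card_cent_ne (h : Hyp t s K) {x : G} (hx : x ∈ K) (hx1 : x ≠ 1) (hxt : x ≠ t) :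
    Nat.card (Subgroup.centralizer ({x} : Set G)) = Nat.card K := by
  rw [cent_eq h hx hx1 hxt]

/-- `x = x⁻¹` in `K#` iff `x = t` -/
theorem eq_inv_iff (h : Hyp t s K) {x : G} (hx : x ∈ K) (hx1 : x ≠ 1) : x = x⁻¹ ↔ x = t := by
  constructor
  · intro hxx
    have h2 : x * x = 1 := by
      nth_rewrite 2 [hxx]
      exact mul_inv_cancel x
    rcases sq_eq_one_mem h hx h2 with h1 | h1
    · exact absurd h1 hx1
    · exact h1
  · intro hxt
    rw [hxt]
    have := HSTRUCT.mul_self_of_order_two h.ht
    exact eq_inv_of_mul_eq_one_left this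

end ORTHK

open ORTHK in
/-- PIECE ORTHK (C2). -/
theorem orth_K (h : Hyp t s K) [DecidableEq G] {x x' : G} (hx : x ∈ K) (hx' : x' ∈ K) (hx1 : x ≠ 1) :
    ∑ ψ : IrrCharacter G, (ψ : G → ℂ) x * conj ((ψ : G → ℂ) x') =
      (Nat.card K : ℂ) * ((if x' = x then 1 else 0) + (if x' = x⁻¹ then 1 else 0)) := by
  classical
  rw [second_orthogonality' x x']
  by_cases h1 : x' = x
  · subst h1
    rw [if_pos (IsConj.refl x'), if_pos rfl]
    by_cases hxt : x' = t
    · rw [if_pos ((eq_inv_iff h hx hx1).2 hxt)]
      subst hxt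
      rw [card_cent_t h]
      push_cast; ring
    · rw [card_cent_ne h hx hx1 hxt, if_neg (fun hh => hxt ((eq_inv_iff h hx hx1).1 hh))]
      ring
  · rw [if_neg h1]
    by_cases h2 : x' = x⁻¹
    · have hx'1 : x' ≠ 1 := by
        intro hh
        rw [hh] at h2
        exact hx1 (inv_eq_one.1 h2.symm)
      have hx't : x' ≠ t := by
        intro hh
        apply h1
        have hxt : x = t := by
          have : x = x'⁻¹ := by rw [h2, inv_inv]
          rw [this, hh]
          exact (HSTRUCT.inv_of_order_two h.ht)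
        rw [hh, hxt]
      have hconj : IsConj x' x := by
        rw [isConj_iff]
        refine ⟨s, ?_⟩
        rw [h.hinv x' hx', h2, inv_inv]
      rw [if_pos hconj, if_pos h2, card_cent_ne h hx' hx'1 hx't]
      ring
    · rw [if_neg h2]
      have hnc : ¬ IsConj x' x := by
        intro hc
        obtain ⟨c, hc⟩ := isConj_iff.1 hc
        have hx'1 : x' ≠ 1 := by
          intro hh
          rw [hh] at hc
          apply hx1
          rw [← hc]; group
        have hcK : c * x' * c⁻¹ ∈ K := by rw [hc]; exact hx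
        rcases (conj_mem h hx' hx'1 hcK).2 with h3 | h3
        · exact h1 (by rw [← h3, hc])
        · apply h2
          rw [← hc, h3, inv_inv]
      rw [if_neg hnc]
      ring

end Cfsg.Agent.Helper3.BSW
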