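import Mathlib
import Cfsg.Agent.Lib.Helper3.BSWDefs
import Cfsg.Agent.Lib.Helper8.BSWODDC
import Cfsg.Agent.Lib.Helper8.BSWRCENT
import Cfsg.Agent.Lib.Helper19.BSWCENTB1
import Cfsg.Agent.Lib.Helper25.BSWVALSB

/-!
# S3282 piece R0B (helper17 for helper3): the elements of `R0` in case B are not real, and `C(y)# ⊆ R0`.
-/

set_option autoImplicit false
set_option linter.unusedSectionVars false
set_option linter.unusedVariables false

namespace Cfsg.Agent.Helper3.BSW

universe u

variable {G : Type u} [Group G] [Fintype G] {t s : G} {K : Subgroup G} {St : G → ℤ}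

namespace R0B

/-- if `g` inverts `y` then `g * g` centralizes `y` -/
theorem sq_comm {g y : G} (hg : g * y * g⁻¹ = y⁻¹) : Commute (g * g) y := by
  have h1 : g * y⁻¹ * g⁻¹ = y := by
    have := congrArg (fun z => z⁻¹) hg
    simp only [mul_inv_rev, inv_inv] at this
    rw [← mul_assoc] at this
    exact this
  have h2 : g * g * y * (g * g)⁻¹ = y := by
    calc g * g * y * (g * g)⁻¹ = g * (g * y * g⁻¹) * g⁻¹ := by group
      _ = g * y⁻¹ * g⁻¹ := by rw [hg]
      _ = y := h1
  have : g * g * y = y * (g * g) := by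
    calc g * g * y = g * g * y * (g * g)⁻¹ * (g * g) := by group
      _ = y * (g * g) := by rw [h2]
  exact this

/-- even powers of `g` centralize `y` -/
theorem even_pow_comm {g y : G} (hg : g * y * g⁻¹ = y⁻¹) (n : ℕ) : Commute (g ^ (2 * n)) y := by
  have h := (sq_comm hg).pow_left n
  rw [← pow_two, ← pow_mul] at h
  exact h

/-- odd powers of `g` invert `y` -/
theorem odd_pow_inv {g y : G} (hg : g * y * g⁻¹ = y⁻¹) (n : ℕ) :
    g ^ (2 * n + 1) * y * (g ^ (2 * n + 1))⁻¹ = y⁻¹ := by
  have hc := even_pow_comm hg n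
  rw [pow_succ]
  calc g ^ (2 * n) * g * y * (g ^ (2 * n) * g)⁻¹
      = g ^ (2 * n) * (g * y * g⁻¹) * (g ^ (2 * n))⁻¹ := by group
    _ = g ^ (2 * n) * y⁻¹ * (g ^ (2 * n))⁻¹ := by rw [hg]
    _ = y⁻¹ := by
      have hc' : Commute (g ^ (2 * n)) y⁻¹ := hc.inv_right
      rw [hc'.eq]
      group

/-- an element of `R'` is not an involution and not trivial: `y ≠ y⁻¹` -/
theorem ne_inv (h : Hyp t s K) {y : G} (hy : InR K y) : y ≠ y⁻¹ := by
  intro hyy
  have hy2 : y * y = 1 := by
    nth_rewrite 2 [hyy]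
    exact mul_inv_cancel y
  have ho : orderOf y = 2 := by
    apply orderOf_eq_prime
    · rw [pow_two]; exact hy2
    · exact hy.1
  obtain ⟨c, hc⟩ := isConj_iff.1 (h.hconj y t ho h.ht)
  apply hy.2 c
  rw [hc]
  exact h.htK

end R0B

open R0B in
/-- PIECE R0B (IIB3). -/
theorem not_real_B (h : Hyp t s K) (hB : StB K St) {y : G} (hy : InR K y) (h0 : St y = 0) :
    ¬ IsConj y y⁻¹ := by
  intro hconj
  obtain ⟨g, hg⟩ := isConj_iff.1 hconj
  -- no involution inverts `y`
  have hrc : rc y = 0 := by
    have := hB.rform y hy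
    rw [h0, mul_zero] at this
    exact_mod_cast this
  have hnoinv : ∀ u : G, orderOf u = 2 → u * y * u⁻¹ ≠ y⁻¹ := by
    intro u hu huy
    unfold rc at hrc
    rcases Nat.card_eq_zero.1 hrc with he | hinf
    · exact he.false ⟨u, hu, huy⟩
    · exact hinf.not_finite (inferInstance)
  have hyy := ne_inv h hy
  have hopos : 0 < orderOf g := orderOf_pos g
  rcases Nat.even_or_odd' (orderOf g) with ⟨n, hn | hn⟩
  · -- even order `2 n`
    have hn0 : n ≠ 0 := by
      rintro rfl
      omega
    have hv : orderOf (g ^ n) = 2 := by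
      have := orderOf_pow_orderOf_div (x := g) (n := 2) hopos.ne' ⟨n, hn⟩
      rw [hn, Nat.mul_div_cancel_left n (by norm_num : 0 < 2)] at this
      exact this
    rcases Nat.even_or_odd' n with ⟨m, hm | hm⟩
    · -- `g ^ n` centralizes `y`
      have hc := even_pow_comm hg m
      rw [← hm] at hc
      have hmem : g ^ n ∈ Subgroup.centralizer ({y} : Set G) := by
        rw [Subgroup.mem_centralizer_singleton_iff]
        exact hc.eq
      exact odd_cent h hy hmem hv
    · -- `g ^ n` inverts `y`
      have hi := odd_pow_inv hg m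
      rw [← hm] at hi
      exact hnoinv _ hv hi
  · -- odd order: `g` itself is an even power of `g`
    have hc := even_pow_comm hg (n + 1)
    have hgg : g ^ (2 * (n + 1)) = g := by
      have : 2 * (n + 1) = orderOf g + 1 := by omega
      rw [this, pow_succ, pow_orderOf_eq_one, one_mul]
    rw [hgg] at hc
    apply hyy
    have : g * y * g⁻¹ = y := by
      rw [hc.eq]; group
    rw [← hg, this]

/-- PIECE R0B (IIB3). -/
theorem cent_R0B (h : Hyp t s K) (hB : StB K St) {y : G} (hy : InR K y) (h0 : St y = 0) {x : G}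
    (hx : x ∈ Subgroup.centralizer ({y} : Set G)) (hx1 : x ≠ 1) : InR K x ∧ St x = 0 := by
  have hxR : InR K x := inR_of_mem_cent h hy hx hx1
  refine ⟨hxR, ?_⟩
  rcases stB_vals h hB hxR with h0' | h1'
  · exact h0'
  · exfalso
    obtain ⟨u, hu, huc, hsc, hcard, hall⟩ := cent_B1 h hB hxR h1'
    have hyx : y ∈ Subgroup.centralizer ({x} : Set G) := by
      rw [Subgroup.mem_centralizer_singleton_iff] at hx ⊢
      exact hx.symm
    have := (hall y hyx hy.1).2
    rw [h0] at this
    exact absurd this (by norm_num)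

end Cfsg.Agent.Helper3.BSW
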