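import Mathlib
import Cfsg.Agent.Lib.Helper3.BSWDefs
import Cfsg.Agent.Lib.Helper4.BSWHSTRUCT
import Cfsg.Agent.Lib.Helper25.BSWHYPCONJ
import Cfsg.Agent.Lib.Helper25.BSWVALSB
import Cfsg.Agent.Lib.Helper10.BSWSYLCONJ
import Cfsg.Agent.Lib.Helper17.BSWR0B
import Cfsg.Agent.Lib.Helper17.BSWDVDQ

/-!
# S3282 piece PPOW (helper17 for helper3): in case B, `q = 2k-1` is a power of a prime `p`, `R0` is the set of
elements of order `p`, and every non-identity `p`-element lies in `R0`.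
-/

set_option autoImplicit false
set_option linter.unusedSectionVars false
set_option linter.unusedVariables false

namespace Cfsg.Agent.Helper3.BSW

universe u

variable {G : Type u} [Group G] [Fintype G] {t s : G} {K : Subgroup G} {St : G → ℤ}

namespace PPOW

/-- `R0` is not empty -/
theorem exists_R0 (h : Hyp t s K) (hB : StB K St) : ∃ y : G, InR K y ∧ St y = 0 := by
  have hk := (even_card_K h).2
  have hc := card_R0B h hB
  have hpos : 0 < (2 * Nat.card K - 1) ^ 2 - 1 := by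
    have h3 : 3 ≤ 2 * Nat.card K - 1 := by omega
    have : 3 ^ 2 ≤ (2 * Nat.card K - 1) ^ 2 := Nat.pow_le_pow_left h3 2
    omega
  rw [← hc] at hpos
  obtain ⟨⟨y, hy⟩⟩ := (Nat.card_pos_iff.1 hpos).1
  exact ⟨y, hy⟩

/-- conjugate elements have the same order -/
theorem orderOf_eq_of_isConj {a b : G} (hab : IsConj a b) : orderOf a = orderOf b := by
  obtain ⟨c, hc⟩ := isConj_iff.1 hab
  rw [← hc, HYPCONJ.orderOf_conj]

end PPOW

open PPOW DVDQ in
/-- PIECE PPOW (IIB5). -/
theorem exists_prime_B (h : Hyp t s K) (hB : StB K St)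
    (hcent : ∀ y : G, InR K y → St y = 0 →
      Nat.card (Subgroup.centralizer ({y} : Set G)) = 2 * Nat.card K - 1)
    (hcls : ∀ y y' : G, InR K y → St y = 0 → InR K y' → St y' = 0 → IsConj y y' ∨ IsConj y⁻¹ y') :
    ∃ p : ℕ, p.Prime ∧ (∃ a : ℕ, 2 * Nat.card K - 1 = p ^ a) ∧
      (∀ y : G, InR K y → St y = 0 → orderOf y = p) ∧
      ∀ x : G, x ≠ 1 → (∃ j : ℕ, orderOf x = p ^ j) → InR K x ∧ St x = 0 := by
  obtain ⟨hkev, hk2⟩ := even_card_K h
  have hG := card_G h hB
  obtain ⟨y0, hy0R, hy0S⟩ := exists_R0 h hB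
  have ho1 : orderOf y0 ≠ 1 := by
    intro h1
    exact hy0R.1 (orderOf_eq_one_iff.1 h1)
  obtain ⟨p, hp, hpd⟩ := Nat.exists_prime_and_dvd ho1
  have hp' : Fact p.Prime := ⟨hp⟩
  have hopos : orderOf y0 ≠ 0 := (orderOf_pos y0).ne'
  -- the element `x0` of order `p` in `C(y0)`
  set x0 : G := y0 ^ (orderOf y0 / p) with hx0
  have hx0o : orderOf x0 = p := orderOf_pow_orderOf_div hopos hpd
  have hx01 : x0 ≠ 1 := by
    intro h1
    rw [h1, orderOf_one] at hx0o
    exact hp.one_lt.ne hx0o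
  have hx0c : x0 ∈ Subgroup.centralizer ({y0} : Set G) := by
    rw [Subgroup.mem_centralizer_singleton_iff]
    exact ((Commute.refl y0).pow_left _).eq
  obtain ⟨hx0R, hx0S⟩ := cent_R0B h hB hy0R hy0S hx0c hx01
  -- all elements of `R0` have order `p`
  have hord : ∀ y : G, InR K y → St y = 0 → orderOf y = p := by
    intro y hyR hyS
    rcases hcls y x0 hyR hyS hx0R hx0S with hc | hc
    · rw [orderOf_eq_of_isConj hc, hx0o]
    · rw [← orderOf_inv, orderOf_eq_of_isConj hc, hx0o]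
  -- `C(y0)` is a `p`-group
  set Q : Subgroup G := Subgroup.centralizer ({y0} : Set G) with hQ
  have hQc : Nat.card Q = 2 * Nat.card K - 1 := hcent y0 hy0R hy0S
  have hQp : IsPGroup p Q := by
    intro x
    by_cases hx1 : x = 1
    · exact ⟨0, by rw [hx1, pow_zero, pow_one]⟩
    · refine ⟨1, ?_⟩
      have hx1' : (x : G) ≠ 1 := by
        intro h1
        apply hx1
        exact Subtype.ext h1
      obtain ⟨hR, hS⟩ := cent_R0B h hB hy0R hy0S x.2 hx1'
      have := hord _ hR hS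
      rw [pow_one]
      apply Subtype.ext
      rw [Subgroup.coe_pow, ← this, pow_orderOf_eq_one]
      rfl
  obtain ⟨a, ha⟩ := (IsPGroup.iff_card).1 hQp
  rw [hQc] at ha
  -- `p` divides `q` and not `2 k (k - 1)`
  have ha0 : a ≠ 0 := by
    rintro rfl
    rw [pow_zero] at ha
    omega
  have hpq : p ∣ 2 * Nat.card K - 1 := by
    rw [ha]
    exact dvd_pow_self p ha0
  have hidx : Q.index = 2 * Nat.card K * (Nat.card K - 1) := by
    apply index_eq (a := 2 * Nat.card K - 1) hQc (by omega)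
    rw [hG]; ring
  have hcop : ¬ p ∣ Q.index := by
    rw [hidx]
    intro hd
    have h2k : ¬ p ∣ 2 * Nat.card K := by
      intro hd2
      have : p ∣ 1 := by
        have h3 : 2 * Nat.card K = (2 * Nat.card K - 1) + 1 := by omega
        rw [h3] at hd2
        exact (Nat.dvd_add_right hpq).1 hd2
      exact hp.one_lt.ne' (Nat.dvd_one.1 this)
    rcases (Nat.Prime.dvd_mul hp).1 hd with hd | hd
    · exact h2k hd
    · have : p ∣ 1 := by
        have h3 : 2 * Nat.card K - 1 = 2 * (Nat.card K - 1) + 1 := by omega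
        rw [h3] at hpq
        exact (Nat.dvd_add_right (Dvd.dvd.mul_left hd 2)).1 hpq
      exact hp.one_lt.ne' (Nat.dvd_one.1 this)
  refine ⟨p, hp, ⟨a, ha⟩, hord, ?_⟩
  intro x hx1 hxp
  obtain ⟨g, hg⟩ := conj_mem_of_sylow (A := Q) hp hcop hxp
  have hg1 : g * x * g⁻¹ ≠ 1 := by
    intro h1
    apply hx1
    have : x = g⁻¹ * (g * x * g⁻¹) * g := by group
    rw [this, h1]; group
  obtain ⟨hR, hS⟩ := cent_R0B h hB hy0R hy0S hg hg1
  refine ⟨(inR_conj K g x).1 hR, ?_⟩
  rw [hB.conj] at hS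
  exact hS

end Cfsg.Agent.Helper3.BSW
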