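import Mathlib
import Cfsg.Prelude.Def_PLocal
import Cfsg.Prelude.Def_Solvable
import Cfsg.Agent.Lib.Helper17.BaumDefs
import Cfsg.Agent.Lib.Baum.BR
import Cfsg.Agent.Lib.Baum.TH
import Cfsg.Agent.Lib.Baum.TH3
import Cfsg.Agent.Lib.Baum.A
import Cfsg.Agent.Lib.Baum.SY
import Cfsg.Agent.Lib.Baum.P1
import Cfsg.Agent.Lib.Baum.P2
import Cfsg.Agent.Lib.Baum.P3
import Cfsg.Agent.Lib.Baum.H1
import Cfsg.Agent.Lib.Baum.H2
import Cfsg.Agent.Lib.Baum.H3
import Cfsg.Agent.Lib.Baum.H4
import Cfsg.Agent.Lib.Baum.X2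
import Cfsg.Agent.Lib.Baum.C7
import Cfsg.Agent.Lib.Baum.C8
import Cfsg.Agent.Lib.Baum.C10
import Cfsg.Agent.Lib.Baum.CI

/-!
# S2768 / S2769 / S2770: top-level assembly
-/

set_option autoImplicit false

namespace Cfsg.Agent.Helper17.Baum

universe u

variable {G : Type u} [Group G]

theorem rankOne_psl2 (F : Type) [Field F] [Fintype F] {p : ℕ} [Fact p.Prime] (n : ℕ) (hn : 1 ≤ n)
    (hF : Fintype.card F = p ^ n) :
    RankOne p (p ^ n) (Matrix.ProjectiveSpecialLinearGroup (Fin 2) F) where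
  q1 := Nat.one_lt_pow (by omega) (Fact.out : p.Prime).one_lt
  card_syl P := (psl2_sylow F n hF P).1
  comm_syl P := (psl2_sylow F n hF P).2.1
  exp_syl P := (psl2_sylow F n hF P).2.2
  core N hN hp := psl2_core F n hn hF N hN hp
  ti P R hRP hR := psl2_ti F n hn hF P R hRP hR

theorem hypR_of_rankOne [Finite G] {p q : ℕ} [Fact p.Prime] (S : Sylow p G)
    (hE₁ : Subgroup.centralizer (Cfsg.pCore p G : Set G) ≤ Cfsg.pCore p G)
    (hE₂ : ∃! M : Subgroup G, IsCoatom M ∧ (S : Subgroup G) ≤ M) (K : Subgroup G) [K.Normal]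
    {L : Type} [Group L] (hL : RankOne p q L) (e : G ⧸ K ≃* L) :
    ∃ M : Subgroup G, HypR p q (S : Subgroup G) (Cfsg.pCore p G) M := by
  obtain ⟨M, ⟨hMco, hSM⟩, hun⟩ := hE₂
  have huniq : ∀ M' : Subgroup G, IsCoatom M' → (S : Subgroup G) ≤ M' → M' = M :=
    fun M' h1 h2 => hun M' ⟨h1, h2⟩
  let π : G →* L := e.toMonoidHom.comp (QuotientGroup.mk' K)
  have hπ : Function.Surjective π := e.surjective.comp (QuotientGroup.mk'_surjective K)
  obtain ⟨-, hk⟩ := hb_ker S hMco hSM huniq hL π hπ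
  obtain ⟨hcard, hexp, hcom⟩ := hb_card S hL π hπ hk
  have hnor := hb_nor S hSM huniq hL π hπ hk
  have hgen := hb_gen S hMco hSM huniq hL.q1 hcard
  have hQn : (Cfsg.pCore p G).Normal := Subgroup.sSup_normal _ (fun _ h => h.1)
  have hQp : IsPGroup p (Cfsg.pCore p G) := Sylow.sSup_of_normal _ (fun _ h => h.2) (fun _ h => h.1)
  refine ⟨M, ?_⟩
  exact
    { syl := ⟨S, rfl⟩
      pgS := S.isPGroup'
      Qn := hQn
      pgQ := hQp
      QS := by
        rw [← hk]
        exact inf_le_right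
      Qmax := fun N hN hp => le_sSup ⟨hN, hp⟩
      cQ := hE₁
      Mco := hMco
      SM := hSM
      Muniq := huniq
      card := hcard
      q1 := hL.q1
      expSQ := hexp
      comSQ := hcom
      nor := hnor
      gen := hgen }

/-- the main theorem in reduced form. -/
theorem main_hypR [Finite G] {p q : ℕ} [Fact p.Prime] {S Q M : Subgroup G} (h : HypR p q S Q M) :
    ZZ S ≤ Subgroup.center G ∨
      (Subgroup.normalClosure (BB S : Set G) ⊓ S = BB S ∧
        ((BB S).Normal ∨ (⁅YY S, S⁆ ⊓ ZZ S ≤ Subgroup.center G ∧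
          Cfsg.powerClosure p 1 (ZZ S) ≤ Subgroup.center G))) := by
  by_cases hZ : ZZ S ≤ Subgroup.center G
  · exact Or.inl hZ
  · right
    by_cases hI : ∀ A ∈ AbMax S, A ≤ Q
    · obtain ⟨h1, h2⟩ := caseI h hI
      refine ⟨h1, Or.inl ?_⟩
      rcases h2 with h2 | h2
      · exact h2
      · exact absurd h2 hZ
    · push Not at hI
      obtain ⟨V, hV⟩ := exists_hypV h hZ hI
      exact ⟨core_2768 h hV hI, Or.inr ⟨core_2769 h hV hI, core_2770 h hV hI⟩⟩

/-- a subgroup of the centre is normal. -/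
theorem normal_of_le_center {N : Subgroup G} (hN : N ≤ Subgroup.center G) : N.Normal := by
  constructor
  intro n hn g
  have := (Subgroup.mem_center_iff.1 (hN hn)) g
  -- `g * n = n * g`
  have e : g * n * g⁻¹ = n := by
    rw [this, mul_inv_cancel_right]
  rw [e]
  exact hn

theorem powerClosure_le_self (p k : ℕ) (H : Subgroup G) : Cfsg.powerClosure p k H ≤ H := by
  unfold Cfsg.powerClosure
  rw [Subgroup.closure_le]
  rintro _ ⟨x, hx, rfl⟩
  exact H.pow_mem hx _

section frozen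
variable [Finite G] {p : ℕ} [Fact p.Prime] (S : Sylow p G)
  (hE₁ : Subgroup.centralizer (Cfsg.pCore p G : Set G) ≤ Cfsg.pCore p G)
  (hE₂ : ∃! M : Subgroup G, IsCoatom M ∧ (S : Subgroup G) ≤ M) (K : Subgroup G) [K.Normal]
  (F : Type) [Field F] [Fintype F] (n : ℕ) (hn : 1 ≤ n) (hF : Fintype.card F = p ^ n)
  (hE₃ : Nonempty (G ⧸ K ≃* Matrix.ProjectiveSpecialLinearGroup (Fin 2) F))
include hE₁ hE₂ hn hF hE₃

theorem frozen_main :
    ZZ (S : Subgroup G) ≤ Subgroup.center G ∨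
      (Subgroup.normalClosure (BB (S : Subgroup G) : Set G) ⊓ (S : Subgroup G) = BB (S : Subgroup G) ∧
        ((BB (S : Subgroup G)).Normal ∨
          (⁅YY (S : Subgroup G), (S : Subgroup G)⁆ ⊓ ZZ (S : Subgroup G) ≤ Subgroup.center G ∧
          Cfsg.powerClosure p 1 (ZZ (S : Subgroup G)) ≤ Subgroup.center G))) := by
  obtain ⟨e⟩ := hE₃
  obtain ⟨M, hM⟩ := hypR_of_rankOne S hE₁ hE₂ K (rankOne_psl2 F n hn hF) e
  exact main_hypR hM

theorem frozen_2768
    (hZ : ¬ ((S : Subgroup G) ⊓ Subgroup.centralizer ((S : Subgroup G) : Set G)).Normal) :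
    ∃ P : Sylow p ↥(Subgroup.normalClosure (((S : Subgroup G) ⊓ Subgroup.centralizer
      (Cfsg.centerThompsonAOf (S : Subgroup G) : Set G)) : Set G)),
      (P : Subgroup ↥(Subgroup.normalClosure (((S : Subgroup G) ⊓ Subgroup.centralizer
        (Cfsg.centerThompsonAOf (S : Subgroup G) : Set G)) : Set G))) =
      (((S : Subgroup G) ⊓ Subgroup.centralizer (Cfsg.centerThompsonAOf (S : Subgroup G) : Set G))).subgroupOf
        (Subgroup.normalClosure (((S : Subgroup G) ⊓ Subgroup.centralizer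
          (Cfsg.centerThompsonAOf (S : Subgroup G) : Set G)) : Set G)) := by
  rw [bridge_YY]
  change ∃ P : Sylow p ↥(Subgroup.normalClosure (BB (S : Subgroup G) : Set G)),
    (P : Subgroup ↥(Subgroup.normalClosure (BB (S : Subgroup G) : Set G))) =
      (BB (S : Subgroup G)).subgroupOf (Subgroup.normalClosure (BB (S : Subgroup G) : Set G))
  rcases frozen_main S hE₁ hE₂ K F n hn hF hE₃ with h | ⟨h, -⟩
  · exact absurd (normal_of_le_center h) hZ
  · obtain ⟨P, hP⟩ := sylow_inf_normal S (Subgroup.normalClosure (BB (S : Subgroup G) : Set G))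
    refine ⟨P, ?_⟩
    rw [hP]
    ext x
    rw [Subgroup.mem_subgroupOf, Subgroup.mem_subgroupOf]
    constructor
    · intro hx
      have hx' : (x : G) ∈ Subgroup.normalClosure (BB (S : Subgroup G) : Set G) ⊓ (S : Subgroup G) :=
        ⟨x.2, hx⟩
      rw [h] at hx'
      exact hx'
    · intro hx
      exact (inf_le_left : BB (S : Subgroup G) ≤ (S : Subgroup G)) hx

theorem frozen_2769 :
    (⁅(Cfsg.centerThompsonAOf (S : Subgroup G)), (S : Subgroup G)⁆ ⊓
      ((S : Subgroup G) ⊓ Subgroup.centralizer ((S : Subgroup G) : Set G))).Normal ∨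
    (((S : Subgroup G) ⊓ Subgroup.centralizer
      (Cfsg.centerThompsonAOf (S : Subgroup G) : Set G))).Normal := by
  rw [bridge_YY]
  rcases frozen_main S hE₁ hE₂ K F n hn hF hE₃ with h | ⟨-, h | ⟨h, -⟩⟩
  · exact Or.inl (normal_of_le_center (inf_le_right.trans h))
  · exact Or.inr h
  · exact Or.inl (normal_of_le_center h)

theorem frozen_2770 :
    (Cfsg.powerClosure p 1 ((S : Subgroup G) ⊓
      Subgroup.centralizer ((S : Subgroup G) : Set G))).Normal ∨
    (((S : Subgroup G) ⊓ Subgroup.centralizer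
      (Cfsg.centerThompsonAOf (S : Subgroup G) : Set G))).Normal := by
  rw [bridge_YY]
  rcases frozen_main S hE₁ hE₂ K F n hn hF hE₃ with h | ⟨-, h | ⟨-, h⟩⟩
  · exact Or.inl (normal_of_le_center ((powerClosure_le_self p 1 _).trans h))
  · exact Or.inr h
  · exact Or.inl (normal_of_le_center h)

end frozen

end Cfsg.Agent.Helper17.Baum
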