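import Mathlib

/-!
# A finite-group lemma for S5110 (helper17, piece PG for helper3)
-/

set_option autoImplicit false

namespace Cfsg.Agent.Helper17.BcgloPG

/-- a subgroup all of whose elements conjugate `H` into itself normalizes `H` -/
theorem le_normalizer_of_conj_mem {G : Type*} [Group G] (A H : Subgroup G)
    (h : ∀ a ∈ A, ∀ y ∈ H, a * y * a⁻¹ ∈ H) : A ≤ Subgroup.normalizer (H : Set G) := by
  intro a ha
  rw [Subgroup.mem_normalizer_iff]
  intro y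
  refine ⟨fun hy => h a ha y hy, fun hy => ?_⟩
  have := h a⁻¹ (A.inv_mem ha) _ hy
  have e : a⁻¹ * (a * y * a⁻¹) * a⁻¹⁻¹ = y := by group
  rwa [e] at this

/-- in a finite `p`-group, a subgroup whose conjugates generate the whole group is the whole
group -/
theorem eq_top_of_conj_closure {L : Type*} [Group L] [Finite L] {p : ℕ} [Fact p.Prime]
    (hL : IsPGroup p L) (X : Subgroup L)
    (h : Subgroup.closure {g : L | ∃ l : L, ∃ x ∈ X, g = l * x * l⁻¹} = ⊤) : X = ⊤ := by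
  by_contra hX
  have : Group.IsNilpotent L := hL.isNilpotent
  obtain ⟨M, hM, hXM⟩ := (eq_top_or_exists_le_coatom X).resolve_left hX
  have hMn : M.Normal := Subgroup.NormalizerCondition.normal_of_coatom M Group.normalizerCondition_of_isNilpotent hM
  have : Subgroup.closure {g : L | ∃ l : L, ∃ x ∈ X, g = l * x * l⁻¹} ≤ M := by
    rw [Subgroup.closure_le]
    rintro g ⟨l, x, hx, rfl⟩
    exact hMn.conj_mem x (hXM hx) l
  rw [h, top_le_iff] at this
  exact hM.1 this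

theorem le_of_normal_closure_pgroup {G : Type*} [Group G] {p : ℕ} [Fact p.Prime]
    (Γ K T D : Subgroup G) [Finite Γ] (hKΓ : K ≤ Γ)
    (hKn : ∀ γ ∈ Γ, ∀ k ∈ K, γ * k * γ⁻¹ ∈ K) (hKp : IsPGroup p K) (hDΓ : D ≤ Γ)
    (hD : K ⊓ T ≤ D) (hnorm : ∀ d ∈ D, ∀ x ∈ K ⊓ T, d * x * d⁻¹ ∈ K ⊓ T)
    (hgen : ∀ L : Subgroup G, L ≤ K → K ⊓ T ≤ L → (∀ γ ∈ Γ, ∀ l ∈ L, γ * l * γ⁻¹ ∈ L) →
      Γ ≤ D ⊔ L) : Γ ≤ D := by
  set X : Subgroup G := K ⊓ T with hXdef
  have hXK : X ≤ K := inf_le_left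
  -- the Γ-closure of X
  set L : Subgroup G := Subgroup.closure {g : G | ∃ γ ∈ Γ, ∃ x ∈ X, g = γ * x * γ⁻¹} with hLdef
  have hLK : L ≤ K := by
    rw [hLdef, Subgroup.closure_le]
    rintro g ⟨γ, hγ, x, hx, rfl⟩
    exact hKn γ hγ x (hXK hx)
  have hXL : X ≤ L := by
    intro x hx
    apply Subgroup.subset_closure
    exact ⟨1, Γ.one_mem, x, hx, by simp⟩
  have hLinv : ∀ γ ∈ Γ, ∀ l ∈ L, γ * l * γ⁻¹ ∈ L := by
    intro γ hγ l hl
    have hmap : L.map (MulAut.conj γ).toMonoidHom ≤ L := by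
      rw [hLdef, MonoidHom.map_closure, Subgroup.closure_le]
      rintro _ ⟨g, ⟨γ', hγ', x, hx, rfl⟩, rfl⟩
      apply Subgroup.subset_closure
      refine ⟨γ * γ', Γ.mul_mem hγ hγ', x, hx, ?_⟩
      simp only [MulEquiv.coe_toMonoidHom, MulAut.conj_apply, mul_inv_rev]
      group
    have := hmap (Subgroup.mem_map_of_mem _ hl)
    simpa [MulAut.conj_apply] using this
  have hΓ : Γ ≤ D ⊔ L := hgen L hLK hXL hLinv
  -- the L-closure of X
  set L₀ : Subgroup G := Subgroup.closure {g : G | ∃ l ∈ L, ∃ x ∈ X, g = l * x * l⁻¹} with hL₀def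
  have hXL₀ : X ≤ L₀ := by
    intro x hx
    apply Subgroup.subset_closure
    exact ⟨1, L.one_mem, x, hx, by simp⟩
  have hconj : ∀ (A : Subgroup G),
      (∀ a ∈ A, ∀ l ∈ L, ∀ x ∈ X, ∃ l' ∈ L, ∃ x' ∈ X, a * (l * x * l⁻¹) * a⁻¹ = l' * x' * l'⁻¹) →
      A ≤ Subgroup.normalizer (L₀ : Set G) := by
    intro A hA
    apply le_normalizer_of_conj_mem
    intro a ha y hy
    have hmap : L₀.map (MulAut.conj a).toMonoidHom ≤ L₀ := by
      rw [hL₀def, MonoidHom.map_closure, Subgroup.closure_le]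
      rintro _ ⟨g, ⟨l, hl, x, hx, rfl⟩, rfl⟩
      apply Subgroup.subset_closure
      obtain ⟨l', hl', x', hx', e⟩ := hA a ha l hl x hx
      refine ⟨l', hl', x', hx', ?_⟩
      simp only [MulEquiv.coe_toMonoidHom, MulAut.conj_apply]
      exact e
    have := hmap (Subgroup.mem_map_of_mem _ hy)
    simpa [MulAut.conj_apply] using this
  have hDn : D ≤ Subgroup.normalizer (L₀ : Set G) := by
    apply hconj
    intro d hd l hl x hx
    refine ⟨d * l * d⁻¹, hLinv d (hDΓ hd) l hl, d * x * d⁻¹, hnorm d hd x hx, ?_⟩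
    group
  have hLn : L ≤ Subgroup.normalizer (L₀ : Set G) := by
    apply hconj
    intro a ha l hl x hx
    refine ⟨a * l, L.mul_mem ha hl, x, hx, ?_⟩
    group
  have hΓn : Γ ≤ Subgroup.normalizer (L₀ : Set G) := hΓ.trans (sup_le hDn hLn)
  have hLL₀ : L ≤ L₀ := by
    rw [hLdef, Subgroup.closure_le]
    rintro g ⟨γ, hγ, x, hx, rfl⟩
    exact ((Subgroup.mem_normalizer_iff.1 (hΓn hγ)) x).1 (hXL₀ hx)
  -- now work inside `L`
  have : Finite L := Finite.of_injective (Subgroup.inclusion (hLK.trans hKΓ))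
    (Subgroup.inclusion_injective _)
  have hLp : IsPGroup p L := hKp.to_le hLK
  have htop : X.subgroupOf L = ⊤ := by
    apply eq_top_of_conj_closure hLp
    rw [eq_top_iff]
    rintro ⟨y, hy⟩ -
    have hy₀ : y ∈ L₀ := hLL₀ hy
    -- L₀ is the image of the closure inside L
    have hle : L₀ ≤ (Subgroup.closure {g : L | ∃ l : L, ∃ x ∈ X.subgroupOf L,
        g = l * x * l⁻¹}).map L.subtype := by
      rw [hL₀def, Subgroup.closure_le]
      rintro g ⟨l, hl, x, hx, rfl⟩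
      refine ⟨⟨l, hl⟩ * ⟨x, hXL hx⟩ * ⟨l, hl⟩⁻¹, ?_, rfl⟩
      apply Subgroup.subset_closure
      exact ⟨⟨l, hl⟩, ⟨x, hXL hx⟩, by rw [Subgroup.mem_subgroupOf]; exact hx, rfl⟩
    obtain ⟨z, hz, hzy⟩ := hle hy₀
    have : z = ⟨y, hy⟩ := Subtype.ext hzy
    rwa [this] at hz
  have hLX : L ≤ X := by
    rw [Subgroup.subgroupOf_eq_top] at htop
    exact htop
  calc Γ ≤ D ⊔ L := hΓ
    _ ≤ D := sup_le le_rfl (hLX.trans hD)

end Cfsg.Agent.Helper17.BcgloPG
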