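import Mathlib
import Cfsg.Agent.Lib.Helper26.CG3Defs
import Cfsg.Agent.Lib.Helper26.CG3Tbl
import Cfsg.Agent.Lib.Helper2.CG3T0A
import Cfsg.Agent.Lib.Helper2.CG3T0B

/-!
# S3412, piece T1 (helper17): `code_t_ne`, `code_cct`, `code_x13`, `code_vals`.
-/

set_option autoImplicit false

namespace Cfsg.Agent.Helper26.CG3

/-- `T0` is a key of the table -/
theorem t1_T0_mem : T0 ∈ LT := by decide +kernel

theorem t1_T0_ne : T0 ≠ I0 := by decide

theorem t1_X0_ne : X0 ≠ I0 := by decide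

theorem t1_len_T0 : (look T0).length = 48 := by decide +kernel

theorem t1_len_X0 : (look X0).length = 13 := by decide +kernel

/-- the possible centralizer orders in `C(T0)` -/
theorem t1_vals : ∀ n ∈ LT, n ≠ I0 → n ≠ T0 →
    (look n).length = 48 ∨ (look n).length = 54 ∨ (look n).length = 6 ∨ (look n).length = 8 := by
  decide +kernel

/-- T1 -/
theorem code_t_ne : t0 ≠ e0 := by
  intro h
  have := congrArg Subtype.val h
  exact t1_T0_ne this

/-- T1 -/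
theorem code_cct : cR Rc t0 = 48 := by
  rw [cR_look t0 (Or.inl t1_T0_mem) t1_T0_ne]
  exact t1_len_T0

/-- T1 -/
theorem code_x13 : ∃ x : Code, cR Rc x = 13 := by
  refine ⟨⟨X0, X0_ok⟩, ?_⟩
  rw [cR_look ⟨X0, X0_ok⟩ (Or.inr rfl) t1_X0_ne]
  exact t1_len_X0

/-- T1 -/
theorem code_vals : ∀ g : Code, Rc t0 g → g ≠ e0 → g ≠ t0 →
    cR Rc g = 48 ∨ cR Rc g = 54 ∨ cR Rc g = 6 ∨ cR Rc g = 8 := by
  intro g hg h1 h2
  have hmem : g.1 ∈ LT := (Rc_t0_iff g).mp hg
  have hne1 : g.1 ≠ I0 := fun h => h1 (Subtype.ext h)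
  have hne2 : g.1 ≠ T0 := fun h => h2 (Subtype.ext h)
  rw [cR_look g (Or.inl hmem) hne1]
  exact t1_vals g.1 hmem hne1 hne2

end Cfsg.Agent.Helper26.CG3
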