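import Mathlib
import Cfsg.Agent.Lib.Helper26.CG3Defs
import Cfsg.Agent.Lib.Helper26.CG3Tbl
import Cfsg.Agent.Lib.Helper2.CG3T0A
import Cfsg.Agent.Lib.Helper2.CG3T0B

/-!
# S3412, piece T2 (helper17): `code_nU`, `code_nS`, `code_nY` (the counts 8 / 13 / 18 in `C(t0)`).
-/

set_option autoImplicit false

namespace Cfsg.Agent.Helper26.CG3

theorem t2_nodup : LT.Nodup := by decide +kernel

theorem t2_valid : ∀ n ∈ LT, n < 19683 ∧ cdet n = 1 := by decide +kernel

theorem t2_len_I0 : (look I0).length = 0 := by decide +kernel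

/-- for a code in `C(t0)` the centralizer order is the length of the table entry, unless it is the identity -/
theorem t2_cR_iff (g : Code) (hg : g.1 ∈ LT) (k : ℕ) (hk0 : k ≠ 0) (hk : k ≠ 5616) :
    cR Rc g = k ↔ (look g.1).length = k := by
  by_cases h1 : g.1 = I0
  · have hg0 : g = e0 := Subtype.ext h1
    rw [hg0, cR_e0]
    have : (look e0.1).length = 0 := t2_len_I0
    rw [this]
    constructor
    · intro h
      exact absurd h.symm hk
    · intro h
      exact absurd h.symm hk0
  · rw [cR_look g (Or.inl hg) h1]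

/-- the general count -/
theorem t2_count (k : ℕ) (hk0 : k ≠ 0) (hk : k ≠ 5616) :
    Nat.card {g : Code // Rc t0 g ∧ cR Rc g = k} =
      (LT.filter (fun n => decide ((look n).length = k))).length := by
  rw [← card_code_mem LT t2_nodup t2_valid (fun n => (look n).length = k)]
  apply Nat.card_congr
  refine Equiv.subtypeEquivRight ?_
  intro g
  constructor
  · rintro ⟨h1, h2⟩
    have hmem : g.1 ∈ LT := (Rc_t0_iff g).mp h1
    exact ⟨hmem, (t2_cR_iff g hmem k hk0 hk).mp h2⟩
  · rintro ⟨h1, h2⟩
    exact ⟨(Rc_t0_iff g).mpr h1, (t2_cR_iff g h1 k hk0 hk).mpr h2⟩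

theorem t2_filter54 : (LT.filter (fun n => decide ((look n).length = 54))).length = 8 := by
  decide +kernel

theorem t2_filter48 : (LT.filter (fun n => decide ((look n).length = 48))).length = 13 := by
  decide +kernel

theorem t2_filter8 : (LT.filter (fun n => decide ((look n).length = 8))).length = 18 := by
  decide +kernel

/-- T2 -/
theorem code_nU : Nat.card {g : Code // Rc t0 g ∧ cR Rc g = 54} = 8 := by
  rw [t2_count 54 (by norm_num) (by norm_num)]
  exact t2_filter54

/-- T2 -/
theorem code_nS : Nat.card {g : Code // Rc t0 g ∧ cR Rc g = 48} = 13 := by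
  rw [t2_count 48 (by norm_num) (by norm_num)]
  exact t2_filter48

/-- T2 -/
theorem code_nY : Nat.card {g : Code // Rc t0 g ∧ cR Rc g = 8} = 18 := by
  rw [t2_count 8 (by norm_num) (by norm_num)]
  exact t2_filter8

end Cfsg.Agent.Helper26.CG3
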