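import Mathlib
import Cfsg.Agent.Lib.Helper17.CayleyCount

/-!
# Norms `σ e * e` in a commutative local algebra with involution (helper17)
-/

set_option autoImplicit false
set_option linter.unusedSectionVars false

namespace Cfsg.Agent.Helper17.Cayley

variable {F A : Type*} [Field F] [CommRing A] [Algebra F A] [Nontrivial A] {σ : A →+* A}

namespace IsLocInv

variable (h : IsLocInv F σ)
include h

/-- a scalar norm is a square -/
theorem isSquare_of_norm_eq {e : A} {ν : F} (he : σ e * e = algebraMap F A ν) : IsSquare ν := by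
  obtain ⟨c, hc⟩ := h.loc e
  rw [← mem_nilradical] at hc
  have h1 := map_mem_nilradical σ hc
  rw [map_sub, h.fix] at h1
  have h2 : algebraMap F A (ν - c ^ 2) ∈ nilradical A := by
    have := Ideal.add_mem _ (Ideal.mul_mem_right e _ h1) (Ideal.mul_mem_left _ (algebraMap F A c) hc)
    have e' : (σ e - algebraMap F A c) * e + algebraMap F A c * (e - algebraMap F A c) =
        algebraMap F A (ν - c ^ 2) := by
      rw [map_sub, map_pow, ← he]
      ring
    rwa [e'] at this
  have h3 := scalar_eq_zero h2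
  exact ⟨c, by linear_combination h3⟩

/-- squaring is injective on unipotent elements -/
theorem sq_injective {x y : A} (hx : x - 1 ∈ nilradical A) (hy : y - 1 ∈ nilradical A)
    (hxy : x ^ 2 = y ^ 2) : x = y := by
  have hu : IsUnit (x + y) := by
    have hu2 : IsUnit (algebraMap F A 2) := (IsUnit.mk0 (2 : F) h.two).map (algebraMap F A)
    have hn : IsNilpotent ((x - 1) + (y - 1)) := mem_nilradical.1 (Ideal.add_mem _ hx hy)
    have := hn.isUnit_add_left_of_commute hu2 (Commute.all _ _)
    have e : algebraMap F A 2 + ((x - 1) + (y - 1)) = x + y := by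
      rw [map_ofNat]
      ring
    rwa [e] at this
  have h0 : (x - y) * (x + y) = 0 := by linear_combination hxy
  have := hu.mul_left_injective (h0.trans (zero_mul (x + y)).symm)
  exact sub_eq_zero.1 this

/-- self-adjoint unipotent elements have self-adjoint unipotent square roots -/
theorem exists_sqrt [Finite A] {t : A} (ht : σ t = t) (ht1 : t - 1 ∈ nilradical A) :
    ∃ x : A, σ x = x ∧ x ^ 2 = t := by
  let P := {x : A // σ x = x ∧ x - 1 ∈ nilradical A}
  let sq : P → P := fun x => ⟨x.1 ^ 2, by rw [map_pow, x.2.1], by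
    have e : x.1 ^ 2 - 1 = (x.1 - 1) * (x.1 + 1) := by ring
    rw [e]
    exact Ideal.mul_mem_right _ _ x.2.2⟩
  have hinj : Function.Injective sq := by
    intro x y hxy
    apply Subtype.ext
    exact h.sq_injective x.2.2 y.2.2 (congrArg Subtype.val hxy)
  have hsurj := Finite.surjective_of_injective hinj
  obtain ⟨x, hx⟩ := hsurj ⟨t, ht, ht1⟩
  exact ⟨x.1, x.2.1, congrArg Subtype.val hx⟩

/-- a self-adjoint element with nonzero square residue is a norm -/
theorem exists_norm_eq [Finite A] {t : A} (ht : σ t = t) {s : F} (hs : s ≠ 0)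
    (hts : t - algebraMap F A (s ^ 2) ∈ nilradical A) : ∃ e : A, σ e * e = t := by
  have h1 : σ (t * algebraMap F A (s ^ 2)⁻¹) = t * algebraMap F A (s ^ 2)⁻¹ := by
    rw [map_mul, ht, h.fix]
  have h2 : t * algebraMap F A (s ^ 2)⁻¹ - 1 ∈ nilradical A := by
    have e : t * algebraMap F A (s ^ 2)⁻¹ - 1 =
        (t - algebraMap F A (s ^ 2)) * algebraMap F A (s ^ 2)⁻¹ := by
      rw [sub_mul, ← map_mul, mul_inv_cancel₀ (pow_ne_zero 2 hs), map_one]
    rw [e]
    exact Ideal.mul_mem_right _ _ hts
  obtain ⟨x, hx1, hx2⟩ := h.exists_sqrt h1 h2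
  refine ⟨algebraMap F A s * x, ?_⟩
  rw [map_mul, h.fix, hx1]
  have e : algebraMap F A s * x * (algebraMap F A s * x) = algebraMap F A (s ^ 2) * x ^ 2 := by
    rw [map_pow]
    ring
  rw [e, hx2, mul_comm t, ← mul_assoc, ← map_mul, mul_inv_cancel₀ (pow_ne_zero 2 hs), map_one,
    one_mul]

/-- a self-adjoint non-nilpotent element is a norm, or a fixed non-square times a norm -/
theorem exists_norm_or [Finite A] [Fintype F] {a : A} (ha : σ a = a)
    (hunit : a ∉ nilradical A) {ν : F} (hν : ¬ IsSquare ν) :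
    (∃ e : A, a = σ e * e) ∨ (∃ e : A, a = σ e * e * algebraMap F A ν) := by
  classical
  obtain ⟨c, hc⟩ := h.loc a
  rw [← mem_nilradical] at hc
  have hc0 : c ≠ 0 := by
    rintro rfl
    rw [map_zero, sub_zero] at hc
    exact hunit hc
  have hν0 : ν ≠ 0 := by
    rintro rfl
    exact hν ⟨0, by simp⟩
  have hchar : ringChar F ≠ 2 := by
    intro h2
    apply h.two
    have := ringChar.spec F 2 |>.2 (by rw [h2])
    exact_mod_cast this
  by_cases hsq : IsSquare c
  · left
    obtain ⟨s, hs⟩ := hsq
    have hs0 : s ≠ 0 := by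
      rintro rfl
      exact hc0 (by rw [hs, mul_zero])
    obtain ⟨e, he⟩ := h.exists_norm_eq ha hs0 (by rwa [pow_two, ← hs])
    exact ⟨e, he.symm⟩
  · right
    -- `c / ν` is a square
    have hq : IsSquare (c * ν⁻¹) := by
      rw [← quadraticChar_one_iff_isSquare (mul_ne_zero hc0 (inv_ne_zero hν0)), map_mul,
        quadraticChar_neg_one_iff_not_isSquare.2 hsq]
      have : quadraticChar F ν⁻¹ = -1 := by
        rw [quadraticChar_neg_one_iff_not_isSquare]
        intro h1
        apply hν
        have := h1.inv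
        rwa [inv_inv] at this
      rw [this]
      norm_num
    obtain ⟨s, hs⟩ := hq
    have hs0 : s ≠ 0 := by
      rintro rfl
      rw [mul_zero] at hs
      exact (mul_ne_zero hc0 (inv_ne_zero hν0)) hs
    have h1 : σ (a * algebraMap F A ν⁻¹) = a * algebraMap F A ν⁻¹ := by
      rw [map_mul, ha, h.fix]
    have h2 : a * algebraMap F A ν⁻¹ - algebraMap F A (s ^ 2) ∈ nilradical A := by
      have e : a * algebraMap F A ν⁻¹ - algebraMap F A (s ^ 2) =
          (a - algebraMap F A c) * algebraMap F A ν⁻¹ := by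
        rw [pow_two, ← hs, map_mul]
        ring
      rw [e]
      exact Ideal.mul_mem_right _ _ hc
    obtain ⟨e, he⟩ := h.exists_norm_eq h1 hs0 h2
    refine ⟨e, ?_⟩
    rw [he, mul_assoc, ← map_mul, inv_mul_cancel₀ hν0, map_one, mul_one]

end IsLocInv

end Cfsg.Agent.Helper17.Cayley
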