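import Mathlib
import Cfsg.Prelude.Def_Classical
import Cfsg.Prelude.Def_GeometricClasses
import Cfsg.Prelude.Def_KGroupFacts
import Cfsg.Prelude.Def_LieTypeDatum

/-!
# The conformal orthogonal group acting on `PΩ(Q)` by conjugation (helper17)

`Phi Q : GO(Q) →* MulAut (PΩ(Q))` and the identification of the subgroups of `MulAut (PΩ(Q))`
generated by the automorphisms induced by similarities / isometries / special isometries / inner
automorphisms with the images under `Phi` of the corresponding subgroups of `GO(Q)`.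
-/

set_option autoImplicit false

namespace Cfsg.Agent.Helper17.ConfAut
open Cfsg

variable {F : Type*} [Field F] {ι : Type} [Fintype ι] [DecidableEq ι] (Q : (ι → F) → F)

/-- the conformal group as a type -/
abbrev GO : Subgroup (GL ι F) := Geo.quadSimilarityGroup (F := F) Q

theorem mem_isometryGroup_iff (g : GL ι F) :
    g ∈ Cfsg.isometryGroup F Q ↔ ∀ v, Q ((g : Matrix ι ι F).mulVec v) = Q v :=
  ⟨fun h v => h v v, fun h u _ => h u⟩

theorem isometryGroup_le_GO : Cfsg.isometryGroup F Q ≤ GO Q := by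
  intro g hg
  exact ⟨1, fun v => by rw [(mem_isometryGroup_iff Q g).1 hg v, Units.val_one, one_mul]⟩

theorem conj_mem_isometryGroup {g : GL ι F} (hg : g ∈ GO Q) {s : GL ι F}
    (hs : s ∈ Cfsg.isometryGroup F Q) : g * s * g⁻¹ ∈ Cfsg.isometryGroup F Q := by
  rw [mem_isometryGroup_iff] at hs ⊢
  obtain ⟨c, hc⟩ := hg
  intro v
  have h1 : ((g * s * g⁻¹ : GL ι F) : Matrix ι ι F).mulVec v
      = (g : Matrix ι ι F).mulVec ((s : Matrix ι ι F).mulVec
        (((g⁻¹ : GL ι F) : Matrix ι ι F).mulVec v)) := by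
    rw [Units.val_mul, Units.val_mul, Matrix.mulVec_mulVec, Matrix.mulVec_mulVec, mul_assoc]
  rw [h1, hc, hs]
  have h2 := hc (((g⁻¹ : GL ι F) : Matrix ι ι F).mulVec v)
  rw [Matrix.mulVec_mulVec, ← Units.val_mul, mul_inv_cancel, Units.val_one, Matrix.one_mulVec] at h2
  exact h2.symm

/-- conjugation by a similarity, as an automorphism of the isometry group -/
def conjO (g : ↥(GO Q)) : ↥(Cfsg.isometryGroup F Q) ≃* ↥(Cfsg.isometryGroup F Q) where
  toFun s := ⟨(g : GL ι F) * s * (g : GL ι F)⁻¹, conj_mem_isometryGroup Q g.2 s.2⟩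
  invFun s := ⟨(g : GL ι F)⁻¹ * s * (g : GL ι F), by
    have := conj_mem_isometryGroup Q ((GO Q).inv_mem g.2) s.2
    rwa [inv_inv] at this⟩
  left_inv s := by
    apply Subtype.ext
    show (g : GL ι F)⁻¹ * ((g : GL ι F) * s * (g : GL ι F)⁻¹) * (g : GL ι F) = s
    group
  right_inv s := by
    apply Subtype.ext
    show (g : GL ι F) * ((g : GL ι F)⁻¹ * s * (g : GL ι F)) * (g : GL ι F)⁻¹ = s
    group
  map_mul' s t := by
    apply Subtype.ext
    show (g : GL ι F) * ((s : GL ι F) * t) * (g : GL ι F)⁻¹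
      = ((g : GL ι F) * s * (g : GL ι F)⁻¹) * ((g : GL ι F) * t * (g : GL ι F)⁻¹)
    group

theorem conjO_coe (g : ↥(GO Q)) (s : ↥(Cfsg.isometryGroup F Q)) :
    ((conjO Q g s : ↥(Cfsg.isometryGroup F Q)) : GL ι F) = (g : GL ι F) * s * (g : GL ι F)⁻¹ := rfl

/-- conjugation by similarities, as a homomorphism into the automorphism group of `O(Q)` -/
def conjOHom : ↥(GO Q) →* MulAut ↥(Cfsg.isometryGroup F Q) where
  toFun := conjO Q
  map_one' := by
    apply MulEquiv.ext
    intro s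
    apply Subtype.ext
    show (((1 : ↥(GO Q)) : GL ι F) * s * ((1 : ↥(GO Q)) : GL ι F)⁻¹ : GL ι F) = s
    simp
  map_mul' a b := by
    apply MulEquiv.ext
    intro s
    apply Subtype.ext
    show ((a * b : ↥(GO Q)) : GL ι F) * s * ((a * b : ↥(GO Q)) : GL ι F)⁻¹
      = (a : GL ι F) * ((b : GL ι F) * s * (b : GL ι F)⁻¹) * (a : GL ι F)⁻¹
    rw [Subgroup.coe_mul]
    group

/-- the automorphism of `G ⧸ Z(G)` induced by an automorphism of `G` -/
def quotCenterAut {G : Type*} [Group G] : MulAut G →* MulAut (G ⧸ Subgroup.center G) where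
  toFun α := QuotientGroup.congr (Subgroup.center G) (Subgroup.center G) α
    (Subgroup.characteristic_iff_map_eq.1 inferInstance α)
  map_one' := by
    ext x
    induction x using QuotientGroup.induction_on with
    | H x => rfl
  map_mul' a b := by
    ext x
    induction x using QuotientGroup.induction_on with
    | H x => rfl

theorem quotCenterAut_mk {G : Type*} [Group G] (α : MulAut G) (x : G) :
    quotCenterAut α (QuotientGroup.mk x) = QuotientGroup.mk (α x) := rfl

/-- **The action of the conformal group on `PΩ(Q)`.** -/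
def Phi : ↥(GO Q) →* MulAut (Cfsg.POmega F Q) :=
  (quotCenterAut.comp (MulAut.characteristic (Cfsg.Omega F Q))).comp (conjOHom Q)

theorem Phi_mk_coe (g : ↥(GO Q)) (s : ↥(Cfsg.Omega F Q)) :
    ∃ s' : ↥(Cfsg.Omega F Q), Phi Q g (QuotientGroup.mk s) = QuotientGroup.mk s' ∧
      (((s' : ↥(Cfsg.isometryGroup F Q)) : GL ι F)) =
        (g : GL ι F) * ((s : ↥(Cfsg.isometryGroup F Q)) : GL ι F) * (g : GL ι F)⁻¹ :=
  ⟨MulAut.characteristic (Cfsg.Omega F Q) (conjOHom Q g) s, rfl, rfl⟩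

theorem Omega_ext {a b : ↥(Cfsg.Omega F Q)}
    (h : ((((a : ↥(Cfsg.isometryGroup F Q)) : GL ι F)) : Matrix ι ι F) =
      (((b : ↥(Cfsg.isometryGroup F Q)) : GL ι F) : Matrix ι ι F)) : a = b := by
  apply Subtype.ext
  apply Subtype.ext
  apply Units.ext
  exact h

/-- an automorphism is induced by the similarity `g` iff it is `Phi g` -/
theorem isInduced_iff {g : GL ι F} (hg : g ∈ GO Q) (β : Cfsg.POmega F Q ≃* Cfsg.POmega F Q) :
    Cfsg.IsInducedBySemilinearPOmega Q g (RingEquiv.refl F) β ↔ β = Phi Q ⟨g, hg⟩ := by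
  constructor
  · intro h
    ext x
    induction x using QuotientGroup.induction_on with
    | H s =>
      obtain ⟨s', hs', hs'c⟩ := Phi_mk_coe Q ⟨g, hg⟩ s
      rw [hs']
      apply h s s'
      rw [hs'c]
      simp only [Units.val_mul]
      congr 2
  · rintro rfl s s' hss'
    obtain ⟨s'', hs'', hs''c⟩ := Phi_mk_coe Q ⟨g, hg⟩ s
    rw [hs'']
    congr 1
    apply Omega_ext
    rw [hss', hs''c]
    simp only [Units.val_mul]
    congr 2

/-- the subgroup generated by the automorphisms induced by the elements of a subgroup `H ≤ GO(Q)`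
is the image of `H` under `Phi` -/
theorem autSubgroupOf_eq_map (H : Subgroup (GL ι F)) (hH : H ≤ GO Q) :
    Cfsg.autSubgroupOf (fun β : Cfsg.POmega F Q ≃* Cfsg.POmega F Q =>
      ∃ g : GL ι F, g ∈ H ∧ Cfsg.IsInducedBySemilinearPOmega Q g (RingEquiv.refl F) β)
      = (H.subgroupOf (GO Q)).map (Phi Q) := by
  unfold Cfsg.autSubgroupOf
  have hset : {β : MulAut (Cfsg.POmega F Q) |
      ∃ g : GL ι F, g ∈ H ∧ Cfsg.IsInducedBySemilinearPOmega Q g (RingEquiv.refl F) β}
      = (((H.subgroupOf (GO Q)).map (Phi Q) : Subgroup (MulAut (Cfsg.POmega F Q))) :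
          Set (MulAut (Cfsg.POmega F Q))) := by
    ext β
    simp only [Set.mem_ofPred_eq, SetLike.mem_coe, Subgroup.mem_map, Subgroup.mem_subgroupOf]
    constructor
    · rintro ⟨g, hgH, hβ⟩
      refine ⟨⟨g, hH hgH⟩, hgH, ?_⟩
      exact ((isInduced_iff Q (hH hgH) β).1 hβ).symm
    · rintro ⟨g, hgH, rfl⟩
      exact ⟨g.1, hgH, (isInduced_iff Q g.2 _).2 rfl⟩
  rw [hset, Subgroup.closure_eq]

theorem pgoAut_eq : Cfsg.pgoAut F Q = (Phi Q).range := by
  have h := autSubgroupOf_eq_map Q (GO Q) le_rfl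
  unfold Cfsg.pgoAut Cfsg.IsSimilarityInducedAutPOmega
  rw [h, Subgroup.subgroupOf_self, ← MonoidHom.range_eq_map]

theorem poAut_eq : Cfsg.poAut F Q
    = ((Cfsg.isometryGroup F Q).subgroupOf (GO Q)).map (Phi Q) :=
  autSubgroupOf_eq_map Q (Cfsg.isometryGroup F Q) (isometryGroup_le_GO Q)

theorem specialIsometryGL_le_GO : Cfsg.specialIsometryGL F Q ≤ GO Q :=
  le_trans inf_le_left (isometryGroup_le_GO Q)

theorem psoAut_eq : Cfsg.psoAut F Q
    = ((Cfsg.specialIsometryGL F Q).subgroupOf (GO Q)).map (Phi Q) :=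
  autSubgroupOf_eq_map Q (Cfsg.specialIsometryGL F Q) (specialIsometryGL_le_GO Q)

theorem omegaGL_le_isometryGroup : Geo.omegaGL Q ≤ Cfsg.isometryGroup F Q := by
  intro g hg
  unfold Geo.omegaGL at hg
  rw [Subgroup.mem_map] at hg
  obtain ⟨h, -, rfl⟩ := hg
  exact h.2

theorem omegaGL_le_GO : Geo.omegaGL Q ≤ GO Q :=
  le_trans (omegaGL_le_isometryGroup Q) (isometryGroup_le_GO Q)

/-- an element of `Ω` as an element of the conformal group -/
def omegaToGO (s : ↥(Cfsg.Omega F Q)) : ↥(GO Q) :=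
  ⟨((s : ↥(Cfsg.isometryGroup F Q)) : GL ι F), isometryGroup_le_GO Q s.1.2⟩

theorem Phi_omegaToGO (s : ↥(Cfsg.Omega F Q)) :
    Phi Q (omegaToGO Q s) = MulAut.conj (QuotientGroup.mk s : Cfsg.POmega F Q) := by
  ext x
  induction x using QuotientGroup.induction_on with
  | H t =>
    obtain ⟨t', ht', ht'c⟩ := Phi_mk_coe Q (omegaToGO Q s) t
    rw [ht', MulAut.conj_apply, ← QuotientGroup.mk_mul, ← QuotientGroup.mk_inv,
      ← QuotientGroup.mk_mul]
    congr 1
    apply Subtype.ext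
    apply Subtype.ext
    rw [ht'c]
    rfl

theorem inn_eq : Cfsg.Inn (Cfsg.POmega F Q)
    = ((Geo.omegaGL Q).subgroupOf (GO Q)).map (Phi Q) := by
  ext β
  simp only [Cfsg.Inn, MonoidHom.mem_range, Subgroup.mem_map, Subgroup.mem_subgroupOf]
  constructor
  · rintro ⟨x, rfl⟩
    induction x using QuotientGroup.induction_on with
    | H s =>
      refine ⟨omegaToGO Q s, ?_, Phi_omegaToGO Q s⟩
      unfold Geo.omegaGL
      rw [Subgroup.mem_map]
      exact ⟨s.1, s.2, rfl⟩
  · rintro ⟨g, hg, rfl⟩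
    unfold Geo.omegaGL at hg
    rw [Subgroup.mem_map] at hg
    obtain ⟨h, hh, hhg⟩ := hg
    refine ⟨QuotientGroup.mk ⟨h, hh⟩, ?_⟩
    rw [← Phi_omegaToGO]
    congr 1
    apply Subtype.ext
    exact hhg

end Cfsg.Agent.Helper17.ConfAut
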