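import Mathlib
import Cfsg.Agent.Lib.Lead.Order8

/-!
# Abstract group lemmas for quotients of automorphism subgroups (helper17)
-/

set_option autoImplicit false

namespace Cfsg.Agent.Helper17.ConfAut

/-- a surjective homomorphism with prescribed kernel from an isomorphism of the quotient -/
theorem exists_hom_of_quotient_equiv {A : Type*} [Group A] (K N : Subgroup A)
    [hN : (N.subgroupOf K).Normal] {T : Type*} [Group T]
    (e : Nonempty ((↥K ⧸ N.subgroupOf K) ≃* T)) :
    ∃ φ : ↥K →* T, Function.Surjective φ ∧ φ.ker = N.subgroupOf K := by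
  obtain ⟨e⟩ := e
  refine ⟨e.toMonoidHom.comp (QuotientGroup.mk' (N.subgroupOf K)), ?_, ?_⟩
  · exact e.surjective.comp (QuotientGroup.mk'_surjective _)
  · ext x
    rw [MonoidHom.mem_ker, MonoidHom.comp_apply]
    show e (QuotientGroup.mk' (N.subgroupOf K) x) = 1 ↔ _
    rw [MulEquiv.map_eq_one_iff, QuotientGroup.mk'_apply, QuotientGroup.eq_one_iff]

theorem card_quotient_subgroupOf {A : Type*} [Group A] (K N : Subgroup A) :
    Nat.card (↥K ⧸ N.subgroupOf K) = N.relIndex K := rfl

/-- a group of order `4` all of whose elements square to `1` is a Klein four group -/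
theorem klein_of_card_of_sq {X : Type*} [Group X] (h4 : Nat.card X = 4)
    (hsq : ∀ x : X, x * x = 1) : Nonempty (X ≃* Multiplicative (ZMod 2 × ZMod 2)) := by
  have : IsKleinFour X := by
    refine ⟨h4, ?_⟩
    apply Nat.dvd_antisymm
    · apply Monoid.exponent_dvd_of_forall_pow_eq_one
      intro x
      rw [pow_two, hsq]
    · have hne : Monoid.exponent X ≠ 1 := by
        intro h1
        have : Subsingleton X := Monoid.exp_eq_one_iff.1 h1
        have : Nat.card X ≤ 1 := Finite.card_le_one_iff_subsingleton.2 this
        omega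
      have hpos : Monoid.exponent X ≠ 0 := by
        have : Finite X := Nat.finite_of_card_ne_zero (by rw [h4]; norm_num)
        exact Monoid.exponent_ne_zero_of_finite
      have hd : Monoid.exponent X ∣ 2 := by
        apply Monoid.exponent_dvd_of_forall_pow_eq_one
        intro x
        rw [pow_two, hsq]
      have := Nat.le_of_dvd (by norm_num) hd
      have h2 : Monoid.exponent X = 2 := by omega
      rw [h2]
  exact IsKleinFour.nonempty_mulEquiv

/-- a group of order `4` with two distinct involutions is a Klein four group -/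
theorem klein_of_two_involutions {X : Type*} [Group X] (h4 : Nat.card X = 4)
    {s t : X} (hs : s * s = 1) (ht : t * t = 1) (hs1 : s ≠ 1) (ht1 : t ≠ 1) (hst : s ≠ t) :
    Nonempty (X ≃* Multiplicative (ZMod 2 × ZMod 2)) := by
  classical
  apply klein_of_card_of_sq h4
  have : Finite X := Nat.finite_of_card_ne_zero (by rw [h4]; norm_num)
  -- the subgroup generated by `s` has index 2
  by_contra hcon
  push Not at hcon
  obtain ⟨x, hx⟩ := hcon
  have hcyc : IsCyclic X := by
    have hox : orderOf x ∣ 4 := by rw [← h4]; exact orderOf_dvd_natCard x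
    have hox2 : ¬ orderOf x ∣ 2 := by
      intro h
      apply hx
      rw [← pow_two]
      exact orderOf_dvd_iff_pow_eq_one.1 h
    have hox4 : orderOf x = 4 := by
      have hle : orderOf x ≤ 4 := Nat.le_of_dvd (by norm_num) hox
      have hpos : 0 < orderOf x := orderOf_pos x
      interval_cases h : orderOf x
      · exact absurd (one_dvd 2) hox2
      · exact absurd (dvd_refl 2) hox2
      · omega
      · rfl
    exact isCyclic_of_orderOf_eq_card x (by rw [hox4, h4])
  -- in a cyclic group there is at most one element of order two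
  have key : ∀ y : X, y * y = 1 → y ≠ 1 → y = x * x := by
    intro y hy hy1
    obtain ⟨g, hg⟩ := hcyc.exists_generator
    have hog : orderOf g = 4 := by rw [orderOf_eq_card_of_forall_mem_zpowers hg, h4]
    have hpow : ∀ z : X, ∃ k : ℕ, k < 4 ∧ z = g ^ k := by
      intro z
      have hz := hg z
      have hfin : IsOfFinOrder g := orderOf_pos_iff.1 (by rw [hog]; norm_num)
      rw [hfin.mem_zpowers_iff_mem_range_orderOf, hog] at hz
      simp only [Finset.mem_image, Finset.mem_range] at hz
      obtain ⟨k, hk, rfl⟩ := hz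
      exact ⟨k, hk, rfl⟩
    have hg4 : g ^ 4 = 1 := by rw [← hog]; exact pow_orderOf_eq_one g
    have hinv : ∀ z : X, z * z = 1 → z ≠ 1 → z = g ^ 2 := by
      intro z hz hz1
      obtain ⟨k, hk, rfl⟩ := hpow z
      rw [← pow_add] at hz
      have hdvd : 4 ∣ k + k := by
        rw [← hog]; exact orderOf_dvd_of_pow_eq_one hz
      interval_cases k
      · exact absurd (pow_zero g) hz1
      · omega
      · rfl
      · omega
    have hxx : x * x * (x * x) = 1 := by
      have hx4 : x ^ 4 = 1 := by
        have := orderOf_dvd_natCard x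
        rw [h4] at this
        exact orderOf_dvd_iff_pow_eq_one.1 this
      calc x * x * (x * x) = x ^ 4 := by
            rw [show (4 : ℕ) = 2 + 2 from rfl, pow_add, pow_two]
        _ = 1 := hx4
    rw [hinv y hy hy1, hinv (x * x) hxx hx]
  exact hst ((key s hs hs1).trans (key t ht ht1).symm)

/-- a group of order `4` with an element whose square is non-trivial is cyclic -/
theorem zmod4_of_card_of_sq_ne {X : Type*} [Group X] (h4 : Nat.card X = 4)
    {x : X} (hx : x * x ≠ 1) : Nonempty (X ≃* Multiplicative (ZMod 4)) := by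
  have : Finite X := Nat.finite_of_card_ne_zero (by rw [h4]; norm_num)
  have hox : orderOf x ∣ 4 := by rw [← h4]; exact orderOf_dvd_natCard x
  have hox2 : ¬ orderOf x ∣ 2 := by
    intro h
    apply hx
    rw [← pow_two]
    exact orderOf_dvd_iff_pow_eq_one.1 h
  have hox4 : orderOf x = 4 := by
    have hle : orderOf x ≤ 4 := Nat.le_of_dvd (by norm_num) hox
    have hpos : 0 < orderOf x := orderOf_pos x
    interval_cases h : orderOf x
    · exact absurd (one_dvd 2) hox2
    · exact absurd (dvd_refl 2) hox2
    · omega
    · rfl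
  have hcyc : IsCyclic X := isCyclic_of_orderOf_eq_card x (by rw [hox4, h4])
  have e := zmodCyclicMulEquiv hcyc
  rw [h4] at e
  exact ⟨e.symm⟩

/-- a group of order `2` -/
theorem zmod2_of_card {X : Type*} [Group X] (h2 : Nat.card X = 2) :
    Nonempty (X ≃* Multiplicative (ZMod 2)) := by
  have : Fact (Nat.Prime 2) := ⟨Nat.prime_two⟩
  have hcyc : IsCyclic X := isCyclic_of_prime_card h2
  have e := zmodCyclicMulEquiv hcyc
  rw [h2] at e
  exact ⟨e.symm⟩

/-- a non-abelian group of order `8` with two distinct involutions is dihedral -/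
theorem d4_of_card_of_involutions {X : Type*} [Group X] (h8 : Nat.card X = 8)
    (hna : ∃ x y : X, x * y ≠ y * x)
    {s t : X} (hs : s * s = 1) (ht : t * t = 1) (hs1 : s ≠ 1) (ht1 : t ≠ 1) (hst : s ≠ t) :
    Nonempty (X ≃* DihedralGroup 4) := by
  rcases Cfsg.Agent.Lead.order8_nonabelian h8 hna with h | ⟨z, hz1, hz⟩
  · exact h
  · exfalso
    have hzs := hz s hs1
    have hzt := hz t ht1
    have hmem : ∀ y : X, y * y = 1 → z ∈ Subgroup.zpowers y → z = y := by
      intro y hy hzy
      rw [Subgroup.mem_zpowers_iff] at hzy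
      obtain ⟨k, hk⟩ := hzy
      rcases Int.even_or_odd k with ⟨j, hj⟩ | ⟨j, hj⟩
      · exfalso
        apply hz1
        have hyj : y ^ j * y ^ j = (y * y) ^ j := ((Commute.refl y).mul_zpow j).symm
        rw [← hk, hj, zpow_add, hyj, hy, one_zpow]
      · have hyj : y ^ j * y ^ j = (y * y) ^ j := ((Commute.refl y).mul_zpow j).symm
        rw [← hk, hj, zpow_add, zpow_one, two_mul, zpow_add, hyj, hy, one_zpow, one_mul]
    exact hst ((hmem s hs hzs).symm.trans (hmem t ht hzt))

end Cfsg.Agent.Helper17.ConfAut
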