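import Mathlib
import Cfsg.Agent.Lib.Helper2.OrthCenter
import Cfsg.Agent.Lib.Helper2.OrthOmega
import Cfsg.Prelude.Def_GeometricClasses

/-!
# Linear maps commuting with all Siegel transformations are scalar (helper17)

An adaptation of helper2's `CommSiegel.scalar` (which is about isometries) to arbitrary
endomorphisms.
-/

set_option autoImplicit false
set_option linter.unusedSectionVars false

namespace Cfsg.Agent.Helper17.ConfAut
open Cfsg QuadraticMap Cfsg.Agent.Helper28.Siegel Cfsg.Agent.Helper2.Orth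
open Cfsg.Agent.Helper17.Spinor

variable {F : Type*} [Field F] {ι : Type} [Fintype ι] [DecidableEq ι]
  {Q : QuadraticForm F (ι → F)}

/-- `z` commutes with all Siegel maps -/
def CommSieg (Q : QuadraticForm F (ι → F)) (z : Module.End F (ι → F)) : Prop :=
  ∀ (u v : ι → F), Q u = 0 → Q v = 0 → polar Q u v = 0 → ∀ (c : F) (x : ι → F),
    z (sieg Q u v c x) = sieg Q u v c (z x)

theorem CommSieg.key {z : Module.End F (ι → F)} (hz : CommSieg Q z) {u v : ι → F}
    (hu : Q u = 0) (hv : Q v = 0) (huv : polar Q u v = 0) (x : ι → F) :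
    z (polar Q u x • v - polar Q v x • u) =
      polar Q u (z x) • v - polar Q v (z x) • u := by
  have h := hz u v hu hv huv 1 x
  rw [sieg_apply, sieg_apply, one_smul, one_smul, map_add] at h
  exact add_left_cancel h

theorem polar_toEnd (g : ↥(Cfsg.isometryGroup F (⇑Q))) (x y : ι → F) :
    polar Q (toEnd Q g x) (toEnd Q g y) = polar Q x y := by
  unfold polar
  rw [← map_add, toEnd_isometry, toEnd_isometry, toEnd_isometry]

theorem toEnd_sieg (g : ↥(Cfsg.isometryGroup F (⇑Q))) (u v : ι → F) (c : F) (x : ι → F) :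
    toEnd Q g (sieg Q u v c x) = sieg Q (toEnd Q g u) (toEnd Q g v) c (toEnd Q g x) := by
  rw [sieg_apply, sieg_apply, polar_toEnd, polar_toEnd]
  simp only [map_add, map_smul, map_sub]

theorem toEnd_inv_toEnd (g : ↥(Cfsg.isometryGroup F (⇑Q))) (x : ι → F) :
    toEnd Q g⁻¹ (toEnd Q g x) = x := by
  rw [← Module.End.mul_apply, ← map_mul, inv_mul_cancel, map_one, Module.End.one_apply]

theorem toEnd_toEnd_inv (g : ↥(Cfsg.isometryGroup F (⇑Q))) (x : ι → F) :
    toEnd Q g (toEnd Q g⁻¹ x) = x := by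
  rw [← Module.End.mul_apply, ← map_mul, mul_inv_cancel, map_one, Module.End.one_apply]

theorem CommSieg.conj {z : Module.End F (ι → F)} (hz : CommSieg Q z)
    (g : ↥(Cfsg.isometryGroup F (⇑Q))) :
    CommSieg Q (toEnd Q g⁻¹ * z * toEnd Q g) := by
  intro u v hu hv huv c x
  have hgu : Q (toEnd Q g u) = 0 := by rw [toEnd_isometry, hu]
  have hgv : Q (toEnd Q g v) = 0 := by rw [toEnd_isometry, hv]
  have hguv : polar Q (toEnd Q g u) (toEnd Q g v) = 0 := by rw [polar_toEnd, huv]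
  simp only [Module.End.mul_apply]
  rw [toEnd_sieg, hz _ _ hgu hgv hguv, toEnd_sieg, toEnd_inv_toEnd, toEnd_inv_toEnd]

theorem CommSieg.eigen_e1 {i₁ j₁ i₂ j₂ : ι} (h : TwoHyp Q i₁ j₁ i₂ j₂)
    {z : Module.End F (ι → F)} (hz : CommSieg Q z) :
    z (Pi.single i₁ 1 : ι → F) = ((z (Pi.single i₁ 1 : ι → F)) i₁) • Pi.single i₁ 1 := by
  have o12 : polar Q (Pi.single i₁ 1 : ι → F) (Pi.single i₂ 1) = 0 := by
    rw [h.p1]; simp [h.ne4]
  have o12' : polar Q (Pi.single i₁ 1 : ι → F) (Pi.single j₂ 1) = 0 := by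
    rw [h.p1]; simp [h.ne5]
  have k1 := hz.key h.s1 h.s3 o12 (Pi.single j₂ 1)
  rw [o12', h.p3, Pi.single_eq_same, zero_smul, one_smul, zero_sub] at k1
  have k2 := hz.key h.s1 h.s4 o12' (Pi.single i₂ 1)
  rw [o12, h.p4, Pi.single_eq_same, zero_smul, one_smul, zero_sub] at k2
  rw [map_neg] at k1 k2
  ext k
  by_cases hk : k = i₁
  · subst hk
    simp
  · rw [Pi.smul_apply, Pi.single_eq_of_ne hk, smul_zero]
    by_cases hk2 : k = i₂
    · subst hk2
      have := congrFun k2 k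
      simp only [Pi.neg_apply, Pi.sub_apply, Pi.smul_apply, Pi.single_eq_of_ne hk,
        Pi.single_eq_of_ne h.ne6, smul_zero, sub_zero] at this
      rw [neg_eq_zero] at this
      exact this
    · have := congrFun k1 k
      simp only [Pi.neg_apply, Pi.sub_apply, Pi.smul_apply, Pi.single_eq_of_ne hk,
        Pi.single_eq_of_ne hk2, smul_zero, sub_zero] at this
      rw [neg_eq_zero] at this
      exact this

theorem CommSieg.eigen {i₁ j₁ i₂ j₂ : ι} (hQ : (polarBilin Q).Nondegenerate)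
    (h : TwoHyp Q i₁ j₁ i₂ j₂) {z : Module.End F (ι → F)} (hz : CommSieg Q z)
    {u : ι → F} (hu0 : u ≠ 0) (hu : Q u = 0) : ∃ a : F, z u = a • u := by
  obtain ⟨g, hg⟩ := exists_smul_eq_of_singular Q hQ (single_ne_zero' i₁) h.s1 hu0 hu
  have hg' : toEnd Q g (Pi.single i₁ 1 : ι → F) = u := hg
  have h1 := (hz.conj g).eigen_e1 h
  refine ⟨((toEnd Q g⁻¹ * z * toEnd Q g) (Pi.single i₁ 1 : ι → F)) i₁, ?_⟩
  have h2 : z u = toEnd Q g ((toEnd Q g⁻¹ * z * toEnd Q g) (Pi.single i₁ 1 : ι → F)) := by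
    simp only [Module.End.mul_apply]
    rw [toEnd_toEnd_inv, hg']
  rw [h2, h1, map_smul, hg']
  congr 1
  rw [← h1]

/-- two orthogonal singular vectors with "disjoint witnesses" have the same eigenvalue -/
theorem CommSieg.eigen_eq {i₁ j₁ i₂ j₂ : ι} (hQ : (polarBilin Q).Nondegenerate)
    (h : TwoHyp Q i₁ j₁ i₂ j₂) {z : Module.End F (ι → F)} (hz : CommSieg Q z)
    {u w : ι → F} (hu : Q u = 0) (hw : Q w = 0) (huw : polar Q u w = 0) {a b : F}
    (ha : z u = a • u) (hb : z w = b • w) (k₁ k₂ : ι) (h1 : u k₁ ≠ 0) (h1' : w k₁ = 0)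
    (h2 : w k₂ ≠ 0) (h2' : u k₂ = 0) : a = b := by
  have hs : Q (u + w) = 0 := by
    rw [QuadraticMap.map_add (⇑Q) u w, hu, hw, huw]; simp
  have hne : u + w ≠ 0 := by
    intro h0
    have := congrFun h0 k₁
    simp [h1'] at this
    exact h1 this
  obtain ⟨c, hc⟩ := hz.eigen hQ h hne hs
  rw [map_add, ha, hb] at hc
  have e1 := congrFun hc k₁
  have e2 := congrFun hc k₂
  simp only [Pi.add_apply, Pi.smul_apply, smul_eq_mul, h1', h2', mul_zero, add_zero, zero_add]
    at e1 e2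
  have := mul_right_cancel₀ h1 e1
  have := mul_right_cancel₀ h2 e2
  rw [‹a = c›, ‹b = c›]

/-- **an endomorphism commuting with all Siegel maps is scalar** -/
theorem CommSieg.scalar {i₁ j₁ i₂ j₂ : ι} (hQ : (polarBilin Q).Nondegenerate)
    (h : TwoHyp Q i₁ j₁ i₂ j₂) {z : Module.End F (ι → F)} (hz : CommSieg Q z) :
    ∃ a : F, ∀ x, z x = a • x := by
  obtain ⟨a, ha⟩ := hz.eigen hQ h (single_ne_zero' i₁) h.s1
  obtain ⟨a2, ha2⟩ := hz.eigen hQ h (single_ne_zero' i₂) h.s3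
  obtain ⟨b2, hb2⟩ := hz.eigen hQ h (single_ne_zero' j₂) h.s4
  obtain ⟨b1, hb1⟩ := hz.eigen hQ h (single_ne_zero' j₁) h.s2
  have o12 : polar Q (Pi.single i₁ 1 : ι → F) (Pi.single i₂ 1) = 0 := by
    rw [h.p1]; simp [h.ne4]
  have o12' : polar Q (Pi.single i₁ 1 : ι → F) (Pi.single j₂ 1) = 0 := by
    rw [h.p1]; simp [h.ne5]
  have o21 : polar Q (Pi.single i₂ 1 : ι → F) (Pi.single j₁ 1) = 0 := by
    rw [h.p3]; simp [h.ne5.symm]
  have e2 : a = a2 := hz.eigen_eq hQ h h.s1 h.s3 o12 ha ha2 i₁ i₂ (by simp) (by simp [h.ne2])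
    (by simp) (by simp [h.ne2.symm])
  have f2 : a = b2 := hz.eigen_eq hQ h h.s1 h.s4 o12' ha hb2 i₁ j₂ (by simp) (by simp [h.ne3])
    (by simp) (by simp [h.ne3.symm])
  have f1 : a2 = b1 := hz.eigen_eq hQ h h.s3 h.s2 o21 ha2 hb1 i₂ j₁ (by simp)
    (by simp [h.ne4.symm]) (by simp) (by simp [h.ne4])
  -- every coordinate vector is an eigenvector with eigenvalue `a`
  have hall : ∀ k : ι, z (Pi.single k 1 : ι → F) = a • Pi.single k 1 := by
    intro k
    by_cases hk1 : k = i₁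
    · rw [hk1]; exact ha
    by_cases hk2 : k = j₁
    · rw [hk2, hb1, ← f1, ← e2]
    by_cases hk3 : k = i₂
    · rw [hk3, ha2, ← e2]
    by_cases hk4 : k = j₂
    · rw [hk4, hb2, ← f2]
    -- a coordinate vector outside the two hyperbolic planes
    set D : ι → F := Pi.single k 1 with hD
    set t : F := Q D with ht
    set s : ι → F := D + (-t) • Pi.single i₂ 1 + Pi.single j₂ 1 with hs
    have pD2 : polar Q (Pi.single i₂ 1 : ι → F) D = 0 := by rw [h.p3, hD]; simp [hk4, Ne.symm hk4]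
    have pD2' : polar Q (Pi.single j₂ 1 : ι → F) D = 0 := by rw [h.p4, hD]; simp [hk3, Ne.symm hk3]
    have hQs : Q s = 0 := by
      rw [hs, QuadraticMap.map_add (⇑Q) (D + (-t) • Pi.single i₂ 1) (Pi.single j₂ 1),
        QuadraticMap.map_add (⇑Q) D ((-t) • Pi.single i₂ 1), QuadraticMap.map_smul, h.s3, h.s4,
        polar_add_left, polar_smul_left, polar_smul_right, h.p3]
      have pD2c : polar Q D (Pi.single i₂ 1 : ι → F) = 0 := by rw [polar_comm]; exact pD2
      have pD2'c : polar Q D (Pi.single j₂ 1 : ι → F) = 0 := by rw [polar_comm]; exact pD2'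
      simp [pD2c, pD2'c, pD2, pD2', ← ht]
    have hs0 : s ≠ 0 := by
      intro h0
      have := congrFun h0 j₂
      simp [hs, hD, Ne.symm hk4, h.ne6, h.ne6.symm] at this
    obtain ⟨c, hc⟩ := hz.eigen hQ h hs0 hQs
    have p1s : polar Q (Pi.single i₁ 1 : ι → F) s = 0 := by
      rw [h.p1, hs, hD]
      simp [Ne.symm hk2, h.ne4, h.ne5, h.ne4.symm, h.ne5.symm]
    have hca : a = c := hz.eigen_eq hQ h h.s1 hQs p1s ha hc i₁ j₂ (by simp)
      (by simp [hs, hD, Ne.symm hk1, h.ne2, h.ne3, h.ne2.symm, h.ne3.symm])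
      (by simp [hs, hD, Ne.symm hk4, h.ne6, h.ne6.symm]) (by simp [h.ne3])
    have hDs : D = s + t • Pi.single i₂ 1 - Pi.single j₂ 1 := by
      rw [hs]; module
    rw [hDs, map_sub, map_add, map_smul, hc, ha2, hb2, ← hca, ← e2, ← f2]
    module
  refine ⟨a, fun x => ?_⟩
  have hx : x = ∑ k, x k • (Pi.single k 1 : ι → F) := by
    ext i
    simp [Finset.sum_apply, Pi.single_apply]
  rw [hx, map_sum, Finset.smul_sum]
  apply Finset.sum_congr rfl
  intro k _
  rw [map_smul, hall k, smul_comm]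

/-- matrix form: an invertible matrix commuting with all Siegel matrices is scalar -/
theorem mem_scalars_of_commute {i₁ j₁ i₂ j₂ : ι} (hQ : (polarBilin Q).Nondegenerate)
    (h : TwoHyp Q i₁ j₁ i₂ j₂) (g : GL ι F)
    (hg : ∀ (u v : ι → F) (hu : Q u = 0) (hv : Q v = 0) (huv : polar Q u v = 0) (c : F),
      (g : Matrix ι ι F) * Cfsg.siegelMatrix (⇑Q) u v c
        = Cfsg.siegelMatrix (⇑Q) u v c * (g : Matrix ι ι F)) :
    g ∈ Geo.scalars ι F := by
  have hz : CommSieg Q (Matrix.toLin' (g : Matrix ι ι F)) := by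
    intro u v hu hv huv c x
    rw [← siegelMatrix_mulVec, ← siegelMatrix_mulVec, Matrix.toLin'_apply, Matrix.toLin'_apply,
      Matrix.mulVec_mulVec, Matrix.mulVec_mulVec, hg u v hu hv huv c]
  obtain ⟨a, ha⟩ := hz.scalar hQ h
  have hmat : (g : Matrix ι ι F) = a • (1 : Matrix ι ι F) := by
    apply Matrix.toLin'.injective
    apply LinearMap.ext
    intro x
    rw [ha x, map_smul, Matrix.toLin'_one]
    rfl
  have ha0 : a ≠ 0 := by
    rintro rfl
    rw [zero_smul] at hmat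
    have hι : Nonempty ι := ⟨i₁⟩
    have hdet := congrArg Matrix.det hmat
    rw [Matrix.det_zero] at hdet
    exact (Matrix.GeneralLinearGroup.det g).ne_zero (by
      rw [Matrix.GeneralLinearGroup.val_det_apply]; exact hdet)
  rw [Geo.mem_scalars_iff]
  exact ⟨Units.mk0 a ha0, hmat⟩

end Cfsg.Agent.Helper17.ConfAut
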