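import Mathlib
import Cfsg.Agent.Lib.Helper17.ConfAut1
import Cfsg.Agent.Lib.Helper17.ConfAut2

/-!
# The kernel of the action of the conformal group on `PΩ(Q)` (helper17)
-/

set_option autoImplicit false
set_option linter.unusedSectionVars false

namespace Cfsg.Agent.Helper17.ConfAut
open Cfsg QuadraticMap Cfsg.Agent.Helper28.Siegel Cfsg.Agent.Helper2.Orth
open Cfsg.Agent.Helper17.Spinor

variable {F : Type*} [Field F] {ι : Type} [Fintype ι] [DecidableEq ι]
  {Q : QuadraticForm F (ι → F)}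

theorem siegG_half_mul_self (h2 : (2 : F) ≠ 0) {u v : ι → F} (hu : Q u = 0) (hv : Q v = 0)
    (huv : polar Q u v = 0) (c : F) :
    siegG Q hu hv huv (c / 2) * siegG Q hu hv huv (c / 2) = siegG Q hu hv huv c := by
  apply toEnd_injective
  rw [map_mul, toEnd_siegG, toEnd_siegG]
  apply LinearMap.ext
  intro x
  rw [Module.End.mul_apply, sieg_sieg hu hv huv]
  have hc : c / 2 + c / 2 = c := by field_simp; ring
  rw [hc]

theorem scalar_mul_comm {g : GL ι F} (hg : g ∈ Geo.scalars ι F) (s : GL ι F) :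
    g * s * g⁻¹ = s := by
  rw [Geo.mem_scalars_iff] at hg
  obtain ⟨c, hc⟩ := hg
  have : g * s = s * g := by
    apply Units.ext
    rw [Units.val_mul, Units.val_mul, hc]
    simp
  rw [this, mul_inv_cancel_right]

/-- **The kernel of `Phi` consists of the scalar similarities.** -/
theorem Phi_eq_one_iff {i₁ j₁ i₂ j₂ : ι} (h2 : (2 : F) ≠ 0) (hQ : (polarBilin Q).Nondegenerate)
    (h : TwoHyp Q i₁ j₁ i₂ j₂) (g : ↥(GO (⇑Q))) :
    Phi (⇑Q) g = 1 ↔ (g : GL ι F) ∈ Geo.scalars ι F := by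
  have hS := fun (u v : ι → F) (hu : Q u = 0) (hv : Q v = 0) (huv : polar Q u v = 0) (c : F) =>
    siegG_mem_Omega_odd Q h2 hQ hu hv huv c
  constructor
  · intro hg
    apply mem_scalars_of_commute hQ h
    intro u v hu hv huv c
    set ρ : ↥(Cfsg.Omega F (⇑Q)) := ⟨siegG Q hu hv huv (c / 2), hS u v hu hv huv (c / 2)⟩ with hρ
    obtain ⟨ρ', hρ', hρ'c⟩ := Phi_mk_coe (⇑Q) g ρ
    rw [hg, MulAut.one_apply] at hρ'
    have hcen : ρ'⁻¹ * ρ ∈ Subgroup.center (Cfsg.Omega F (⇑Q)) := by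
      rw [← QuotientGroup.eq]
      exact hρ'.symm
    rw [mem_center_Omega_iff hQ h hS] at hcen
    -- matrices
    set R : GL ι F := ((ρ : ↥(Cfsg.isometryGroup F (⇑Q))) : GL ι F) with hR
    set R' : GL ι F := ((ρ' : ↥(Cfsg.isometryGroup F (⇑Q))) : GL ι F) with hR'
    have hval : (ρ'⁻¹ * ρ).1.1.1 = ((R'⁻¹ * R : GL ι F) : Matrix ι ι F) := rfl
    rw [hval] at hcen
    have hRR' : (R : Matrix ι ι F) = (R' : Matrix ι ι F) * ((R'⁻¹ * R : GL ι F) : Matrix ι ι F) := by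
      rw [← Units.val_mul, mul_inv_cancel_left]
    have hsq : (R : Matrix ι ι F) * (R : Matrix ι ι F) = (R' : Matrix ι ι F) * (R' : Matrix ι ι F) := by
      rcases hcen with h1 | h1
      · rw [hRR', h1, mul_one]
      · rw [hRR', h1]
        simp
    have hRsq : (R : Matrix ι ι F) * (R : Matrix ι ι F) = Cfsg.siegelMatrix (⇑Q) u v c := by
      rw [← siegG_coe Q hu hv huv c, ← siegG_half_mul_self h2 hu hv huv c]
      rfl
    have hR'eq : R' = (g : GL ι F) * R * (g : GL ι F)⁻¹ := hρ'c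
    have hR'sq : (R' : Matrix ι ι F) * (R' : Matrix ι ι F) * ((g : GL ι F) : Matrix ι ι F)
        = ((g : GL ι F) : Matrix ι ι F) * ((R : Matrix ι ι F) * (R : Matrix ι ι F)) := by
      rw [← Units.val_mul, ← Units.val_mul, ← Units.val_mul, ← Units.val_mul, hR'eq]
      congr 1
      group
    rw [← hRsq, ← hR'sq, hsq]
  · intro hg
    ext x
    induction x using QuotientGroup.induction_on with
    | H s =>
      obtain ⟨s', hs', hs'c⟩ := Phi_mk_coe (⇑Q) g s
      rw [hs', MulAut.one_apply]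
      congr 1
      apply Subtype.ext
      apply Subtype.ext
      rw [hs'c, scalar_mul_comm hg]

/-- `Phi a = Phi b` iff `a` and `b` differ by a scalar -/
theorem Phi_eq_iff {i₁ j₁ i₂ j₂ : ι} (h2 : (2 : F) ≠ 0) (hQ : (polarBilin Q).Nondegenerate)
    (h : TwoHyp Q i₁ j₁ i₂ j₂) (a b : ↥(GO (⇑Q))) :
    Phi (⇑Q) a = Phi (⇑Q) b ↔ ((a : GL ι F)⁻¹ * (b : GL ι F)) ∈ Geo.scalars ι F := by
  have : Phi (⇑Q) a = Phi (⇑Q) b ↔ Phi (⇑Q) (a⁻¹ * b) = 1 := by
    rw [map_mul, map_inv, inv_mul_eq_one]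
  rw [this, Phi_eq_one_iff h2 hQ h]
  rfl

end Cfsg.Agent.Helper17.ConfAut
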