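import Mathlib
import Cfsg.Agent.Lib.Helper17.ConfAut3
import Cfsg.Agent.Lib.Helper13.QuadFinite

/-!
# Multipliers and determinants of similarities (helper17)
-/

set_option autoImplicit false
set_option linter.unusedSectionVars false

namespace Cfsg.Agent.Helper17.ConfAut
open Cfsg QuadraticMap Cfsg.Agent.Helper17.Spinor

variable {F : Type*} [Field F] {ι : Type} [Fintype ι] [DecidableEq ι]
  (Q : QuadraticForm F (ι → F))

/-- `g` multiplies `Q` by `c` -/
def IsMult (g : GL ι F) (c : F) : Prop := ∀ v, Q ((g : Matrix ι ι F).mulVec v) = c * Q v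

theorem mem_GO_iff (g : GL ι F) : g ∈ GO (⇑Q) ↔ ∃ c : Fˣ, IsMult Q g c := Iff.rfl

variable {Q}

theorem IsMult.unique (hv : ∃ v, Q v ≠ 0) {g : GL ι F} {c c' : F} (h : IsMult Q g c)
    (h' : IsMult Q g c') : c = c' := by
  obtain ⟨v, hv⟩ := hv
  have := (h v).symm.trans (h' v)
  exact mul_right_cancel₀ hv this

theorem IsMult.mul {g g' : GL ι F} {c c' : F} (h : IsMult Q g c) (h' : IsMult Q g' c') :
    IsMult Q (g * g') (c * c') := by
  intro v
  rw [Units.val_mul, ← Matrix.mulVec_mulVec, h, h', mul_assoc]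

theorem IsMult.ne_zero (hv : ∃ v, Q v ≠ 0) {g : GL ι F} {c : F} (h : IsMult Q g c) : c ≠ 0 := by
  rintro rfl
  obtain ⟨v, hv⟩ := hv
  have := h (((g⁻¹ : GL ι F) : Matrix ι ι F).mulVec v)
  rw [Matrix.mulVec_mulVec, ← Units.val_mul, mul_inv_cancel, Units.val_one, Matrix.one_mulVec,
    zero_mul] at this
  exact hv this

theorem IsMult.inv {g : GL ι F} {c : F} (hc : c ≠ 0) (h : IsMult Q g c) : IsMult Q g⁻¹ c⁻¹ := by
  intro v
  have := h (((g⁻¹ : GL ι F) : Matrix ι ι F).mulVec v)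
  rw [Matrix.mulVec_mulVec, ← Units.val_mul, mul_inv_cancel, Units.val_one, Matrix.one_mulVec]
    at this
  rw [this, ← mul_assoc, inv_mul_cancel₀ hc, one_mul]

theorem isMult_one_iff {g : GL ι F} : IsMult Q g 1 ↔ g ∈ Cfsg.isometryGroup F (⇑Q) := by
  rw [mem_isometryGroup_iff]
  constructor
  · intro h v
    rw [h v, one_mul]
  · intro h v
    rw [h v, one_mul]

theorem IsMult.mem_GO {g : GL ι F} {c : F} (hc : c ≠ 0) (h : IsMult Q g c) : g ∈ GO (⇑Q) :=
  ⟨Units.mk0 c hc, h⟩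

theorem IsMult.polar {g : GL ι F} {c : F} (h : IsMult Q g c) (u v : ι → F) :
    polar Q ((g : Matrix ι ι F).mulVec u) ((g : Matrix ι ι F).mulVec v) = c * polar Q u v := by
  unfold QuadraticMap.polar
  rw [← Matrix.mulVec_add, h, h, h]
  ring

/-- the scalar matrix `a • 1` as an element of `GL` -/
def scalarGL (a : Fˣ) : GL ι F :=
  Units.map (Matrix.scalar ι : F →+* Matrix ι ι F).toMonoidHom a

theorem scalarGL_coe (a : Fˣ) : ((scalarGL a : GL ι F) : Matrix ι ι F) = (a : F) • 1 := by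
  simp [scalarGL, Matrix.smul_one_eq_diagonal]

theorem scalarGL_mem (a : Fˣ) : (scalarGL a : GL ι F) ∈ Geo.scalars ι F := ⟨a, rfl⟩

theorem mem_scalars_iff' (g : GL ι F) : g ∈ Geo.scalars ι F ↔ ∃ a : Fˣ, g = scalarGL a := by
  constructor
  · rintro ⟨a, rfl⟩
    exact ⟨a, rfl⟩
  · rintro ⟨a, rfl⟩
    exact scalarGL_mem a

theorem scalarGL_mulVec (a : Fˣ) (v : ι → F) :
    ((scalarGL a : GL ι F) : Matrix ι ι F).mulVec v = (a : F) • v := by
  rw [scalarGL_coe, Matrix.smul_mulVec, Matrix.one_mulVec]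

theorem isMult_scalarGL (a : Fˣ) : IsMult Q (scalarGL a) ((a : F) ^ 2) := by
  intro v
  rw [scalarGL_mulVec, QuadraticMap.map_smul, smul_eq_mul, pow_two]

theorem det_scalarGL (a : Fˣ) :
    ((scalarGL a : GL ι F) : Matrix ι ι F).det = (a : F) ^ Fintype.card ι := by
  rw [scalarGL_coe, Matrix.det_smul, Matrix.det_one, mul_one]

theorem scalarGL_comm (a : Fˣ) (g : GL ι F) : scalarGL a * g = g * scalarGL a := by
  apply Units.ext
  rw [Units.val_mul, Units.val_mul, scalarGL_coe]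
  simp

/-- the determinant of a similarity -/
theorem IsMult.det_sq (hQ : (polarBilin Q).Nondegenerate) {g : GL ι F} {c : F}
    (h : IsMult Q g c) : ((g : Matrix ι ι F).det) ^ 2 = c ^ Fintype.card ι := by
  set b := Pi.basisFun F ι with hb
  have hinv1 : Matrix.toLin' (g : Matrix ι ι F) ∘ₗ Matrix.toLin' ((g⁻¹ : GL ι F) : Matrix ι ι F)
      = LinearMap.id := by
    rw [← Matrix.toLin'_mul, ← Units.val_mul, mul_inv_cancel, Units.val_one, Matrix.toLin'_one]
  have hinv2 : Matrix.toLin' ((g⁻¹ : GL ι F) : Matrix ι ι F) ∘ₗ Matrix.toLin' (g : Matrix ι ι F)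
      = LinearMap.id := by
    rw [← Matrix.toLin'_mul, ← Units.val_mul, inv_mul_cancel, Units.val_one, Matrix.toLin'_one]
  set e : (ι → F) ≃ₗ[F] (ι → F) := LinearEquiv.ofLinearMap _ _ hinv1 hinv2 with he
  have hemul : ∀ v, e v = (g : Matrix ι ι F).mulVec v := fun v => rfl
  set c' := b.map e with hc'
  have h1 := Cfsg.Agent.Helper13.gram_det_basis Q b c'
  have h2 : (Matrix.of fun i j => QuadraticMap.polar Q (c' i) (c' j))
      = c • (Matrix.of fun i j => QuadraticMap.polar Q (b i) (b j)) := by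
    ext i j
    simp only [Matrix.of_apply, hc', Module.Basis.map_apply, hemul, h.polar, Matrix.smul_apply,
      smul_eq_mul]
  have h3 : b.toMatrix c' = (g : Matrix ι ι F) := by
    ext i j
    rw [Module.Basis.toMatrix_apply, hc', Module.Basis.map_apply, hemul, hb, Pi.basisFun_repr,
      Pi.basisFun_apply, Matrix.mulVec_single_one]
    rfl
  rw [h2, h3, Matrix.det_smul] at h1
  have hD := Cfsg.Agent.Helper13.gram_det_ne_zero Q b hQ
  exact (mul_right_cancel₀ hD h1).symm

end Cfsg.Agent.Helper17.ConfAut
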