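import Mathlib
import Cfsg.Agent.Lib.Helper17.ConfAut5

/-!
# Membership criteria for the images of `O`, `SO`, `Ω` in `Aut(PΩ)` (helper17)
-/

set_option autoImplicit false
set_option linter.unusedSectionVars false

namespace Cfsg.Agent.Helper17.ConfAut
open Cfsg QuadraticMap Cfsg.Agent.Helper17.Spinor Cfsg.Agent.Helper2.Orth

variable {F : Type*} [Field F] {ι : Type} [Fintype ι] [DecidableEq ι]
  {Q : QuadraticForm F (ι → F)}

theorem scalarGL_mul (a b : Fˣ) : (scalarGL (a * b) : GL ι F) = scalarGL a * scalarGL b :=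
  map_mul _ a b

theorem scalarGL_inv (a : Fˣ) : (scalarGL a⁻¹ : GL ι F) = (scalarGL a)⁻¹ :=
  map_inv _ a

theorem scalarGL_mem_GO (a : Fˣ) : (scalarGL a : GL ι F) ∈ GO (⇑Q) :=
  ⟨a ^ 2, by rw [Units.val_pow_eq_pow_val]; exact isMult_scalarGL a⟩

section
variable {i₁ j₁ i₂ j₂ : ι} (h2 : (2 : F) ≠ 0) (hQ : (polarBilin Q).Nondegenerate)
  (h : TwoHyp Q i₁ j₁ i₂ j₂)
include h2 hQ h

/-- (M0) `Phi g` lies in the image of `H` iff `g` lies in `H` up to a scalar -/
theorem Phi_mem_map_iff (H : Subgroup (GL ι F)) (g : ↥(GO (⇑Q))) :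
    Phi (⇑Q) g ∈ (H.subgroupOf (GO (⇑Q))).map (Phi (⇑Q)) ↔
      ∃ a : Fˣ, (g : GL ι F) * scalarGL a ∈ H := by
  rw [Subgroup.mem_map]
  constructor
  · rintro ⟨k, hk, hkg⟩
    rw [Subgroup.mem_subgroupOf] at hk
    rw [Phi_eq_iff h2 hQ h, mem_scalars_iff'] at hkg
    obtain ⟨b, hb⟩ := hkg
    refine ⟨b⁻¹, ?_⟩
    have : (g : GL ι F) * scalarGL b⁻¹ = (k : GL ι F) := by
      rw [scalarGL_inv, ← hb]
      group
    rw [this]
    exact hk
  · rintro ⟨a, ha⟩
    refine ⟨⟨(g : GL ι F) * scalarGL a, (GO (⇑Q)).mul_mem g.2 (scalarGL_mem_GO a)⟩, ?_, ?_⟩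
    · rw [Subgroup.mem_subgroupOf]
      exact ha
    · rw [Phi_eq_iff h2 hQ h]
      show ((g : GL ι F) * scalarGL a)⁻¹ * (g : GL ι F) ∈ Geo.scalars ι F
      have : ((g : GL ι F) * scalarGL a)⁻¹ * (g : GL ι F) = scalarGL a⁻¹ := by
        rw [scalarGL_inv]
        group
      rw [this]
      exact scalarGL_mem _

theorem exists_Q_ne_zero : ∃ v : ι → F, Q v ≠ 0 := by
  refine ⟨Pi.single i₁ 1 + Pi.single j₁ 1, ?_⟩
  have h3 : Q (Pi.single i₁ 1 + Pi.single j₁ 1) =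
      Q (Pi.single i₁ 1) + Q (Pi.single j₁ 1) + polar Q (Pi.single i₁ 1) (Pi.single j₁ 1) := by
    unfold polar; ring
  rw [h3, h.s1, h.s2, h.p1]
  simp

/-- (M1) the image of the isometry group: square multiplier -/
theorem Phi_mem_O_iff (g : ↥(GO (⇑Q))) {c : F} (hc : IsMult Q (g : GL ι F) c) :
    Phi (⇑Q) g ∈ ((Cfsg.isometryGroup F (⇑Q)).subgroupOf (GO (⇑Q))).map (Phi (⇑Q)) ↔
      IsSquare c := by
  have hv := exists_Q_ne_zero h2 hQ h
  rw [Phi_mem_map_iff h2 hQ h]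
  constructor
  · rintro ⟨a, ha⟩
    rw [← isMult_one_iff] at ha
    have h1 := hc.mul (isMult_scalarGL (Q := Q) a)
    have h3 := IsMult.unique hv ha h1
    refine ⟨((a : F))⁻¹, ?_⟩
    have ha0 : (a : F) ≠ 0 := a.ne_zero
    field_simp
    rw [h3]
  · rintro ⟨s, hs⟩
    have hc0 := hc.ne_zero hv
    have hs0 : s ≠ 0 := by
      rintro rfl
      rw [mul_zero] at hs
      exact hc0 hs
    refine ⟨(Units.mk0 s hs0)⁻¹, ?_⟩
    rw [← isMult_one_iff]
    have h1 := hc.mul (isMult_scalarGL (Q := Q) (Units.mk0 s hs0)⁻¹)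
    have : c * (((Units.mk0 s hs0)⁻¹ : Fˣ) : F) ^ 2 = 1 := by
      rw [Units.val_inv_eq_inv_val, Units.val_mk0, hs]
      field_simp
    rwa [this] at h1

/-- (M2) the image of the special orthogonal group -/
theorem Phi_mem_SO_iff (g : ↥(GO (⇑Q))) {c : F} (hc : IsMult Q (g : GL ι F) c) :
    Phi (⇑Q) g ∈ ((Cfsg.specialIsometryGL F (⇑Q)).subgroupOf (GO (⇑Q))).map (Phi (⇑Q)) ↔
      ∃ s : F, c = s ^ 2 ∧ ((g : GL ι F) : Matrix ι ι F).det = s ^ Fintype.card ι := by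
  have hv := exists_Q_ne_zero h2 hQ h
  have hc0 := hc.ne_zero hv
  rw [Phi_mem_map_iff h2 hQ h]
  constructor
  · rintro ⟨a, ha⟩
    have ha0 : (a : F) ≠ 0 := a.ne_zero
    unfold Cfsg.specialIsometryGL at ha
    rw [Subgroup.mem_inf] at ha
    obtain ⟨ha1, ha2⟩ := ha
    rw [← isMult_one_iff] at ha1
    have h1 := hc.mul (isMult_scalarGL (Q := Q) a)
    have h3 := IsMult.unique hv ha1 h1
    have hdet : (((g : GL ι F) * scalarGL a : GL ι F) : Matrix ι ι F).det = 1 := by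
      have h4 : Matrix.GeneralLinearGroup.det ((g : GL ι F) * scalarGL a) = 1 := ha2
      have h5 := congrArg Units.val h4
      simpa using h5
    rw [Units.val_mul, Matrix.det_mul, det_scalarGL] at hdet
    refine ⟨((a : F))⁻¹, ?_, ?_⟩
    · field_simp
      rw [h3]
    · rw [inv_pow]
      field_simp
      exact hdet
  · rintro ⟨s, hs, hdet⟩
    have hs0 : s ≠ 0 := by
      rintro rfl
      rw [zero_pow two_ne_zero] at hs
      exact hc0 hs
    refine ⟨(Units.mk0 s hs0)⁻¹, ?_⟩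
    unfold Cfsg.specialIsometryGL
    rw [Subgroup.mem_inf]
    constructor
    · rw [← isMult_one_iff]
      have h1 := hc.mul (isMult_scalarGL (Q := Q) (Units.mk0 s hs0)⁻¹)
      have : c * (((Units.mk0 s hs0)⁻¹ : Fˣ) : F) ^ 2 = 1 := by
        rw [Units.val_inv_eq_inv_val, Units.val_mk0, hs]
        field_simp
      rwa [this] at h1
    · show Matrix.GeneralLinearGroup.det ((g : GL ι F) * scalarGL (Units.mk0 s hs0)⁻¹) = 1
      apply Units.ext
      rw [Matrix.GeneralLinearGroup.val_det_apply, Units.val_mul, Matrix.det_mul, det_scalarGL,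
        hdet, Units.val_inv_eq_inv_val, Units.val_mk0, inv_pow, Units.val_one]
      field_simp

end

end Cfsg.Agent.Helper17.ConfAut
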