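import Mathlib
import Cfsg.Agent.Lib.Helper17.ConfAut6
import Cfsg.Agent.Lib.Helper17.ConfAut4

/-!
# The chain `P_Ω ≤ P_SO ≤ P_O ≤ P_G` of images in `Aut(PΩ)` (helper17)
-/

set_option autoImplicit false
set_option linter.unusedSectionVars false

namespace Cfsg.Agent.Helper17.ConfAut
open Cfsg QuadraticMap Cfsg.Agent.Helper17.Spinor Cfsg.Agent.Helper2.Orth

variable {F : Type*} [Field F] {ι : Type} [Fintype ι] [DecidableEq ι]
  (Q : QuadraticForm F (ι → F))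

/-- the images -/
abbrev PG : Subgroup (MulAut (Cfsg.POmega F (⇑Q))) := (Phi (⇑Q)).range
abbrev PO : Subgroup (MulAut (Cfsg.POmega F (⇑Q))) :=
  ((Cfsg.isometryGroup F (⇑Q)).subgroupOf (GO (⇑Q))).map (Phi (⇑Q))
abbrev PSO : Subgroup (MulAut (Cfsg.POmega F (⇑Q))) :=
  ((Cfsg.specialIsometryGL F (⇑Q)).subgroupOf (GO (⇑Q))).map (Phi (⇑Q))
abbrev POm : Subgroup (MulAut (Cfsg.POmega F (⇑Q))) :=
  ((Geo.omegaGL (⇑Q)).subgroupOf (GO (⇑Q))).map (Phi (⇑Q))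

theorem PO_le_PG : PO Q ≤ PG Q := by
  rintro _ ⟨k, -, rfl⟩
  exact ⟨k, rfl⟩

theorem PSO_le_PO : PSO Q ≤ PO Q := by
  apply Subgroup.map_mono
  intro k hk
  rw [Subgroup.mem_subgroupOf] at hk ⊢
  exact hk.1

theorem omegaGL_le_special : Geo.omegaGL (⇑Q) ≤ Cfsg.specialIsometryGL F (⇑Q) := by
  intro g hg
  unfold Geo.omegaGL at hg
  rw [Subgroup.mem_map] at hg
  obtain ⟨o, ho, rfl⟩ := hg
  unfold Cfsg.specialIsometryGL
  rw [Subgroup.mem_inf]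
  refine ⟨o.2, ?_⟩
  exact Omega_le_special Q ho

theorem POm_le_PSO : POm Q ≤ PSO Q := by
  apply Subgroup.map_mono
  intro k hk
  rw [Subgroup.mem_subgroupOf] at hk ⊢
  exact omegaGL_le_special Q hk

/-- inclusion of the isometry group in the conformal group -/
def iO : ↥(Cfsg.isometryGroup F (⇑Q)) →* ↥(GO (⇑Q)) :=
  Subgroup.inclusion (isometryGroup_le_GO (⇑Q))

theorem iO_coe (o : ↥(Cfsg.isometryGroup F (⇑Q))) : ((iO Q o : ↥(GO (⇑Q))) : GL ι F) = o := rfl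

theorem iO_mem (o : ↥(Cfsg.isometryGroup F (⇑Q))) :
    iO Q o ∈ (Cfsg.isometryGroup F (⇑Q)).subgroupOf (GO (⇑Q)) := by
  rw [Subgroup.mem_subgroupOf]
  exact o.2

variable {Q}

theorem exists_isMult (g : ↥(GO (⇑Q))) : ∃ c : F, c ≠ 0 ∧ IsMult Q (g : GL ι F) c := by
  obtain ⟨c, hc⟩ := g.2
  exact ⟨c, c.ne_zero, hc⟩

theorem isMult_of_mem_O {k : ↥(GO (⇑Q))}
    (hk : k ∈ (Cfsg.isometryGroup F (⇑Q)).subgroupOf (GO (⇑Q))) : IsMult Q (k : GL ι F) 1 := by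
  rw [Subgroup.mem_subgroupOf] at hk
  exact isMult_one_iff.2 hk

section
variable {i₁ j₁ i₂ j₂ : ι} (h2 : (2 : F) ≠ 0) (hQ : (polarBilin Q).Nondegenerate)
  (h : TwoHyp Q i₁ j₁ i₂ j₂)
include h2 hQ h

/-- (R1) -/
theorem relIndex_PO_PG [Fintype F] {δ : ↥(GO (⇑Q))} {lam : F} (hδ : IsMult Q (δ : GL ι F) lam)
    (hlam : ¬ IsSquare lam) : (PO Q).relIndex (PG Q) = 2 := by
  classical
  have hv := exists_Q_ne_zero h2 hQ h
  rw [Subgroup.relIndex_eq_two_iff]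
  refine ⟨Phi (⇑Q) δ, ⟨δ, rfl⟩, ?_⟩
  rintro _ ⟨g, rfl⟩
  obtain ⟨c, hc0, hc⟩ := exists_isMult g
  rw [← map_mul, Phi_mem_O_iff h2 hQ h (g * δ) (by rw [Subgroup.coe_mul]; exact hc.mul hδ),
    Phi_mem_O_iff h2 hQ h g hc, Cfsg.Agent.Helper13.isSquare_mul_nonsquare hc0 hlam]
  by_cases hsq : IsSquare c
  · exact Or.inr ⟨hsq, fun hn => hn hsq⟩
  · exact Or.inl ⟨hsq, hsq⟩

theorem det_of_mem_O (hcard : Even (Fintype.card ι)) {k : GL ι F}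
    (hk : IsMult Q k 1) : (k : Matrix ι ι F).det = 1 ∨ (k : Matrix ι ι F).det = -1 := by
  have := hk.det_sq hQ
  rw [one_pow] at this
  exact sq_eq_one_iff.1 this


omit h2 h in
theorem exists_sq_iff_det_eq_one (hcard : Even (Fintype.card ι)) {k : GL ι F}
    (hk : IsMult Q k 1) :
    (∃ s : F, (1 : F) = s ^ 2 ∧ (k : Matrix ι ι F).det = s ^ Fintype.card ι) ↔
      (k : Matrix ι ι F).det = 1 := by
  obtain ⟨n, hn⟩ := hcard
  constructor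
  · rintro ⟨s, hs, hdet⟩
    rw [hdet, hn, ← two_mul, pow_mul, ← hs, one_pow]
  · intro hdet
    exact ⟨1, by ring, by rw [hdet, one_pow]⟩

/-- (R2) -/
theorem relIndex_PSO_PO (hcard : Even (Fintype.card ι)) {u : ι → F} (hu : Q u ≠ 0) :
    (PSO Q).relIndex (PO Q) = 2 := by
  rw [Subgroup.relIndex_eq_two_iff]
  refine ⟨Phi (⇑Q) (iO Q (rG Q h2 u)), ⟨iO Q (rG Q h2 u), iO_mem Q _, rfl⟩, ?_⟩
  rintro _ ⟨k, hk, rfl⟩
  have hk1 := isMult_of_mem_O hk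
  have hr1 : IsMult Q ((iO Q (rG Q h2 u) : ↥(GO (⇑Q))) : GL ι F) 1 :=
    isMult_of_mem_O (iO_mem Q _)
  have hkr : IsMult Q ((k * iO Q (rG Q h2 u) : ↥(GO (⇑Q))) : GL ι F) 1 := by
    have := hk1.mul hr1
    rwa [mul_one] at this
  rw [← map_mul, Phi_mem_SO_iff h2 hQ h _ hkr, Phi_mem_SO_iff h2 hQ h _ hk1,
    exists_sq_iff_det_eq_one hQ hcard hkr, exists_sq_iff_det_eq_one hQ hcard hk1]
  have hdet : (((k * iO Q (rG Q h2 u) : ↥(GO (⇑Q))) : GL ι F) : Matrix ι ι F).det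
      = -((k : GL ι F) : Matrix ι ι F).det := by
    rw [Subgroup.coe_mul, Units.val_mul, Matrix.det_mul, iO_coe, rG_coe Q h2 hu,
      det_reflectionMatrix Q hu]
    ring
  rw [hdet]
  have hne : (-1 : F) ≠ 1 := neg_one_ne_one_of_two_ne_zero h2
  rcases det_of_mem_O h2 hQ h hcard hk1 with h1 | h1
  · rw [h1]
    exact Or.inr ⟨rfl, hne⟩
  · rw [h1, neg_neg]
    exact Or.inl ⟨rfl, hne⟩

/-- (E1) squares land in the image of `SO` -/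
theorem sq_mem_PSO {a : MulAut (Cfsg.POmega F (⇑Q))} (ha : a ∈ PG Q) : a * a ∈ PSO Q := by
  obtain ⟨g, rfl⟩ := ha
  obtain ⟨c, hc0, hc⟩ := exists_isMult g
  have hgg : IsMult Q ((g * g : ↥(GO (⇑Q))) : GL ι F) (c * c) := by
    rw [Subgroup.coe_mul]; exact hc.mul hc
  rw [← map_mul, Phi_mem_SO_iff h2 hQ h _ hgg]
  refine ⟨c, by ring, ?_⟩
  rw [Subgroup.coe_mul, Units.val_mul, Matrix.det_mul, ← pow_two, hc.det_sq hQ]

omit h2 hQ h in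
/-- (N) the image of `SO` is normal in the image of `GO` -/
theorem PSO_normal : ((PSO Q).subgroupOf (PG Q)).Normal := by
  constructor
  rintro ⟨n, hnG⟩ hn ⟨g, hgG⟩
  rw [Subgroup.mem_subgroupOf] at hn ⊢
  obtain ⟨k, hk, rfl⟩ := hn
  obtain ⟨x, rfl⟩ := hgG
  show Phi (⇑Q) x * Phi (⇑Q) k * (Phi (⇑Q) x)⁻¹ ∈ PSO Q
  rw [← map_inv, ← map_mul, ← map_mul]
  refine ⟨x * k * x⁻¹, ?_, rfl⟩
  rw [SetLike.mem_coe, Subgroup.mem_subgroupOf] at hk ⊢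
  unfold Cfsg.specialIsometryGL at hk ⊢
  rw [Subgroup.mem_inf] at hk ⊢
  obtain ⟨hk1, hk2⟩ := hk
  constructor
  · have := conj_mem_isometryGroup (⇑Q) x.2 hk1
    exact this
  · have hk3 : Matrix.GeneralLinearGroup.det (k : GL ι F) = 1 := hk2
    show Matrix.GeneralLinearGroup.det ((x * k * x⁻¹ : ↥(GO (⇑Q))) : GL ι F) = 1
    rw [Subgroup.coe_mul, Subgroup.coe_mul, Subgroup.coe_inv, map_mul, map_mul, hk3, map_inv]
    simp

end

end Cfsg.Agent.Helper17.ConfAut
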