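import Mathlib
import Cfsg.Agent.Lib.Helper17.ConfAut7
import Cfsg.Agent.Lib.Helper17.SpinorIndex

/-!
# The image of `Ω` in the image of `SO`, and the structure of the quotients (helper17)
-/

set_option autoImplicit false
set_option linter.unusedSectionVars false

namespace Cfsg.Agent.Helper17.ConfAut
open Cfsg QuadraticMap Cfsg.Agent.Helper17.Spinor Cfsg.Agent.Helper2.Orth

theorem mul_mem_iff_of_relIndex_two {G : Type*} [Group G] {H K : Subgroup G}
    (h : H.relIndex K = 2) {a b : G} (ha : a ∈ K) (hb : b ∈ K) :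
    a * b ∈ H ↔ (a ∈ H ↔ b ∈ H) := by
  have := Subgroup.mul_mem_iff_of_index_two (H := H.subgroupOf K) h (a := ⟨a, ha⟩) (b := ⟨b, hb⟩)
  simpa [Subgroup.mem_subgroupOf] using this

theorem inn_normal (G : Type*) [Group G] : (Cfsg.Inn G).Normal := by
  constructor
  rintro _ ⟨g, rfl⟩ α
  refine ⟨α g, ?_⟩
  ext x
  simp [MulAut.conj_apply]

variable {F : Type*} [Field F] {ι : Type} [Fintype ι] [DecidableEq ι]
  {Q : QuadraticForm F (ι → F)}

theorem specialIsometryGL_eq_map : Cfsg.specialIsometryGL F (⇑Q)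
    = (Cfsg.specialIsometryGroup F (⇑Q)).map (Cfsg.isometryGroup F (⇑Q)).subtype := by
  ext g
  unfold Cfsg.specialIsometryGL
  rw [Subgroup.mem_inf, Subgroup.mem_map]
  constructor
  · rintro ⟨h1, h2⟩
    exact ⟨⟨g, h1⟩, h2, rfl⟩
  · rintro ⟨o, ho, rfl⟩
    exact ⟨o.2, ho⟩

theorem relIndex_omegaGL [Fintype F] (h2 : (2 : F) ≠ 0) (hQ : (polarBilin Q).Nondegenerate)
    (hn : 2 ≤ Fintype.card ι) :
    (Geo.omegaGL (⇑Q)).relIndex (Cfsg.specialIsometryGL F (⇑Q)) = 2 := by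
  rw [specialIsometryGL_eq_map]
  unfold Geo.omegaGL
  rw [Subgroup.relIndex_map_map_of_injective _ _ (Subgroup.subtype_injective _)]
  exact relIndex_Omega_special Q h2 hQ hn

/-- `-1` as an element of `GL` -/
abbrev negGL : GL ι F := scalarGL (-1)

theorem negGL_mul_self : (negGL : GL ι F) * negGL = 1 := by
  rw [← scalarGL_mul]
  simp [scalarGL]

theorem negGL_mem_special (hcard : Even (Fintype.card ι)) :
    (negGL : GL ι F) ∈ Cfsg.specialIsometryGL F (⇑Q) := by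
  unfold Cfsg.specialIsometryGL
  rw [Subgroup.mem_inf]
  constructor
  · rw [← isMult_one_iff]
    have := isMult_scalarGL (Q := Q) (-1)
    simpa using this
  · show Matrix.GeneralLinearGroup.det (negGL : GL ι F) = 1
    apply Units.ext
    rw [Matrix.GeneralLinearGroup.val_det_apply, det_scalarGL]
    simp [hcard.neg_one_pow]

section
variable {i₁ j₁ i₂ j₂ : ι} (h2 : (2 : F) ≠ 0) (hQ : (polarBilin Q).Nondegenerate)
  (h : TwoHyp Q i₁ j₁ i₂ j₂)
include h2 hQ h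

/-- (M3) the image of `Ω`, for isometries -/
theorem Phi_mem_POm_iff (k : ↥(GO (⇑Q))) (hk : IsMult Q (k : GL ι F) 1) :
    Phi (⇑Q) k ∈ POm Q ↔
      ((k : GL ι F) ∈ Geo.omegaGL (⇑Q) ∨ (k : GL ι F) * negGL ∈ Geo.omegaGL (⇑Q)) := by
  have hv := exists_Q_ne_zero h2 hQ h
  rw [Phi_mem_map_iff h2 hQ h]
  constructor
  · rintro ⟨a, ha⟩
    have h1 : IsMult Q ((k : GL ι F) * scalarGL a) 1 :=
      isMult_one_iff.2 (omegaGL_le_isometryGroup (⇑Q) ha)
    have h3 := hk.mul (isMult_scalarGL (Q := Q) a)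
    have h4 := IsMult.unique hv h1 h3
    rw [one_mul] at h4
    have h5 : (a : F) = 1 ∨ (a : F) = -1 := sq_eq_one_iff.1 h4.symm
    rcases h5 with h5 | h5
    · left
      have : a = 1 := Units.ext h5
      rw [this] at ha
      have h6 : (scalarGL (1 : Fˣ) : GL ι F) = 1 := map_one _
      rwa [h6, mul_one] at ha
    · right
      have : a = -1 := Units.ext (by rw [h5]; simp)
      rw [this] at ha
      exact ha
  · rintro (hk1 | hk1)
    · refine ⟨1, ?_⟩
      have h6 : (scalarGL (1 : Fˣ) : GL ι F) = 1 := map_one _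
      rwa [h6, mul_one]
    · exact ⟨-1, hk1⟩

theorem isMult_of_mem_special {k : ↥(GO (⇑Q))}
    (hk : k ∈ (Cfsg.specialIsometryGL F (⇑Q)).subgroupOf (GO (⇑Q))) :
    IsMult Q (k : GL ι F) 1 := by
  rw [Subgroup.mem_subgroupOf] at hk
  unfold Cfsg.specialIsometryGL at hk
  rw [Subgroup.mem_inf] at hk
  exact isMult_one_iff.2 hk.1

/-- (R3a) if `-1 ∈ Ω` the image of `Ω` has index two in the image of `SO` -/
theorem relIndex_POm_PSO_of_mem [Fintype F] (hcard : Even (Fintype.card ι))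
    (hneg : (negGL : GL ι F) ∈ Geo.omegaGL (⇑Q)) : (POm Q).relIndex (PSO Q) = 2 := by
  have hn : 2 ≤ Fintype.card ι := by
    have hne : Nonempty ι := ⟨i₁⟩
    have : Fintype.card ι ≠ 0 := Fintype.card_ne_zero
    have : Fintype.card ι ≠ 1 := by
      intro h1
      rw [h1] at hcard
      exact absurd hcard (by decide)
    omega
  have hidx := relIndex_omegaGL h2 hQ hn
  have hiff : ∀ x : GL ι F, x * negGL ∈ Geo.omegaGL (⇑Q) ↔ x ∈ Geo.omegaGL (⇑Q) :=
    fun x => Subgroup.mul_mem_cancel_right _ hneg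
  -- an element of `SO` outside `Ω`
  obtain ⟨s₀, hs₀, hs₀'⟩ : ∃ s₀ ∈ Cfsg.specialIsometryGL F (⇑Q), s₀ ∉ Geo.omegaGL (⇑Q) := by
    by_contra hcon
    push Not at hcon
    have : (Geo.omegaGL (⇑Q)).relIndex (Cfsg.specialIsometryGL F (⇑Q)) = 1 :=
      Subgroup.relIndex_eq_one.2 hcon
    omega
  rw [Subgroup.relIndex_eq_two_iff]
  have hs₀G : s₀ ∈ GO (⇑Q) := specialIsometryGL_le_GO (⇑Q) hs₀
  have hs₀m : (⟨s₀, hs₀G⟩ : ↥(GO (⇑Q))) ∈
      (Cfsg.specialIsometryGL F (⇑Q)).subgroupOf (GO (⇑Q)) := by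
    rw [Subgroup.mem_subgroupOf]; exact hs₀
  refine ⟨Phi (⇑Q) ⟨s₀, hs₀G⟩, ⟨_, hs₀m, rfl⟩, ?_⟩
  rintro _ ⟨k, hk, rfl⟩
  have hk1 := isMult_of_mem_special h2 hQ h hk
  have hs1 := isMult_of_mem_special h2 hQ h hs₀m
  have hks : IsMult Q ((k * ⟨s₀, hs₀G⟩ : ↥(GO (⇑Q))) : GL ι F) 1 := by
    have := hk1.mul hs1
    rwa [mul_one] at this
  rw [← map_mul, Phi_mem_POm_iff h2 hQ h _ hks, Phi_mem_POm_iff h2 hQ h _ hk1, hiff, hiff,
    or_self, or_self, Subgroup.coe_mul]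
  rw [SetLike.mem_coe, Subgroup.mem_subgroupOf] at hk
  rw [mul_mem_iff_of_relIndex_two hidx hk hs₀]
  by_cases hkO : (k : GL ι F) ∈ Geo.omegaGL (⇑Q)
  · exact Or.inr ⟨hkO, fun hc => hs₀' (hc.1 hkO)⟩
  · exact Or.inl ⟨⟨fun hc => absurd hc hkO, fun hc => absurd hc hs₀'⟩, hkO⟩

/-- (R3b) if `-1 ∉ Ω` the images of `Ω` and `SO` coincide -/
theorem PSO_le_POm_of_not_mem [Fintype F] (hcard : Even (Fintype.card ι))
    (hneg : (negGL : GL ι F) ∉ Geo.omegaGL (⇑Q)) : PSO Q ≤ POm Q := by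
  have hn : 2 ≤ Fintype.card ι := by
    have hne : Nonempty ι := ⟨i₁⟩
    have : Fintype.card ι ≠ 0 := Fintype.card_ne_zero
    have : Fintype.card ι ≠ 1 := by
      intro h1
      rw [h1] at hcard
      exact absurd hcard (by decide)
    omega
  have hidx := relIndex_omegaGL h2 hQ hn
  rintro _ ⟨k, hk, rfl⟩
  have hk1 := isMult_of_mem_special h2 hQ h hk
  rw [Phi_mem_POm_iff h2 hQ h _ hk1]
  rw [SetLike.mem_coe, Subgroup.mem_subgroupOf] at hk
  by_cases hkO : (k : GL ι F) ∈ Geo.omegaGL (⇑Q)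
  · exact Or.inl hkO
  · right
    rw [mul_mem_iff_of_relIndex_two hidx hk (negGL_mem_special hcard)]
    exact ⟨fun hc => absurd hc hkO, fun hc => absurd hc hneg⟩

end

end Cfsg.Agent.Helper17.ConfAut
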