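import Mathlib
import Cfsg.Agent.Lib.Helper17.ConfAut8
import Cfsg.Agent.Lib.Helper17.OmegaElts

/-!
# Structure of the quotients of the images of `GO`, `SO`, `Ω` in `Aut(PΩ)` (helper17)
-/

set_option autoImplicit false
set_option linter.unusedSectionVars false

namespace Cfsg.Agent.Helper17.ConfAut
open Cfsg QuadraticMap Cfsg.Agent.Helper17.Spinor Cfsg.Agent.Helper2.Orth

variable {F : Type*} [Field F] {ι : Type} [Fintype ι] [DecidableEq ι]
  {Q : QuadraticForm F (ι → F)}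

/-- conjugating a reflection by a similarity -/
theorem conj_reflectionMatrix {g : GL ι F} {c : F} (hc0 : c ≠ 0) (hc : IsMult Q g c)
    {u : ι → F} (hu : Q u ≠ 0) :
    (g : Matrix ι ι F) * Cfsg.reflectionMatrix (⇑Q) u * ((g⁻¹ : GL ι F) : Matrix ι ι F)
      = Cfsg.reflectionMatrix (⇑Q) ((g : Matrix ι ι F).mulVec u) := by
  apply Matrix.toLin'.injective
  apply LinearMap.ext
  intro x
  rw [Matrix.toLin'_mul, Matrix.toLin'_mul, toLin'_reflectionMatrix, toLin'_reflectionMatrix]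
  simp only [LinearMap.comp_apply, Matrix.toLin'_apply]
  rw [refl_apply, refl_apply, Matrix.mulVec_sub, Matrix.mulVec_smul, Matrix.mulVec_mulVec,
    ← Units.val_mul, mul_inv_cancel, Units.val_one, Matrix.one_mulVec]
  have h1 : polar Q ((g : Matrix ι ι F).mulVec u) x
      = c * polar Q u (((g⁻¹ : GL ι F) : Matrix ι ι F).mulVec x) := by
    rw [← hc.polar, Matrix.mulVec_mulVec, ← Units.val_mul, mul_inv_cancel, Units.val_one,
      Matrix.one_mulVec]
  rw [h1, hc u]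
  congr 2
  field_simp

section
variable {i₁ j₁ i₂ j₂ : ι} (h2 : (2 : F) ≠ 0) (hQ : (polarBilin Q).Nondegenerate)
  (h : TwoHyp Q i₁ j₁ i₂ j₂)
include h2 hQ h

theorem two_le_card (hcard : Even (Fintype.card ι)) : 2 ≤ Fintype.card ι := by
  have hne : Nonempty ι := ⟨i₁⟩
  have : Fintype.card ι ≠ 0 := Fintype.card_ne_zero
  have : Fintype.card ι ≠ 1 := by
    intro h1
    rw [h1] at hcard
    exact absurd hcard (by decide)
  omega

/-- the index of the image of `SO` in the image of `GO` -/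
theorem relIndex_PSO_PG [Fintype F] (hcard : Even (Fintype.card ι))
    {δ : ↥(GO (⇑Q))} {lam : F} (hδ : IsMult Q (δ : GL ι F) lam) (hlam : ¬ IsSquare lam) :
    (PSO Q).relIndex (PG Q) = 4 := by
  obtain ⟨u, hu⟩ := exists_Q_ne_zero h2 hQ h
  rw [← Subgroup.relIndex_mul_relIndex (PSO Q) (PO Q) (PG Q) (PSO_le_PO Q) (PO_le_PG Q),
    relIndex_PSO_PO h2 hQ h hcard hu, relIndex_PO_PG h2 hQ h hδ hlam]

/-- **(T1)** the image of `GO` modulo the image of `SO` is a Klein four group -/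
theorem klein_PG_PSO [Fintype F] (hcard : Even (Fintype.card ι))
    {δ : ↥(GO (⇑Q))} {lam : F} (hδ : IsMult Q (δ : GL ι F) lam) (hlam : ¬ IsSquare lam) :
    ∃ φ : ↥(PG Q) →* Multiplicative (ZMod 2 × ZMod 2),
      Function.Surjective φ ∧ φ.ker = (PSO Q).subgroupOf (PG Q) := by
  have := PSO_normal (Q := Q)
  apply exists_hom_of_quotient_equiv
  apply klein_of_card_of_sq
  · rw [card_quotient_subgroupOf, relIndex_PSO_PG h2 hQ h hcard hδ hlam]
  · intro x
    induction x using QuotientGroup.induction_on with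
    | H a =>
      rw [← QuotientGroup.mk_mul, QuotientGroup.eq_one_iff, Subgroup.mem_subgroupOf]
      exact sq_mem_PSO h2 hQ h a.2

theorem Phi_rG_notMem_PSO (hcard : Even (Fintype.card ι)) {u : ι → F} (hu : Q u ≠ 0) :
    Phi (⇑Q) (iO Q (rG Q h2 u)) ∉ PSO Q := by
  have hr1 : IsMult Q ((iO Q (rG Q h2 u) : ↥(GO (⇑Q))) : GL ι F) 1 :=
    isMult_of_mem_O (iO_mem Q _)
  rw [Phi_mem_SO_iff h2 hQ h _ hr1, exists_sq_iff_det_eq_one hQ hcard hr1, iO_coe,
    rG_coe Q h2 hu, det_reflectionMatrix Q hu]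
  exact neg_one_ne_one_of_two_ne_zero h2

theorem Phi_rG_mul_rG_notMem_POm [Fintype F] (hneg : (negGL : GL ι F) ∈ Geo.omegaGL (⇑Q))
    {u w : ι → F} (hu : Q u ≠ 0) (hw : Q w ≠ 0) (huw : ¬ IsSquare (Q u * Q w)) :
    Phi (⇑Q) (iO Q (rG Q h2 u * rG Q h2 w)) ∉ POm Q := by
  have hr1 : IsMult Q ((iO Q (rG Q h2 u * rG Q h2 w) : ↥(GO (⇑Q))) : GL ι F) 1 :=
    isMult_of_mem_O (iO_mem Q _)
  rw [Phi_mem_POm_iff h2 hQ h _ hr1, Subgroup.mul_mem_cancel_right _ hneg, or_self, iO_coe,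
    Cfsg.Agent.Helper17.OmegaElts.mem_omegaGL_iff]
  rintro ⟨o, ho, hoe⟩
  have : o = rG Q h2 u * rG Q h2 w := Subtype.ext hoe
  rw [this] at ho
  have hvs : ∀ v ∈ [u, w], Q v ≠ 0 := by
    intro v hv
    simp only [List.mem_cons, List.not_mem_nil, or_false] at hv
    rcases hv with rfl | rfl
    · exact hu
    · exact hw
  have h3 := (prod_rG_mem_Omega_iff Q h2 hQ [u, w] hvs).1 (by simpa using ho)
  apply huw
  simpa using h3.2

/-- **(T3)** if `-1 ∈ Ω`, the image of `GO` modulo the image of `Ω` is dihedral of order `8` -/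
theorem d4_PG_POm [Fintype F] (hcard : Even (Fintype.card ι))
    {δ : ↥(GO (⇑Q))} {lam : F} (hδ : IsMult Q (δ : GL ι F) lam) (hlam : ¬ IsSquare lam)
    (hneg : (negGL : GL ι F) ∈ Geo.omegaGL (⇑Q)) :
    ∃ φ : ↥(PG Q) →* DihedralGroup 4,
      Function.Surjective φ ∧ φ.ker = (POm Q).subgroupOf (PG Q) := by
  classical
  have hlam0 : lam ≠ 0 := by
    rintro rfl
    exact hlam ⟨0, by ring⟩
  have hnorm : (POm Q).Normal := by
    have := inn_normal (Cfsg.POmega F (⇑Q))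
    rw [inn_eq] at this
    exact this
  obtain ⟨u, hu⟩ := exists_Q_ne_zero h2 hQ h
  set w : ι → F := ((δ : GL ι F) : Matrix ι ι F).mulVec u with hw
  have hQw : Q w = lam * Q u := hδ u
  have hw0 : Q w ≠ 0 := by rw [hQw]; exact mul_ne_zero hlam0 hu
  have huw : ¬ IsSquare (Q u * Q w) := by
    rw [hQw]
    have : Q u * (lam * Q u) = (Q u * Q u) * lam := by ring
    rw [this, Cfsg.Agent.Helper13.isSquare_mul_nonsquare (mul_ne_zero hu hu) hlam]
    exact fun hn => hn ⟨Q u, rfl⟩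
  -- the conjugation relation
  have hconj : iO Q (rG Q h2 w) = δ * iO Q (rG Q h2 u) * δ⁻¹ := by
    apply Subtype.ext
    apply Units.ext
    rw [Subgroup.coe_mul, Subgroup.coe_mul, Subgroup.coe_inv, Units.val_mul, Units.val_mul,
      iO_coe, iO_coe, rG_coe Q h2 hw0, rG_coe Q h2 hu, conj_reflectionMatrix hlam0 hδ hu]
  apply exists_hom_of_quotient_equiv
  set π := QuotientGroup.mk' ((POm Q).subgroupOf (PG Q)) with hπ
  set x := π ((Phi (⇑Q)).rangeRestrict δ) with hx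
  set s := π ((Phi (⇑Q)).rangeRestrict (iO Q (rG Q h2 u))) with hs
  set t := π ((Phi (⇑Q)).rangeRestrict (iO Q (rG Q h2 w))) with ht
  have hπ1 : ∀ g : ↥(GO (⇑Q)), π ((Phi (⇑Q)).rangeRestrict g) = 1 ↔ Phi (⇑Q) g ∈ POm Q := by
    intro g
    rw [hπ, QuotientGroup.mk'_apply, QuotientGroup.eq_one_iff, Subgroup.mem_subgroupOf]
    rfl
  have hxs : x * s * x⁻¹ = t := by
    rw [hx, hs, ht, ← map_inv, ← map_mul, ← map_mul, ← map_inv, ← map_mul, ← map_mul, hconj]
  have hss : s * s = 1 := by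
    rw [hs, ← map_mul, ← map_mul, ← map_mul, rG_mul_self Q h2 hu, map_one, map_one, map_one]
  have htt : t * t = 1 := by
    rw [ht, ← map_mul, ← map_mul, ← map_mul, rG_mul_self Q h2 hw0, map_one, map_one, map_one]
  have hs1 : s ≠ 1 := by
    rw [hs, Ne, hπ1]
    exact fun hc => Phi_rG_notMem_PSO h2 hQ h hcard hu (POm_le_PSO Q hc)
  have ht1 : t ≠ 1 := by
    rw [ht, Ne, hπ1]
    exact fun hc => Phi_rG_notMem_PSO h2 hQ h hcard hw0 (POm_le_PSO Q hc)
  have hst : s ≠ t := by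
    intro hc
    have h1 : s * t = 1 := by rw [← hc]; exact hss
    rw [hs, ht, ← map_mul, ← map_mul, ← map_mul, hπ1] at h1
    exact Phi_rG_mul_rG_notMem_POm h2 hQ h hneg hu hw0 huw h1
  apply d4_of_card_of_involutions _ ⟨x, s, ?_⟩ hss htt hs1 ht1 hst
  · rw [card_quotient_subgroupOf,
      ← Subgroup.relIndex_mul_relIndex (POm Q) (PSO Q) (PG Q) (POm_le_PSO Q)
        (le_trans (PSO_le_PO Q) (PO_le_PG Q)),
      relIndex_POm_PSO_of_mem h2 hQ h hcard hneg, relIndex_PSO_PG h2 hQ h hcard hδ hlam]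
  · intro hc
    apply hst
    rw [← hxs, hc, mul_inv_cancel_right]

/-- **(T3')** if `-1 ∉ Ω`, the image of `GO` modulo the image of `Ω` is a Klein four group -/
theorem klein_PG_POm [Fintype F] (hcard : Even (Fintype.card ι))
    {δ : ↥(GO (⇑Q))} {lam : F} (hδ : IsMult Q (δ : GL ι F) lam) (hlam : ¬ IsSquare lam)
    (hneg : (negGL : GL ι F) ∉ Geo.omegaGL (⇑Q)) :
    ∃ φ : ↥(PG Q) →* Multiplicative (ZMod 2 × ZMod 2),
      Function.Surjective φ ∧ φ.ker = (POm Q).subgroupOf (PG Q) := by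
  have heq : POm Q = PSO Q :=
    le_antisymm (POm_le_PSO Q) (PSO_le_POm_of_not_mem h2 hQ h hcard hneg)
  rw [heq]
  exact klein_PG_PSO h2 hQ h hcard hδ hlam

end

end Cfsg.Agent.Helper17.ConfAut
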