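import Mathlib
import Cfsg.Agent.Lib.Helper17.ConfAut9

/-!
# Existence of similarities with non-square multiplier (helper17)
-/

set_option autoImplicit false
set_option linter.unusedSectionVars false

namespace Cfsg.Agent.Helper17.ConfAut
open Cfsg QuadraticMap Cfsg.Agent.Helper17.Spinor Cfsg.Agent.Helper2.Orth

variable {F : Type*} [Field F] [Fintype F] {ι : Type} [Fintype ι] [DecidableEq ι]
  {Q : QuadraticForm F (ι → F)}

/-- in even dimension every non-zero scalar is the multiplier of a similarity -/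
theorem exists_isMult_of_even (h2 : (2 : F) ≠ 0) (hQ : (polarBilin Q).Nondegenerate)
    (hcard : Even (Fintype.card ι)) {lam : F} (hlam : lam ≠ 0) :
    ∃ δ : ↥(GO (⇑Q)), IsMult Q (δ : GL ι F) lam := by
  have hl : lam⁻¹ ≠ 0 := inv_ne_zero hlam
  have hQ2 : (polarBilin (lam⁻¹ • Q)).Nondegenerate := nondegenerate_smul Q hl hQ
  set b := Pi.basisFun F ι with hb
  have hgram : (Matrix.of fun i j => polar (lam⁻¹ • Q) (b i) (b j))
      = lam⁻¹ • (Matrix.of fun i j => polar Q (b i) (b j)) := by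
    ext i j
    simp only [Matrix.of_apply, Matrix.smul_apply, smul_eq_mul]
    unfold polar
    simp only [_root_.smul_apply, smul_eq_mul]
    ring
  obtain ⟨n, hn⟩ := hcard
  obtain ⟨g, hg⟩ := Cfsg.Agent.Helper13.equiv_of_disc_idx h2 Q (lam⁻¹ • Q) hQ hQ2 b b rfl (by
    rw [hgram, Matrix.det_smul, hn]
    refine ⟨lam⁻¹ ^ n * (Matrix.of fun i j => polar Q (b i) (b j)).det, ?_⟩
    ring)
  have hg' : ∀ v, Q (g v) = lam * Q v := by
    intro v
    have := hg v
    rw [_root_.smul_apply, smul_eq_mul] at this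
    rw [← this]
    field_simp
  set M : Matrix ι ι F := LinearMap.toMatrix' (g : (ι → F) →ₗ[F] (ι → F)) with hM
  set M' : Matrix ι ι F := LinearMap.toMatrix' (g.symm : (ι → F) →ₗ[F] (ι → F)) with hM'
  have h1 : M * M' = 1 := by
    rw [hM, hM', ← LinearMap.toMatrix'_comp, LinearEquiv.comp_coe, LinearEquiv.symm_trans_self,
      LinearEquiv.refl_toLinearMap, LinearMap.toMatrix'_id]
  have h1' : M' * M = 1 := by
    rw [hM, hM', ← LinearMap.toMatrix'_comp, LinearEquiv.comp_coe, LinearEquiv.self_trans_symm,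
      LinearEquiv.refl_toLinearMap, LinearMap.toMatrix'_id]
  have hmult : IsMult Q (⟨M, M', h1, h1'⟩ : GL ι F) lam := by
    intro v
    show Q (M.mulVec v) = lam * Q v
    rw [hM, LinearMap.toMatrix'_mulVec]
    exact hg' v
  exact ⟨⟨⟨M, M', h1, h1'⟩, hmult.mem_GO hlam⟩, hmult⟩

theorem exists_delta (h2 : (2 : F) ≠ 0) (hQ : (polarBilin Q).Nondegenerate)
    (hcard : Even (Fintype.card ι)) :
    ∃ (δ : ↥(GO (⇑Q))) (lam : F), IsMult Q (δ : GL ι F) lam ∧ ¬ IsSquare lam := by
  have hchar : ringChar F ≠ 2 := by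
    intro h
    have : CharP F 2 := ringChar.of_eq h
    exact h2 CharTwo.two_eq_zero
  obtain ⟨t, ht⟩ := FiniteField.exists_nonsquare hchar
  have ht0 : t ≠ 0 := by
    rintro rfl
    exact ht ⟨0, by ring⟩
  obtain ⟨δ, hδ⟩ := exists_isMult_of_even h2 hQ hcard ht0
  exact ⟨δ, t, hδ, ht⟩

end Cfsg.Agent.Helper17.ConfAut
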