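import Mathlib
import Cfsg.Prelude.Def_Classical
import Cfsg.Prelude.Def_ClassicalGeometry
import Cfsg.Agent.Lib.Helper17.SpinorDisc

/-!
# `-1` and the commutator subgroup of an orthogonal group, general index type (helper17)
-/

set_option autoImplicit false

namespace Cfsg.Agent.Helper17.Spinor
open Cfsg QuadraticMap

/-- **`-1` and the discriminant** (any index type): in even dimension over a finite field of odd
order, `-1` lies in the commutator subgroup of the orthogonal group iff the discriminant is a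
square. -/
theorem exists_mem_Omega_neg_one_iff' {F : Type*} [Field F] [Fintype F] (h2 : (2 : F) ≠ 0)
    {ι : Type} [Fintype ι] [DecidableEq ι] (he : Even (Fintype.card ι))
    (Q : QuadraticForm F (ι → F)) (hQ : (QuadraticMap.polarBilin Q).Nondegenerate) :
    (∃ g : ↥(Cfsg.isometryGroup F (⇑Q)), g ∈ Cfsg.Omega F (⇑Q) ∧
      ((g : Matrix.GeneralLinearGroup ι F) : Matrix ι ι F) = -1) ↔
    IsSquare (Matrix.of (fun i j : ι =>
      QuadraticMap.polar (⇑Q) (Pi.single i 1) (Pi.single j 1))).det := by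
  obtain ⟨n, hn⟩ : ∃ n, n = Fintype.card ι := ⟨_, rfl⟩
  rw [← hn] at he
  obtain ⟨c, horth, -⟩ := Cfsg.Agent.Helper13.exists_normal_basis h2 n (ι → F) Q hQ
    (by rw [Module.finrank_fintype_fun_eq_card, hn])
  have hgram := Cfsg.Agent.Helper13.gram_det_orth Q c horth
  have hgne := Cfsg.Agent.Helper13.gram_det_ne_zero Q c hQ
  have hne : ∀ i, Q (c i) ≠ 0 := by
    intro i h0
    apply hgne
    rw [hgram]
    apply Finset.prod_eq_zero (Finset.mem_univ i)
    rw [h0, mul_zero]
  have e : Fin n ≃ ι := (Fintype.equivFinOfCardEq hn.symm).symm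
  have hbasis := Cfsg.Agent.Helper13.gram_det_basis Q (Pi.basisFun F ι) (c.reindex e)
  rw [Cfsg.Agent.Helper13.gram_det_reindex Q c e] at hbasis
  have hstd : (Matrix.of fun i j : ι =>
      polar (⇑Q) (Pi.basisFun F ι i) (Pi.basisFun F ι j))
      = Matrix.of (fun i j : ι => QuadraticMap.polar (⇑Q) (Pi.single i 1) (Pi.single j 1)) := by
    ext i j
    simp [Pi.basisFun_apply]
  rw [hstd, hgram, Finset.prod_mul_distrib, Finset.prod_const, Finset.card_univ, Fintype.card_fin]
    at hbasis
  set D := (Matrix.of (fun i j : ι =>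
    QuadraticMap.polar (⇑Q) (Pi.single i 1) (Pi.single j 1))).det with hD
  set P := ((Pi.basisFun F ι).toMatrix (c.reindex e)).det with hP
  have hP0 : P ≠ 0 := by
    intro h0
    apply hgne
    rw [hgram, Finset.prod_mul_distrib, Finset.prod_const, Finset.card_univ, Fintype.card_fin,
      hbasis, h0]
    ring
  obtain ⟨k, hk⟩ := he
  have h2k : (2 : F) ^ k ≠ 0 := pow_ne_zero _ h2
  have hvs : ∀ v ∈ List.ofFn c, Q v ≠ 0 := by
    intro v hv
    rw [List.mem_ofFn] at hv
    obtain ⟨i, rfl⟩ := hv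
    exact hne i
  have hprodQ : ((List.ofFn c).map (fun v => Q v)).prod = ∏ i, Q (c i) := by
    rw [List.map_ofFn, List.prod_ofFn]
    rfl
  have hmat : ((List.ofFn c).map (fun v => Cfsg.reflectionMatrix (⇑Q) v)).prod = -1 := by
    apply Matrix.toLin'.injective
    rw [toLin'_prod_reflectionMatrix, prod_refl_basis Q h2 c horth hne, map_neg, Matrix.toLin'_one]
    rfl
  have hiff : IsSquare (∏ i, Q (c i)) ↔ IsSquare D := by
    constructor
    · rintro ⟨s, hs⟩
      refine ⟨2 ^ k * s / P, ?_⟩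
      have : D = 2 ^ n * (∏ i, Q (c i)) / P ^ 2 := by
        rw [hbasis]; field_simp
      rw [this, hs, hk]
      field_simp
      ring
    · rintro ⟨s, hs⟩
      refine ⟨P * s / 2 ^ k, ?_⟩
      have : (∏ i, Q (c i)) = P ^ 2 * D / 2 ^ n := by
        rw [← hbasis]; field_simp
      rw [this, hs, hk]
      field_simp
      ring
  rw [← hiff, ← hprodQ]
  constructor
  · rintro ⟨g, hgO, hg⟩
    exact ((mem_Omega_iff Q h2 hQ g (List.ofFn c) hvs (hg.trans hmat.symm)).1 hgO).2
  · intro hsq
    refine ⟨((List.ofFn c).map (rG Q h2)).prod, ?_, ?_⟩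
    · rw [mem_Omega_iff Q h2 hQ _ (List.ofFn c) hvs (coe_prod_rG Q h2 _ hvs)]
      refine ⟨?_, hsq⟩
      rw [List.length_ofFn]
      exact ⟨k, hk⟩
    · rw [coe_prod_rG Q h2 _ hvs, hmat]

end Cfsg.Agent.Helper17.Spinor
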