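import Mathlib
import Cfsg.Agent.Lib.Helper17.ConfAut10
import Cfsg.Agent.Lib.Helper2.OrthPOmega
import Cfsg.Agent.S0790
import Cfsg.Agent.S0791

/-!
# The plus-type and minus-type forms: hypotheses for the `ConfAut` theorems (helper17)
-/

set_option autoImplicit false
set_option linter.unusedSectionVars false

namespace Cfsg.Agent.Helper17.ConfAut
open Cfsg QuadraticMap Cfsg.Agent.Helper17.Spinor Cfsg.Agent.Helper2.Orth Cfsg.Agent.Helper13

variable {F : Type*} [Field F] [Fintype F]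

theorem two_ne_zero_of_odd_card (hodd : Odd (Fintype.card F)) : (2 : F) ≠ 0 := by
  intro h2
  have : CharP F 2 := CharTwo.of_one_ne_zero_of_two_eq_zero one_ne_zero h2
  have := FiniteField.even_card_of_char_two (ringChar.eq F 2)
  have := Nat.odd_iff.1 hodd
  omega

theorem card_mod_four_of_odd (hodd : Odd (Fintype.card F)) :
    Fintype.card F % 4 = 1 ∨ Fintype.card F % 4 = 3 := by
  obtain ⟨k, hk⟩ := hodd
  omega

theorem negGL_mem_omegaGL_iff {ι : Type} [Fintype ι] [DecidableEq ι]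
    (Q : QuadraticForm F (ι → F)) :
    (negGL : GL ι F) ∈ Geo.omegaGL (⇑Q) ↔
      ∃ g : ↥(Cfsg.isometryGroup F (⇑Q)), g ∈ Cfsg.Omega F (⇑Q) ∧
        ((g : GL ι F) : Matrix ι ι F) = -1 := by
  rw [Cfsg.Agent.Helper17.OmegaElts.mem_omegaGL_iff]
  have hneg : ((negGL : GL ι F) : Matrix ι ι F) = -1 := by
    rw [scalarGL_coe]
    simp
  constructor
  · rintro ⟨g, hg, hgn⟩
    exact ⟨g, hg, by rw [hgn, hneg]⟩
  · rintro ⟨g, hg, hgn⟩
    exact ⟨g, hg, Units.ext (by rw [hgn, hneg])⟩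

/-- `q ^ m ≡ 1 (mod 4)` in terms of `m` and `q mod 4` -/
theorem pow_mod_four_eq_one_iff {q : ℕ} (hq : q % 4 = 1 ∨ q % 4 = 3) (m : ℕ) :
    q ^ m % 4 = 1 ↔ ¬ (Odd m ∧ q % 4 = 3) := by
  rcases hq with hq | hq
  · have : q ^ m % 4 = 1 := by
      rw [Nat.pow_mod, hq, one_pow]
      rfl
    rw [this]
    constructor
    · rintro - ⟨-, h3⟩
      omega
    · intro _; rfl
  · rcases Nat.even_or_odd m with ⟨k, hk⟩ | ⟨k, hk⟩
    · have : q ^ m % 4 = 1 := by
        rw [hk, ← two_mul, pow_mul, Nat.pow_mod]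
        have : q ^ 2 % 4 = 1 := by rw [Nat.pow_mod, hq]
        rw [this, one_pow]
        rfl
      rw [this]
      constructor
      · rintro - ⟨ho, -⟩
        rw [hk] at ho
        exact absurd ho (by rw [← two_mul]; simp)
      · intro _; rfl
    · have : q ^ m % 4 = 3 := by
        rw [hk, pow_succ, pow_mul, Nat.mul_mod, Nat.pow_mod]
        have : q ^ 2 % 4 = 1 := by rw [Nat.pow_mod, hq]
        rw [this, one_pow, hq]
        rfl
      rw [this]
      constructor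
      · intro h; omega
      · intro hc
        exact absurd ⟨⟨k, hk⟩, hq⟩ hc

theorem pow_mod_four_eq_three_iff {q : ℕ} (hq : q % 4 = 1 ∨ q % 4 = 3) (m : ℕ) :
    q ^ m % 4 = 3 ↔ (Odd m ∧ q % 4 = 3) := by
  have h1 := pow_mod_four_eq_one_iff hq m
  have h2 : q ^ m % 4 = 1 ∨ q ^ m % 4 = 3 := by
    have hodd : Odd q := by rw [Nat.odd_iff]; omega
    have := Nat.odd_iff.1 (hodd.pow (n := m))
    omega
  constructor
  · intro h3
    by_contra hc
    have := h1.2 hc
    omega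
  · intro hc
    rcases h2 with h2 | h2
    · exact absurd hc (h1.1 h2)
    · exact h2

section plus
variable (hodd : Odd (Fintype.card F)) (k : ℕ)

theorem card_plus_even (m : ℕ) : Even (Fintype.card (Fin m ⊕ Fin m)) := by
  rw [Fintype.card_sum, Fintype.card_fin]
  exact ⟨m, rfl⟩

include hodd in
/-- `-1 ∈ Ω⁺_{2m}(q)` iff not (`m` odd and `q ≡ 3 mod 4`) -/
theorem negGL_mem_plus_iff (m : ℕ) (hm : 1 ≤ m) :
    (negGL : GL (Fin m ⊕ Fin m) F) ∈ Geo.omegaGL (⇑(matQ (plusMat m F))) ↔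
      ¬ (Odd m ∧ Fintype.card F % 4 = 3) := by
  rw [negGL_mem_omegaGL_iff, ← pow_mod_four_eq_one_iff (card_mod_four_of_odd hodd) m]
  have := Cfsg.Agent.S0790.result (F := F) rfl hodd m hm
  rw [quadFormPlus_eq] at this
  exact this

end plus

section minus
variable (hodd : Odd (Fintype.card F))

theorem card_minus_even (m : ℕ) : Even (Fintype.card ((Fin m ⊕ Fin m) ⊕ Fin 2)) := by
  rw [Fintype.card_sum, Fintype.card_sum, Fintype.card_fin, Fintype.card_fin]
  exact ⟨m + 1, by ring⟩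

include hodd in
/-- `-1 ∈ Ω⁻_{2m+2}(q)` iff `m` even and `q ≡ 3 mod 4` -/
theorem negGL_mem_minus_iff (m : ℕ) (a b : F)
    (hab : ∀ z₁ z₂ : F, z₁ ^ 2 + a * z₁ * z₂ + b * z₂ ^ 2 = 0 → z₁ = 0 ∧ z₂ = 0) :
    (negGL : GL ((Fin m ⊕ Fin m) ⊕ Fin 2) F) ∈ Geo.omegaGL (⇑(matQ (minusMat m a b))) ↔
      (Even m ∧ Fintype.card F % 4 = 3) := by
  rw [negGL_mem_omegaGL_iff]
  have := Cfsg.Agent.S0791.result (F := F) rfl hodd (m + 1) (by omega) a b hab
  rw [Nat.add_sub_cancel, quadFormMinus_eq] at this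
  rw [this, pow_mod_four_eq_three_iff (card_mod_four_of_odd hodd) (m + 1)]
  constructor
  · rintro ⟨ho, h3⟩
    refine ⟨?_, h3⟩
    rcases Nat.even_or_odd m with he | ho'
    · exact he
    · exact absurd ho (by rw [Nat.not_odd_iff_even]; exact ho'.add_one)
  · rintro ⟨he, h3⟩
    exact ⟨he.add_one, h3⟩

end minus

end Cfsg.Agent.Helper17.ConfAut
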