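import Mathlib
import Cfsg.Agent.Lib.Helper17.ConfAut5
import Cfsg.Agent.Lib.Helper17.OrthClass2
import Cfsg.Agent.Lib.Helper17.OrthGroup
import Cfsg.Agent.Lib.Helper17.SpecialIndexTwo

/-!
# Similarities and the two classes of maximal totally singular subspaces (helper17)

General part: transitivity of products of reflections on the totally singular subspaces of half
the dimension; the action of invertible matrices on subspaces.
-/

set_option autoImplicit false
set_option linter.unusedSectionVars false

namespace Cfsg.Agent.Helper17.ConfAut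
open Cfsg QuadraticMap Module Cfsg.Agent.Helper17.Spinor

section abstract
variable {F : Type*} [Field F] {V : Type*} [AddCommGroup V] [Module F V] [FiniteDimensional F V]
  (Q : QuadraticForm F V)

/-- products of reflections act transitively on the totally singular subspaces of half the
dimension -/
theorem exists_list_map_eq (hQ : (polarBilin Q).Nondegenerate) {W : Submodule F V}
    (hW : IsTS Q W) (hW2 : 2 * finrank F ↥W = finrank F V) :
    ∀ (k : ℕ) (X : Submodule F V), IsTS Q X → 2 * finrank F ↥X = finrank F V →
      finrank F ↥W - finrank F ↥(W ⊓ X) = k →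
      ∃ vs : List V, (∀ v ∈ vs, Q v ≠ 0) ∧ X.map ((vs.map (refl Q)).prod) = W := by
  intro k
  induction k with
  | zero =>
    intro X hX hX2 hk
    have hle : finrank F ↥(W ⊓ X) ≤ finrank F ↥W := Submodule.finrank_mono inf_le_left
    have heq : W ⊓ X = W := Submodule.eq_of_le_of_finrank_eq inf_le_left (by omega)
    have hWX : W = X :=
      Submodule.eq_of_le_of_finrank_eq (inf_eq_left.1 heq) (by omega)
    refine ⟨[], by simp, ?_⟩
    rw [List.map_nil, List.prod_nil, hWX]
    exact Submodule.map_id X
  | succ k ih =>
    intro X hX hX2 hk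
    have hne : W ≠ X := by
      intro h
      subst h
      rw [inf_idem] at hk
      omega
    obtain ⟨v, hv, hv1⟩ := exists_refl_inf_succ Q hQ hW hW2 hX hX2 hne
    have hX' : IsTS Q (X.map (refl Q v)) := hX.map_refl Q hv
    have hX2' : 2 * finrank F ↥(X.map (refl Q v)) = finrank F V := by
      rw [finrank_map_refl Q X hv]; exact hX2
    obtain ⟨vs, hvs, hmap⟩ := ih (X.map (refl Q v)) hX' hX2' (by omega)
    refine ⟨vs ++ [v], ?_, ?_⟩
    · intro u hu
      rcases List.mem_append.1 hu with h | h
      · exact hvs u h
      · rw [List.mem_singleton] at h; rw [h]; exact hv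
    · rw [List.map_append, List.prod_append, List.map_singleton, List.prod_singleton,
        Module.End.mul_eq_comp, Submodule.map_comp]
      exact hmap

end abstract

section act
variable {F : Type*} [Field F] {ι : Type} [Fintype ι] [DecidableEq ι]

/-- action of invertible matrices on subspaces -/
def act (g : GL ι F) (U : Submodule F (ι → F)) : Submodule F (ι → F) :=
  U.map (Matrix.toLin' (g : Matrix ι ι F))

theorem act_eq_imageSubmodule (g : GL ι F) (U : Submodule F (ι → F)) :
    act g U = Cfsg.imageSubmodule (g : Matrix ι ι F) U := rfl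

theorem act_mul (g h : GL ι F) (U : Submodule F (ι → F)) : act (g * h) U = act g (act h U) := by
  unfold act
  rw [Units.val_mul, Matrix.toLin'_mul, Submodule.map_comp]

theorem act_one (U : Submodule F (ι → F)) : act (1 : GL ι F) U = U := by
  unfold act
  rw [Units.val_one, Matrix.toLin'_one]
  exact Submodule.map_id U

theorem act_inv_act (g : GL ι F) (U : Submodule F (ι → F)) : act g⁻¹ (act g U) = U := by
  rw [← act_mul, inv_mul_cancel, act_one]

theorem act_act_inv (g : GL ι F) (U : Submodule F (ι → F)) : act g (act g⁻¹ U) = U := by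
  rw [← act_mul, mul_inv_cancel, act_one]

theorem toLin'_injective_of_GL (g : GL ι F) :
    Function.Injective (Matrix.toLin' (g : Matrix ι ι F)) := by
  intro x y hxy
  have := congrArg (Matrix.toLin' ((g⁻¹ : GL ι F) : Matrix ι ι F)) hxy
  simp only [Matrix.toLin'_apply, Matrix.mulVec_mulVec] at this
  rwa [← Units.val_mul, inv_mul_cancel, Units.val_one, Matrix.one_mulVec, Matrix.one_mulVec]
    at this

theorem finrank_act (g : GL ι F) (U : Submodule F (ι → F)) :
    finrank F ↥(act g U) = finrank F ↥U :=
  (LinearEquiv.finrank_eq (Submodule.equivMapOfInjective _ (toLin'_injective_of_GL g) U)).symm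

variable {Q : QuadraticForm F (ι → F)}

theorem isTS_act {g : GL ι F} {c : F} (hc : IsMult Q g c) {U : Submodule F (ι → F)}
    (hU : IsTS Q U) : IsTS Q (act g U) := by
  rintro x ⟨u, hu, rfl⟩
  rw [Matrix.toLin'_apply, hc u, hU u hu, mul_zero]

theorem act_coe_isometry (o : ↥(Cfsg.isometryGroup F (⇑Q))) (U : Submodule F (ι → F)) :
    act (o : GL ι F) U = U.map (toEnd Q o) := rfl

/-- transitivity in terms of isometry group elements -/
theorem exists_isometry_act_eq (hQ : (polarBilin Q).Nondegenerate) {X W : Submodule F (ι → F)}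
    (hX : IsTS Q X) (hX2 : 2 * finrank F ↥X = finrank F (ι → F))
    (hW : IsTS Q W) (hW2 : 2 * finrank F ↥W = finrank F (ι → F)) :
    ∃ vs : List (ι → F), (∀ v ∈ vs, Q v ≠ 0) ∧
      act (((vs.map (tG Q)).prod : ↥(Cfsg.isometryGroup F (⇑Q))) : GL ι F) X = W := by
  obtain ⟨vs, hvs, hmap⟩ := exists_list_map_eq Q hQ hW hW2 _ X hX hX2 rfl
  refine ⟨vs, hvs, ?_⟩
  rw [act_coe_isometry, toEnd_prod_tG Q vs hvs]
  exact hmap

end act

end Cfsg.Agent.Helper17.ConfAut
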