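import Mathlib
import Cfsg.Agent.Lib.Helper17.ConfAut12
import Cfsg.Agent.Lib.Helper17.OrthPlus

/-!
# Plus type: a similarity preserves the two classes iff `det g = μ(g)^m` (helper17)
-/

set_option autoImplicit false
set_option linter.unusedSectionVars false

namespace Cfsg.Agent.Helper17.ConfAut
open Cfsg QuadraticMap Module Cfsg.Agent.Helper17.Spinor

variable {F : Type*} [Field F] {m : ℕ}

/-- a similarity stabilising `{y = 0}` has determinant `μ ^ m` -/
theorem det_of_act_plusU {g : GL (Fin m ⊕ Fin m) F} {c : F} (hc : IsMult (plusQ m F) g c)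
    (hg : act g (plusU m F) ≤ plusU m F) :
    (g : Matrix (Fin m ⊕ Fin m) (Fin m ⊕ Fin m) F).det = c ^ m := by
  set M : Matrix (Fin m ⊕ Fin m) (Fin m ⊕ Fin m) F := (g : Matrix (Fin m ⊕ Fin m) (Fin m ⊕ Fin m) F) with hM
  set A := M.toBlocks₁₁ with hA
  set B := M.toBlocks₁₂ with hB
  set C := M.toBlocks₂₁ with hC
  set D := M.toBlocks₂₂ with hD
  have hMb : M = Matrix.fromBlocks A B C D := (Matrix.fromBlocks_toBlocks M).symm
  -- `C = 0`
  have hC0 : C = 0 := by
    ext i j
    have hmem : (Pi.single (Sum.inl j) 1 : Fin m ⊕ Fin m → F) ∈ plusU m F := by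
      rw [mem_plusU]
      intro k
      simp
    have h1 : Matrix.toLin' M (Pi.single (Sum.inl j) 1) ∈ plusU m F :=
      hg ⟨_, hmem, rfl⟩
    rw [mem_plusU] at h1
    have h2 := h1 i
    rw [Matrix.toLin'_apply, Matrix.mulVec_single_one] at h2
    simpa [hC, Matrix.toBlocks₂₁] using h2
  -- `Aᵀ D = c`
  have hAD : A.transpose * D = c • (1 : Matrix (Fin m) (Fin m) F) := by
    ext i j
    have h1 := hc.polar (Pi.single (Sum.inl i) 1) (Pi.single (Sum.inr j) 1)
    rw [← hM, Matrix.mulVec_single_one, Matrix.mulVec_single_one, polar_plusQ, polar_plusQ] at h1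
    have hl : ∀ k : Fin m, M (Sum.inr k) (Sum.inl i) = 0 := by
      intro k
      have := congrFun (congrFun hC0 k) i
      simpa [hC, Matrix.toBlocks₂₁] using this
    simp only [Matrix.col_apply, hl, mul_zero, add_zero] at h1
    rw [Matrix.mul_apply, Matrix.smul_apply, Matrix.one_apply, smul_eq_mul]
    have h3 : ∑ k : Fin m, A.transpose i k * D k j
        = ∑ k : Fin m, M (Sum.inl k) (Sum.inl i) * M (Sum.inr k) (Sum.inr j) := by
      apply Finset.sum_congr rfl
      intro k _
      simp [hA, hD, Matrix.toBlocks₁₁, Matrix.toBlocks₂₂]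
    rw [h3, h1]
    by_cases hij : i = j
    · subst hij
      simp [Pi.single_apply]
    · have : ∀ k : Fin m, (Pi.single (Sum.inl i) (1 : F) : Fin m ⊕ Fin m → F) (Sum.inl k) *
          (Pi.single (Sum.inr j) (1 : F) : Fin m ⊕ Fin m → F) (Sum.inr k) = 0 := by
        intro k
        by_cases hk : k = i
        · subst hk
          have : (Sum.inr k : Fin m ⊕ Fin m) ≠ Sum.inr j := fun h => hij (Sum.inr_injective h)
          rw [Pi.single_eq_of_ne this, mul_zero]
        · have : (Sum.inl k : Fin m ⊕ Fin m) ≠ Sum.inl i := fun h => hk (Sum.inl_injective h)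
          rw [Pi.single_eq_of_ne this, zero_mul]
      simp [this, hij]
  have hdet : M.det = A.det * D.det := by
    rw [hMb, hC0, Matrix.det_fromBlocks_zero₂₁]
  have h4 := congrArg Matrix.det hAD
  rw [Matrix.det_mul, Matrix.det_transpose, Matrix.det_smul, Matrix.det_one, mul_one,
    Fintype.card_fin] at h4
  rw [hdet, h4]

theorem half_plusU : 2 * finrank F ↥(plusU m F) = finrank F (Fin m ⊕ Fin m → F) := by
  rw [finrank_plusU, finrank_plus_space]

/-- a similarity stabilising a maximal totally singular subspace has determinant `μ ^ m` -/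
theorem det_of_act_eq {g : GL (Fin m ⊕ Fin m) F} {c : F} (hc0 : c ≠ 0)
    (hc : IsMult (plusQ m F) g c) {U : Submodule F (Fin m ⊕ Fin m → F)}
    (hU : IsTS (plusQ m F) U) (hU2 : finrank F ↥U = m) (hg : act g U = U) :
    (g : Matrix (Fin m ⊕ Fin m) (Fin m ⊕ Fin m) F).det = c ^ m := by
  obtain ⟨vs, hvs, hact⟩ := exists_isometry_act_eq (Q := plusQ m F) plusQ_nondeg
    (isTS_plusU (F := F) (m := m)) half_plusU hU (by rw [hU2, finrank_plus_space])
  set o : GL (Fin m ⊕ Fin m) F :=
    (((vs.map (tG (plusQ m F))).prod : ↥(Cfsg.isometryGroup F (⇑(plusQ m F)))) :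
      GL (Fin m ⊕ Fin m) F) with ho
  have ho1 : IsMult (plusQ m F) o 1 := isMult_one_iff.2 (Subtype.property _)
  have ho1' : IsMult (plusQ m F) o⁻¹ 1 := by
    have := ho1.inv one_ne_zero
    rwa [inv_one] at this
  have hmult : IsMult (plusQ m F) (o⁻¹ * g * o) c := by
    have := (ho1'.mul hc).mul ho1
    rwa [one_mul, mul_one] at this
  have hstab : act (o⁻¹ * g * o) (plusU m F) ≤ plusU m F := by
    rw [act_mul, act_mul, hact, hg, ← hact, act_inv_act]
  have hdet := det_of_act_plusU hmult hstab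
  rw [Units.val_mul, Units.val_mul, Matrix.det_mul, Matrix.det_mul] at hdet
  have hoo : ((o⁻¹ : GL (Fin m ⊕ Fin m) F) : Matrix (Fin m ⊕ Fin m) (Fin m ⊕ Fin m) F).det * (o : Matrix (Fin m ⊕ Fin m) (Fin m ⊕ Fin m) F).det = 1 := by
    rw [← Matrix.det_mul, ← Units.val_mul, inv_mul_cancel, Units.val_one, Matrix.det_one]
  rw [← hdet]
  calc (g : Matrix (Fin m ⊕ Fin m) (Fin m ⊕ Fin m) F).det
      = (((o⁻¹ : GL (Fin m ⊕ Fin m) F) : Matrix (Fin m ⊕ Fin m) (Fin m ⊕ Fin m) F).det * (o : Matrix (Fin m ⊕ Fin m) (Fin m ⊕ Fin m) F).det)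
          * (g : Matrix (Fin m ⊕ Fin m) (Fin m ⊕ Fin m) F).det := by rw [hoo, one_mul]
    _ = _ := by ring

/-- **the parity of `m - dim (U ∩ gU)` detects `det g = μ^m`** -/
theorem even_sub_finrank_iff (h2 : (2 : F) ≠ 0) {g : GL (Fin m ⊕ Fin m) F} {c : F} (hc0 : c ≠ 0)
    (hc : IsMult (plusQ m F) g c) {U : Submodule F (Fin m ⊕ Fin m → F)}
    (hU : IsTS (plusQ m F) U) (hU2 : finrank F ↥U = m) :
    Even (finrank F ↥U - finrank F ↥(U ⊓ act g U)) ↔
      (g : Matrix (Fin m ⊕ Fin m) (Fin m ⊕ Fin m) F).det = c ^ m := by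
  have hV := finrank_plus_space (F := F) (m := m)
  set W := act g U with hW
  have hWts : IsTS (plusQ m F) W := isTS_act hc hU
  have hW2 : finrank F ↥W = m := by rw [hW, finrank_act, hU2]
  obtain ⟨vs, hvs, hact⟩ := exists_isometry_act_eq (Q := plusQ m F) plusQ_nondeg
    hWts (by rw [hW2, hV]) hU (by rw [hU2, hV])
  set o : GL (Fin m ⊕ Fin m) F :=
    (((vs.map (tG (plusQ m F))).prod : ↥(Cfsg.isometryGroup F (⇑(plusQ m F)))) :
      GL (Fin m ⊕ Fin m) F) with ho
  have ho1 : IsMult (plusQ m F) o 1 := isMult_one_iff.2 (Subtype.property _)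
  have hdeto : (o : Matrix (Fin m ⊕ Fin m) (Fin m ⊕ Fin m) F).det = (-1) ^ vs.length := det_coe_prod_tG (plusQ m F) vs hvs
  -- parity
  have hpar := (finrank_inf_map_prod_refl_add_length (plusQ m F) plusQ_nondeg hWts
    (by rw [hW2, hV]) vs hvs).2
  have hmapW : W.map ((vs.map (refl (plusQ m F))).prod) = U := by
    rw [← toEnd_prod_tG (plusQ m F) vs hvs]
    exact hact
  rw [hmapW, hW2, inf_comm] at hpar
  -- determinant
  have hmult : IsMult (plusQ m F) (o * g) c := by
    have := ho1.mul hc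
    rwa [one_mul] at this
  have hstab : act (o * g) U = U := by
    rw [act_mul]
    exact hact
  have hdet := det_of_act_eq hc0 hmult hU hU2 hstab
  rw [Units.val_mul, Matrix.det_mul, hdeto] at hdet
  have hle : finrank F ↥(U ⊓ W) ≤ m :=
    (Submodule.finrank_mono inf_le_left).trans (le_of_eq hU2)
  have hcm : c ^ m ≠ 0 := pow_ne_zero _ hc0
  have hne : (-1 : F) ≠ 1 := neg_one_ne_one_of_two_ne_zero h2
  rw [hU2]
  rcases Nat.even_or_odd vs.length with he | hodd
  · rw [he.neg_one_pow, one_mul] at hdet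
    constructor
    · intro _; exact hdet
    · intro _
      rw [Nat.even_iff] at he ⊢
      omega
  · rw [hodd.neg_one_pow] at hdet
    constructor
    · intro hev
      exfalso
      rw [Nat.odd_iff] at hodd
      rw [Nat.even_iff] at hev
      omega
    · intro hd
      exfalso
      rw [hd] at hdet
      have : c ^ m * (1 + 1) = 0 := by linear_combination -hdet
      rcases mul_eq_zero.1 this with h | h
      · exact hcm h
      · apply h2
        rw [← one_add_one_eq_two]
        exact h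

end Cfsg.Agent.Helper17.ConfAut
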