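import Mathlib
import Cfsg.Agent.Lib.Helper17.ConfAut13
import Cfsg.Agent.Lib.Helper17.ConfAut1

/-!
# Plus type: the class-preserving similarities (helper17)
-/

set_option autoImplicit false
set_option linter.unusedSectionVars false

namespace Cfsg.Agent.Helper17.ConfAut
open Cfsg QuadraticMap Module Cfsg.Agent.Helper17.Spinor

variable {F : Type*} [Field F] {m : ℕ}

theorem isMaxTotallySingular_iff (U : Submodule F (Fin m ⊕ Fin m → F)) :
    Cfsg.IsMaxTotallySingular (⇑(plusQ m F)) U ↔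
      (IsTS (plusQ m F) U ∧ finrank F ↥U = m) := by
  have hV := finrank_plus_space (F := F) (m := m)
  constructor
  · rintro ⟨hU1, hU2⟩
    have hU1' : IsTS (plusQ m F) U := hU1
    obtain ⟨W, hW, hW2, hUW⟩ := exists_isTS_of_le (plusQ m F) plusQ_nondeg
      (isTS_plusU (F := F) (m := m)) half_plusU hU1'
    have := hU2 W hW hUW
    rw [this] at hW2
    exact ⟨hU1', by omega⟩
  · rintro ⟨hU1, hU2⟩
    refine ⟨hU1, ?_⟩
    intro W hW hUW
    have hW' : IsTS (plusQ m F) W := hW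
    obtain ⟨W', hW'1, hW'2, hWW'⟩ := exists_isTS_of_le (plusQ m F) plusQ_nondeg
      (isTS_plusU (F := F) (m := m)) half_plusU hW'
    have h1 : U = W' := Submodule.eq_of_le_of_finrank_eq (hUW.trans hWW') (by omega)
    apply le_antisymm
    · rw [h1]; exact hWW'
    · exact hUW

/-- **class preservation** -/
theorem preservesSingularClasses_iff (h2 : (2 : F) ≠ 0) {g : GL (Fin m ⊕ Fin m) F} {c : F}
    (hc0 : c ≠ 0) (hc : IsMult (plusQ m F) g c) :
    Cfsg.PreservesSingularClasses (⇑(plusQ m F))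
        (g : Matrix (Fin m ⊕ Fin m) (Fin m ⊕ Fin m) F) ↔
      (g : Matrix (Fin m ⊕ Fin m) (Fin m ⊕ Fin m) F).det = c ^ m := by
  constructor
  · intro h
    have h1 := h (plusU m F) ((isMaxTotallySingular_iff _).2 ⟨isTS_plusU, finrank_plusU⟩)
    exact (even_sub_finrank_iff h2 hc0 hc isTS_plusU finrank_plusU).1 h1
  · intro hdet U hU
    rw [isMaxTotallySingular_iff] at hU
    exact (even_sub_finrank_iff h2 hc0 hc hU.1 hU.2).2 hdet

/-- the class-preserving similarities of the hyperbolic form -/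
def classGO (m : ℕ) (F : Type*) [Field F] : Subgroup (GL (Fin m ⊕ Fin m) F) where
  carrier := {g | ∃ c : Fˣ, IsMult (plusQ m F) g c ∧
    (g : Matrix (Fin m ⊕ Fin m) (Fin m ⊕ Fin m) F).det = (c : F) ^ m}
  mul_mem' := by
    rintro a b ⟨c, hc, hdc⟩ ⟨d, hd, hdd⟩
    refine ⟨c * d, ?_, ?_⟩
    · rw [Units.val_mul]; exact hc.mul hd
    · rw [Units.val_mul, Matrix.det_mul, hdc, hdd, Units.val_mul, mul_pow]
  one_mem' := ⟨1, by rw [Units.val_one]; exact isMult_one_iff.2 (Subgroup.one_mem _), by simp⟩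
  inv_mem' := by
    rintro a ⟨c, hc, hdc⟩
    refine ⟨c⁻¹, ?_, ?_⟩
    · rw [Units.val_inv_eq_inv_val]; exact hc.inv c.ne_zero
    · have h1 : ((a⁻¹ : GL (Fin m ⊕ Fin m) F) : Matrix (Fin m ⊕ Fin m) (Fin m ⊕ Fin m) F).det
          * (a : Matrix (Fin m ⊕ Fin m) (Fin m ⊕ Fin m) F).det = 1 := by
        rw [← Matrix.det_mul, ← Units.val_mul, inv_mul_cancel, Units.val_one, Matrix.det_one]
      rw [hdc] at h1
      rw [Units.val_inv_eq_inv_val, inv_pow]
      exact eq_inv_of_mul_eq_one_left h1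

theorem classGO_le_GO : classGO m F ≤ GO (⇑(plusQ m F)) := by
  rintro g ⟨c, hc, -⟩
  exact ⟨c, hc⟩

theorem plus_exists_Q_ne_zero (hm : 1 ≤ m) : ∃ v : Fin m ⊕ Fin m → F, plusQ m F v ≠ 0 := by
  refine ⟨pairVec (⟨0, hm⟩ : Fin m) 1 1, ?_⟩
  rw [plusQ_pairVec, one_mul]
  exact one_ne_zero

theorem mem_classGO_iff (hm : 1 ≤ m) {g : GL (Fin m ⊕ Fin m) F} {c : F} (hc0 : c ≠ 0)
    (hc : IsMult (plusQ m F) g c) :
    g ∈ classGO m F ↔ (g : Matrix (Fin m ⊕ Fin m) (Fin m ⊕ Fin m) F).det = c ^ m := by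
  constructor
  · rintro ⟨d, hd, hdd⟩
    rw [IsMult.unique (plus_exists_Q_ne_zero hm) hc hd]
    exact hdd
  · intro hdet
    exact ⟨Units.mk0 c hc0, hc, hdet⟩

/-- the inner-diagonal group is the image of the class-preserving similarities -/
theorem inndiag_eq (h2 : (2 : F) ≠ 0) (hm : 1 ≤ m) :
    Cfsg.autSubgroupOf (fun β : Cfsg.POmega F (⇑(plusQ m F)) ≃* Cfsg.POmega F (⇑(plusQ m F)) =>
      ∃ g : GL (Fin m ⊕ Fin m) F, g ∈ Geo.quadSimilarityGroup (F := F) (⇑(plusQ m F)) ∧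
        Cfsg.PreservesSingularClasses (⇑(plusQ m F))
          (g : Matrix (Fin m ⊕ Fin m) (Fin m ⊕ Fin m) F) ∧
        Cfsg.IsInducedBySemilinearPOmega (⇑(plusQ m F)) g (RingEquiv.refl F) β)
      = ((classGO m F).subgroupOf (GO (⇑(plusQ m F)))).map (Phi (⇑(plusQ m F))) := by
  rw [← autSubgroupOf_eq_map (⇑(plusQ m F)) (classGO m F) classGO_le_GO]
  congr 1
  funext β
  apply propext
  constructor
  · rintro ⟨g, hg, hpres, hind⟩
    obtain ⟨c, hc⟩ := hg
    refine ⟨g, ?_, hind⟩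
    rw [mem_classGO_iff hm c.ne_zero hc]
    exact (preservesSingularClasses_iff h2 c.ne_zero hc).1 hpres
  · rintro ⟨g, hg, hind⟩
    obtain ⟨c, hc, hdet⟩ := hg
    exact ⟨g, ⟨c, hc⟩, (preservesSingularClasses_iff h2 c.ne_zero hc).2 hdet, hind⟩

end Cfsg.Agent.Helper17.ConfAut
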