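import Mathlib
import Cfsg.Prelude.Def_Classical
import Cfsg.Prelude.Def_ClassicalGeometry
import Cfsg.Agent.Lib.Helper17.OrthPlus

/-!
# `GL_m` inside `O⁺_{2m}` (helper17)

`psi A = diag(A, A⁻ᵀ)` as an isometry of the hyperbolic form; over a finite field
(`(|F|, m) ≠ (2, 2)`), `psi A ∈ Ω` iff `det A` is a square.
-/

set_option autoImplicit false

namespace Cfsg.Agent.Helper17.Spinor
open Cfsg QuadraticMap Module Cfsg.Agent.Helper13

variable {F : Type*} [Field F] {m : ℕ}

theorem plusQ_eq_dotProduct (v : Fin m ⊕ Fin m → F) :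
    plusQ m F v = (v ∘ Sum.inl) ⬝ᵥ (v ∘ Sum.inr) := by
  rw [plusQ_apply]; rfl

/-- `diag(A, A⁻ᵀ)` -/
noncomputable def psi : GL (Fin m) F →* ↥(Cfsg.isometryGroup F (⇑(plusQ m F))) where
  toFun A :=
    ⟨⟨Matrix.fromBlocks (A : Matrix (Fin m) (Fin m) F) 0 0
        ((A⁻¹ : GL (Fin m) F) : Matrix (Fin m) (Fin m) F).transpose,
      Matrix.fromBlocks ((A⁻¹ : GL (Fin m) F) : Matrix (Fin m) (Fin m) F) 0 0
        (A : Matrix (Fin m) (Fin m) F).transpose,
      by
        rw [Matrix.fromBlocks_multiply]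
        have h1 : (A : Matrix (Fin m) (Fin m) F) * ((A⁻¹ : GL (Fin m) F) :
          Matrix (Fin m) (Fin m) F) = 1 := Units.mul_inv A
        have h2 : ((A⁻¹ : GL (Fin m) F) : Matrix (Fin m) (Fin m) F).transpose
            * (A : Matrix (Fin m) (Fin m) F).transpose = 1 := by
          rw [← Matrix.transpose_mul, h1, Matrix.transpose_one]
        simp only [Matrix.mul_zero, Matrix.zero_mul, add_zero, zero_add, h1, h2,
          Matrix.fromBlocks_one],
      by
        rw [Matrix.fromBlocks_multiply]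
        have h1 : ((A⁻¹ : GL (Fin m) F) : Matrix (Fin m) (Fin m) F)
            * (A : Matrix (Fin m) (Fin m) F) = 1 := Units.inv_mul A
        have h2 : (A : Matrix (Fin m) (Fin m) F).transpose
            * ((A⁻¹ : GL (Fin m) F) : Matrix (Fin m) (Fin m) F).transpose = 1 := by
          rw [← Matrix.transpose_mul, h1, Matrix.transpose_one]
        simp only [Matrix.mul_zero, Matrix.zero_mul, add_zero, zero_add, h1, h2,
          Matrix.fromBlocks_one]⟩, by
      intro u _
      show plusQ m F ((Matrix.fromBlocks (A : Matrix (Fin m) (Fin m) F) 0 0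
        ((A⁻¹ : GL (Fin m) F) : Matrix (Fin m) (Fin m) F).transpose).mulVec u) = plusQ m F u
      rw [plusQ_eq_dotProduct, plusQ_eq_dotProduct, Matrix.fromBlocks_mulVec, Sum.elim_comp_inl,
        Sum.elim_comp_inr, Matrix.zero_mulVec, Matrix.zero_mulVec, add_zero, zero_add,
        Matrix.dotProduct_mulVec, Matrix.vecMul_transpose, Matrix.mulVec_mulVec]
      have h1 : ((A⁻¹ : GL (Fin m) F) : Matrix (Fin m) (Fin m) F)
          * (A : Matrix (Fin m) (Fin m) F) = 1 := Units.inv_mul A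
      rw [h1, Matrix.one_mulVec]⟩
  map_one' := by
    apply Subtype.ext
    apply Units.ext
    show Matrix.fromBlocks (((1 : GL (Fin m) F)) : Matrix (Fin m) (Fin m) F) 0 0
        (((1 : GL (Fin m) F)⁻¹ : GL (Fin m) F) : Matrix (Fin m) (Fin m) F).transpose = 1
    rw [inv_one, Units.val_one, Matrix.transpose_one, Matrix.fromBlocks_one]
  map_mul' A B := by
    apply Subtype.ext
    apply Units.ext
    show Matrix.fromBlocks (((A * B : GL (Fin m) F)) : Matrix (Fin m) (Fin m) F) 0 0
        (((A * B)⁻¹ : GL (Fin m) F) : Matrix (Fin m) (Fin m) F).transpose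
      = Matrix.fromBlocks (A : Matrix (Fin m) (Fin m) F) 0 0
        ((A⁻¹ : GL (Fin m) F) : Matrix (Fin m) (Fin m) F).transpose
        * Matrix.fromBlocks (B : Matrix (Fin m) (Fin m) F) 0 0
        ((B⁻¹ : GL (Fin m) F) : Matrix (Fin m) (Fin m) F).transpose
    rw [Matrix.fromBlocks_multiply, mul_inv_rev, Units.val_mul, Units.val_mul,
      Matrix.transpose_mul]
    simp

theorem psi_coe (A : GL (Fin m) F) :
    (((psi A : ↥(Cfsg.isometryGroup F (⇑(plusQ m F)))) :
      Matrix.GeneralLinearGroup (Fin m ⊕ Fin m) F) : Matrix (Fin m ⊕ Fin m) (Fin m ⊕ Fin m) F)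
      = Matrix.fromBlocks (A : Matrix (Fin m) (Fin m) F) 0 0
        ((A⁻¹ : GL (Fin m) F) : Matrix (Fin m) (Fin m) F).transpose := rfl

/-- `psi A` stabilises `{y = 0}` -/
theorem psi_map_plusU (A : GL (Fin m) F) :
    (plusU m F).map (toEnd (plusQ m F) (psi A)) ≤ plusU m F := by
  intro x hx
  rw [Submodule.mem_map] at hx
  obtain ⟨y, hy, rfl⟩ := hx
  rw [mem_plusU] at hy ⊢
  intro i
  rw [toEnd_apply, psi_coe, Matrix.fromBlocks_mulVec]
  have : y ∘ Sum.inr = 0 := by
    funext j
    exact hy j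
  simp [this]

/-- any reflection decomposition of `psi A` has even length -/
theorem even_length_of_psi (A : GL (Fin m) F) (vs : List (Fin m ⊕ Fin m → F))
    (hvs : ∀ v ∈ vs, plusQ m F v ≠ 0) (h : (vs.map (tG (plusQ m F))).prod = psi A) :
    Even vs.length := by
  have key := length_parity_plus vs hvs
  have h2 := (finrank_inf_map_prod_refl_add_length (plusQ m F) plusQ_nondeg
    (isTS_plusU (F := F) (m := m)) (by rw [finrank_plusU, finrank_plus_space]) vs hvs).1.2
  have h3 : (vs.map (refl (plusQ m F))).prod = toEnd (plusQ m F) (psi A) := by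
    rw [← toEnd_prod_tG (plusQ m F) vs hvs, h]
  rw [h3] at key h2
  have h4 : (plusU m F).map (toEnd (plusQ m F) (psi A)) = plusU m F := by
    apply Submodule.eq_of_le_of_finrank_eq (psi_map_plusU A)
    rw [finrank_plusU]
    rw [finrank_plus_space] at h2
    omega
  rw [h4, inf_idem, finrank_plusU] at key
  rw [Nat.even_iff]
  omega

section finite
variable [Fintype F]

/-- in characteristic two `psi A ∈ Ω` -/
theorem psi_mem_Omega_of_char_two (h2 : (2 : F) = 0)
    (hex : Fintype.card F ≠ 2 ∨ Fintype.card (Fin m ⊕ Fin m) ≠ 4) (A : GL (Fin m) F) :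
    psi A ∈ Cfsg.Omega F (⇑(plusQ m F)) := by
  obtain ⟨vs, hvs, hA⟩ := exists_prod_tG (plusQ m F) plusQ_nondeg hex (psi A)
  have := charP_two_of_two_eq_zero h2
  have hchar : ringChar F = 2 := ringChar.eq F 2
  rw [hA, prod_tG_mem_Omega_iff_all (plusQ m F) plusQ_nondeg hex vs hvs]
  exact ⟨even_length_of_psi A vs hvs hA.symm, FiniteField.isSquare_of_char_two hchar _⟩

/-- a transvection as an element of `GL` -/
def tvGL (t : Matrix.TransvectionStruct (Fin m) F) : GL (Fin m) F :=
  ⟨t.toMatrix, t.inv.toMatrix, t.mul_inv, t.inv_mul⟩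

theorem tvGL_eq_sq (h2 : (2 : F) ≠ 0) (t : Matrix.TransvectionStruct (Fin m) F) :
    tvGL t = tvGL ⟨t.i, t.j, t.hij, t.c / 2⟩ * tvGL ⟨t.i, t.j, t.hij, t.c / 2⟩ := by
  apply Units.ext
  show t.toMatrix = Matrix.transvection t.i t.j (t.c / 2) * Matrix.transvection t.i t.j (t.c / 2)
  rw [Matrix.transvection_mul_transvection_same t.i t.j t.hij]
  unfold Matrix.TransvectionStruct.toMatrix
  congr 1
  field_simp
  ring

theorem psi_tvGL_mem (h2 : (2 : F) ≠ 0)
    (hex : Fintype.card F ≠ 2 ∨ Fintype.card (Fin m ⊕ Fin m) ≠ 4)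
    (t : Matrix.TransvectionStruct (Fin m) F) :
    psi (tvGL t) ∈ Cfsg.Omega F (⇑(plusQ m F)) := by
  rw [tvGL_eq_sq h2 t, map_mul]
  exact sq_mem_Omega (plusQ m F) plusQ_nondeg hex _

theorem psi_prod_tvGL_mem (h2 : (2 : F) ≠ 0)
    (hex : Fintype.card F ≠ 2 ∨ Fintype.card (Fin m ⊕ Fin m) ≠ 4)
    (L : List (Matrix.TransvectionStruct (Fin m) F)) :
    psi (L.map tvGL).prod ∈ Cfsg.Omega F (⇑(plusQ m F)) := by
  rw [map_list_prod]
  apply Subgroup.list_prod_mem
  intro x hx
  rw [List.map_map, List.mem_map] at hx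
  obtain ⟨t, _, rfl⟩ := hx
  exact psi_tvGL_mem h2 hex t

omit [Fintype F] in
theorem coe_prod_tvGL (L : List (Matrix.TransvectionStruct (Fin m) F)) :
    (((L.map tvGL).prod : GL (Fin m) F) : Matrix (Fin m) (Fin m) F)
      = (L.map Matrix.TransvectionStruct.toMatrix).prod := by
  induction L with
  | nil => simp
  | cons t L ih =>
    rw [List.map_cons, List.prod_cons, Units.val_mul, ih, List.map_cons, List.prod_cons]
    rfl

/-- an invertible diagonal matrix as an element of `GL` -/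
def dGL (d : Fin m → F) (hd : ∀ i, d i ≠ 0) : GL (Fin m) F :=
  ⟨Matrix.diagonal d, Matrix.diagonal (fun i => (d i)⁻¹),
    by
      rw [Matrix.diagonal_mul_diagonal, ← Matrix.diagonal_one]
      congr 1
      funext i
      exact mul_inv_cancel₀ (hd i),
    by
      rw [Matrix.diagonal_mul_diagonal, ← Matrix.diagonal_one]
      congr 1
      funext i
      exact inv_mul_cancel₀ (hd i)⟩

theorem psi_dGL_eq (d : Fin m → F) (hd : ∀ i, d i ≠ 0) :
    psi (dGL d hd) = ((swapList m F ++ diagList d).map (tG (plusQ m F))).prod := by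
  have hQ : ∀ v ∈ swapList m F ++ diagList d, plusQ m F v ≠ 0 := by
    intro v hv
    rcases List.mem_append.1 hv with h | h
    · rw [swapList_Q v h]
      exact neg_ne_zero.2 one_ne_zero
    · exact diagList_Q d hd v h
  apply eq_of_coe_eq
  rw [coe_prod_tG _ _ hQ, swapList_append_diagList_prod d hd, psi_coe]
  show Matrix.fromBlocks (Matrix.diagonal d) 0 0 (Matrix.diagonal (fun i => (d i)⁻¹)).transpose = _
  rw [Matrix.diagonal_transpose]

theorem psi_dGL_mem_iff (hex : Fintype.card F ≠ 2 ∨ Fintype.card (Fin m ⊕ Fin m) ≠ 4)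
    (d : Fin m → F) (hd : ∀ i, d i ≠ 0) :
    psi (dGL d hd) ∈ Cfsg.Omega F (⇑(plusQ m F)) ↔ IsSquare (∏ i, d i) := by
  have hQ : ∀ v ∈ swapList m F ++ diagList d, plusQ m F v ≠ 0 := by
    intro v hv
    rcases List.mem_append.1 hv with h | h
    · rw [swapList_Q v h]
      exact neg_ne_zero.2 one_ne_zero
    · exact diagList_Q d hd v h
  rw [psi_dGL_eq d hd, prod_tG_mem_Omega_iff_all (plusQ m F) plusQ_nondeg hex _ hQ,
    List.length_append, swapList_length, diagList_length, List.map_append, List.prod_append,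
    swapList_prod_Q, diagList_prod_Q]
  have h1 : (-1 : F) ^ m * ((-1) ^ m * ∏ i, d i) = ∏ i, d i := by
    rw [← mul_assoc, ← pow_add, ← two_mul, pow_mul]
    simp
  rw [h1]
  exact ⟨fun h => h.2, fun h => ⟨⟨m, rfl⟩, h⟩⟩

/-- `diag(A, A⁻ᵀ) ∈ Ω⁺` iff `det A` is a square -/
theorem psi_mem_Omega_iff (hex : Fintype.card F ≠ 2 ∨ Fintype.card (Fin m ⊕ Fin m) ≠ 4)
    (A : GL (Fin m) F) :
    psi A ∈ Cfsg.Omega F (⇑(plusQ m F)) ↔ IsSquare (A : Matrix (Fin m) (Fin m) F).det := by
  by_cases h2 : (2 : F) = 0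
  · have := charP_two_of_two_eq_zero h2
    have hchar : ringChar F = 2 := ringChar.eq F 2
    exact ⟨fun _ => FiniteField.isSquare_of_char_two hchar _,
      fun _ => psi_mem_Omega_of_char_two h2 hex A⟩
  · obtain ⟨L, L', D, hM⟩ := Matrix.Pivot.exists_list_transvec_mul_diagonal_mul_list_transvec
      (A : Matrix (Fin m) (Fin m) F)
    have hdet : (A : Matrix (Fin m) (Fin m) F).det = ∏ i, D i := by
      rw [hM, Matrix.det_mul, Matrix.det_mul, Matrix.TransvectionStruct.det_toMatrix_prod,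
        Matrix.TransvectionStruct.det_toMatrix_prod, Matrix.det_diagonal, one_mul, mul_one]
    have hdet0 : (A : Matrix (Fin m) (Fin m) F).det ≠ 0 :=
      isUnit_iff_ne_zero.1 ((Matrix.isUnit_iff_isUnit_det _).1 A.isUnit)
    have hD : ∀ i, D i ≠ 0 := by
      intro i hi
      apply hdet0
      rw [hdet]
      exact Finset.prod_eq_zero (Finset.mem_univ i) hi
    have hA : A = (L.map tvGL).prod * dGL D hD * (L'.map tvGL).prod := by
      apply Units.ext
      rw [Units.val_mul, Units.val_mul, coe_prod_tvGL, coe_prod_tvGL]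
      exact hM
    rw [hdet, ← psi_dGL_mem_iff hex D hD]
    have h3 : psi A = psi (L.map tvGL).prod * psi (dGL D hD) * psi (L'.map tvGL).prod := by
      rw [← map_mul, ← map_mul, ← hA]
    rw [h3, Subgroup.mul_mem_cancel_right _ (psi_prod_tvGL_mem h2 hex L'),
      Subgroup.mul_mem_cancel_left _ (psi_prod_tvGL_mem h2 hex L)]

end finite

end Cfsg.Agent.Helper17.Spinor
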