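import Mathlib
import Cfsg.Agent.Lib.Helper17.ConfAut14
import Cfsg.Agent.Lib.Helper17.ConfAut11
import Cfsg.Agent.Lib.Helper17.OrthPlusGL

/-!
# Plus type: the inner-diagonal group modulo the inner automorphisms (helper17)
-/

set_option autoImplicit false
set_option linter.unusedSectionVars false

namespace Cfsg.Agent.Helper17.ConfAut
open Cfsg QuadraticMap Module Cfsg.Agent.Helper17.Spinor Cfsg.Agent.Helper2.Orth

section general
variable {F : Type*} [Field F] {ι : Type} [Fintype ι] [DecidableEq ι]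
  {Q : QuadraticForm F (ι → F)} {i₁ j₁ i₂ j₂ : ι}

/-- the image of `Ω` for similarities with square multiplier, when `-1 ∈ Ω` -/
theorem Phi_mem_POm_iff_of_sq (h2 : (2 : F) ≠ 0) (hQ : (polarBilin Q).Nondegenerate)
    (h : TwoHyp Q i₁ j₁ i₂ j₂) (hneg : (negGL : GL ι F) ∈ Geo.omegaGL (⇑Q))
    (g : ↥(GO (⇑Q))) (s : Fˣ) (hg : IsMult Q (g : GL ι F) ((s : F) ^ 2)) :
    Phi (⇑Q) g ∈ POm Q ↔ (g : GL ι F) * scalarGL s⁻¹ ∈ Geo.omegaGL (⇑Q) := by
  set k : ↥(GO (⇑Q)) := ⟨(g : GL ι F) * scalarGL s⁻¹,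
    (GO (⇑Q)).mul_mem g.2 (scalarGL_mem_GO s⁻¹)⟩ with hk
  have hk1 : IsMult Q (k : GL ι F) 1 := by
    have := hg.mul (isMult_scalarGL (Q := Q) s⁻¹)
    have h3 : (s : F) ^ 2 * ((s⁻¹ : Fˣ) : F) ^ 2 = 1 := by
      rw [Units.val_inv_eq_inv_val]
      have : (s : F) ≠ 0 := s.ne_zero
      field_simp
    rwa [h3] at this
  have hΦ : Phi (⇑Q) g = Phi (⇑Q) k := by
    rw [Phi_eq_iff h2 hQ h]
    show (g : GL ι F)⁻¹ * ((g : GL ι F) * scalarGL s⁻¹) ∈ Geo.scalars ι F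
    rw [inv_mul_cancel_left]
    exact scalarGL_mem _
  rw [hΦ, Phi_mem_POm_iff h2 hQ h k hk1, Subgroup.mul_mem_cancel_right _ hneg, or_self]

end general

variable {F : Type*} [Field F] {m : ℕ}

/-- the image of the class-preserving similarities -/
noncomputable abbrev PC (m : ℕ) (F : Type*) [Field F] :
    Subgroup (MulAut (Cfsg.POmega F (⇑(plusQ m F)))) :=
  ((classGO m F).subgroupOf (GO (⇑(plusQ m F)))).map (Phi (⇑(plusQ m F)))

theorem scalarGL_mem_classGO (a : Fˣ) : (scalarGL a : GL (Fin m ⊕ Fin m) F) ∈ classGO m F := by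
  refine ⟨a ^ 2, ?_, ?_⟩
  · rw [Units.val_pow_eq_pow_val]; exact isMult_scalarGL a
  · rw [det_scalarGL, Fintype.card_sum, Fintype.card_fin, Units.val_pow_eq_pow_val, ← pow_mul,
      two_mul]

theorem special_le_classGO :
    Cfsg.specialIsometryGL F (⇑(plusQ m F)) ≤ classGO m F := by
  intro g hg
  unfold Cfsg.specialIsometryGL at hg
  rw [Subgroup.mem_inf] at hg
  refine ⟨1, ?_, ?_⟩
  · rw [Units.val_one]; exact isMult_one_iff.2 hg.1
  · have h4 : Matrix.GeneralLinearGroup.det g = 1 := hg.2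
    have h5 := congrArg Units.val h4
    rw [Matrix.GeneralLinearGroup.val_det_apply] at h5
    rw [h5]
    simp

theorem PSO_le_PC : PSO (plusQ m F) ≤ PC m F := by
  apply Subgroup.map_mono
  intro k hk
  rw [Subgroup.mem_subgroupOf] at hk ⊢
  exact special_le_classGO hk

theorem PC_le_PG : PC m F ≤ PG (plusQ m F) := by
  rintro _ ⟨k, -, rfl⟩
  exact ⟨k, rfl⟩

theorem blk_one' : blk (1 : Fin m → F) 0 0 1 = 1 := by
  show Matrix.fromBlocks (Matrix.diagonal fun _ => (1 : F)) (Matrix.diagonal fun _ => (0 : F))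
    (Matrix.diagonal fun _ => (0 : F)) (Matrix.diagonal fun _ => (1 : F)) = 1
  rw [Matrix.diagonal_one, Matrix.diagonal_zero, Matrix.fromBlocks_one]

/-- `diag(λ, 1)` -/
def deltaGL (lam : Fˣ) : GL (Fin m ⊕ Fin m) F :=
  ⟨blk (fun _ => (lam : F)) 0 0 1, blk (fun _ => ((lam⁻¹ : Fˣ) : F)) 0 0 1, by
    rw [blk_mul]
    have : (fun _ : Fin m => (lam : F)) * (fun _ => ((lam⁻¹ : Fˣ) : F)) = 1 := by
      funext i; simp
    simp only [mul_zero, zero_mul, add_zero, mul_one, zero_add, this]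
    exact blk_one', by
    rw [blk_mul]
    have : (fun _ : Fin m => ((lam⁻¹ : Fˣ) : F)) * (fun _ => (lam : F)) = 1 := by
      funext i; simp
    simp only [mul_zero, zero_mul, add_zero, mul_one, zero_add, this]
    exact blk_one'⟩

theorem deltaGL_coe (lam : Fˣ) :
    ((deltaGL lam : GL (Fin m ⊕ Fin m) F) : Matrix (Fin m ⊕ Fin m) (Fin m ⊕ Fin m) F)
      = blk (fun _ => (lam : F)) 0 0 1 := rfl

theorem isMult_deltaGL (lam : Fˣ) : IsMult (plusQ m F) (deltaGL lam) (lam : F) := by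
  intro v
  rw [deltaGL_coe, blk_mulVec, plusQ_apply, plusQ_apply, Finset.mul_sum]
  apply Finset.sum_congr rfl
  intro i _
  simp only [Sum.elim_inl, Sum.elim_inr, Pi.zero_apply, Pi.one_apply]
  ring

theorem det_deltaGL (lam : Fˣ) :
    ((deltaGL lam : GL (Fin m ⊕ Fin m) F) : Matrix (Fin m ⊕ Fin m) (Fin m ⊕ Fin m) F).det
      = (lam : F) ^ m := by
  rw [deltaGL_coe]
  show (Matrix.fromBlocks (Matrix.diagonal fun _ => (lam : F)) (Matrix.diagonal fun _ => (0 : F))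
    (Matrix.diagonal fun _ => (0 : F)) (Matrix.diagonal fun _ => (1 : F))).det = _
  rw [Matrix.diagonal_zero, Matrix.det_fromBlocks_zero₂₁, Matrix.det_diagonal,
    Matrix.diagonal_one, Matrix.det_one, mul_one, Finset.prod_const, Finset.card_univ,
    Fintype.card_fin]

theorem deltaGL_mem_classGO (lam : Fˣ) : (deltaGL lam : GL (Fin m ⊕ Fin m) F) ∈ classGO m F :=
  ⟨lam, isMult_deltaGL lam, det_deltaGL lam⟩

/-- `λ⁻¹ δ² = diag(λ, λ⁻¹)` -/
theorem deltaGL_sq_mul_scalar (lam : Fˣ) :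
    (deltaGL lam * deltaGL lam * scalarGL lam⁻¹ : GL (Fin m ⊕ Fin m) F)
      = ((Cfsg.Agent.Helper17.Spinor.psi (dGL (fun _ : Fin m => (lam : F)) (fun _ => lam.ne_zero)) :
          ↥(Cfsg.isometryGroup F (⇑(plusQ m F)))) : GL (Fin m ⊕ Fin m) F) := by
  apply Units.ext
  rw [Cfsg.Agent.Helper17.Spinor.psi_coe, Units.val_mul, Units.val_mul, deltaGL_coe, scalarGL_coe, blk_mul]
  have hsc : (((lam⁻¹ : Fˣ) : F)) • (1 : Matrix (Fin m ⊕ Fin m) (Fin m ⊕ Fin m) F)
      = blk (fun _ => ((lam⁻¹ : Fˣ) : F)) 0 0 (fun _ => ((lam⁻¹ : Fˣ) : F)) := by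
    show _ = Matrix.fromBlocks (Matrix.diagonal fun _ => ((lam⁻¹ : Fˣ) : F))
      (Matrix.diagonal fun _ => (0 : F)) (Matrix.diagonal fun _ => (0 : F))
      (Matrix.diagonal fun _ => ((lam⁻¹ : Fˣ) : F))
    rw [Matrix.diagonal_zero, ← Matrix.fromBlocks_one, Matrix.fromBlocks_smul]
    simp [Matrix.smul_one_eq_diagonal]
  rw [hsc, blk_mul]
  unfold blk
  have hl : (lam : F) ≠ 0 := lam.ne_zero
  congr 1
  · congr 1
    funext i
    simp only [Pi.mul_apply, Pi.add_apply, Pi.zero_apply, Pi.one_apply, mul_zero, zero_mul,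
      add_zero, mul_one, Units.val_inv_eq_inv_val]
    field_simp
  · simp
  · simp
  · show _ = ((((dGL (fun _ : Fin m => (lam : F)) (fun _ => lam.ne_zero))⁻¹ : GL (Fin m) F)) :
      Matrix (Fin m) (Fin m) F).transpose
    have : ((((dGL (fun _ : Fin m => (lam : F)) (fun _ => lam.ne_zero))⁻¹ : GL (Fin m) F)) :
        Matrix (Fin m) (Fin m) F) = Matrix.diagonal (fun _ => ((lam : F))⁻¹) := rfl
    rw [this, Matrix.diagonal_transpose]
    congr 1
    funext i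
    simp

end Cfsg.Agent.Helper17.ConfAut
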