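import Mathlib
import Cfsg.Agent.Lib.Helper17.ConfAut15

/-!
# Plus type: structure of `Inndiag / Inn` (helper17)
-/

set_option autoImplicit false
set_option linter.unusedSectionVars false

namespace Cfsg.Agent.Helper17.ConfAut
open Cfsg QuadraticMap Module Cfsg.Agent.Helper17.Spinor Cfsg.Agent.Helper2.Orth

variable {F : Type*} [Field F] [Fintype F]

theorem isSquare_pow_iff_even {lam : F} (hlam : ¬ IsSquare lam) (m : ℕ) :
    IsSquare (lam ^ m) ↔ Even m := by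
  have hl0 : lam ≠ 0 := by
    rintro rfl
    exact hlam ⟨0, by ring⟩
  constructor
  · intro hsq
    by_contra hodd
    rw [Nat.not_even_iff_odd] at hodd
    obtain ⟨j, hj⟩ := hodd
    obtain ⟨s, hs⟩ := hsq
    apply hlam
    refine ⟨s / lam ^ j, ?_⟩
    have hp : lam ^ j ≠ 0 := pow_ne_zero _ hl0
    field_simp
    rw [pow_two s, ← hs, hj]
    ring
  · rintro ⟨j, rfl⟩
    exact ⟨lam ^ j, by rw [pow_add]⟩

section
variable (k : ℕ) (hodd : Odd (Fintype.card F))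

local notation "Qp" => plusQ (k + 2) F

theorem POm_le_PC' : POm Qp ≤ PC (k + 2) F := le_trans (POm_le_PSO Qp) PSO_le_PC

include hodd

theorem Phi_mem_PC_iff (g : ↥(GO (⇑Qp))) :
    Phi (⇑Qp) g ∈ PC (k + 2) F ↔ (g : GL (Fin (k + 2) ⊕ Fin (k + 2)) F) ∈ classGO (k + 2) F := by
  have h2 := two_ne_zero_of_odd_card hodd
  rw [Phi_mem_map_iff h2 plusQ_nondeg (twoHyp_plus (F := F) k)]
  constructor
  · rintro ⟨a, ha⟩
    exact (Subgroup.mul_mem_cancel_right _ (scalarGL_mem_classGO a)).1 ha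
  · intro hg
    exact ⟨1, (Subgroup.mul_mem_cancel_right _ (scalarGL_mem_classGO 1)).2 hg⟩

/-- for class-preserving similarities, the image lies in that of `SO` iff the multiplier is a
square -/
theorem Phi_mem_PSO_iff_of_class (g : ↥(GO (⇑Qp))) {c : F}
    (hc : IsMult Qp (g : GL (Fin (k + 2) ⊕ Fin (k + 2)) F) c)
    (hg : (g : GL (Fin (k + 2) ⊕ Fin (k + 2)) F) ∈ classGO (k + 2) F) :
    Phi (⇑Qp) g ∈ PSO Qp ↔ IsSquare c := by
  have h2 := two_ne_zero_of_odd_card hodd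
  have hT := twoHyp_plus (F := F) k
  have hv := exists_Q_ne_zero h2 plusQ_nondeg hT
  have hc0 := hc.ne_zero hv
  rw [Phi_mem_SO_iff h2 plusQ_nondeg hT g hc]
  have hdet := (mem_classGO_iff (by omega) hc0 hc).1 hg
  constructor
  · rintro ⟨s, hs, -⟩
    exact ⟨s, by rw [hs]; ring⟩
  · rintro ⟨s, hs⟩
    refine ⟨s, by rw [hs]; ring, ?_⟩
    rw [hdet, hs, Fintype.card_sum, Fintype.card_fin, ← two_mul, pow_mul, pow_two]

theorem relIndex_PSO_PC {lam : Fˣ} (hlam : ¬ IsSquare (lam : F)) :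
    (PSO Qp).relIndex (PC (k + 2) F) = 2 := by
  classical
  have h2 := two_ne_zero_of_odd_card hodd
  have hT := twoHyp_plus (F := F) k
  rw [Subgroup.relIndex_eq_two_iff]
  set δ : ↥(GO (⇑Qp)) := ⟨deltaGL lam, classGO_le_GO (deltaGL_mem_classGO lam)⟩ with hδ
  refine ⟨Phi (⇑Qp) δ, ⟨δ, ?_, rfl⟩, ?_⟩
  · rw [SetLike.mem_coe, Subgroup.mem_subgroupOf]
    exact deltaGL_mem_classGO lam
  rintro _ ⟨g, hg, rfl⟩
  rw [SetLike.mem_coe, Subgroup.mem_subgroupOf] at hg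
  obtain ⟨c, hc0, hc⟩ := exists_isMult g
  have hgδ : IsMult Qp ((g * δ : ↥(GO (⇑Qp))) : GL (Fin (k + 2) ⊕ Fin (k + 2)) F) (c * lam) := by
    rw [Subgroup.coe_mul]
    exact hc.mul (isMult_deltaGL lam)
  have hgδm : ((g * δ : ↥(GO (⇑Qp))) : GL (Fin (k + 2) ⊕ Fin (k + 2)) F) ∈ classGO (k + 2) F := by
    rw [Subgroup.coe_mul]
    exact (classGO (k + 2) F).mul_mem hg (deltaGL_mem_classGO lam)
  rw [← map_mul, Phi_mem_PSO_iff_of_class k hodd _ hgδ hgδm,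
    Phi_mem_PSO_iff_of_class k hodd g hc hg,
    Cfsg.Agent.Helper13.isSquare_mul_nonsquare hc0 hlam]
  by_cases hsq : IsSquare c
  · exact Or.inr ⟨hsq, fun hn => hn hsq⟩
  · exact Or.inl ⟨hsq, hsq⟩

/-- the square of `Phi δ` lies in the image of `Ω` iff `m` is even (when `-1 ∈ Ω`) -/
theorem Phi_delta_sq_mem_iff {lam : Fˣ} (hlam : ¬ IsSquare (lam : F))
    (hneg : (negGL : GL (Fin (k + 2) ⊕ Fin (k + 2)) F) ∈ Geo.omegaGL (⇑Qp))
    (hk : 1 ≤ k) (δ : ↥(GO (⇑Qp))) (hδ : (δ : GL (Fin (k + 2) ⊕ Fin (k + 2)) F) = deltaGL lam) :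
    Phi (⇑Qp) (δ * δ) ∈ POm Qp ↔ Even (k + 2) := by
  have h2 := two_ne_zero_of_odd_card hodd
  have hT := twoHyp_plus (F := F) k
  have hmult : IsMult Qp ((δ * δ : ↥(GO (⇑Qp))) : GL (Fin (k + 2) ⊕ Fin (k + 2)) F)
      ((lam : F) ^ 2) := by
    rw [Subgroup.coe_mul, hδ, pow_two]
    exact (isMult_deltaGL lam).mul (isMult_deltaGL lam)
  rw [Phi_mem_POm_iff_of_sq h2 plusQ_nondeg hT hneg (δ * δ) lam hmult, Subgroup.coe_mul, hδ,
    deltaGL_sq_mul_scalar, Cfsg.Agent.Helper17.OmegaElts.mem_omegaGL_iff]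
  have hex : Fintype.card F ≠ 2 ∨ Fintype.card (Fin (k + 2) ⊕ Fin (k + 2)) ≠ 4 := by
    right
    rw [Fintype.card_sum, Fintype.card_fin]
    omega
  have key := psi_dGL_mem_iff (F := F) (m := k + 2) hex (fun _ => (lam : F))
    (fun _ => lam.ne_zero)
  rw [Finset.prod_const, Finset.card_univ, Fintype.card_fin, isSquare_pow_iff_even hlam] at key
  rw [← key]
  constructor
  · rintro ⟨o, ho, hoe⟩
    have : o = Cfsg.Agent.Helper17.Spinor.psi (dGL (fun _ => (lam : F)) (fun _ => lam.ne_zero)) :=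
      Subtype.ext hoe
    rwa [this] at ho
  · intro hmem
    exact ⟨_, hmem, rfl⟩

end

end Cfsg.Agent.Helper17.ConfAut
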