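import Mathlib
import Cfsg.Agent.Lib.Helper17.ConfAut16

/-!
# Plus type: `Inndiag / Inn` is `C₂`, `C₄` or `C₂ × C₂` (helper17)
-/

set_option autoImplicit false
set_option linter.unusedSectionVars false

namespace Cfsg.Agent.Helper17.ConfAut
open Cfsg QuadraticMap Module Cfsg.Agent.Helper17.Spinor Cfsg.Agent.Helper2.Orth

variable {F : Type*} [Field F] [Fintype F]

section
variable (k : ℕ) (hodd : Odd (Fintype.card F))

local notation "Qp" => plusQ (k + 2) F
local notation "Ip" => Fin (k + 2) ⊕ Fin (k + 2)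

/-- an element of the image of the class-preserving similarities -/
noncomputable def toPC (g : ↥(GO (⇑Qp))) (hg : (g : GL Ip F) ∈ classGO (k + 2) F) : ↥(PC (k + 2) F) :=
  ⟨Phi (⇑Qp) g, ⟨g, by rw [SetLike.mem_coe, Subgroup.mem_subgroupOf]; exact hg, rfl⟩⟩

theorem toPC_mul (g h : ↥(GO (⇑Qp))) (hg : (g : GL Ip F) ∈ classGO (k + 2) F)
    (hh : (h : GL Ip F) ∈ classGO (k + 2) F) :
    toPC k g hg * toPC k h hh = toPC k (g * h) (by
      rw [Subgroup.coe_mul]; exact (classGO (k + 2) F).mul_mem hg hh) := by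
  apply Subtype.ext
  show Phi (⇑Qp) g * Phi (⇑Qp) h = Phi (⇑Qp) (g * h)
  rw [map_mul]

theorem mk_toPC_eq_one_iff [hn : ((POm Qp).subgroupOf (PC (k + 2) F)).Normal]
    (g : ↥(GO (⇑Qp))) (hg : (g : GL Ip F) ∈ classGO (k + 2) F) :
    (QuotientGroup.mk (toPC k g hg) : ↥(PC (k + 2) F) ⧸ (POm Qp).subgroupOf (PC (k + 2) F)) = 1 ↔
      Phi (⇑Qp) g ∈ POm Qp := by
  rw [QuotientGroup.eq_one_iff, Subgroup.mem_subgroupOf]
  rfl

include hodd

theorem exists_nonsquare_unit : ∃ lam : Fˣ, ¬ IsSquare (lam : F) := by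
  have h2 := two_ne_zero_of_odd_card hodd
  have hchar : ringChar F ≠ 2 := by
    intro h
    have : CharP F 2 := ringChar.of_eq h
    exact h2 CharTwo.two_eq_zero
  obtain ⟨t, ht⟩ := FiniteField.exists_nonsquare hchar
  have ht0 : t ≠ 0 := by
    rintro rfl
    exact ht ⟨0, by ring⟩
  exact ⟨Units.mk0 t ht0, ht⟩

theorem card_quot_PC_of_mem (hneg : (negGL : GL Ip F) ∈ Geo.omegaGL (⇑Qp)) :
    Nat.card (↥(PC (k + 2) F) ⧸ (POm Qp).subgroupOf (PC (k + 2) F)) = 4 := by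
  classical
  have h2 := two_ne_zero_of_odd_card hodd
  have hT := twoHyp_plus (F := F) k
  obtain ⟨lam, hlam⟩ := exists_nonsquare_unit hodd
  rw [card_quotient_subgroupOf,
    ← Subgroup.relIndex_mul_relIndex (POm Qp) (PSO Qp) (PC (k + 2) F) (POm_le_PSO Qp) PSO_le_PC,
    relIndex_PSO_PC k hodd hlam,
    relIndex_POm_PSO_of_mem h2 plusQ_nondeg hT (card_plus_even (k + 2)) hneg]

theorem card_quot_PC_of_not_mem (hneg : (negGL : GL Ip F) ∉ Geo.omegaGL (⇑Qp)) :
    Nat.card (↥(PC (k + 2) F) ⧸ (POm Qp).subgroupOf (PC (k + 2) F)) = 2 := by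
  classical
  have h2 := two_ne_zero_of_odd_card hodd
  have hT := twoHyp_plus (F := F) k
  obtain ⟨lam, hlam⟩ := exists_nonsquare_unit hodd
  rw [card_quotient_subgroupOf,
    ← Subgroup.relIndex_mul_relIndex (POm Qp) (PSO Qp) (PC (k + 2) F) (POm_le_PSO Qp) PSO_le_PC,
    relIndex_PSO_PC k hodd hlam, Subgroup.relIndex_eq_one.2
      (PSO_le_POm_of_not_mem h2 plusQ_nondeg hT (card_plus_even (k + 2)) hneg)]

theorem POm_normal_in_PC : ((POm Qp).subgroupOf (PC (k + 2) F)).Normal := by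
  have hnorm : (POm Qp).Normal := by
    have := inn_normal (Cfsg.POmega F (⇑Qp))
    rw [inn_eq] at this
    exact this
  infer_instance

/-- **`Inndiag / Inn` for the plus type** -/
theorem inndiag_plus_structure (hk : 1 ≤ k) :
    ((Odd (k + 2) ∧ Fintype.card F % 4 = 3) →
      ∃ φ : ↥(PC (k + 2) F) →* Multiplicative (ZMod 2),
        Function.Surjective φ ∧ φ.ker = (POm Qp).subgroupOf (PC (k + 2) F)) ∧
    ((Odd (k + 2) ∧ Fintype.card F % 4 = 1) →
      ∃ φ : ↥(PC (k + 2) F) →* Multiplicative (ZMod 4),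
        Function.Surjective φ ∧ φ.ker = (POm Qp).subgroupOf (PC (k + 2) F)) ∧
    (Even (k + 2) →
      ∃ φ : ↥(PC (k + 2) F) →* Multiplicative (ZMod 2 × ZMod 2),
        Function.Surjective φ ∧ φ.ker = (POm Qp).subgroupOf (PC (k + 2) F)) := by
  classical
  have h2 := two_ne_zero_of_odd_card hodd
  have hT := twoHyp_plus (F := F) k
  have hnorm := POm_normal_in_PC k hodd
  have hnegiff := negGL_mem_plus_iff hodd (k + 2) (by omega)
  obtain ⟨lam, hlam⟩ := exists_nonsquare_unit hodd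
  set δ : ↥(GO (⇑Qp)) := ⟨deltaGL lam, classGO_le_GO (deltaGL_mem_classGO lam)⟩ with hδ
  have hδm : (δ : GL Ip F) ∈ classGO (k + 2) F := deltaGL_mem_classGO lam
  have hδsq : toPC k δ hδm * toPC k δ hδm = toPC k (δ * δ) (by
      rw [Subgroup.coe_mul]; exact (classGO (k + 2) F).mul_mem hδm hδm) := toPC_mul k δ δ hδm hδm
  have hδPSO : Phi (⇑Qp) δ ∉ PSO Qp := by
    rw [Phi_mem_PSO_iff_of_class k hodd δ (isMult_deltaGL lam) hδm]
    exact hlam
  refine ⟨?_, ?_, ?_⟩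
  · intro hc
    have hneg : (negGL : GL Ip F) ∉ Geo.omegaGL (⇑Qp) := by
      rw [hnegiff]; exact fun hn => hn hc
    have hcard := card_quot_PC_of_not_mem k hodd hneg
    exact exists_hom_of_quotient_equiv _ _ (zmod2_of_card hcard)
  · intro hc
    have hneg : (negGL : GL Ip F) ∈ Geo.omegaGL (⇑Qp) := by
      rw [hnegiff]
      rintro ⟨-, h3⟩
      omega
    have hcard := card_quot_PC_of_mem k hodd hneg
    apply exists_hom_of_quotient_equiv
    apply zmod4_of_card_of_sq_ne hcard (x := QuotientGroup.mk (toPC k δ hδm))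
    rw [← QuotientGroup.mk_mul, hδsq, Ne, mk_toPC_eq_one_iff,
      Phi_delta_sq_mem_iff k hodd hlam hneg hk δ rfl]
    rw [Nat.not_even_iff_odd]
    exact hc.1
  · intro hev
    have hneg : (negGL : GL Ip F) ∈ Geo.omegaGL (⇑Qp) := by
      rw [hnegiff]
      rintro ⟨ho, -⟩
      exact (Nat.not_even_iff_odd.2 ho) hev
    have hcard := card_quot_PC_of_mem k hodd hneg
    -- an element of `SO` outside `Ω`
    have hn : 2 ≤ Fintype.card Ip := two_le_card h2 plusQ_nondeg hT (card_plus_even (k + 2))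
    have hidx := relIndex_omegaGL (Q := Qp) h2 plusQ_nondeg hn
    obtain ⟨s₀, hs₀, hs₀'⟩ : ∃ s₀ ∈ Cfsg.specialIsometryGL F (⇑Qp), s₀ ∉ Geo.omegaGL (⇑Qp) := by
      by_contra hcon
      push Not at hcon
      have : (Geo.omegaGL (⇑Qp)).relIndex (Cfsg.specialIsometryGL F (⇑Qp)) = 1 :=
        Subgroup.relIndex_eq_one.2 hcon
      omega
    set σ : ↥(GO (⇑Qp)) := ⟨s₀, specialIsometryGL_le_GO (⇑Qp) hs₀⟩ with hσ
    have hσm : (σ : GL Ip F) ∈ classGO (k + 2) F := special_le_classGO hs₀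
    have hσ1 : IsMult Qp (σ : GL Ip F) 1 := by
      unfold Cfsg.specialIsometryGL at hs₀
      rw [Subgroup.mem_inf] at hs₀
      exact isMult_one_iff.2 hs₀.1
    have hσPSO : Phi (⇑Qp) σ ∈ PSO Qp :=
      ⟨σ, by rw [SetLike.mem_coe, Subgroup.mem_subgroupOf]; exact hs₀, rfl⟩
    apply exists_hom_of_quotient_equiv
    apply klein_of_two_involutions hcard (s := QuotientGroup.mk (toPC k δ hδm))
      (t := QuotientGroup.mk (toPC k σ hσm))
    · rw [← QuotientGroup.mk_mul, hδsq, mk_toPC_eq_one_iff,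
        Phi_delta_sq_mem_iff k hodd hlam hneg hk δ rfl]
      exact hev
    · rw [← QuotientGroup.mk_mul, toPC_mul, mk_toPC_eq_one_iff]
      have hσσ : IsMult Qp ((σ * σ : ↥(GO (⇑Qp))) : GL Ip F) 1 := by
        have := hσ1.mul hσ1
        rw [mul_one] at this
        rwa [Subgroup.coe_mul]
      rw [Phi_mem_POm_iff h2 plusQ_nondeg hT _ hσσ]
      left
      rw [Subgroup.coe_mul, mul_mem_iff_of_relIndex_two hidx hs₀ hs₀]
    · rw [Ne, mk_toPC_eq_one_iff]
      exact fun hc => hδPSO (POm_le_PSO Qp hc)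
    · rw [Ne, mk_toPC_eq_one_iff, Phi_mem_POm_iff h2 plusQ_nondeg hT _ hσ1,
        Subgroup.mul_mem_cancel_right _ hneg, or_self]
      exact hs₀'
    · intro heq
      rw [QuotientGroup.eq, Subgroup.mem_subgroupOf] at heq
      have h3 : (Phi (⇑Qp) δ)⁻¹ * Phi (⇑Qp) σ ∈ POm Qp := heq
      have h4 := POm_le_PSO Qp h3
      rw [Subgroup.mul_mem_cancel_right _ hσPSO, Subgroup.inv_mem_iff] at h4
      exact hδPSO h4

end

end Cfsg.Agent.Helper17.ConfAut
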