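import Mathlib
import Cfsg.Agent.Lib.Helper17.ConfAut5
import Cfsg.Agent.Lib.Helper13.MatQuad

/-!
# Similarities of matrix quadratic forms and base change (helper17)
-/

set_option autoImplicit false
set_option linter.unusedSectionVars false

namespace Cfsg.Agent.Helper17.ConfAut
open Cfsg QuadraticMap Matrix Cfsg.Agent.Helper13

variable {F : Type*} [Field F] {ι : Type} [Fintype ι] [DecidableEq ι]

theorem dotProduct_mulVec_mulVec (A M : Matrix ι ι F) (u v : ι → F) :
    (A *ᵥ u) ⬝ᵥ (M *ᵥ (A *ᵥ v)) = u ⬝ᵥ ((Aᵀ * M * A) *ᵥ v) := by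
  rw [← Matrix.vecMul_transpose A u, ← Matrix.dotProduct_mulVec, Matrix.mulVec_mulVec,
    Matrix.mulVec_mulVec]

theorem eq_of_forall_dotProduct_mulVec {A B : Matrix ι ι F}
    (h : ∀ u v : ι → F, u ⬝ᵥ (A *ᵥ v) = u ⬝ᵥ (B *ᵥ v)) : A = B := by
  ext i j
  have := h (Pi.single i 1) (Pi.single j 1)
  simpa [Matrix.mulVec_single_one] using this

/-- similarity condition as a matrix identity (odd characteristic) -/
theorem isMult_matQ_iff (h2 : (2 : F) ≠ 0) (N : Matrix ι ι F) (g : GL ι F) (c : F) :
    IsMult (matQ N) g c ↔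
      (g : Matrix ι ι F)ᵀ * (N + Nᵀ) * (g : Matrix ι ι F) = c • (N + Nᵀ) := by
  constructor
  · intro h
    apply eq_of_forall_dotProduct_mulVec
    intro u v
    rw [← dotProduct_mulVec_mulVec, ← polar_matQ, h.polar, polar_matQ, Matrix.smul_mulVec,
      dotProduct_smul, smul_eq_mul]
  · intro h v
    have h1 : (2 : F) * matQ N ((g : Matrix ι ι F) *ᵥ v) = 2 * (c * matQ N v) := by
      have e1 := QuadraticMap.polar_self (matQ N) ((g : Matrix ι ι F) *ᵥ v)
      have e2 := QuadraticMap.polar_self (matQ N) v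
      rw [two_nsmul, ← two_mul] at e1 e2
      rw [← e1, polar_matQ, dotProduct_mulVec_mulVec, h, Matrix.smul_mulVec, dotProduct_smul,
        smul_eq_mul, ← polar_matQ, e2]
      ring
    exact mul_left_cancel₀ h2 h1

section basechange
variable {K : Type*} [Field K] (φ : F →+* K)

theorem map_coe_GL (g : GL ι F) :
    ((Matrix.GeneralLinearGroup.map (n := ι) φ g : GL ι K) : Matrix ι ι K)
      = (g : Matrix ι ι F).map φ := rfl

/-- similarities stay similarities after extending the scalars -/
theorem IsMult.map (h2 : (2 : F) ≠ 0) {N : Matrix ι ι F} {g : GL ι F} {c : F}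
    (h : IsMult (matQ N) g c) :
    IsMult (matQ (N.map φ)) (Matrix.GeneralLinearGroup.map (n := ι) φ g) (φ c) := by
  have h2K : (2 : K) ≠ 0 := by
    have := φ.injective.ne h2
    rwa [map_zero, map_ofNat] at this
  rw [isMult_matQ_iff h2] at h
  rw [isMult_matQ_iff h2K, map_coe_GL]
  have := congrArg (fun M : Matrix ι ι F => M.map φ) h
  simp only [Matrix.map_mul, Matrix.transpose_map] at this
  have hadd : (N + Nᵀ).map φ = N.map φ + (N.map φ)ᵀ := by
    ext i j
    simp [Matrix.map_apply]
  rw [hadd] at this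
  rw [this, ← hadd]
  ext i j
  simp [Matrix.map_apply, Matrix.smul_apply, mul_add]

end basechange

end Cfsg.Agent.Helper17.ConfAut
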