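import Mathlib
import Cfsg.Agent.Lib.Helper17.ConfAut5
import Cfsg.Prelude.Def_LieTypeDatum

/-!
# Transport of class preservation along an isometry of quadratic spaces (helper17)
-/

set_option autoImplicit false
set_option linter.unusedSectionVars false

namespace Cfsg.Agent.Helper17.ConfAut
open Cfsg QuadraticMap Module

section transport
variable {K : Type*} [Field K] {ι ι' : Type} [Fintype ι] [DecidableEq ι] [Fintype ι']
  [DecidableEq ι'] (T : (ι → K) ≃ₗ[K] (ι' → K))

/-- conjugate of a matrix by a linear equivalence of the coordinate spaces -/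
noncomputable def conjT (g : Matrix ι ι K) : Matrix ι' ι' K :=
  LinearMap.toMatrix' (T.toLinearMap ∘ₗ Matrix.toLin' g ∘ₗ T.symm.toLinearMap)

theorem toLin'_conjT (g : Matrix ι ι K) :
    Matrix.toLin' (conjT T g) = T.toLinearMap ∘ₗ Matrix.toLin' g ∘ₗ T.symm.toLinearMap := by
  unfold conjT
  rw [Matrix.toLin'_toMatrix']

theorem conjT_mulVec (g : Matrix ι ι K) (v : ι' → K) :
    (conjT T g).mulVec v = T (g.mulVec (T.symm v)) := by
  have := LinearMap.congr_fun (toLin'_conjT T g) v
  simpa [Matrix.toLin'_apply] using this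

theorem det_conjT (g : Matrix ι ι K) : (conjT T g).det = g.det := by
  unfold conjT
  rw [LinearMap.det_toMatrix']
  have := LinearMap.det_conj (Matrix.toLin' g) T
  rw [this, LinearMap.det_toLin']

theorem conjT_mul (g h : Matrix ι ι K) : conjT T (g * h) = conjT T g * conjT T h := by
  apply Matrix.toLin'.injective
  rw [Matrix.toLin'_mul, toLin'_conjT, toLin'_conjT, toLin'_conjT, Matrix.toLin'_mul]
  ext v
  simp

theorem conjT_one : conjT T (1 : Matrix ι ι K) = 1 := by
  apply Matrix.toLin'.injective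
  rw [toLin'_conjT, Matrix.toLin'_one, Matrix.toLin'_one]
  ext v
  simp

/-- conjugate of an invertible matrix -/
noncomputable def conjTGL (g : GL ι K) : GL ι' K :=
  ⟨conjT T (g : Matrix ι ι K), conjT T ((g⁻¹ : GL ι K) : Matrix ι ι K), by
    rw [← conjT_mul, ← Units.val_mul, mul_inv_cancel, Units.val_one, conjT_one], by
    rw [← conjT_mul, ← Units.val_mul, inv_mul_cancel, Units.val_one, conjT_one]⟩

theorem conjTGL_coe (g : GL ι K) :
    ((conjTGL T g : GL ι' K) : Matrix ι' ι' K) = conjT T (g : Matrix ι ι K) := rfl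

variable {T}
variable {Q : QuadraticForm K (ι → K)} {Q' : QuadraticForm K (ι' → K)}

theorem IsMult.conjT (hT : ∀ v, Q' (T v) = Q v) {g : GL ι K} {c : K} (h : IsMult Q g c) :
    IsMult Q' (conjTGL T g) c := by
  intro v
  rw [conjTGL_coe, conjT_mulVec, hT, h, ← hT, LinearEquiv.apply_symm_apply]

theorem isTSQuad_map_iff (hT : ∀ v, Q' (T v) = Q v) (U : Submodule K (ι → K)) :
    Geo.IsTotallySingularQuad (⇑Q') (U.map T.toLinearMap) ↔ Geo.IsTotallySingularQuad (⇑Q) U := by
  constructor
  · intro h u hu
    rw [← hT]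
    exact h _ ⟨u, hu, rfl⟩
  · rintro h _ ⟨u, hu, rfl⟩
    show Q' (T u) = 0
    rw [hT]
    exact h u hu

theorem map_symm_map (U' : Submodule K (ι' → K)) :
    (U'.map T.symm.toLinearMap).map T.toLinearMap = U' := by
  rw [← Submodule.map_comp]
  have : T.toLinearMap ∘ₗ T.symm.toLinearMap = LinearMap.id := by
    ext v; simp
  rw [this, Submodule.map_id]

theorem map_map_symm (U : Submodule K (ι → K)) :
    (U.map T.toLinearMap).map T.symm.toLinearMap = U := by
  rw [← Submodule.map_comp]
  have : T.symm.toLinearMap ∘ₗ T.toLinearMap = LinearMap.id := by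
    ext v; simp
  rw [this, Submodule.map_id]

theorem map_le_map_iff_T (U W : Submodule K (ι → K)) :
    U.map T.toLinearMap ≤ W.map T.toLinearMap ↔ U ≤ W :=
  Submodule.map_le_map_iff_of_injective T.injective U W

theorem isMaxTS_map_iff (hT : ∀ v, Q' (T v) = Q v) (U : Submodule K (ι → K)) :
    Cfsg.IsMaxTotallySingular (⇑Q') (U.map T.toLinearMap) ↔ Cfsg.IsMaxTotallySingular (⇑Q) U := by
  constructor
  · rintro ⟨h1, h2⟩
    refine ⟨(isTSQuad_map_iff hT U).1 h1, ?_⟩
    intro W hW hUW
    have := h2 (W.map T.toLinearMap) ((isTSQuad_map_iff hT W).2 hW) ((map_le_map_iff_T U W).2 hUW)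
    exact Submodule.map_injective_of_injective T.injective this
  · rintro ⟨h1, h2⟩
    refine ⟨(isTSQuad_map_iff hT U).2 h1, ?_⟩
    intro W' hW' hUW'
    rw [← map_symm_map (T := T) W'] at hW' hUW' ⊢
    rw [isTSQuad_map_iff hT] at hW'
    rw [map_le_map_iff_T] at hUW'
    rw [h2 _ hW' hUW']

theorem finrank_map_T (U : Submodule K (ι → K)) :
    finrank K ↥(U.map T.toLinearMap) = finrank K ↥U :=
  (LinearEquiv.finrank_eq (Submodule.equivMapOfInjective _ T.injective U)).symm

theorem map_inf_T (U W : Submodule K (ι → K)) :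
    (U ⊓ W).map T.toLinearMap = U.map T.toLinearMap ⊓ W.map T.toLinearMap :=
  Submodule.map_inf _ T.injective

theorem sameParity_map_iff (U W : Submodule K (ι → K)) :
    Cfsg.SameParityClass (U.map T.toLinearMap) (W.map T.toLinearMap) ↔
      Cfsg.SameParityClass U W := by
  unfold Cfsg.SameParityClass
  rw [← map_inf_T, finrank_map_T, finrank_map_T]

theorem imageSubmodule_conjT (g : Matrix ι ι K) (U : Submodule K (ι → K)) :
    Cfsg.imageSubmodule (conjT T g) (U.map T.toLinearMap)
      = (Cfsg.imageSubmodule g U).map T.toLinearMap := by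
  unfold Cfsg.imageSubmodule
  rw [toLin'_conjT, ← Submodule.map_comp, ← Submodule.map_comp]
  congr 1
  ext v
  simp

/-- **transport of class preservation** -/
theorem preservesSingularClasses_conjT_iff (hT : ∀ v, Q' (T v) = Q v) (g : Matrix ι ι K) :
    Cfsg.PreservesSingularClasses (⇑Q') (conjT T g) ↔ Cfsg.PreservesSingularClasses (⇑Q) g := by
  constructor
  · intro h U hU
    have := h (U.map T.toLinearMap) ((isMaxTS_map_iff hT U).2 hU)
    rw [imageSubmodule_conjT, sameParity_map_iff] at this
    exact this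
  · intro h U' hU'
    rw [← map_symm_map (T := T) U'] at hU' ⊢
    rw [isMaxTS_map_iff hT] at hU'
    rw [imageSubmodule_conjT, sameParity_map_iff]
    exact h _ hU'

end transport

end Cfsg.Agent.Helper17.ConfAut
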