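import Mathlib
import Cfsg.Agent.Lib.Helper17.ConfAut19
import Cfsg.Agent.Lib.Helper17.ConfAut14
import Cfsg.Agent.Lib.Helper17.ConfAut18

/-!
# Minus type: splitting over a field containing a root of the binary part (helper17)
-/

set_option autoImplicit false
set_option linter.unusedSectionVars false

namespace Cfsg.Agent.Helper17.ConfAut
open Cfsg QuadraticMap Module Cfsg.Agent.Helper17.Spinor Cfsg.Agent.Helper13

section split
variable {K : Type*} [Field K] (m : ℕ) (t t' : K)

/-- the coordinate change `(x, y, z) ↦ (x, z₁ - t z₂ ; y, z₁ - t' z₂)` -/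
noncomputable def minusT : ((Fin m ⊕ Fin m) ⊕ Fin 2 → K) →ₗ[K] (Fin (m + 1) ⊕ Fin (m + 1) → K) where
  toFun v := Sum.elim
    (Fin.snoc (α := fun _ => K) (fun i : Fin m => v (Sum.inl (Sum.inl i)))
      (v (Sum.inr 0) - t * v (Sum.inr 1)))
    (Fin.snoc (α := fun _ => K) (fun i : Fin m => v (Sum.inl (Sum.inr i)))
      (v (Sum.inr 0) - t' * v (Sum.inr 1)))
  map_add' u v := by
    ext (i | i)
    · refine Fin.lastCases ?_ (fun j => ?_) i
      · simp; ring
      · simp
    · refine Fin.lastCases ?_ (fun j => ?_) i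
      · simp; ring
      · simp
  map_smul' c v := by
    ext (i | i)
    · refine Fin.lastCases ?_ (fun j => ?_) i
      · simp; ring
      · simp
    · refine Fin.lastCases ?_ (fun j => ?_) i
      · simp; ring
      · simp

theorem minusT_inl_castSucc (v : (Fin m ⊕ Fin m) ⊕ Fin 2 → K) (i : Fin m) :
    minusT m t t' v (Sum.inl (Fin.castSucc i)) = v (Sum.inl (Sum.inl i)) := by
  simp [minusT]

theorem minusT_inr_castSucc (v : (Fin m ⊕ Fin m) ⊕ Fin 2 → K) (i : Fin m) :
    minusT m t t' v (Sum.inr (Fin.castSucc i)) = v (Sum.inl (Sum.inr i)) := by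
  simp [minusT]

theorem minusT_inl_last (v : (Fin m ⊕ Fin m) ⊕ Fin 2 → K) :
    minusT m t t' v (Sum.inl (Fin.last m)) = v (Sum.inr 0) - t * v (Sum.inr 1) := by
  simp [minusT]

theorem minusT_inr_last (v : (Fin m ⊕ Fin m) ⊕ Fin 2 → K) :
    minusT m t t' v (Sum.inr (Fin.last m)) = v (Sum.inr 0) - t' * v (Sum.inr 1) := by
  simp [minusT]

theorem minusT_injective (hne : t ≠ t') : Function.Injective (minusT m t t') := by
  rw [← LinearMap.ker_eq_bot, LinearMap.ker_eq_bot']
  intro v hv
  have h1 : ∀ i, v (Sum.inl (Sum.inl i)) = 0 := fun i => by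
    rw [← minusT_inl_castSucc m t t' v i, hv]; rfl
  have h2 : ∀ i, v (Sum.inl (Sum.inr i)) = 0 := fun i => by
    rw [← minusT_inr_castSucc m t t' v i, hv]; rfl
  have h3 : v (Sum.inr 0) - t * v (Sum.inr 1) = 0 := by
    rw [← minusT_inl_last m t t' v, hv]; rfl
  have h4 : v (Sum.inr 0) - t' * v (Sum.inr 1) = 0 := by
    rw [← minusT_inr_last m t t' v, hv]; rfl
  have h5 : (t - t') * v (Sum.inr 1) = 0 := by linear_combination h4 - h3
  have h6 : v (Sum.inr 1) = 0 := by
    rcases mul_eq_zero.1 h5 with h | h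
    · exact absurd (sub_eq_zero.1 h) hne
    · exact h
  have h7 : v (Sum.inr 0) = 0 := by
    rw [h6, mul_zero, sub_zero] at h3
    exact h3
  ext ((i | i) | j)
  · exact h1 i
  · exact h2 i
  · fin_cases j
    · exact h7
    · exact h6

/-- the coordinate change as a linear equivalence -/
noncomputable def minusTEquiv (hne : t ≠ t') :
    ((Fin m ⊕ Fin m) ⊕ Fin 2 → K) ≃ₗ[K] (Fin (m + 1) ⊕ Fin (m + 1) → K) :=
  (minusT m t t').linearEquivOfInjective (minusT_injective m t t' hne) (by
    rw [Module.finrank_fintype_fun_eq_card, Module.finrank_fintype_fun_eq_card]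
    simp only [Fintype.card_sum, Fintype.card_fin]
    ring)

theorem minusTEquiv_apply (hne : t ≠ t') (v : (Fin m ⊕ Fin m) ⊕ Fin 2 → K) :
    minusTEquiv m t t' hne v = minusT m t t' v := rfl

/-- the minus form becomes the hyperbolic form -/
theorem plusQ_minusT (a b : K) (hsum : t + t' = -a) (hprod : t * t' = b)
    (v : (Fin m ⊕ Fin m) ⊕ Fin 2 → K) :
    plusQ (m + 1) K (minusT m t t' v) = matQ (minusMat m a b) v := by
  rw [plusQ_apply, matQ_minusMat, Fin.sum_univ_castSucc]
  simp only [minusT_inl_castSucc, minusT_inr_castSucc, minusT_inl_last, minusT_inr_last]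
  have ha : a = -(t + t') := by rw [hsum, neg_neg]
  rw [ha, ← hprod]
  ring

end split

end Cfsg.Agent.Helper17.ConfAut
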