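import Mathlib
import Cfsg.Agent.Lib.Helper17.ConfAut20
import Cfsg.Agent.Lib.Helper2.OrthOrders

/-!
# Minus type: class preservation over a splitting field (helper17)
-/

set_option autoImplicit false
set_option linter.unusedSectionVars false

namespace Cfsg.Agent.Helper17.ConfAut
open Cfsg QuadraticMap Module Cfsg.Agent.Helper17.Spinor Cfsg.Agent.Helper13

variable {F : Type*} [Field F] {K : Type*} [Field K] (φ : F →+* K) (m : ℕ)

theorem minusMat_map (a b : F) : (minusMat m a b).map φ = minusMat m (φ a) (φ b) := by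
  unfold minusMat plusMat
  rw [Matrix.fromBlocks_map, Matrix.fromBlocks_map]
  congr 1
  · congr 1 <;> simp
  · simp
  · simp
  · ext i j
    fin_cases i <;> fin_cases j <;> simp

/-- **class preservation for the minus form, over any field where the binary part splits** -/
theorem preservesSingularClasses_minus_iff (h2 : (2 : F) ≠ 0) (a b : F) {t : K}
    (ht : t ^ 2 + φ a * t + φ b = 0) (hne : t ≠ -φ a - t)
    {g : GL ((Fin m ⊕ Fin m) ⊕ Fin 2) F} {c : F} (hc0 : c ≠ 0)
    (hc : IsMult (matQ (minusMat m a b)) g c) :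
    Cfsg.PreservesSingularClasses (Cfsg.quadFormMinus m K (φ a) (φ b))
        ((g : Matrix ((Fin m ⊕ Fin m) ⊕ Fin 2) ((Fin m ⊕ Fin m) ⊕ Fin 2) F).map φ) ↔
      (g : Matrix ((Fin m ⊕ Fin m) ⊕ Fin 2) ((Fin m ⊕ Fin m) ⊕ Fin 2) F).det = c ^ (m + 1) := by
  have h2K : (2 : K) ≠ 0 := by
    have := φ.injective.ne h2
    rwa [map_zero, map_ofNat] at this
  rw [Cfsg.Agent.Helper2.Orth.quadFormMinus_eq]
  set gK : GL ((Fin m ⊕ Fin m) ⊕ Fin 2) K := Matrix.GeneralLinearGroup.map (n := (Fin m ⊕ Fin m) ⊕ Fin 2) φ g with hgK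
  have hKmult : IsMult (matQ (minusMat m (φ a) (φ b))) gK (φ c) := by
    have := IsMult.map φ h2 hc
    rwa [minusMat_map] at this
  set T := minusTEquiv m t (-φ a - t) hne with hTdef
  have hT : ∀ v, plusQ (m + 1) K (T v) = matQ (minusMat m (φ a) (φ b)) v := by
    intro v
    rw [hTdef, minusTEquiv_apply]
    apply plusQ_minusT
    · ring
    · linear_combination -ht
  rw [← preservesSingularClasses_conjT_iff hT, ← map_coe_GL, ← hgK, ← conjTGL_coe,
    preservesSingularClasses_iff h2K (φ.injective.ne hc0 |> fun h => by rwa [map_zero] at h)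
      (hKmult.conjT hT),
    conjTGL_coe, det_conjT, hgK, map_coe_GL]
  have hdet : ((g : Matrix ((Fin m ⊕ Fin m) ⊕ Fin 2) ((Fin m ⊕ Fin m) ⊕ Fin 2) F).map φ).det
      = φ ((g : Matrix ((Fin m ⊕ Fin m) ⊕ Fin 2) ((Fin m ⊕ Fin m) ⊕ Fin 2) F).det) := by
    rw [RingHom.map_det]; rfl
  rw [hdet, ← map_pow]
  exact φ.injective.eq_iff

end Cfsg.Agent.Helper17.ConfAut
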