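import Mathlib
import Cfsg.Agent.Lib.Helper17.ConfAut21
import Cfsg.Agent.Lib.Helper17.QuadRoot

/-!
# Minus type: class preservation iff `det g = μ(g)^(m+1)` (helper17)
-/

set_option autoImplicit false
set_option linter.unusedSectionVars false

namespace Cfsg.Agent.Helper17.ConfAut
open Cfsg QuadraticMap Module Cfsg.Agent.Helper17.Spinor Cfsg.Agent.Helper13

universe u

variable {F : Type u} [Field F] [Fintype F] (m : ℕ) (a b : F)

theorem no_root_of_aniso (hab : ∀ z₁ z₂ : F, z₁ ^ 2 + a * z₁ * z₂ + b * z₂ ^ 2 = 0 → z₁ = 0 ∧ z₂ = 0)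
    (z : F) : z ^ 2 + a * z + b ≠ 0 := by
  intro h
  have := hab z 1 (by rw [← h]; ring)
  exact one_ne_zero this.2

/-- in a quadratic extension of a finite field, the binary part has two distinct roots -/
theorem exists_root_of_finrank_two (h2 : (2 : F) ≠ 0)
    (hab : ∀ z₁ z₂ : F, z₁ ^ 2 + a * z₁ * z₂ + b * z₂ ^ 2 = 0 → z₁ = 0 ∧ z₂ = 0)
    (K : Type*) [Field K] [Algebra F K] (hK : finrank F K = 2) :
    ∃ t : K, t ^ 2 + algebraMap F K a * t + algebraMap F K b = 0 ∧
      t ≠ -algebraMap F K a - t := by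
  have hfin : Module.Finite F K := Module.finite_of_finrank_pos (by rw [hK]; norm_num)
  have : Finite K := Module.finite_of_finite F
  let _ : Fintype K := Fintype.ofFinite K
  have hcard : Fintype.card K = Fintype.card F ^ 2 := by
    rw [Module.card_eq_pow_finrank (K := F) (V := K), hK]
  obtain ⟨t, ht⟩ := exists_root_quadratic hcard rfl (algebraMap F K) a b
    (no_root_of_aniso a b hab)
  refine ⟨t, ht, ?_⟩
  intro heq
  have h2K : (2 : K) ≠ 0 := by
    have := (algebraMap F K).injective.ne h2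
    rwa [map_zero, map_ofNat] at this
  have h3 : t = algebraMap F K (-a / 2) := by
    rw [map_div₀, map_neg, map_ofNat]
    field_simp
    linear_combination heq
  rw [h3, ← map_pow, ← map_mul, ← map_add, ← map_add] at ht
  have := (algebraMap F K).injective (ht.trans (map_zero _).symm)
  exact no_root_of_aniso a b hab _ this

open Polynomial in
/-- a quadratic extension exists in the same universe -/
theorem exists_quadratic_extension
    (hab : ∀ z₁ z₂ : F, z₁ ^ 2 + a * z₁ * z₂ + b * z₂ ^ 2 = 0 → z₁ = 0 ∧ z₂ = 0) :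
    ∃ (K : Type u) (_ : Field K) (_ : Algebra F K), finrank F K = 2 := by
  obtain ⟨f, hf⟩ : ∃ f : F[X], f = X ^ 2 + C a * X + C b := ⟨_, rfl⟩
  have hdeg : f.natDegree = 2 := by
    rw [hf]; compute_degree!
  have hirr : Irreducible f := by
    apply Polynomial.irreducible_of_degree_le_three_of_not_isRoot
    · rw [hdeg]; decide
    · intro z hz
      apply no_root_of_aniso a b hab z
      have : f.eval z = 0 := hz
      rw [hf] at this
      simpa using this
  have : Fact (Irreducible f) := ⟨hirr⟩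
  refine ⟨AdjoinRoot f, inferInstance, inferInstance, ?_⟩
  rw [(AdjoinRoot.powerBasis hirr.ne_zero).finrank, AdjoinRoot.powerBasis_dim, hdeg]

/-- **class preservation for the minus type** -/
theorem preservesSingularClassesMinus_iff (h2 : (2 : F) ≠ 0)
    (hab : ∀ z₁ z₂ : F, z₁ ^ 2 + a * z₁ * z₂ + b * z₂ ^ 2 = 0 → z₁ = 0 ∧ z₂ = 0)
    {g : GL ((Fin m ⊕ Fin m) ⊕ Fin 2) F} {c : F} (hc0 : c ≠ 0)
    (hc : IsMult (matQ (minusMat m a b)) g c) :
    Cfsg.PreservesSingularClassesMinus m a b
        (g : Matrix ((Fin m ⊕ Fin m) ⊕ Fin 2) ((Fin m ⊕ Fin m) ⊕ Fin 2) F) ↔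
      (g : Matrix ((Fin m ⊕ Fin m) ⊕ Fin 2) ((Fin m ⊕ Fin m) ⊕ Fin 2) F).det = c ^ (m + 1) := by
  constructor
  · rintro ⟨K, instK, instA, hK, hpres⟩
    obtain ⟨t, ht, hne⟩ := exists_root_of_finrank_two a b h2 hab K hK
    exact (preservesSingularClasses_minus_iff (algebraMap F K) m h2 a b ht hne hc0 hc).1 hpres
  · intro hdet
    obtain ⟨K, instK, instA, hK⟩ := exists_quadratic_extension a b hab
    obtain ⟨t, ht, hne⟩ := exists_root_of_finrank_two a b h2 hab K hK
    exact ⟨K, instK, instA, hK,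
      (preservesSingularClasses_minus_iff (algebraMap F K) m h2 a b ht hne hc0 hc).2 hdet⟩

end Cfsg.Agent.Helper17.ConfAut
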