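import Mathlib
import Cfsg.Agent.Lib.Helper17.ConfAut17

/-!
# Similarities with `det g = μ(g)^n`: generic structure of their image modulo `PΩ` (helper17)
-/

set_option autoImplicit false
set_option linter.unusedSectionVars false

namespace Cfsg.Agent.Helper17.ConfAut
open Cfsg QuadraticMap Module Cfsg.Agent.Helper17.Spinor Cfsg.Agent.Helper2.Orth

variable {F : Type*} [Field F] {ι : Type} [Fintype ι] [DecidableEq ι]

/-- the similarities with `det g = μ(g) ^ n` -/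
def dClassGO (Q : QuadraticForm F (ι → F)) (n : ℕ) : Subgroup (GL ι F) where
  carrier := {g | ∃ c : Fˣ, IsMult Q g c ∧ (g : Matrix ι ι F).det = (c : F) ^ n}
  mul_mem' := by
    rintro a b ⟨c, hc, hdc⟩ ⟨d, hd, hdd⟩
    refine ⟨c * d, ?_, ?_⟩
    · rw [Units.val_mul]; exact hc.mul hd
    · rw [Units.val_mul, Matrix.det_mul, hdc, hdd, Units.val_mul, mul_pow]
  one_mem' := ⟨1, by rw [Units.val_one]; exact isMult_one_iff.2 (Subgroup.one_mem _), by simp⟩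
  inv_mem' := by
    rintro a ⟨c, hc, hdc⟩
    refine ⟨c⁻¹, ?_, ?_⟩
    · rw [Units.val_inv_eq_inv_val]; exact hc.inv c.ne_zero
    · have h1 : ((a⁻¹ : GL ι F) : Matrix ι ι F).det * (a : Matrix ι ι F).det = 1 := by
        rw [← Matrix.det_mul, ← Units.val_mul, inv_mul_cancel, Units.val_one, Matrix.det_one]
      rw [hdc] at h1
      rw [Units.val_inv_eq_inv_val, inv_pow]
      exact eq_inv_of_mul_eq_one_left h1

variable {Q : QuadraticForm F (ι → F)} {n : ℕ}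

theorem dClassGO_le_GO : dClassGO Q n ≤ GO (⇑Q) := by
  rintro g ⟨c, hc, -⟩
  exact ⟨c, hc⟩

theorem mem_dClassGO_iff (hv : ∃ v : ι → F, Q v ≠ 0) {g : GL ι F} {c : F} (hc0 : c ≠ 0)
    (hc : IsMult Q g c) :
    g ∈ dClassGO Q n ↔ (g : Matrix ι ι F).det = c ^ n := by
  constructor
  · rintro ⟨d, hd, hdd⟩
    rw [IsMult.unique hv hc hd]
    exact hdd
  · intro hdet
    exact ⟨Units.mk0 c hc0, hc, hdet⟩

/-- the image of these similarities -/
noncomputable abbrev PD (Q : QuadraticForm F (ι → F)) (n : ℕ) :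
    Subgroup (MulAut (Cfsg.POmega F (⇑Q))) :=
  ((dClassGO Q n).subgroupOf (GO (⇑Q))).map (Phi (⇑Q))

theorem scalarGL_mem_dClassGO (hcard : Fintype.card ι = 2 * n) (a : Fˣ) :
    (scalarGL a : GL ι F) ∈ dClassGO Q n := by
  refine ⟨a ^ 2, ?_, ?_⟩
  · rw [Units.val_pow_eq_pow_val]; exact isMult_scalarGL a
  · rw [det_scalarGL, hcard, Units.val_pow_eq_pow_val, ← pow_mul]

theorem special_le_dClassGO : Cfsg.specialIsometryGL F (⇑Q) ≤ dClassGO Q n := by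
  intro g hg
  unfold Cfsg.specialIsometryGL at hg
  rw [Subgroup.mem_inf] at hg
  refine ⟨1, ?_, ?_⟩
  · rw [Units.val_one]; exact isMult_one_iff.2 hg.1
  · have h4 : Matrix.GeneralLinearGroup.det g = 1 := hg.2
    have h5 := congrArg Units.val h4
    rw [Matrix.GeneralLinearGroup.val_det_apply] at h5
    rw [h5]
    simp

theorem PSO_le_PD : PSO Q ≤ PD Q n := by
  apply Subgroup.map_mono
  intro k hk
  rw [Subgroup.mem_subgroupOf] at hk ⊢
  exact special_le_dClassGO hk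

theorem PD_le_PG : PD Q n ≤ PG Q := by
  rintro _ ⟨k, -, rfl⟩
  exact ⟨k, rfl⟩

theorem POm_le_PD : POm Q ≤ PD Q n := le_trans (POm_le_PSO Q) PSO_le_PD

section
variable [Fintype F] {i₁ j₁ i₂ j₂ : ι} (h2 : (2 : F) ≠ 0) (hQ : (polarBilin Q).Nondegenerate)
  (h : TwoHyp Q i₁ j₁ i₂ j₂) (hcard : Fintype.card ι = 2 * n)
include h2 hQ h hcard

theorem Phi_mem_PD_iff (g : ↥(GO (⇑Q))) :
    Phi (⇑Q) g ∈ PD Q n ↔ (g : GL ι F) ∈ dClassGO Q n := by
  rw [Phi_mem_map_iff h2 hQ h]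
  constructor
  · rintro ⟨a, ha⟩
    exact (Subgroup.mul_mem_cancel_right _ (scalarGL_mem_dClassGO hcard a)).1 ha
  · intro hg
    exact ⟨1, (Subgroup.mul_mem_cancel_right _ (scalarGL_mem_dClassGO hcard 1)).2 hg⟩

theorem Phi_mem_PSO_iff_of_dclass (g : ↥(GO (⇑Q))) {c : F}
    (hc : IsMult Q (g : GL ι F) c) (hg : (g : GL ι F) ∈ dClassGO Q n) :
    Phi (⇑Q) g ∈ PSO Q ↔ IsSquare c := by
  have hv := exists_Q_ne_zero h2 hQ h
  have hc0 := hc.ne_zero hv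
  rw [Phi_mem_SO_iff h2 hQ h g hc]
  have hdet := (mem_dClassGO_iff hv hc0 hc).1 hg
  constructor
  · rintro ⟨s, hs, -⟩
    exact ⟨s, by rw [hs]; ring⟩
  · rintro ⟨s, hs⟩
    refine ⟨s, by rw [hs]; ring, ?_⟩
    rw [hdet, hs, hcard, pow_mul, pow_two]

theorem relIndex_PSO_PD {δ : ↥(GO (⇑Q))} {lam : F} (hδ : IsMult Q (δ : GL ι F) lam)
    (hδm : (δ : GL ι F) ∈ dClassGO Q n) (hlam : ¬ IsSquare lam) :
    (PSO Q).relIndex (PD Q n) = 2 := by
  classical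
  rw [Subgroup.relIndex_eq_two_iff]
  refine ⟨Phi (⇑Q) δ, ⟨δ, ?_, rfl⟩, ?_⟩
  · rw [SetLike.mem_coe, Subgroup.mem_subgroupOf]
    exact hδm
  rintro _ ⟨g, hg, rfl⟩
  rw [SetLike.mem_coe, Subgroup.mem_subgroupOf] at hg
  obtain ⟨c, hc0, hc⟩ := exists_isMult g
  have hgδ : IsMult Q ((g * δ : ↥(GO (⇑Q))) : GL ι F) (c * lam) := by
    rw [Subgroup.coe_mul]
    exact hc.mul hδ
  have hgδm : ((g * δ : ↥(GO (⇑Q))) : GL ι F) ∈ dClassGO Q n := by
    rw [Subgroup.coe_mul]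
    exact (dClassGO Q n).mul_mem hg hδm
  rw [← map_mul, Phi_mem_PSO_iff_of_dclass h2 hQ h hcard _ hgδ hgδm,
    Phi_mem_PSO_iff_of_dclass h2 hQ h hcard g hc hg,
    Cfsg.Agent.Helper13.isSquare_mul_nonsquare hc0 hlam]
  by_cases hsq : IsSquare c
  · exact Or.inr ⟨hsq, fun hn => hn hsq⟩
  · exact Or.inl ⟨hsq, hsq⟩

theorem card_quot_PD_of_mem {δ : ↥(GO (⇑Q))} {lam : F} (hδ : IsMult Q (δ : GL ι F) lam)
    (hδm : (δ : GL ι F) ∈ dClassGO Q n) (hlam : ¬ IsSquare lam)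
    (hneg : (negGL : GL ι F) ∈ Geo.omegaGL (⇑Q)) :
    Nat.card (↥(PD Q n) ⧸ (POm Q).subgroupOf (PD Q n)) = 4 := by
  have hev : Even (Fintype.card ι) := ⟨n, by rw [hcard]; ring⟩
  rw [card_quotient_subgroupOf,
    ← Subgroup.relIndex_mul_relIndex (POm Q) (PSO Q) (PD Q n) (POm_le_PSO Q) PSO_le_PD,
    relIndex_PSO_PD h2 hQ h hcard hδ hδm hlam,
    relIndex_POm_PSO_of_mem h2 hQ h hev hneg]

theorem card_quot_PD_of_not_mem {δ : ↥(GO (⇑Q))} {lam : F} (hδ : IsMult Q (δ : GL ι F) lam)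
    (hδm : (δ : GL ι F) ∈ dClassGO Q n) (hlam : ¬ IsSquare lam)
    (hneg : (negGL : GL ι F) ∉ Geo.omegaGL (⇑Q)) :
    Nat.card (↥(PD Q n) ⧸ (POm Q).subgroupOf (PD Q n)) = 2 := by
  have hev : Even (Fintype.card ι) := ⟨n, by rw [hcard]; ring⟩
  rw [card_quotient_subgroupOf,
    ← Subgroup.relIndex_mul_relIndex (POm Q) (PSO Q) (PD Q n) (POm_le_PSO Q) PSO_le_PD,
    relIndex_PSO_PD h2 hQ h hcard hδ hδm hlam, Subgroup.relIndex_eq_one.2
      (PSO_le_POm_of_not_mem h2 hQ h hev hneg)]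

omit h2 hQ h hcard [Fintype F] in
theorem POm_normal_in_PD : ((POm Q).subgroupOf (PD Q n)).Normal := by
  have hnorm : (POm Q).Normal := by
    have := inn_normal (Cfsg.POmega F (⇑Q))
    rw [inn_eq] at this
    exact this
  infer_instance

/-- if `-1 ∉ Ω` the quotient is cyclic of order two -/
theorem PD_structure_of_not_mem {δ : ↥(GO (⇑Q))} {lam : F} (hδ : IsMult Q (δ : GL ι F) lam)
    (hδm : (δ : GL ι F) ∈ dClassGO Q n) (hlam : ¬ IsSquare lam)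
    (hneg : (negGL : GL ι F) ∉ Geo.omegaGL (⇑Q)) :
    ∃ φ : ↥(PD Q n) →* Multiplicative (ZMod 2),
      Function.Surjective φ ∧ φ.ker = (POm Q).subgroupOf (PD Q n) := by
  have hnorm := POm_normal_in_PD (Q := Q) (n := n)
  have hcard' := card_quot_PD_of_not_mem h2 hQ h hcard hδ hδm hlam hneg
  exact exists_hom_of_quotient_equiv _ _ (zmod2_of_card hcard')

/-- if `-1 ∈ Ω` and some element has its square outside `PΩ`, the quotient is cyclic of order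
four -/
theorem PD_structure_of_mem {δ : ↥(GO (⇑Q))} {lam : F} (hδ : IsMult Q (δ : GL ι F) lam)
    (hδm : (δ : GL ι F) ∈ dClassGO Q n) (hlam : ¬ IsSquare lam)
    (hneg : (negGL : GL ι F) ∈ Geo.omegaGL (⇑Q))
    (hsq : Phi (⇑Q) (δ * δ) ∉ POm Q) :
    ∃ φ : ↥(PD Q n) →* Multiplicative (ZMod 4),
      Function.Surjective φ ∧ φ.ker = (POm Q).subgroupOf (PD Q n) := by
  have hnorm := POm_normal_in_PD (Q := Q) (n := n)
  have hcard' := card_quot_PD_of_mem h2 hQ h hcard hδ hδm hlam hneg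
  have hmem : Phi (⇑Q) δ ∈ PD Q n :=
    ⟨δ, by rw [SetLike.mem_coe, Subgroup.mem_subgroupOf]; exact hδm, rfl⟩
  apply exists_hom_of_quotient_equiv
  apply zmod4_of_card_of_sq_ne hcard'
    (x := QuotientGroup.mk (⟨Phi (⇑Q) δ, hmem⟩ : ↥(PD Q n)))
  rw [← QuotientGroup.mk_mul, Ne, QuotientGroup.eq_one_iff, Subgroup.mem_subgroupOf]
  intro hc
  apply hsq
  rw [map_mul]
  exact hc

end

end Cfsg.Agent.Helper17.ConfAut
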