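import Mathlib
import Cfsg.Agent.Lib.Helper17.ConfAut22
import Cfsg.Agent.Lib.Helper17.ConfAut23
import Cfsg.Agent.Lib.Helper17.OrthMinus

/-!
# Minus type: the inner-diagonal group as an image of similarities; block similarities (helper17)
-/

set_option autoImplicit false
set_option linter.unusedSectionVars false

namespace Cfsg.Agent.Helper17.ConfAut
open Cfsg QuadraticMap Module Cfsg.Agent.Helper17.Spinor Cfsg.Agent.Helper13
  Cfsg.Agent.Helper2.Orth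

universe u

section inndiag
variable {F : Type u} [Field F] [Fintype F] (m : ℕ) (a b : F)

theorem minus_exists_Q_ne_zero : ∃ v : (Fin m ⊕ Fin m) ⊕ Fin 2 → F, minusQ m a b v ≠ 0 := by
  refine ⟨Pi.single (Sum.inr 0) 1, ?_⟩
  rw [matQ_minusMat]
  simp

/-- the inner-diagonal group of the minus type is the image of the similarities with
`det g = μ(g)^(m+1)` -/
theorem inndiag_minus_eq (h2 : (2 : F) ≠ 0)
    (hab : ∀ z₁ z₂ : F, z₁ ^ 2 + a * z₁ * z₂ + b * z₂ ^ 2 = 0 → z₁ = 0 ∧ z₂ = 0) :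
    Cfsg.autSubgroupOf (fun β : Cfsg.POmega F (⇑(minusQ m a b)) ≃*
        Cfsg.POmega F (⇑(minusQ m a b)) =>
      ∃ g : GL ((Fin m ⊕ Fin m) ⊕ Fin 2) F,
        g ∈ Geo.quadSimilarityGroup (F := F) (⇑(minusQ m a b)) ∧
        Cfsg.PreservesSingularClassesMinus m a b
          (g : Matrix ((Fin m ⊕ Fin m) ⊕ Fin 2) ((Fin m ⊕ Fin m) ⊕ Fin 2) F) ∧
        Cfsg.IsInducedBySemilinearPOmega (⇑(minusQ m a b)) g (RingEquiv.refl F) β)
      = PD (minusQ m a b) (m + 1) := by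
  show _ = ((dClassGO (minusQ m a b) (m + 1)).subgroupOf (GO (⇑(minusQ m a b)))).map
    (Phi (⇑(minusQ m a b)))
  rw [← autSubgroupOf_eq_map (⇑(minusQ m a b)) (dClassGO (minusQ m a b) (m + 1)) dClassGO_le_GO]
  congr 1
  funext β
  apply propext
  have hv := minus_exists_Q_ne_zero m a b
  constructor
  · rintro ⟨g, hg, hpres, hind⟩
    obtain ⟨c, hc⟩ := hg
    refine ⟨g, ?_, hind⟩
    rw [mem_dClassGO_iff hv c.ne_zero hc]
    exact (preservesSingularClassesMinus_iff m a b h2 hab c.ne_zero hc).1 hpres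
  · rintro ⟨g, hg, hind⟩
    obtain ⟨c, hc, hdet⟩ := hg
    exact ⟨g, ⟨c, hc⟩, (preservesSingularClassesMinus_iff m a b h2 hab c.ne_zero hc).2 hdet, hind⟩

end inndiag

section block
variable {F : Type*} [Field F] (m : ℕ) (a b : F)

/-- the binary norm form -/
def binN (z : Fin 2 → F) : F := z 0 ^ 2 + a * z 0 * z 1 + b * z 1 ^ 2

theorem minusQ_eq_add (v : (Fin m ⊕ Fin m) ⊕ Fin 2 → F) :
    minusQ m a b v = plusQ m F (v ∘ Sum.inl) + binN a b (v ∘ Sum.inr) := by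
  rw [matQ_minusMat, plusQ_apply]
  rfl

/-- block-diagonal invertible matrices -/
def blockGL (A : GL (Fin m ⊕ Fin m) F) (M : GL (Fin 2) F) : GL ((Fin m ⊕ Fin m) ⊕ Fin 2) F :=
  ⟨Matrix.fromBlocks (A : Matrix (Fin m ⊕ Fin m) (Fin m ⊕ Fin m) F) 0 0 (M : Matrix (Fin 2) (Fin 2) F),
    Matrix.fromBlocks ((A⁻¹ : GL (Fin m ⊕ Fin m) F) : Matrix (Fin m ⊕ Fin m) (Fin m ⊕ Fin m) F) 0 0
      ((M⁻¹ : GL (Fin 2) F) : Matrix (Fin 2) (Fin 2) F), by
    rw [Matrix.fromBlocks_multiply]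
    simp [Matrix.fromBlocks_one], by
    rw [Matrix.fromBlocks_multiply]
    simp [Matrix.fromBlocks_one]⟩

theorem blockGL_coe (A : GL (Fin m ⊕ Fin m) F) (M : GL (Fin 2) F) :
    ((blockGL m A M : GL ((Fin m ⊕ Fin m) ⊕ Fin 2) F) :
        Matrix ((Fin m ⊕ Fin m) ⊕ Fin 2) ((Fin m ⊕ Fin m) ⊕ Fin 2) F)
      = Matrix.fromBlocks (A : Matrix (Fin m ⊕ Fin m) (Fin m ⊕ Fin m) F) 0 0
          (M : Matrix (Fin 2) (Fin 2) F) := rfl

theorem blockGL_mul (A A' : GL (Fin m ⊕ Fin m) F) (M M' : GL (Fin 2) F) :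
    blockGL m A M * blockGL m A' M' = blockGL m (A * A') (M * M') := by
  apply Units.ext
  rw [Units.val_mul, blockGL_coe, blockGL_coe, blockGL_coe, Matrix.fromBlocks_multiply]
  simp

theorem det_blockGL (A : GL (Fin m ⊕ Fin m) F) (M : GL (Fin 2) F) :
    ((blockGL m A M : GL ((Fin m ⊕ Fin m) ⊕ Fin 2) F) :
        Matrix ((Fin m ⊕ Fin m) ⊕ Fin 2) ((Fin m ⊕ Fin m) ⊕ Fin 2) F).det
      = (A : Matrix (Fin m ⊕ Fin m) (Fin m ⊕ Fin m) F).det * (M : Matrix (Fin 2) (Fin 2) F).det := by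
  rw [blockGL_coe, Matrix.det_fromBlocks_zero₂₁]

theorem isMult_blockGL {A : GL (Fin m ⊕ Fin m) F} {M : GL (Fin 2) F} {c : F}
    (hA : IsMult (plusQ m F) A c)
    (hM : ∀ z, binN a b ((M : Matrix (Fin 2) (Fin 2) F).mulVec z) = c * binN a b z) :
    IsMult (minusQ m a b) (blockGL m A M) c := by
  intro v
  rw [blockGL_coe, minusQ_eq_add, minusQ_eq_add]
  have h1 : (Matrix.fromBlocks (A : Matrix (Fin m ⊕ Fin m) (Fin m ⊕ Fin m) F) 0 0
      (M : Matrix (Fin 2) (Fin 2) F)).mulVec v ∘ Sum.inl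
      = (A : Matrix (Fin m ⊕ Fin m) (Fin m ⊕ Fin m) F).mulVec (v ∘ Sum.inl) := by
    have := Matrix.fromBlocks_mulVec (A : Matrix (Fin m ⊕ Fin m) (Fin m ⊕ Fin m) F) 0 0
      (M : Matrix (Fin 2) (Fin 2) F) (Sum.elim (v ∘ Sum.inl) (v ∘ Sum.inr))
    rw [Sum.elim_comp_inl_inr] at this
    rw [this]
    simp
  have h3 : (Matrix.fromBlocks (A : Matrix (Fin m ⊕ Fin m) (Fin m ⊕ Fin m) F) 0 0
      (M : Matrix (Fin 2) (Fin 2) F)).mulVec v ∘ Sum.inr
      = (M : Matrix (Fin 2) (Fin 2) F).mulVec (v ∘ Sum.inr) := by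
    have := Matrix.fromBlocks_mulVec (A : Matrix (Fin m ⊕ Fin m) (Fin m ⊕ Fin m) F) 0 0
      (M : Matrix (Fin 2) (Fin 2) F) (Sum.elim (v ∘ Sum.inl) (v ∘ Sum.inr))
    rw [Sum.elim_comp_inl_inr] at this
    rw [this]
    simp
  rw [h1, h3, hA, hM]
  ring

/-- multiplication by `s + t ω'` on the binary part, `ω'^2 = a ω' - b` -/
def mulMat (s t : F) : Matrix (Fin 2) (Fin 2) F := !![s, -b * t; t, s + a * t]

theorem det_mulMat (s t : F) : (mulMat a b s t).det = s ^ 2 + a * s * t + b * t ^ 2 := by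
  unfold mulMat
  rw [Matrix.det_fin_two_of]
  ring

theorem binN_mulMat (s t : F) (z : Fin 2 → F) :
    binN a b ((mulMat a b s t).mulVec z) = (s ^ 2 + a * s * t + b * t ^ 2) * binN a b z := by
  unfold binN mulMat
  simp [Matrix.mulVec, dotProduct, Fin.sum_univ_two]
  ring

/-- `mulMat` as an invertible matrix -/
noncomputable def mulGL (s t : F) (h : s ^ 2 + a * s * t + b * t ^ 2 ≠ 0) : GL (Fin 2) F :=
  Matrix.GeneralLinearGroup.mkOfDetNeZero (mulMat a b s t) (by rw [det_mulMat]; exact h)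

theorem mulGL_coe (s t : F) (h : s ^ 2 + a * s * t + b * t ^ 2 ≠ 0) :
    ((mulGL a b s t h : GL (Fin 2) F) : Matrix (Fin 2) (Fin 2) F) = mulMat a b s t := rfl

end block

end Cfsg.Agent.Helper17.ConfAut
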