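import Mathlib
import Cfsg.Agent.Lib.Helper17.ConfAut24
import Cfsg.Agent.Lib.Helper17.SpinorIndex

/-!
# Minus type: explicit similarities (helper17)
-/

set_option autoImplicit false
set_option linter.unusedSectionVars false

namespace Cfsg.Agent.Helper17.ConfAut
open Cfsg QuadraticMap Module Cfsg.Agent.Helper17.Spinor Cfsg.Agent.Helper13
  Cfsg.Agent.Helper2.Orth

section repr
variable {F : Type*} [Field F] [Fintype F] (a b : F)

/-- the anisotropic binary form represents every non-zero scalar -/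
theorem exists_binN_eq (h2 : (2 : F) ≠ 0)
    (hab : ∀ z₁ z₂ : F, z₁ ^ 2 + a * z₁ * z₂ + b * z₂ ^ 2 = 0 → z₁ = 0 ∧ z₂ = 0)
    {lam : F} (hlam : lam ≠ 0) : ∃ s t : F, s ^ 2 + a * s * t + b * t ^ 2 = lam := by
  have hnd : (polarBilin (matQ (!![1, a; 0, b] : Matrix (Fin 2) (Fin 2) F))).Nondegenerate := by
    apply matQ_nondeg
    have : (!![1, a; 0, b] : Matrix (Fin 2) (Fin 2) F) + (!![1, a; 0, b] : Matrix (Fin 2) (Fin 2) F).transpose
        = !![2, a; a, 2 * b] := by
      ext i j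
      fin_cases i <;> fin_cases j <;> simp <;> ring
    rw [this, Matrix.det_fin_two_of]
    have := disc_ne_zero a b hab
    intro h
    apply this
    linear_combination h
  obtain ⟨v, hv⟩ := Cfsg.Agent.Helper17.Spinor.exists_repr
    (matQ (!![1, a; 0, b] : Matrix (Fin 2) (Fin 2) F)) h2 hnd
    (by rw [Module.finrank_fintype_fun_eq_card, Fintype.card_fin]) hlam
  refine ⟨v 0, v 1, ?_⟩
  rw [← hv, matQ_apply_sum]
  simp [Fin.sum_univ_two]
  ring

end repr

section swap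
variable {F : Type*} [Field F] (m : ℕ)

/-- `(x, y) ↦ (y, -x)` -/
def swapMat : Matrix (Fin m ⊕ Fin m) (Fin m ⊕ Fin m) F := Matrix.fromBlocks 0 1 (-1) 0

theorem swapMat_mul_self : (swapMat m : Matrix (Fin m ⊕ Fin m) (Fin m ⊕ Fin m) F) * swapMat m = -1 := by
  unfold swapMat
  rw [Matrix.fromBlocks_multiply, ← Matrix.fromBlocks_one, Matrix.fromBlocks_neg]
  simp

/-- `(x, y) ↦ (y, -x)` as an invertible matrix -/
def swapGL : GL (Fin m ⊕ Fin m) F :=
  ⟨swapMat m, -swapMat m, by rw [mul_neg, swapMat_mul_self, neg_neg], by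
    rw [neg_mul, swapMat_mul_self, neg_neg]⟩

theorem swapGL_coe : ((swapGL m : GL (Fin m ⊕ Fin m) F) : Matrix (Fin m ⊕ Fin m) (Fin m ⊕ Fin m) F)
    = swapMat m := rfl

theorem det_swapMat : (swapMat m : Matrix (Fin m ⊕ Fin m) (Fin m ⊕ Fin m) F).det = 1 := by
  have h1 : (swapMat m : Matrix (Fin m ⊕ Fin m) (Fin m ⊕ Fin m) F)
      = hypBlock m F * Matrix.fromBlocks (-1 : Matrix (Fin m) (Fin m) F) 0 0
          (1 : Matrix (Fin m) (Fin m) F) := by
    unfold swapMat hypBlock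
    rw [Matrix.fromBlocks_multiply]
    simp
  rw [h1, Matrix.det_mul, hypBlock_det, Matrix.det_fromBlocks_zero₂₁, Matrix.det_one, mul_one,
    Matrix.det_neg, Matrix.det_one, mul_one, Fintype.card_fin, ← mul_pow]
  simp

theorem swapMat_mulVec (v : Fin m ⊕ Fin m → F) :
    (swapMat m : Matrix (Fin m ⊕ Fin m) (Fin m ⊕ Fin m) F).mulVec v
      = Sum.elim (v ∘ Sum.inr) (-(v ∘ Sum.inl)) := by
  have := Matrix.fromBlocks_mulVec (0 : Matrix (Fin m) (Fin m) F)
    (1 : Matrix (Fin m) (Fin m) F) (-1 : Matrix (Fin m) (Fin m) F) (0 : Matrix (Fin m) (Fin m) F)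
    (Sum.elim (v ∘ Sum.inl) (v ∘ Sum.inr))
  rw [Sum.elim_comp_inl_inr] at this
  unfold swapMat
  rw [this]
  simp [Matrix.neg_mulVec]

theorem isMult_swapGL : IsMult (plusQ m F) (swapGL m) (-1) := by
  intro v
  rw [swapGL_coe, swapMat_mulVec, plusQ_apply, plusQ_apply, Finset.mul_sum]
  apply Finset.sum_congr rfl
  intro i _
  simp
  ring

theorem swapGL_mul_self : (swapGL m : GL (Fin m ⊕ Fin m) F) * swapGL m = negGL := by
  apply Units.ext
  rw [Units.val_mul, swapGL_coe, swapMat_mul_self, scalarGL_coe]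
  simp

end swap

end Cfsg.Agent.Helper17.ConfAut
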