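import Mathlib
import Cfsg.Agent.Lib.Helper17.ConfAut25

/-!
# Minus type: the two explicit similarities and the square of the second (helper17)
-/

set_option autoImplicit false
set_option linter.unusedSectionVars false

namespace Cfsg.Agent.Helper17.ConfAut
open Cfsg QuadraticMap Module Cfsg.Agent.Helper17.Spinor Cfsg.Agent.Helper13
  Cfsg.Agent.Helper2.Orth

section elements
variable {F : Type*} [Field F] (m : ℕ) (a b : F)

local notation "Im" => (Fin m ⊕ Fin m) ⊕ Fin 2

/-- `diag(λ, 1)` on the hyperbolic part, multiplication by an element of norm `λ` on the binary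
part -/
noncomputable def delta1 (lam : Fˣ) (s t : F) (hst : s ^ 2 + a * s * t + b * t ^ 2 = lam) : GL Im F :=
  blockGL m (deltaGL lam) (mulGL a b s t (by rw [hst]; exact lam.ne_zero))

theorem isMult_delta1 (lam : Fˣ) (s t : F) (hst : s ^ 2 + a * s * t + b * t ^ 2 = lam) :
    IsMult (minusQ m a b) (delta1 m a b lam s t hst) lam :=
  isMult_blockGL m a b (isMult_deltaGL lam) (fun z => by rw [mulGL_coe, binN_mulMat, hst])

theorem det_delta1 (lam : Fˣ) (s t : F) (hst : s ^ 2 + a * s * t + b * t ^ 2 = lam) :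
    ((delta1 m a b lam s t hst : GL Im F) : Matrix Im Im F).det = (lam : F) ^ (m + 1) := by
  unfold delta1
  rw [det_blockGL, det_deltaGL, mulGL_coe, det_mulMat, hst, pow_succ]

theorem delta1_mem (lam : Fˣ) (s t : F) (hst : s ^ 2 + a * s * t + b * t ^ 2 = lam) :
    delta1 m a b lam s t hst ∈ dClassGO (minusQ m a b) (m + 1) :=
  ⟨lam, isMult_delta1 m a b lam s t hst, det_delta1 m a b lam s t hst⟩

/-- `(x, y) ↦ (y, -x)` on the hyperbolic part, multiplication by an element of norm `-1` on the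
binary part -/
noncomputable def delta0 (s t : F) (hst : s ^ 2 + a * s * t + b * t ^ 2 = -1) : GL Im F :=
  blockGL m (swapGL m) (mulGL a b s t (by rw [hst]; exact neg_ne_zero.2 one_ne_zero))

theorem isMult_delta0 (s t : F) (hst : s ^ 2 + a * s * t + b * t ^ 2 = -1) :
    IsMult (minusQ m a b) (delta0 m a b s t hst) (-1) :=
  isMult_blockGL m a b (isMult_swapGL m) (fun z => by rw [mulGL_coe, binN_mulMat, hst])

theorem det_delta0 (s t : F) (hst : s ^ 2 + a * s * t + b * t ^ 2 = -1) :
    ((delta0 m a b s t hst : GL Im F) : Matrix Im Im F).det = -1 := by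
  unfold delta0
  rw [det_blockGL, swapGL_coe, det_swapMat, mulGL_coe, det_mulMat, hst, one_mul]

theorem delta0_mem (hm : Even m) (s t : F) (hst : s ^ 2 + a * s * t + b * t ^ 2 = -1) :
    delta0 m a b s t hst ∈ dClassGO (minusQ m a b) (m + 1) := by
  refine ⟨-1, ?_, ?_⟩
  · rw [Units.val_neg, Units.val_one]; exact isMult_delta0 m a b s t hst
  · rw [det_delta0, Units.val_neg, Units.val_one, Odd.neg_one_pow (Even.add_one hm)]

theorem polar_minusQ_inr (z : Fin 2 → F) (y : Im → F) :
    polar (minusQ m a b) (Sum.elim 0 z) y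
      = z 0 * (2 * y (Sum.inr 0) + a * y (Sum.inr 1))
        + z 1 * (a * y (Sum.inr 0) + 2 * b * y (Sum.inr 1)) := by
  unfold QuadraticMap.polar
  rw [matQ_minusMat, matQ_minusMat, matQ_minusMat]
  simp only [Pi.add_apply, Sum.elim_inl, Sum.elim_inr, Pi.zero_apply, zero_add, zero_mul,
    Finset.sum_const_zero]
  ring

theorem minusQ_inr (z : Fin 2 → F) :
    minusQ m a b (Sum.elim 0 z) = z 0 ^ 2 + a * z 0 * z 1 + b * z 1 ^ 2 := by
  rw [matQ_minusMat]
  simp

theorem refl_minusQ_inr_inl (z : Fin 2 → F) (y : Im → F) (i : Fin m ⊕ Fin m) :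
    refl (minusQ m a b) (Sum.elim 0 z) y (Sum.inl i) = y (Sum.inl i) := by
  rw [refl_apply]
  simp

theorem refl_minusQ_inr_inr (z : Fin 2 → F) (y : Im → F) (k : Fin 2) :
    refl (minusQ m a b) (Sum.elim 0 z) y (Sum.inr k)
      = y (Sum.inr k) - (z 0 ^ 2 + a * z 0 * z 1 + b * z 1 ^ 2)⁻¹ *
          (z 0 * (2 * y (Sum.inr 0) + a * y (Sum.inr 1))
            + z 1 * (a * y (Sum.inr 0) + 2 * b * y (Sum.inr 1))) * z k := by
  rw [refl_apply, polar_minusQ_inr, minusQ_inr]
  simp

/-- the key identity: `-δ₀²` is a product of two reflections in the binary part -/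
theorem delta0_sq_neg (s t : F) (hst : s ^ 2 + a * s * t + b * t ^ 2 = -1) :
    ((delta0 m a b s t hst * delta0 m a b s t hst * negGL : GL Im F) : Matrix Im Im F)
      = Cfsg.reflectionMatrix (⇑(minusQ m a b)) (Sum.elim 0 ![s, t])
        * Cfsg.reflectionMatrix (⇑(minusQ m a b)) (Sum.elim 0 ![1, 0]) := by
  have hmat : ((delta0 m a b s t hst * delta0 m a b s t hst * negGL : GL Im F) : Matrix Im Im F)
      = Matrix.fromBlocks (1 : Matrix (Fin m ⊕ Fin m) (Fin m ⊕ Fin m) F) 0 0
          (-(mulMat a b s t * mulMat a b s t)) := by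
    unfold delta0
    rw [blockGL_mul, swapGL_mul_self, Units.val_mul, blockGL_coe, scalarGL_coe, scalarGL_coe,
      Units.val_mul, mulGL_coe]
    simp only [Units.val_neg, Units.val_one, neg_smul, one_smul, mul_neg, mul_one]
    rw [Matrix.fromBlocks_neg]
    simp
  apply Matrix.toLin'.injective
  apply LinearMap.ext
  intro x
  rw [Matrix.toLin'_apply, Matrix.toLin'_apply, ← Matrix.mulVec_mulVec, reflectionMatrix_mulVec,
    reflectionMatrix_mulVec, hmat]
  have hx : x = Sum.elim (x ∘ Sum.inl) (x ∘ Sum.inr) := (Sum.elim_comp_inl_inr x).symm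
  ext (i | k)
  · rw [refl_minusQ_inr_inl, refl_minusQ_inr_inl]
    conv_lhs => rw [hx, Matrix.fromBlocks_mulVec]
    simp
  · simp only [refl_minusQ_inr_inr]
    conv_lhs => rw [hx, Matrix.fromBlocks_mulVec]
    have e1 : (![s, t] : Fin 2 → F) 0 = s := rfl
    have e2 : (![s, t] : Fin 2 → F) 1 = t := rfl
    have e3 : (![1, 0] : Fin 2 → F) 0 = 1 := rfl
    have e4 : (![1, 0] : Fin 2 → F) 1 = 0 := rfl
    rw [e1, e2, e3, e4, hst]
    fin_cases k
    · simp [mulMat, Matrix.mulVec, dotProduct, Fin.sum_univ_two, Matrix.mul_apply]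
      linear_combination (x (Sum.inr 0) + a * x (Sum.inr 1)) * hst
    · simp [mulMat, Matrix.mulVec, dotProduct, Fin.sum_univ_two, Matrix.mul_apply]
      linear_combination (-x (Sum.inr 1)) * hst

end elements

end Cfsg.Agent.Helper17.ConfAut
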