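import Mathlib
import Cfsg.Agent.Lib.Helper17.ConfAut26

/-!
# Minus type: `Inndiag / Inn` is `C₄` or `C₂` (helper17)
-/

set_option autoImplicit false
set_option linter.unusedSectionVars false

namespace Cfsg.Agent.Helper17.ConfAut
open Cfsg QuadraticMap Module Cfsg.Agent.Helper17.Spinor Cfsg.Agent.Helper13
  Cfsg.Agent.Helper2.Orth

variable {F : Type*} [Field F] [Fintype F]

section
variable (k : ℕ) (hodd : Odd (Fintype.card F)) (a b : F)
  (hab : ∀ z₁ z₂ : F, z₁ ^ 2 + a * z₁ * z₂ + b * z₂ ^ 2 = 0 → z₁ = 0 ∧ z₂ = 0)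

local notation "Qm" => minusQ (k + 2) a b
local notation "Im" => (Fin (k + 2) ⊕ Fin (k + 2)) ⊕ Fin 2

theorem card_minus_eq : Fintype.card Im = 2 * (k + 2 + 1) := by
  simp only [Fintype.card_sum, Fintype.card_fin]
  ring

include hodd hab

/-- the square of `Phi δ₀` is not in the image of `Ω` -/
theorem Phi_delta0_sq_notMem (h3 : Fintype.card F % 4 = 3) (s t : F)
    (hst : s ^ 2 + a * s * t + b * t ^ 2 = -1)
    (hneg : (negGL : GL Im F) ∈ Geo.omegaGL (⇑Qm))
    (δ : ↥(GO (⇑Qm))) (hδ : (δ : GL Im F) = delta0 (k + 2) a b s t hst) :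
    Phi (⇑Qm) (δ * δ) ∉ POm Qm := by
  have h2 := two_ne_zero_of_odd_card hodd
  have hQ := nondeg_minus (m := k + 2) a b hab
  have hT := twoHyp_minus (F := F) k a b
  have hmult : IsMult Qm ((δ * δ : ↥(GO (⇑Qm))) : GL Im F) 1 := by
    rw [Subgroup.coe_mul, hδ]
    have := (isMult_delta0 (k + 2) a b s t hst).mul (isMult_delta0 (k + 2) a b s t hst)
    rwa [neg_mul_neg, one_mul] at this
  rw [Phi_mem_POm_iff h2 hQ hT _ hmult, ← Subgroup.mul_mem_cancel_right _ hneg, or_self,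
    Subgroup.coe_mul, hδ, Cfsg.Agent.Helper17.OmegaElts.mem_omegaGL_iff]
  rintro ⟨o, ho, hoe⟩
  have hv : Qm (Sum.elim 0 ![s, t]) = -1 := by
    rw [minusQ_inr]
    exact hst
  have hw : Qm (Sum.elim 0 ![1, 0]) = 1 := by
    rw [minusQ_inr]
    simp
  have hvs : ∀ v ∈ [(Sum.elim 0 ![s, t] : Im → F), Sum.elim 0 ![1, 0]], Qm v ≠ 0 := by
    intro v hv'
    rcases List.mem_cons.1 hv' with h | h
    · rw [h, hv]; exact neg_ne_zero.2 one_ne_zero
    · rw [List.mem_singleton] at h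
      rw [h, hw]; exact one_ne_zero
  have hcoe : ((o : GL Im F) : Matrix Im Im F)
      = ([(Sum.elim 0 ![s, t] : Im → F), Sum.elim 0 ![1, 0]].map
          (fun v => Cfsg.reflectionMatrix (⇑Qm) v)).prod := by
    rw [hoe, delta0_sq_neg]
    simp
  have := (mem_Omega_iff Qm h2 hQ o _ hvs hcoe).1 ho
  obtain ⟨-, hsq⟩ := this
  simp only [List.map_cons, List.map_nil, List.prod_cons, List.prod_nil, hv, hw, mul_one] at hsq
  rw [FiniteField.isSquare_neg_one_iff] at hsq
  exact hsq h3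

/-- **`Inndiag / Inn` for the minus type** -/
theorem inndiag_minus_structure :
    ((Even (k + 2) ∧ Fintype.card F % 4 = 3) →
      ∃ φ : ↥(PD Qm (k + 2 + 1)) →* Multiplicative (ZMod 4),
        Function.Surjective φ ∧ φ.ker = (POm Qm).subgroupOf (PD Qm (k + 2 + 1))) ∧
    (¬ (Even (k + 2) ∧ Fintype.card F % 4 = 3) →
      ∃ φ : ↥(PD Qm (k + 2 + 1)) →* Multiplicative (ZMod 2),
        Function.Surjective φ ∧ φ.ker = (POm Qm).subgroupOf (PD Qm (k + 2 + 1))) := by
  classical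
  have h2 := two_ne_zero_of_odd_card hodd
  have hQ := nondeg_minus (m := k + 2) a b hab
  have hT := twoHyp_minus (F := F) k a b
  have hcard := card_minus_eq k
  have hnegiff := negGL_mem_minus_iff hodd (k + 2) a b hab
  constructor
  · rintro ⟨hev, h3⟩
    have hneg : (negGL : GL Im F) ∈ Geo.omegaGL (⇑Qm) := hnegiff.2 ⟨hev, h3⟩
    obtain ⟨s, t, hst⟩ := exists_binN_eq a b h2 hab (lam := -1) (neg_ne_zero.2 one_ne_zero)
    have hδm := delta0_mem (k + 2) a b hev s t hst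
    set δ : ↥(GO (⇑Qm)) := ⟨delta0 (k + 2) a b s t hst, dClassGO_le_GO hδm⟩ with hδ
    have hns : ¬ IsSquare (-1 : F) := by
      rw [FiniteField.isSquare_neg_one_iff]
      exact fun h => h h3
    exact PD_structure_of_mem h2 hQ hT hcard (δ := δ) (isMult_delta0 (k + 2) a b s t hst) hδm hns
      hneg (Phi_delta0_sq_notMem k hodd a b hab h3 s t hst hneg δ rfl)
  · intro hc
    have hneg : (negGL : GL Im F) ∉ Geo.omegaGL (⇑Qm) := fun h => hc (hnegiff.1 h)
    obtain ⟨lam, hlam⟩ := exists_nonsquare_unit hodd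
    obtain ⟨s, t, hst⟩ := exists_binN_eq a b h2 hab (lam := (lam : F)) lam.ne_zero
    have hδm := delta1_mem (k + 2) a b lam s t hst
    set δ : ↥(GO (⇑Qm)) := ⟨delta1 (k + 2) a b lam s t hst, dClassGO_le_GO hδm⟩ with hδ
    exact PD_structure_of_not_mem h2 hQ hT hcard (δ := δ)
      (isMult_delta1 (k + 2) a b lam s t hst) hδm hlam hneg

end

end Cfsg.Agent.Helper17.ConfAut
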