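import Mathlib
import Cfsg.Agent.Lib.Helper27.WittList

set_option autoImplicit false
set_option linter.unusedSectionVars false

/-! One-point extensions of Steiner systems `S(t+1, t+2, v+1)` by a kernel-checkable
exact-cover search: the blocks through the new point are known, every `(t+1)`-subset not
inside one of them lies in exactly one further block, and the search enumerates all ways of
choosing these further blocks. -/

namespace Cfsg.Agent.Helper17.SteinerCover

open Cfsg.Agent.Helper27.Witt

/-- All sublists with `k` elements. -/
def subs : ℕ → List ℕ → List (List ℕ)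
  | 0, _ => [[]]
  | _ + 1, [] => []
  | k + 1, x :: xs => (subs k xs).map (fun l => x :: l) ++ subs (k + 1) xs

theorem mem_subs_of_sublist (k : ℕ) (l l' : List ℕ) (h : l'.Sublist l) (hk : l'.length = k) :
    l' ∈ subs k l := by
  induction h generalizing k with
  | slnil =>
    subst hk
    simp [subs]
  | @cons l₁ l₂ a h ih =>
    cases k with
    | zero =>
      have : l₁ = [] := List.length_eq_zero_iff.mp hk
      subst this
      simp [subs]
    | succ k =>
      rw [subs, List.mem_append]
      exact Or.inr (ih (k + 1) hk)
  | @cons_cons l₁ l₂ a h ih =>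
    cases k with
    | zero => simp at hk
    | succ k =>
      rw [subs, List.mem_append]
      left
      rw [List.mem_map]
      exact ⟨l₁, ih k (by simpa using hk), rfl⟩

theorem sublist_of_mem_subs (k : ℕ) (l l' : List ℕ) (h : l' ∈ subs k l) :
    l'.Sublist l ∧ l'.length = k := by
  induction l generalizing k l' with
  | nil =>
    cases k with
    | zero =>
      simp only [subs, List.mem_singleton] at h
      subst h
      exact ⟨List.Sublist.slnil, rfl⟩
    | succ k => simp [subs] at h
  | cons x xs ih =>
    cases k with
    | zero =>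
      simp only [subs, List.mem_singleton] at h
      subst h
      exact ⟨List.nil_sublist _, rfl⟩
    | succ k =>
      rw [subs, List.mem_append, List.mem_map] at h
      rcases h with ⟨l₁, h₁, rfl⟩ | h
      · obtain ⟨hs, hl⟩ := ih k l₁ h₁
        exact ⟨hs.cons_cons x, by simp [hl]⟩
      · obtain ⟨hs, hl⟩ := ih (k + 1) l' h
        exact ⟨hs.cons x, hl⟩

/-- Every element of the first list lies in the second. -/
def subL (T X : List ℕ) : Bool := T.all (fun x => memb x X)

theorem subL_iff (T X : List ℕ) : subL T X = true ↔ ∀ x ∈ T, x ∈ X := by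
  simp [subL, List.all_eq_true, memb_iff]

/-- The first list lies inside some member of the family. -/
def inAny (L : List (List ℕ)) (T : List ℕ) : Bool := L.any (fun X => subL T X)

theorem inAny_iff (L : List (List ℕ)) (T : List ℕ) :
    inAny L T = true ↔ ∃ X ∈ L, ∀ x ∈ T, x ∈ X := by
  simp [inAny, List.any_eq_true, subL_iff]

/-- The list meets every member of the family in at most `t` points. -/
def compat (t : ℕ) (X : List ℕ) (L : List (List ℕ)) : Bool :=
  L.all (fun Y => Nat.ble (cntL X Y) t)

theorem compat_iff (t : ℕ) (X : List ℕ) (L : List (List ℕ)) :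
    compat t X L = true ↔ ∀ Y ∈ L, cntL X Y ≤ t := by
  simp [compat, List.all_eq_true, Nat.ble_eq]

def sameSet (X Y : List ℕ) : Bool := subL X Y && subL Y X

theorem ofL_eq_of_sameSet {n : ℕ} (X Y : List ℕ) (h : sameSet X Y = true) :
    ofL n X = ofL n Y := by
  rw [sameSet, Bool.and_eq_true, subL_iff, subL_iff] at h
  ext i
  rw [mem_ofL, mem_ofL]
  exact ⟨h.1 _, h.2 _⟩

def sameFam (P S : List (List ℕ)) : Bool :=
  P.all (fun X => S.any (fun Y => sameSet X Y)) && S.all (fun Y => P.any (fun X => sameSet X Y))

theorem famO_eq_of_sameFam {n : ℕ} (P S : List (List ℕ)) (h : sameFam P S = true) :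
    famO n P = famO n S := by
  rw [sameFam, Bool.and_eq_true, List.all_eq_true, List.all_eq_true] at h
  ext Z
  constructor
  · rintro ⟨X, hX, rfl⟩
    obtain ⟨Y, hY, hXY⟩ := List.any_eq_true.mp (h.1 X hX)
    exact ⟨Y, hY, ofL_eq_of_sameSet X Y hXY⟩
  · rintro ⟨Y, hY, rfl⟩
    obtain ⟨X, hX, hXY⟩ := List.any_eq_true.mp (h.2 Y hY)
    exact ⟨X, hX, (ofL_eq_of_sameSet X Y hXY).symm⟩

/-- The chosen blocks form one of the listed solutions. -/
def leaf (sols : List (List (List ℕ))) (P : List (List ℕ)) : Bool :=
  sols.any (fun S => sameFam P S)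

/-- Exact-cover search: run through the `(t+1)`-sets `T`; one not inside a known block nor
inside a chosen block must be covered by a new block `x :: T`. -/
def go (v t : ℕ) (Kd : List (List ℕ)) (sols : List (List (List ℕ))) :
    List (List ℕ) → List (List ℕ) → Bool
  | [], P => leaf sols P
  | T :: rest, P =>
      bif inAny Kd T || inAny P T then go v t Kd sols rest P
      else (List.range v).all (fun x =>
        memb x T || !(compat t (x :: T) Kd && compat t (x :: T) P)
          || go v t Kd sols rest ((x :: T) :: P))

end Cfsg.Agent.Helper17.SteinerCover
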