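import Mathlib
import Cfsg.Agent.Lib.Helper17.SteinerCover1

set_option autoImplicit false
set_option linter.unusedSectionVars false

/-! Soundness of the exact-cover search of `SteinerCover1`. -/

namespace Cfsg.Agent.Helper17.SteinerCover

open Cfsg.Agent.Helper27.Witt

/-- The hypotheses on a family `F` of `(t+2)`-subsets of `Fin (v+1)` whose members through
the last point are given by the list `Kd`. -/
structure Hyp {v : ℕ} (t : ℕ) (F : Set (Finset (Fin (v + 1)))) (Kd : List (List ℕ)) : Prop where
  card : ∀ X ∈ F, X.card = t + 2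
  ex : ∀ T : Finset (Fin (v + 1)), T.card = t + 1 → ∃ X ∈ F, T ⊆ X
  uniq : ∀ X ∈ F, ∀ Y ∈ F, t + 1 ≤ (X ∩ Y).card → X = Y
  thru : ∀ X ∈ F, Fin.last v ∈ X → ∃ ys ∈ Kd, X = ofL (v + 1) (v :: ys)
  mem : ∀ ys ∈ Kd, ofL (v + 1) (v :: ys) ∈ F

theorem go_sound {v t : ℕ} (F : Set (Finset (Fin (v + 1)))) (Kd : List (List ℕ))
    (sols : List (List (List ℕ))) (h : Hyp t F Kd) :
    ∀ (cells : List (List ℕ)),
      (∀ T ∈ cells, T.Nodup ∧ (∀ x ∈ T, x < v) ∧ T.length = t + 1) →
    ∀ P : List (List ℕ), (∀ X ∈ P, ofL (v + 1) X ∈ F ∧ X.Nodup ∧ ∀ x ∈ X, x < v) →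
    go v t Kd sols cells P = true →
    ∃ P' : List (List ℕ), (∀ X ∈ P', ofL (v + 1) X ∈ F ∧ X.Nodup ∧ ∀ x ∈ X, x < v) ∧
      (∀ X ∈ P, X ∈ P') ∧ (∀ T ∈ cells, inAny Kd T = true ∨ inAny P' T = true) ∧
      leaf sols P' = true := by
  intro cells
  induction cells with
  | nil =>
    intro _ P hP hgo
    exact ⟨P, hP, fun X hX => hX, by simp, by simpa [go] using hgo⟩
  | cons T rest ih =>
    intro hcells P hP hgo
    have hT := hcells T List.mem_cons_self
    have hrest : ∀ T' ∈ rest, T'.Nodup ∧ (∀ x ∈ T', x < v) ∧ T'.length = t + 1 :=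
      fun T' h' => hcells T' (List.mem_cons_of_mem _ h')
    rw [go] at hgo
    cases hc : (inAny Kd T || inAny P T) with
    | true =>
      rw [hc, cond_true] at hgo
      obtain ⟨P', hP', hsub, hcov, hleaf⟩ := ih hrest P hP hgo
      refine ⟨P', hP', hsub, ?_, hleaf⟩
      intro T' hT'
      rcases List.mem_cons.mp hT' with rfl | hT'
      · rcases (Bool.or_eq_true _ _).mp hc with h1 | h1
        · exact Or.inl h1
        · right
          rw [inAny_iff] at h1 ⊢
          obtain ⟨X, hX, hTX⟩ := h1
          exact ⟨X, hsub X hX, hTX⟩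
      · exact hcov T' hT'
    | false =>
      rw [hc, cond_false] at hgo
      rw [Bool.or_eq_false_iff] at hc
      obtain ⟨hcK, hcP⟩ := hc
      have hTlt : ∀ x ∈ T, x < v + 1 := fun x hx => (hT.2.1 x hx).trans (Nat.lt_succ_self v)
      have hTcard : (ofL (v + 1) T).card = t + 1 := by rw [card_ofL T hT.1 hTlt, hT.2.2]
      obtain ⟨X, hXF, hTX⟩ := h.ex _ hTcard
      have hlast : Fin.last v ∉ X := by
        intro hl
        obtain ⟨ys, hys, rfl⟩ := h.thru X hXF hl
        have : inAny Kd T = true := by
          rw [inAny_iff]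
          refine ⟨ys, hys, fun x hx => ?_⟩
          have hx' : (⟨x, hTlt x hx⟩ : Fin (v + 1)) ∈ ofL (v + 1) (v :: ys) :=
            hTX (mem_ofL.mpr hx)
          rw [mem_ofL] at hx'
          rcases List.mem_cons.mp hx' with hxv | hxy
          · exact absurd hxv (hT.2.1 x hx).ne
          · exact hxy
        rw [this] at hcK
        cases hcK
      have hXcard := h.card X hXF
      have hsd : (X \ ofL (v + 1) T).card = 1 := by
        rw [Finset.card_sdiff_of_subset hTX, hXcard, hTcard]
        omega
      obtain ⟨i, hi⟩ := Finset.card_eq_one.mp hsd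
      have hiX : i ∈ X ∧ i ∉ ofL (v + 1) T := by
        have : i ∈ X \ ofL (v + 1) T := by rw [hi]; exact Finset.mem_singleton_self i
        exact Finset.mem_sdiff.mp this
      have hiv : i.val < v := by
        have : i ≠ Fin.last v := fun e => hlast (e ▸ hiX.1)
        exact Fin.val_lt_last this
      have hxT : i.val ∉ T := fun hx => hiX.2 (mem_ofL.mpr hx)
      have hXeq : X = ofL (v + 1) (i.val :: T) := by
        rw [ofL_cons i.val i.isLt]
        ext j
        constructor
        · intro hj
          by_cases hjT : j ∈ ofL (v + 1) T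
          · exact Finset.mem_insert_of_mem hjT
          · have : j ∈ X \ ofL (v + 1) T := Finset.mem_sdiff.mpr ⟨hj, hjT⟩
            rw [hi, Finset.mem_singleton] at this
            rw [this]
            exact Finset.mem_insert_self _ _
        · intro hj
          rcases Finset.mem_insert.mp hj with rfl | hj
          · exact hiX.1
          · exact hTX hj
      have hnd : (i.val :: T).Nodup := List.nodup_cons.mpr ⟨hxT, hT.1⟩
      have hlt' : ∀ y ∈ i.val :: T, y < v + 1 := by
        intro y hy
        rcases List.mem_cons.mp hy with rfl | hy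
        · exact i.isLt
        · exact hTlt y hy
      have hcK' : compat t (i.val :: T) Kd = true := by
        rw [compat_iff]
        intro ys hys
        rw [← card_inter_ofL (n := v + 1) (i.val :: T) ys hnd hlt', ← hXeq]
        by_contra hgt
        rw [not_le] at hgt
        have hsub : X ∩ ofL (v + 1) ys ⊆ X ∩ ofL (v + 1) (v :: ys) := by
          apply Finset.inter_subset_inter_left
          intro j hj
          rw [mem_ofL] at hj ⊢
          exact List.mem_cons_of_mem _ hj
        have := h.uniq X hXF _ (h.mem ys hys) (le_trans hgt (Finset.card_le_card hsub))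
        apply hlast
        rw [this, mem_ofL]
        simp
      have hcP' : compat t (i.val :: T) P = true := by
        rw [compat_iff]
        intro Y hY
        rw [← card_inter_ofL (n := v + 1) (i.val :: T) Y hnd hlt', ← hXeq]
        by_contra hgt
        rw [not_le] at hgt
        have hXY := h.uniq X hXF _ (hP Y hY).1 hgt
        have : inAny P T = true := by
          rw [inAny_iff]
          refine ⟨Y, hY, fun y hy => ?_⟩
          have : (⟨y, hTlt y hy⟩ : Fin (v + 1)) ∈ ofL (v + 1) Y := by
            rw [← hXY]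
            exact hTX (mem_ofL.mpr hy)
          exact mem_ofL.mp this
        rw [this] at hcP
        cases hcP
      have hbranch := List.all_eq_true.mp hgo i.val (List.mem_range.mpr hiv)
      have hmx : memb i.val T = false := by
        rw [Bool.eq_false_iff]
        intro hm
        exact hxT ((memb_iff _ _).mp hm)
      rw [hmx, hcK', hcP'] at hbranch
      simp only [Bool.and_self, Bool.not_true, Bool.or_self, Bool.false_or] at hbranch
      obtain ⟨P', hP', hsub, hcov, hleaf⟩ := ih hrest ((i.val :: T) :: P) (by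
        intro Y hY
        rcases List.mem_cons.mp hY with rfl | hY
        · refine ⟨hXeq ▸ hXF, hnd, fun y hy => ?_⟩
          rcases List.mem_cons.mp hy with rfl | hy
          · exact hiv
          · exact hT.2.1 y hy
        · exact hP Y hY) hbranch
      refine ⟨P', hP', fun Y hY => hsub Y (List.mem_cons_of_mem _ hY), ?_, hleaf⟩
      intro T' hT'
      rcases List.mem_cons.mp hT' with rfl | hT'
      · right
        rw [inAny_iff]
        exact ⟨i.val :: T', hsub _ List.mem_cons_self, fun y hy => List.mem_cons_of_mem _ hy⟩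
      · exact hcov T' hT'

theorem cover_sound {v t : ℕ} (F : Set (Finset (Fin (v + 1)))) (Kd : List (List ℕ))
    (sols : List (List (List ℕ))) (h : Hyp t F Kd)
    (hgo : go v t Kd sols (subs (t + 1) (List.range v)) [] = true) :
    ∃ S ∈ sols, F = famO (v + 1) (Kd.map (fun ys => v :: ys)) ∪ famO (v + 1) S := by
  classical
  obtain ⟨P', hP', -, hcov, hleaf⟩ := go_sound F Kd sols h _ (by
    intro T hT
    obtain ⟨hs, hl⟩ := sublist_of_mem_subs _ _ _ hT
    exact ⟨List.nodup_range.sublist hs, fun x hx => List.mem_range.mp (hs.subset hx), hl⟩)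
    [] (by simp) hgo
  rw [leaf, List.any_eq_true] at hleaf
  obtain ⟨S, hS, hsame⟩ := hleaf
  refine ⟨S, hS, ?_⟩
  rw [← famO_eq_of_sameFam P' S hsame]
  ext X
  constructor
  · intro hX
    by_cases hl : Fin.last v ∈ X
    · left
      obtain ⟨ys, hys, rfl⟩ := h.thru X hX hl
      exact ⟨v :: ys, List.mem_map.mpr ⟨ys, hys, rfl⟩, rfl⟩
    · right
      have hc := h.card X hX
      obtain ⟨T₀, hT₀X, hT₀c⟩ := Finset.exists_subset_card_eq (s := X) (n := t + 1) (by omega)
      set q : ℕ → Bool := fun m => decide (∃ i ∈ T₀, i.val = m) with hq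
      set T := (List.range v).filter q with hTdef
      have hTsub : T.Sublist (List.range v) := List.filter_sublist
      have hTnd : T.Nodup := List.nodup_range.sublist hTsub
      have hTlt : ∀ x ∈ T, x < v := fun x hx => List.mem_range.mp (hTsub.subset hx)
      have hTeq : ofL (v + 1) T = T₀ := by
        ext i
        rw [mem_ofL, hTdef, List.mem_filter, List.mem_range, hq]
        simp only [decide_eq_true_eq]
        constructor
        · rintro ⟨_, j, hj, hji⟩
          have : j = i := Fin.ext hji
          exact this ▸ hj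
        · intro hi
          refine ⟨?_, i, hi, rfl⟩
          have : i ≠ Fin.last v := fun e => hl (hT₀X (e ▸ hi))
          exact Fin.val_lt_last this
      have hTlen : T.length = t + 1 := by
        rw [← card_ofL (n := v + 1) T hTnd
          (fun x hx => (hTlt x hx).trans (Nat.lt_succ_self v)), hTeq, hT₀c]
      have hmem := mem_subs_of_sublist (t + 1) _ T hTsub hTlen
      have hsubgen : ∀ Y : List ℕ, (∀ x ∈ T, x ∈ Y) → T₀ ⊆ X ∩ ofL (v + 1) Y := by
        intro Y hTY i hi
        rw [Finset.mem_inter]
        refine ⟨hT₀X hi, ?_⟩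
        rw [mem_ofL]
        have : i.val ∈ T := by
          rw [← hTeq] at hi
          exact mem_ofL.mp hi
        exact hTY _ this
      rcases hcov T hmem with hK | hP
      · exfalso
        obtain ⟨ys, hys, hTys⟩ := (inAny_iff _ _).mp hK
        have hsub := hsubgen (v :: ys) (fun x hx => List.mem_cons_of_mem _ (hTys x hx))
        have := h.uniq X hX _ (h.mem ys hys) (hT₀c ▸ Finset.card_le_card hsub)
        apply hl
        rw [this, mem_ofL]
        simp
      · obtain ⟨Y, hY, hTY⟩ := (inAny_iff _ _).mp hP
        have hsub := hsubgen Y hTY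
        have := h.uniq X hX _ (hP' Y hY).1 (hT₀c ▸ Finset.card_le_card hsub)
        exact ⟨Y, hY, this⟩
  · rintro (⟨zs, hzs, rfl⟩ | ⟨Y, hY, rfl⟩)
    · obtain ⟨ys, hys, rfl⟩ := List.mem_map.mp hzs
      exact h.mem ys hys
    · exact (hP' Y hY).1

end Cfsg.Agent.Helper17.SteinerCover
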