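import Mathlib
import Cfsg.Agent.Lib.Helper17.SteinerCover2

set_option autoImplicit false
set_option linter.unusedSectionVars false

/-! The one-point extension step for Steiner systems `S(t+1, t+2, v+1)`: from a standard
labelling of the derived design at `p`, a kernel-checked exact-cover search and listed
permutations carrying each completion onto the standard one, a standard labelling of the
whole system with `p` labelled last. -/

namespace Cfsg.Agent.Helper17.SteinerCover

open Cfsg.Agent.Helper27.Witt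

theorem hyp_of_steiner {α : Type*} [Fintype α] [DecidableEq α] {t v : ℕ} {B : Set (Finset α)}
    (hB : Cfsg.IsSteinerSystem (t + 1) (t + 2) B) (p : α) (Kd : List (List ℕ))
    (e0 : {a : α // a ≠ p} ≃ Fin v)
    (he0 : (fun b => b.image e0) ''
      {b' : Finset {a : α // a ≠ p} | ∃ b ∈ B, p ∈ b ∧ b' = Finset.subtype (fun a => a ≠ p) b}
        = famO v Kd) :
    Hyp t ((fun b => b.image (extEquiv p e0)) '' B) Kd := by
  classical
  set e := extEquiv p e0 with he
  obtain ⟨hcard, hst⟩ := hB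
  refine ⟨?_, ?_, ?_, ?_, ?_⟩
  · rintro X ⟨b, hb, rfl⟩
    show (b.image e).card = t + 2
    rw [Finset.card_image_of_injective _ e.injective]
    exact hcard b hb
  · intro T hT
    have hT' : (T.image e.symm).card = t + 1 := by
      rw [Finset.card_image_of_injective _ e.symm.injective, hT]
    obtain ⟨b, ⟨hb, hTb⟩, -⟩ := hst _ hT'
    refine ⟨b.image e, ⟨b, hb, rfl⟩, ?_⟩
    intro i hi
    rw [Finset.mem_image]
    exact ⟨e.symm i, hTb (Finset.mem_image_of_mem _ hi), by simp⟩
  · rintro X ⟨b, hb, rfl⟩ Y ⟨c, hc, rfl⟩ hXY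
    have h1 : (b.image e ∩ c.image e).card = (b ∩ c).card := by
      rw [← Finset.image_inter _ _ e.injective, Finset.card_image_of_injective _ e.injective]
    have h2 : t + 1 ≤ (b ∩ c).card := by rw [← h1]; exact hXY
    obtain ⟨s, hs, hsc⟩ := Finset.exists_subset_card_eq h2
    obtain ⟨b₀, -, huniq⟩ := hst s hsc
    have hb0 := huniq b ⟨hb, fun x hx => (Finset.mem_inter.mp (hs hx)).1⟩
    have hc0 := huniq c ⟨hc, fun x hx => (Finset.mem_inter.mp (hs hx)).2⟩
    show b.image e = c.image e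
    rw [hb0, hc0]
  · rintro X ⟨b, hb, rfl⟩ hl
    have hl' : Fin.last v ∈ b.image e := hl
    rw [Finset.mem_image] at hl'
    obtain ⟨a, ha, hae⟩ := hl'
    have hap : a = p := e.injective (by rw [hae, he, extEquiv_self])
    have hpb : p ∈ b := hap ▸ ha
    have : (Finset.subtype (fun a => a ≠ p) b).image e0 ∈ famO v Kd := by
      rw [← he0]
      exact ⟨_, ⟨b, hb, hpb, rfl⟩, rfl⟩
    obtain ⟨ys, hys, hys'⟩ := this
    exact ⟨ys, hys, image_extEquiv p e0 b hpb ys hys'⟩
  · intro ys hys
    have : ofL v ys ∈ famO v Kd := ⟨ys, hys, rfl⟩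
    rw [← he0] at this
    obtain ⟨b', ⟨b, hb, hpb, rfl⟩, hb'⟩ := this
    exact ⟨b, hb, image_extEquiv p e0 b hpb ys hb'⟩

/-- The lists `g`, `ginv` carry the family `D` onto the family `D'`. -/
def mapFam (g ginv : List ℕ) (D D' : List (List ℕ)) : Bool :=
  D.all (fun xs => D'.any (fun ys =>
    xs.all (fun x => memb (g.getD x 0) ys) && ys.all (fun y => memb (ginv.getD y 0) xs))) &&
  D'.all (fun ys => D.any (fun xs =>
    xs.all (fun x => memb (g.getD x 0) ys) && ys.all (fun y => memb (ginv.getD y 0) xs)))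

theorem mapFam_spec (g ginv : List ℕ) (D D' : List (List ℕ)) (h : mapFam g ginv D D' = true) :
    (∀ xs ∈ D, ∃ ys ∈ D', (∀ x ∈ xs, g.getD x 0 ∈ ys) ∧ (∀ y ∈ ys, ginv.getD y 0 ∈ xs)) ∧
    (∀ ys ∈ D', ∃ xs ∈ D, (∀ x ∈ xs, g.getD x 0 ∈ ys) ∧ (∀ y ∈ ys, ginv.getD y 0 ∈ xs)) := by
  rw [mapFam, Bool.and_eq_true, List.all_eq_true, List.all_eq_true] at h
  constructor
  · intro xs hxs
    obtain ⟨ys, hys, hh⟩ := List.any_eq_true.mp (h.1 xs hxs)
    simp only [Bool.and_eq_true, List.all_eq_true, memb_iff] at hh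
    exact ⟨ys, hys, hh.1, hh.2⟩
  · intro ys hys
    obtain ⟨xs, hxs, hh⟩ := List.any_eq_true.mp (h.2 ys hys)
    simp only [Bool.and_eq_true, List.all_eq_true, memb_iff] at hh
    exact ⟨xs, hxs, hh.1, hh.2⟩

/-- Each listed completion comes with a permutation fixing the last point, preserving the
known blocks and carrying the completion onto the standard one. -/
def certOK (v : ℕ) (K S0 : List (List ℕ))
    (certs : List (List (List ℕ) × List ℕ × List ℕ)) : Bool :=
  certs.all (fun c => permB (v + 1) c.2.1 c.2.2 && Nat.beq (c.2.1.getD v 0) v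
    && mapFam c.2.1 c.2.2 K K && mapFam c.2.1 c.2.2 c.1 S0)

theorem step {α : Type*} [Fintype α] [DecidableEq α] {t v : ℕ} {B : Set (Finset α)}
    (hB : Cfsg.IsSteinerSystem (t + 1) (t + 2) B) (p : α) (Kd S0 : List (List ℕ))
    (e0 : {a : α // a ≠ p} ≃ Fin v)
    (he0 : (fun b => b.image e0) ''
      {b' : Finset {a : α // a ≠ p} | ∃ b ∈ B, p ∈ b ∧ b' = Finset.subtype (fun a => a ≠ p) b}
        = famO v Kd)
    (certs : List (List (List ℕ) × List ℕ × List ℕ))
    (hgo : go v t Kd (certs.map (fun c => c.1)) (subs (t + 1) (List.range v)) [] = true)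
    (hcert : certOK v (Kd.map (fun ys => v :: ys)) S0 certs = true) :
    ∃ e : α ≃ Fin (v + 1), e p = Fin.last v ∧
      (fun b : Finset α => b.image e) '' B
        = famO (v + 1) (Kd.map (fun ys => v :: ys) ++ S0) := by
  obtain ⟨S, hS, hF⟩ := cover_sound _ Kd (certs.map (fun c => c.1))
    (hyp_of_steiner hB p Kd e0 he0) hgo
  obtain ⟨c, hc, rfl⟩ := List.mem_map.mp hS
  have hck := List.all_eq_true.mp hcert c hc
  simp only [Bool.and_eq_true, nbeq_iff] at hck
  obtain ⟨⟨⟨hperm, hfix⟩, hKK⟩, hSS⟩ := hck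
  refine ⟨(extEquiv p e0).trans (permOfL (v + 1) c.2.1 c.2.2 hperm), ?_, ?_⟩
  · rw [Equiv.trans_apply, extEquiv_self]
    apply Fin.ext
    rw [permOfL_val]
    simpa using hfix
  · rw [image_trans_family, hF, Set.image_union, famO_append]
    have h1 := mapFam_spec _ _ _ _ hKK
    have h2 := mapFam_spec _ _ _ _ hSS
    rw [image_perm_famO (permOfL (v + 1) c.2.1 c.2.2 hperm) c.2.1 c.2.2
      (permOfL_val _ _ _ hperm) (permOfL_symm_val _ _ _ hperm) _ _ h1.1 h1.2,
      image_perm_famO (permOfL (v + 1) c.2.1 c.2.2 hperm) c.2.1 c.2.2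
      (permOfL_val _ _ _ hperm) (permOfL_symm_val _ _ _ hperm) _ _ h2.1 h2.2]

/-- Two families labelled onto the same standard family are isomorphic. -/
theorem iso_of_std {α β γ : Type*} [DecidableEq α] [DecidableEq β] [DecidableEq γ]
    {B : Set (Finset α)} {B' : Set (Finset β)} {D : Set (Finset γ)} (e1 : α ≃ γ) (e2 : β ≃ γ)
    (h1 : (fun b : Finset α => b.image e1) '' B = D)
    (h2 : (fun b : Finset β => b.image e2) '' B' = D) : Cfsg.SetSystemIso B B' := by
  refine ⟨e1.trans e2.symm, ?_⟩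
  have h3 : (fun b : Finset α => b.image (e1.trans e2.symm)) '' B
      = (fun X : Finset γ => X.image e2.symm) '' ((fun b : Finset α => b.image e1) '' B) := by
    rw [Set.image_image]
    congr 1
    ext b : 1
    rw [Finset.image_image]
    rfl
  rw [h3, h1, ← h2, Set.image_image]
  convert Set.image_id B' using 2
  ext b : 1
  rw [Finset.image_image]
  simp

end Cfsg.Agent.Helper17.SteinerCover
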