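import Mathlib
import Cfsg.Agent.Lib.Helper17.SteinerCover3
import Cfsg.Agent.Lib.Helper27.WittAut

set_option autoImplicit false
set_option linter.unusedSectionVars false

/-! A version of the one-point extension step keeping the labels `≥ 7` of the derived design,
and a kernel-checkable search showing that an automorphism of a listed family fixing some
listed points is the identity. -/

namespace Cfsg.Agent.Helper17.SteinerCover

open Cfsg.Agent.Helper27.Witt

/-- As `certOK`, the permutations moreover fixing every label from `7` on. -/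
def certOK' (v : ℕ) (K S0 : List (List ℕ))
    (certs : List (List (List ℕ) × List ℕ × List ℕ)) : Bool :=
  certs.all (fun c => permB (v + 1) c.2.1 c.2.2
    && (List.range (v + 1)).all (fun i => Nat.blt i 7 || Nat.beq (c.2.1.getD i 0) i)
    && mapFam c.2.1 c.2.2 K K && mapFam c.2.1 c.2.2 c.1 S0)

theorem step' {α : Type*} [Fintype α] [DecidableEq α] {t v : ℕ} {B : Set (Finset α)}
    (hB : Cfsg.IsSteinerSystem (t + 1) (t + 2) B) (p : α) (Kd S0 : List (List ℕ))
    (e0 : {a : α // a ≠ p} ≃ Fin v)
    (he0 : (fun b => b.image e0) ''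
      {b' : Finset {a : α // a ≠ p} | ∃ b ∈ B, p ∈ b ∧ b' = Finset.subtype (fun a => a ≠ p) b}
        = famO v Kd)
    (hv : 7 ≤ v)
    (certs : List (List (List ℕ) × List ℕ × List ℕ))
    (hgo : go v t Kd (certs.map (fun c => c.1)) (subs (t + 1) (List.range v)) [] = true)
    (hcert : certOK' v (Kd.map (fun ys => v :: ys)) S0 certs = true) :
    ∃ e : α ≃ Fin (v + 1), (e p).val = v ∧
      (∀ (a : α) (h : a ≠ p), 7 ≤ (e0 ⟨a, h⟩).val → (e a).val = (e0 ⟨a, h⟩).val) ∧
      (fun b : Finset α => b.image e) '' B
        = famO (v + 1) (Kd.map (fun ys => v :: ys) ++ S0) := by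
  obtain ⟨S, hS, hF⟩ := cover_sound _ Kd (certs.map (fun c => c.1))
    (hyp_of_steiner hB p Kd e0 he0) hgo
  obtain ⟨c, hc, rfl⟩ := List.mem_map.mp hS
  have hck := List.all_eq_true.mp hcert c hc
  simp only [Bool.and_eq_true] at hck
  obtain ⟨⟨⟨hperm, hfix⟩, hKK⟩, hSS⟩ := hck
  have hfix' : ∀ i : Fin (v + 1), 7 ≤ i.val →
      (permOfL (v + 1) c.2.1 c.2.2 hperm i).val = i.val := by
    intro i hi
    rw [permOfL_val]
    have := List.all_eq_true.mp hfix i.val (List.mem_range.mpr i.isLt)
    rw [Bool.or_eq_true, Nat.blt_eq, nbeq_iff] at this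
    rcases this with h | h
    · omega
    · exact h
  refine ⟨(extEquiv p e0).trans (permOfL (v + 1) c.2.1 c.2.2 hperm), ?_, ?_, ?_⟩
  · rw [Equiv.trans_apply, extEquiv_self, hfix' _ (by simpa using hv)]
    simp
  · intro a h h7
    rw [Equiv.trans_apply, extEquiv_ne p e0 a h, hfix' _ (by simpa using h7)]
    simp
  · rw [image_trans_family, hF, Set.image_union, famO_append]
    have h1 := mapFam_spec _ _ _ _ hKK
    have h2 := mapFam_spec _ _ _ _ hSS
    rw [image_perm_famO (permOfL (v + 1) c.2.1 c.2.2 hperm) c.2.1 c.2.2
      (permOfL_val _ _ _ hperm) (permOfL_symm_val _ _ _ hperm) _ _ h1.1 h1.2,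
      image_perm_famO (permOfL (v + 1) c.2.1 c.2.2 hperm) c.2.1 c.2.2
      (permOfL_val _ _ _ hperm) (permOfL_symm_val _ _ _ hperm) _ _ h2.1 h2.2]

/-! ### Rigidity search -/

/-- Look up a key in an association list, with a default. -/
def look : List (ℕ × ℕ) → ℕ → ℕ → ℕ
  | [], _, d => d
  | q :: r, x, d => bif Nat.beq q.1 x then q.2 else look r x d

/-- Every block containing `x` all of whose points are assigned is mapped onto a block. -/
def consistent (n : ℕ) (blocks : List (List ℕ)) (assign : List (ℕ × ℕ)) (x : ℕ) : Bool :=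
  blocks.all (fun b => !(memb x b) ||
    (bif (b.map (fun z => look assign z n)).any (fun y => Nat.beq y n) then true
      else blocks.any (fun c => sameSet (b.map (fun z => look assign z n)) c)))

/-- Search over the ways of extending a partial assignment to an automorphism: all of them
must be the identity. -/
def autSearch (n : ℕ) (blocks : List (List ℕ)) : List ℕ → List (ℕ × ℕ) → Bool
  | [], assign => assign.all (fun q => Nat.beq q.1 q.2)
  | x :: rest, assign => (List.range n).all (fun y =>
      assign.any (fun q => Nat.beq q.2 y) || !(consistent n blocks ((x, y) :: assign) x)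
        || autSearch n blocks rest ((x, y) :: assign))

theorem look_spec {n : ℕ} (σ : Equiv.Perm (Fin n)) (assign : List (ℕ × ℕ))
    (hA : ∀ q ∈ assign, ∃ h : q.1 < n, (σ ⟨q.1, h⟩).val = q.2) (x : ℕ) (hx : x < n) :
    look assign x n = n ∨ look assign x n = (σ ⟨x, hx⟩).val := by
  induction assign with
  | nil => left; rfl
  | cons q r ih =>
    rw [look]
    cases hq : Nat.beq q.1 x with
    | true =>
      right
      rw [cond_true]
      obtain ⟨h, hh⟩ := hA q List.mem_cons_self
      have : q.1 = x := (nbeq_iff _ _).mp hq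
      subst this
      exact hh.symm
    | false =>
      rw [cond_false]
      exact ih (fun q' hq' => hA q' (List.mem_cons_of_mem _ hq'))

theorem autSearch_sound {n : ℕ} (blocks : List (List ℕ))
    (hval : ∀ b ∈ blocks, ∀ x ∈ b, x < n) (σ : Equiv.Perm (Fin n))
    (hσ : ∀ b ∈ blocks, (ofL n b).image σ ∈ famO n blocks) :
    ∀ (todo : List ℕ) (assign : List (ℕ × ℕ)),
      (∀ x ∈ todo, x < n) → todo.Nodup → (∀ x ∈ todo, ∀ q ∈ assign, q.1 ≠ x) →
      (∀ q ∈ assign, ∃ h : q.1 < n, (σ ⟨q.1, h⟩).val = q.2) →
      autSearch n blocks todo assign = true →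
      (∀ x ∈ todo, ∀ h : x < n, (σ ⟨x, h⟩).val = x) ∧ (∀ q ∈ assign, q.1 = q.2) := by
  intro todo
  induction todo with
  | nil =>
    intro assign _ _ _ _ hs
    rw [autSearch, List.all_eq_true] at hs
    refine ⟨?_, fun q hq => (nbeq_iff _ _).mp (hs q hq)⟩
    intro x hx
    simp at hx
  | cons x rest ih =>
    intro assign hlt hnd hdisj hA hs
    have hx : x < n := hlt x List.mem_cons_self
    set y := (σ ⟨x, hx⟩).val with hy
    have hyn : y < n := (σ ⟨x, hx⟩).isLt
    rw [autSearch] at hs
    have hb := List.all_eq_true.mp hs y (List.mem_range.mpr hyn)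
    have h1 : assign.any (fun q => Nat.beq q.2 y) = false := by
      rw [Bool.eq_false_iff]
      intro h
      obtain ⟨q, hq, hqy⟩ := List.any_eq_true.mp h
      have hqy' : q.2 = y := (nbeq_iff _ _).mp hqy
      obtain ⟨hq1, hq2⟩ := hA q hq
      have : (⟨q.1, hq1⟩ : Fin n) = ⟨x, hx⟩ := by
        apply σ.injective
        apply Fin.ext
        rw [hq2, hqy']
      exact hdisj x List.mem_cons_self q hq (Fin.ext_iff.mp this)
    have hA' : ∀ q ∈ (x, y) :: assign, ∃ h : q.1 < n, (σ ⟨q.1, h⟩).val = q.2 := by
      intro q hq
      rcases List.mem_cons.mp hq with rfl | hq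
      · exact ⟨hx, rfl⟩
      · exact hA q hq
    have h2 : consistent n blocks ((x, y) :: assign) x = true := by
      rw [consistent, List.all_eq_true]
      intro b hb'
      rw [Bool.or_eq_true]
      right
      cases hsent : ((b.map (fun z => look ((x, y) :: assign) z n)).any
          (fun y => Nat.beq y n)) with
      | true => rfl
      | false =>
        rw [cond_false]
        have hall : ∀ z ∈ b, ∀ hz : z < n,
            look ((x, y) :: assign) z n = (σ ⟨z, hz⟩).val := by
          intro z hz hzn
          rcases look_spec σ _ hA' z hzn with h | h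
          · exfalso
            have : ((b.map (fun z => look ((x, y) :: assign) z n)).any
                (fun y => Nat.beq y n)) = true := by
              rw [List.any_eq_true]
              exact ⟨_, List.mem_map.mpr ⟨z, hz, rfl⟩, (nbeq_iff _ _).mpr h⟩
            rw [this] at hsent
            cases hsent
          · exact h
        obtain ⟨c, hc, hcb⟩ := hσ b hb'
        rw [List.any_eq_true]
        refine ⟨c, hc, ?_⟩
        rw [sameSet, Bool.and_eq_true, subL_iff, subL_iff]
        constructor
        · intro w hw
          obtain ⟨z, hz, rfl⟩ := List.mem_map.mp hw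
          have hzn := hval b hb' z hz
          rw [hall z hz hzn]
          have : σ ⟨z, hzn⟩ ∈ (ofL n b).image σ :=
            Finset.mem_image_of_mem _ (mem_ofL.mpr hz)
          rw [hcb, mem_ofL] at this
          exact this
        · intro w hw
          have hwn := hval c hc w hw
          have : (⟨w, hwn⟩ : Fin n) ∈ (ofL n b).image σ := by
            rw [hcb, mem_ofL]
            exact hw
          obtain ⟨z, hz, hzw⟩ := Finset.mem_image.mp this
          rw [mem_ofL] at hz
          rw [List.mem_map]
          refine ⟨z.val, hz, ?_⟩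
          rw [hall z.val hz z.isLt]
          exact congrArg Fin.val hzw
    rw [h1, h2] at hb
    simp only [Bool.not_true, Bool.or_self, Bool.false_or] at hb
    have hnd' := List.nodup_cons.mp hnd
    obtain ⟨hr, ha⟩ := ih ((x, y) :: assign)
      (fun z hz => hlt z (List.mem_cons_of_mem _ hz)) hnd'.2
      (by
        intro z hz q hq
        rcases List.mem_cons.mp hq with rfl | hq
        · intro h
          have h' : x = z := h
          exact hnd'.1 (h' ▸ hz)
        · exact hdisj z (List.mem_cons_of_mem _ hz) q hq) hA' hb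
    have hxy : x = y := ha (x, y) List.mem_cons_self
    constructor
    · intro z hz hzn
      rcases List.mem_cons.mp hz with rfl | hz
      · exact hxy.symm
      · exact hr z hz hzn
    · intro q hq
      exact ha q (List.mem_cons_of_mem _ hq)

/-- An automorphism of a listed family fixing the listed points is the identity, by a
kernel-checked search. -/
theorem rigid {n : ℕ} (blocks : List (List ℕ)) (fixed todo : List ℕ)
    (hval : (blocks.all fun b => b.all fun x => Nat.blt x n) = true)
    (hcov : ((List.range n).all fun i => memb i fixed || memb i todo) = true)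
    (hfixed : (fixed.all fun x => Nat.blt x n) = true)
    (htodo : (todo.all fun x => Nat.blt x n && !(memb x fixed)) = true) (hnd : todo.Nodup)
    (hs : autSearch n blocks todo (fixed.map fun i => (i, i)) = true)
    (σ : Equiv.Perm (Fin n)) (hσ : σ ∈ Cfsg.setSystemAut (famO n blocks))
    (hfix : ∀ i : Fin n, i.val ∈ fixed → σ i = i) : σ = 1 := by
  have hval' : ∀ b ∈ blocks, ∀ x ∈ b, x < n := by
    intro b hb x hx
    have := List.all_eq_true.mp (List.all_eq_true.mp hval b hb) x hx
    simpa using this
  have htodo' : ∀ x ∈ todo, x < n ∧ x ∉ fixed := by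
    intro x hx
    have := List.all_eq_true.mp htodo x hx
    rw [Bool.and_eq_true, Nat.blt_eq, Bool.not_eq_true', Bool.eq_false_iff] at this
    exact ⟨this.1, fun h => this.2 ((memb_iff _ _).mpr h)⟩
  have hσ' : ∀ b ∈ blocks, (ofL n b).image σ ∈ famO n blocks := by
    intro b hb
    exact ((mem_setSystemAut_iff σ).mp hσ (ofL n b)).mpr ⟨b, hb, rfl⟩
  obtain ⟨hr, -⟩ := autSearch_sound blocks hval' σ hσ' todo (fixed.map fun i => (i, i))
    (fun x hx => (htodo' x hx).1) hnd
    (by
      intro x hx q hq
      obtain ⟨i, hi, rfl⟩ := List.mem_map.mp hq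
      intro h
      exact (htodo' x hx).2 (h ▸ hi))
    (by
      intro q hq
      obtain ⟨i, hi, rfl⟩ := List.mem_map.mp hq
      have hin : i < n := by
        have := List.all_eq_true.mp hfixed i hi
        simpa using this
      exact ⟨hin, by rw [hfix ⟨i, hin⟩ hi]⟩) hs
  ext i
  have := List.all_eq_true.mp hcov i.val (List.mem_range.mpr i.isLt)
  rw [Bool.or_eq_true, memb_iff, memb_iff] at this
  rcases this with h | h
  · rw [hfix i h]; rfl
  · rw [hr i.val h i.isLt]; rfl

end Cfsg.Agent.Helper17.SteinerCover
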