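import Mathlib
import Cfsg.Agent.Lib.Helper17.SteinerData
import Cfsg.Agent.Lib.Helper17.SteinerCover4

set_option autoImplicit false
set_option maxRecDepth 100000

/-! Second set of certificates for the chain of one-point extensions from `S(0,1,7)` to
`S(5,6,12)`: the permutations carrying each completion onto the standard one now fix every
label from `7` on, so that the labels of several prescribed points survive the chain.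
Generated by a script. -/

namespace Cfsg.Agent.Helper17.SteinerCover

open Cfsg.Agent.Helper27.Witt

def tcerts8 : List (List (List ℕ) × List ℕ × List ℕ) := [
  ([[0, 2], [3, 4], [5, 6]], [0, 1, 2, 3, 6, 4, 5, 7], [0, 1, 2, 3, 5, 6, 4, 7]),
  ([[0, 2], [3, 5], [4, 6]], [0, 1, 2, 3, 4, 6, 5, 7], [0, 1, 2, 3, 4, 6, 5, 7]),
  ([[0, 2], [3, 6], [4, 5]], [0, 1, 2, 3, 4, 5, 6, 7], [0, 1, 2, 3, 4, 5, 6, 7]),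
  ([[0, 3], [2, 4], [5, 6]], [0, 1, 3, 2, 6, 4, 5, 7], [0, 1, 3, 2, 5, 6, 4, 7]),
  ([[0, 3], [2, 5], [4, 6]], [0, 1, 3, 2, 4, 6, 5, 7], [0, 1, 3, 2, 4, 6, 5, 7]),
  ([[0, 3], [2, 6], [4, 5]], [0, 1, 3, 2, 4, 5, 6, 7], [0, 1, 3, 2, 4, 5, 6, 7]),
  ([[0, 4], [2, 3], [5, 6]], [0, 1, 3, 6, 2, 4, 5, 7], [0, 1, 4, 2, 5, 6, 3, 7]),
  ([[0, 4], [2, 5], [3, 6]], [0, 1, 3, 4, 2, 6, 5, 7], [0, 1, 4, 2, 3, 6, 5, 7]),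
  ([[0, 4], [2, 6], [3, 5]], [0, 1, 3, 4, 2, 5, 6, 7], [0, 1, 4, 2, 3, 5, 6, 7]),
  ([[0, 5], [2, 3], [4, 6]], [0, 1, 3, 6, 4, 2, 5, 7], [0, 1, 5, 2, 4, 6, 3, 7]),
  ([[0, 5], [2, 4], [3, 6]], [0, 1, 3, 4, 6, 2, 5, 7], [0, 1, 5, 2, 3, 6, 4, 7]),
  ([[0, 5], [2, 6], [3, 4]], [0, 1, 3, 4, 5, 2, 6, 7], [0, 1, 5, 2, 3, 4, 6, 7]),
  ([[0, 6], [2, 3], [4, 5]], [0, 1, 3, 6, 4, 5, 2, 7], [0, 1, 6, 2, 4, 5, 3, 7]),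
  ([[0, 6], [2, 4], [3, 5]], [0, 1, 3, 4, 6, 5, 2, 7], [0, 1, 6, 2, 3, 5, 4, 7]),
  ([[0, 6], [2, 5], [3, 4]], [0, 1, 3, 4, 5, 6, 2, 7], [0, 1, 6, 2, 3, 4, 5, 7])]

theorem tgo8 : go 7 0 DL7 (tcerts8.map (fun c => c.1)) (subs (0 + 1) (List.range 7)) [] = true := by
  decide +kernel

theorem tcertOK8 : certOK' 7 (DL7.map (fun ys => 7 :: ys)) E8 tcerts8 = true := by
  decide +kernel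

def tcerts9 : List (List (List ℕ) × List ℕ × List ℕ) := [
  ([[0, 1, 3], [0, 4, 6], [0, 5, 7], [1, 2, 4], [1, 5, 6], [2, 3, 5], [2, 6, 7], [3, 4, 7]], [0, 1, 2, 3, 5, 4, 6, 7, 8], [0, 1, 2, 3, 5, 4, 6, 7, 8]),
  ([[0, 1, 3], [0, 4, 7], [0, 5, 6], [1, 2, 5], [1, 4, 6], [2, 3, 4], [2, 6, 7], [3, 5, 7]], [0, 1, 2, 3, 4, 5, 6, 7, 8], [0, 1, 2, 3, 4, 5, 6, 7, 8]),
  ([[0, 1, 4], [0, 3, 5], [0, 6, 7], [1, 2, 3], [1, 5, 6], [2, 4, 6], [2, 5, 7], [3, 4, 7]], [0, 1, 2, 5, 3, 6, 4, 7, 8], [0, 1, 2, 4, 6, 3, 5, 7, 8]),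
  ([[0, 1, 4], [0, 3, 7], [0, 5, 6], [1, 2, 6], [1, 3, 5], [2, 3, 4], [2, 5, 7], [4, 6, 7]], [0, 1, 2, 4, 3, 6, 5, 7, 8], [0, 1, 2, 4, 3, 6, 5, 7, 8]),
  ([[0, 1, 5], [0, 3, 4], [0, 6, 7], [1, 2, 3], [1, 4, 6], [2, 4, 7], [2, 5, 6], [3, 5, 7]], [0, 1, 2, 5, 6, 3, 4, 7, 8], [0, 1, 2, 5, 6, 3, 4, 7, 8]),
  ([[0, 1, 5], [0, 3, 7], [0, 4, 6], [1, 2, 6], [1, 3, 4], [2, 3, 5], [2, 4, 7], [5, 6, 7]], [0, 1, 2, 4, 6, 3, 5, 7, 8], [0, 1, 2, 5, 3, 6, 4, 7, 8]),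
  ([[0, 1, 6], [0, 3, 4], [0, 5, 7], [1, 2, 4], [1, 3, 5], [2, 3, 7], [2, 5, 6], [4, 6, 7]], [0, 1, 2, 6, 5, 4, 3, 7, 8], [0, 1, 2, 6, 5, 4, 3, 7, 8]),
  ([[0, 1, 6], [0, 3, 5], [0, 4, 7], [1, 2, 5], [1, 3, 4], [2, 3, 7], [2, 4, 6], [5, 6, 7]], [0, 1, 2, 6, 4, 5, 3, 7, 8], [0, 1, 2, 6, 4, 5, 3, 7, 8])]

theorem tgo9 : go 8 1 DL8 (tcerts9.map (fun c => c.1)) (subs (1 + 1) (List.range 8)) [] = true := by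
  decide +kernel

theorem tcertOK9 : certOK' 8 (DL8.map (fun ys => 8 :: ys)) E9 tcerts9 = true := by
  decide +kernel

def tcerts10 : List (List (List ℕ) × List ℕ × List ℕ) := [
  ([[0, 1, 2, 4], [0, 1, 5, 8], [0, 1, 6, 7], [0, 2, 3, 6], [0, 2, 5, 7], [0, 3, 4, 5], [0, 3, 7, 8], [0, 4, 6, 8], [1, 2, 3, 7], [1, 2, 6, 8], [1, 3, 4, 8], [1, 3, 5, 6], [1, 4, 5, 7], [2, 3, 5, 8], [2, 4, 5, 6], [2, 4, 7, 8], [3, 4, 6, 7], [5, 6, 7, 8]], [0, 1, 2, 3, 4, 5, 6, 7, 8, 9], [0, 1, 2, 3, 4, 5, 6, 7, 8, 9]),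
  ([[0, 1, 2, 6], [0, 1, 4, 8], [0, 1, 5, 7], [0, 2, 3, 7], [0, 2, 4, 5], [0, 3, 4, 6], [0, 3, 5, 8], [0, 6, 7, 8], [1, 2, 3, 8], [1, 2, 4, 7], [1, 3, 4, 5], [1, 3, 6, 7], [1, 5, 6, 8], [2, 3, 5, 6], [2, 4, 6, 8], [2, 5, 7, 8], [3, 4, 7, 8], [4, 5, 6, 7]], [2, 1, 0, 5, 6, 3, 4, 7, 8, 9], [2, 1, 0, 5, 6, 3, 4, 7, 8, 9]),
  ([[0, 1, 2, 7], [0, 1, 4, 5], [0, 1, 6, 8], [0, 2, 3, 5], [0, 2, 4, 6], [0, 3, 4, 8], [0, 3, 6, 7], [0, 5, 7, 8], [1, 2, 3, 6], [1, 2, 4, 8], [1, 3, 4, 7], [1, 3, 5, 8], [1, 5, 6, 7], [2, 3, 7, 8], [2, 4, 5, 7], [2, 5, 6, 8], [3, 4, 5, 6], [4, 6, 7, 8]], [4, 1, 5, 6, 0, 2, 3, 7, 8, 9], [4, 1, 5, 6, 0, 2, 3, 7, 8, 9])]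

theorem tgo10 : go 9 2 DL9 (tcerts10.map (fun c => c.1)) (subs (2 + 1) (List.range 9)) [] = true := by
  decide +kernel

theorem tcertOK10 : certOK' 9 (DL9.map (fun ys => 9 :: ys)) E10 tcerts10 = true := by
  decide +kernel

def tcerts11 : List (List (List ℕ) × List ℕ × List ℕ) := [
  ([[0, 1, 2, 3, 5], [0, 1, 2, 6, 9], [0, 1, 2, 7, 8], [0, 1, 3, 4, 7], [0, 1, 3, 6, 8], [0, 1, 4, 5, 6], [0, 1, 4, 8, 9], [0, 1, 5, 7, 9], [0, 2, 3, 4, 8], [0, 2, 3, 7, 9], [0, 2, 4, 5, 9], [0, 2, 4, 6, 7], [0, 2, 5, 6, 8], [0, 3, 4, 6, 9], [0, 3, 5, 6, 7], [0, 3, 5, 8, 9], [0, 4, 5, 7, 8], [0, 6, 7, 8, 9], [1, 2, 3, 4, 6], [1, 2, 3, 8, 9], [1, 2, 4, 5, 8], [1, 2, 4, 7, 9], [1, 2, 5, 6, 7], [1, 3, 4, 5, 9], [1, 3, 5, 7, 8], [1, 3, 6, 7, 9], [1, 4, 6, 7, 8], [1, 5,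 6, 8, 9], [2, 3, 4, 5, 7], [2, 3, 5, 6, 9], [2, 3, 6, 7, 8], [2, 4, 6, 8, 9], [2, 5, 7, 8, 9], [3, 4, 5, 6, 8], [3, 4, 7, 8, 9], [4, 5, 6, 7, 9]], [0, 1, 2, 3, 4, 5, 6, 7, 8, 9, 10], [0, 1, 2, 3, 4, 5, 6, 7, 8, 9, 10]),
  ([[0, 1, 2, 3, 8], [0, 1, 2, 5, 6], [0, 1, 2, 7, 9], [0, 1, 3, 4, 6], [0, 1, 3, 5, 7], [0, 1, 4, 5, 9], [0, 1, 4, 7, 8], [0, 1, 6, 8, 9], [0, 2, 3, 4, 7], [0, 2, 3, 5, 9], [0, 2, 4, 5, 8], [0, 2, 4, 6, 9], [0, 2, 6, 7, 8], [0, 3, 4, 8, 9], [0, 3, 5, 6, 8], [0, 3, 6, 7, 9], [0, 4, 5, 6, 7], [0, 5, 7, 8, 9], [1, 2, 3, 4, 5], [1, 2, 3, 6, 9], [1, 2, 4, 6, 7], [1, 2, 4, 8, 9], [1, 2, 5, 7, 8], [1, 3, 4, 7, 9], [1, 3, 5, 8, 9], [1, 3, 6, 7, 8], [1, 4, 5, 6, 8], [1, 5, 6, 7, 9], [2, 3, 4, 6, 8], [2, 3, 5, 6, 7], [2, 3, 7, 8, 9], [2,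 4, 5, 7, 9], [2, 5, 6, 8, 9], [3, 4, 5, 6, 9], [3, 4, 5, 7, 8], [4, 6, 7, 8, 9]], [3, 1, 6, 0, 5, 4, 2, 7, 8, 9, 10], [3, 1, 6, 0, 5, 4, 2, 7, 8, 9, 10])]

theorem tgo11 : go 10 3 DL10 (tcerts11.map (fun c => c.1)) (subs (3 + 1) (List.range 10)) [] = true := by
  decide +kernel

theorem tcertOK11 : certOK' 10 (DL10.map (fun ys => 10 :: ys)) E11 tcerts11 = true := by
  decide +kernel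

def tcerts12 : List (List (List ℕ) × List ℕ × List ℕ) := [
  ([[0, 1, 2, 3, 4, 9], [0, 1, 2, 3, 6, 7], [0, 1, 2, 3, 8, 10], [0, 1, 2, 4, 5, 7], [0, 1, 2, 4, 6, 8], [0, 1, 2, 5, 6, 10], [0, 1, 2, 5, 8, 9], [0, 1, 2, 7, 9, 10], [0, 1, 3, 4, 5, 8], [0, 1, 3, 4, 6, 10], [0, 1, 3, 5, 6, 9], [0, 1, 3, 5, 7, 10], [0, 1, 3, 7, 8, 9], [0, 1, 4, 5, 9, 10], [0, 1, 4, 6, 7, 9], [0, 1, 4, 7, 8, 10], [0, 1, 5, 6, 7, 8], [0, 1, 6, 8, 9, 10], [0, 2, 3, 4, 5, 6], [0, 2, 3, 4, 7, 10], [0, 2, 3, 5, 7, 8], [0, 2, 3, 5, 9, 10], [0, 2, 3, 6, 8, 9], [0, 2, 4, 5, 8, 10], [0, 2, 4, 6, 9, 10], [0, 2, 4, 7, 8, 9], [0, 2, 5, 6, 7, 9], [0, 2, 6, 7, 8, 10], [0, 3, 4, 5, 7, 9], [0, 3, 4, 6, 7, 8], [0, 3, 4, 8, 9, 10], [0, 3, 5, 6, 8, 10], [0, 3, 6, 7, 9, 10], [0, 4, 5, 6, 7,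 10], [0, 4, 5, 6, 8, 9], [0, 5, 7, 8, 9, 10], [1, 2, 3, 4, 5, 10], [1, 2, 3, 4, 7, 8], [1, 2, 3, 5, 6, 8], [1, 2, 3, 5, 7, 9], [1, 2, 3, 6, 9, 10], [1, 2, 4, 5, 6, 9], [1, 2, 4, 6, 7, 10], [1, 2, 4, 8, 9, 10], [1, 2, 5, 7, 8, 10], [1, 2, 6, 7, 8, 9], [1, 3, 4, 5, 6, 7], [1, 3, 4, 6, 8, 9], [1, 3, 4, 7, 9, 10], [1, 3, 5, 8, 9, 10], [1, 3, 6, 7, 8, 10], [1, 4, 5, 6, 8, 10], [1, 4, 5, 7, 8, 9], [1, 5, 6, 7, 9, 10], [2, 3, 4, 5, 8, 9], [2, 3, 4, 6, 7, 9], [2, 3, 4, 6, 8, 10], [2, 3, 5, 6, 7, 10], [2, 3, 7, 8, 9, 10], [2, 4, 5, 6, 7, 8], [2, 4, 5, 7, 9, 10], [2, 5, 6, 8, 9, 10], [3, 4, 5, 6, 9, 10], [3, 4, 5, 7, 8, 10], [3, 5, 6, 7, 8, 9], [4, 6, 7, 8, 9, 10]], [0, 1, 2, 3, 4, 5, 6, 7, 8, 9, 10, 11], [0, 1, 2, 3, 4, 5, 6, 7, 8, 9, 10, 11])]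

theorem tgo12 : go 11 4 DL11 (tcerts12.map (fun c => c.1)) (subs (4 + 1) (List.range 11)) [] = true := by
  decide +kernel

theorem tcertOK12 : certOK' 11 (DL11.map (fun ys => 11 :: ys)) E12 tcerts12 = true := by
  decide +kernel

end Cfsg.Agent.Helper17.SteinerCover
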