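import Mathlib
import Cfsg.Agent.Lib.Helper17.SteinerData
import Cfsg.Agent.S0351

set_option autoImplicit false
set_option linter.unusedSectionVars false

/-! Every Steiner system `S(1,2,8)`, `S(2,3,9)`, `S(3,4,10)`, `S(4,5,11)`, `S(5,6,12)` can be
labelled onto an explicit standard one (`DL8`, ..., `DL12`), with any prescribed point
labelled last. -/

namespace Cfsg.Agent.Helper17.SteinerCover

open Cfsg.Agent.Helper27.Witt

/-- A Steiner system `S(0,1,7)` is a single one-point block. -/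
theorem std7 {α : Type*} [Fintype α] [DecidableEq α] {B : Set (Finset α)}
    (hB : Cfsg.IsSteinerSystem 0 1 B) (hα : Fintype.card α = 7) :
    ∃ e : α ≃ Fin 7, (fun b : Finset α => b.image e) '' B = famO 7 DL7 := by
  obtain ⟨hcard, hst⟩ := hB
  obtain ⟨b₀, ⟨hb₀, -⟩, huniq⟩ := hst ∅ Finset.card_empty
  have hBeq : B = {b₀} := by
    ext b
    constructor
    · intro hb
      exact huniq b ⟨hb, Finset.empty_subset _⟩
    · rintro rfl
      exact hb₀
  obtain ⟨x₀, hx₀⟩ := Finset.card_eq_one.mp (hcard b₀ hb₀)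
  set e' : α ≃ Fin 7 := Fintype.equivFinOfCardEq hα
  refine ⟨e'.trans (Equiv.swap (e' x₀) 1), ?_⟩
  rw [hBeq, Set.image_singleton, hx₀, Finset.image_singleton]
  have h1 : (e'.trans (Equiv.swap (e' x₀) 1)) x₀ = 1 := by
    rw [Equiv.trans_apply, Equiv.swap_apply_left]
  rw [h1]
  ext X
  simp only [Set.mem_singleton_iff, mem_famO, DL7, List.mem_singleton]
  have h2 : ofL 7 [1] = {1} := by
    ext i
    simp [mem_ofL, Fin.ext_iff]
  constructor
  · rintro rfl
    exact ⟨[1], rfl, h2.symm⟩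
  · rintro ⟨ys, rfl, rfl⟩
    exact h2

theorem card_ne {α : Type*} [Fintype α] [DecidableEq α] (p : α) (n : ℕ)
    (hα : Fintype.card α = n + 1) : Fintype.card {a : α // a ≠ p} = n := by
  rw [Fintype.card_subtype_compl, Fintype.card_subtype_eq, hα]
  rfl

theorem std8 {α : Type*} [Fintype α] [DecidableEq α] {B : Set (Finset α)}
    (hB : Cfsg.IsSteinerSystem 1 2 B) (hα : Fintype.card α = 8) (p : α) :
    ∃ e : α ≃ Fin 8, e p = Fin.last 7 ∧ (fun b : Finset α => b.image e) '' B = famO 8 DL8 := by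
  have hder := Cfsg.Agent.S0351.result (t := 0) (k := 1) hB p
  obtain ⟨e0, he0⟩ := std7 hder (card_ne p 7 hα)
  exact step (t := 0) (v := 7) hB p DL7 E8 e0 he0 certs8 go8 certOK8

theorem std9 {α : Type*} [Fintype α] [DecidableEq α] {B : Set (Finset α)}
    (hB : Cfsg.IsSteinerSystem 2 3 B) (hα : Fintype.card α = 9) (p : α) :
    ∃ e : α ≃ Fin 9, e p = Fin.last 8 ∧ (fun b : Finset α => b.image e) '' B = famO 9 DL9 := by
  have hder := Cfsg.Agent.S0351.result (t := 1) (k := 2) hB p
  have hc := card_ne p 8 hα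
  obtain ⟨q0⟩ : Nonempty {a : α // a ≠ p} := by
    rw [← Fintype.card_pos_iff, hc]; norm_num
  obtain ⟨e0, -, he0⟩ := std8 hder hc q0
  exact step (t := 1) (v := 8) hB p DL8 E9 e0 he0 certs9 go9 certOK9

theorem std10 {α : Type*} [Fintype α] [DecidableEq α] {B : Set (Finset α)}
    (hB : Cfsg.IsSteinerSystem 3 4 B) (hα : Fintype.card α = 10) (p : α) :
    ∃ e : α ≃ Fin 10, e p = Fin.last 9 ∧
      (fun b : Finset α => b.image e) '' B = famO 10 DL10 := by
  have hder := Cfsg.Agent.S0351.result (t := 2) (k := 3) hB p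
  have hc := card_ne p 9 hα
  obtain ⟨q0⟩ : Nonempty {a : α // a ≠ p} := by
    rw [← Fintype.card_pos_iff, hc]; norm_num
  obtain ⟨e0, -, he0⟩ := std9 hder hc q0
  exact step (t := 2) (v := 9) hB p DL9 E10 e0 he0 certs10 go10 certOK10

/-- Every Steiner system `S(4,5,11)` is the standard one, with any prescribed point labelled
last. -/
theorem std11 {α : Type*} [Fintype α] [DecidableEq α] {B : Set (Finset α)}
    (hB : Cfsg.IsSteinerSystem 4 5 B) (hα : Fintype.card α = 11) (p : α) :
    ∃ e : α ≃ Fin 11, e p = Fin.last 10 ∧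
      (fun b : Finset α => b.image e) '' B = famO 11 DL11 := by
  have hder := Cfsg.Agent.S0351.result (t := 3) (k := 4) hB p
  have hc := card_ne p 10 hα
  obtain ⟨q0⟩ : Nonempty {a : α // a ≠ p} := by
    rw [← Fintype.card_pos_iff, hc]; norm_num
  obtain ⟨e0, -, he0⟩ := std10 hder hc q0
  exact step (t := 3) (v := 10) hB p DL10 E11 e0 he0 certs11 go11 certOK11

/-- Every Steiner system `S(5,6,12)` is the standard one, with any prescribed point labelled
last. -/
theorem std12 {α : Type*} [Fintype α] [DecidableEq α] {B : Set (Finset α)}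
    (hB : Cfsg.IsSteinerSystem 5 6 B) (hα : Fintype.card α = 12) (p : α) :
    ∃ e : α ≃ Fin 12, e p = Fin.last 11 ∧
      (fun b : Finset α => b.image e) '' B = famO 12 DL12 := by
  have hder := Cfsg.Agent.S0351.result (t := 4) (k := 5) hB p
  have hc := card_ne p 11 hα
  obtain ⟨q0⟩ : Nonempty {a : α // a ≠ p} := by
    rw [← Fintype.card_pos_iff, hc]; norm_num
  obtain ⟨e0, -, he0⟩ := std11 hder hc q0
  exact step (t := 4) (v := 11) hB p DL11 E12 e0 he0 certs12 go12 certOK12

end Cfsg.Agent.Helper17.SteinerCover
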