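import Mathlib
import Cfsg.Agent.Lib.Helper17.SteinerData2
import Cfsg.Agent.Lib.Helper17.SteinerStd

set_option autoImplicit false
set_option linter.unusedSectionVars false
set_option maxRecDepth 100000

/-! Labellings of the small Witt designs with several prescribed points, and rigidity:
an automorphism of the standard `S(4,5,11)` (`S(5,6,12)`) fixing four (five) labelled points is
the identity. -/

namespace Cfsg.Agent.Helper17.SteinerCover

open Cfsg.Agent.Helper27.Witt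

section chain

variable {α : Type*} [Fintype α] [DecidableEq α] {B : Set (Finset α)}

theorem tstd8 (hB : Cfsg.IsSteinerSystem 1 2 B) (hα : Fintype.card α = 8) (p₁ : α) :
    ∃ e : α ≃ Fin 8, (e p₁).val = 7 ∧ (fun b : Finset α => b.image e) '' B = famO 8 DL8 := by
  have hder := Cfsg.Agent.S0351.result (t := 0) (k := 1) hB p₁
  obtain ⟨e0, he0⟩ := std7 hder (card_ne p₁ 7 hα)
  obtain ⟨e, h1, -, h3⟩ := step' (t := 0) (v := 7) hB p₁ DL7 E8 e0 he0 le_rfl tcerts8 tgo8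
    tcertOK8
  exact ⟨e, h1, h3⟩

theorem tstd9 (hB : Cfsg.IsSteinerSystem 2 3 B) (hα : Fintype.card α = 9) (p₁ p₂ : α)
    (h21 : p₂ ≠ p₁) :
    ∃ e : α ≃ Fin 9, (e p₁).val = 8 ∧ (e p₂).val = 7 ∧
      (fun b : Finset α => b.image e) '' B = famO 9 DL9 := by
  have hder := Cfsg.Agent.S0351.result (t := 1) (k := 2) hB p₁
  obtain ⟨e0, h0, he0⟩ := tstd8 hder (card_ne p₁ 8 hα) ⟨p₂, h21⟩
  obtain ⟨e, h1, h2, h3⟩ := step' (t := 1) (v := 8) hB p₁ DL8 E9 e0 he0 (by norm_num) tcerts9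
    tgo9 tcertOK9
  refine ⟨e, h1, ?_, h3⟩
  rw [h2 p₂ h21 (by rw [h0]), h0]

theorem tstd10 (hB : Cfsg.IsSteinerSystem 3 4 B) (hα : Fintype.card α = 10) (p₁ p₂ p₃ : α)
    (h21 : p₂ ≠ p₁) (h31 : p₃ ≠ p₁) (h32 : p₃ ≠ p₂) :
    ∃ e : α ≃ Fin 10, (e p₁).val = 9 ∧ (e p₂).val = 8 ∧ (e p₃).val = 7 ∧
      (fun b : Finset α => b.image e) '' B = famO 10 DL10 := by
  have hder := Cfsg.Agent.S0351.result (t := 2) (k := 3) hB p₁
  obtain ⟨e0, h0, h0', he0⟩ := tstd9 hder (card_ne p₁ 9 hα) ⟨p₂, h21⟩ ⟨p₃, h31⟩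
    (fun h => h32 (congrArg Subtype.val h))
  obtain ⟨e, h1, h2, h3⟩ := step' (t := 2) (v := 9) hB p₁ DL9 E10 e0 he0 (by norm_num) tcerts10
    tgo10 tcertOK10
  refine ⟨e, h1, ?_, ?_, h3⟩
  · rw [h2 p₂ h21 (by rw [h0]; norm_num), h0]
  · rw [h2 p₃ h31 (by rw [h0']), h0']

theorem tstd11 (hB : Cfsg.IsSteinerSystem 4 5 B) (hα : Fintype.card α = 11) (p₁ p₂ p₃ p₄ : α)
    (h21 : p₂ ≠ p₁) (h31 : p₃ ≠ p₁) (h41 : p₄ ≠ p₁) (h32 : p₃ ≠ p₂) (h42 : p₄ ≠ p₂)
    (h43 : p₄ ≠ p₃) :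
    ∃ e : α ≃ Fin 11, (e p₁).val = 10 ∧ (e p₂).val = 9 ∧ (e p₃).val = 8 ∧ (e p₄).val = 7 ∧
      (fun b : Finset α => b.image e) '' B = famO 11 DL11 := by
  have hder := Cfsg.Agent.S0351.result (t := 3) (k := 4) hB p₁
  obtain ⟨e0, h0, h0', h0'', he0⟩ := tstd10 hder (card_ne p₁ 10 hα) ⟨p₂, h21⟩ ⟨p₃, h31⟩
    ⟨p₄, h41⟩ (fun h => h32 (congrArg Subtype.val h)) (fun h => h42 (congrArg Subtype.val h))
    (fun h => h43 (congrArg Subtype.val h))
  obtain ⟨e, h1, h2, h3⟩ := step' (t := 3) (v := 10) hB p₁ DL10 E11 e0 he0 (by norm_num)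
    tcerts11 tgo11 tcertOK11
  refine ⟨e, h1, ?_, ?_, ?_, h3⟩
  · rw [h2 p₂ h21 (by rw [h0]; norm_num), h0]
  · rw [h2 p₃ h31 (by rw [h0']; norm_num), h0']
  · rw [h2 p₄ h41 (by rw [h0'']), h0'']

theorem tstd12 (hB : Cfsg.IsSteinerSystem 5 6 B) (hα : Fintype.card α = 12)
    (p₁ p₂ p₃ p₄ p₅ : α)
    (h21 : p₂ ≠ p₁) (h31 : p₃ ≠ p₁) (h41 : p₄ ≠ p₁) (h51 : p₅ ≠ p₁) (h32 : p₃ ≠ p₂)
    (h42 : p₄ ≠ p₂) (h52 : p₅ ≠ p₂) (h43 : p₄ ≠ p₃) (h53 : p₅ ≠ p₃) (h54 : p₅ ≠ p₄) :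
    ∃ e : α ≃ Fin 12, (e p₁).val = 11 ∧ (e p₂).val = 10 ∧ (e p₃).val = 9 ∧ (e p₄).val = 8 ∧
      (e p₅).val = 7 ∧ (fun b : Finset α => b.image e) '' B = famO 12 DL12 := by
  have hder := Cfsg.Agent.S0351.result (t := 4) (k := 5) hB p₁
  obtain ⟨e0, h0, h0', h0'', h0''', he0⟩ := tstd11 hder (card_ne p₁ 11 hα) ⟨p₂, h21⟩ ⟨p₃, h31⟩
    ⟨p₄, h41⟩ ⟨p₅, h51⟩ (fun h => h32 (congrArg Subtype.val h))
    (fun h => h42 (congrArg Subtype.val h)) (fun h => h52 (congrArg Subtype.val h))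
    (fun h => h43 (congrArg Subtype.val h)) (fun h => h53 (congrArg Subtype.val h))
    (fun h => h54 (congrArg Subtype.val h))
  obtain ⟨e, h1, h2, h3⟩ := step' (t := 4) (v := 11) hB p₁ DL11 E12 e0 he0 (by norm_num)
    tcerts12 tgo12 tcertOK12
  refine ⟨e, h1, ?_, ?_, ?_, ?_, h3⟩
  · rw [h2 p₂ h21 (by rw [h0]; norm_num), h0]
  · rw [h2 p₃ h31 (by rw [h0']; norm_num), h0']
  · rw [h2 p₄ h41 (by rw [h0'']; norm_num), h0'']
  · rw [h2 p₅ h51 (by rw [h0''']), h0''']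

/-- Every `S(4,5,11)` is labelled onto the standard one with four prescribed points getting
the labels `10, 9, 8, 7`. -/
theorem exists_label11 (hB : Cfsg.IsSteinerSystem 4 5 B) (hα : Fintype.card α = 11)
    (x : Fin 4 ↪ α) :
    ∃ e : α ≃ Fin 11, (∀ i : Fin 4, (e (x i)).val = 10 - i.val) ∧
      (fun b : Finset α => b.image e) '' B = famO 11 DL11 := by
  obtain ⟨e, h1, h2, h3, h4, himg⟩ := tstd11 hB hα (x 0) (x 1) (x 2) (x 3)
    (x.injective.ne (by decide)) (x.injective.ne (by decide)) (x.injective.ne (by decide))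
    (x.injective.ne (by decide)) (x.injective.ne (by decide)) (x.injective.ne (by decide))
  refine ⟨e, ?_, himg⟩
  intro i
  fin_cases i
  · exact h1
  · exact h2
  · exact h3
  · exact h4

/-- Every `S(5,6,12)` is labelled onto the standard one with five prescribed points getting
the labels `11, 10, 9, 8, 7`. -/
theorem exists_label12 (hB : Cfsg.IsSteinerSystem 5 6 B) (hα : Fintype.card α = 12)
    (x : Fin 5 ↪ α) :
    ∃ e : α ≃ Fin 12, (∀ i : Fin 5, (e (x i)).val = 11 - i.val) ∧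
      (fun b : Finset α => b.image e) '' B = famO 12 DL12 := by
  obtain ⟨e, h1, h2, h3, h4, h5, himg⟩ := tstd12 hB hα (x 0) (x 1) (x 2) (x 3) (x 4)
    (x.injective.ne (by decide)) (x.injective.ne (by decide)) (x.injective.ne (by decide))
    (x.injective.ne (by decide)) (x.injective.ne (by decide)) (x.injective.ne (by decide))
    (x.injective.ne (by decide)) (x.injective.ne (by decide)) (x.injective.ne (by decide))
    (x.injective.ne (by decide))
  refine ⟨e, ?_, himg⟩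
  intro i
  fin_cases i
  · exact h1
  · exact h2
  · exact h3
  · exact h4
  · exact h5

end chain

theorem search11 : autSearch 11 DL11 [0, 1, 2, 3, 4, 5, 6]
    ([7, 8, 9, 10].map fun i => (i, i)) = true := by
  decide +kernel

theorem search12 : autSearch 12 DL12 [0, 1, 2, 3, 4, 5, 6]
    ([7, 8, 9, 10, 11].map fun i => (i, i)) = true := by
  decide +kernel

/-- An automorphism of the standard `S(4,5,11)` fixing the labels `7, 8, 9, 10` is trivial. -/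
theorem rigid11 (σ : Equiv.Perm (Fin 11)) (hσ : σ ∈ Cfsg.setSystemAut (famO 11 DL11))
    (hfix : ∀ i : Fin 11, 7 ≤ i.val → σ i = i) : σ = 1 := by
  apply rigid DL11 [7, 8, 9, 10] [0, 1, 2, 3, 4, 5, 6] (by decide +kernel) (by decide +kernel)
    (by decide +kernel) (by decide +kernel) (by decide) search11 σ hσ
  intro i hi
  apply hfix
  simp only [List.mem_cons, List.not_mem_nil, or_false] at hi
  omega

/-- An automorphism of the standard `S(5,6,12)` fixing the labels `7, 8, 9, 10, 11` is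
trivial. -/
theorem rigid12 (σ : Equiv.Perm (Fin 12)) (hσ : σ ∈ Cfsg.setSystemAut (famO 12 DL12))
    (hfix : ∀ i : Fin 12, 7 ≤ i.val → σ i = i) : σ = 1 := by
  apply rigid DL12 [7, 8, 9, 10, 11] [0, 1, 2, 3, 4, 5, 6] (by decide +kernel)
    (by decide +kernel) (by decide +kernel) (by decide +kernel) (by decide) search12 σ hσ
  intro i hi
  apply hfix
  simp only [List.mem_cons, List.not_mem_nil, or_false] at hi
  omega

end Cfsg.Agent.Helper17.SteinerCover
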