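import Mathlib
import Cfsg.Agent.Lib.Helper17.SteinerStd2

set_option autoImplicit false
set_option linter.unusedSectionVars false

/-! From labellings with `k` prescribed points and rigidity of the standard model: the
automorphism group of a set system is sharply `k`-transitive. -/

namespace Cfsg.Agent.Helper17.SteinerCover

open Cfsg.Agent.Helper27.Witt

theorem aut_sharp {α : Type*} [Fintype α] [DecidableEq α] {n k : ℕ} {B : Set (Finset α)}
    (D : Set (Finset (Fin n))) (c : Fin k → Fin n)
    (hlabel : ∀ x : Fin k ↪ α, ∃ e : α ≃ Fin n, (∀ i, e (x i) = c i) ∧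
      (fun b : Finset α => b.image e) '' B = D)
    (hrigid : ∀ σ : Equiv.Perm (Fin n), σ ∈ Cfsg.setSystemAut D → (∀ i, σ (c i) = c i) → σ = 1) :
    MulAction.IsMultiplyPretransitive (Cfsg.setSystemAut B) α k ∧
      ∀ x : Fin k ↪ α, MulAction.stabilizer (Cfsg.setSystemAut B) x = ⊥ := by
  constructor
  · rw [MulAction.isMultiplyPretransitive_iff]
    intro x y
    obtain ⟨ex, hx, hxi⟩ := hlabel x
    obtain ⟨ey, hy, hyi⟩ := hlabel y
    have hg : (ex.trans ey.symm : Equiv.Perm α) ∈ Cfsg.setSystemAut B := by
      rw [mem_setSystemAut_iff]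
      intro b
      have : b.image (ex.trans ey.symm : Equiv.Perm α) = (b.image ex).image ey.symm := by
        rw [Finset.image_image]
        rfl
      rw [this, image_mem_iff ey.symm (image_symm_family ey hyi), image_mem_iff ex hxi]
    refine ⟨⟨ex.trans ey.symm, hg⟩, ?_⟩
    ext i
    show (ex.trans ey.symm) (x i) = y i
    rw [Equiv.trans_apply, hx i, ← hy i, Equiv.symm_apply_apply]
  · intro x
    rw [eq_bot_iff]
    intro g hg
    rw [MulAction.mem_stabilizer_iff] at hg
    rw [Subgroup.mem_bot]
    obtain ⟨e, hx, himg⟩ := hlabel x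
    have hσ := permCongr_mem e himg g.2
    have hgx : ∀ i, (g : Equiv.Perm α) (x i) = x i := by
      intro i
      have := DFunLike.congr_fun hg i
      exact this
    have h1 := hrigid (e.permCongr g.1) hσ (by
      intro i
      rw [← hx i, Equiv.permCongr_apply, Equiv.symm_apply_apply, hgx i])
    apply Subtype.ext
    show (g : Equiv.Perm α) = 1
    ext a
    have := DFunLike.congr_fun h1 (e a)
    rw [Equiv.permCongr_apply, Equiv.symm_apply_apply] at this
    exact e.injective this

end Cfsg.Agent.Helper17.SteinerCover
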