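import Mathlib
import Cfsg.Prelude.Def_Characters
import Cfsg.Prelude.Def_Blocks
import Cfsg.Agent.S0426

/-!
# S0679 piece NO15840 (`no_double_of_sharp`) — helper17 for helper27's skeleton

A group `G ≤ Sym(11)` of order `15840` whose even part is sharply `4`-transitive of order `7920` and
which does not contain the alternating group cannot exist: the fixed point sets of its odd involutions
would form a Steiner system `S(4,5,11)` preserved by `G`, but the automorphism group of such a system
has order `7920` (S0426).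
-/

set_option autoImplicit false
set_option linter.unusedSectionVars false
set_option linter.unusedVariables false

namespace Cfsg.Agent.Helper27.D11

open Cfsg Equiv MulAction

universe u

variable {α : Type u} [Fintype α] [DecidableEq α]

namespace NO15840

/-- the fixed point set of a permutation -/
def fix (τ : Perm α) : Finset α := Finset.univ.filter (fun a => τ a = a)

theorem mem_fix (τ : Perm α) (a : α) : a ∈ fix τ ↔ τ a = a := by
  simp [fix]

theorem fix_eq_compl_support (τ : Perm α) : fix τ = τ.supportᶜ := by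
  ext a
  simp [fix, Perm.mem_support]

theorem card_fix (τ : Perm α) : (fix τ).card = Fintype.card α - τ.support.card := by
  rw [fix_eq_compl_support, Finset.card_compl]

/-- the fixed point set of a conjugate -/
theorem fix_conj (g τ : Perm α) : fix (g * τ * g⁻¹) = (fix τ).image g := by
  ext a
  simp only [mem_fix, Finset.mem_image, Perm.mul_apply]
  constructor
  · intro h
    refine ⟨g⁻¹ a, ?_, by simp⟩
    have := congrArg (g⁻¹ : Perm α) h
    simpa using this
  · rintro ⟨b, hb, rfl⟩
    simp [hb]

/-- an odd involution on `11` points fixing at least `4` points is a swap or fixes exactly `5` points -/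
theorem odd_invol (hα : Fintype.card α = 11) {τ : Perm α} (h2 : orderOf τ = 2)
    (hodd : τ ∉ alternatingGroup α) (h4 : 4 ≤ (fix τ).card) :
    τ.IsSwap ∨ (fix τ).card = 5 := by
  haveI : Fact (Nat.Prime 2) := ⟨Nat.prime_two⟩
  obtain ⟨n, hn⟩ := Perm.cycleType_prime_order (σ := τ) (by rw [h2]; exact Nat.prime_two)
  rw [h2] at hn
  have hsum : τ.support.card = 2 * (n + 1) := by
    rw [← Perm.sum_cycleType, hn, Multiset.sum_replicate, smul_eq_mul, mul_comm]
  have hsign : Perm.sign τ = (-1) ^ (n + 1) := by
    rw [Perm.sign_of_cycleType, hn, Multiset.sum_replicate, Multiset.card_replicate, smul_eq_mul,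
      pow_add, pow_mul]
    norm_num
  have hle : τ.support.card ≤ Fintype.card α := Finset.card_le_univ _
  have hcf := card_fix τ
  rw [hα, hsum] at hcf
  rw [hα, hsum] at hle
  have hn1 : n = 0 ∨ n = 2 := by
    have hodd' : Perm.sign τ ≠ 1 := by
      intro h
      exact hodd (Perm.mem_alternatingGroup.2 h)
    rw [hsign] at hodd'
    have hnle : n ≤ 2 := by omega
    interval_cases n
    · left; rfl
    · exfalso; apply hodd'; norm_num
    · right; rfl
  rcases hn1 with rfl | rfl
  · left
    rw [← Perm.card_support_eq_two, hsum]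
  · right
    omega

/-- `G` is transitive on the injective `4`-tuples -/
theorem trans4 (G : Subgroup (Perm α))
    (h4 : IsMultiplyPretransitive ↥(G ⊓ alternatingGroup α) α 4) :
    IsMultiplyPretransitive G α 4 := by
  refine ⟨fun y z => ?_⟩
  obtain ⟨h, hh⟩ := exists_smul_eq (↥(G ⊓ alternatingGroup α)) y z
  exact ⟨⟨h.1, h.2.1⟩, hh⟩

/-- the stabilizer in `G` of an injective `4`-tuple has order `2` -/
theorem card_stab (hα : Fintype.card α = 11) (G : Subgroup (Perm α))
    (hcard : Nat.card G = 15840)
    (h4 : IsMultiplyPretransitive ↥(G ⊓ alternatingGroup α) α 4) (x : Fin 4 ↪ α) :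
    Nat.card (stabilizer G x) = 2 := by
  have h1 : (stabilizer G x).index = (orbit G x).ncard :=
    MulAction.index_stabilizer (↥G) x
  have horb : orbit G x = Set.univ := by
    ext z
    simp only [Set.mem_univ, iff_true]
    obtain ⟨h, hh⟩ := exists_smul_eq (↥(G ⊓ alternatingGroup α)) x z
    rw [mem_orbit_iff]
    refine ⟨⟨h.1, h.2.1⟩, ?_⟩
    ext i
    have := congrArg (fun e : Fin 4 ↪ α => e i) hh
    exact this
  have h2 : Nat.card (Fin 4 ↪ α) = 7920 := by
    rw [Nat.card_eq_fintype_card, Fintype.card_embedding_eq, hα, Fintype.card_fin]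
    rfl
  have h3 := Subgroup.index_mul_card (stabilizer G x)
  rw [h1, horb, Set.ncard_univ, h2, hcard] at h3
  omega

/-- the nontrivial element of the stabilizer of an injective `4`-tuple -/
theorem exists_tau (hα : Fintype.card α = 11) (G : Subgroup (Perm α))
    (hcard : Nat.card G = 15840)
    (h4 : IsMultiplyPretransitive ↥(G ⊓ alternatingGroup α) α 4)
    (hst : ∀ x : Fin 4 ↪ α, stabilizer ↥(G ⊓ alternatingGroup α) x = ⊥) (x : Fin 4 ↪ α) :
    ∃ τ : Perm α, τ ∈ G ∧ orderOf τ = 2 ∧ τ ∉ alternatingGroup α ∧ (∀ i, τ (x i) = x i) ∧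
      ∀ σ : Perm α, σ ∈ G → (∀ i, σ (x i) = x i) → σ = 1 ∨ σ = τ := by
  have hc := card_stab hα G hcard h4 x
  obtain ⟨τ, hτ1, hτu⟩ := (Nat.card_eq_two_iff' (1 : stabilizer G x)).1 hc
  have hfix : ∀ σ : G, σ ∈ stabilizer G x ↔ ∀ i, (σ : Perm α) (x i) = x i := by
    intro σ
    rw [mem_stabilizer_iff]
    constructor
    · intro h i
      have := congrArg (fun y : Fin 4 ↪ α => y i) h
      exact this
    · intro h
      ext i
      exact h i
  have hτfix := (hfix τ.1).1 τ.2
  have hτne : (τ.1 : Perm α) ≠ 1 := by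
    intro h
    apply hτ1
    apply Subtype.ext
    apply Subtype.ext
    exact h
  have huniq : ∀ σ : Perm α, σ ∈ G → (∀ i, σ (x i) = x i) → σ = 1 ∨ σ = (τ.1 : Perm α) := by
    intro σ hσ hσx
    by_cases h1 : σ = 1
    · exact Or.inl h1
    · right
      have hmem : (⟨σ, hσ⟩ : G) ∈ stabilizer G x := (hfix ⟨σ, hσ⟩).2 hσx
      have hne : (⟨⟨σ, hσ⟩, hmem⟩ : stabilizer G x) ≠ 1 := by
        intro h
        apply h1
        have := congrArg (fun z : stabilizer G x => ((z : G) : Perm α)) h
        exact this
      have := hτu _ hne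
      have := congrArg (fun z : stabilizer G x => ((z : G) : Perm α)) this
      exact this
  refine ⟨(τ.1 : Perm α), τ.1.2, ?_, ?_, hτfix, huniq⟩
  · -- order two
    apply orderOf_eq_prime
    · have hsq : ((τ.1 : Perm α) ^ 2) ∈ G := G.pow_mem τ.1.2 2
      have hsqfix : ∀ i, ((τ.1 : Perm α) ^ 2) (x i) = x i := by
        intro i
        rw [sq, Perm.mul_apply, hτfix i, hτfix i]
      rcases huniq _ hsq hsqfix with h | h
      · exact h
      · exfalso
        apply hτne
        have : (τ.1 : Perm α) * (τ.1 : Perm α) = (τ.1 : Perm α) := by rw [← sq]; exact h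
        exact mul_left_cancel (a := (τ.1 : Perm α)) (by rw [this, mul_one])
    · exact hτne
  · -- odd
    intro hA
    apply hτne
    have hmem : (⟨(τ.1 : Perm α), ⟨τ.1.2, hA⟩⟩ : ↥(G ⊓ alternatingGroup α)) ∈
        stabilizer ↥(G ⊓ alternatingGroup α) x := by
      rw [mem_stabilizer_iff]
      ext i
      exact hτfix i
    rw [hst x, Subgroup.mem_bot] at hmem
    have := congrArg (fun z : ↥(G ⊓ alternatingGroup α) => (z : Perm α)) hmem
    exact this

/-- an embedding of `Fin 4` with a given range of cardinality `4` -/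
theorem exists_emb (s : Finset α) (hs : s.card = 4) :
    ∃ x : Fin 4 ↪ α, ∀ a, a ∈ s ↔ ∃ i, x i = a := by
  let e : s ≃ Fin 4 := Finset.equivFinOfCardEq hs
  refine ⟨e.symm.toEmbedding.trans (Function.Embedding.subtype _), ?_⟩
  intro a
  constructor
  · intro ha
    refine ⟨e ⟨a, ha⟩, ?_⟩
    simp
  · rintro ⟨i, rfl⟩
    simp

end NO15840

open NO15840 in
/-- PIECE NO15840. -/
theorem no_double_of_sharp (hα : Fintype.card α = 11) (G : Subgroup (Perm α))
    (hcard : Nat.card G = 15840) (hc : Nat.card ↥(G ⊓ alternatingGroup α) = 7920)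
    (h4 : IsMultiplyPretransitive ↥(G ⊓ alternatingGroup α) α 4)
    (hst : ∀ x : Fin 4 ↪ α, stabilizer ↥(G ⊓ alternatingGroup α) x = ⊥)
    (hA' : ¬ alternatingGroup α ≤ G) : False := by
  classical
  -- `G` contains no swap
  have hnoswap : ∀ τ : Perm α, τ ∈ G → ¬ τ.IsSwap := by
    intro τ hτ hsw
    apply hA'
    have h4G : IsMultiplyPretransitive G α 4 := trans4 G h4
    have h2G : IsMultiplyPretransitive G α 2 := by
      haveI := h4G
      exact isMultiplyPretransitive_of_le (G := G) (α := α) (m := 2) (n := 4) (by norm_num)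
        (by rw [Nat.card_eq_fintype_card, hα]; norm_num)
    have hprim : IsPreprimitive G α := isPreprimitive_of_is_two_pretransitive h2G
    rw [Perm.subgroup_eq_top_of_isPreprimitive_of_isSwap_mem hprim τ hsw hτ]
    exact le_top
  -- the blocks
  set B : Set (Finset α) := {b | ∃ τ : Perm α, τ ∈ G ∧ orderOf τ = 2 ∧ τ ∉ alternatingGroup α ∧
    b = fix τ ∧ b.card = 5} with hBdef
  have hB : Cfsg.IsSteinerSystem 4 5 B := by
    refine ⟨?_, ?_⟩
    · rintro b ⟨τ, -, -, -, -, h5⟩
      exact h5
    · intro s hs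
      obtain ⟨x, hx⟩ := exists_emb s hs
      obtain ⟨τ, hτG, hτ2, hτodd, hτfix, hτu⟩ := exists_tau hα G hcard h4 hst x
      have hsub : s ⊆ fix τ := by
        intro a ha
        obtain ⟨i, rfl⟩ := (hx a).1 ha
        exact (mem_fix τ _).2 (hτfix i)
      have h5 : (fix τ).card = 5 := by
        rcases odd_invol hα hτ2 hτodd (by rw [← hs]; exact Finset.card_le_card hsub) with h | h
        · exact absurd h (hnoswap τ hτG)
        · exact h
      refine ⟨fix τ, ⟨⟨τ, hτG, hτ2, hτodd, rfl, h5⟩, hsub⟩, ?_⟩
      rintro b' ⟨⟨τ', hτ'G, hτ'2, -, rfl, -⟩, hsub'⟩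
      have hfix' : ∀ i, τ' (x i) = x i := by
        intro i
        exact (mem_fix τ' _).1 (hsub' ((hx _).2 ⟨i, rfl⟩))
      rcases hτu τ' hτ'G hfix' with h | h
      · exfalso
        rw [h, orderOf_one] at hτ'2
        omega
      · rw [h]
  -- `G` preserves the blocks
  have hpres : ∀ g : Perm α, g ∈ G → ∀ b ∈ B, b.image g ∈ B := by
    rintro g hg b ⟨τ, hτG, hτ2, hτodd, rfl, h5⟩
    refine ⟨g * τ * g⁻¹, G.mul_mem (G.mul_mem hg hτG) (G.inv_mem hg), ?_, ?_, ?_, ?_⟩
    · rw [← hτ2]
      have := orderOf_injective (MulAut.conj g).toMonoidHom (MulAut.conj g).injective τ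
      simpa [MulAut.conj_apply] using this
    · intro h
      apply hτodd
      have hn : (alternatingGroup α).Normal := inferInstance
      have := hn.conj_mem _ h g⁻¹
      simpa [mul_assoc] using this
    · rw [fix_conj]
    · rw [Finset.card_image_of_injective _ g.injective, h5]
  have hle : G ≤ Cfsg.setSystemAut B := by
    intro g hg
    rw [Cfsg.Agent.Helper27.Witt.mem_setSystemAut_iff]
    intro b
    constructor
    · intro hb
      have := hpres g⁻¹ (G.inv_mem hg) _ hb
      rw [Finset.image_image] at this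
      simpa using this
    · exact hpres g hg b
  have hM := (Cfsg.Agent.S0426.result hα hB).1.2
  have hdvd := Subgroup.card_dvd_of_le hle
  rw [hcard, hM] at hdvd
  omega

end Cfsg.Agent.Helper27.D11
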