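import Mathlib
import Cfsg.Prelude.Def_Characters
import Cfsg.Prelude.Def_Blocks
import Cfsg.Agent.Lib.Helper17.D11NO15840
import Cfsg.Agent.Lib.Helper24.D11FIX3
import Cfsg.Agent.Lib.Helper25.D11J5
import Cfsg.Agent.Lib.Helper22.D11DT

/-!
# S0679 piece M11CASE (`sharply_four`) — helper17 for helper27's skeleton

A simple doubly transitive group `G ≤ Alt(11)` of order `7920` not containing `Alt(11)` is sharply
`4`-transitive: every nontrivial element fixes at most three points.
-/

set_option autoImplicit false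
set_option linter.unusedSectionVars false
set_option linter.unusedVariables false

namespace Cfsg.Agent.Helper27.D11

open Cfsg Equiv MulAction

universe u

variable {α : Type u} [Fintype α] [DecidableEq α]

namespace M11CASE

open NO15840

/-- a prime divisor of `7920` -/
theorem prime_dvd_7920 {r : ℕ} (hr : r.Prime) (h : r ∣ 7920) : r = 2 ∨ r = 3 ∨ r = 5 ∨ r = 11 := by
  have h7920 : (7920 : ℕ) = 2 ^ 4 * 3 ^ 2 * 5 * 11 := by norm_num
  rw [h7920] at h
  rcases (Nat.Prime.dvd_mul hr).1 h with h | h
  · rcases (Nat.Prime.dvd_mul hr).1 h with h | h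
    · rcases (Nat.Prime.dvd_mul hr).1 h with h | h
      · left
        exact (Nat.prime_dvd_prime_iff_eq hr Nat.prime_two).1 (hr.dvd_of_dvd_pow h)
      · right; left
        exact (Nat.prime_dvd_prime_iff_eq hr Nat.prime_three).1 (hr.dvd_of_dvd_pow h)
    · right; right; left
      exact (Nat.prime_dvd_prime_iff_eq hr Nat.prime_five).1 h
  · right; right; right
    exact (Nat.prime_dvd_prime_iff_eq hr (by norm_num)).1 h

/-- the support of an element of prime order -/
theorem prime_order_data {τ : Perm α} {r : ℕ} (hr : r.Prime) (h : orderOf τ = r) :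
    ∃ n : ℕ, τ.cycleType = Multiset.replicate (n + 1) r ∧ τ.support.card = r * (n + 1) ∧
      Perm.sign τ = (-1) ^ ((r + 1) * (n + 1)) := by
  obtain ⟨n, hn⟩ := Perm.cycleType_prime_order (σ := τ) (by rw [h]; exact hr)
  rw [h] at hn
  refine ⟨n, hn, ?_, ?_⟩
  · rw [← Perm.sum_cycleType, hn, Multiset.sum_replicate, smul_eq_mul, mul_comm]
  · rw [Perm.sign_of_cycleType, hn, Multiset.sum_replicate, Multiset.card_replicate, smul_eq_mul]
    congr 1
    ring

/-- fixed points of a power -/
theorem fix_subset_fix_pow (τ : Perm α) (k : ℕ) : fix τ ⊆ fix (τ ^ k) := by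
  intro a ha
  rw [mem_fix] at ha ⊢
  induction k with
  | zero => simp
  | succ k ih => rw [pow_succ, Perm.mul_apply, ha, ih]

/-- every nontrivial element fixes at most three points -/
theorem card_fix_le (hα : Fintype.card α = 11) (G : Subgroup (Perm α))
    (hs : IsSimpleGroup G) (hc : Nat.card G = 7920) (h2 : IsMultiplyPretransitive G α 2)
    (hA : G ≤ alternatingGroup α) (hA' : ¬ alternatingGroup α ≤ G)
    (hDT : ∀ g : Perm α, g ∈ G → g.cycleType = {2, 2} → alternatingGroup α ≤ G)
    (hJ5 : ∀ g : Perm α, g ∈ G → g.cycleType = {5} → alternatingGroup α ≤ G)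
    {g : Perm α} (hg : g ∈ G) (hg1 : g ≠ 1) : (fix g).card ≤ 3 := by
  have ho1 : orderOf g ≠ 1 := by
    intro h
    exact hg1 (orderOf_eq_one_iff.1 h)
  obtain ⟨r, hr, hrd⟩ := Nat.exists_prime_and_dvd ho1
  have hodvd : orderOf g ∣ 7920 := by
    rw [← hc]
    have : orderOf (⟨g, hg⟩ : G) = orderOf g := by
      rw [← Subgroup.orderOf_coe]
    rw [← this]
    exact orderOf_dvd_natCard _
  have hr4 := prime_dvd_7920 hr (hrd.trans hodvd)
  set h : Perm α := g ^ (orderOf g / r) with hh
  have hhG : h ∈ G := G.pow_mem hg _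
  have hho : orderOf h = r := by
    have hfin : orderOf g ≠ 0 := (orderOf_pos g).ne'
    exact orderOf_pow_orderOf_div hfin hrd
  have hsub : (fix g).card ≤ (fix h).card := Finset.card_le_card (fix_subset_fix_pow g _)
  refine hsub.trans ?_
  obtain ⟨n, hn, hsum, hsign⟩ := prime_order_data hr hho
  have hle : h.support.card ≤ Fintype.card α := Finset.card_le_univ _
  have hcf := card_fix h
  rw [hα] at hcf hle
  rw [hsum] at hcf hle
  have hev : Perm.sign h = 1 := Perm.mem_alternatingGroup.1 (hA hhG)
  rcases hr4 with rfl | rfl | rfl | rfl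
  · -- involutions
    have hnle : n ≤ 4 := by omega
    interval_cases n
    · exfalso
      rw [hev] at hsign
      norm_num at hsign
    · exfalso
      exact hA' (hDT h hhG hn)
    · exfalso
      rw [hev] at hsign
      norm_num at hsign
    · omega
    · exfalso
      rw [hev] at hsign
      norm_num at hsign
  · -- order three
    have h3 := card_fixedBy_order_three hα G hs hc h2 (z := ⟨h, hhG⟩)
      (by rw [← Subgroup.orderOf_coe]; exact hho)
    have : Nat.card (fixedBy α (⟨h, hhG⟩ : G)) = (fix h).card := by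
      apply Nat.subtype_card
      intro a
      rw [mem_fix]
      rfl
    omega
  · -- order five
    have hnle : n ≤ 1 := by omega
    interval_cases n
    · exfalso
      exact hA' (hJ5 h hhG hn)
    · omega
  · -- order eleven
    have hnle : n = 0 := by omega
    subst hnle
    omega

/-- the stabilizer of an injective `4`-tuple is trivial -/
theorem stab_eq_bot (G : Subgroup (Perm α))
    (hfix : ∀ g : Perm α, g ∈ G → g ≠ 1 → (fix g).card ≤ 3) (x : Fin 4 ↪ α) :
    stabilizer G x = ⊥ := by
  rw [eq_bot_iff]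
  intro σ hσ
  rw [Subgroup.mem_bot]
  by_contra hne
  have hσx : ∀ i, (σ : Perm α) (x i) = x i := by
    intro i
    rw [mem_stabilizer_iff] at hσ
    have := congrArg (fun y : Fin 4 ↪ α => y i) hσ
    exact this
  have h1 : (σ : Perm α) ≠ 1 := by
    intro h
    apply hne
    apply Subtype.ext
    exact h
  have h3 := hfix σ σ.2 h1
  have h4 : (Finset.univ.map x).card ≤ (fix (σ : Perm α)).card := by
    apply Finset.card_le_card
    intro a ha
    rw [Finset.mem_map] at ha
    obtain ⟨i, -, rfl⟩ := ha
    rw [mem_fix]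
    exact hσx i
  rw [Finset.card_map, Finset.card_univ, Fintype.card_fin] at h4
  omega

/-- a group of order `7920` with trivial stabilizers of injective `4`-tuples is `4`-transitive -/
theorem four_trans (hα : Fintype.card α = 11) (G : Subgroup (Perm α)) (hc : Nat.card G = 7920)
    (hst : ∀ x : Fin 4 ↪ α, stabilizer G x = ⊥) : IsMultiplyPretransitive G α 4 := by
  have hcard : Nat.card (Fin 4 ↪ α) = 7920 := by
    rw [Nat.card_eq_fintype_card, Fintype.card_embedding_eq, hα, Fintype.card_fin]
    rfl
  have horb : ∀ x : Fin 4 ↪ α, orbit G x = Set.univ := by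
    intro x
    have h1 : (stabilizer G x).index = (orbit G x).ncard :=
      MulAction.index_stabilizer (↥G) x
    have h3 := Subgroup.index_mul_card (stabilizer G x)
    rw [h1, hst x, Subgroup.card_bot, mul_one, hc] at h3
    apply Set.eq_of_subset_of_ncard_le (Set.subset_univ _)
    rw [Set.ncard_univ, hcard, h3]
  refine ⟨fun y z => ?_⟩
  have hz : z ∈ orbit G y := by rw [horb y]; exact Set.mem_univ _
  rw [mem_orbit_iff] at hz
  obtain ⟨g, hg⟩ := hz
  refine ⟨g, ?_⟩
  ext i
  have := congrArg (fun e : Fin 4 ↪ α => e i) hg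
  exact this

end M11CASE

/-- PIECE M11CASE. -/
theorem sharply_four (hα : Fintype.card α = 11) (G : Subgroup (Perm α))
    (hs : IsSimpleGroup G) (hc : Nat.card G = 7920) (h2 : IsMultiplyPretransitive G α 2)
    (hA : G ≤ alternatingGroup α) (hA' : ¬ alternatingGroup α ≤ G) :
    IsMultiplyPretransitive G α 4 ∧ ∀ x : Fin 4 ↪ α, stabilizer G x = ⊥ := by
  have htr : IsPretransitive G α := @isPretransitive_of_is_two_pretransitive _ _ _ _ h2
  have hfix : ∀ g : Perm α, g ∈ G → g ≠ 1 → (NO15840.fix g).card ≤ 3 := by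
    intro g hg hg1
    exact M11CASE.card_fix_le hα G hs hc h2 hA hA'
      (fun g hg hcy => alt_le_of_double_transposition hα G h2 hg hcy)
      (fun g hg hcy => alt_le_of_five_cycle hα G hg hcy) hg hg1
  have hst : ∀ x : Fin 4 ↪ α, stabilizer G x = ⊥ := M11CASE.stab_eq_bot G hfix
  exact ⟨M11CASE.four_trans hα G hc hst, hst⟩

end Cfsg.Agent.Helper27.D11
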