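import Mathlib
import Cfsg.Agent.Lib.Helper17.SpinorClifford

/-!
# A double cover of the alternating group inside a Clifford algebra (helper17)

Over `ZMod 3` with the form `Q v = 2 ∑ vᵢ²`, the vectors `eᵢ - eⱼ` have `Q = 1`; the products of
an even number of them form a double cover of the alternating group.
-/

set_option autoImplicit false

namespace Cfsg.Agent.Helper17.DblAlt

open CliffordAlgebra Cfsg.Agent.Helper17.Spinor

instance instFactPrimeThree : Fact (Nat.Prime 3) := ⟨by norm_num⟩

/-- the base field -/
abbrev K := ZMod 3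

theorem four_eq_one : (4 : K) = 1 := by decide

theorem two_ne_zero' : (2 : K) ≠ 0 := by decide

theorem sq_eq_one_K : ∀ c : K, c * c = 1 → c = 1 ∨ c = -1 := by decide

noncomputable instance instInvertibleTwo : Invertible (2 : K) := invertibleOfNonzero two_ne_zero'

variable (n : ℕ)

/-- the form `2 ∑ vᵢ²` -/
noncomputable def Qf : QuadraticForm K (Fin n → K) :=
  QuadraticMap.weightedSumSquares K (fun _ : Fin n => (2 : K))

theorem Qf_apply (v : Fin n → K) : Qf n v = ∑ i, 2 * (v i * v i) := by
  unfold Qf
  rw [QuadraticMap.weightedSumSquares_apply]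
  simp only [smul_eq_mul]

theorem polar_Qf (x y : Fin n → K) : QuadraticMap.polar (Qf n) x y = ∑ i, x i * y i := by
  unfold QuadraticMap.polar
  rw [Qf_apply, Qf_apply, Qf_apply, ← Finset.sum_sub_distrib, ← Finset.sum_sub_distrib]
  apply Finset.sum_congr rfl
  intro i _
  simp only [Pi.add_apply]
  linear_combination (x i * y i) * four_eq_one

/-- standard basis vectors -/
def e (k : Fin n) : Fin n → K := Pi.single k 1

theorem e_apply (k l : Fin n) : e n k l = if l = k then 1 else 0 := by
  unfold e
  rw [Pi.single_apply]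

theorem Qf_e (k : Fin n) : Qf n (e n k) = 2 := by
  rw [Qf_apply, Finset.sum_eq_single k]
  · rw [e_apply, if_pos rfl]; ring
  · intro l _ hl
    rw [e_apply, if_neg hl]; ring
  · intro h; exact absurd (Finset.mem_univ k) h

theorem polar_e_left (k : Fin n) (y : Fin n → K) : QuadraticMap.polar (Qf n) (e n k) y = y k := by
  rw [polar_Qf, Finset.sum_eq_single k]
  · rw [e_apply, if_pos rfl, one_mul]
  · intro l _ hl
    rw [e_apply, if_neg hl, zero_mul]
  · intro h; exact absurd (Finset.mem_univ k) h

theorem polar_e_e {k l : Fin n} (h : k ≠ l) : QuadraticMap.polar (Qf n) (e n k) (e n l) = 0 := by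
  rw [polar_e_left, e_apply, if_neg h]

/-- difference vectors -/
def d (i j : Fin n) : Fin n → K := e n i - e n j

theorem Qf_d {i j : Fin n} (h : i ≠ j) : Qf n (d n i j) = 1 := by
  have h1 : d n i j = e n i + -e n j := by unfold d; rw [sub_eq_add_neg]
  rw [h1, QuadraticMap.map_add (Qf n), QuadraticMap.map_neg, QuadraticMap.polar_neg_right, polar_e_e n h,
    Qf_e, Qf_e]
  linear_combination four_eq_one

theorem polar_d_e (i j k : Fin n) :
    QuadraticMap.polar (Qf n) (d n i j) (e n k) = e n i k - e n j k := by
  rw [QuadraticMap.polar_comm, polar_e_left]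
  rfl

theorem refl_d_e {i j : Fin n} (h : i ≠ j) (k : Fin n) :
    refl (Qf n) (d n i j) (e n k) = e n (Equiv.swap i j k) := by
  rw [refl_apply, Qf_d n h, inv_one, one_mul, polar_d_e, e_apply, e_apply]
  by_cases hki : k = i
  · subst hki
    rw [if_pos rfl, if_neg h, Equiv.swap_apply_left, sub_zero, one_smul]
    unfold d
    abel
  · by_cases hkj : k = j
    · subst hkj
      rw [if_neg hki, if_pos rfl, Equiv.swap_apply_right, zero_sub, neg_one_smul]
      unfold d
      abel
    · rw [if_neg hki, if_neg hkj, Equiv.swap_apply_of_ne_of_ne hki hkj, sub_zero, zero_smul,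
        sub_zero]

/-- the Clifford algebra -/
abbrev Cl := CliffordAlgebra (Qf n)

/-- the lift of a transposition -/
noncomputable def t (i j : Fin n) : Cl n := ι (Qf n) (d n i j)

theorem t_mul_t {i j : Fin n} (h : i ≠ j) : t n i j * t n i j = 1 := by
  unfold t
  rw [ι_sq_scalar, Qf_d n h, map_one]

theorem t_mul_e {i j : Fin n} (h : i ≠ j) (k : Fin n) :
    t n i j * ι (Qf n) (e n k) = -(ι (Qf n) (e n (Equiv.swap i j k)) * t n i j) := by
  unfold t
  rw [ι_mul_ι_eq_neg_refl (Qf n) (by rw [Qf_d n h]; exact one_ne_zero), refl_d_e n h]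

theorem involute_t (i j : Fin n) : involute (t n i j) = -t n i j := involute_ι _

theorem reverse_t (i j : Fin n) : reverse (t n i j) = t n i j := reverse_ι _

theorem algebraMap_inj : Function.Injective (algebraMap K (Cl n)) :=
  (algebraMap K (Cl n)).injective

theorem neg_one_ne_one : (-1 : Cl n) ≠ 1 := by
  intro h
  have h1 : algebraMap K (Cl n) 2 = 0 := by
    have : (2 : Cl n) = 0 := by
      rw [← one_add_one_eq_two]
      nth_rewrite 1 [← h]
      exact neg_add_cancel 1
    rw [map_ofNat]
    exact this
  rw [← map_zero (algebraMap K (Cl n))] at h1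
  exact two_ne_zero' (algebraMap_inj n h1)

theorem ι_e_injective : Function.Injective (fun k : Fin n => ι (Qf n) (e n k)) := by
  intro k l h
  simp only at h
  by_contra hkl
  have h1 : ι (Qf n) (d n k l) = 0 := by
    unfold d
    rw [map_sub, h, sub_self]
  have h2 := ι_sq_scalar (Qf n) (d n k l)
  rw [h1, Qf_d n hkl, map_one, mul_zero] at h2
  exact zero_ne_one h2

/-- orthogonal difference vectors anticommute -/
theorem t_anticomm {i j k l : Fin n} (hik : i ≠ k) (hil : i ≠ l) (hjk : j ≠ k) (hjl : j ≠ l) :
    t n i j * t n k l = -(t n k l * t n i j) := by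
  unfold t
  have h := ι_mul_ι_add_swap (Q := Qf n) (d n i j) (d n k l)
  have hp : QuadraticMap.polar (Qf n) (d n i j) (d n k l) = 0 := by
    unfold d
    rw [QuadraticMap.polar_sub_left, QuadraticMap.polar_sub_right, QuadraticMap.polar_sub_right,
      polar_e_e n hik, polar_e_e n hil, polar_e_e n hjk, polar_e_e n hjl]
    ring
  rw [hp, map_zero] at h
  exact eq_neg_of_add_eq_zero_left h

end Cfsg.Agent.Helper17.DblAlt
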