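import Mathlib
import Cfsg.Agent.Lib.Helper17.DblAlt1

/-!
# A double cover of the alternating group inside a Clifford algebra: the group (helper17)
-/

set_option autoImplicit false

namespace Cfsg.Agent.Helper17.DblAlt

open CliffordAlgebra Cfsg.Agent.Helper17.Spinor

variable (n : ℕ)

/-- membership predicate: even, of norm one, permuting the basis vectors evenly -/
def IsG (p : (Cl n)ˣ × Equiv.Perm (Fin n)) : Prop :=
  involute (p.1 : Cl n) = p.1 ∧ (p.1 : Cl n) * reverse (p.1 : Cl n) = 1 ∧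
  (∀ k, (p.1 : Cl n) * ι (Qf n) (e n k) = ι (Qf n) (e n (p.2 k)) * (p.1 : Cl n)) ∧
  Equiv.Perm.sign p.2 = 1

theorem inv_eq_reverse {g : (Cl n)ˣ} (h : (g : Cl n) * reverse (g : Cl n) = 1) :
    ((g⁻¹ : (Cl n)ˣ) : Cl n) = reverse (g : Cl n) := by
  calc ((g⁻¹ : (Cl n)ˣ) : Cl n) = ↑g⁻¹ * ((g : Cl n) * reverse (g : Cl n)) := by rw [h, mul_one]
    _ = reverse (g : Cl n) := by rw [← mul_assoc, Units.inv_mul, one_mul]

/-- the double cover, as a subgroup of `Clˣ × Perm` -/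
noncomputable def Gam : Subgroup ((Cl n)ˣ × Equiv.Perm (Fin n)) where
  carrier := {p | IsG n p}
  one_mem' := by
    refine ⟨?_, ?_, ?_, ?_⟩
    · simp
    · simp
    · intro k; simp
    · simp
  mul_mem' := by
    rintro p q ⟨hp1, hp2, hp3, hp4⟩ ⟨hq1, hq2, hq3, hq4⟩
    refine ⟨?_, ?_, ?_, ?_⟩
    · show involute ((p.1 * q.1 : (Cl n)ˣ) : Cl n) = ((p.1 * q.1 : (Cl n)ˣ) : Cl n)
      rw [Units.val_mul, map_mul, hp1, hq1]
    · show ((p.1 * q.1 : (Cl n)ˣ) : Cl n) * reverse ((p.1 * q.1 : (Cl n)ˣ) : Cl n) = 1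
      rw [Units.val_mul, reverse.map_mul]
      calc (p.1 : Cl n) * q.1 * (reverse (q.1 : Cl n) * reverse (p.1 : Cl n))
          = (p.1 : Cl n) * ((q.1 : Cl n) * reverse (q.1 : Cl n)) * reverse (p.1 : Cl n) := by
            simp only [mul_assoc]
        _ = 1 := by rw [hq2, mul_one, hp2]
    · intro k
      show ((p.1 * q.1 : (Cl n)ˣ) : Cl n) * _
        = ι (Qf n) (e n ((p.2 * q.2) k)) * ((p.1 * q.1 : (Cl n)ˣ) : Cl n)
      rw [Units.val_mul, mul_assoc, hq3, ← mul_assoc, hp3, mul_assoc, Equiv.Perm.mul_apply]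
    · show Equiv.Perm.sign (p.2 * q.2) = 1
      rw [map_mul, hp4, hq4, one_mul]
  inv_mem' := by
    rintro p ⟨hp1, hp2, hp3, hp4⟩
    have hinv := inv_eq_reverse n hp2
    refine ⟨?_, ?_, ?_, ?_⟩
    · show involute ((p.1⁻¹ : (Cl n)ˣ) : Cl n) = ((p.1⁻¹ : (Cl n)ˣ) : Cl n)
      rw [hinv, ← reverse_involute, hp1]
    · show ((p.1⁻¹ : (Cl n)ˣ) : Cl n) * reverse ((p.1⁻¹ : (Cl n)ˣ) : Cl n) = 1
      rw [hinv, reverse_reverse, ← hinv, Units.inv_mul]
    · intro k
      show ((p.1⁻¹ : (Cl n)ˣ) : Cl n) * _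
        = ι (Qf n) (e n (p.2⁻¹ k)) * ((p.1⁻¹ : (Cl n)ˣ) : Cl n)
      have h := hp3 (p.2⁻¹ k)
      have hk : p.2 (p.2⁻¹ k) = k := by simp
      rw [hk] at h
      calc ((p.1⁻¹ : (Cl n)ˣ) : Cl n) * ι (Qf n) (e n k)
          = ↑p.1⁻¹ * (ι (Qf n) (e n k) * p.1) * ↑p.1⁻¹ := by
            rw [mul_assoc, mul_assoc, Units.mul_inv, mul_one]
        _ = ↑p.1⁻¹ * (p.1 * ι (Qf n) (e n (p.2⁻¹ k))) * ↑p.1⁻¹ := by rw [h]
        _ = _ := by rw [← mul_assoc, Units.inv_mul, one_mul]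
    · show Equiv.Perm.sign (p.2⁻¹) = 1
      rw [map_inv, hp4, inv_one]

theorem mem_Gam {p : (Cl n)ˣ × Equiv.Perm (Fin n)} : p ∈ Gam n ↔ IsG n p := Iff.rfl

/-- the permutation is determined by the Clifford element -/
theorem snd_eq_of_fst_eq {p q : (Cl n)ˣ × Equiv.Perm (Fin n)} (hp : p ∈ Gam n) (hq : q ∈ Gam n)
    (h : p.1 = q.1) : p.2 = q.2 := by
  ext k
  have h1 := hp.2.2.1 k
  have h2 := hq.2.2.1 k
  rw [h] at h1
  rw [h1] at h2
  have h3 := (Units.mul_left_inj q.1).1 h2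
  exact congrArg Fin.val (ι_e_injective n h3)

theorem mul_t_of_mem {p : (Cl n)ˣ × Equiv.Perm (Fin n)} (hp : p ∈ Gam n) (i j : Fin n) :
    (p.1 : Cl n) * t n i j = t n (p.2 i) (p.2 j) * (p.1 : Cl n) := by
  unfold t d
  rw [map_sub, map_sub, mul_sub, sub_mul, hp.2.2.1 i, hp.2.2.1 j]

/-- the central element -/
noncomputable def zel : (Cl n)ˣ × Equiv.Perm (Fin n) := (-1, 1)

theorem zel_mem : zel n ∈ Gam n := by
  refine ⟨?_, ?_, ?_, ?_⟩
  · simp [zel]
  · simp [zel]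
  · intro k; simp [zel]
  · simp [zel]

/-- the kernel of the projection to the permutation is `±1` -/
theorem fst_of_snd_eq_one {p : (Cl n)ˣ × Equiv.Perm (Fin n)} (hp : p ∈ Gam n) (h : p.2 = 1) :
    p.1 = 1 ∨ p.1 = -1 := by
  obtain ⟨hp1, hp2, hp3, hp4⟩ := hp
  obtain ⟨b, hb⟩ : ∃ b : Module.Basis (Fin n) K (Fin n → K), b = Pi.basisFun K (Fin n) := ⟨_, rfl⟩
  have hbe : ∀ i, b i = e n i := by
    intro i
    rw [hb, Pi.basisFun_apply]
    rfl
  have hpair : (List.ofFn b).Pairwise (fun a c => QuadraticMap.polar (Qf n) a c = 0) := by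
    rw [List.pairwise_ofFn]
    intro i j hij
    rw [hbe, hbe]
    exact polar_e_e n (ne_of_lt hij)
  obtain ⟨c, hc⟩ := scalar_of_even_central (Qf n) two_ne_zero' (List.ofFn b) hpair (by
      intro v hv
      rw [List.mem_ofFn] at hv
      obtain ⟨i, rfl⟩ := hv
      rw [hbe, Qf_e]
      exact two_ne_zero')
    (p.1 : Cl n) (by rw [genAlg_eq_top (Qf n) b]; exact Algebra.mem_top) hp1 (by
      intro v hv
      rw [List.mem_ofFn] at hv
      obtain ⟨i, rfl⟩ := hv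
      rw [hbe]
      have := hp3 i
      rw [h, Equiv.Perm.one_apply] at this
      exact this.symm)
  rw [hc, reverse.commutes, ← map_mul] at hp2
  have h1 : c * c = 1 := algebraMap_inj n (by rw [hp2, map_one])
  rcases sq_eq_one_K c h1 with h2 | h2
  · left
    apply Units.ext
    rw [hc, h2, map_one]
    rfl
  · right
    apply Units.ext
    rw [hc, h2, map_neg, map_one]
    rfl

/-- the lift of a transposition as a unit -/
noncomputable def tU {i j : Fin n} (h : i ≠ j) : (Cl n)ˣ :=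
  ⟨t n i j, t n i j, t_mul_t n h, t_mul_t n h⟩

theorem tU_val {i j : Fin n} (h : i ≠ j) : ((tU n h : (Cl n)ˣ) : Cl n) = t n i j := rfl

theorem tU_inv {i j : Fin n} (h : i ≠ j) : (tU n h)⁻¹ = tU n h := Units.ext rfl

theorem tt_mem {i j k l : Fin n} (hij : i ≠ j) (hkl : k ≠ l) :
    (tU n hij * tU n hkl, Equiv.swap i j * Equiv.swap k l) ∈ Gam n := by
  refine ⟨?_, ?_, ?_, ?_⟩
  · show involute (t n i j * t n k l) = t n i j * t n k l
    rw [map_mul, involute_t, involute_t, neg_mul_neg]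
  · show t n i j * t n k l * reverse (t n i j * t n k l) = 1
    rw [reverse.map_mul, reverse_t, reverse_t]
    calc t n i j * t n k l * (t n k l * t n i j)
        = t n i j * (t n k l * t n k l) * t n i j := by simp only [mul_assoc]
      _ = 1 := by rw [t_mul_t n hkl, mul_one, t_mul_t n hij]
  · intro m
    show t n i j * t n k l * ι (Qf n) (e n m)
      = ι (Qf n) (e n ((Equiv.swap i j * Equiv.swap k l) m)) * (t n i j * t n k l)
    rw [mul_assoc, t_mul_e n hkl, mul_neg, ← mul_assoc, t_mul_e n hij, neg_mul, neg_neg,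
      mul_assoc, Equiv.Perm.mul_apply]
  · show Equiv.Perm.sign (Equiv.swap i j * Equiv.swap k l) = 1
    rw [map_mul, Equiv.Perm.sign_swap hij, Equiv.Perm.sign_swap hkl]
    rfl

/-- every even permutation lifts -/
theorem exists_mem_of_sign {σ : Equiv.Perm (Fin n)} (hσ : Equiv.Perm.sign σ = 1) :
    ∃ g, (g, σ) ∈ Gam n := by
  have hmem : σ ∈ alternatingGroup (Fin n) := Equiv.Perm.mem_alternatingGroup.2 hσ
  rw [← Equiv.Perm.closure_three_cycles_eq_alternating] at hmem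
  have hle : Subgroup.closure {σ : Equiv.Perm (Fin n) | σ.IsThreeCycle}
      ≤ (Gam n).map (MonoidHom.snd _ _) := by
    rw [Subgroup.closure_le]
    intro τ hτ
    have hτ' : τ.IsThreeCycle := hτ
    obtain ⟨a, ha⟩ : ∃ a, a ∈ τ.support := by
      have := hτ'.card_support
      exact Finset.card_pos.1 (by omega)
    have h1 := hτ'.eq_swap_mul_swap_iff_mem_support.2 ha
    have h2 := hτ'.nodup_iff_mem_support.2 ha
    have hab : a ≠ τ a := by
      intro h
      rw [← h] at h2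
      simp at h2
    have hbc : τ a ≠ τ (τ a) := by
      intro h
      rw [← h] at h2
      simp at h2
    exact ⟨(tU n hab * tU n hbc, _), tt_mem n hab hbc, h1.symm⟩
  obtain ⟨p, hp, rfl⟩ := hle hmem
  exact ⟨p.1, hp⟩

end Cfsg.Agent.Helper17.DblAlt
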