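import Mathlib
import Cfsg.Agent.Lib.Helper17.DblAlt2

/-!
# A double cover of the alternating group inside a Clifford algebra: the main statement (helper17)
-/

set_option autoImplicit false

namespace Cfsg.Agent.Helper17.DblAlt

open CliffordAlgebra Cfsg.Agent.Helper17.Spinor
open scoped commutatorElement

variable (n : ℕ)

/-- the projection to the alternating group -/
noncomputable def rho : Gam n →* alternatingGroup (Fin n) :=
  MonoidHom.codRestrict ((MonoidHom.snd (Cl n)ˣ (Equiv.Perm (Fin n))).comp (Gam n).subtype)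
    (alternatingGroup (Fin n)) (fun p => Equiv.Perm.mem_alternatingGroup.2 p.2.2.2.2)

theorem rho_val (p : Gam n) : ((rho n p : alternatingGroup (Fin n)) : Equiv.Perm (Fin n)) = p.1.2 :=
  rfl

theorem rho_surjective : Function.Surjective (rho n) := by
  intro σ
  obtain ⟨g, hg⟩ := exists_mem_of_sign n (Equiv.Perm.mem_alternatingGroup.1 σ.2)
  exact ⟨⟨(g, σ.1), hg⟩, Subtype.ext rfl⟩

/-- the central involution -/
noncomputable def zG : Gam n := ⟨zel n, zel_mem n⟩

theorem zG_mul_self : zG n * zG n = 1 := by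
  apply Subtype.ext
  apply Prod.ext
  · apply Units.ext
    show (-1 : Cl n) * (-1) = 1
    rw [neg_mul_neg, one_mul]
  · show (1 : Equiv.Perm (Fin n)) * 1 = 1
    rw [one_mul]

theorem zG_ne_one : zG n ≠ 1 := by
  intro h
  have h1 := congrArg (fun p : Gam n => ((p.1.1 : (Cl n)ˣ) : Cl n)) h
  exact neg_one_ne_one n h1

theorem zG_comm (p : Gam n) : p * zG n = zG n * p := by
  apply Subtype.ext
  apply Prod.ext
  · apply Units.ext
    show (p.1.1 : Cl n) * (-1) = (-1) * (p.1.1 : Cl n)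
    rw [mul_neg_one, neg_one_mul]
  · show p.1.2 * 1 = 1 * p.1.2
    rw [mul_one, one_mul]

theorem orderOf_zG : orderOf (zG n) = 2 := by
  have : Fact (Nat.Prime 2) := ⟨Nat.prime_two⟩
  apply orderOf_eq_prime
  · rw [pow_two, zG_mul_self]
  · exact zG_ne_one n

theorem ker_rho : (rho n).ker = Subgroup.zpowers (zG n) := by
  ext p
  rw [MonoidHom.mem_ker]
  constructor
  · intro h
    have h1 : p.1.2 = 1 := by
      rw [← rho_val, h]
      rfl
    rcases fst_of_snd_eq_one n p.2 h1 with h2 | h2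
    · have : p = 1 := by
        apply Subtype.ext
        exact Prod.ext h2 h1
      rw [this]
      exact Subgroup.one_mem _
    · have : p = zG n := by
        apply Subtype.ext
        exact Prod.ext h2 h1
      rw [this]
      exact Subgroup.mem_zpowers _
  · intro h
    obtain ⟨k, rfl⟩ := Subgroup.mem_zpowers_iff.1 h
    have hz : rho n (zG n) = 1 := Subtype.ext rfl
    rw [map_zpow, hz, one_zpow]

/-- the central involution is a commutator -/
theorem zG_mem_commutator (hn : 4 ≤ n) : zG n ∈ commutator (Gam n) := by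
  obtain ⟨i0, hi0⟩ : ∃ i : Fin n, i = ⟨0, by omega⟩ := ⟨_, rfl⟩
  obtain ⟨i1, hi1⟩ : ∃ i : Fin n, i = ⟨1, by omega⟩ := ⟨_, rfl⟩
  obtain ⟨i2, hi2⟩ : ∃ i : Fin n, i = ⟨2, by omega⟩ := ⟨_, rfl⟩
  obtain ⟨i3, hi3⟩ : ∃ i : Fin n, i = ⟨3, by omega⟩ := ⟨_, rfl⟩
  have h01 : i0 ≠ i1 := by rw [hi0, hi1]; simp
  have h02 : i0 ≠ i2 := by rw [hi0, hi2]; simp
  have h03 : i0 ≠ i3 := by rw [hi0, hi3]; simp
  have h12 : i1 ≠ i2 := by rw [hi1, hi2]; simp
  have h13 : i1 ≠ i3 := by rw [hi1, hi3]; simp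
  have h23 : i2 ≠ i3 := by rw [hi2, hi3]; simp
  obtain ⟨a, ha⟩ : ∃ a : Gam n, a = ⟨_, tt_mem n h01 h23⟩ := ⟨_, rfl⟩
  obtain ⟨g, hg⟩ : ∃ g : Gam n, g = ⟨_, tt_mem n h02 h13⟩ := ⟨_, rfl⟩
  have hcomm : ⁅g, a⁆ = zG n := by
    have hfst : (⁅g, a⁆ : Gam n).1.1 = (zG n).1.1 := by
      rw [commutatorElement_def]
      show g.1.1 * a.1.1 * (g.1.1)⁻¹ * (a.1.1)⁻¹ = -1
      have hg1 : g.1.1 = tU n h02 * tU n h13 := by rw [hg]
      have ha1 : a.1.1 = tU n h01 * tU n h23 := by rw [ha]
      have hg2 : g.1.2 = Equiv.swap i0 i2 * Equiv.swap i1 i3 := by rw [hg]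
      -- conjugation by `g` swaps the two factors of `a`
      have e1 : (g.1.1 : Cl n) * t n i0 i1 = t n i2 i3 * (g.1.1 : Cl n) := by
        have := mul_t_of_mem n g.2 i0 i1
        rw [hg2] at this
        rw [this]
        congr 2
        · rw [Equiv.Perm.mul_apply, Equiv.swap_apply_of_ne_of_ne h01 h03, Equiv.swap_apply_left]
        · rw [Equiv.Perm.mul_apply, Equiv.swap_apply_left,
            Equiv.swap_apply_of_ne_of_ne h03.symm h23.symm]
      have e2 : (g.1.1 : Cl n) * t n i2 i3 = t n i0 i1 * (g.1.1 : Cl n) := by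
        have := mul_t_of_mem n g.2 i2 i3
        rw [hg2] at this
        rw [this]
        congr 2
        · rw [Equiv.Perm.mul_apply, Equiv.swap_apply_of_ne_of_ne h12.symm h23, Equiv.swap_apply_right]
        · rw [Equiv.Perm.mul_apply, Equiv.swap_apply_right,
            Equiv.swap_apply_of_ne_of_ne h01.symm h12]
      have e3 : g.1.1 * a.1.1 = (tU n h23 * tU n h01) * g.1.1 := by
        apply Units.ext
        rw [ha1]
        show (g.1.1 : Cl n) * (t n i0 i1 * t n i2 i3) = t n i2 i3 * t n i0 i1 * (g.1.1 : Cl n)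
        rw [← mul_assoc, e1, mul_assoc, e2, mul_assoc]
      rw [e3, mul_inv_cancel_right, ha1, mul_inv_rev, tU_inv, tU_inv]
      apply Units.ext
      show t n i2 i3 * t n i0 i1 * (t n i2 i3 * t n i0 i1) = -1
      have hanti := t_anticomm n h02 h03 h12 h13
      calc t n i2 i3 * t n i0 i1 * (t n i2 i3 * t n i0 i1)
          = t n i2 i3 * (t n i0 i1 * t n i2 i3) * t n i0 i1 := by simp only [mul_assoc]
        _ = -(t n i2 i3 * t n i2 i3 * (t n i0 i1 * t n i0 i1)) := by
            rw [hanti]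
            simp only [mul_neg, neg_mul, mul_assoc]
        _ = -1 := by rw [t_mul_t n h23, t_mul_t n h01, one_mul]
    apply Subtype.ext
    apply Prod.ext hfst
    exact snd_eq_of_fst_eq n (⁅g, a⁆ : Gam n).2 (zG n).2 hfst
  rw [← hcomm]
  exact Subgroup.commutator_mem_commutator (Subgroup.mem_top g) (Subgroup.mem_top a)

/-- existence of the double cover -/
theorem exists_double_cover (hn : 4 ≤ n) :
    ∃ (Γ : Type) (_ : Group Γ) (_ : Finite Γ) (z : Γ) (_ : z ∈ Subgroup.center Γ),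
      orderOf z = 2 ∧ z ∈ commutator Γ ∧ ∃ _ : (Subgroup.zpowers z).Normal,
        Nonempty (Γ ⧸ Subgroup.zpowers z ≃* alternatingGroup (Fin n)) := by
  have hnorm : (Subgroup.zpowers (zG n)).Normal := by
    rw [← ker_rho]
    exact MonoidHom.normal_ker _
  have hiso : Nonempty (Gam n ⧸ Subgroup.zpowers (zG n) ≃* alternatingGroup (Fin n)) :=
    ⟨(QuotientGroup.quotientMulEquivOfEq (ker_rho n).symm).trans
      (QuotientGroup.quotientKerEquivOfSurjective (rho n) (rho_surjective n))⟩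
  have hfin : Finite (Gam n) := by
    obtain ⟨f⟩ := hiso
    have h1 : Finite (Gam n ⧸ Subgroup.zpowers (zG n)) := Finite.of_equiv _ f.symm.toEquiv
    have h2 : Finite (Subgroup.zpowers (zG n)) := by
      apply Nat.finite_of_card_ne_zero
      rw [Nat.card_zpowers, orderOf_zG]
      norm_num
    exact Finite.of_equiv _ (Subgroup.groupEquivQuotientProdSubgroup (s := Subgroup.zpowers (zG n))).symm
  refine ⟨Gam n, inferInstance, hfin, zG n, ?_, orderOf_zG n, zG_mem_commutator n hn, hnorm, hiso⟩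
  rw [Subgroup.mem_center_iff]
  exact zG_comm n

end Cfsg.Agent.Helper17.DblAlt
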