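import Mathlib

set_option autoImplicit false

namespace Cfsg.Agent.Helper17.Der1

open MulAction

variable {G : Type*} [Group G] {X : Type*} [MulAction G X]

/-- A subgroup all of whose elements conjugate `K` into itself normalizes `K`. -/
theorem le_normalizer_of_conj_mem (A K : Subgroup G)
    (h : ∀ a ∈ A, ∀ k ∈ K, a * k * a⁻¹ ∈ K) : A ≤ Subgroup.normalizer (K : Set G) := by
  intro a ha
  rw [Subgroup.mem_normalizer_iff]
  intro k
  constructor
  · exact h a ha k
  · intro hk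
    have := h a⁻¹ (A.inv_mem ha) _ hk
    have e : a⁻¹ * (a * k * a⁻¹) * a⁻¹⁻¹ = k := by group
    rwa [e] at this

/-- Elements of the join of two elementwise commuting subgroups are products. -/
theorem exists_mul_of_mem_sup_of_comm (T M : Subgroup G)
    (hcomm : ∀ t ∈ T, ∀ m ∈ M, t * m = m * t) (z : G) (hz : z ∈ T ⊔ M) :
    ∃ t ∈ T, ∃ m ∈ M, z = t * m := by
  rw [Subgroup.sup_eq_closure] at hz
  induction hz using Subgroup.closure_induction with
  | mem x hx =>
    rcases hx with hx | hx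
    · exact ⟨x, hx, 1, M.one_mem, (mul_one x).symm⟩
    · exact ⟨1, T.one_mem, x, hx, (one_mul x).symm⟩
  | one => exact ⟨1, T.one_mem, 1, M.one_mem, (mul_one 1).symm⟩
  | mul x y _ _ hx hy =>
    obtain ⟨t, ht, m, hm, rfl⟩ := hx
    obtain ⟨t', ht', m', hm', rfl⟩ := hy
    refine ⟨t * t', T.mul_mem ht ht', m * m', M.mul_mem hm hm', ?_⟩
    have := hcomm t' ht' m hm
    calc t * m * (t' * m') = t * (m * t') * m' := by group
      _ = t * (t' * m) * m' := by rw [this]
      _ = t * t' * (m * m') := by group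
  | inv x _ hx =>
    obtain ⟨t, ht, m, hm, rfl⟩ := hx
    refine ⟨t⁻¹, T.inv_mem ht, m⁻¹, M.inv_mem hm, ?_⟩
    have := hcomm t⁻¹ (T.inv_mem ht) m⁻¹ (M.inv_mem hm)
    rw [mul_inv_rev, this]

/-- PIECE ACT (core, with the union-of-conjugates lemma as a hypothesis). -/
theorem false_of_monolith_aux [Finite G] [Finite X] [FaithfulSMul G X] (N : Subgroup G)
    [N.Normal] [IsPretransitive N X] (hX : 2 ≤ Nat.card X)
    (hJ : ∀ L : Subgroup G, L ≤ N → L ≠ N → ∃ x ∈ N, ∀ n ∈ N, n⁻¹ * x * n ∉ L)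
    (hconj : ∀ g h : G, (∀ ω : X, g • ω ≠ ω) → (∀ ω : X, h • ω ≠ ω) → IsConj g h)
    (T M : Subgroup G) (hTN : T ≤ N) (hMN : M ≤ N) (hT : T ≠ ⊥) (hM : M ≠ ⊥)
    (hTM : T ⊓ M = ⊥) (hsup : N ≤ T ⊔ M)
    (hcomm : ∀ t ∈ T, ∀ m ∈ M, t * m = m * t)
    (hTnorm : ∀ n ∈ N, ∀ t ∈ T, n * t * n⁻¹ ∈ T) (hMnorm : ∀ n ∈ N, ∀ m ∈ M, n * m * n⁻¹ ∈ M)
    (hTmin : ∀ S : Subgroup G, S ≤ T → (∀ n ∈ N, ∀ s ∈ S, n * s * n⁻¹ ∈ S) → S = ⊥ ∨ S = T)
    (hTconj : ∀ g : G, (∀ t ∈ T, g * t * g⁻¹ ∈ T) ∨ (∀ t ∈ T, g * t * g⁻¹ ∈ M))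
    (hTnab : ∃ a ∈ T, ∃ b ∈ T, a * b ≠ b * a) : False := by
  classical
  obtain ⟨α⟩ : Nonempty X := by
    rw [← Finite.card_pos_iff]; omega
  have htr : ∀ ω : X, ∃ n ∈ N, n • α = ω := by
    intro ω
    obtain ⟨n, hn⟩ := exists_smul_eq N α ω
    exact ⟨n, n.2, hn⟩
  set Na : Subgroup G := N ⊓ stabilizer G α with hNa
  by_cases hcase : Na ⊔ M = N
  · -- second case: the stabilizer and M generate N
    set K : Subgroup G := T ⊓ stabilizer G α with hK
    have hKNa : ∀ n ∈ Na, ∀ k ∈ K, n * k * n⁻¹ ∈ K := by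
      intro n hn k hk
      have hn' := Subgroup.mem_inf.mp hn
      have hk' := Subgroup.mem_inf.mp hk
      refine Subgroup.mem_inf.mpr ⟨hTnorm n hn'.1 k hk'.1, ?_⟩
      exact Subgroup.mul_mem _ (Subgroup.mul_mem _ hn'.2 hk'.2) (Subgroup.inv_mem _ hn'.2)
    have hKM : ∀ m ∈ M, ∀ k ∈ K, m * k * m⁻¹ ∈ K := by
      intro m hm k hk
      have hk' := Subgroup.mem_inf.mp hk
      have := hcomm k hk'.1 m hm
      have e : m * k * m⁻¹ = k := by rw [← this]; group
      rw [e]; exact hk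
    have hle : N ≤ Subgroup.normalizer (K : Set G) := by
      rw [← hcase]
      exact sup_le (le_normalizer_of_conj_mem Na K hKNa) (le_normalizer_of_conj_mem M K hKM)
    have hKN : ∀ n ∈ N, ∀ s ∈ K, n * s * n⁻¹ ∈ K := by
      intro n hn s hs
      exact (Subgroup.mem_normalizer_iff.mp (hle hn) s).mp hs
    rcases hTmin K inf_le_left hKN with hbot | htop
    · -- all nonidentity elements of T are derangements
      have hTder : ∀ t ∈ T, t ≠ 1 → ∀ ω : X, t • ω ≠ ω := by
        intro t ht ht1 ω hω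
        obtain ⟨n, hn, rfl⟩ := htr ω
        have h1 : n⁻¹ * t * n⁻¹⁻¹ ∈ K := by
          refine Subgroup.mem_inf.mpr ⟨hTnorm n⁻¹ (N.inv_mem hn) t ht, ?_⟩
          rw [mem_stabilizer_iff, inv_inv, mul_smul, mul_smul, hω, inv_smul_smul]
        rw [hbot, Subgroup.mem_bot] at h1
        apply ht1
        have e : t = n * (n⁻¹ * t * n⁻¹⁻¹) * n⁻¹ := by group
        rw [e, h1]; group
      have hord : ∀ s ∈ T, s ≠ 1 → ∀ t ∈ T, t ≠ 1 → orderOf s = orderOf t := by
        intro s hs hs1 t ht ht1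
        obtain ⟨c, hc⟩ := isConj_iff.mp (hconj s t (hTder s hs hs1) (hTder t ht ht1))
        rw [← hc]
        exact ((MulAut.conj c).orderOf_eq s).symm
      have hcard : Nat.card T ≠ 1 := by
        intro h
        exact hT (Subgroup.card_eq_one.mp h)
      obtain ⟨p, hp, hpdvd⟩ := Nat.exists_prime_and_dvd hcard
      haveI : Fact p.Prime := ⟨hp⟩
      obtain ⟨z0, hz0⟩ := exists_prime_orderOf_dvd_card' p hpdvd
      have hz01 : (z0 : G) ≠ 1 := by
        intro h
        have : z0 = 1 := Subtype.ext h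
        rw [this, orderOf_one] at hz0
        exact hp.one_lt.ne hz0
      have hz0' : orderOf (z0 : G) = p := by rw [Subgroup.orderOf_coe, hz0]
      have hpg : IsPGroup p T := by
        intro t
        by_cases h : t = 1
        · exact ⟨0, by rw [h]; simp⟩
        · refine ⟨1, ?_⟩
          have hne : (t : G) ≠ 1 := fun h' => h (Subtype.ext h')
          have h1 := hord t t.2 hne z0 z0.2 hz01
          rw [hz0', Subgroup.orderOf_coe] at h1
          rw [pow_one, ← h1]
          exact pow_orderOf_eq_one t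
      haveI : Nontrivial T := (Subgroup.nontrivial_iff_ne_bot T).mpr hT
      haveI := hpg.center_nontrivial
      obtain ⟨z, hz⟩ := exists_ne (1 : Subgroup.center T)
      have hzc : ∀ t ∈ T, t * ((z : T) : G) = ((z : T) : G) * t := by
        intro t ht
        have := (Subgroup.mem_center_iff.mp z.2) ⟨t, ht⟩
        exact congrArg Subtype.val this
      have hz1 : ((z : T) : G) ≠ 1 := by
        intro h
        apply hz
        apply Subtype.ext
        apply Subtype.ext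
        exact h
      set Z : Subgroup G := T ⊓ Subgroup.centralizer (T : Set G) with hZ
      have hzZ : ((z : T) : G) ∈ Z := by
        refine Subgroup.mem_inf.mpr ⟨(z : T).2, ?_⟩
        rw [Subgroup.mem_centralizer_iff]
        exact hzc
      have hZbot : Z ≠ ⊥ := by
        intro h
        rw [h, Subgroup.mem_bot] at hzZ
        exact hz1 hzZ
      have hZN : ∀ n ∈ N, ∀ s ∈ Z, n * s * n⁻¹ ∈ Z := by
        intro n hn s hs
        have hs' := Subgroup.mem_inf.mp hs
        refine Subgroup.mem_inf.mpr ⟨hTnorm n hn s hs'.1, ?_⟩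
        rw [Subgroup.mem_centralizer_iff]
        intro t ht
        have ht' : n⁻¹ * t * n⁻¹⁻¹ ∈ T := hTnorm n⁻¹ (N.inv_mem hn) t ht
        have h1 := (Subgroup.mem_centralizer_iff.mp hs'.2) _ ht'
        have e1 : t * (n * s * n⁻¹) = n * ((n⁻¹ * t * n⁻¹⁻¹) * s) * n⁻¹ := by group
        have e2 : n * s * n⁻¹ * t = n * (s * (n⁻¹ * t * n⁻¹⁻¹)) * n⁻¹ := by group
        rw [e1, e2, h1]
      rcases hTmin Z inf_le_left hZN with h | h
      · exact hZbot h
      · obtain ⟨a, ha, b, hb, hne⟩ := hTnab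
        apply hne
        have hb' : b ∈ Z := by rw [h]; exact hb
        exact (Subgroup.mem_centralizer_iff.mp (Subgroup.mem_inf.mp hb').2) a ha
    · -- T fixes every point
      apply hT
      rw [eq_bot_iff]
      intro t ht
      rw [Subgroup.mem_bot]
      apply FaithfulSMul.eq_of_smul_eq_smul (α := X)
      intro ω
      rw [one_smul]
      obtain ⟨n, hn, rfl⟩ := htr ω
      have h1 : n⁻¹ * t * n⁻¹⁻¹ ∈ K := by
        rw [htop]; exact hTnorm n⁻¹ (N.inv_mem hn) t ht
      have h2 := (Subgroup.mem_inf.mp h1).2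
      rw [mem_stabilizer_iff, inv_inv, mul_smul, mul_smul] at h2
      have := congrArg (fun w => n • w) h2
      simpa using this
  · -- first case
    have hLN : Na ⊔ M ≤ N := sup_le inf_le_left hMN
    obtain ⟨x, hxN, hx⟩ := hJ (Na ⊔ M) hLN hcase
    have hder : ∀ m ∈ M, ∀ ω : X, (x * m) • ω ≠ ω := by
      intro m hm ω hω
      obtain ⟨n, hn, rfl⟩ := htr ω
      have h1 : n⁻¹ * (x * m) * n ∈ Na := by
        refine Subgroup.mem_inf.mpr ⟨?_, ?_⟩
        · exact N.mul_mem (N.mul_mem (N.inv_mem hn) (N.mul_mem hxN (hMN hm))) hn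
        · rw [mem_stabilizer_iff, mul_smul, mul_smul, hω, inv_smul_smul]
      have h2 : n⁻¹ * m * n⁻¹⁻¹ ∈ M := hMnorm n⁻¹ (N.inv_mem hn) m hm
      have h3 : n⁻¹ * x * n = (n⁻¹ * (x * m) * n) * (n⁻¹ * m * n⁻¹⁻¹)⁻¹ := by group
      apply hx n hn
      rw [h3]
      exact Subgroup.mul_mem _ (Subgroup.mem_sup_left h1)
        (Subgroup.inv_mem _ (Subgroup.mem_sup_right h2))
    obtain ⟨t, ht, m0, hm0, hxt⟩ := exists_mul_of_mem_sup_of_comm T M hcomm x (hsup hxN)
    obtain ⟨m, hm, hm1⟩ : ∃ m ∈ M, m ≠ 1 := by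
      by_contra hno
      push_neg at hno
      apply hM
      rw [eq_bot_iff]
      intro m hm
      rw [Subgroup.mem_bot]
      exact hno m hm
    have hdt : ∀ ω : X, t • ω ≠ ω := by
      have h := hder m0⁻¹ (M.inv_mem hm0)
      have e : x * m0⁻¹ = t := by rw [hxt]; group
      rwa [e] at h
    have hdtm : ∀ ω : X, (t * m) • ω ≠ ω := by
      have h := hder (m0⁻¹ * m) (M.mul_mem (M.inv_mem hm0) hm)
      have e : x * (m0⁻¹ * m) = t * m := by rw [hxt]; group
      rwa [e] at h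
    obtain ⟨c, hc⟩ := isConj_iff.mp (hconj t (t * m) hdt hdtm)
    rcases hTconj c with h | h
    · have h1 : t * m ∈ T := hc ▸ h t ht
      have h2 : m ∈ T := by
        have e : m = t⁻¹ * (t * m) := by group
        rw [e]; exact T.mul_mem (T.inv_mem ht) h1
      have h3 : m ∈ T ⊓ M := Subgroup.mem_inf.mpr ⟨h2, hm⟩
      rw [hTM, Subgroup.mem_bot] at h3
      exact hm1 h3
    · have h1 : t * m ∈ M := hc ▸ h t ht
      have h2 : t ∈ M := by
        have e : t = (t * m) * m⁻¹ := by group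
        rw [e]; exact M.mul_mem h1 (M.inv_mem hm)
      have h3 : t ∈ T ⊓ M := Subgroup.mem_inf.mpr ⟨ht, h2⟩
      rw [hTM, Subgroup.mem_bot] at h3
      exact hdt α (by rw [h3, one_smul])

end Cfsg.Agent.Helper17.Der1
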