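import Mathlib
import Cfsg.Agent.Lib.Helper19.DerJOR
import Cfsg.Agent.Lib.Helper17.DerACT

set_option autoImplicit false

namespace Cfsg.Agent.Helper17.Der2

open MulAction Cfsg.Agent.Helper17.Der1

variable {G : Type*} [Group G] {X : Type*} [MulAction G X]

/-- Conjugate elements have the same order. -/
theorem orderOf_eq_of_isConj (a b : G) (h : IsConj a b) : orderOf a = orderOf b := by
  obtain ⟨c, hc⟩ := isConj_iff.mp h
  rw [← hc]
  exact ((MulAut.conj c).orderOf_eq a).symm

/-- An element of prime order `p` in a subgroup whose order is divisible by `p`. -/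
theorem exists_mem_orderOf_eq [Finite G] (S : Subgroup G) (p : ℕ) (hp : p.Prime)
    (hd : p ∣ Nat.card S) : ∃ s ∈ S, orderOf s = p := by
  haveI : Fact p.Prime := ⟨hp⟩
  obtain ⟨z, hz⟩ := exists_prime_orderOf_dvd_card' p hd
  exact ⟨z, z.2, by rw [Subgroup.orderOf_coe, hz]⟩

/-- PIECE ACT3 (core; the two-primes lemma is a hypothesis). -/
theorem false_of_monolith3_aux [Finite G] [Finite X] [FaithfulSMul G X] (N : Subgroup G)
    [N.Normal] [IsPretransitive N X] (hX : 2 ≤ Nat.card X)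
    (hP : ∀ S : Subgroup G, S ≠ ⊥ → S ⊓ Subgroup.centralizer (S : Set G) = ⊥ →
      ∃ p q : ℕ, p.Prime ∧ q.Prime ∧ p ≠ q ∧ p ∣ Nat.card S ∧ q ∣ Nat.card S)
    (h3 : ∀ d₁ d₂ d₃ : G, (∀ ω : X, d₁ • ω ≠ ω) → (∀ ω : X, d₂ • ω ≠ ω) → (∀ ω : X, d₃ • ω ≠ ω) →
      IsConj d₁ d₂ ∨ IsConj d₁ d₃ ∨ IsConj d₂ d₃)
    (T M : Subgroup G) (hMdef : M = N ⊓ Subgroup.centralizer (T : Set G))
    (hTN : T ≤ N) (hMN : M ≤ N) (hT : T ≠ ⊥) (hM : M ≠ ⊥)
    (hTM : T ⊓ M = ⊥) (hsup : N ≤ T ⊔ M)
    (hcomm : ∀ t ∈ T, ∀ m ∈ M, t * m = m * t)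
    (hTnorm : ∀ n ∈ N, ∀ t ∈ T, n * t * n⁻¹ ∈ T) (hMnorm : ∀ n ∈ N, ∀ m ∈ M, n * m * n⁻¹ ∈ M)
    (hTmin : ∀ S : Subgroup G, S ≤ T → (∀ n ∈ N, ∀ s ∈ S, n * s * n⁻¹ ∈ S) → S = ⊥ ∨ S = T)
    (hTconj : ∀ g : G, (∀ t ∈ T, g * t * g⁻¹ ∈ T) ∨ (∀ t ∈ T, g * t * g⁻¹ ∈ M))
    (hTnab : ∃ a ∈ T, ∃ b ∈ T, a * b ≠ b * a)
    (hg0 : ∃ g : G, ∀ t ∈ T, g * t * g⁻¹ ∈ M) : False := by
  classical
  have hNn : N.Normal := inferInstance
  obtain ⟨α⟩ : Nonempty X := by
    rw [← Finite.card_pos_iff]; omega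
  have htr : ∀ ω : X, ∃ n ∈ N, n • α = ω := by
    intro ω
    obtain ⟨n, hn⟩ := exists_smul_eq N α ω
    exact ⟨n, n.2, hn⟩
  -- the centre of T is trivial
  have hZT : T ⊓ Subgroup.centralizer (T : Set G) = ⊥ := by
    have hZN : ∀ n ∈ N, ∀ s ∈ T ⊓ Subgroup.centralizer (T : Set G),
        n * s * n⁻¹ ∈ T ⊓ Subgroup.centralizer (T : Set G) := by
      intro n hn s hs
      have hs' := Subgroup.mem_inf.mp hs
      refine Subgroup.mem_inf.mpr ⟨hTnorm n hn s hs'.1, ?_⟩
      rw [Subgroup.mem_centralizer_iff]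
      intro t ht
      have ht' : n⁻¹ * t * n⁻¹⁻¹ ∈ T := hTnorm n⁻¹ (N.inv_mem hn) t ht
      have h1 := (Subgroup.mem_centralizer_iff.mp hs'.2) _ ht'
      have e1 : t * (n * s * n⁻¹) = n * ((n⁻¹ * t * n⁻¹⁻¹) * s) * n⁻¹ := by group
      have e2 : n * s * n⁻¹ * t = n * (s * (n⁻¹ * t * n⁻¹⁻¹)) * n⁻¹ := by group
      rw [e1, e2, h1]
    rcases hTmin _ inf_le_left hZN with h | h
    · exact h
    · exfalso
      obtain ⟨a, ha, b, hb, hne⟩ := hTnab
      apply hne
      have hb' : b ∈ T ⊓ Subgroup.centralizer (T : Set G) := by rw [h]; exact hb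
      exact (Subgroup.mem_centralizer_iff.mp (Subgroup.mem_inf.mp hb').2) a ha
  obtain ⟨p, q, hp, hq, hpq, hpT, hqT⟩ := hP T hT hZT
  -- unique decomposition
  have hU : ∀ t ∈ T, ∀ m ∈ M, ∀ t' ∈ T, ∀ m' ∈ M, t * m = t' * m' → t = t' ∧ m = m' := by
    intro t ht m hm t' ht' m' hm' h
    have h1 : t'⁻¹ * t = m' * m⁻¹ := by
      have : t'⁻¹ * t = t'⁻¹ * (t * m) * m⁻¹ := by group
      rw [this, h]; group
    have h2 : t'⁻¹ * t ∈ T ⊓ M := by
      refine Subgroup.mem_inf.mpr ⟨T.mul_mem (T.inv_mem ht') ht, ?_⟩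
      rw [h1]; exact M.mul_mem hm' (M.inv_mem hm)
    rw [hTM, Subgroup.mem_bot] at h2
    have h3' : t = t' := by
      have : t = t' * (t'⁻¹ * t) := by group
      rw [this, h2, mul_one]
    refine ⟨h3', ?_⟩
    rw [h3'] at h
    exact mul_left_cancel h
  -- powers of commuting products
  have hpowTM : ∀ t ∈ T, ∀ m ∈ M, ∀ k : ℕ, (t * m) ^ k = 1 → t ^ k = 1 := by
    intro t ht m hm k hk
    have hc : Commute t m := hcomm t ht m hm
    rw [hc.mul_pow] at hk
    have h1 : t ^ k ∈ T ⊓ M := by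
      refine Subgroup.mem_inf.mpr ⟨T.pow_mem ht k, ?_⟩
      have : t ^ k = (m ^ k)⁻¹ := eq_inv_of_mul_eq_one_left hk
      rw [this]; exact M.inv_mem (M.pow_mem hm k)
    rw [hTM, Subgroup.mem_bot] at h1
    exact h1
  set Na : Subgroup G := N ⊓ stabilizer G α with hNa
  by_cases hcase : Na ⊔ M = N
  · -- second case
    set K : Subgroup G := T ⊓ stabilizer G α with hK
    have hKNa : ∀ n ∈ Na, ∀ k ∈ K, n * k * n⁻¹ ∈ K := by
      intro n hn k hk
      have hn' := Subgroup.mem_inf.mp hn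
      have hk' := Subgroup.mem_inf.mp hk
      refine Subgroup.mem_inf.mpr ⟨hTnorm n hn'.1 k hk'.1, ?_⟩
      exact Subgroup.mul_mem _ (Subgroup.mul_mem _ hn'.2 hk'.2) (Subgroup.inv_mem _ hn'.2)
    have hKM : ∀ m ∈ M, ∀ k ∈ K, m * k * m⁻¹ ∈ K := by
      intro m hm k hk
      have hk' := Subgroup.mem_inf.mp hk
      have := hcomm k hk'.1 m hm
      have e : m * k * m⁻¹ = k := by rw [← this]; group
      rw [e]; exact hk
    have hle : N ≤ Subgroup.normalizer (K : Set G) := by
      rw [← hcase]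
      exact sup_le (le_normalizer_of_conj_mem Na K hKNa) (le_normalizer_of_conj_mem M K hKM)
    have hKN : ∀ n ∈ N, ∀ s ∈ K, n * s * n⁻¹ ∈ K := by
      intro n hn s hs
      exact (Subgroup.mem_normalizer_iff.mp (hle hn) s).mp hs
    rcases hTmin K inf_le_left hKN with hbot | htop
    · -- products with coprime orders are derangements
      have hD2 : ∀ t ∈ T, t ≠ 1 → ∀ m ∈ M, (orderOf t).Coprime (orderOf m) →
          ∀ ω : X, (t * m) • ω ≠ ω := by
        intro t ht ht1 m hm hcop ω hω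
        obtain ⟨n, hn, rfl⟩ := htr ω
        have ht' : n⁻¹ * t * n⁻¹⁻¹ ∈ T := hTnorm n⁻¹ (N.inv_mem hn) t ht
        have hm' : n⁻¹ * m * n⁻¹⁻¹ ∈ M := hMnorm n⁻¹ (N.inv_mem hn) m hm
        have hfix : ((n⁻¹ * t * n⁻¹⁻¹) * (n⁻¹ * m * n⁻¹⁻¹)) • α = α := by
          have e : (n⁻¹ * t * n⁻¹⁻¹) * (n⁻¹ * m * n⁻¹⁻¹) = n⁻¹ * (t * m) * n := by group
          rw [e, mul_smul, mul_smul, hω, inv_smul_smul]
        have hc : Commute (n⁻¹ * t * n⁻¹⁻¹) (n⁻¹ * m * n⁻¹⁻¹) := hcomm _ ht' _ hm'
        have hmk : (n⁻¹ * m * n⁻¹⁻¹) ^ (orderOf m) = 1 := by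
          rw [conj_pow, pow_orderOf_eq_one]; group
        have hpow : ((n⁻¹ * t * n⁻¹⁻¹) * (n⁻¹ * m * n⁻¹⁻¹)) ^ (orderOf m) =
            (n⁻¹ * t * n⁻¹⁻¹) ^ (orderOf m) := by
          rw [hc.mul_pow, hmk, mul_one]
        have hstab : (n⁻¹ * t * n⁻¹⁻¹) ^ (orderOf m) ∈ K := by
          refine Subgroup.mem_inf.mpr ⟨T.pow_mem ht' _, ?_⟩
          rw [← hpow]
          exact Subgroup.pow_mem _ (mem_stabilizer_iff.mpr hfix) _
        rw [hbot, Subgroup.mem_bot, conj_pow] at hstab
        have htk : t ^ (orderOf m) = 1 := by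
          have e : t ^ (orderOf m) = n * (n⁻¹ * t ^ (orderOf m) * n⁻¹⁻¹) * n⁻¹ := by group
          rw [e, hstab]; group
        have hdvd : orderOf t ∣ orderOf m := orderOf_dvd_of_pow_eq_one htk
        have h1 : orderOf t = 1 := Nat.Coprime.eq_one_of_dvd hcop hdvd
        exact ht1 (orderOf_eq_one_iff.mp h1)
      obtain ⟨tp, htp, hotp⟩ := exists_mem_orderOf_eq T p hp hpT
      obtain ⟨tq, htq, hotq⟩ := exists_mem_orderOf_eq T q hq hqT
      have hMcard : Nat.card M ≠ 1 := fun h => hM (Subgroup.card_eq_one.mp h)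
      obtain ⟨r, hr, hrM⟩ := Nat.exists_prime_and_dvd hMcard
      obtain ⟨mr, hmr, homr⟩ := exists_mem_orderOf_eq M r hr hrM
      have htp1 : tp ≠ 1 := by
        intro h; rw [h, orderOf_one] at hotp; exact hp.one_lt.ne hotp
      have htq1 : tq ≠ 1 := by
        intro h; rw [h, orderOf_one] at hotq; exact hq.one_lt.ne hotq
      have hd1 : ∀ ω : X, tp • ω ≠ ω := by
        have := hD2 tp htp htp1 1 M.one_mem (by rw [orderOf_one]; exact Nat.coprime_one_right _)
        simpa using this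
      have hd2 : ∀ ω : X, tq • ω ≠ ω := by
        have := hD2 tq htq htq1 1 M.one_mem (by rw [orderOf_one]; exact Nat.coprime_one_right _)
        simpa using this
      by_cases hrp : r = p
      · -- third element tq * mr of order q * r
        have hcop : (orderOf tq).Coprime (orderOf mr) := by
          rw [hotq, homr, hrp]
          exact (Nat.coprime_primes hq hp).mpr (Ne.symm hpq)
        have hd3 := hD2 tq htq htq1 mr hmr hcop
        have ho3 : orderOf (tq * mr) = q * r := by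
          rw [(show Commute tq mr from hcomm tq htq mr hmr).orderOf_mul_eq_mul_orderOf_of_coprime
            hcop, hotq, homr]
        rcases h3 tp tq (tq * mr) hd1 hd2 hd3 with h | h | h
        · have := orderOf_eq_of_isConj _ _ h
          rw [hotp, hotq] at this
          exact hpq this
        · have := orderOf_eq_of_isConj _ _ h
          rw [hotp, ho3, hrp] at this
          have h1 : q = 1 := by
            have hp0 : 0 < p := hp.pos
            nlinarith [Nat.eq_of_mul_eq_mul_right hp0 (show 1 * p = q * p by omega)]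
          exact hq.one_lt.ne' h1
        · have := orderOf_eq_of_isConj _ _ h
          rw [hotq, ho3] at this
          have h1 : r = 1 := by
            have hq0 : 0 < q := hq.pos
            have := Nat.eq_of_mul_eq_mul_left hq0 (show q * 1 = q * r by omega)
            omega
          exact hr.one_lt.ne' h1
      · -- third element tp * mr of order p * r
        have hcop : (orderOf tp).Coprime (orderOf mr) := by
          rw [hotp, homr]
          exact (Nat.coprime_primes hp hr).mpr (Ne.symm hrp)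
        have hd3 := hD2 tp htp htp1 mr hmr hcop
        have ho3 : orderOf (tp * mr) = p * r := by
          rw [(show Commute tp mr from hcomm tp htp mr hmr).orderOf_mul_eq_mul_orderOf_of_coprime
            hcop, hotp, homr]
        rcases h3 tp tq (tp * mr) hd1 hd2 hd3 with h | h | h
        · have := orderOf_eq_of_isConj _ _ h
          rw [hotp, hotq] at this
          exact hpq this
        · have := orderOf_eq_of_isConj _ _ h
          rw [hotp, ho3] at this
          have h1 : r = 1 := by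
            have hp0 : 0 < p := hp.pos
            have := Nat.eq_of_mul_eq_mul_left hp0 (show p * 1 = p * r by omega)
            omega
          exact hr.one_lt.ne' h1
        · have := orderOf_eq_of_isConj _ _ h
          rw [hotq, ho3] at this
          -- q = p * r with q prime
          have hpd : p ∣ q := ⟨r, this⟩
          rcases (Nat.dvd_prime hq).mp hpd with h1 | h1
          · exact hp.one_lt.ne' h1
          · exact hpq h1
    · -- T fixes every point
      apply hT
      rw [eq_bot_iff]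
      intro t ht
      rw [Subgroup.mem_bot]
      apply FaithfulSMul.eq_of_smul_eq_smul (α := X)
      intro ω
      rw [one_smul]
      obtain ⟨n, hn, rfl⟩ := htr ω
      have h1 : n⁻¹ * t * n⁻¹⁻¹ ∈ K := by
        rw [htop]; exact hTnorm n⁻¹ (N.inv_mem hn) t ht
      have h2 := (Subgroup.mem_inf.mp h1).2
      rw [mem_stabilizer_iff, inv_inv, mul_smul, mul_smul] at h2
      have := congrArg (fun w => n • w) h2
      simpa using this
  · -- first case
    have hLN : Na ⊔ M ≤ N := sup_le inf_le_left hMN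
    obtain ⟨x, hxN, hx⟩ := exists_not_conj_mem N (Na ⊔ M) hLN hcase
    have hder : ∀ m ∈ M, ∀ ω : X, (x * m) • ω ≠ ω := by
      intro m hm ω hω
      obtain ⟨n, hn, rfl⟩ := htr ω
      have h1 : n⁻¹ * (x * m) * n ∈ Na := by
        refine Subgroup.mem_inf.mpr ⟨?_, ?_⟩
        · exact N.mul_mem (N.mul_mem (N.inv_mem hn) (N.mul_mem hxN (hMN hm))) hn
        · rw [mem_stabilizer_iff, mul_smul, mul_smul, hω, inv_smul_smul]
      have h2 : n⁻¹ * m * n⁻¹⁻¹ ∈ M := hMnorm n⁻¹ (N.inv_mem hn) m hm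
      have h3' : n⁻¹ * x * n = (n⁻¹ * (x * m) * n) * (n⁻¹ * m * n⁻¹⁻¹)⁻¹ := by group
      apply hx n hn
      rw [h3']
      exact Subgroup.mul_mem _ (Subgroup.mem_sup_left h1)
        (Subgroup.inv_mem _ (Subgroup.mem_sup_right h2))
    obtain ⟨t, ht, m0, hm0, hxt⟩ := exists_mul_of_mem_sup_of_comm T M hcomm x (hsup hxN)
    have hderT : ∀ m ∈ M, ∀ ω : X, (t * m) • ω ≠ ω := by
      intro m hm
      have h := hder (m0⁻¹ * m) (M.mul_mem (M.inv_mem hm0) hm)
      have e : x * (m0⁻¹ * m) = t * m := by rw [hxt]; group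
      rwa [e] at h
    have hdt : ∀ ω : X, t • ω ≠ ω := by
      have := hderT 1 M.one_mem
      simpa using this
    have ht1 : t ≠ 1 := by
      intro h
      exact hdt α (by rw [h, one_smul])
    -- M contains elements of orders p and q
    obtain ⟨g0, hg0'⟩ := hg0
    have hTM_card : Nat.card T ∣ Nat.card M := by
      have hle : T.map (MulAut.conj g0).toMonoidHom ≤ M := by
        intro y hy
        obtain ⟨s, hs, rfl⟩ := Subgroup.mem_map.mp hy
        exact hg0' s hs
      have hc : Nat.card (T.map (MulAut.conj g0).toMonoidHom) = Nat.card T :=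
        Nat.card_congr (T.equivMapOfInjective (MulAut.conj g0).toMonoidHom
          (MulAut.conj g0).injective).toEquiv.symm
      rw [← hc]
      exact Subgroup.card_dvd_of_le hle
    obtain ⟨mp, hmp, homp⟩ := exists_mem_orderOf_eq M p hp (hpT.trans hTM_card)
    obtain ⟨mq, hmq, homq⟩ := exists_mem_orderOf_eq M q hq (hqT.trans hTM_card)
    -- choose m₁ m₂
    have hchoice : ∃ m₁ ∈ M, ∃ m₂ ∈ M, m₁ ≠ 1 ∧ m₂ ≠ 1 ∧ orderOf m₁ ≠ orderOf m₂ ∧
        ¬ orderOf t ∣ orderOf m₁ := by
      have hmp1 : mp ≠ 1 := by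
        intro h; rw [h, orderOf_one] at homp; exact hp.one_lt.ne homp
      have hmq1 : mq ≠ 1 := by
        intro h; rw [h, orderOf_one] at homq; exact hq.one_lt.ne homq
      have hl1 : orderOf t ≠ 1 := fun h => ht1 (orderOf_eq_one_iff.mp h)
      by_cases hl : orderOf t = p
      · refine ⟨mq, hmq, mp, hmp, hmq1, hmp1, ?_, ?_⟩
        · rw [homp, homq]; exact Ne.symm hpq
        · rw [homq, hl]
          intro hd
          rcases (Nat.dvd_prime hq).mp hd with h1 | h1
          · exact hp.one_lt.ne' h1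
          · exact hpq h1
      · refine ⟨mp, hmp, mq, hmq, hmp1, hmq1, ?_, ?_⟩
        · rw [homp, homq]; exact hpq
        · rw [homp]
          intro hd
          rcases (Nat.dvd_prime hp).mp hd with h1 | h1
          · exact hl1 h1
          · exact hl h1
    obtain ⟨m₁, hm₁, m₂, hm₂, hm₁1, hm₂1, hord12, hndvd⟩ := hchoice
    -- t is not conjugate to t * m for m ≠ 1
    have hnc1 : ∀ m ∈ M, m ≠ 1 → ¬ IsConj t (t * m) := by
      intro m hm hm1 hc
      obtain ⟨c, hc⟩ := isConj_iff.mp hc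
      rcases hTconj c with h | h
      · have h1 : t * m ∈ T := hc ▸ h t ht
        have h2 : m ∈ T := by
          have e : m = t⁻¹ * (t * m) := by group
          rw [e]; exact T.mul_mem (T.inv_mem ht) h1
        have h3' : m ∈ T ⊓ M := Subgroup.mem_inf.mpr ⟨h2, hm⟩
        rw [hTM, Subgroup.mem_bot] at h3'
        exact hm1 h3'
      · have h1 : t * m ∈ M := hc ▸ h t ht
        have h2 : t ∈ M := by
          have e : t = (t * m) * m⁻¹ := by group
          rw [e]; exact M.mul_mem h1 (M.inv_mem hm)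
        have h3' : t ∈ T ⊓ M := Subgroup.mem_inf.mpr ⟨ht, h2⟩
        rw [hTM, Subgroup.mem_bot] at h3'
        exact ht1 h3'
    -- t * m₁ is not conjugate to t * m₂
    have hnc2 : ¬ IsConj (t * m₁) (t * m₂) := by
      intro hc
      obtain ⟨c, hc⟩ := isConj_iff.mp hc
      have hsplit : (c * t * c⁻¹) * (c * m₁ * c⁻¹) = t * m₂ := by
        rw [← hc]; group
      rcases hTconj c with h | h
      · -- c normalizes T, hence M
        have hu : c * t * c⁻¹ ∈ T := h t ht
        have hsurj : ∀ s ∈ T, ∃ s' ∈ T, c * s' * c⁻¹ = s := by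
          have hle : T.map (MulAut.conj c).toMonoidHom ≤ T := by
            intro y hy
            obtain ⟨s, hs, rfl⟩ := Subgroup.mem_map.mp hy
            exact h s hs
          have hcard : Nat.card (T.map (MulAut.conj c).toMonoidHom) = Nat.card T :=
            Nat.card_congr (T.equivMapOfInjective (MulAut.conj c).toMonoidHom
              (MulAut.conj c).injective).toEquiv.symm
          have heq := Subgroup.eq_of_le_of_card_ge hle (le_of_eq hcard.symm)
          intro s hs
          rw [← heq] at hs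
          obtain ⟨s', hs', hss⟩ := Subgroup.mem_map.mp hs
          exact ⟨s', hs', hss⟩
        have hv : c * m₁ * c⁻¹ ∈ M := by
          rw [hMdef]
          refine Subgroup.mem_inf.mpr ⟨hNn.conj_mem m₁ (hMN hm₁) c, ?_⟩
          rw [Subgroup.mem_centralizer_iff]
          intro s hs
          obtain ⟨s', hs', rfl⟩ := hsurj s hs
          have h1 := hcomm s' hs' m₁ hm₁
          have e1 : c * s' * c⁻¹ * (c * m₁ * c⁻¹) = c * (s' * m₁) * c⁻¹ := by group
          have e2 : c * m₁ * c⁻¹ * (c * s' * c⁻¹) = c * (m₁ * s') * c⁻¹ := by group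
          rw [e1, e2, h1]
        have := (hU _ hu _ hv t ht m₂ hm₂ hsplit).2
        apply hord12
        rw [← this]
        exact ((MulAut.conj c).orderOf_eq m₁).symm
      · have hu : c * t * c⁻¹ ∈ M := h t ht
        -- c * m₁ * c⁻¹ = t * m'
        have hv : c * m₁ * c⁻¹ = t * ((c * t * c⁻¹)⁻¹ * m₂) := by
          have h1 : c * m₁ * c⁻¹ = (c * t * c⁻¹)⁻¹ * (t * m₂) := by
            rw [← hsplit]; group
          have h2 := hcomm t ht _ (M.inv_mem hu)
          rw [h1, ← mul_assoc, ← h2, mul_assoc]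
        have hk : (c * m₁ * c⁻¹) ^ (orderOf m₁) = 1 := by
          rw [conj_pow, pow_orderOf_eq_one]; group
        rw [hv] at hk
        have := hpowTM t ht _ (M.mul_mem (M.inv_mem hu) hm₂) _ hk
        exact hndvd (orderOf_dvd_of_pow_eq_one this)
    rcases h3 t (t * m₁) (t * m₂) hdt (hderT m₁ hm₁) (hderT m₂ hm₂) with h | h | h
    · exact hnc1 m₁ hm₁ hm₁1 h
    · exact hnc1 m₂ hm₂ hm₂1 h
    · exact hnc2 h

end Cfsg.Agent.Helper17.Der2
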