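import Mathlib

set_option autoImplicit false

namespace Cfsg.Agent.Helper17.Der1

variable {G : Type*} [Group G]

/-- PIECE MONO: structure of a nonabelian nonsimple monolith (pure group theory). -/
theorem monolith_structure [Finite G] (N : Subgroup G) [N.Normal] (hN : N ≠ ⊥)
    (hmin : ∀ K : Subgroup G, K.Normal → K ≠ ⊥ → N ≤ K)
    (hnab : ∃ a ∈ N, ∃ b ∈ N, a * b ≠ b * a)
    (hns : ¬ IsSimpleGroup N) :
    ∃ T M : Subgroup G, T ≤ N ∧ M ≤ N ∧ T ≠ ⊥ ∧ M ≠ ⊥ ∧ T ⊓ M = ⊥ ∧ N ≤ T ⊔ M ∧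
      (∀ t ∈ T, ∀ m ∈ M, t * m = m * t) ∧
      (∀ n ∈ N, ∀ t ∈ T, n * t * n⁻¹ ∈ T) ∧ (∀ n ∈ N, ∀ m ∈ M, n * m * n⁻¹ ∈ M) ∧
      (∀ S : Subgroup G, S ≤ T → (∀ n ∈ N, ∀ s ∈ S, n * s * n⁻¹ ∈ S) → S = ⊥ ∨ S = T) ∧
      (∀ g : G, (∀ t ∈ T, g * t * g⁻¹ ∈ T) ∨ (∀ t ∈ T, g * t * g⁻¹ ∈ M)) ∧
      (∃ a ∈ T, ∃ b ∈ T, a * b ≠ b * a) := by
  classical
  have hNn : N.Normal := inferInstance
  -- a proper nontrivial normal subgroup of N
  have hex : ∃ H : Subgroup N, H.Normal ∧ H ≠ ⊥ ∧ H ≠ ⊤ := by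
    by_contra hno
    push_neg at hno
    apply hns
    haveI : Nontrivial N := (Subgroup.nontrivial_iff_ne_bot N).mpr hN
    exact
      { eq_bot_or_eq_top_of_normal := fun H hH => by
          by_cases h : H = ⊥
          · left; exact h
          · right; exact hno H hH h }
  obtain ⟨H, hHn, hHbot, hHtop⟩ := hex
  -- the family of nontrivial N-invariant subgroups of N
  let F : Subgroup G → Prop := fun S =>
    S ≤ N ∧ S ≠ ⊥ ∧ ∀ n ∈ N, ∀ s ∈ S, n * s * n⁻¹ ∈ S
  have hH'F : F (H.map N.subtype) := by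
    refine ⟨?_, ?_, ?_⟩
    · intro x hx
      obtain ⟨h, -, rfl⟩ := Subgroup.mem_map.mp hx
      exact h.2
    · intro hbot
      apply hHbot
      rw [eq_bot_iff]
      intro h hh
      have : N.subtype h ∈ H.map N.subtype := Subgroup.mem_map_of_mem _ hh
      rw [hbot, Subgroup.mem_bot] at this
      rw [Subgroup.mem_bot]
      exact Subtype.ext this
    · intro n hn s hs
      obtain ⟨h, hh, rfl⟩ := Subgroup.mem_map.mp hs
      have := hHn.conj_mem h hh ⟨n, hn⟩
      exact Subgroup.mem_map.mpr ⟨_, this, rfl⟩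
  have hH'card : Nat.card (H.map N.subtype) < Nat.card N := by
    have e : Nat.card (H.map N.subtype) = Nat.card H :=
      Nat.card_congr (H.equivMapOfInjective N.subtype N.subtype_injective).toEquiv.symm
    rw [e]
    apply lt_of_le_of_ne (Subgroup.card_le_card_group H)
    intro hcard
    exact hHtop ((Subgroup.card_eq_iff_eq_top H).mp hcard)
  obtain ⟨T, hTF, hTle⟩ : ∃ T, F T ∧ ∀ S, F S → Nat.card T ≤ Nat.card S := by
    have hne : {S : Subgroup G | F S}.Nonempty := ⟨_, hH'F⟩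
    obtain ⟨T, hT, hm⟩ :=
      WellFounded.has_min (measure (fun S : Subgroup G => Nat.card S)).wf _ hne
    exact ⟨T, hT, fun S hS => not_lt.mp (hm S hS)⟩
  obtain ⟨hTN, hT, hTnorm⟩ := hTF
  have hTmin : ∀ S : Subgroup G, S ≤ T → (∀ n ∈ N, ∀ s ∈ S, n * s * n⁻¹ ∈ S) →
      S = ⊥ ∨ S = T := by
    intro S hST hS
    by_cases hSbot : S = ⊥
    · left; exact hSbot
    · right
      have := hTle S ⟨hST.trans hTN, hSbot, hS⟩
      exact Subgroup.eq_of_le_of_card_ge hST this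
  have hTneN : T ≠ N := by
    intro h
    have := hTle _ hH'F
    rw [h] at this
    omega
  -- conjugates of T
  have hconj : ∀ g : G, (∀ t ∈ T, g * t * g⁻¹ ∈ T) ∨
      (∀ t ∈ T, ∀ s ∈ T, t * (g * s * g⁻¹) = (g * s * g⁻¹) * t) := by
    intro g
    set Tg : Subgroup G := T.map (MulAut.conj g).toMonoidHom with hTg
    have hmem : ∀ x, x ∈ Tg ↔ ∃ t ∈ T, g * t * g⁻¹ = x := by
      intro x
      rw [hTg, Subgroup.mem_map]
      rfl
    have hTgN : Tg ≤ N := by
      intro x hx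
      obtain ⟨t, ht, rfl⟩ := (hmem x).mp hx
      exact hNn.conj_mem t (hTN ht) g
    have hTgnorm : ∀ n ∈ N, ∀ s ∈ Tg, n * s * n⁻¹ ∈ Tg := by
      intro n hn s hs
      obtain ⟨t, ht, rfl⟩ := (hmem s).mp hs
      have hn' : g⁻¹ * n * g⁻¹⁻¹ ∈ N := hNn.conj_mem n hn g⁻¹
      have := hTnorm _ hn' t ht
      refine (hmem _).mpr ⟨_, this, ?_⟩
      group
    have hcard : Nat.card Tg = Nat.card T :=
      Nat.card_congr (T.equivMapOfInjective (MulAut.conj g).toMonoidHom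
        (MulAut.conj g).injective).toEquiv.symm
    have hS : ∀ n ∈ N, ∀ s ∈ T ⊓ Tg, n * s * n⁻¹ ∈ T ⊓ Tg := by
      intro n hn s hs
      exact ⟨hTnorm n hn s hs.1, hTgnorm n hn s hs.2⟩
    rcases hTmin (T ⊓ Tg) inf_le_left hS with hbot | htop
    · right
      intro t ht s hs
      have hsg : g * s * g⁻¹ ∈ Tg := (hmem _).mpr ⟨s, hs, rfl⟩
      set u := g * s * g⁻¹ with hu
      have hc : t * u * t⁻¹ * u⁻¹ ∈ T ⊓ Tg := by
        constructor
        · have h1 : u * t⁻¹ * u⁻¹ ∈ T := hTnorm u (hTgN hsg) _ (T.inv_mem ht)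
          have : t * u * t⁻¹ * u⁻¹ = t * (u * t⁻¹ * u⁻¹) := by group
          rw [this]
          exact T.mul_mem ht h1
        · have h1 : t * u * t⁻¹ ∈ Tg := hTgnorm t (hTN ht) u hsg
          exact Tg.mul_mem h1 (Tg.inv_mem hsg)
      rw [hbot, Subgroup.mem_bot] at hc
      have : t * u = (t * u * t⁻¹ * u⁻¹) * (u * t) := by group
      rw [this, hc, one_mul]
    · left
      have hle : T ≤ Tg := by
        rw [← htop]; exact inf_le_right
      have heq : T = Tg := Subgroup.eq_of_le_of_card_ge hle (le_of_eq hcard)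
      intro t ht
      rw [heq]
      exact (hmem _).mpr ⟨t, ht, rfl⟩
  -- the centralizer of T in N
  set M : Subgroup G := N ⊓ Subgroup.centralizer (T : Set G) with hM
  have hMN : M ≤ N := inf_le_left
  have hcomm : ∀ t ∈ T, ∀ m ∈ M, t * m = m * t := by
    intro t ht m hm
    exact (Subgroup.mem_centralizer_iff.mp (Subgroup.mem_inf.mp hm).2) t ht
  have hMnorm : ∀ n ∈ N, ∀ m ∈ M, n * m * n⁻¹ ∈ M := by
    intro n hn m hm
    refine Subgroup.mem_inf.mpr ⟨hNn.conj_mem m hm.1 n, ?_⟩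
    rw [Subgroup.mem_centralizer_iff]
    intro t ht
    have ht' : n⁻¹ * t * n⁻¹⁻¹ ∈ T := hTnorm n⁻¹ (N.inv_mem hn) t ht
    have h1 := hcomm _ ht' m hm
    have e1 : t * (n * m * n⁻¹) = n * ((n⁻¹ * t * n⁻¹⁻¹) * m) * n⁻¹ := by group
    have e2 : n * m * n⁻¹ * t = n * (m * (n⁻¹ * t * n⁻¹⁻¹)) * n⁻¹ := by group
    rw [e1, e2, h1]
  have hTconj : ∀ g : G, (∀ t ∈ T, g * t * g⁻¹ ∈ T) ∨ (∀ t ∈ T, g * t * g⁻¹ ∈ M) := by
    intro g
    rcases hconj g with h | h
    · left; exact h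
    · right
      intro s hs
      refine Subgroup.mem_inf.mpr ⟨hNn.conj_mem s (hTN hs) g, ?_⟩
      rw [Subgroup.mem_centralizer_iff]
      intro t ht
      exact h t ht s hs
  have hsup : N ≤ T ⊔ M := by
    have hP : (Subgroup.normalClosure (T : Set G)).Normal := Subgroup.normalClosure_normal
    have hPbot : Subgroup.normalClosure (T : Set G) ≠ ⊥ := by
      intro h
      apply hT
      rw [eq_bot_iff, ← h]
      exact Subgroup.le_normalClosure
    have hNP := hmin _ hP hPbot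
    refine hNP.trans ?_
    unfold Subgroup.normalClosure
    rw [Subgroup.closure_le]
    intro x hx
    rw [Group.mem_conjugatesOfSet_iff] at hx
    obtain ⟨a, ha, hax⟩ := hx
    obtain ⟨c, hc⟩ := isConj_iff.mp hax
    rw [← hc]
    rcases hTconj c with h | h
    · exact Subgroup.mem_sup_left (h a ha)
    · exact Subgroup.mem_sup_right (h a ha)
  have hMbot : M ≠ ⊥ := by
    intro h
    rw [h, sup_bot_eq] at hsup
    exact hTneN (le_antisymm hTN hsup)
  have hTM : T ⊓ M = ⊥ := by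
    have hZ : ∀ n ∈ N, ∀ s ∈ T ⊓ M, n * s * n⁻¹ ∈ T ⊓ M := by
      intro n hn s hs
      exact ⟨hTnorm n hn s hs.1, hMnorm n hn s hs.2⟩
    rcases hTmin (T ⊓ M) inf_le_left hZ with hbot | htop
    · exact hbot
    · exfalso
      have hTM' : T ≤ M := by rw [← htop]; exact inf_le_right
      have hNM : N ≤ M := hsup.trans (sup_le hTM' le_rfl)
      -- T is central in N
      have hTZ : T ≤ N ⊓ Subgroup.centralizer (N : Set G) := by
        intro t ht
        refine Subgroup.mem_inf.mpr ⟨hTN ht, ?_⟩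
        rw [Subgroup.mem_centralizer_iff]
        intro n hn
        exact (hcomm t ht n (hNM hn)).symm
      have hZn : (N ⊓ Subgroup.centralizer (N : Set G)).Normal := inferInstance
      have hZbot : N ⊓ Subgroup.centralizer (N : Set G) ≠ ⊥ := by
        intro h
        apply hT
        rw [eq_bot_iff, ← h]
        exact hTZ
      have hNZ := hmin _ hZn hZbot
      obtain ⟨a, ha, b, hb, hne⟩ := hnab
      apply hne
      have := (Subgroup.mem_inf.mp (hNZ hb)).2
      rw [Subgroup.mem_centralizer_iff] at this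
      exact this a ha
  have hTnab : ∃ a ∈ T, ∃ b ∈ T, a * b ≠ b * a := by
    by_contra hno
    push_neg at hno
    apply hT
    rw [eq_bot_iff, ← hTM]
    intro t ht
    refine Subgroup.mem_inf.mpr ⟨ht, Subgroup.mem_inf.mpr ⟨hTN ht, ?_⟩⟩
    rw [Subgroup.mem_centralizer_iff]
    intro s hs
    exact hno s hs t ht
  exact ⟨T, M, hTN, hMN, hT, hMbot, hTM, hsup, hcomm, hTnorm, hMnorm, hTmin, hTconj, hTnab⟩

end Cfsg.Agent.Helper17.Der1
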