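import Mathlib
import Cfsg.Agent.Lib.Helper19.DerJOR
import Cfsg.Agent.Lib.Helper19.DerCC
import Cfsg.Agent.Lib.Helper19.DerCLS
import Cfsg.Agent.Lib.Helper27.DerCONV
import Cfsg.Agent.Lib.Helper17.DerMONO
import Cfsg.Agent.Lib.Helper17.DerACT

set_option autoImplicit false

namespace Cfsg.Agent.Helper17.Der1

open MulAction

variable {G : Type*} [Group G] {X : Type*} [MulAction G X]

/-- A transitive subgroup has at least as many elements as points. -/
theorem card_le_card_of_pretransitive [Finite G] [Finite X] (N : Subgroup G)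
    [IsPretransitive N X] : Nat.card X ≤ Nat.card N := by
  rcases isEmpty_or_nonempty X with hX | ⟨⟨a⟩⟩
  · rw [Nat.card_of_isEmpty]; exact Nat.zero_le _
  · apply Nat.card_le_card_of_surjective (fun n : N => n • a)
    intro x
    exact exists_smul_eq N a x

/-- PIECE ACT: a transitive monolith of that shape is impossible when all derangements are
conjugate. -/
theorem false_of_monolith [Finite G] [Finite X] [FaithfulSMul G X] (N : Subgroup G) [N.Normal]
    [IsPretransitive N X] (hX : 2 ≤ Nat.card X)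
    (hconj : ∀ g h : G, (∀ ω : X, g • ω ≠ ω) → (∀ ω : X, h • ω ≠ ω) → IsConj g h)
    (T M : Subgroup G) (hTN : T ≤ N) (hMN : M ≤ N) (hT : T ≠ ⊥) (hM : M ≠ ⊥)
    (hTM : T ⊓ M = ⊥) (hsup : N ≤ T ⊔ M)
    (hcomm : ∀ t ∈ T, ∀ m ∈ M, t * m = m * t)
    (hTnorm : ∀ n ∈ N, ∀ t ∈ T, n * t * n⁻¹ ∈ T) (hMnorm : ∀ n ∈ N, ∀ m ∈ M, n * m * n⁻¹ ∈ M)
    (hTmin : ∀ S : Subgroup G, S ≤ T → (∀ n ∈ N, ∀ s ∈ S, n * s * n⁻¹ ∈ S) → S = ⊥ ∨ S = T)
    (hTconj : ∀ g : G, (∀ t ∈ T, g * t * g⁻¹ ∈ T) ∨ (∀ t ∈ T, g * t * g⁻¹ ∈ M))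
    (hTnab : ∃ a ∈ T, ∃ b ∈ T, a * b ≠ b * a) : False :=
  false_of_monolith_aux N hX (fun L hL hne => exists_not_conj_mem N L hL hne) hconj T M hTN hMN
    hT hM hTM hsup hcomm hTnorm hMnorm hTmin hTconj hTnab

/-- ASSEMBLY of the forward direction. -/
theorem sharp_of_single_class' [Finite G] [Finite X] [FaithfulSMul G X]
    (hX : 2 ≤ Nat.card X) (hprim : IsPreprimitive G X)
    (hnas : ¬ ∃ T : Subgroup G, T.Normal ∧ IsSimpleGroup T ∧ ¬ IsMulCommutative T ∧
      Subgroup.centralizer (T : Set G) = ⊥)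
    (h1 : Nat.card {c : ConjClasses G // ∃ g : G, ConjClasses.mk g = c ∧ ∀ ω : X, g • ω ≠ ω} = 1) :
    IsMultiplyPretransitive G X 2 ∧
      ∀ g : G, g ≠ 1 → ∀ a b : X, a ≠ b → g • a = a → g • b ≠ b := by
  classical
  haveI : IsPretransitive G X := hprim.toIsPretransitive
  have hne : Nonempty X := by
    rw [← Finite.card_pos_iff]; omega
  obtain ⟨x0⟩ := hne
  obtain ⟨⟨c0, y, hyc, hy⟩, huniq⟩ := Nat.card_eq_one_iff_exists.mp h1
  have hconj : ∀ g h : G, (∀ ω : X, g • ω ≠ ω) → (∀ ω : X, h • ω ≠ ω) → IsConj g h := by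
    intro g h hg hh
    have e1 := huniq ⟨ConjClasses.mk g, g, rfl, hg⟩
    have e2 := huniq ⟨ConjClasses.mk h, h, rfl, hh⟩
    have e3 : ConjClasses.mk g = ConjClasses.mk h := congrArg Subtype.val (e1.trans e2.symm)
    exact ConjClasses.mk_eq_mk_iff_isConj.mp e3
  set N := Subgroup.normalClosure ({y} : Set G) with hNdef
  have hyN : y ∈ N := Subgroup.subset_normalClosure (Set.mem_singleton y)
  have hy1 : y ≠ 1 := by
    intro h
    exact hy x0 (by rw [h, one_smul])
  have hNbot : N ≠ ⊥ := by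
    intro h
    rw [h, Subgroup.mem_bot] at hyN
    exact hy1 hyN
  have hNnormal : N.Normal := Subgroup.normalClosure_normal
  have htrans : ∀ K : Subgroup G, K.Normal → K ≠ ⊥ → IsPretransitive K X := by
    intro K hK hKbot
    apply IsQuasiPreprimitive.isPretransitive_of_normal (G := G)
    intro hfix
    apply hKbot
    rw [eq_bot_iff]
    intro k hk
    rw [Subgroup.mem_bot]
    apply FaithfulSMul.eq_of_smul_eq_smul (α := X)
    intro x
    rw [one_smul]
    have hx : x ∈ fixedPoints K X := by rw [hfix]; trivial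
    exact hx ⟨k, hk⟩
  have hmin : ∀ K : Subgroup G, K.Normal → K ≠ ⊥ → N ≤ K := by
    intro K hK hKbot
    haveI := htrans K hK hKbot
    obtain ⟨d, hdK, hd⟩ := exists_derangement_mem K hX
    obtain ⟨c, hc⟩ := isConj_iff.mp (hconj d y hd hy)
    have hyK : y ∈ K := by rw [← hc]; exact hK.conj_mem d hdK c
    apply Subgroup.normalClosure_le_normal
    intro z hz
    rw [Set.mem_singleton_iff] at hz
    rw [hz]; exact hyK
  haveI hNtrans : IsPretransitive N X := htrans N hNnormal hNbot
  by_cases hab : ∀ a ∈ N, ∀ b ∈ N, a * b = b * a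
  · apply sharp_of_card_der_le hX
    apply card_der_le_of_single_class y (fun g hg => hconj y g hy hg)
    have h1 : N ≤ Subgroup.centralizer ({y} : Set G) := by
      intro a ha
      rw [Subgroup.mem_centralizer_iff]
      intro h hh
      rw [Set.mem_singleton_iff] at hh
      subst hh
      exact hab h hyN a ha
    exact (card_le_card_of_pretransitive N).trans (Subgroup.card_le_of_le h1)
  · exfalso
    push_neg at hab
    by_cases hs : IsSimpleGroup N
    · apply hnas
      refine ⟨N, hNnormal, hs, ?_, ?_⟩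
      · intro hc
        obtain ⟨a, ha, b, hb, hne⟩ := hab
        apply hne
        have := (isMulCommutative_iff.mp hc) ⟨a, ha⟩ ⟨b, hb⟩
        exact congrArg Subtype.val this
      · by_contra hC
        have hCn : (Subgroup.centralizer (N : Set G)).Normal := Subgroup.normal_centralizer
        have hle := hmin _ hCn hC
        obtain ⟨a, ha, b, hb, hne⟩ := hab
        apply hne
        have := hle hb
        rw [Subgroup.mem_centralizer_iff] at this
        exact this a ha
    · obtain ⟨T, M, hTN, hMN, hT, hM, hTM, hsup, hcomm, hTnorm, hMnorm, hTmin, hTconj, hTnab⟩ :=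
        monolith_structure N hNbot hmin hab hs
      exact false_of_monolith N hX hconj T M hTN hMN hT hM hTM hsup hcomm hTnorm hMnorm hTmin
        hTconj hTnab

end Cfsg.Agent.Helper17.Der1
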