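import Mathlib
import Cfsg.Agent.Lib.Helper17.DerMain
import Cfsg.Agent.Lib.Helper19.Der2MIN
import Cfsg.Agent.Lib.Helper19.Der2PRIMES
import Cfsg.Agent.Lib.Helper19.Der2REG
import Cfsg.Agent.Lib.Helper19.Der2THREE
import Cfsg.Agent.Lib.Helper7.Der2A1
import Cfsg.Agent.Lib.Helper7.Der2A2
import Cfsg.Agent.Lib.Helper7.Der2COMM
import Cfsg.Agent.Lib.Helper17.Der2MONO
import Cfsg.Agent.Lib.Helper17.Der2ACT

set_option autoImplicit false

namespace Cfsg.Agent.Helper17.Der2

open MulAction Cfsg.Agent.Helper17.Der1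

variable {G : Type*} [Group G] {X : Type*} [MulAction G X]

/-- PIECE ACT3: a transitive nonabelian nonsimple monolith has three pairwise non-conjugate
derangements. -/
theorem false_of_monolith3 [Finite G] [Finite X] [FaithfulSMul G X] (N : Subgroup G) [N.Normal]
    [IsPretransitive N X] (hX : 2 ≤ Nat.card X)
    (h3 : ∀ d₁ d₂ d₃ : G, (∀ ω : X, d₁ • ω ≠ ω) → (∀ ω : X, d₂ • ω ≠ ω) → (∀ ω : X, d₃ • ω ≠ ω) →
      IsConj d₁ d₂ ∨ IsConj d₁ d₃ ∨ IsConj d₂ d₃)
    (T M : Subgroup G) (hMdef : M = N ⊓ Subgroup.centralizer (T : Set G))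
    (hTN : T ≤ N) (hMN : M ≤ N) (hT : T ≠ ⊥) (hM : M ≠ ⊥)
    (hTM : T ⊓ M = ⊥) (hsup : N ≤ T ⊔ M)
    (hcomm : ∀ t ∈ T, ∀ m ∈ M, t * m = m * t)
    (hTnorm : ∀ n ∈ N, ∀ t ∈ T, n * t * n⁻¹ ∈ T) (hMnorm : ∀ n ∈ N, ∀ m ∈ M, n * m * n⁻¹ ∈ M)
    (hTmin : ∀ S : Subgroup G, S ≤ T → (∀ n ∈ N, ∀ s ∈ S, n * s * n⁻¹ ∈ S) → S = ⊥ ∨ S = T)
    (hTconj : ∀ g : G, (∀ t ∈ T, g * t * g⁻¹ ∈ T) ∨ (∀ t ∈ T, g * t * g⁻¹ ∈ M))
    (hTnab : ∃ a ∈ T, ∃ b ∈ T, a * b ≠ b * a)
    (hg0 : ∃ g : G, ∀ t ∈ T, g * t * g⁻¹ ∈ M) : False :=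
  false_of_monolith3_aux N hX (fun S hS hZ => exists_two_primes S hS hZ) h3 T M hMdef hTN hMN hT
    hM hTM hsup hcomm hTnorm hMnorm hTmin hTconj hTnab hg0

/-- ASSEMBLY: primitive, not almost simple, exactly two classes of derangements. -/
theorem two_classes [Finite G] [Finite X] [FaithfulSMul G X]
    (hX : 2 ≤ Nat.card X) (hprim : IsPreprimitive G X)
    (hnas : ¬ ∃ T : Subgroup G, T.Normal ∧ IsSimpleGroup T ∧ ¬ IsMulCommutative T ∧
      Subgroup.centralizer (T : Set G) = ⊥)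
    (h2 : Nat.card {c : ConjClasses G // ∃ g : G, ConjClasses.mk g = c ∧ ∀ ω : X, g • ω ≠ ω} = 2)
    (α : X) :
    ((∃ N : Subgroup G, N.Normal ∧ N ≠ ⊥ ∧ IsMulCommutative N ∧ ∀ ω : X, stabilizer N ω = ⊥) ∧
      (∀ g : G, g ≠ 1 → Nat.card (fixedBy X g) ≤ 1) ∧ ¬ 2 ∣ Nat.card X ∧
        2 * Nat.card (stabilizer G α) = Nat.card X - 1) ∨
    ((∃ N : Subgroup G, N.Normal ∧ N ≠ ⊥ ∧ IsMulCommutative N ∧ ∀ ω : X, stabilizer N ω = ⊥) ∧
      IsMultiplyPretransitive G X 2 ∧ ∃ g : G, g ≠ 1 ∧ 2 ≤ Nat.card (fixedBy X g)) := by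
  classical
  haveI : IsPretransitive G X := hprim.toIsPretransitive
  have hne : Nonempty X := ⟨α⟩
  have h3 := exists_conj_of_three (G := G) (X := X) h2
  have htrans : ∀ K : Subgroup G, K.Normal → K ≠ ⊥ → IsPretransitive K X := by
    intro K hK hKbot
    apply IsQuasiPreprimitive.isPretransitive_of_normal (G := G)
    intro hfix
    apply hKbot
    rw [eq_bot_iff]
    intro k hk
    rw [Subgroup.mem_bot]
    apply FaithfulSMul.eq_of_smul_eq_smul (α := X)
    intro x
    rw [one_smul]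
    have hx : x ∈ fixedPoints K X := by rw [hfix]; trivial
    exact hx ⟨k, hk⟩
  by_cases hA : ∃ A : Subgroup G, A.Normal ∧ A ≠ ⊥ ∧ ∀ a ∈ A, ∀ b ∈ A, a * b = b * a
  · obtain ⟨A, hAn, hAbot, hab⟩ := hA
    haveI := hAn
    haveI hAtr : IsPretransitive A X := htrans A hAn hAbot
    have hsemi : ∀ ω : X, stabilizer A ω = ⊥ :=
      fun ω => stabilizer_eq_bot_of_commute (X := X) A A hab ω
    have hsemi' : ∀ a ∈ A, ∀ ω : X, a • ω = ω → a = 1 :=
      fun a ha ω h => eq_one_of_smul_eq_of_commute A A hab a ha ω h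
    have hAex : ∃ N : Subgroup G, N.Normal ∧ N ≠ ⊥ ∧ IsMulCommutative N ∧
        ∀ ω : X, stabilizer N ω = ⊥ := by
      refine ⟨A, hAn, hAbot, ?_, hsemi⟩
      rw [isMulCommutative_iff]
      intro a b
      exact Subtype.ext (hab a a.2 b b.2)
    by_cases hc : ∀ a ∈ A, ∀ b ∈ A, a ≠ 1 → b ≠ 1 → IsConj a b
    · right
      have h2t : IsMultiplyPretransitive G X 2 := two_transitive_of_abelian A hab hc
      refine ⟨hAex, h2t, ?_⟩
      by_contra hno
      push_neg at hno
      have hsharp : ∀ g : G, g ≠ 1 → ∀ a b : X, a ≠ b → g • a = a → g • b ≠ b := by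
        intro g hg a b hab' ha hb
        have hlt := hno g hg
        have h2le : 2 ≤ Nat.card (fixedBy X g) := by
          rw [Nat.card_coe_set_eq, ← Set.ncard_pair hab']
          apply Set.ncard_le_ncard _ (Set.toFinite _)
          intro x hx
          rcases hx with rfl | rfl
          · exact ha
          · exact hb
        omega
      have := single_class_of_sharp hX h2t hsharp
      omega
    · left
      push_neg at hc
      obtain ⟨a₁, ha₁, a₂, ha₂, h₁, h₂, hnc⟩ := hc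
      have hd₁ : ∀ ω : X, a₁ • ω ≠ ω := fun ω h => h₁ (hsemi' a₁ ha₁ ω h)
      have hd₂ : ∀ ω : X, a₂ • ω ≠ ω := fun ω h => h₂ (hsemi' a₂ ha₂ ω h)
      have hall' : ∀ d : G, (∀ ω : X, d • ω ≠ ω) → IsConj a₁ d ∨ IsConj a₂ d := by
        intro d hd
        rcases h3 a₁ a₂ d hd₁ hd₂ hd with h | h | h
        · exact absurd h hnc
        · left; exact h
        · right; exact h
      have hder : ∀ g : G, (∀ ω : X, g • ω ≠ ω) → g ∈ A := by
        intro g hg
        rcases hall' g hg with h | h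
        · obtain ⟨c, hc⟩ := isConj_iff.mp h
          rw [← hc]; exact hAn.conj_mem a₁ ha₁ c
        · obtain ⟨c, hc⟩ := isConj_iff.mp h
          rw [← hc]; exact hAn.conj_mem a₂ ha₂ c
      have hall : ∀ b ∈ A, b ≠ 1 → IsConj a₁ b ∨ IsConj a₂ b := by
        intro b hb hb1
        exact hall' b (fun ω h => hb1 (hsemi' b hb ω h))
      exact ⟨hAex, frobenius_of_der_le A hab hder a₁ a₂ ha₁ ha₂ h₁ h₂ hnc hall α⟩
  · exfalso
    push_neg at hA
    haveI : Nontrivial G := by
      by_contra hnt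
      rw [not_nontrivial_iff_subsingleton] at hnt
      obtain ⟨d, hd⟩ := exists_derangement (G := G) (X := X) hX
      exact hd α (by rw [Subsingleton.elim d 1, one_smul])
    obtain ⟨N, hNn, hNbot, hNmin⟩ := exists_min_normal (G := G)
    haveI := hNn
    haveI hNtr : IsPretransitive N X := htrans N hNn hNbot
    have hnab : ∃ a ∈ N, ∃ b ∈ N, a * b ≠ b * a := hA N hNn hNbot
    -- the centre of N is trivial
    have hZ : N ⊓ Subgroup.centralizer (N : Set G) = ⊥ := by
      by_contra hZ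
      have hZn : (N ⊓ Subgroup.centralizer (N : Set G)).Normal := inferInstance
      obtain ⟨a, ha, b, hb, hne'⟩ := hA _ hZn hZ
      apply hne'
      have := (Subgroup.mem_inf.mp hb).2
      rw [Subgroup.mem_centralizer_iff] at this
      exact this a (Subgroup.mem_inf.mp ha).1
    have hmin : ∀ K : Subgroup G, K.Normal → K ≠ ⊥ → N ≤ K := by
      intro K hK hKbot
      haveI := hK
      by_contra hle
      have hKN : K ⊓ N = ⊥ := by
        by_contra hne'
        have hn : (K ⊓ N).Normal := inferInstance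
        have := hNmin (K ⊓ N) hn hne' inf_le_right
        apply hle
        rw [← this]; exact inf_le_left
      haveI hKtr : IsPretransitive K X := htrans K hK hKbot
      have hcomm : ∀ a ∈ N, ∀ b ∈ K, a * b = b * a := by
        intro a ha b hb
        have hmem : a * b * a⁻¹ * b⁻¹ ∈ K ⊓ N := by
          refine Subgroup.mem_inf.mpr ⟨?_, ?_⟩
          · exact K.mul_mem (hK.conj_mem b hb a) (K.inv_mem hb)
          · have : a * b * a⁻¹ * b⁻¹ = a * (b * a⁻¹ * b⁻¹) := by group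
            rw [this]
            exact N.mul_mem ha (hNn.conj_mem a⁻¹ (N.inv_mem ha) b)
        rw [hKN, Subgroup.mem_bot] at hmem
        have : a * b = (a * b * a⁻¹ * b⁻¹) * (b * a) := by group
        rw [this, hmem, one_mul]
      obtain ⟨p, q, hp, hq, hpq, hpN, hqN⟩ := exists_two_primes N hNbot hZ
      obtain ⟨d₁, d₂, d₃, hd₁, hd₂, hd₃, h12, h13, h23⟩ :=
        three_orders_of_commuting N K hX hcomm p q hp hq hpq hpN hqN
      have hord : ∀ a b : G, IsConj a b → orderOf a = orderOf b := by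
        intro a b h
        obtain ⟨c, hc⟩ := isConj_iff.mp h
        rw [← hc]
        exact ((MulAut.conj c).orderOf_eq a).symm
      rcases h3 d₁ d₂ d₃ hd₁ hd₂ hd₃ with h | h | h
      · exact h12 (hord _ _ h)
      · exact h13 (hord _ _ h)
      · exact h23 (hord _ _ h)
    by_cases hs : IsSimpleGroup N
    · apply hnas
      refine ⟨N, hNn, hs, ?_, ?_⟩
      · intro hc
        obtain ⟨a, ha, b, hb, hne'⟩ := hnab
        apply hne'
        have := (isMulCommutative_iff.mp hc) ⟨a, ha⟩ ⟨b, hb⟩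
        exact congrArg Subtype.val this
      · by_contra hC
        have hCn : (Subgroup.centralizer (N : Set G)).Normal := Subgroup.normal_centralizer
        have hle := hmin _ hCn hC
        obtain ⟨a, ha, b, hb, hne'⟩ := hnab
        apply hne'
        have := hle hb
        rw [Subgroup.mem_centralizer_iff] at this
        exact this a ha
    · obtain ⟨T, M, hMdef, hTN, hMN, hT, hM, hTM, hsup, hcomm, hTnorm, hMnorm, hTmin, hTconj,
        hTnab, hg0⟩ := monolith_structure2 N hNbot hmin hnab hs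
      exact false_of_monolith3 N hX h3 T M hMdef hTN hMN hT hM hTM hsup hcomm hTnorm hMnorm hTmin
        hTconj hTnab hg0

end Cfsg.Agent.Helper17.Der2
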