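import Mathlib
import Cfsg.Agent.Lib.Helper19.DerJOR
import Cfsg.Agent.Lib.Helper17.DerACT

set_option autoImplicit false

namespace Cfsg.Agent.Helper17.Der3

open MulAction Cfsg.Agent.Helper17.Der1

variable {G : Type*} [Group G] {X : Type*} [MulAction G X]

/-- The dichotomy for a transitive monolith `N = T ⊔ M` (`T` minimal `N`-invariant, `M`
commuting with `T`): either some `1 ≠ t ∈ T` has the whole coset `t M` consisting of
derangements, or every product `t m` (`1 ≠ t ∈ T`, `m ∈ M`) with coprime orders is a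
derangement. -/
theorem monolith_dichotomy [Finite G] [Finite X] [FaithfulSMul G X] (N : Subgroup G)
    [N.Normal] [IsPretransitive N X] (hX : 2 ≤ Nat.card X)
    (T M : Subgroup G) (hMN : M ≤ N) (hT : T ≠ ⊥) (hsup : N ≤ T ⊔ M)
    (hcomm : ∀ t ∈ T, ∀ m ∈ M, t * m = m * t)
    (hTnorm : ∀ n ∈ N, ∀ t ∈ T, n * t * n⁻¹ ∈ T) (hMnorm : ∀ n ∈ N, ∀ m ∈ M, n * m * n⁻¹ ∈ M)
    (hTmin : ∀ S : Subgroup G, S ≤ T → (∀ n ∈ N, ∀ s ∈ S, n * s * n⁻¹ ∈ S) → S = ⊥ ∨ S = T) :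
    (∃ t ∈ T, t ≠ 1 ∧ ∀ m ∈ M, ∀ ω : X, (t * m) • ω ≠ ω) ∨
    (∀ t ∈ T, t ≠ 1 → ∀ m ∈ M, (orderOf t).Coprime (orderOf m) → ∀ ω : X, (t * m) • ω ≠ ω) := by
  classical
  obtain ⟨α⟩ : Nonempty X := by
    rw [← Finite.card_pos_iff]; omega
  have htr : ∀ ω : X, ∃ n ∈ N, n • α = ω := by
    intro ω
    obtain ⟨n, hn⟩ := exists_smul_eq N α ω
    exact ⟨n, n.2, hn⟩
  set Na : Subgroup G := N ⊓ stabilizer G α with hNa
  by_cases hcase : Na ⊔ M = N
  · right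
    set K : Subgroup G := T ⊓ stabilizer G α with hK
    have hKNa : ∀ n ∈ Na, ∀ k ∈ K, n * k * n⁻¹ ∈ K := by
      intro n hn k hk
      have hn' := Subgroup.mem_inf.mp hn
      have hk' := Subgroup.mem_inf.mp hk
      refine Subgroup.mem_inf.mpr ⟨hTnorm n hn'.1 k hk'.1, ?_⟩
      exact Subgroup.mul_mem _ (Subgroup.mul_mem _ hn'.2 hk'.2) (Subgroup.inv_mem _ hn'.2)
    have hKM : ∀ m ∈ M, ∀ k ∈ K, m * k * m⁻¹ ∈ K := by
      intro m hm k hk
      have hk' := Subgroup.mem_inf.mp hk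
      have := hcomm k hk'.1 m hm
      have e : m * k * m⁻¹ = k := by rw [← this]; group
      rw [e]; exact hk
    have hle : N ≤ Subgroup.normalizer (K : Set G) := by
      rw [← hcase]
      exact sup_le (le_normalizer_of_conj_mem Na K hKNa) (le_normalizer_of_conj_mem M K hKM)
    have hKN : ∀ n ∈ N, ∀ s ∈ K, n * s * n⁻¹ ∈ K := by
      intro n hn s hs
      exact (Subgroup.mem_normalizer_iff.mp (hle hn) s).mp hs
    rcases hTmin K inf_le_left hKN with hbot | htop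
    · intro t ht ht1 m hm hcop ω hω
      obtain ⟨n, hn, rfl⟩ := htr ω
      have ht' : n⁻¹ * t * n⁻¹⁻¹ ∈ T := hTnorm n⁻¹ (N.inv_mem hn) t ht
      have hm' : n⁻¹ * m * n⁻¹⁻¹ ∈ M := hMnorm n⁻¹ (N.inv_mem hn) m hm
      have hfix : ((n⁻¹ * t * n⁻¹⁻¹) * (n⁻¹ * m * n⁻¹⁻¹)) • α = α := by
        have e : (n⁻¹ * t * n⁻¹⁻¹) * (n⁻¹ * m * n⁻¹⁻¹) = n⁻¹ * (t * m) * n := by group
        rw [e, mul_smul, mul_smul, hω, inv_smul_smul]
      have hc : Commute (n⁻¹ * t * n⁻¹⁻¹) (n⁻¹ * m * n⁻¹⁻¹) := hcomm _ ht' _ hm'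
      have hmk : (n⁻¹ * m * n⁻¹⁻¹) ^ (orderOf m) = 1 := by
        rw [conj_pow, pow_orderOf_eq_one]; group
      have hpow : ((n⁻¹ * t * n⁻¹⁻¹) * (n⁻¹ * m * n⁻¹⁻¹)) ^ (orderOf m) =
          (n⁻¹ * t * n⁻¹⁻¹) ^ (orderOf m) := by
        rw [hc.mul_pow, hmk, mul_one]
      have hstab : (n⁻¹ * t * n⁻¹⁻¹) ^ (orderOf m) ∈ K := by
        refine Subgroup.mem_inf.mpr ⟨T.pow_mem ht' _, ?_⟩
        rw [← hpow]
        exact Subgroup.pow_mem _ (mem_stabilizer_iff.mpr hfix) _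
      rw [hbot, Subgroup.mem_bot, conj_pow] at hstab
      have htk : t ^ (orderOf m) = 1 := by
        have e : t ^ (orderOf m) = n * (n⁻¹ * t ^ (orderOf m) * n⁻¹⁻¹) * n⁻¹ := by group
        rw [e, hstab]; group
      have hdvd : orderOf t ∣ orderOf m := orderOf_dvd_of_pow_eq_one htk
      have h1 : orderOf t = 1 := Nat.Coprime.eq_one_of_dvd hcop hdvd
      exact ht1 (orderOf_eq_one_iff.mp h1)
    · exfalso
      apply hT
      rw [eq_bot_iff]
      intro t ht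
      rw [Subgroup.mem_bot]
      apply FaithfulSMul.eq_of_smul_eq_smul (α := X)
      intro ω
      rw [one_smul]
      obtain ⟨n, hn, rfl⟩ := htr ω
      have h1 : n⁻¹ * t * n⁻¹⁻¹ ∈ K := by
        rw [htop]; exact hTnorm n⁻¹ (N.inv_mem hn) t ht
      have h2 := (Subgroup.mem_inf.mp h1).2
      rw [mem_stabilizer_iff, inv_inv, mul_smul, mul_smul] at h2
      have := congrArg (fun w => n • w) h2
      simpa using this
  · left
    have hLN : Na ⊔ M ≤ N := sup_le inf_le_left hMN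
    obtain ⟨x, hxN, hx⟩ := exists_not_conj_mem N (Na ⊔ M) hLN hcase
    have hder : ∀ m ∈ M, ∀ ω : X, (x * m) • ω ≠ ω := by
      intro m hm ω hω
      obtain ⟨n, hn, rfl⟩ := htr ω
      have h1 : n⁻¹ * (x * m) * n ∈ Na := by
        refine Subgroup.mem_inf.mpr ⟨?_, ?_⟩
        · exact N.mul_mem (N.mul_mem (N.inv_mem hn) (N.mul_mem hxN (hMN hm))) hn
        · rw [mem_stabilizer_iff, mul_smul, mul_smul, hω, inv_smul_smul]
      have h2 : n⁻¹ * m * n⁻¹⁻¹ ∈ M := hMnorm n⁻¹ (N.inv_mem hn) m hm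
      have h3' : n⁻¹ * x * n = (n⁻¹ * (x * m) * n) * (n⁻¹ * m * n⁻¹⁻¹)⁻¹ := by group
      apply hx n hn
      rw [h3']
      exact Subgroup.mul_mem _ (Subgroup.mem_sup_left h1)
        (Subgroup.inv_mem _ (Subgroup.mem_sup_right h2))
    obtain ⟨t, ht, m0, hm0, hxt⟩ := exists_mul_of_mem_sup_of_comm T M hcomm x (hsup hxN)
    have hderT : ∀ m ∈ M, ∀ ω : X, (t * m) • ω ≠ ω := by
      intro m hm
      have h := hder (m0⁻¹ * m) (M.mul_mem (M.inv_mem hm0) hm)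
      have e : x * (m0⁻¹ * m) = t * m := by rw [hxt]; group
      rwa [e] at h
    refine ⟨t, ht, ?_, hderT⟩
    intro h
    have := hderT 1 M.one_mem α
    rw [h, mul_one, one_smul] at this
    exact this rfl

end Cfsg.Agent.Helper17.Der3
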