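import Mathlib
import Cfsg.Prelude.Def_Transfer
import Cfsg.Agent.Lib.Helper17.Der3Dich
import Cfsg.Agent.Lib.Helper17.Der2MONO
import Cfsg.Agent.Lib.Helper17.Der2ACT
import Cfsg.Agent.Lib.Helper19.Der2MIN
import Cfsg.Agent.Lib.Helper19.Der2PRIMES
import Cfsg.Agent.Lib.Helper19.Der2REG
import Cfsg.Agent.Lib.Helper7.Der2Aux

set_option autoImplicit false

namespace Cfsg.Agent.Helper17.Der3

open MulAction Cfsg.Agent.Helper17.Der1 Cfsg.Agent.Helper17.Der2 Cfsg.Agent.Helper7.Der2Aux

variable {G : Type*} [Group G] {X : Type*} [MulAction G X]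

/-- Two commuting transitive subgroups, one of order divisible by two primes `p ≠ q`, give a
derangement of order `p * q`. -/
theorem exists_der_mul_of_commuting [Finite G] [Finite X] [FaithfulSMul G X] (N K : Subgroup G)
    [IsPretransitive N X] [IsPretransitive K X] (hX : 2 ≤ Nat.card X)
    (hcomm : ∀ a ∈ N, ∀ b ∈ K, a * b = b * a) (p q : ℕ) (hp : p.Prime) (hq : q.Prime)
    (hpq : p ≠ q) (hpN : p ∣ Nat.card N) (hqN : q ∣ Nat.card N) :
    ∃ d : G, (∀ ω : X, d • ω ≠ ω) ∧ orderOf d = p * q := by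
  have hXne : Nonempty X := by
    rw [← Finite.card_pos_iff]
    omega
  obtain ⟨x0⟩ := hXne
  have hsN : ∀ a ∈ N, ∀ ω : X, a • ω = ω → a = 1 :=
    fun a ha ω h => eq_one_of_fix N K hcomm a ha ω h
  have hsK : ∀ b ∈ K, ∀ ω : X, b • ω = ω → b = 1 :=
    fun b hb ω h => eq_one_of_fix K N (fun b hb a ha => (hcomm a ha b hb).symm) b hb ω h
  have hcN : Nat.card N = Nat.card X := card_regular N hsN x0
  have hcK : Nat.card K = Nat.card X := card_regular K hsK x0
  have hqK : q ∣ Nat.card K := by rw [hcK, ← hcN]; exact hqN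
  obtain ⟨a, haN, hoa⟩ := exists_mem_orderOf_eq N p hp hpN
  obtain ⟨b, hbK, hob⟩ := exists_mem_orderOf_eq K q hq hqK
  have hab : Commute a b := hcomm a haN b hbK
  have hcop : Nat.Coprime (orderOf a) (orderOf b) := by
    rw [hoa, hob]
    exact (Nat.coprime_primes hp hq).2 hpq
  have hoab : orderOf (a * b) = p * q := by
    rw [hab.orderOf_mul_eq_mul_orderOf_of_coprime hcop, hoa, hob]
  have haq : a ^ q ≠ 1 := by
    intro hcon
    have h1 : p ∣ q := by rw [← hoa]; exact orderOf_dvd_of_pow_eq_one hcon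
    exact hpq ((Nat.prime_dvd_prime_iff_eq hp hq).1 h1)
  refine ⟨a * b, ?_, hoab⟩
  intro ω h
  have h1 : (a * b) ^ q • ω = ω := by
    have : ∀ k : ℕ, (a * b) ^ k • ω = ω := by
      intro k
      induction k with
      | zero => rw [pow_zero, one_smul]
      | succ k ih => rw [pow_succ, mul_smul, h, ih]
    exact this q
  have h2 : (a * b) ^ q = a ^ q := by
    rw [hab.mul_pow, ← hob, pow_orderOf_eq_one, mul_one]
  rw [h2] at h1
  exact haq (hsN _ (N.pow_mem haN q) ω h1)

/-- A prime dividing a power of `p` is `p`. -/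
theorem prime_eq_of_dvd_pow (p r k : ℕ) (hp : p.Prime) (hr : r.Prime) (h : r ∣ p ^ k) : r = p :=
  (Nat.prime_dvd_prime_iff_eq hr hp).mp (hr.dvd_of_dvd_pow h)

/-- A nontrivial abelian normal subgroup contains a nontrivial normal elementary abelian one. -/
theorem exists_elementary_abelian_normal [Finite G] (A : Subgroup G) [A.Normal] (hA : A ≠ ⊥)
    (hab : ∀ a ∈ A, ∀ b ∈ A, a * b = b * a) :
    ∃ (N : Subgroup G) (r : ℕ), r.Prime ∧ N.Normal ∧ N ≠ ⊥ ∧ Cfsg.IsElementaryAbelian r N := by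
  have hAn : A.Normal := inferInstance
  have hcard : Nat.card A ≠ 1 := fun h => hA (Subgroup.card_eq_one.mp h)
  obtain ⟨r, hr, hrd⟩ := Nat.exists_prime_and_dvd hcard
  obtain ⟨z, hzA, hoz⟩ := exists_mem_orderOf_eq A r hr hrd
  let N : Subgroup G :=
    { carrier := {a | a ∈ A ∧ a ^ r = 1}
      mul_mem' := by
        rintro a b ⟨ha, ha'⟩ ⟨hb, hb'⟩
        refine ⟨A.mul_mem ha hb, ?_⟩
        rw [(show Commute a b from hab a ha b hb).mul_pow, ha', hb', mul_one]
      one_mem' := ⟨A.one_mem, one_pow r⟩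
      inv_mem' := by
        rintro a ⟨ha, ha'⟩
        exact ⟨A.inv_mem ha, by rw [inv_pow, ha', inv_one]⟩ }
  have hmemN : ∀ a, a ∈ N ↔ a ∈ A ∧ a ^ r = 1 := fun a => Iff.rfl
  refine ⟨N, r, hr, ?_, ?_, ?_, ?_⟩
  · constructor
    intro a ha g
    rw [hmemN] at ha ⊢
    refine ⟨hAn.conj_mem a ha.1 g, ?_⟩
    rw [conj_pow, ha.2]; group
  · intro h
    have hz : z ∈ N := (hmemN z).mpr ⟨hzA, by rw [← hoz]; exact pow_orderOf_eq_one z⟩
    rw [h, Subgroup.mem_bot] at hz
    rw [hz, orderOf_one] at hoz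
    exact hr.one_lt.ne hoz
  · rw [isMulCommutative_iff]
    intro a b
    exact Subtype.ext (hab a ((hmemN a).mp a.2).1 b ((hmemN b).mp b.2).1)
  · intro a ha
    exact ((hmemN a).mp ha).2

/-- The centre of a nonabelian minimal `N`-invariant subgroup is trivial. -/
theorem center_eq_bot_of_min (N T : Subgroup G)
    (hTnorm : ∀ n ∈ N, ∀ t ∈ T, n * t * n⁻¹ ∈ T)
    (hTmin : ∀ S : Subgroup G, S ≤ T → (∀ n ∈ N, ∀ s ∈ S, n * s * n⁻¹ ∈ S) → S = ⊥ ∨ S = T)
    (hTnab : ∃ a ∈ T, ∃ b ∈ T, a * b ≠ b * a) :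
    T ⊓ Subgroup.centralizer (T : Set G) = ⊥ := by
  have hZN : ∀ n ∈ N, ∀ s ∈ T ⊓ Subgroup.centralizer (T : Set G),
      n * s * n⁻¹ ∈ T ⊓ Subgroup.centralizer (T : Set G) := by
    intro n hn s hs
    have hs' := Subgroup.mem_inf.mp hs
    refine Subgroup.mem_inf.mpr ⟨hTnorm n hn s hs'.1, ?_⟩
    rw [Subgroup.mem_centralizer_iff]
    intro t ht
    have ht' : n⁻¹ * t * n⁻¹⁻¹ ∈ T := hTnorm n⁻¹ (N.inv_mem hn) t ht
    have h1 := (Subgroup.mem_centralizer_iff.mp hs'.2) _ ht'
    have e1 : t * (n * s * n⁻¹) = n * ((n⁻¹ * t * n⁻¹⁻¹) * s) * n⁻¹ := by group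
    have e2 : n * s * n⁻¹ * t = n * (s * (n⁻¹ * t * n⁻¹⁻¹)) * n⁻¹ := by group
    rw [e1, e2, h1]
  rcases hTmin _ inf_le_left hZN with h | h
  · exact h
  · exfalso
    obtain ⟨a, ha, b, hb, hne⟩ := hTnab
    apply hne
    have hb' : b ∈ T ⊓ Subgroup.centralizer (T : Set G) := by rw [h]; exact hb
    exact (Subgroup.mem_centralizer_iff.mp (Subgroup.mem_inf.mp hb').2) a ha

/-- S3556: primitive, every derangement a `p`-element: affine or almost simple. -/
theorem affine_or_almost_simple [Finite G] [Finite X] [FaithfulSMul G X]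
    (hprim : IsPreprimitive G X) (hX : 2 ≤ Nat.card X) (p : ℕ) (hp : p.Prime)
    (hder : ∀ g : G, (∀ ω : X, g • ω ≠ ω) → ∃ k : ℕ, orderOf g = p ^ k) :
    (∃ (N : Subgroup G) (r : ℕ), r.Prime ∧ N.Normal ∧ Cfsg.IsElementaryAbelian r N ∧
      IsPretransitive N X ∧ ∀ a : X, stabilizer N a = ⊥) ∨
    (∃ T : Subgroup G, T.Normal ∧ IsSimpleGroup ↥T ∧ ¬ IsMulCommutative ↥T ∧
      Subgroup.centralizer (T : Set G) = ⊥) := by
  classical
  haveI : IsPretransitive G X := hprim.toIsPretransitive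
  obtain ⟨α⟩ : Nonempty X := by
    rw [← Finite.card_pos_iff]; omega
  have htrans : ∀ K : Subgroup G, K.Normal → K ≠ ⊥ → IsPretransitive K X := by
    intro K hK hKbot
    apply IsQuasiPreprimitive.isPretransitive_of_normal (G := G)
    intro hfix
    apply hKbot
    rw [eq_bot_iff]
    intro k hk
    rw [Subgroup.mem_bot]
    apply FaithfulSMul.eq_of_smul_eq_smul (α := X)
    intro x
    rw [one_smul]
    have hx : x ∈ fixedPoints K X := by rw [hfix]; trivial
    exact hx ⟨k, hk⟩
  -- no derangement has order divisible by a prime other than p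
  have hno : ∀ d : G, (∀ ω : X, d • ω ≠ ω) → ∀ r : ℕ, r.Prime → r ≠ p → ¬ r ∣ orderOf d := by
    intro d hd r hr hrp hdvd
    obtain ⟨k, hk⟩ := hder d hd
    rw [hk] at hdvd
    exact hrp (prime_eq_of_dvd_pow p r k hp hr hdvd)
  by_cases hA : ∃ A : Subgroup G, A.Normal ∧ A ≠ ⊥ ∧ ∀ a ∈ A, ∀ b ∈ A, a * b = b * a
  · left
    obtain ⟨A, hAn, hAbot, hab⟩ := hA
    haveI := hAn
    obtain ⟨N, r, hr, hNn, hNbot, hel⟩ := exists_elementary_abelian_normal A hAbot hab
    haveI := hNn
    haveI hNtr : IsPretransitive N X := htrans N hNn hNbot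
    have hNab : ∀ a ∈ N, ∀ b ∈ N, a * b = b * a := by
      intro a ha b hb
      have := (isMulCommutative_iff.mp hel.1) ⟨a, ha⟩ ⟨b, hb⟩
      exact congrArg Subtype.val this
    exact ⟨N, r, hr, hNn, hel, hNtr, fun a => stabilizer_eq_bot_of_commute (X := X) N N hNab a⟩
  · right
    push_neg at hA
    haveI : Nontrivial G := by
      by_contra hnt
      rw [not_nontrivial_iff_subsingleton] at hnt
      obtain ⟨d, hd⟩ := exists_derangement (G := G) (X := X) hX
      exact hd α (by rw [Subsingleton.elim d 1, one_smul])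
    obtain ⟨N, hNn, hNbot, hNmin⟩ := exists_min_normal (G := G)
    haveI := hNn
    haveI hNtr : IsPretransitive N X := htrans N hNn hNbot
    have hnab : ∃ a ∈ N, ∃ b ∈ N, a * b ≠ b * a := hA N hNn hNbot
    have hZ : N ⊓ Subgroup.centralizer (N : Set G) = ⊥ := by
      by_contra hZ
      have hZn : (N ⊓ Subgroup.centralizer (N : Set G)).Normal := inferInstance
      obtain ⟨a, ha, b, hb, hne'⟩ := hA _ hZn hZ
      apply hne'
      have := (Subgroup.mem_inf.mp hb).2
      rw [Subgroup.mem_centralizer_iff] at this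
      exact this a (Subgroup.mem_inf.mp ha).1
    have hmin : ∀ K : Subgroup G, K.Normal → K ≠ ⊥ → N ≤ K := by
      intro K hK hKbot
      haveI := hK
      by_contra hle
      have hKN : K ⊓ N = ⊥ := by
        by_contra hne'
        have hn : (K ⊓ N).Normal := inferInstance
        have := hNmin (K ⊓ N) hn hne' inf_le_right
        apply hle
        rw [← this]; exact inf_le_left
      haveI hKtr : IsPretransitive K X := htrans K hK hKbot
      have hcomm : ∀ a ∈ N, ∀ b ∈ K, a * b = b * a := by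
        intro a ha b hb
        have hmem : a * b * a⁻¹ * b⁻¹ ∈ K ⊓ N := by
          refine Subgroup.mem_inf.mpr ⟨?_, ?_⟩
          · exact K.mul_mem (hK.conj_mem b hb a) (K.inv_mem hb)
          · have : a * b * a⁻¹ * b⁻¹ = a * (b * a⁻¹ * b⁻¹) := by group
            rw [this]
            exact N.mul_mem ha (hNn.conj_mem a⁻¹ (N.inv_mem ha) b)
        rw [hKN, Subgroup.mem_bot] at hmem
        have : a * b = (a * b * a⁻¹ * b⁻¹) * (b * a) := by group
        rw [this, hmem, one_mul]
      obtain ⟨p', q', hp', hq', hpq', hpN, hqN⟩ := exists_two_primes N hNbot hZ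
      obtain ⟨d, hd, hod⟩ := exists_der_mul_of_commuting N K hX hcomm p' q' hp' hq' hpq' hpN hqN
      by_cases h1 : p' = p
      · have hq'p : q' ≠ p := fun h => hpq' (h1.trans h.symm)
        exact hno d hd q' hq' hq'p (by rw [hod]; exact dvd_mul_left _ _)
      · exact hno d hd p' hp' h1 (by rw [hod]; exact dvd_mul_right _ _)
    by_cases hs : IsSimpleGroup N
    · refine ⟨N, hNn, hs, ?_, ?_⟩
      · intro hc
        obtain ⟨a, ha, b, hb, hne'⟩ := hnab
        apply hne'
        have := (isMulCommutative_iff.mp hc) ⟨a, ha⟩ ⟨b, hb⟩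
        exact congrArg Subtype.val this
      · by_contra hC
        have hCn : (Subgroup.centralizer (N : Set G)).Normal := Subgroup.normal_centralizer
        have hle := hmin _ hCn hC
        obtain ⟨a, ha, b, hb, hne'⟩ := hnab
        apply hne'
        have := hle hb
        rw [Subgroup.mem_centralizer_iff] at this
        exact this a ha
    · exfalso
      obtain ⟨T, M, hMdef, hTN, hMN, hT, hM, hTM, hsup, hcomm, hTnorm, hMnorm, hTmin, hTconj,
        hTnab, hg0⟩ := monolith_structure2 N hNbot hmin hnab hs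
      have hZT := center_eq_bot_of_min N T hTnorm hTmin hTnab
      obtain ⟨r, s, hr, hs', hrs, hrT, hsT⟩ := exists_two_primes T hT hZT
      obtain ⟨r₀, hr₀, hr₀p, hr₀T⟩ : ∃ r₀ : ℕ, r₀.Prime ∧ r₀ ≠ p ∧ r₀ ∣ Nat.card T := by
        by_cases h1 : r = p
        · exact ⟨s, hs', fun h => hrs (h1.trans h.symm), hsT⟩
        · exact ⟨r, hr, h1, hrT⟩
      rcases monolith_dichotomy N hX T M hMN hT hsup hcomm hTnorm hMnorm hTmin with
        ⟨t, ht, ht1, hdt⟩ | hII
      · -- an element of order r₀ in M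
        obtain ⟨g0, hg0'⟩ := hg0
        have hTM_card : Nat.card T ∣ Nat.card M := by
          have hle : T.map (MulAut.conj g0).toMonoidHom ≤ M := by
            intro y hy
            obtain ⟨s, hs, rfl⟩ := Subgroup.mem_map.mp hy
            exact hg0' s hs
          have hc : Nat.card (T.map (MulAut.conj g0).toMonoidHom) = Nat.card T :=
            Nat.card_congr (T.equivMapOfInjective (MulAut.conj g0).toMonoidHom
              (MulAut.conj g0).injective).toEquiv.symm
          rw [← hc]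
          exact Subgroup.card_dvd_of_le hle
        obtain ⟨m, hm, hom⟩ := exists_mem_orderOf_eq M r₀ hr₀ (hr₀T.trans hTM_card)
        have hd := hdt m hm
        have hd1 : ∀ ω : X, t • ω ≠ ω := by
          have := hdt 1 M.one_mem
          simpa using this
        obtain ⟨k, hk⟩ := hder t hd1
        have hcop : (orderOf t).Coprime (orderOf m) := by
          rw [hk, hom]
          apply Nat.Coprime.pow_left
          exact (Nat.coprime_primes hp hr₀).mpr (Ne.symm hr₀p)
        have ho : orderOf (t * m) = orderOf t * r₀ := by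
          rw [(show Commute t m from hcomm t ht m hm).orderOf_mul_eq_mul_orderOf_of_coprime hcop,
            hom]
        exact hno (t * m) hd r₀ hr₀ hr₀p (by rw [ho]; exact dvd_mul_left _ _)
      · obtain ⟨t, ht, hot⟩ := exists_mem_orderOf_eq T r₀ hr₀ hr₀T
        have ht1 : t ≠ 1 := by
          intro h; rw [h, orderOf_one] at hot; exact hr₀.one_lt.ne hot
        have hd : ∀ ω : X, t • ω ≠ ω := by
          have := hII t ht ht1 1 M.one_mem (by rw [orderOf_one]; exact Nat.coprime_one_right _)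
          simpa using this
        exact hno t hd r₀ hr₀ hr₀p (by rw [hot])

end Cfsg.Agent.Helper17.Der3
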