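import Mathlib

/-!
# Extremely primitive groups: the point stabiliser is faithful on each suborbit (helper17)

`G` acts faithfully and primitively on a finite set `Ω`, the point stabilisers are non-trivial and
act primitively on each of their orbits.  Then a point stabiliser acts faithfully on each of its
non-trivial orbits (Manning; Mann–Praeger–Seress).
-/

set_option autoImplicit false

namespace Cfsg.Agent.Helper17.ExtPrim
open MulAction

variable {G : Type*} [Group G] {Ω : Type*} [MulAction G Ω]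

theorem mem_orbit_sub {H : Subgroup G} {θ x : Ω} :
    x ∈ orbit ↥H θ ↔ ∃ g ∈ H, g • θ = x := by
  constructor
  · rintro ⟨g, rfl⟩
    exact ⟨g, g.2, rfl⟩
  · rintro ⟨g, hg, rfl⟩
    exact ⟨⟨g, hg⟩, rfl⟩

theorem smul_mem_orbit_sub {H : Subgroup G} {θ x : Ω} {g : G} (hg : g ∈ H)
    (hx : x ∈ orbit ↥H θ) : g • x ∈ orbit ↥H θ := by
  obtain ⟨h, hh, rfl⟩ := mem_orbit_sub.1 hx
  exact mem_orbit_sub.2 ⟨g * h, H.mul_mem hg hh, mul_smul g h θ⟩

/-- a set invariant under two subgroups generating `G` is invariant under `G` -/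
theorem smul_mem_of_sup_eq_top {A B : Subgroup G} (hAB : A ⊔ B = ⊤) (Θ : Set Ω)
    (hA : ∀ g ∈ A, ∀ x ∈ Θ, g • x ∈ Θ) (hB : ∀ g ∈ B, ∀ x ∈ Θ, g • x ∈ Θ) (g : G) :
    ∀ x, g • x ∈ Θ ↔ x ∈ Θ := by
  have hg : g ∈ A ⊔ B := by rw [hAB]; exact Subgroup.mem_top g
  rw [Subgroup.sup_eq_closure] at hg
  induction hg using Subgroup.closure_induction with
  | mem a ha =>
    intro x
    rcases ha with ha | ha
    · refine ⟨fun h => ?_, hA a ha x⟩
      have := hA a⁻¹ (A.inv_mem ha) _ h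
      rwa [inv_smul_smul] at this
    · refine ⟨fun h => ?_, hB a ha x⟩
      have := hB a⁻¹ (B.inv_mem ha) _ h
      rwa [inv_smul_smul] at this
  | one => intro x; rw [one_smul]
  | mul a b _ _ ha hb => intro x; rw [mul_smul, ha, hb]
  | inv a _ ha =>
    intro x
    have := ha (a⁻¹ • x)
    rw [smul_inv_smul] at this
    exact this.symm

theorem ncard_orbit_conj (g : G) (x y : Ω) :
    (orbit ↥(stabilizer G (g • x)) (g • y)).ncard = (orbit ↥(stabilizer G x) y).ncard := by
  have : orbit ↥(stabilizer G (g • x)) (g • y) = (fun z => g • z) '' orbit ↥(stabilizer G x) y := by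
    ext z
    rw [mem_orbit_sub]
    constructor
    · rintro ⟨h, hh, rfl⟩
      refine ⟨(g⁻¹ * h * g) • y, mem_orbit_sub.2 ⟨g⁻¹ * h * g, ?_, rfl⟩, ?_⟩
      · rw [mem_stabilizer_iff] at hh ⊢
        rw [mul_smul, mul_smul, hh, inv_smul_smul]
      · show g • (g⁻¹ * h * g) • y = h • g • y
        rw [← mul_smul, ← mul_smul]
        congr 1
        group
    · rintro ⟨w, hw, rfl⟩
      obtain ⟨h, hh, rfl⟩ := mem_orbit_sub.1 hw
      refine ⟨g * h * g⁻¹, ?_, ?_⟩
      · rw [mem_stabilizer_iff] at hh ⊢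
        rw [mul_smul, mul_smul, inv_smul_smul, hh]
      · rw [mul_smul, mul_smul, inv_smul_smul]
  rw [this, Set.ncard_image_of_injective _ (MulAction.injective g)]

section Finite

variable [Finite G] [Finite Ω]

theorem ncard_orbit_eq_relIndex (x y : Ω) :
    (orbit ↥(stabilizer G x) y).ncard = (stabilizer G y).relIndex (stabilizer G x) := by
  rw [← MulAction.index_stabilizer]
  have : stabilizer ↥(stabilizer G x) y = (stabilizer G y).subgroupOf (stabilizer G x) := by
    ext g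
    rw [mem_stabilizer_iff, Subgroup.mem_subgroupOf, mem_stabilizer_iff]
    rfl
  rw [this]
  rfl

theorem ncard_orbit_symm [IsPretransitive G Ω] (x y : Ω) :
    (orbit ↥(stabilizer G x) y).ncard = (orbit ↥(stabilizer G y) x).ncard := by
  rw [ncard_orbit_eq_relIndex, ncard_orbit_eq_relIndex]
  have h1 := Subgroup.relIndex_mul_index
    (inf_le_right : stabilizer G y ⊓ stabilizer G x ≤ stabilizer G x)
  have h2 := Subgroup.relIndex_mul_index
    (inf_le_right : stabilizer G x ⊓ stabilizer G y ≤ stabilizer G y)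
  rw [Subgroup.inf_relIndex_right, index_stabilizer_of_transitive] at h1 h2
  rw [inf_comm] at h2
  have hpos : 0 < Nat.card Ω := by
    have : Nonempty Ω := ⟨x⟩
    exact Nat.card_pos
  exact Nat.eq_of_mul_eq_mul_right hpos (h1.trans h2.symm)

end Finite

section EP

variable [Finite G] [Finite Ω] [FaithfulSMul G Ω]

/-- the hypotheses: primitive, non-trivial stabilisers, stabilisers primitive on their orbits -/
structure IsEP (G : Type*) [Group G] (Ω : Type*) [MulAction G Ω] : Prop where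
  prim : IsPreprimitive G Ω
  ne_bot : ∀ α : Ω, stabilizer G α ≠ ⊥
  ep : ∀ α ω : Ω, IsPreprimitive ↥(stabilizer G α) ↥(orbit ↥(stabilizer G α) ω)

omit [Finite G] [Finite Ω] in
theorem IsEP.nontrivial (h : IsEP G Ω) (α : Ω) : Nontrivial Ω := by
  have h1 := h.ne_bot α
  rw [Ne, Subgroup.eq_bot_iff_forall] at h1
  push Not at h1
  obtain ⟨g, hg, hg1⟩ := h1
  have : ∃ x : Ω, g • x ≠ x := by
    by_contra hcon
    push Not at hcon
    apply hg1
    apply FaithfulSMul.eq_of_smul_eq_smul (α := Ω)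
    intro a
    rw [hcon a, one_smul]
  obtain ⟨x, hx⟩ := this
  exact ⟨⟨g • x, x, hx⟩⟩

omit [Finite G] [Finite Ω] in
theorem IsEP.normalizer_le (h : IsEP G Ω) (α : Ω) :
    Subgroup.normalizer (stabilizer G α : Set G) ≤ stabilizer G α := by
  have := h.prim
  have hB : IsBlock G (orbit ↥(Subgroup.normalizer (stabilizer G α : Set G)) α) :=
    IsBlock.of_orbit Subgroup.le_normalizer
  have hfix : ∀ n ∈ Subgroup.normalizer (stabilizer G α : Set G), ∀ s ∈ stabilizer G α,
      s • n • α = n • α := by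
    intro n hn s hs
    have h1 : n⁻¹ * s * n ∈ stabilizer G α := by
      have := (Subgroup.mem_normalizer_iff.1 (Subgroup.inv_mem _ hn) s).1 hs
      rwa [inv_inv] at this
    rw [mem_stabilizer_iff, mul_smul, mul_smul] at h1
    have h2 := congrArg (fun z => n • z) h1
    simp only [smul_inv_smul] at h2
    exact h2
  rcases hB.subsingleton_or_eq_univ with hs | hu
  · intro n hn
    rw [mem_stabilizer_iff]
    exact hs (mem_orbit_sub.2 ⟨n, hn, rfl⟩) (mem_orbit_self α)
  · exfalso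
    apply h.ne_bot α
    rw [Subgroup.eq_bot_iff_forall]
    intro s hs
    apply FaithfulSMul.eq_of_smul_eq_smul (α := Ω)
    intro x
    have hx : x ∈ orbit ↥(Subgroup.normalizer (stabilizer G α : Set G)) α := by
      rw [hu]; exact Set.mem_univ x
    obtain ⟨n, hn, rfl⟩ := mem_orbit_sub.1 hx
    rw [hfix n hn s hs, one_smul]

omit [Finite G] [Finite Ω] in
theorem IsEP.sup_eq_top (h : IsEP G Ω) {α β : Ω} (hαβ : α ≠ β) :
    stabilizer G α ⊔ stabilizer G β = ⊤ := by
  have := h.prim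
  have := h.nontrivial α
  have hcα := IsPreprimitive.isCoatom_stabilizer_of_isPreprimitive G α
  have hcβ := IsPreprimitive.isCoatom_stabilizer_of_isPreprimitive G β
  rcases hcα.le_iff.1 (le_sup_left : stabilizer G α ≤ stabilizer G α ⊔ stabilizer G β) with h1 | h1
  · exact h1
  · exfalso
    have h2 : stabilizer G β ≤ stabilizer G α := by
      rw [← h1]; exact le_sup_right
    have h3 : stabilizer G α = stabilizer G β := by
      rcases hcβ.le_iff.1 h2 with h4 | h4
      · exact absurd h4 hcα.1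
      · exact h4
    obtain ⟨g, hg⟩ := exists_smul_eq G α β
    have hgn : g ∈ Subgroup.normalizer (stabilizer G α : Set G) := by
      rw [Subgroup.mem_normalizer_iff]
      intro s
      have h5 : g * s * g⁻¹ ∈ stabilizer G β ↔ s ∈ stabilizer G α := by
        rw [mem_stabilizer_iff, mem_stabilizer_iff, ← hg, mul_smul, mul_smul, inv_smul_smul]
        exact ⟨fun h => MulAction.injective g h, fun h => by rw [h]⟩
      have h6 : g * s * g⁻¹ ∈ stabilizer G α ↔ g * s * g⁻¹ ∈ stabilizer G β := by rw [h3]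
      exact h5.symm.trans h6.symm
    have := h.normalizer_le α hgn
    rw [mem_stabilizer_iff, hg] at this
    exact hαβ this.symm

omit [Finite G] [Finite Ω] in
/-- a non-empty set invariant under the stabilisers of two different points is everything -/
theorem IsEP.eq_univ_of_invariant (h : IsEP G Ω) {α β : Ω} (hαβ : α ≠ β) (Θ : Set Ω)
    (hne : Θ.Nonempty) (hA : ∀ g ∈ stabilizer G α, ∀ x ∈ Θ, g • x ∈ Θ)
    (hB : ∀ g ∈ stabilizer G β, ∀ x ∈ Θ, g • x ∈ Θ) : Θ = Set.univ := by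
  have := h.prim
  obtain ⟨x₀, hx₀⟩ := hne
  rw [Set.eq_univ_iff_forall]
  intro y
  obtain ⟨g, rfl⟩ := exists_smul_eq G x₀ y
  exact (smul_mem_of_sup_eq_top (h.sup_eq_top hαβ) Θ hA hB g x₀).2 hx₀

omit [Finite G] [Finite Ω] [FaithfulSMul G Ω] in
/-- a subgroup of the stabiliser normalised by it, moving a point, is transitive on the orbit of
that point -/
theorem IsEP.subset_orbit_of_normal (h : IsEP G Ω) {α : Ω} {K : Subgroup G}
    (hK : K ≤ stabilizer G α) (hKn : stabilizer G α ≤ Subgroup.normalizer (K : Set G)) {θ : Ω}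
    {k : G} (hk : k ∈ K) (hkθ : k • θ ≠ θ) :
    orbit ↥(stabilizer G α) θ ⊆ orbit ↥K θ := by
  have := h.ep α θ
  have hnorm : (K.subgroupOf (stabilizer G α)).Normal :=
    Subgroup.normal_subgroupOf_of_le_normalizer hKn
  have hne : fixedPoints ↥(K.subgroupOf (stabilizer G α)) ↥(orbit ↥(stabilizer G α) θ)
      ≠ Set.univ := by
    intro hcon
    have h1 : (⟨θ, mem_orbit_self θ⟩ : ↥(orbit ↥(stabilizer G α) θ)) ∈
        fixedPoints ↥(K.subgroupOf (stabilizer G α)) ↥(orbit ↥(stabilizer G α) θ) := by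
      rw [hcon]; exact Set.mem_univ _
    rw [mem_fixedPoints] at h1
    have h2 := h1 ⟨⟨k, hK hk⟩, hk⟩
    apply hkθ
    exact congrArg Subtype.val h2
  have htr := IsQuasiPreprimitive.isPretransitive_of_normal
    (G := ↥(stabilizer G α)) (X := ↥(orbit ↥(stabilizer G α) θ)) hne
  intro x hx
  obtain ⟨n, hn⟩ := htr.exists_smul_eq ⟨θ, mem_orbit_self θ⟩ ⟨x, hx⟩
  refine mem_orbit_sub.2 ⟨((n : ↥(stabilizer G α)) : G), n.2, ?_⟩
  exact congrArg Subtype.val hn

/-- **Lemma A**: a subgroup of the stabiliser of `α`, normalised by it and fixing another point,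
fixes every point whose orbit under the stabiliser has maximal size -/
theorem IsEP.fixes_of_max (h : IsEP G Ω) {α β : Ω} (hαβ : α ≠ β) {K : Subgroup G}
    (hK : K ≤ stabilizer G α) (hKn : stabilizer G α ≤ Subgroup.normalizer (K : Set G))
    (hKβ : ∀ k ∈ K, k • β = β) {θ : Ω}
    (hmax : ∀ x y : Ω, (orbit ↥(stabilizer G x) y).ncard ≤ (orbit ↥(stabilizer G α) θ).ncard)
    {k : G} (hk : k ∈ K) : k • θ = θ := by
  by_contra hkθ
  have h1 := h.subset_orbit_of_normal hK hKn hk hkθ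
  have h2 : orbit ↥K θ ⊆ orbit ↥(stabilizer G β) θ := by
    intro x hx
    obtain ⟨g, hg, rfl⟩ := mem_orbit_sub.1 hx
    exact mem_orbit_sub.2 ⟨g, by rw [mem_stabilizer_iff]; exact hKβ g hg, rfl⟩
  have h3 : orbit ↥(stabilizer G α) θ = orbit ↥(stabilizer G β) θ :=
    Set.eq_of_subset_of_ncard_le (h1.trans h2) (hmax β θ) (Set.toFinite _)
  have h4 := h.eq_univ_of_invariant hαβ (orbit ↥(stabilizer G α) θ) ⟨θ, mem_orbit_self θ⟩
    (fun g hg x hx => smul_mem_orbit_sub hg hx)
    (fun g hg x hx => by rw [h3] at hx ⊢; exact smul_mem_orbit_sub hg hx)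
  have h5 : α ∈ orbit ↥(stabilizer G α) θ := by rw [h4]; exact Set.mem_univ α
  obtain ⟨g, hg, hgθ⟩ := mem_orbit_sub.1 h5
  have h6 : θ = α := by
    have : g⁻¹ • α = α := by
      have := (stabilizer G α).inv_mem hg
      rwa [mem_stabilizer_iff] at this
    calc θ = g⁻¹ • (g • θ) := (inv_smul_smul g θ).symm
      _ = g⁻¹ • α := by rw [hgθ]
      _ = α := this
  apply hkθ
  rw [h6]
  exact hK hk

end EP

section U

/-- the pointwise stabiliser, in the stabiliser of `x`, of the points whose orbit under the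
stabiliser of `x` has `m` elements -/
def U (G : Type*) [Group G] {Ω : Type*} [MulAction G Ω] (m : ℕ) (x : Ω) : Subgroup G where
  carrier := {u | u • x = x ∧ ∀ y : Ω, (orbit ↥(stabilizer G x) y).ncard = m → u • y = y}
  one_mem' := ⟨one_smul _ _, fun y _ => one_smul _ _⟩
  mul_mem' := by
    rintro a b ⟨ha, ha'⟩ ⟨hb, hb'⟩
    exact ⟨by rw [mul_smul, hb, ha], fun y hy => by rw [mul_smul, hb' y hy, ha' y hy]⟩
  inv_mem' := by
    rintro a ⟨ha, ha'⟩
    exact ⟨by rw [inv_smul_eq_iff, ha], fun y hy => by rw [inv_smul_eq_iff, ha' y hy]⟩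

theorem mem_U {m : ℕ} {x : Ω} {u : G} :
    u ∈ U G m x ↔ u • x = x ∧ ∀ y : Ω, (orbit ↥(stabilizer G x) y).ncard = m → u • y = y :=
  Iff.rfl

theorem U_le (m : ℕ) (x : Ω) : U G m x ≤ stabilizer G x := fun _ hu => (mem_U.1 hu).1

theorem conj_mem_U {m : ℕ} {x : Ω} {h u : G} (hh : h ∈ stabilizer G x) (hu : u ∈ U G m x) :
    h * u * h⁻¹ ∈ U G m x := by
  have hh' : h⁻¹ ∈ stabilizer G x := Subgroup.inv_mem _ hh
  rw [mem_stabilizer_iff] at hh hh'
  rw [mem_U] at hu
  refine mem_U.2 ⟨by rw [mul_smul, mul_smul, hh', hu.1, hh], fun y hy => ?_⟩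
  have h1 : orbit ↥(stabilizer G x) (h⁻¹ • y) = orbit ↥(stabilizer G x) y := by
    rw [orbit_eq_iff]
    exact mem_orbit_sub.2 ⟨h⁻¹, by rw [mem_stabilizer_iff]; exact hh', rfl⟩
  have h2 := hu.2 (h⁻¹ • y) (by rw [h1]; exact hy)
  rw [mul_smul, mul_smul, h2, smul_inv_smul]

theorem le_normalizer_U (m : ℕ) (x : Ω) :
    stabilizer G x ≤ Subgroup.normalizer (U G m x : Set G) := by
  intro h hh
  rw [Subgroup.mem_normalizer_iff]
  intro u
  refine ⟨fun hu => conj_mem_U hh hu, fun hu => ?_⟩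
  have := conj_mem_U (Subgroup.inv_mem _ hh) hu
  rw [inv_inv] at this
  have h2 : h⁻¹ * (h * u * h⁻¹) * h = u := by group
  rwa [h2] at this

theorem conj_mem_U_smul {m : ℕ} {x : Ω} (g : G) {u : G} (hu : u ∈ U G m x) :
    g * u * g⁻¹ ∈ U G m (g • x) := by
  rw [mem_U] at hu
  refine mem_U.2 ⟨by rw [mul_smul, mul_smul, inv_smul_smul, hu.1], fun y hy => ?_⟩
  have h1 : (orbit ↥(stabilizer G x) (g⁻¹ • y)).ncard = m := by
    rw [← ncard_orbit_conj g x (g⁻¹ • y), smul_inv_smul]
    exact hy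
  rw [mul_smul, mul_smul, hu.2 _ h1, smul_inv_smul]

end U

section Main

variable [Finite G] [Finite Ω] [FaithfulSMul G Ω]

omit [Finite G] [Finite Ω] [FaithfulSMul G Ω] in
theorem eq_of_mem_orbit_stabilizer {α θ : Ω} (h : α ∈ orbit ↥(stabilizer G α) θ) : θ = α := by
  obtain ⟨g, hg, hgθ⟩ := mem_orbit_sub.1 h
  have : g⁻¹ • α = α := by
    have := (stabilizer G α).inv_mem hg
    rwa [mem_stabilizer_iff] at this
  calc θ = g⁻¹ • (g • θ) := (inv_smul_smul g θ).symm
    _ = g⁻¹ • α := by rw [hgθ]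
    _ = α := this

theorem IsEP.claimB (h : IsEP G Ω) {α β : Ω} (hαβ : α ≠ β) {m : ℕ}
    (hβ : (orbit ↥(stabilizer G α) β).ncard = m) {θ : Ω} {u : G} (hu : u ∈ U G m α)
    (huθ : u • θ ≠ θ) {v : G} (hv : v ∈ U G m β) : v • θ = θ := by
  have := h.prim
  have hα : (orbit ↥(stabilizer G β) α).ncard = m := by rw [ncard_orbit_symm]; exact hβ
  by_contra hvθ
  have h1 := h.subset_orbit_of_normal (U_le m α) (le_normalizer_U m α) hu huθ
  have h1' : orbit ↥(U G m α) θ ⊆ orbit ↥(stabilizer G β) θ := by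
    intro x hx
    obtain ⟨g, hg, rfl⟩ := mem_orbit_sub.1 hx
    exact mem_orbit_sub.2 ⟨g, by rw [mem_stabilizer_iff]; exact (mem_U.1 hg).2 β hβ, rfl⟩
  have h2 := h.subset_orbit_of_normal (U_le m β) (le_normalizer_U m β) hv hvθ
  have h2' : orbit ↥(U G m β) θ ⊆ orbit ↥(stabilizer G α) θ := by
    intro x hx
    obtain ⟨g, hg, rfl⟩ := mem_orbit_sub.1 hx
    exact mem_orbit_sub.2 ⟨g, by rw [mem_stabilizer_iff]; exact (mem_U.1 hg).2 α hα, rfl⟩
  have h3 : orbit ↥(stabilizer G α) θ = orbit ↥(stabilizer G β) θ :=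
    Set.Subset.antisymm (h1.trans h1') (h2.trans h2')
  have h4 := h.eq_univ_of_invariant hαβ (orbit ↥(stabilizer G α) θ) ⟨θ, mem_orbit_self θ⟩
    (fun g hg x hx => smul_mem_orbit_sub hg hx)
    (fun g hg x hx => by rw [h3] at hx ⊢; exact smul_mem_orbit_sub hg hx)
  have h5 : α ∈ orbit ↥(stabilizer G α) θ := by rw [h4]; exact Set.mem_univ α
  have h6 := eq_of_mem_orbit_stabilizer h5
  apply huθ
  rw [h6]
  exact (mem_U.1 hu).1

/-- the pointwise stabiliser of the largest suborbits is trivial -/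
theorem IsEP.U_eq_bot (h : IsEP G Ω) {α β : Ω} (hαβ : α ≠ β) {m : ℕ}
    (hβ : (orbit ↥(stabilizer G α) β).ncard = m)
    (hm : ∀ x y : Ω, (orbit ↥(stabilizer G x) y).ncard ≤ m) : U G m α = ⊥ := by
  have := h.prim
  have hα : (orbit ↥(stabilizer G β) α).ncard = m := by rw [ncard_orbit_symm]; exact hβ
  by_contra hne
  rw [Subgroup.eq_bot_iff_forall] at hne
  push Not at hne
  obtain ⟨u, hu, hu1⟩ := hne
  obtain ⟨θ, huθ⟩ : ∃ θ : Ω, u • θ ≠ θ := by
    by_contra hcon
    push Not at hcon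
    apply hu1
    apply FaithfulSMul.eq_of_smul_eq_smul (α := Ω)
    intro a
    rw [hcon a, one_smul]
  have hθα : α ≠ θ := by
    intro h0
    apply huθ
    rw [← h0]
    exact (mem_U.1 hu).1
  have hUβα : U G m β ≤ stabilizer G α := fun v hv => by
    rw [mem_stabilizer_iff]; exact (mem_U.1 hv).2 α hα
  -- the normal closure of `U β` in the stabiliser of `α`
  set Z : Subgroup G := Subgroup.closure
    {z | ∃ g ∈ stabilizer G α, ∃ v ∈ U G m β, z = g * v * g⁻¹} with hZ
  have hZle : Z ≤ stabilizer G α := by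
    rw [hZ, Subgroup.closure_le]
    rintro z ⟨g, hg, v, hv, rfl⟩
    exact Subgroup.mul_mem _ (Subgroup.mul_mem _ hg (hUβα hv)) (Subgroup.inv_mem _ hg)
  have hZconj : ∀ g ∈ stabilizer G α, ∀ z ∈ Z, g * z * g⁻¹ ∈ Z := by
    intro g hg z hz
    rw [hZ] at hz
    induction hz using Subgroup.closure_induction with
    | mem z hz =>
      obtain ⟨g', hg', v, hv, rfl⟩ := hz
      apply Subgroup.subset_closure
      exact ⟨g * g', Subgroup.mul_mem _ hg hg', v, hv, by group⟩
    | one => rw [mul_one, mul_inv_cancel]; exact Subgroup.one_mem _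
    | mul a b _ _ ha hb =>
      have : g * (a * b) * g⁻¹ = (g * a * g⁻¹) * (g * b * g⁻¹) := by group
      rw [this]; exact Subgroup.mul_mem _ ha hb
    | inv a _ ha =>
      have : g * a⁻¹ * g⁻¹ = (g * a * g⁻¹)⁻¹ := by group
      rw [this]; exact Subgroup.inv_mem _ ha
  have hZn : stabilizer G α ≤ Subgroup.normalizer (Z : Set G) := by
    intro g hg
    rw [Subgroup.mem_normalizer_iff]
    intro z
    refine ⟨hZconj g hg z, fun hz => ?_⟩
    have := hZconj g⁻¹ (Subgroup.inv_mem _ hg) _ hz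
    rw [inv_inv] at this
    have h2 : g⁻¹ * (g * z * g⁻¹) * g = z := by group
    rwa [h2] at this
  have hZθ : ∀ z ∈ Z, z • θ = θ := by
    have : Z ≤ stabilizer G θ := by
      rw [hZ, Subgroup.closure_le]
      rintro z ⟨g, hg, v, hv, rfl⟩
      have hg' : g⁻¹ ∈ stabilizer G α := Subgroup.inv_mem _ hg
      have hu' : g⁻¹ * u * g⁻¹⁻¹ ∈ U G m α := conj_mem_U hg' hu
      have hmove : (g⁻¹ * u * g⁻¹⁻¹) • (g⁻¹ • θ) ≠ g⁻¹ • θ := by
        rw [inv_inv, mul_smul, mul_smul, smul_inv_smul]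
        intro h0
        exact huθ (MulAction.injective g⁻¹ h0)
      have hfix := h.claimB hαβ hβ hu' hmove hv
      show (g * v * g⁻¹) • θ = θ
      rw [mul_smul, mul_smul, hfix, smul_inv_smul]
    intro z hz
    exact this hz
  have hUβle : U G m β ≤ U G m α := by
    intro v hv
    have hvZ : v ∈ Z := by
      apply Subgroup.subset_closure
      exact ⟨1, Subgroup.one_mem _, v, hv, by group⟩
    refine mem_U.2 ⟨hUβα hv, fun y hy => ?_⟩
    exact h.fixes_of_max hθα hZle hZn hZθ (by intro x y'; rw [hy]; exact hm x y') hvZ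
  obtain ⟨g, hg⟩ := exists_smul_eq G α β
  have hmap : (U G m α).map (MulAut.conj g).toMonoidHom ≤ U G m β := by
    rintro _ ⟨w, hw, rfl⟩
    have := conj_mem_U_smul g hw
    rw [hg] at this
    exact this
  have hcard : Nat.card ↥((U G m α).map (MulAut.conj g).toMonoidHom) = Nat.card ↥(U G m α) :=
    Subgroup.card_map_of_injective (MulAut.conj g).injective
  have hUeq : U G m β = U G m α := by
    apply Subgroup.eq_of_le_of_card_ge hUβle
    rw [← hcard]
    exact Subgroup.card_le_of_le hmap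
  have hnorm : Subgroup.normalizer (U G m α : Set G) = ⊤ := by
    rw [eq_top_iff, ← h.sup_eq_top hαβ, sup_le_iff]
    refine ⟨le_normalizer_U m α, ?_⟩
    have := le_normalizer_U (G := G) m β
    rwa [hUeq] at this
  apply hu1
  apply FaithfulSMul.eq_of_smul_eq_smul (α := Ω)
  intro x
  obtain ⟨g', rfl⟩ := exists_smul_eq G α x
  have hg' : g'⁻¹ ∈ Subgroup.normalizer (U G m α : Set G) := by rw [hnorm]; exact Subgroup.mem_top _
  have h1 := (Subgroup.mem_normalizer_iff.1 hg' u).1 hu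
  rw [inv_inv] at h1
  have h2 := (mem_U.1 h1).1
  rw [mul_smul, mul_smul] at h2
  have h3 := congrArg (fun z => g' • z) h2
  simp only [smul_inv_smul] at h3
  rw [h3, one_smul]

/-- **Manning**: in an extremely primitive group a point stabiliser acts faithfully on each of its
non-trivial orbits -/
theorem IsEP.eq_one_of_fixes (h : IsEP G Ω) {α ω : Ω} (hω : ω ≠ α) {k : G}
    (hk : k ∈ stabilizer G α) (hfix : ∀ x ∈ orbit ↥(stabilizer G α) ω, k • x = x) : k = 1 := by
  have := h.prim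
  have : Nonempty Ω := ⟨α⟩
  obtain ⟨θ₀, hθ₀⟩ := Finite.exists_max (fun y : Ω => (orbit ↥(stabilizer G α) y).ncard)
  have hm : ∀ x y : Ω, (orbit ↥(stabilizer G x) y).ncard ≤ (orbit ↥(stabilizer G α) θ₀).ncard := by
    intro x y
    obtain ⟨g, rfl⟩ := exists_smul_eq G α x
    have := ncard_orbit_conj g α (g⁻¹ • y)
    rw [smul_inv_smul] at this
    rw [this]
    exact hθ₀ _
  -- the maximal size is at least two
  have hαθ₀ : α ≠ θ₀ := by
    intro h0
    have h1 := h.ne_bot α
    rw [Ne, Subgroup.eq_bot_iff_forall] at h1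
    push Not at h1
    obtain ⟨s, hs, hs1⟩ := h1
    obtain ⟨y, hy⟩ : ∃ y : Ω, s • y ≠ y := by
      by_contra hcon
      push Not at hcon
      apply hs1
      apply FaithfulSMul.eq_of_smul_eq_smul (α := Ω)
      intro a
      rw [hcon a, one_smul]
    have h2 : 1 < (orbit ↥(stabilizer G α) y).ncard := by
      rw [Set.one_lt_ncard_iff (Set.toFinite _)]
      exact ⟨s • y, y, mem_orbit_sub.2 ⟨s, hs, rfl⟩, mem_orbit_self y, hy⟩
    have h3 : (orbit ↥(stabilizer G α) θ₀).ncard = 1 := by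
      rw [← h0]
      have : orbit ↥(stabilizer G α) α = {α} := by
        ext x
        rw [mem_orbit_sub, Set.mem_singleton_iff]
        constructor
        · rintro ⟨g, hg, rfl⟩
          exact hg
        · rintro rfl
          exact ⟨1, Subgroup.one_mem _, one_smul _ _⟩
      rw [this, Set.ncard_singleton]
    have h4 : (orbit ↥(stabilizer G α) y).ncard ≤ (orbit ↥(stabilizer G α) θ₀).ncard := hθ₀ y
    omega
  have hU := h.U_eq_bot hαθ₀ rfl hm
  -- the kernel of the action on the orbit of `ω`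
  let K : Subgroup G :=
    { carrier := {k | k • α = α ∧ ∀ x ∈ orbit ↥(stabilizer G α) ω, k • x = x}
      one_mem' := ⟨one_smul _ _, fun x _ => one_smul _ _⟩
      mul_mem' := by
        rintro a b ⟨ha, ha'⟩ ⟨hb, hb'⟩
        exact ⟨by rw [mul_smul, hb, ha], fun y hy => by rw [mul_smul, hb' y hy, ha' y hy]⟩
      inv_mem' := by
        rintro a ⟨ha, ha'⟩
        exact ⟨by rw [inv_smul_eq_iff, ha], fun y hy => by rw [inv_smul_eq_iff, ha' y hy]⟩ }
  have hkK : k ∈ K := ⟨hk, hfix⟩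
  have hKle : K ≤ stabilizer G α := fun _ ha => ha.1
  have hKconj : ∀ g ∈ stabilizer G α, ∀ z ∈ K, g * z * g⁻¹ ∈ K := by
    intro g hg z hz
    have hg' : g⁻¹ ∈ stabilizer G α := Subgroup.inv_mem _ hg
    refine ⟨?_, fun x hx => ?_⟩
    · rw [mem_stabilizer_iff] at hg hg'
      rw [mul_smul, mul_smul, hg', hz.1, hg]
    · rw [mul_smul, mul_smul, hz.2 _ (smul_mem_orbit_sub hg' hx), smul_inv_smul]
  have hKn : stabilizer G α ≤ Subgroup.normalizer (K : Set G) := by
    intro g hg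
    rw [Subgroup.mem_normalizer_iff]
    intro z
    refine ⟨hKconj g hg z, fun hz => ?_⟩
    have := hKconj g⁻¹ (Subgroup.inv_mem _ hg) _ hz
    rw [inv_inv] at this
    have h2 : g⁻¹ * (g * z * g⁻¹) * g = z := by group
    rwa [h2] at this
  have hKω : ∀ z ∈ K, z • ω = ω := fun z hz => hz.2 ω (mem_orbit_self ω)
  have hkU : k ∈ U G (orbit ↥(stabilizer G α) θ₀).ncard α := by
    refine mem_U.2 ⟨hk, fun y hy => ?_⟩
    exact h.fixes_of_max hω.symm hKle hKn hKω (by intro x y'; rw [hy]; exact hm x y') hkK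
  rw [hU, Subgroup.mem_bot] at hkU
  exact hkU

end Main

section Normal

variable [Finite G] [Finite Ω] [FaithfulSMul G Ω]

/-- a non-trivial normal subgroup of a point stabiliser has the same orbits as the stabiliser -/
theorem IsEP.orbit_eq_of_normal (h : IsEP G Ω) {α : Ω} {M : Subgroup G} (hM : M ≠ ⊥)
    (hMle : M ≤ stabilizer G α) (hMn : stabilizer G α ≤ Subgroup.normalizer (M : Set G))
    (ω : Ω) : orbit ↥M ω = orbit ↥(stabilizer G α) ω := by
  apply Set.Subset.antisymm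
  · intro x hx
    obtain ⟨g, hg, rfl⟩ := mem_orbit_sub.1 hx
    exact mem_orbit_sub.2 ⟨g, hMle hg, rfl⟩
  · by_cases hω : ω = α
    · intro x hx
      obtain ⟨g, hg, rfl⟩ := mem_orbit_sub.1 hx
      rw [hω]
      rw [mem_stabilizer_iff] at hg
      rw [hg]
      exact mem_orbit_self α
    · rw [Ne, Subgroup.eq_bot_iff_forall] at hM
      push Not at hM
      obtain ⟨k, hk, hk1⟩ := hM
      obtain ⟨x, hx, hkx⟩ : ∃ x ∈ orbit ↥(stabilizer G α) ω, k • x ≠ x := by
        by_contra hcon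
        push Not at hcon
        exact hk1 (h.eq_one_of_fixes hω (hMle hk) hcon)
      have h1 := h.subset_orbit_of_normal hMle hMn hk hkx
      have h2 : orbit ↥(stabilizer G α) x = orbit ↥(stabilizer G α) ω := orbit_eq_iff.2 hx
      rw [h2] at h1
      have h3 : orbit ↥M ω = orbit ↥M x := orbit_eq_iff.2 (h1 (mem_orbit_self ω))
      rw [h3]
      exact h1

/-- a non-trivial normal subgroup of a point stabiliser acts irreducibly on a regular subgroup -/
theorem IsEP.eq_bot_or_eq_of_normal (h : IsEP G Ω) {N : Subgroup G}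
    (hNreg : ∀ n ∈ N, ∀ ω : Ω, n • ω = ω → n = 1) {α : Ω} {M : Subgroup G} (hM : M ≠ ⊥)
    (hMle : M ≤ stabilizer G α) (hMn : stabilizer G α ≤ Subgroup.normalizer (M : Set G))
    {L : Subgroup G} (hL : L ≤ N) (hLn : M ≤ Subgroup.normalizer (L : Set G)) :
    L = ⊥ ∨ L = N := by
  by_cases hL0 : L = ⊥
  · exact Or.inl hL0
  right
  rw [Subgroup.eq_bot_iff_forall] at hL0
  push Not at hL0
  obtain ⟨l, hl, hl1⟩ := hL0
  have hlα : α ≠ l • α := fun h0 => hl1 (hNreg l (hL hl) α h0.symm)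
  -- the orbit of `α` under `L` is invariant under `M`, hence under the stabiliser of `α`
  have hMinv : ∀ k ∈ M, ∀ x ∈ orbit ↥L α, k • x ∈ orbit ↥L α := by
    intro k hk x hx
    obtain ⟨l', hl', rfl⟩ := mem_orbit_sub.1 hx
    have h1 : k * l' * k⁻¹ ∈ L := (Subgroup.mem_normalizer_iff.1 (hLn hk) l').1 hl'
    refine mem_orbit_sub.2 ⟨k * l' * k⁻¹, h1, ?_⟩
    have hkα : k⁻¹ • α = α := by
      have := (stabilizer G α).inv_mem (hMle hk)
      rwa [mem_stabilizer_iff] at this
    rw [mul_smul, mul_smul, hkα]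
  have hSinv : ∀ g ∈ stabilizer G α, ∀ x ∈ orbit ↥L α, g • x ∈ orbit ↥L α := by
    intro g hg x hx
    have h1 : g • x ∈ orbit ↥(stabilizer G α) x := mem_orbit_sub.2 ⟨g, hg, rfl⟩
    rw [← h.orbit_eq_of_normal hM hMle hMn x] at h1
    obtain ⟨k, hk, hkx⟩ := mem_orbit_sub.1 h1
    rw [← hkx]
    exact hMinv k hk x hx
  have hLinv : ∀ g ∈ L, ∀ x ∈ orbit ↥L α, g • x ∈ orbit ↥L α :=
    fun g hg x hx => smul_mem_orbit_sub hg hx
  have hSβinv : ∀ g ∈ stabilizer G (l • α), ∀ x ∈ orbit ↥L α, g • x ∈ orbit ↥L α := by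
    intro g hg x hx
    have h1 : l⁻¹ * g * l ∈ stabilizer G α := by
      rw [mem_stabilizer_iff] at hg ⊢
      rw [mul_smul, mul_smul, hg, inv_smul_smul]
    have h2 := hLinv l hl _ (hSinv _ h1 _ (hLinv l⁻¹ (L.inv_mem hl) x hx))
    rw [← mul_smul, ← mul_smul] at h2
    have h3 : l * (l⁻¹ * g * l) * l⁻¹ = g := by group
    rwa [h3] at h2
  have huniv := h.eq_univ_of_invariant hlα (orbit ↥L α) ⟨α, mem_orbit_self α⟩ hSinv hSβinv
  apply le_antisymm hL
  intro n hn
  have h1 : n • α ∈ orbit ↥L α := by rw [huniv]; exact Set.mem_univ _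
  obtain ⟨l', hl', hl'α⟩ := mem_orbit_sub.1 h1
  have h2 : l'⁻¹ * n = 1 := by
    apply hNreg _ (N.mul_mem (N.inv_mem (hL hl')) hn) α
    rw [mul_smul, ← hl'α, inv_smul_smul]
  have h3 : n = l' := by
    have := congrArg (fun z => l' * z) h2
    simpa using this
  rw [h3]
  exact hl'

end Normal

end Cfsg.Agent.Helper17.ExtPrim
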