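import Mathlib
import Cfsg.Prelude.Def_Solvable
import Cfsg.Agent.Lib.Helper7.Fitting
import Cfsg.Agent.Lib.Helper17.ExtPrim

/-!
# Extremely primitive groups: centre and Fitting subgroup of a point stabiliser (helper17)

An abelian normal subgroup of the point stabiliser `H` is self-centralising and its order divides
the degree minus one.  Hence `Z(H) = 1` unless `H` has prime order, and `F(H)` is elementary
abelian, self-centralising, so `H / F(H)` embeds in `GL_e(p)`.
-/

set_option autoImplicit false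

namespace Cfsg.Agent.Helper17.ExtPrim
open MulAction

section Abstract

variable {H : Type*} [Group H]

/-- every non-trivial abelian normal subgroup contains its centraliser -/
def SelfCent (H : Type*) [Group H] : Prop :=
  ∀ N : Subgroup H, N.Normal → N ≠ ⊥ → (∀ a ∈ N, ∀ b ∈ N, a * b = b * a) →
    ∀ g : H, (∀ a ∈ N, g * a = a * g) → g ∈ N

theorem center_eq_bot_of_selfCent [Finite H] (hP : SelfCent H) (hnp : ¬ (Nat.card H).Prime) :
    Subgroup.center H = ⊥ := by
  by_contra hZ
  have hall : ∀ g : H, g ∈ Subgroup.center H := fun g =>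
    hP (Subgroup.center H) inferInstance hZ
      (fun a _ b hb => Subgroup.mem_center_iff.1 hb a) g
      (fun a ha => Subgroup.mem_center_iff.1 ha g)
  have hcomm : ∀ a b : H, a * b = b * a := fun a b => Subgroup.mem_center_iff.1 (hall b) a
  have hnt : Nat.card H ≠ 1 := by
    intro h1
    apply hZ
    have : Subsingleton H := (Nat.card_eq_one_iff_unique.1 h1).1
    exact Subsingleton.elim _ _
  obtain ⟨q, hq, hqd⟩ := Nat.exists_prime_and_dvd hnt
  haveI : Fact q.Prime := ⟨hq⟩
  obtain ⟨y, hy⟩ := exists_prime_orderOf_dvd_card' q hqd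
  have hN : (Subgroup.zpowers y).Normal := by
    constructor
    intro n hn g
    rw [hcomm g n, mul_assoc, mul_inv_cancel, mul_one]
    exact hn
  have hy1 : y ≠ 1 := by
    intro h0
    rw [h0, orderOf_one] at hy
    exact hq.one_lt.ne hy
  have hNne : Subgroup.zpowers y ≠ ⊥ := by
    intro h0
    apply hy1
    have : y ∈ Subgroup.zpowers y := Subgroup.mem_zpowers y
    rw [h0, Subgroup.mem_bot] at this
    exact this
  have htop : Subgroup.zpowers y = ⊤ := by
    rw [eq_top_iff]
    intro g _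
    exact hP _ hN hNne (fun a _ b _ => hcomm a b) g (fun a _ => hcomm g a)
  apply hnp
  have h1 : Nat.card ↥(Subgroup.zpowers y) = Nat.card H := by
    rw [htop]; exact Subgroup.card_top
  rw [← h1, Nat.card_zpowers, hy]
  exact hq

theorem fitting_of_selfCent [Finite H] (hP : SelfCent H) (hF : Cfsg.fittingSubgroup H ≠ ⊥) :
    (∀ a ∈ Cfsg.fittingSubgroup H, ∀ b ∈ Cfsg.fittingSubgroup H, a * b = b * a) ∧
    (∀ g : H, (∀ a ∈ Cfsg.fittingSubgroup H, g * a = a * g) → g ∈ Cfsg.fittingSubgroup H) ∧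
    ∃ p : ℕ, p.Prime ∧ ∀ x ∈ Cfsg.fittingSubgroup H, x ^ p = 1 := by
  set F := Cfsg.fittingSubgroup H with hFdef
  haveI hFn : F.Normal := Cfsg.Agent.Helper7.fittingSubgroup_normal'
  haveI hFnil : Group.IsNilpotent ↥F := Cfsg.Agent.Helper7.fittingSubgroup_isNilpotent
  haveI : Nontrivial ↥F := by
    rw [Subgroup.nontrivial_iff_ne_bot]
    exact hF
  have hZne : Subgroup.center ↥F ≠ ⊥ := Group.IsNilpotent.center_ne_bot _
  have hZFn : ((Subgroup.center ↥F).map F.subtype).Normal :=
    ConjAct.normal_of_characteristic_of_normal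
  have hZFne : (Subgroup.center ↥F).map F.subtype ≠ ⊥ := by
    intro h0
    apply hZne
    rw [Subgroup.map_eq_bot_iff_of_injective _ F.subtype_injective] at h0
    exact h0
  have hZFc : ∀ f ∈ F, ∀ a ∈ (Subgroup.center ↥F).map F.subtype, f * a = a * f := by
    rintro f hf _ ⟨z, hz, rfl⟩
    have := Subgroup.mem_center_iff.1 hz ⟨f, hf⟩
    exact congrArg Subtype.val this
  have hFle : F ≤ (Subgroup.center ↥F).map F.subtype := by
    intro f hf
    refine hP _ hZFn hZFne ?_ f (hZFc f hf)
    rintro _ ⟨z, hz, rfl⟩ _ ⟨z', _, rfl⟩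
    have := Subgroup.mem_center_iff.1 hz z'
    exact (congrArg Subtype.val this).symm
  have hcomm : ∀ a ∈ F, ∀ b ∈ F, a * b = b * a := by
    intro a ha b hb
    exact hZFc a ha b (hFle hb)
  have hcent : ∀ g : H, (∀ a ∈ F, g * a = a * g) → g ∈ F :=
    fun g hg => hP F hFn hF hcomm g hg
  refine ⟨hcomm, hcent, ?_⟩
  have hnt : Nat.card ↥F ≠ 1 := by
    intro h1
    have : Subsingleton ↥F := (Nat.card_eq_one_iff_unique.1 h1).1
    exact not_subsingleton ↥F this
  obtain ⟨p, hp, hpd⟩ := Nat.exists_prime_and_dvd hnt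
  haveI : Fact p.Prime := ⟨hp⟩
  obtain ⟨y, hy⟩ := exists_prime_orderOf_dvd_card' p hpd
  refine ⟨p, hp, ?_⟩
  -- the elements of order dividing `p`
  let Fp : Subgroup H :=
    { carrier := {x | x ∈ F ∧ x ^ p = 1}
      one_mem' := ⟨F.one_mem, one_pow p⟩
      mul_mem' := by
        rintro a b ⟨ha, ha'⟩ ⟨hb, hb'⟩
        refine ⟨F.mul_mem ha hb, ?_⟩
        have hc : Commute a b := hcomm a ha b hb
        rw [hc.mul_pow, ha', hb', one_mul]
      inv_mem' := by
        rintro a ⟨ha, ha'⟩
        exact ⟨F.inv_mem ha, by rw [inv_pow, ha', inv_one]⟩ }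
  have hFpn : Fp.Normal := by
    constructor
    rintro n ⟨hn, hn'⟩ g
    refine ⟨hFn.conj_mem n hn g, ?_⟩
    rw [conj_pow, hn', mul_one, mul_inv_cancel]
  have hy1 : (y : H) ≠ 1 := by
    intro h0
    have : y = 1 := Subtype.ext h0
    rw [this, orderOf_one] at hy
    exact hp.one_lt.ne hy
  have hFpne : Fp ≠ ⊥ := by
    intro h0
    apply hy1
    have hyp : (y : H) ∈ Fp := by
      refine ⟨y.2, ?_⟩
      have := pow_orderOf_eq_one y
      rw [hy] at this
      exact congrArg Subtype.val this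
    rw [h0, Subgroup.mem_bot] at hyp
    exact hyp
  intro x hx
  have hxFp : x ∈ Fp :=
    hP Fp hFpn hFpne (fun a ha b hb => hcomm a ha.1 b hb.1) x (fun a ha => hcomm x hx a ha.1)
  exact hxFp.2

end Abstract

section GLEmb

open Matrix

/-- endomorphisms of a `ZMod p`-module of order `p ^ e` as matrices -/
theorem exists_injective_matrix' {W : Type*} [AddCommGroup W] (p e : ℕ) [Fact p.Prime]
    [Module (ZMod p) W] [Finite W] (hcard : Nat.card W = p ^ e) :
    ∃ ρ : Module.End (ZMod p) W →* Matrix (Fin e) (Fin e) (ZMod p), Function.Injective ρ := by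
  classical
  have hp : p.Prime := Fact.out
  haveI : Module.Finite (ZMod p) W := Module.Finite.of_finite
  have hfr : Module.finrank (ZMod p) W = e := by
    have h1 := Module.natCard_eq_pow_finrank (K := ZMod p) (V := W)
    rw [hcard, Nat.card_zmod] at h1
    exact (Nat.pow_right_injective hp.two_le h1).symm
  let B : Module.Basis (Fin e) (ZMod p) W := Module.finBasisOfFinrankEq _ _ hfr
  exact ⟨((LinearMap.toMatrixAlgEquiv B : Module.End (ZMod p) W ≃ₐ[ZMod p] _) :
      Module.End (ZMod p) W →* _), (LinearMap.toMatrixAlgEquiv B).injective⟩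

theorem exists_injective_GL_module {V : Type*} [CommGroup V] [Finite V] (p e : ℕ) [Fact p.Prime]
    [Module (ZMod p) (Additive V)] (hcard : Nat.card V = p ^ e) :
    ∃ ρ : MulAut V →* GL (Fin e) (ZMod p), Function.Injective ρ := by
  classical
  haveI : Finite (Additive V) := inferInstanceAs (Finite V)
  obtain ⟨ρ₁, hρ₁⟩ := exists_injective_matrix' (W := Additive V) p e hcard
  let linHom : MulAut V →* Module.End (ZMod p) (Additive V) :=
    { toFun := fun α => (MonoidHom.toAdditive α.toMonoidHom).toZModLinearMap p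
      map_one' := LinearMap.ext fun v => by simp
      map_mul' := fun α β => LinearMap.ext fun v => by simp [Module.End.mul_apply] }
  refine ⟨(ρ₁.comp linHom).toHomUnits, ?_⟩
  intro α β hαβ
  have h1 : (ρ₁.comp linHom) α = (ρ₁.comp linHom) β := by
    have := congrArg (fun g : GL (Fin e) (ZMod p) => (g : Matrix (Fin e) (Fin e) (ZMod p))) hαβ
    simpa using this
  have h2 : linHom α = linHom β := hρ₁ h1
  ext v
  have := LinearMap.congr_fun h2 (Additive.ofMul v)
  exact this

/-- the automorphism group of an elementary abelian group of order `p ^ e` embeds in `GL_e(p)` -/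
theorem exists_injective_GL {V : Type*} [Group V] [Finite V] (p e : ℕ) [Fact p.Prime]
    (hcomm : ∀ a b : V, a * b = b * a) (hexp : ∀ x : V, x ^ p = 1) (hcard : Nat.card V = p ^ e) :
    ∃ ρ : MulAut V →* GL (Fin e) (ZMod p), Function.Injective ρ := by
  letI : CommGroup V := { (inferInstance : Group V) with mul_comm := hcomm }
  letI : Module (ZMod p) (Additive V) := AddCommGroup.zmodModule (n := p) (fun v => by
    show Additive.ofMul (Additive.toMul v ^ p) = 0
    rw [hexp]; rfl)
  exact exists_injective_GL_module p e hcard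

end GLEmb

section Stab

variable {G : Type*} [Group G] [Finite G] {Ω : Type*} [MulAction G Ω] [Finite Ω]
  [FaithfulSMul G Ω]

/-- an abelian subgroup of the stabiliser of `α` normalised by it acts freely off `α` -/
theorem IsEP.eq_one_of_smul_eq (h : IsEP G Ω) {α : Ω} {A : Subgroup G}
    (hAle : A ≤ stabilizer G α) (hAn : stabilizer G α ≤ Subgroup.normalizer (A : Set G))
    (hAc : ∀ a ∈ A, ∀ b ∈ A, a * b = b * a) {a : G} (ha : a ∈ A) {x : Ω} (hx : x ≠ α)
    (hax : a • x = x) : a = 1 := by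
  by_cases hA : A = ⊥
  · rw [hA, Subgroup.mem_bot] at ha
    exact ha
  apply h.eq_one_of_fixes hx (hAle ha)
  intro y hy
  rw [← h.orbit_eq_of_normal hA hAle hAn x] at hy
  obtain ⟨c, hc, rfl⟩ := mem_orbit_sub.1 hy
  rw [← mul_smul, hAc a ha c hc, mul_smul, hax]

/-- an abelian non-trivial subgroup of the stabiliser normalised by it is self-centralising -/
theorem IsEP.mem_of_centralizes (h : IsEP G Ω) {α : Ω} {A : Subgroup G} (hA : A ≠ ⊥)
    (hAle : A ≤ stabilizer G α) (hAn : stabilizer G α ≤ Subgroup.normalizer (A : Set G))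
    (hAc : ∀ a ∈ A, ∀ b ∈ A, a * b = b * a) {g : G} (hg : g ∈ stabilizer G α)
    (hgc : ∀ a ∈ A, g * a = a * g) : g ∈ A := by
  have := h.nontrivial α
  obtain ⟨ω, hω⟩ := exists_ne α
  have h1 : g • ω ∈ orbit ↥(stabilizer G α) ω := mem_orbit_sub.2 ⟨g, hg, rfl⟩
  rw [← h.orbit_eq_of_normal hA hAle hAn ω] at h1
  obtain ⟨b, hb, hbω⟩ := mem_orbit_sub.1 h1
  have hk : b⁻¹ * g = 1 := by
    apply h.eq_one_of_fixes hω
      (Subgroup.mul_mem _ (Subgroup.inv_mem _ (hAle hb)) hg)
    intro y hy
    rw [← h.orbit_eq_of_normal hA hAle hAn ω] at hy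
    obtain ⟨c, hc, rfl⟩ := mem_orbit_sub.1 hy
    calc (b⁻¹ * g) • c • ω = (b⁻¹ * (g * c)) • ω := by rw [← mul_smul, mul_assoc]
      _ = (b⁻¹ * (c * g)) • ω := by rw [hgc c hc]
      _ = (b⁻¹ * c) • g • ω := by rw [← mul_assoc, mul_smul]
      _ = (b⁻¹ * c) • b • ω := by rw [hbω]
      _ = (b⁻¹ * (c * b)) • ω := by rw [← mul_smul, mul_assoc]
      _ = (b⁻¹ * (b * c)) • ω := by rw [hAc c hc b hb]
      _ = c • ω := by rw [inv_mul_cancel_left]
  have : g = b := by
    have := congrArg (fun z => b * z) hk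
    simpa using this
  rw [this]
  exact hb

/-- the order of an abelian subgroup of the stabiliser normalised by it divides the degree minus
one -/
theorem IsEP.card_dvd (h : IsEP G Ω) {α : Ω} {A : Subgroup G}
    (hAle : A ≤ stabilizer G α) (hAn : stabilizer G α ≤ Subgroup.normalizer (A : Set G))
    (hAc : ∀ a ∈ A, ∀ b ∈ A, a * b = b * a) : Nat.card ↥A ∣ Nat.card Ω - 1 := by
  letI : MulAction ↥A {x : Ω // x ≠ α} :=
    { smul := fun a x => ⟨(a : G) • x.1, fun h0 => x.2 (by
        have ha : (a : G) • α = α := mem_stabilizer_iff.1 (hAle a.2)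
        exact MulAction.injective (a : G) (h0.trans ha.symm))⟩
      one_smul := fun x => Subtype.ext (one_smul G x.1)
      mul_smul := fun a b x => Subtype.ext (mul_smul (a : G) (b : G) x.1) }
  have hfree : ∀ x : {x : Ω // x ≠ α}, stabilizer ↥A x = ⊥ := by
    intro x
    rw [Subgroup.eq_bot_iff_forall]
    intro a ha
    rw [mem_stabilizer_iff] at ha
    have h1 : (a : G) • x.1 = x.1 := congrArg Subtype.val ha
    exact Subtype.ext (h.eq_one_of_smul_eq hAle hAn hAc a.2 x.2 h1)
  have e := selfEquivOrbitsQuotientProd hfree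
  have h1 : Nat.card {x : Ω // x ≠ α} = Nat.card Ω - 1 := by
    have h2 : Nat.card {x : Ω // x ≠ α} = ({α}ᶜ : Set Ω).ncard := Nat.card_coe_set_eq _
    rw [h2, Set.ncard_compl, Set.ncard_singleton]
  rw [← h1, Nat.card_congr e, Nat.card_prod]
  exact Dvd.intro_left _ rfl

/-- the point stabiliser, as a group, has the property `SelfCent` -/
theorem IsEP.selfCent (h : IsEP G Ω) (α : Ω) : SelfCent ↥(stabilizer G α) := by
  intro N hN hNne hNc γ hγ
  have hAle : N.map (stabilizer G α).subtype ≤ stabilizer G α := Subgroup.map_subtype_le N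
  have hconj : ∀ g ∈ stabilizer G α, ∀ x ∈ N.map (stabilizer G α).subtype,
      g * x * g⁻¹ ∈ N.map (stabilizer G α).subtype := by
    rintro g hg _ ⟨n, hn, rfl⟩
    exact ⟨⟨g, hg⟩ * n * ⟨g, hg⟩⁻¹, hN.conj_mem n hn ⟨g, hg⟩, rfl⟩
  have hAn : stabilizer G α ≤ Subgroup.normalizer (N.map (stabilizer G α).subtype : Set G) := by
    intro g hg
    rw [Subgroup.mem_normalizer_iff]
    intro z
    refine ⟨hconj g hg z, fun hz => ?_⟩
    have := hconj g⁻¹ (Subgroup.inv_mem _ hg) _ hz
    rw [inv_inv] at this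
    have h2 : g⁻¹ * (g * z * g⁻¹) * g = z := by group
    rwa [h2] at this
  have hAne : N.map (stabilizer G α).subtype ≠ ⊥ := by
    intro h0
    apply hNne
    rwa [Subgroup.map_eq_bot_iff_of_injective _ (stabilizer G α).subtype_injective] at h0
  have hAc : ∀ a ∈ N.map (stabilizer G α).subtype, ∀ b ∈ N.map (stabilizer G α).subtype,
      a * b = b * a := by
    rintro _ ⟨a, ha, rfl⟩ _ ⟨b, hb, rfl⟩
    exact congrArg Subtype.val (hNc a ha b hb)
  have hmem := h.mem_of_centralizes hAne hAle hAn hAc γ.2 (by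
    rintro _ ⟨a, ha, rfl⟩
    exact congrArg Subtype.val (hγ a ha))
  obtain ⟨n, hn, hnγ⟩ := hmem
  have : n = γ := Subtype.ext hnγ
  rw [← this]
  exact hn

/-- the order of an abelian normal subgroup of the point stabiliser divides the degree minus one -/
theorem IsEP.card_dvd' (h : IsEP G Ω) (α : Ω) (N : Subgroup ↥(stabilizer G α)) [hN : N.Normal]
    (hNc : ∀ a ∈ N, ∀ b ∈ N, a * b = b * a) : Nat.card ↥N ∣ Nat.card Ω - 1 := by
  have hAle : N.map (stabilizer G α).subtype ≤ stabilizer G α := Subgroup.map_subtype_le N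
  have hconj : ∀ g ∈ stabilizer G α, ∀ x ∈ N.map (stabilizer G α).subtype,
      g * x * g⁻¹ ∈ N.map (stabilizer G α).subtype := by
    rintro g hg _ ⟨n, hn, rfl⟩
    exact ⟨⟨g, hg⟩ * n * ⟨g, hg⟩⁻¹, hN.conj_mem n hn ⟨g, hg⟩, rfl⟩
  have hAn : stabilizer G α ≤ Subgroup.normalizer (N.map (stabilizer G α).subtype : Set G) := by
    intro g hg
    rw [Subgroup.mem_normalizer_iff]
    intro z
    refine ⟨hconj g hg z, fun hz => ?_⟩
    have := hconj g⁻¹ (Subgroup.inv_mem _ hg) _ hz
    rw [inv_inv] at this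
    have h2 : g⁻¹ * (g * z * g⁻¹) * g = z := by group
    rwa [h2] at this
  have hAc : ∀ a ∈ N.map (stabilizer G α).subtype, ∀ b ∈ N.map (stabilizer G α).subtype,
      a * b = b * a := by
    rintro _ ⟨a, ha, rfl⟩ _ ⟨b, hb, rfl⟩
    exact congrArg Subtype.val (hNc a ha b hb)
  have := h.card_dvd hAle hAn hAc
  rwa [Subgroup.card_map_of_injective (stabilizer G α).subtype_injective] at this

open Matrix in
/-- centre and Fitting subgroup of a point stabiliser of composite order -/
theorem IsEP.stabilizer_structure (h : IsEP G Ω) (α : Ω)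
    (hHp : ¬ (Nat.card ↥(stabilizer G α)).Prime) :
    Subgroup.center ↥(stabilizer G α) = ⊥ ∧
    IsMulCommutative ↥(Cfsg.fittingSubgroup ↥(stabilizer G α)) ∧
    ∃ p e : ℕ, p.Prime ∧ Nat.card ↥(Cfsg.fittingSubgroup ↥(stabilizer G α)) = p ^ e ∧
      (∀ x ∈ Cfsg.fittingSubgroup ↥(stabilizer G α), x ^ p = 1) ∧
      (Cfsg.fittingSubgroup ↥(stabilizer G α) ≠ ⊥ →
        p ^ e ∣ Nat.card Ω - 1 ∧
        ∃ φ : ↥(stabilizer G α) →* GL (Fin e) (ZMod p),
          φ.ker = Cfsg.fittingSubgroup ↥(stabilizer G α)) := by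
  have hP := h.selfCent α
  refine ⟨center_eq_bot_of_selfCent hP hHp, ?_⟩
  by_cases hF : Cfsg.fittingSubgroup ↥(stabilizer G α) = ⊥
  · refine ⟨⟨⟨fun a b => ?_⟩⟩, 2, 0, Nat.prime_two, ?_, ?_, fun h0 => absurd hF h0⟩
    · have hall : ∀ x ∈ Cfsg.fittingSubgroup ↥(stabilizer G α), x = 1 := by
        intro x hx
        rw [hF, Subgroup.mem_bot] at hx
        exact hx
      have ha := hall a a.2
      have hb := hall b b.2
      apply Subtype.ext
      rw [Subgroup.coe_mul, Subgroup.coe_mul, ha, hb]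
    · rw [hF, Subgroup.card_bot, pow_zero]
    · intro x hx
      rw [hF, Subgroup.mem_bot] at hx
      rw [hx, one_pow]
  · obtain ⟨hcomm, hcent, p, hp, hexp⟩ := fitting_of_selfCent hP hF
    haveI : Fact p.Prime := ⟨hp⟩
    haveI hFn : (Cfsg.fittingSubgroup ↥(stabilizer G α)).Normal :=
      Cfsg.Agent.Helper7.fittingSubgroup_normal'
    have hpg : IsPGroup p ↥(Cfsg.fittingSubgroup ↥(stabilizer G α)) := by
      intro x
      refine ⟨1, ?_⟩
      rw [pow_one]
      exact Subtype.ext (hexp x x.2)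
    obtain ⟨e, he⟩ := IsPGroup.iff_card.1 hpg
    refine ⟨⟨⟨fun a b => Subtype.ext (hcomm a a.2 b b.2)⟩⟩, p, e, hp, he, hexp, fun _ => ⟨?_, ?_⟩⟩
    · rw [← he]
      exact h.card_dvd' α _ hcomm
    · obtain ⟨ρ, hρ⟩ := exists_injective_GL
        (V := ↥(Cfsg.fittingSubgroup ↥(stabilizer G α))) p e
        (fun a b => Subtype.ext (hcomm a a.2 b b.2)) (fun x => Subtype.ext (hexp x x.2)) he
      refine ⟨ρ.comp MulAut.conjNormal, ?_⟩
      ext g
      rw [MonoidHom.mem_ker, MonoidHom.comp_apply]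
      constructor
      · intro hg
        have h1 : MulAut.conjNormal g = (1 : MulAut ↥(Cfsg.fittingSubgroup ↥(stabilizer G α))) := by
          apply hρ
          rw [hg, map_one]
        apply hcent
        intro a ha
        have h2 := congrArg (fun f => ((f ⟨a, ha⟩ : ↥(Cfsg.fittingSubgroup ↥(stabilizer G α))) :
          ↥(stabilizer G α))) h1
        simp only [MulAut.conjNormal_apply, MulAut.one_apply] at h2
        calc g * a = g * a * g⁻¹ * g := by group
          _ = a * g := by rw [h2]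
      · intro hg
        have h1 : MulAut.conjNormal g = (1 : MulAut ↥(Cfsg.fittingSubgroup ↥(stabilizer G α))) := by
          ext a
          rw [MulAut.conjNormal_apply, MulAut.one_apply, hcomm g hg a a.2, mul_assoc,
            mul_inv_cancel, mul_one]
        rw [h1, map_one]

end Stab

end Cfsg.Agent.Helper17.ExtPrim
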