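import Mathlib
import Cfsg.Agent.Lib.Helper19.FC5Defs
import Cfsg.Agent.Lib.Helper5.FCQuot

/-!
# S4291 piece CYC (helper17): all Sylow subgroups of `⊤` are cyclic when the Sylow 2-subgroups
of the ambient group are.
-/

set_option autoImplicit false

namespace Cfsg.Agent.Helper17.FC5CYC

open Cfsg Cfsg.Agent.Helper5 Cfsg.Agent.Helper16 Cfsg.Agent.Helper19.FC5

theorem cycSyl_top {G : Type*} [Group G] [Finite G] (hF : FCFacts G)
    (hc : ∀ S : Sylow 2 G, IsCyclic S) : CycSyl (⊤ : Subgroup G) := by
  intro p hp P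
  by_cases hp2 : p = 2
  · subst hp2
    -- the image of `P` in `G`
    have hPimg : IsPGroup 2 ((P : Subgroup (⊤ : Subgroup G)).map (⊤ : Subgroup G).subtype) :=
      P.2.map _
    obtain ⟨S, hS⟩ := hPimg.exists_le_sylow
    haveI : IsCyclic S := hc S
    haveI : IsCyclic (S : Subgroup G) := hc S
    let ψ : (P : Subgroup (⊤ : Subgroup G)) →* (S : Subgroup G) :=
      { toFun := fun u => ⟨((u : (⊤ : Subgroup G)) : G), hS ⟨u.1, u.2, rfl⟩⟩
        map_one' := rfl
        map_mul' := fun _ _ => rfl }
    have hψ : Function.Injective ψ := by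
      intro u v huv
      have := congrArg (fun z : (S : Subgroup G) => (z : G)) huv
      exact Subtype.ext (Subtype.ext this)
    exact isCyclic_of_injective ψ hψ
  · have hodd : Odd p := hp.out.odd_of_ne_two hp2
    have hFP : FCFacts (P : Subgroup (⊤ : Subgroup G)) := (hF.subgroup _).subgroup _
    exact hFP.isCyclic_of_isPGroup_odd hodd P.2

end Cfsg.Agent.Helper17.FC5CYC
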