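import Mathlib

/-!
# S4291 piece QD (helper17): a generalized quaternion group maps onto the four-group with
cyclic kernel.
-/

set_option autoImplicit false

namespace Cfsg.Agent.Helper17.FC5QD

open QuaternionGroup DihedralGroup

/-- the reduction mod 2 on the index ring -/
noncomputable def cst (n : ℕ) : ZMod (2 * 2 ^ n) →+* ZMod 2 :=
  ZMod.castHom (Dvd.intro _ rfl) (ZMod 2)

theorem cst_pow (n : ℕ) (hn : 1 ≤ n) : cst n ((2 ^ n : ℕ) : ZMod (2 * 2 ^ n)) = 0 := by
  rw [map_natCast]
  obtain ⟨k, rfl⟩ : ∃ k, n = k + 1 := ⟨n - 1, by omega⟩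
  rw [pow_succ]
  push_cast
  have : (2 : ZMod 2) = 0 := by decide
  rw [this, mul_zero]

/-- the underlying function -/
noncomputable def qfun (n : ℕ) : QuaternionGroup (2 ^ n) → DihedralGroup 2
  | a i => r (cst n i)
  | xa i => sr (cst n i)

theorem qfun_mul (n : ℕ) (hn : 1 ≤ n) (x y : QuaternionGroup (2 ^ n)) :
    qfun n (x * y) = qfun n x * qfun n y := by
  rcases x with i | i <;> rcases y with j | j
  · rw [QuaternionGroup.a_mul_a]; simp only [qfun, map_add, DihedralGroup.r_mul_r]
  · rw [QuaternionGroup.a_mul_xa]; simp only [qfun, map_sub, DihedralGroup.r_mul_sr]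
  · rw [QuaternionGroup.xa_mul_a]; simp only [qfun, map_add, DihedralGroup.sr_mul_r]
  · rw [QuaternionGroup.xa_mul_xa]
    simp only [qfun, map_add, map_sub, DihedralGroup.sr_mul_sr]
    rw [cst_pow n hn, zero_add]

theorem exists_hom_dihedral_two (n : ℕ) (hn : 1 ≤ n) :
    ∃ q : QuaternionGroup (2 ^ n) →* DihedralGroup 2, Function.Surjective q ∧ IsCyclic q.ker := by
  have h1 : qfun n 1 = 1 := by
    have : (1 : QuaternionGroup (2 ^ n)) = a 0 := rfl
    rw [this]; simp only [qfun, map_zero]; rfl
  let q : QuaternionGroup (2 ^ n) →* DihedralGroup 2 :=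
    { toFun := qfun n
      map_one' := h1
      map_mul' := qfun_mul n hn }
  refine ⟨q, ?_, ?_⟩
  · have hs : Function.Surjective (cst n) :=
      ZMod.castHom_surjective _
    intro y
    rcases y with j | j
    · obtain ⟨i, hi⟩ := hs j
      exact ⟨a i, by show qfun n (a i) = _; simp only [qfun, hi]⟩
    · obtain ⟨i, hi⟩ := hs j
      exact ⟨xa i, by show qfun n (xa i) = _; simp only [qfun, hi]⟩
  · have hle : q.ker ≤ Subgroup.zpowers (a 1 : QuaternionGroup (2 ^ n)) := by
      intro x hx
      rw [MonoidHom.mem_ker] at hx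
      rcases x with i | i
      · rw [Subgroup.mem_zpowers_iff]
        refine ⟨(i.val : ℤ), ?_⟩
        rw [zpow_natCast, QuaternionGroup.a_one_pow]
        haveI : NeZero (2 * 2 ^ n) := ⟨by positivity⟩
        simp
      · exfalso
        have : qfun n (xa i) = 1 := hx
        simp only [qfun] at this
        have h2 : (1 : DihedralGroup 2) = r 0 := rfl
        rw [h2] at this
        cases this
    haveI : IsCyclic (Subgroup.zpowers (a 1 : QuaternionGroup (2 ^ n))) := inferInstance
    haveI : IsCyclic (q.ker.subgroupOf (Subgroup.zpowers (a 1 : QuaternionGroup (2 ^ n)))) :=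
      Subgroup.isCyclic _
    exact isCyclic_of_surjective (Subgroup.subgroupOfEquivOfLe hle).toMonoidHom
      (Subgroup.subgroupOfEquivOfLe hle).surjective

end Cfsg.Agent.Helper17.FC5QD
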