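import Mathlib

/-!
# Fixity two: basic lemmas (helper17's library, for S3390)

A group acts on `Ω` so that every non-identity element fixes at most two points.
We collect the elementary consequences for a `2`-subgroup `P` and a point `α` with
`1 ≠ P_α ≠ P`.
-/

set_option autoImplicit false

namespace Cfsg.Agent.Helper17.Fix2

open MulAction

variable {G : Type*} [Group G] {Ω : Type*} [MulAction G Ω]

/-- A non-identity element does not fix three distinct points. -/
theorem eq_one_of_fix3 [Finite Ω]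
    (hfix : ∀ g : G, g ≠ 1 → Nat.card (MulAction.fixedBy Ω g) ≤ 2)
    {g : G} {a b c : Ω} (hab : a ≠ b) (hac : a ≠ c) (hbc : b ≠ c)
    (ha : g • a = a) (hb : g • b = b) (hc : g • c = c) : g = 1 := by
  by_contra hg
  have h := hfix g hg
  have hsub : ({a, b, c} : Set Ω) ⊆ MulAction.fixedBy Ω g := by
    intro x hx
    rcases hx with rfl | rfl | rfl <;> assumption
  have h3 : ({a, b, c} : Set Ω).ncard = 3 :=
    Set.ncard_eq_three.mpr ⟨a, b, c, hab, hac, hbc, rfl⟩
  have h4 := Set.ncard_le_ncard hsub (Set.toFinite _)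
  rw [h3, ← Nat.card_coe_set_eq] at h4
  omega

/-- A non-identity element fixing `a ≠ b` fixes nothing else. -/
theorem eq_or_eq_of_fix [Finite Ω]
    (hfix : ∀ g : G, g ≠ 1 → Nat.card (MulAction.fixedBy Ω g) ≤ 2)
    {g : G} (hg : g ≠ 1) {a b c : Ω} (hab : a ≠ b)
    (ha : g • a = a) (hb : g • b = b) (hc : g • c = c) : c = a ∨ c = b := by
  by_contra hcon
  push Not at hcon
  exact hg (eq_one_of_fix3 hfix hab (Ne.symm hcon.1) (Ne.symm hcon.2) ha hb hc)

/-- The configuration: a subgroup `P`, two points `α ≠ β` swapped by an element of `P`, with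
`P_α = P_β ≠ 1`. -/
structure Data (P : Subgroup G) (α β : Ω) : Prop where
  ne : α ≠ β
  swap : ∃ n ∈ P, n • α = β
  fixβ : ∀ t ∈ P, t • α = α → t • β = β
  fixα : ∀ t ∈ P, t • β = β → t • α = α
  nontriv : ∃ t ∈ P, t ≠ 1 ∧ t • α = α

/-- Normalizer growth in a finite `2`-group produces the configuration. -/
theorem exists_data [Finite G] (P : Subgroup G) (hP : IsPGroup 2 P) (α : Ω)
    (h1 : ∃ t ∈ P, t ≠ 1 ∧ t • α = α) (h2 : ¬ P ≤ MulAction.stabilizer G α) :
    ∃ β : Ω, Data P α β := by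
  have hF : Fact (Nat.Prime 2) := ⟨Nat.prime_two⟩
  set T' : Subgroup ↥P := (MulAction.stabilizer G α).subgroupOf P with hT'
  have hlt : T' < ⊤ := by
    rw [lt_top_iff_ne_top]
    intro h
    apply h2
    intro x hx
    have : (⟨x, hx⟩ : ↥P) ∈ T' := by rw [h]; trivial
    exact this
  have hnil : Group.IsNilpotent ↥P := hP.isNilpotent
  have hnc := Group.normalizerCondition_of_isNilpotent (G := ↥P) T' hlt
  obtain ⟨n, hnN, hnT⟩ := SetLike.exists_of_lt hnc
  rw [Subgroup.mem_normalizer_iff] at hnN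
  have hmemT : ∀ x : ↥P, x ∈ T' ↔ (x : G) • α = α := by
    intro x
    rw [hT', Subgroup.mem_subgroupOf, MulAction.mem_stabilizer_iff]
  refine ⟨(n : G) • α, ?_, ⟨n, n.2, rfl⟩, ?_, ?_, h1⟩
  · intro h
    exact hnT ((hmemT n).2 h.symm)
  · intro t ht hta
    have h3 : (⟨t, ht⟩ : ↥P) ∈ T' := (hmemT _).2 hta
    have h4 : n⁻¹ * ⟨t, ht⟩ * n ∈ T' := by
      rw [hnN]
      have : n * (n⁻¹ * ⟨t, ht⟩ * n) * n⁻¹ = ⟨t, ht⟩ := by group
      rw [this]; exact h3
    have h5 := (hmemT _).1 h4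
    have h6 : ((n⁻¹ * ⟨t, ht⟩ * n : ↥P) : G) = (n : G)⁻¹ * t * n := rfl
    rw [h6, mul_smul, mul_smul] at h5
    rw [inv_smul_eq_iff] at h5
    exact h5
  · intro t ht htb
    have h4 : n⁻¹ * ⟨t, ht⟩ * n ∈ T' := by
      rw [hmemT]
      have h6 : ((n⁻¹ * ⟨t, ht⟩ * n : ↥P) : G) = (n : G)⁻¹ * t * n := rfl
      rw [h6, mul_smul, mul_smul, inv_smul_eq_iff]
      exact htb
    rw [hnN] at h4
    have : n * (n⁻¹ * ⟨t, ht⟩ * n) * n⁻¹ = ⟨t, ht⟩ := by group
    rw [this] at h4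
    exact (hmemT _).1 h4

end Cfsg.Agent.Helper17.Fix2
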