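import Mathlib
import Cfsg.Prelude.Def_CaseTheorems
import Cfsg.Agent.Lib.Helper16.MaxClass

/-!
# A `2`-subgroup with an involution whose centralizer has four elements (helper17, for S3390)
-/

set_option autoImplicit false

namespace Cfsg.Agent.Helper17.Fix2

variable {G : Type*} [Group G]

/-- A nontrivial finite `2`-subgroup has a central involution. -/
theorem exists_central_involution [Finite G] (P : Subgroup G) (hP : IsPGroup 2 P) (hne : P ≠ ⊥) :
    ∃ z ∈ P, z ≠ 1 ∧ z * z = 1 ∧ ∀ x ∈ P, x * z = z * x := by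
  have hF : Fact (Nat.Prime 2) := ⟨Nat.prime_two⟩
  have hnt : Nontrivial ↥P := by
    rw [Subgroup.nontrivial_iff_ne_bot]
    exact hne
  have hc : Nontrivial (Subgroup.center ↥P) := hP.center_nontrivial
  have hPc : IsPGroup 2 (Subgroup.center ↥P) := hP.to_subgroup _
  obtain ⟨k, hk⟩ := IsPGroup.iff_card.mp hPc
  have hk1 : k ≠ 0 := by
    intro h0
    rw [h0, pow_zero] at hk
    have := (Subgroup.card_eq_one.mp hk)
    rw [← Subgroup.nontrivial_iff_ne_bot] at *
    have h2 : ¬ Nontrivial (Subgroup.center ↥P) := by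
      rw [not_nontrivial_iff_subsingleton]
      rw [this]
      infer_instance
    exact h2 hc
  have hdvd : 2 ∣ Nat.card (Subgroup.center ↥P) := by
    rw [hk]; exact dvd_pow_self 2 hk1
  obtain ⟨z, hz⟩ := exists_prime_orderOf_dvd_card' 2 hdvd
  have hz1 : z ≠ 1 := by
    intro h; rw [h, orderOf_one] at hz; omega
  have hz2 : z ^ 2 = 1 := by rw [← hz]; exact pow_orderOf_eq_one z
  refine ⟨((z : ↥P) : G), (z : ↥P).2, ?_, ?_, ?_⟩
  · intro h
    apply hz1
    ext
    exact h
  · have : (((z ^ 2 : Subgroup.center ↥P) : ↥P) : G) = ((z : ↥P) : G) * ((z : ↥P) : G) := by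
      rw [pow_two]; rfl
    rw [← this, hz2]; rfl
  · intro x hx
    have h1 := Subgroup.mem_center_iff.mp (z : Subgroup.center ↥P).2 ⟨x, hx⟩
    have h2 := congrArg (Subtype.val) h1
    exact h2

universe u

/-- A finite `2`-subgroup with a non-central involution `t` whose centralizer is `{1, t, z, zt}`
is dihedral or quasi-dihedral. -/
theorem dihedral_or_qd_of_cent4 {G : Type u} [Group G] [Finite G] (P : Subgroup G)
    (hP : IsPGroup 2 P) (t z : G)
    (ht : t ∈ P) (hz : z ∈ P) (ht1 : t ≠ 1) (ht2 : t * t = 1) (hz1 : z ≠ 1) (hzt : z ≠ t)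
    (hzc : z * t = t * z)
    (hC : ∀ c ∈ P, c * t = t * c → c = 1 ∨ c = t ∨ c = z ∨ c = z * t)
    (hnc : ∃ x ∈ P, x * t ≠ t * x) :
    (∃ n : ℕ, Nonempty (↥P ≃* DihedralGroup n)) ∨ Cfsg.IsQuasiDihedral ↥P := by
  have hF : Fact (Nat.Prime 2) := ⟨Nat.prime_two⟩
  set t' : ↥P := ⟨t, ht⟩ with ht'
  set z' : ↥P := ⟨z, hz⟩ with hz'
  have ht'1 : t' ≠ 1 := by
    intro h; apply ht1; exact congrArg Subtype.val h
  have ht'2 : t' ^ 2 = 1 := by
    ext; rw [pow_two]; exact ht2
  have hord : orderOf t' = 2 := orderOf_eq_prime ht'2 ht'1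
  have hzt' : z' ≠ t' := by
    intro h; apply hzt; exact congrArg Subtype.val h
  have hz'1 : z' ≠ 1 := by
    intro h; apply hz1; exact congrArg Subtype.val h
  have hzt1 : z' * t' ≠ 1 := by
    intro h
    apply hzt'
    have : z' = t'⁻¹ := eq_inv_of_mul_eq_one_left h
    rw [this]
    exact inv_eq_of_mul_eq_one_left (by rw [← pow_two]; exact ht'2)
  have hset : ((Subgroup.centralizer ({t'} : Set ↥P) : Subgroup ↥P) : Set ↥P) =
      {1, t', z', z' * t'} := by
    ext c
    simp only [SetLike.mem_coe, Set.mem_insert_iff, Set.mem_singleton_iff]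
    rw [Subgroup.mem_centralizer_iff]
    constructor
    · intro h
      have h1 := h t' (Set.mem_singleton _)
      have h2 : (c : G) * t = t * c := by
        have := congrArg Subtype.val h1
        exact this.symm
      rcases hC c c.2 h2 with h3 | h3 | h3 | h3
      · left; ext; exact h3
      · right; left; ext; exact h3
      · right; right; left; ext; exact h3
      · right; right; right; ext; exact h3
    · intro h y hy
      rw [Set.mem_singleton_iff] at hy
      rw [hy]
      rcases h with h | h | h | h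
      · rw [h]; simp
      · rw [h]
      · rw [h]; ext; exact hzc.symm
      · rw [h]; ext
        show t * (z * t) = z * t * t
        rw [← mul_assoc, ← hzc]
  have hcard4 : Nat.card (Subgroup.centralizer ({t'} : Set ↥P)) = 4 := by
    rw [show Nat.card (Subgroup.centralizer ({t'} : Set ↥P)) =
      ((Subgroup.centralizer ({t'} : Set ↥P) : Subgroup ↥P) : Set ↥P).ncard from
      Nat.card_coe_set_eq _]
    rw [hset]
    rw [Set.ncard_insert_of_notMem, Set.ncard_insert_of_notMem, Set.ncard_insert_of_notMem,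
      Set.ncard_singleton]
    · simp only [Set.mem_singleton_iff]
      intro h
      apply ht'1
      have : z' * 1 = z' * t' := by rw [mul_one]; exact h
      exact (mul_left_cancel this).symm
    · simp only [Set.mem_insert_iff, Set.mem_singleton_iff, not_or]
      refine ⟨fun h => hzt' h.symm, ?_⟩
      intro h
      apply hz'1
      have : 1 * t' = z' * t' := by rw [one_mul]; exact h
      exact (mul_right_cancel this).symm
    · simp only [Set.mem_insert_iff, Set.mem_singleton_iff, not_or]
      exact ⟨fun h => ht'1 h.symm, fun h => hz'1 h.symm, fun h => hzt1 h.symm⟩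
  obtain ⟨m, hm⟩ := IsPGroup.iff_card.mp hP
  have hne_top : Subgroup.centralizer ({t'} : Set ↥P) ≠ ⊤ := by
    intro h
    obtain ⟨x, hx, hxt⟩ := hnc
    have : (⟨x, hx⟩ : ↥P) ∈ Subgroup.centralizer ({t'} : Set ↥P) := by rw [h]; trivial
    rw [Subgroup.mem_centralizer_iff] at this
    have h1 := this t' (Set.mem_singleton _)
    apply hxt
    have := congrArg Subtype.val h1
    exact this.symm
  have hlt : 4 < Nat.card ↥P := by
    have h1 : Nat.card (Subgroup.centralizer ({t'} : Set ↥P)) ≤ Nat.card ↥P :=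
      Subgroup.card_le_card_group _
    have h2 : Nat.card (Subgroup.centralizer ({t'} : Set ↥P)) ≠ Nat.card ↥P := by
      intro h
      exact hne_top ((Subgroup.card_eq_iff_eq_top _).mp h)
    omega
  have hm3 : 3 ≤ m := by
    rw [hm] at hlt
    by_contra hcon
    push Not at hcon
    have : 2 ^ m ≤ 2 ^ 2 := Nat.pow_le_pow_right (by norm_num) (by omega)
    omega
  obtain ⟨a, hao, hta⟩ :=
    Cfsg.Agent.Helper16.exists_cyclic_max_of_centralizer_four m hm3 ↥P hm t' hord hcard4
  have hm' : Nat.card ↥P = 2 ^ ((m - 1) + 1) := by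
    rw [hm]; congr 1; omega
  exact Cfsg.Agent.Helper16.dihedral_or_quasiDihedral_of_cyclic_max (k := m - 1) (by omega) hm'
    a t' hao hord hta hcard4

end Cfsg.Agent.Helper17.Fix2
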