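import Mathlib
import Cfsg.Prelude.Def_CaseTheorems
import Cfsg.Agent.Lib.Lead.DihedralRecog
import Cfsg.Agent.Lib.Helper17.Fix2Basic
import Cfsg.Agent.Lib.Helper17.Fix2Cent

/-!
# Fixity two: the dihedral / quasi-dihedral cases (helper17, for S3390)
-/

set_option autoImplicit false

namespace Cfsg.Agent.Helper17.Fix2

open MulAction
open scoped Pointwise

universe u

variable {G : Type u} [Group G] {Ω : Type*} [MulAction G Ω]

/-- In case (I) an element of `P` moving `α` to `β` moves `β` to `α`. -/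
theorem Data.swapI {P : Subgroup G} {α β : Ω} (D : Data P α β)
    (hI : ∀ x ∈ P, x • α = α ∨ x • α = β) {b : G} (hb : b ∈ P) (hba : b • α = β) :
    b • β = α := by
  obtain ⟨n, hnP, hn⟩ := D.swap
  have h1 : (b * n) • α = b • β := by rw [mul_smul, hn]
  rcases hI (b * n) (P.mul_mem hb hnP) with h | h
  · rw [← h1, h]
  · exfalso
    rw [h1] at h
    have := D.fixα b hb h
    rw [hba] at this
    exact D.ne this.symm

/-- Case (I): the stabilizer has index two. -/
theorem caseI_relIndex {P : Subgroup G} {α β : Ω} (D : Data P α β)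
    (hI : ∀ x ∈ P, x • α = α ∨ x • α = β) :
    (P ⊓ MulAction.stabilizer G α).relIndex P = 2 := by
  rw [Subgroup.relIndex_eq_two_iff]
  obtain ⟨n, hnP, hn⟩ := D.swap
  refine ⟨n, hnP, ?_⟩
  intro b hb
  have hmem : ∀ y : G, y ∈ P ⊓ MulAction.stabilizer G α ↔ y ∈ P ∧ y • α = α := by
    intro y
    rw [Subgroup.mem_inf, MulAction.mem_stabilizer_iff]
  rcases hI b hb with h | h
  · right
    refine ⟨(hmem b).2 ⟨hb, h⟩, ?_⟩
    intro h2
    have h3 := ((hmem _).1 h2).2
    rw [mul_smul, hn, D.fixβ b hb h] at h3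
    exact D.ne h3.symm
  · left
    refine ⟨(hmem _).2 ⟨P.mul_mem hb hnP, ?_⟩, ?_⟩
    · rw [mul_smul, hn]
      exact D.swapI hI hb h
    · intro h2
      have h3 := ((hmem _).1 h2).2
      rw [h] at h3
      exact D.ne h3.symm

section

variable [Finite G] [Finite Ω]
  (hfix : ∀ g : G, g ≠ 1 → Nat.card (MulAction.fixedBy Ω g) ≤ 2)

include hfix

/-- Case (II): the orbit of `α` under `P` has more than two points. -/
theorem caseII (P : Subgroup G) (hP : IsPGroup 2 P) {α β : Ω} (D : Data P α β)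
    (hII : ∃ x ∈ P, x • α ≠ α ∧ x • α ≠ β) :
    Nat.card ↥(P ⊓ MulAction.stabilizer G α) = 2 ∧
      ((∃ n : ℕ, Nonempty (↥P ≃* DihedralGroup n)) ∨ Cfsg.IsQuasiDihedral ↥P) := by
  have hF : Fact (Nat.Prime 2) := ⟨Nat.prime_two⟩
  obtain ⟨x, hxP, hxa, hxb⟩ := hII
  obtain ⟨t0, ht0P, ht01, ht0a⟩ := D.nontriv
  have ht0b : t0 • β = β := D.fixβ t0 ht0P ht0a
  -- TI property
  have hTI : ∀ a ∈ P, a • α ≠ α → a • α ≠ β → ∀ y ∈ P, y • α = α → y • (a • α) = a • α →
      y = 1 := by
    intro a _ ha1 ha2 y hy hya hyaa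
    exact eq_one_of_fix3 hfix D.ne (Ne.symm ha1) (Ne.symm ha2) hya (D.fixβ y hy hya) hyaa
  have hPne : P ≠ ⊥ := by
    intro h
    rw [h, Subgroup.mem_bot] at ht0P
    exact ht01 ht0P
  obtain ⟨z, hzP, hz1, hz2, hzc⟩ := exists_central_involution P hP hPne
  have hzinv : z⁻¹ = z := inv_eq_of_mul_eq_one_left hz2
  have hzα : z • α = β := by
    have h1 : z • α ≠ α := by
      intro h
      apply hz1
      apply hTI x hxP hxa hxb z hzP h
      rw [← mul_smul, ← hzc x hxP, mul_smul, h]
    have h2 : t0 • (z • α) = z • α := by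
      rw [← mul_smul, hzc t0 ht0P, mul_smul, ht0a]
    rcases eq_or_eq_of_fix hfix ht01 D.ne ht0a ht0b h2 with h | h
    · exact absurd h h1
    · exact h
  have hzβ : z • β = α := by
    rw [← hzα, ← mul_smul, hz2, one_smul]
  -- swapping
  have hswap : ∀ a ∈ P, a • α = β → a • β = α := by
    intro a ha haα
    have h1 : (z * a) • α = α := by rw [mul_smul, haα, hzβ]
    have h2 := D.fixβ (z * a) (P.mul_mem hzP ha) h1
    rw [mul_smul] at h2
    have h3 : a • β = z⁻¹ • β := by rw [eq_inv_smul_iff]; exact h2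
    rw [h3, hzinv, hzβ]
  -- the setwise stabilizer
  set M : Subgroup G := P ⊓ MulAction.stabilizer G ({α, β} : Set Ω) with hM
  have hmemM : ∀ a : G, a ∈ M ↔ a ∈ P ∧ (a • α = α ∧ a • β = β ∨ a • α = β ∧ a • β = α) := by
    intro a
    rw [hM, Subgroup.mem_inf, MulAction.mem_stabilizer_iff, Set.smul_set_insert,
      Set.smul_set_singleton, Set.pair_eq_pair_iff]
  have hnotM : ∀ a ∈ P, a ∉ M → a • α ≠ α ∧ a • α ≠ β := by
    intro a ha haM
    constructor
    · intro h
      exact haM ((hmemM a).2 ⟨ha, Or.inl ⟨h, D.fixβ a ha h⟩⟩)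
    · intro h
      exact haM ((hmemM a).2 ⟨ha, Or.inr ⟨h, hswap a ha h⟩⟩)
  set M' : Subgroup ↥P := M.subgroupOf P with hM'
  have hlt : M' < ⊤ := by
    rw [lt_top_iff_ne_top]
    intro h
    have h1 : (⟨x, hxP⟩ : ↥P) ∈ M' := by rw [h]; trivial
    rw [hM', Subgroup.mem_subgroupOf] at h1
    rcases ((hmemM x).1 h1).2 with h2 | h2
    · exact hxa h2.1
    · exact hxb h2.1
  have hnil : Group.IsNilpotent ↥P := hP.isNilpotent
  have hnc := Group.normalizerCondition_of_isNilpotent (G := ↥P) M' hlt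
  obtain ⟨a, haN, haM⟩ := SetLike.exists_of_lt hnc
  rw [Subgroup.mem_normalizer_iff] at haN
  have haM2 : (a : G) ∉ M := by
    intro h
    apply haM
    rw [hM', Subgroup.mem_subgroupOf]
    exact h
  obtain ⟨haα, haβ⟩ := hnotM a a.2 haM2
  -- conjugates of stabilizer elements
  have hconj : ∀ t ∈ P, t ≠ 1 → t • α = α → ((a : G) * t * (a : G)⁻¹) • α = β := by
    intro t ht ht1 hta
    have h1 : (⟨t, ht⟩ : ↥P) ∈ M' := by
      rw [hM', Subgroup.mem_subgroupOf]
      exact (hmemM t).2 ⟨ht, Or.inl ⟨hta, D.fixβ t ht hta⟩⟩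
    rw [haN] at h1
    rw [hM', Subgroup.mem_subgroupOf] at h1
    have h2 : ((a * ⟨t, ht⟩ * a⁻¹ : ↥P) : G) = (a : G) * t * (a : G)⁻¹ := rfl
    rw [h2] at h1
    have h3 := (hmemM _).1 h1
    rcases h3.2 with h4 | h4
    · exfalso
      have h5 : ((a : G) * t * (a : G)⁻¹) • ((a : G) • α) = (a : G) • α := by
        rw [← mul_smul, inv_mul_cancel_right, mul_smul, hta]
      have h6 := hTI a a.2 haα haβ _ h3.1 h4.1 h5
      apply ht1
      have : t = (a : G)⁻¹ * ((a : G) * t * (a : G)⁻¹) * (a : G) := by group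
      rw [this, h6]; group
    · exact h4.1
  have huniq : ∀ t ∈ P, t ≠ 1 → t • α = α → t = t0 := by
    intro t ht ht1 hta
    have h1 := hconj t ht ht1 hta
    have h2 := hconj t0 ht0P ht01 ht0a
    set y1 := (a : G) * t * (a : G)⁻¹ with hy1
    set y2 := (a : G) * t0 * (a : G)⁻¹ with hy2
    have hy1P : y1 ∈ P := P.mul_mem (P.mul_mem a.2 ht) (P.inv_mem a.2)
    have hy2P : y2 ∈ P := P.mul_mem (P.mul_mem a.2 ht0P) (P.inv_mem a.2)
    have h3 : (y2⁻¹ * y1) • α = α := by
      rw [mul_smul, h1, inv_smul_eq_iff, h2]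
    have h4 : (y2⁻¹ * y1) • ((a : G) • α) = (a : G) • α := by
      have e1 : y1 • ((a : G) • α) = (a : G) • α := by
        rw [hy1, ← mul_smul, inv_mul_cancel_right, mul_smul, hta]
      have e2 : y2 • ((a : G) • α) = (a : G) • α := by
        rw [hy2, ← mul_smul, inv_mul_cancel_right, mul_smul, ht0a]
      rw [mul_smul, e1, inv_smul_eq_iff, e2]
    have h5 := hTI a a.2 haα haβ _ (P.mul_mem (P.inv_mem hy2P) hy1P) h3 h4
    have h6 : y1 = y2 := by
      have : y1 = y2 * (y2⁻¹ * y1) := by group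
      rw [this, h5, mul_one]
    rw [hy1, hy2] at h6
    have h7 := mul_right_cancel h6
    exact mul_left_cancel h7
  have ht0sq : t0 * t0 = 1 := by
    by_contra h
    have h1 := huniq (t0 * t0) (P.mul_mem ht0P ht0P) h (by rw [mul_smul, ht0a, ht0a])
    apply ht01
    have : t0 * t0 = t0 * 1 := by rw [mul_one]; exact h1
    exact mul_left_cancel this
  refine ⟨?_, ?_⟩
  · rw [Nat.card_eq_two_iff]
    refine ⟨1, ⟨t0, Subgroup.mem_inf.2 ⟨ht0P, MulAction.mem_stabilizer_iff.2 ht0a⟩⟩, ?_, ?_⟩
    · intro h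
      apply ht01
      have := congrArg Subtype.val h
      exact this.symm
    · rw [Set.eq_univ_iff_forall]
      intro y
      have hy := y.2
      rw [Subgroup.mem_inf, MulAction.mem_stabilizer_iff] at hy
      by_cases hy1 : (y : G) = 1
      · left; ext; exact hy1
      · right
        rw [Set.mem_singleton_iff]
        ext
        exact huniq y hy.1 hy1 hy.2
  · have hzt0 : z ≠ t0 := by
      intro h
      rw [h, ht0a] at hzα
      exact D.ne hzα
    have hC : ∀ c ∈ P, c * t0 = t0 * c → c = 1 ∨ c = t0 ∨ c = z ∨ c = z * t0 := by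
      intro c hc hct
      have h1 : t0 • (c • α) = c • α := by
        rw [← mul_smul, ← hct, mul_smul, ht0a]
      rcases eq_or_eq_of_fix hfix ht01 D.ne ht0a ht0b h1 with h | h
      · by_cases hc1 : c = 1
        · left; exact hc1
        · right; left; exact huniq c hc hc1 h
      · have h2 : (z * c) • α = α := by rw [mul_smul, h, hzβ]
        by_cases hc1 : z * c = 1
        · right; right; left
          have : c = z⁻¹ := eq_inv_of_mul_eq_one_right hc1
          rw [this, hzinv]
        · right; right; right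
          have h3 := huniq (z * c) (P.mul_mem hzP hc) hc1 h2
          have : c = z⁻¹ * (z * c) := by group
          rw [this, h3, hzinv]
    have hnc : ∃ y ∈ P, y * t0 ≠ t0 * y := by
      refine ⟨x, hxP, ?_⟩
      intro h
      rcases hC x hxP h with h1 | h1 | h1 | h1
      · apply hxa; rw [h1, one_smul]
      · apply hxa; rw [h1, ht0a]
      · apply hxb; rw [h1, hzα]
      · apply hxb; rw [h1, mul_smul, ht0a, hzα]
    exact dihedral_or_qd_of_cent4 P hP t0 z ht0P hzP ht01 ht0sq hz1 hzt0 (hzc t0 ht0P).symm hC hnc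


/-- Case (I.b): the orbit of `α` is `{α, β}` and some further point has a non-trivial
stabilizer in `P`. -/
theorem caseIb (P : Subgroup G) (hP : IsPGroup 2 P) {α β : Ω} (D : Data P α β)
    (hI : ∀ x ∈ P, x • α = α ∨ x • α = β) (ω : Ω) (hωa : ω ≠ α) (hωb : ω ≠ β)
    (s : G) (hsP : s ∈ P) (hs1 : s ≠ 1) (hsω : s • ω = ω) :
    (∃ n : ℕ, Nonempty (↥P ≃* DihedralGroup n)) ∨ Cfsg.IsQuasiDihedral ↥P := by
  have hF : Fact (Nat.Prime 2) := ⟨Nat.prime_two⟩
  obtain ⟨t0, ht0P, ht01, ht0a⟩ := D.nontriv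
  have ht0b : t0 • β = β := D.fixβ t0 ht0P ht0a
  have hsα : s • α = β := by
    rcases hI s hsP with h | h
    · exfalso
      exact hs1 (eq_one_of_fix3 hfix D.ne (Ne.symm hωa) (Ne.symm hωb) h (D.fixβ s hsP h) hsω)
    · exact h
  have hsβ : s • β = α := D.swapI hI hsP hsα
  have hs2 : s * s = 1 := by
    apply eq_one_of_fix3 hfix D.ne (Ne.symm hωa) (Ne.symm hωb)
    · rw [mul_smul, hsα, hsβ]
    · rw [mul_smul, hsβ, hsα]
    · rw [mul_smul, hsω, hsω]
  have hsinv : s⁻¹ = s := inv_eq_of_mul_eq_one_left hs2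
  -- elements of the stabilizer commuting with `s`
  have hCT : ∀ c1 ∈ P, ∀ c2 ∈ P, c1 • α = α → c2 • α = α → c1 ≠ 1 → c2 ≠ 1 →
      c1 * s = s * c1 → c2 * s = s * c2 → c1 = c2 := by
    intro c1 hc1 c2 hc2 h1 h2 h11 h21 hs1' hs2'
    have e1 : s • (c1 • ω) = c1 • ω := by rw [← mul_smul, ← hs1', mul_smul, hsω]
    have e2 : s • (c2 • ω) = c2 • ω := by rw [← mul_smul, ← hs2', mul_smul, hsω]
    have n1 : c1 • ω ≠ ω := by
      intro h
      exact h11 (eq_one_of_fix3 hfix D.ne (Ne.symm hωa) (Ne.symm hωb) h1 (D.fixβ c1 hc1 h1) h)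
    have n2 : c2 • ω ≠ ω := by
      intro h
      exact h21 (eq_one_of_fix3 hfix D.ne (Ne.symm hωa) (Ne.symm hωb) h2 (D.fixβ c2 hc2 h2) h)
    have e3 : c1 • ω = c2 • ω := by
      by_contra h
      exact hs1 (eq_one_of_fix3 hfix (Ne.symm n1) (Ne.symm n2) h hsω e1 e2)
    have e4 : (c2⁻¹ * c1) • ω = ω := by rw [mul_smul, e3, inv_smul_smul]
    have e5 : (c2⁻¹ * c1) • α = α := by rw [mul_smul, h1, inv_smul_eq_iff, h2]
    have e6 : (c2⁻¹ * c1) • β = β := by
      rw [mul_smul, D.fixβ c1 hc1 h1, inv_smul_eq_iff, D.fixβ c2 hc2 h2]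
    have e7 := eq_one_of_fix3 hfix D.ne (Ne.symm hωa) (Ne.symm hωb) e5 e6 e4
    have : c1 = c2 * (c2⁻¹ * c1) := by group
    rw [this, e7, mul_one]
  by_cases hcen : ∀ x ∈ P, x * s = s * x
  · -- `P` is a four-group
    left
    have huniq : ∀ c ∈ P, c • α = α → c ≠ 1 → c = t0 := by
      intro c hc hca hc1
      exact hCT c hc t0 ht0P hca ht0a hc1 ht01 (hcen c hc) (hcen t0 ht0P)
    have ht0sq : t0 * t0 = 1 := by
      by_contra h
      have h1 := huniq (t0 * t0) (P.mul_mem ht0P ht0P) (by rw [mul_smul, ht0a, ht0a]) h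
      apply ht01
      have : t0 * t0 = t0 * 1 := by rw [mul_one]; exact h1
      exact mul_left_cancel this
    have hall : ∀ b ∈ P, b = 1 ∨ b = t0 ∨ b = s ∨ b = s * t0 := by
      intro b hb
      rcases hI b hb with h | h
      · by_cases hb1 : b = 1
        · left; exact hb1
        · right; left; exact huniq b hb h hb1
      · have h2 : (s * b) • α = α := by rw [mul_smul, h, hsβ]
        by_cases hb1 : s * b = 1
        · right; right; left
          have : b = s⁻¹ := eq_inv_of_mul_eq_one_right hb1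
          rw [this, hsinv]
        · right; right; right
          have h3 := huniq (s * b) (P.mul_mem hsP hb) h2 hb1
          have : b = s⁻¹ * (s * b) := by group
          rw [this, h3, hsinv]
    set t' : ↥P := ⟨t0, ht0P⟩ with ht'
    set s' : ↥P := ⟨s, hsP⟩ with hs'
    have ht'1 : t' ≠ 1 := by
      intro h; apply ht01; exact congrArg Subtype.val h
    have ht'2 : t' ^ 2 = 1 := by
      ext; rw [pow_two]; exact ht0sq
    have hord : orderOf t' = 2 := orderOf_eq_prime ht'2 ht'1
    have hs'1 : s' ≠ 1 := by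
      intro h; apply hs1; exact congrArg Subtype.val h
    have hst : s' ≠ t' := by
      intro h
      have h1 : s = t0 := congrArg Subtype.val h
      rw [h1, ht0a] at hsα
      exact D.ne hsα
    have hst1 : s' * t' ≠ 1 := by
      intro h
      apply hst
      have : s' = t'⁻¹ := eq_inv_of_mul_eq_one_left h
      rw [this]
      exact inv_eq_of_mul_eq_one_left (by rw [← pow_two]; exact ht'2)
    have hset : (Set.univ : Set ↥P) = {1, t', s', s' * t'} := by
      ext c
      simp only [Set.mem_univ, Set.mem_insert_iff, Set.mem_singleton_iff, true_iff]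
      rcases hall c c.2 with h3 | h3 | h3 | h3
      · left; ext; exact h3
      · right; left; ext; exact h3
      · right; right; left; ext; exact h3
      · right; right; right; ext; exact h3
    have hcard4 : Nat.card ↥P = 2 * 2 := by
      rw [← Set.ncard_univ, hset]
      rw [Set.ncard_insert_of_notMem, Set.ncard_insert_of_notMem, Set.ncard_insert_of_notMem,
        Set.ncard_singleton]
      · simp only [Set.mem_singleton_iff]
        intro h
        apply ht'1
        have : s' * 1 = s' * t' := by rw [mul_one]; exact h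
        exact (mul_left_cancel this).symm
      · simp only [Set.mem_insert_iff, Set.mem_singleton_iff, not_or]
        refine ⟨fun h => hst h.symm, ?_⟩
        intro h
        apply hs'1
        have : 1 * t' = s' * t' := by rw [one_mul]; exact h
        exact (mul_right_cancel this).symm
      · simp only [Set.mem_insert_iff, Set.mem_singleton_iff, not_or]
        exact ⟨fun h => ht'1 h.symm, fun h => hs'1 h.symm, fun h => hst1 h.symm⟩
    refine ⟨2, ?_⟩
    apply Cfsg.Agent.Lead.nonempty_mulEquiv_dihedral 2 t' s' hord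
    · ext; exact hs2
    · have h1 : t'⁻¹ = t' := inv_eq_of_mul_eq_one_left (by rw [← pow_two]; exact ht'2)
      rw [h1]
      ext
      show s * t0 * s = t0
      rw [← hcen t0 ht0P, mul_assoc, hs2, mul_one]
    · intro h
      rw [Subgroup.mem_zpowers_iff] at h
      obtain ⟨k, hk⟩ := h
      have h1 : ∀ k : ℤ, ((t' ^ k : ↥P) : G) • α = α := by
        intro k
        have : ((t' ^ k : ↥P) : G) = t0 ^ k := by simp [ht']
        rw [this]
        exact MulAction.mem_stabilizer_iff.1
          (Subgroup.zpow_mem _ (MulAction.mem_stabilizer_iff.2 ht0a) k)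
      have h2 := h1 k
      rw [hk] at h2
      have h3 : ((s' : ↥P) : G) = s := rfl
      rw [h3, hsα] at h2
      exact D.ne h2.symm
    · exact hcard4
  · -- `s` is not central
    push Not at hcen
    have hPne : P ≠ ⊥ := by
      intro h
      rw [h, Subgroup.mem_bot] at hsP
      exact hs1 hsP
    obtain ⟨z, hzP, hz1, hz2, hzc⟩ := exists_central_involution P hP hPne
    have hzinv : z⁻¹ = z := inv_eq_of_mul_eq_one_left hz2
    have hzs : z ≠ s := by
      intro h
      obtain ⟨x, hx, hxs⟩ := hcen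
      apply hxs
      rw [← h]
      exact hzc x hx
    -- an element `c0` of the stabilizer commuting with `s`
    obtain ⟨c0, hc0P, hc0a, hc01, hc0s, hc0z⟩ : ∃ c0 ∈ P, c0 • α = α ∧ c0 ≠ 1 ∧ c0 * s = s * c0 ∧
        (c0 = z ∨ c0 = z * s) := by
      rcases hI z hzP with h | h
      · exact ⟨z, hzP, h, hz1, (hzc s hsP).symm, Or.inl rfl⟩
      · refine ⟨z * s, P.mul_mem hzP hsP, ?_, ?_, ?_, Or.inr rfl⟩
        · rw [← hzc s hsP, mul_smul, h, hsβ]
        · intro h1
          apply hzs
          have : z = s⁻¹ := eq_inv_of_mul_eq_one_left h1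
          rw [this, hsinv]
        · rw [mul_assoc, hs2, mul_one, ← hzc s hsP, ← mul_assoc, hs2, one_mul]
    have hC : ∀ c ∈ P, c * s = s * c → c = 1 ∨ c = s ∨ c = z ∨ c = z * s := by
      intro c hc hcs
      rcases hI c hc with h | h
      · by_cases hc1 : c = 1
        · left; exact hc1
        · have h1 := hCT c hc c0 hc0P h hc0a hc1 hc01 hcs hc0s
          rcases hc0z with h2 | h2
          · right; right; left; rw [h1, h2]
          · right; right; right; rw [h1, h2]
      · have h2 : (s * c) • α = α := by rw [mul_smul, h, hsβ]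
        have h3 : (s * c) * s = s * (s * c) := by rw [mul_assoc, hcs]
        by_cases hc1 : s * c = 1
        · right; left
          have : c = s⁻¹ := eq_inv_of_mul_eq_one_right hc1
          rw [this, hsinv]
        · have h1 := hCT (s * c) (P.mul_mem hsP hc) c0 hc0P h2 hc0a hc1 hc01 h3 hc0s
          have h4 : c = s⁻¹ * (s * c) := by group
          rcases hc0z with h5 | h5
          · right; right; right
            rw [h4, h1, h5, hsinv, hzc s hsP]
          · right; right; left
            rw [h4, h1, h5, hsinv, ← hzc s hsP, ← mul_assoc, hs2, one_mul]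
    obtain ⟨x, hx, hxs⟩ := hcen
    exact dihedral_or_qd_of_cent4 P hP s z hsP hzP hs1 hs2 hz1 hzs (hzc s hsP).symm hC
      ⟨x, hx, hxs⟩

end

end Cfsg.Agent.Helper17.Fix2
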