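import Mathlib
import Cfsg.Agent.Lib.Helper17.Fix2Basic

/-!
# Fixity two: two-point stabilizers inside an orbit of the index-two subgroup are trivial
(helper17, for S3390)
-/

set_option autoImplicit false

namespace Cfsg.Agent.Helper17.Fix2

open MulAction
open scoped Pointwise

variable {G : Type*} [Group G] {Ω : Type*} [MulAction G Ω]

/-- Let `N` be a normal subgroup containing all point stabilizers, `x ∉ N` with `x • α = β`, and
suppose the non-identity elements of a Sylow `2`-subgroup only fix `α` or `β`. Then two points of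
one `N`-orbit have trivial joint stabilizer. -/
theorem stab_inf_eq_bot [Finite G] [Finite Ω]
    (hfix : ∀ g : G, g ≠ 1 → Nat.card (MulAction.fixedBy Ω g) ≤ 2)
    (N : Subgroup G) [hNn : N.Normal] (hstab : ∀ ω : Ω, MulAction.stabilizer G ω ≤ N)
    (S : Sylow 2 G) (α β : Ω)
    (hS : ∀ y ∈ (S : Subgroup G), y ≠ 1 → ∀ ω : Ω, y • ω = ω → ω = α ∨ ω = β)
    (x : G) (hxα : x • α = β) (hxN : x ∉ N)
    (γ : Ω) (hγ : γ ≠ α) (g : G) (hgN : g ∈ N) (hgα : g • α = γ) :
    MulAction.stabilizer G α ⊓ MulAction.stabilizer G γ = ⊥ := by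
  have hF2 : Fact (Nat.Prime 2) := ⟨Nat.prime_two⟩
  -- no element of `N` maps `α` to `β`
  have hNαβ : ∀ m ∈ N, m • α ≠ β := by
    intro m hm hmα
    apply hxN
    have h1 : (x⁻¹ * m) • α = α := by rw [mul_smul, hmα, inv_smul_eq_iff, hxα]
    have h2 : x⁻¹ * m ∈ N := hstab α (MulAction.mem_stabilizer_iff.2 h1)
    have h3 : x⁻¹ ∈ N := by
      have := N.mul_mem h2 (N.inv_mem hm)
      rwa [mul_inv_cancel_right] at this
    have := N.inv_mem h3
    rwa [inv_inv] at this
  -- no involution fixes both `α` and `γ`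
  have hstep1 : ∀ y : G, y • α = α → y • γ = γ → orderOf y = 2 → False := by
    intro y hyα hyγ hy2
    have hy1 : y ≠ 1 := by
      intro h; rw [h, orderOf_one] at hy2; omega
    have hpg : IsPGroup 2 (Subgroup.zpowers y) :=
      IsPGroup.of_card (n := 1) (by rw [Nat.card_zpowers, hy2, pow_one])
    obtain ⟨Q, hQ⟩ := hpg.exists_le_sylow
    obtain ⟨h, hh⟩ := MulAction.exists_smul_eq G Q S
    have hyQ : y ∈ (Q : Subgroup G) := hQ (Subgroup.mem_zpowers y)
    have hy' : h * y * h⁻¹ ∈ (S : Subgroup G) := by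
      rw [← hh, Sylow.coe_subgroup_smul, Subgroup.mem_smul_pointwise_iff_exists]
      exact ⟨y, hyQ, rfl⟩
    have hy'1 : h * y * h⁻¹ ≠ 1 := by
      intro h1
      apply hy1
      have : y = h⁻¹ * (h * y * h⁻¹) * h := by group
      rw [this, h1]; group
    have e1 : (h * y * h⁻¹) • (h • α) = h • α := by
      rw [← mul_smul, inv_mul_cancel_right, mul_smul, hyα]
    have e2 : (h * y * h⁻¹) • (h • γ) = h • γ := by
      rw [← mul_smul, inv_mul_cancel_right, mul_smul, hyγ]
    have hne : h • α ≠ h • γ := by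
      intro h1
      exact hγ (smul_left_cancel h h1).symm
    have hm : h * g * h⁻¹ ∈ N := hNn.conj_mem g hgN h
    have e3 : (h * g * h⁻¹) • (h • α) = h • γ := by
      rw [← mul_smul, inv_mul_cancel_right, mul_smul, hgα]
    rcases hS _ hy' hy'1 _ e1 with h1 | h1 <;> rcases hS _ hy' hy'1 _ e2 with h2 | h2
    · exact hne (h1.trans h2.symm)
    · rw [h1, h2] at e3
      exact hNαβ _ hm e3
    · rw [h1, h2] at e3
      apply hNαβ _ (N.inv_mem hm)
      rw [inv_smul_eq_iff, e3]
    · exact hne (h1.trans h2.symm)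
  by_contra hD
  set D : Subgroup G := MulAction.stabilizer G α ⊓ MulAction.stabilizer G γ with hDdef
  have hDmem : ∀ y : G, y ∈ D ↔ y • α = α ∧ y • γ = γ := by
    intro y
    rw [hDdef, Subgroup.mem_inf, MulAction.mem_stabilizer_iff, MulAction.mem_stabilizer_iff]
  have hcard : Nat.card D ≠ 1 := by
    rw [Ne, Subgroup.card_eq_one]; exact hD
  obtain ⟨r, hr, hrd⟩ := Nat.exists_prime_and_dvd hcard
  have hr2 : r ≠ 2 := by
    intro h
    rw [h] at hrd
    obtain ⟨y, hy⟩ := exists_prime_orderOf_dvd_card' 2 hrd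
    have h1 := (hDmem y).1 y.2
    apply hstep1 (y : G) h1.1 h1.2
    rw [Subgroup.orderOf_coe]; exact hy
  haveI : Fact r.Prime := ⟨hr⟩
  obtain ⟨R⟩ : Nonempty (Sylow r ↥D) := inferInstance
  have hRne : (R : Subgroup ↥D) ≠ ⊥ := R.ne_bot_of_dvd_card hrd
  set R' : Subgroup G := (R : Subgroup ↥D).map D.subtype with hR'
  have hR'p : IsPGroup r R' := R.isPGroup'.map _
  have hR'D : R' ≤ D := Subgroup.map_subtype_le _
  obtain ⟨Q, hQ⟩ := hR'p.exists_le_sylow
  obtain ⟨y0', hy0'⟩ := (Subgroup.ne_bot_iff_exists_ne_one).1 hRne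
  have hy0R : ((y0' : ↥D) : G) ∈ R' := by
    rw [hR']
    exact ⟨(y0' : ↥D), y0'.2, rfl⟩
  have hy01 : ((y0' : ↥D) : G) ≠ 1 := by
    intro h
    apply hy0'
    apply Subtype.ext
    apply Subtype.ext
    exact h
  obtain ⟨hy0α, hy0γ⟩ := (hDmem _).1 (hR'D hy0R)
  -- elements normalizing `R'` permute `{α, γ}`
  have Kperm : ∀ u : G, (∀ y ∈ R', u⁻¹ * y * u ∈ R') →
      (u • α = α ∨ u • α = γ) ∧ (u • γ = α ∨ u • γ = γ) := by
    intro u hu
    have h1 := hu _ hy0R
    obtain ⟨h2, h3⟩ := (hDmem _).1 (hR'D h1)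
    have e : ((y0' : ↥D) : G) * u = u * (u⁻¹ * ((y0' : ↥D) : G) * u) := by group
    constructor
    · apply eq_or_eq_of_fix hfix hy01 hγ.symm hy0α hy0γ
      rw [← mul_smul, e, mul_smul, h2]
    · apply eq_or_eq_of_fix hfix hy01 hγ.symm hy0α hy0γ
      rw [← mul_smul, e, mul_smul, h3]
  -- `R'` is a Sylow subgroup of `G`
  have hQR : (Q : Subgroup G) ≤ R' := by
    by_contra hcon
    set R'' : Subgroup ↥(Q : Subgroup G) := R'.subgroupOf (Q : Subgroup G) with hR''
    have hlt : R'' < ⊤ := by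
      rw [lt_top_iff_ne_top]
      intro h
      apply hcon
      intro q hq
      have : (⟨q, hq⟩ : ↥(Q : Subgroup G)) ∈ R'' := by rw [h]; trivial
      exact this
    have hnil : Group.IsNilpotent ↥(Q : Subgroup G) := Q.isPGroup'.isNilpotent
    have hnc := Group.normalizerCondition_of_isNilpotent (G := ↥(Q : Subgroup G)) R'' hlt
    obtain ⟨u, huN, huR⟩ := SetLike.exists_of_lt hnc
    rw [Subgroup.mem_normalizer_iff] at huN
    have huconj : ∀ y ∈ R', (u : G)⁻¹ * y * (u : G) ∈ R' := by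
      intro y hy
      have h1 : (⟨y, hQ hy⟩ : ↥(Q : Subgroup G)) ∈ R'' := by
        rw [hR'', Subgroup.mem_subgroupOf]; exact hy
      have h2 : u⁻¹ * ⟨y, hQ hy⟩ * u ∈ R'' := by
        rw [huN]
        have : u * (u⁻¹ * ⟨y, hQ hy⟩ * u) * u⁻¹ = ⟨y, hQ hy⟩ := by group
        rw [this]; exact h1
      rw [hR'', Subgroup.mem_subgroupOf] at h2
      exact h2
    obtain ⟨hα', hγ'⟩ := Kperm (u : G) huconj
    -- `u` has odd order
    obtain ⟨k, hk⟩ := Q.isPGroup' u
    have hk' : (u : G) ^ r ^ k = 1 := by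
      have := congrArg Subtype.val hk
      simpa using this
    have hodd : Odd (r ^ k) := (hr.eq_two_or_odd'.resolve_left hr2).pow
    obtain ⟨j, hj⟩ := hodd
    have huα : (u : G) • α = α := by
      rcases hα' with h | h
      · exact h
      · exfalso
        have huγ : (u : G) • γ = α := by
          rcases hγ' with h1 | h1
          · exact h1
          · exfalso
            exact hγ (smul_left_cancel (u : G) (h1.trans h.symm))
        have h2 : ((u : G) ^ 2) • α = α := by rw [pow_two, mul_smul, h, huγ]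
        have h3 : (((u : G) ^ 2) ^ j) • α = α := by
          clear hk hj
          induction j with
          | zero => rw [pow_zero, one_smul]
          | succ i ih => rw [pow_succ, mul_smul, h2, ih]
        have h4 : (u : G) ^ r ^ k = (u : G) * ((u : G) ^ 2) ^ j := by
          rw [hj, ← pow_mul, pow_succ']
        rw [h4] at hk'
        have h5 : ((u : G) * ((u : G) ^ 2) ^ j) • α = γ := by rw [mul_smul, h3, h]
        rw [hk', one_smul] at h5
        exact hγ h5.symm
    have huγ : (u : G) • γ = γ := by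
      rcases hγ' with h1 | h1
      · exfalso
        exact hγ (smul_left_cancel (u : G) (h1.trans huα.symm))
      · exact h1
    have huD : (u : G) ∈ D := (hDmem _).2 ⟨huα, huγ⟩
    set R2 : Subgroup G := R' ⊔ Subgroup.zpowers (u : G) with hR2
    have hR2Q : R2 ≤ (Q : Subgroup G) := sup_le hQ (Subgroup.zpowers_le.2 u.2)
    have hR2p : IsPGroup r R2 := Q.isPGroup'.to_le hR2Q
    have hR2' : IsPGroup r (R2.subgroupOf D) := hR2p.comap_subtype
    have hle : (R : Subgroup ↥D) ≤ R2.subgroupOf D := by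
      intro y hy
      rw [Subgroup.mem_subgroupOf]
      apply (le_sup_left : R' ≤ R2)
      exact ⟨y, hy, rfl⟩
    have heq := R.is_maximal' hR2' hle
    have hu2 : (⟨(u : G), huD⟩ : ↥D) ∈ R2.subgroupOf D := by
      rw [Subgroup.mem_subgroupOf]
      exact (le_sup_right : Subgroup.zpowers (u : G) ≤ R2) (Subgroup.mem_zpowers _)
    rw [heq] at hu2
    apply huR
    rw [hR'', Subgroup.mem_subgroupOf, hR']
    exact ⟨⟨(u : G), huD⟩, hu2, rfl⟩
  have hQN : (Q : Subgroup G) ≤ N := by
    intro q hq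
    exact hstab α (MulAction.mem_stabilizer_iff.2 ((hDmem q).1 (hR'D (hQR hq))).1)
  have hfr := Sylow.normalizer_sup_eq_top' Q hQN
  have hxtop : x ∈ (⊤ : Subgroup G) := trivial
  rw [← hfr] at hxtop
  have hxmem : x ∈ ((Subgroup.normalizer (Q : Set G) ⊔ N : Subgroup G) : Set G) := hxtop
  rw [Subgroup.mul_normal] at hxmem
  obtain ⟨ν, hν, m, hm, hνm⟩ := Set.mem_mul.1 hxmem
  rw [SetLike.mem_coe, Subgroup.mem_set_normalizer_iff''] at hν
  have hνconj : ∀ y ∈ R', ν⁻¹ * y * ν ∈ R' := by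
    intro y hy
    apply hQR
    exact (hν y).1 (hQ hy)
  obtain ⟨hα', -⟩ := Kperm ν hνconj
  have hνN : ν ∈ N := by
    rcases hα' with h | h
    · exact hstab α (MulAction.mem_stabilizer_iff.2 h)
    · have h1 : (g⁻¹ * ν) • α = α := by rw [mul_smul, h, inv_smul_eq_iff, hgα]
      have h2 : g⁻¹ * ν ∈ N := hstab α (MulAction.mem_stabilizer_iff.2 h1)
      have := N.mul_mem hgN h2
      rwa [mul_inv_cancel_left] at this
  apply hxN
  rw [← hνm]
  exact N.mul_mem hνN hm

end Cfsg.Agent.Helper17.Fix2
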