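import Mathlib
import Cfsg.Agent.Lib.Helper17.Fix2Basic

/-!
# Fixity two: the transfer into `S / S_α` (helper17, for S3390)

`S` is a Sylow `2`-subgroup whose orbit of `α` is `{α, β}` and all of whose other orbits are regular.
Then the transfer `G → {±1}` of the sign character `S → S / S_α` is non-trivial and kills every
point stabilizer.
-/

set_option autoImplicit false

namespace Cfsg.Agent.Helper17.Fix2

open MulAction

variable {G : Type*} [Group G] {Ω : Type*} [MulAction G Ω]

/-- The sign character of `P` with kernel `P_α`, in case (I). -/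
noncomputable def sgn {P : Subgroup G} {α β : Ω} (D : Data P α β)
    (hI : ∀ x ∈ P, x • α = α ∨ x • α = β) : ↥P →* ℤˣ := by
  classical
  exact MonoidHom.mk' (fun g => if (g : G) • α = α then 1 else -1) (by
    intro g h
    have swapI : ∀ b ∈ P, b • α = β → b • β = α := by
      intro b hb hba
      obtain ⟨n, hnP, hn⟩ := D.swap
      have h1 : (b * n) • α = b • β := by rw [mul_smul, hn]
      rcases hI (b * n) (P.mul_mem hb hnP) with h | h
      · rw [← h1, h]
      · exfalso
        rw [h1] at h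
        have := D.fixα b hb h
        rw [hba] at this
        exact D.ne this.symm
    have e : ((g * h : ↥P) : G) • α = (g : G) • ((h : G) • α) := by
      rw [Subgroup.coe_mul, mul_smul]
    show (if ((g * h : ↥P) : G) • α = α then (1 : ℤˣ) else -1) =
      (if (g : G) • α = α then (1 : ℤˣ) else -1) * (if (h : G) • α = α then (1 : ℤˣ) else -1)
    by_cases hh : (h : G) • α = α
    · rw [if_pos hh, mul_one, e, hh]
    · have hhb : (h : G) • α = β := (hI h h.2).resolve_left hh
      rw [if_neg hh, e, hhb]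
      by_cases hg : (g : G) • α = α
      · have : (g : G) • β ≠ α := by
          rw [D.fixβ g g.2 hg]; exact D.ne.symm
        rw [if_pos hg, if_neg this, one_mul]
      · have hgb : (g : G) • α = β := (hI g g.2).resolve_left hg
        have : (g : G) • β = α := swapI g g.2 hgb
        rw [if_neg hg, if_pos this]
        decide)

theorem sgn_apply_of_fix {P : Subgroup G} {α β : Ω} (D : Data P α β)
    (hI : ∀ x ∈ P, x • α = α ∨ x • α = β) (g : ↥P) (hg : (g : G) • α = α) :
    sgn D hI g = 1 := by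
  classical
  show (if (g : G) • α = α then (1 : ℤˣ) else -1) = 1
  rw [if_pos hg]

theorem sgn_apply_of_not_fix {P : Subgroup G} {α β : Ω} (D : Data P α β)
    (hI : ∀ x ∈ P, x • α = α ∨ x • α = β) (g : ↥P) (hg : (g : G) • α ≠ α) :
    sgn D hI g = -1 := by
  classical
  show (if (g : G) • α = α then (1 : ℤˣ) else -1) = -1
  rw [if_neg hg]

theorem pow_smul_eq_of_smul_eq {g : G} {ω : Ω} (h : g • ω = ω) (n : ℕ) : g ^ n • ω = ω := by
  induction n with
  | zero => rw [pow_zero, one_smul]
  | succ k ih => rw [pow_succ, mul_smul, h, ih]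

/-- An element of `P` with a fixed point fixes `α`. -/
theorem fix_alpha_of_fix {P : Subgroup G} {α β : Ω} (D : Data P α β)
    (hreg : ∀ ω : Ω, ω ≠ α → ω ≠ β → ∀ s ∈ P, s • ω = ω → s = 1)
    {y : G} (hy : y ∈ P) {ω : Ω} (hω : y • ω = ω) :
    y • α = α := by
  by_cases h1 : ω = α
  · rw [h1] at hω; exact hω
  · by_cases h2 : ω = β
    · rw [h2] at hω; exact D.fixα y hy hω
    · rw [hreg ω h1 h2 y hy hω, one_smul]

/-- The transfer of the sign character kills every element with a fixed point. -/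
theorem transfer_eq_one_of_fix [Finite G] (S : Sylow 2 G) {α β : Ω}
    (D : Data (S : Subgroup G) α β)
    (hI : ∀ x ∈ (S : Subgroup G), x • α = α ∨ x • α = β)
    (hreg : ∀ ω : Ω, ω ≠ α → ω ≠ β → ∀ s ∈ (S : Subgroup G), s • ω = ω → s = 1)
    (g : G) (ω : Ω) (hω : g • ω = ω) :
    MonoidHom.transfer (sgn D hI) g = 1 := by
  classical
  let _ : Fintype (Quotient (MulAction.orbitRel (Subgroup.zpowers g) (G ⧸ (S : Subgroup G)))) :=
    Fintype.ofFinite _
  rw [MonoidHom.transfer_eq_prod_quotient_orbitRel_zpowers_quot (sgn D hI) g]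
  apply Finset.prod_eq_one
  intro q _
  apply sgn_apply_of_fix
  apply fix_alpha_of_fix D hreg
    (QuotientGroup.out_conj_pow_minimalPeriod_mem (S : Subgroup G) g q.out)
    (ω := (q.out.out)⁻¹ • ω)
  rw [← mul_smul, mul_inv_cancel_right, mul_smul, pow_smul_eq_of_smul_eq hω]

/-- The transfer of the sign character is `-1` on the elements of `S` moving `α`. -/
theorem transfer_eq_neg_one [Finite G] (S : Sylow 2 G) {α β : Ω}
    (D : Data (S : Subgroup G) α β)
    (hI : ∀ x ∈ (S : Subgroup G), x • α = α ∨ x • α = β)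
    (hreg : ∀ ω : Ω, ω ≠ α → ω ≠ β → ∀ s ∈ (S : Subgroup G), s • ω = ω → s = 1)
    (x : G) (hxS : x ∈ (S : Subgroup G)) (hxα : x • α ≠ α) :
    MonoidHom.transfer (sgn D hI) x = -1 := by
  classical
  have hF : Fact (Nat.Prime 2) := ⟨Nat.prime_two⟩
  let _ : Fintype (Quotient (MulAction.orbitRel (Subgroup.zpowers x) (G ⧸ (S : Subgroup G)))) :=
    Fintype.ofFinite _
  have hformula := MonoidHom.transfer_eq_prod_quotient_orbitRel_zpowers_quot (sgn D hI) x
  have hsum := Subgroup.index_eq_sum_minimalPeriod (S : Subgroup G) x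
  obtain ⟨k, hk⟩ : ∃ k : ℕ, orderOf x = 2 ^ k := by
    obtain ⟨k, hk⟩ := (IsPGroup.iff_orderOf.mp S.isPGroup') ⟨x, hxS⟩
    refine ⟨k, ?_⟩
    rw [← hk]
    exact (Subgroup.orderOf_mk x hxS).symm
  have hxβ : x • α = β := (hI x hxS).resolve_left hxα
  have hxβα : x • β = α := by
    obtain ⟨n, hnP, hn⟩ := D.swap
    have h1 : (x * n) • α = x • β := by rw [mul_smul, hn]
    rcases hI (x * n) ((S : Subgroup G).mul_mem hxS hnP) with h | h
    · rw [← h1, h]
    · exfalso
      rw [h1] at h
      have := D.fixα x hxS h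
      exact hxα this
  have hx2 : (x ^ 2) • α = α := by rw [pow_two, mul_smul, hxβ, hxβα]
  have hodd1 : ∀ (c : G) (n : ℕ) (hmem : c⁻¹ * x ^ n * c ∈ (S : Subgroup G)), n = 1 →
      sgn D hI ⟨c⁻¹ * x ^ n * c, hmem⟩ = (-1 : ℤˣ) ^ n := by
    intro c n hmem hn
    have hpow : (-1 : ℤˣ) ^ n = -1 := by rw [hn, pow_one]
    rw [hpow]
    apply sgn_apply_of_not_fix
    show (c⁻¹ * x ^ n * c) • α ≠ α
    rw [hn, pow_one]
    intro h
    apply hxα
    apply fix_alpha_of_fix D hreg hxS (ω := c • α)
    rw [mul_smul, mul_smul, inv_smul_eq_iff] at h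
    exact h
  have heven1 : ∀ (c : G) (n : ℕ) (hmem : c⁻¹ * x ^ n * c ∈ (S : Subgroup G)), Even n →
      sgn D hI ⟨c⁻¹ * x ^ n * c, hmem⟩ = (-1 : ℤˣ) ^ n := by
    intro c n hmem heven
    rw [heven.neg_one_pow]
    apply sgn_apply_of_fix
    apply fix_alpha_of_fix D hreg hmem (ω := c⁻¹ • α)
    obtain ⟨i, hi⟩ := heven
    have : x ^ n = (x ^ 2) ^ i := by
      rw [← pow_mul, hi]; congr 1; omega
    rw [← mul_smul, mul_inv_cancel_right, mul_smul, this, pow_smul_eq_of_smul_eq hx2]
  have hterm : ∀ q : Quotient (MulAction.orbitRel (Subgroup.zpowers x) (G ⧸ (S : Subgroup G))),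
      sgn D hI ⟨q.out.out⁻¹ * x ^ Function.minimalPeriod (x • ·) q.out * q.out.out,
            QuotientGroup.out_conj_pow_minimalPeriod_mem (S : Subgroup G) x q.out⟩ =
        (-1 : ℤˣ) ^ Function.minimalPeriod (x • ·) q.out := by
    intro q
    have hdvd : Function.minimalPeriod (x • ·) q.out ∣ 2 ^ k := by
      apply Function.IsPeriodicPt.minimalPeriod_dvd
      rw [← hk]
      show (x • ·)^[orderOf x] q.out = q.out
      rw [smul_iterate, pow_orderOf_eq_one]
      exact one_smul _ _
    obtain ⟨j, _, hj⟩ := (Nat.dvd_prime_pow Nat.prime_two).mp hdvd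
    rcases Nat.eq_zero_or_pos j with hj0 | hj0
    · apply hodd1
      rw [hj, hj0, pow_zero]
    · apply heven1
      rw [hj]
      exact (Nat.even_pow.mpr ⟨even_two, by omega⟩)
  have hodd : Odd (S : Subgroup G).index := by
    rw [← Nat.not_even_iff_odd, even_iff_two_dvd]
    exact S.not_dvd_index
  rw [hformula, Finset.prod_congr rfl (fun q _ => hterm q), Finset.prod_pow_eq_pow_sum, ← hsum,
    hodd.neg_one_pow]

end Cfsg.Agent.Helper17.Fix2
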