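import Mathlib

/-!
# The fixed subfield of a field automorphism of prime order of a finite field (helper17)
-/

set_option autoImplicit false

namespace Cfsg.Agent.Helper17

theorem exists_fixed_subfield {F : Type*} [Field F] [Fintype F] {q₀ r : ℕ} (hr : r.Prime)
    (hF : Fintype.card F = q₀ ^ r) (σ : F ≃+* F) (hσ : orderOf σ = r) :
    ∃ F₀ : Subfield F, (∀ x, x ∈ F₀ ↔ σ x = x) ∧ Nat.card F₀ = q₀ := by
  classical
  let G : Subgroup (RingAut F) := Subgroup.zpowers σ
  have : Finite (RingAut F) := Finite.of_injective (fun f => (f : F → F)) DFunLike.coe_injective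
  have : Fintype G := Fintype.ofFinite _
  refine ⟨FixedPoints.subfield G F, ?_, ?_⟩
  · intro x
    constructor
    · intro hx
      exact hx ⟨σ, Subgroup.mem_zpowers σ⟩
    · intro hx g
      have h1 : G ≤ MulAction.stabilizer (RingAut F) x := by
        rw [Subgroup.zpowers_le]
        exact hx
      exact h1 g.2
  · have h1 := FixedPoints.finrank_eq_card G F
    have h2 : Fintype.card G = r := by
      rw [← hσ, ← Nat.card_eq_fintype_card]; exact Nat.card_zpowers σ
    have h3 := Module.card_eq_pow_finrank (K := FixedPoints.subfield G F) (V := F)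
    rw [h1, h2, hF] at h3
    have h4 := Nat.pow_left_injective hr.ne_zero h3
    rw [Nat.card_eq_fintype_card]
    exact h4.symm

end Cfsg.Agent.Helper17
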