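import Mathlib
import Cfsg.Agent.Lib.Helper2.Pgeo11

set_option autoImplicit false
set_option linter.unusedSectionVars false
set_option linter.unusedSimpArgs false
set_option linter.unusedVariables false

/-!
# Symmetric forms on abstract spaces over finite fields of odd characteristic: the polar space
hypotheses (helper17)
-/

namespace Cfsg.Agent.Helper17.GInv

open Cfsg.Agent.Helper2.PGeo Module

section basic

variable {F : Type*} [Field F] [Finite F] {V : Type*} [AddCommGroup V] [Module F V]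
  [FiniteDimensional F V] {B : V →ₗ[F] V →ₗ[F] F}

theorem symm_of_eps (h : IsEpsForm B 1) (x y : V) : B y x = B x y := by
  have := h.symm x y
  rw [one_mul, RingHom.id_apply] at this
  exact this

theorem hdim3_of_finrank (hdim : 3 ≤ finrank F V) (x y : V) :
    ∃ w, w ≠ 0 ∧ B x w = 0 ∧ B y w = 0 := by
  obtain ⟨L, hL⟩ : ∃ L : V →ₗ[F] F × F, L = (B x).prod (B y) := ⟨_, rfl⟩
  have h1 := LinearMap.finrank_range_add_finrank_ker L
  have h2 : finrank F (LinearMap.range L) ≤ 2 := by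
    have := Submodule.finrank_le (LinearMap.range L)
    rwa [Module.finrank_prod, Module.finrank_self] at this
  have h3 : 0 < finrank F (LinearMap.ker L) := by omega
  obtain ⟨⟨w, hw⟩, hne⟩ := Module.finrank_pos_iff_exists_ne_zero.1 h3
  refine ⟨w, fun h => hne (Subtype.ext h), ?_, ?_⟩
  · have := LinearMap.mem_ker.1 hw
    rw [hL, LinearMap.prod_apply] at this
    exact (Prod.mk.inj this).1
  · have := LinearMap.mem_ker.1 hw
    rw [hL, LinearMap.prod_apply] at this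
    exact (Prod.mk.inj this).2

/-- A: the polar-space hypotheses for a symmetric form on an abstract space -/
theorem polar_abs (h : IsEpsForm B 1) (hdim : 3 ≤ finrank F V) :
    (∀ x y : V, ∃ w, w ≠ 0 ∧ B x w = 0 ∧ B y w = 0) ∧ (∃ x, x ≠ 0 ∧ B x x = 0) ∧
      Witt1 B ∧ Witt2 B ∧ Even (Nat.card (singPts B)) := by
  have h2 := h.two
  have hsymm : ∀ x y, B y x = B x y := symm_of_eps h
  obtain ⟨Q, hQdef⟩ : ∃ Q : QuadraticForm F V, Q = LinearMap.BilinMap.toQuadraticMap B :=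
    ⟨_, rfl⟩
  have hQv : ∀ v, Q v = B v v := fun v => by rw [hQdef]; rfl
  have hpol : ∀ x y, QuadraticMap.polar Q x y = 2 * B x y := by
    intro x y
    rw [hQdef, LinearMap.BilinMap.polar_toQuadraticMap, hsymm x y]
    ring
  have hQ : (QuadraticMap.polarBilin Q).Nondegenerate := by
    have hl : ∀ x, (∀ y, QuadraticMap.polar Q x y = 0) → x = 0 := by
      intro x hx
      apply h.nondeg
      intro y
      have h1 := hx y
      rw [hpol] at h1
      rcases mul_eq_zero.1 h1 with h3 | h3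
      · exact absurd h3 h2
      · exact h3
    refine ⟨fun x hx => hl x hx, fun y hy => hl y fun x => ?_⟩
    rw [QuadraticMap.polar_comm]
    exact hy x
  obtain ⟨hw1, hw2⟩ := witt12_of_family h (fun k e e' he he' hG => by
    obtain ⟨g, hg, hge⟩ := Cfsg.Agent.Helper28.WittQuad.witt_family hQ k e e' he he'
      (fun i => by rw [hQv, hQv]; exact hG i i)
      (fun i l => by rw [hpol, hpol, hG i l])
    refine ⟨g, fun u v => ?_, hge⟩
    have h1 : QuadraticMap.polar Q (g u) (g v) = QuadraticMap.polar Q u v := by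
      unfold QuadraticMap.polar
      rw [← map_add, hg, hg, hg]
    rw [hpol, hpol] at h1
    exact mul_left_cancel₀ h2 h1)
  have hfin : Fintype F := Fintype.ofFinite F
  obtain ⟨x, hx0, hx⟩ := Cfsg.Agent.Helper13.exists_singular Q hQ hdim
  refine ⟨hdim3_of_finrank hdim, ⟨x, hx0, by rw [← hQv]; exact hx⟩, hw1, hw2, ?_⟩
  apply even_card_singPts h
  rintro ⟨-, h1⟩
  apply h2
  linear_combination h1

/-- B: in odd dimension the multiplier of a similitude is a square -/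
theorem exists_sq_of_sim (h : IsEpsForm B 1) (hodd : Odd (finrank F V)) (f : V ≃ₗ[F] V) (μ : F)
    (hf : ∀ u v, B (f u) (f v) = μ * B u v) : ∃ e : F, e * e = μ := by
  classical
  by_cases hμ : μ = 0
  · exact ⟨0, by rw [hμ, mul_zero]⟩
  obtain ⟨b, hb⟩ : ∃ b : Module.Basis (Fin (finrank F V)) F V, b = Module.finBasis F V := ⟨_, rfl⟩
  have hnd : LinearMap.BilinForm.Nondegenerate (B : LinearMap.BilinForm F V) :=
    ⟨h.nondeg, h.eq_zero_of_forall_left⟩
  have hdet := (LinearMap.BilinForm.nondegenerate_iff_det_ne_zero b).1 hnd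
  have hcomp : LinearMap.BilinForm.comp (B : LinearMap.BilinForm F V) f.toLinearMap f.toLinearMap
      = μ • (B : LinearMap.BilinForm F V) := by
    ext u v
    simp only [LinearMap.BilinForm.comp_apply, LinearEquiv.coe_coe, LinearMap.smul_apply,
      smul_eq_mul]
    exact hf u v
  have h1 := LinearMap.BilinForm.toMatrix_comp b b (B : LinearMap.BilinForm F V)
    f.toLinearMap f.toLinearMap
  rw [hcomp, map_smul] at h1
  have h2 := congrArg Matrix.det h1
  rw [Matrix.det_smul, Matrix.det_mul, Matrix.det_mul, Matrix.det_transpose,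
    Fintype.card_fin] at h2
  obtain ⟨k, hk⟩ := hodd
  obtain ⟨d, hd⟩ : ∃ d : F, d = (LinearMap.toMatrix b b f.toLinearMap).det := ⟨_, rfl⟩
  rw [← hd] at h2
  have h3 : μ ^ (finrank F V) = d * d := by
    have : μ ^ (finrank F V) * (LinearMap.BilinForm.toMatrix b B).det =
        (d * d) * (LinearMap.BilinForm.toMatrix b B).det := by
      rw [h2]; ring
    exact mul_right_cancel₀ hdet this
  rw [hk] at h3
  refine ⟨d / μ ^ k, ?_⟩
  have hμk : μ ^ k ≠ 0 := pow_ne_zero _ hμ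
  field_simp
  have : d ^ 2 = μ ^ (2 * k + 1) := by rw [h3]; ring
  rw [this]
  ring

theorem scalar_of_finrank_one (h1 : finrank F V = 1) (m : V →ₗ[F] V) :
    ∃ c : F, ∀ v, m v = c • v := by
  obtain ⟨v, hv0, hv⟩ := finrank_eq_one_iff'.1 h1
  obtain ⟨c, hc⟩ := hv (m v)
  refine ⟨c, fun w => ?_⟩
  obtain ⟨a, rfl⟩ := hv w
  rw [map_smul, ← hc, smul_comm]

/-- C: subgroups of similitudes of odd order modulo scalars normalised by the isometries are
scalar (odd dimension) -/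
theorem scalar_of_odd_normal_iso (h : IsEpsForm B 1) (hodd : Odd (finrank F V))
    (M : Subgroup (V ≃ₗ[F] V)) (hM : M ≤ sim B)
    (hnorm : ∀ g : V ≃ₗ[F] V, (∀ u v, B (g u) (g v) = B u v) → ∀ m ∈ M, g * m * g⁻¹ ∈ M)
    (hoddM : ∀ m ∈ M, ∃ k : ℕ, Odd k ∧ ∃ c : F, ∀ v, (m ^ k) v = c • v) :
    ∀ m ∈ M, ∃ c : F, ∀ v, m v = c • v := by
  by_cases h1 : finrank F V = 1
  · intro m _
    exact scalar_of_finrank_one h1 m.toLinearMap
  have hdim : 3 ≤ finrank F V := by
    obtain ⟨k, hk⟩ := hodd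
    omega
  obtain ⟨hdim3, hsing, hW1, hW2, hpar⟩ := polar_abs h hdim
  apply scalar_of_odd_normal h hdim3 hsing hW1 hW2 hpar M hM _ hoddM
  intro g hg m hm
  obtain ⟨c, hc0, hgc⟩ := hg
  obtain ⟨e, he⟩ := exists_sq_of_sim h hodd g c hgc
  have he0 : e ≠ 0 := by
    rintro rfl
    rw [mul_zero] at he
    exact hc0 he.symm
  obtain ⟨s, hs⟩ : ∃ s : V ≃ₗ[F] V, ∀ v, s v = e • v :=
    ⟨LinearEquiv.smulOfNeZero F V e he0, fun v => rfl⟩
  have hsi : ∀ v, s⁻¹ v = e⁻¹ • v := by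
    intro v
    have : s (s⁻¹ v) = v := by
      rw [← LinearEquiv.mul_apply, mul_inv_cancel]; rfl
    rw [hs] at this
    calc s⁻¹ v = e⁻¹ • (e • s⁻¹ v) := by rw [smul_smul, inv_mul_cancel₀ he0, one_smul]
      _ = e⁻¹ • v := by rw [this]
  obtain ⟨g₀, hg₀⟩ : ∃ g₀ : V ≃ₗ[F] V, g₀ = s⁻¹ * g := ⟨_, rfl⟩
  have hg₀iso : ∀ u v, B (g₀ u) (g₀ v) = B u v := by
    intro u v
    rw [hg₀, LinearEquiv.mul_apply, LinearEquiv.mul_apply, hsi, hsi, IsEpsForm.smul_left,
      IsEpsForm.smul_right, hgc, ← he, RingHom.id_apply]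
    field_simp
  have hscomm : ∀ x : V ≃ₗ[F] V, s * x = x * s := by
    intro x
    ext v
    rw [LinearEquiv.mul_apply, LinearEquiv.mul_apply, hs, hs, map_smul]
  have e1 : g * m * g⁻¹ = g₀ * m * g₀⁻¹ := by
    have hg : g = s * g₀ := by rw [hg₀]; group
    rw [hg, mul_inv_rev]
    calc s * g₀ * m * (g₀⁻¹ * s⁻¹) = s * (g₀ * m * g₀⁻¹) * s⁻¹ := by group
      _ = (g₀ * m * g₀⁻¹) * s * s⁻¹ := by rw [hscomm]
      _ = g₀ * m * g₀⁻¹ := by group
  rw [e1]
  exact hnorm g₀ hg₀iso m hm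

/-- D: a semilinear injective map commuting with the unipotent isometries is a scalar -/
theorem rigid_of_commute (h : IsEpsForm B 1) (hdim : 3 ≤ finrank F V) (τ : F →+* F) (J : V →+ V)
    (hJ : ∀ (c : F) (v : V), J (c • v) = τ c • J v) (hJinj : Function.Injective J)
    (hcomm : ∀ N : V →ₗ[F] V, (∀ u v, B (u + N u) (v + N v) = B u v) →
      (∀ v, N (N (N v)) = 0) → ∀ v, J (N v) = N (J v)) :
    (∀ c, τ c = c) ∧ ∃ l : F, ∀ v, J v = l • v := by
  obtain ⟨hdim3, hsing, -, -, -⟩ := polar_abs h hdim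
  have D : SemiData (RingHom.id F) (AddMonoidHom.id V) τ J :=
    ⟨fun c v => rfl, fun φ => ⟨φ, fun v => rfl⟩, hJ, hJinj⟩
  have hfix : ∀ x, B x x = 0 → ∃ l : F, J (AddMonoidHom.id V x) = l • AddMonoidHom.id V x := by
    intro x hx
    show ∃ l : F, J x = l • x
    by_cases hx0 : x = 0
    · exact ⟨0, by rw [hx0, map_zero, smul_zero]⟩
    obtain ⟨N, hNiso, hN3, hNk⟩ := exists_siegel h hdim3 hx0 hx
    have hJN := hcomm N hNiso hN3
    obtain ⟨v₀, hv₀⟩ : ∃ v₀, B x v₀ ≠ 0 := by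
      by_contra hcon
      push Not at hcon
      exact hx0 (h.nondeg x hcon)
    rcases hNk with ⟨c, hc0, hc⟩ | ⟨c, hc0, hc⟩
    · obtain ⟨v₁, hv₁⟩ : ∃ v₁, v₁ = (c * B x v₀)⁻¹ • v₀ := ⟨_, rfl⟩
      have hNv₁ : N v₁ = x := by
        rw [hc, hv₁, map_smul, smul_eq_mul, ← mul_assoc, mul_comm c, mul_assoc,
          inv_mul_cancel₀ (mul_ne_zero hc0 hv₀), one_smul]
      refine ⟨c * B x (J v₁), ?_⟩
      rw [← hNv₁, hJN, hc, hNv₁]
    · obtain ⟨v₁, hv₁⟩ : ∃ v₁, v₁ = (c * B x v₀)⁻¹ • v₀ := ⟨_, rfl⟩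
      have hNv₁ : N (N v₁) = x := by
        rw [hc, hv₁, map_smul, smul_eq_mul, ← mul_assoc, mul_comm c, mul_assoc,
          inv_mul_cancel₀ (mul_ne_zero hc0 hv₀), one_smul]
      refine ⟨c * B x (J v₁), ?_⟩
      rw [← hNv₁, hJN, hJN, hc, hNv₁]
  obtain ⟨hτ, l, hl⟩ := semilinear_rigid h hdim3 D hsing hfix
  exact ⟨hτ, l, hl⟩

end basic

end Cfsg.Agent.Helper17.GInv
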