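import Mathlib

set_option autoImplicit false

/-!
# Lifting `p`-subgroups through a central quotient of order prime to `p` (helper17)
-/

namespace Cfsg.Agent.Helper17.OrthAut

section pel
variable {G : Type*} [Group G] (p : ℕ)

/-- `x` is a `p`-element -/
def IsPEl (x : G) : Prop := ∃ k : ℕ, x ^ (p ^ k) = 1

variable {p}

theorem IsPEl.one : IsPEl p (1 : G) := ⟨0, one_pow _⟩

theorem IsPEl.inv {x : G} (h : IsPEl p x) : IsPEl p x⁻¹ := by
  obtain ⟨k, hk⟩ := h
  exact ⟨k, by rw [inv_pow, hk, inv_one]⟩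

theorem IsPEl.conj {x : G} (h : IsPEl p x) (g : G) : IsPEl p (g * x * g⁻¹) := by
  obtain ⟨k, hk⟩ := h
  exact ⟨k, by rw [conj_pow, hk, mul_one, mul_inv_cancel]⟩

theorem IsPEl.map {H : Type*} [Group H] (f : G →* H) {x : G} (h : IsPEl p x) : IsPEl p (f x) := by
  obtain ⟨k, hk⟩ := h
  exact ⟨k, by rw [← map_pow, hk, map_one]⟩

theorem IsPEl.pow_of_le {x : G} {k j : ℕ} (hk : x ^ (p ^ k) = 1) (hkj : k ≤ j) :
    x ^ (p ^ j) = 1 := by
  obtain ⟨d, rfl⟩ := Nat.exists_eq_add_of_le hkj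
  rw [pow_add, pow_mul, hk, one_pow]

theorem IsPEl.mul_of_commute {x y : G} (hx : IsPEl p x) (hy : IsPEl p y) (h : Commute x y) :
    IsPEl p (x * y) := by
  obtain ⟨k, hk⟩ := hx
  obtain ⟨j, hj⟩ := hy
  refine ⟨max k j, ?_⟩
  rw [h.mul_pow, IsPEl.pow_of_le hk (le_max_left _ _), IsPEl.pow_of_le hj (le_max_right _ _),
    one_mul]

theorem IsPEl.of_mem {N : Subgroup G} (hN : IsPGroup p N) {x : G} (hx : x ∈ N) : IsPEl p x := by
  obtain ⟨k, hk⟩ := hN ⟨x, hx⟩
  refine ⟨k, ?_⟩
  have := congrArg Subtype.val hk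
  simpa using this

theorem isPGroup_of_forall_isPEl {N : Subgroup G} (h : ∀ x ∈ N, IsPEl p x) : IsPGroup p N := by
  rintro ⟨x, hx⟩
  obtain ⟨k, hk⟩ := h x hx
  exact ⟨k, Subtype.ext (by simpa using hk)⟩

theorem IsPEl.eq_one_of_pow_eq_one [hp : Fact p.Prime] {x : G} (hx : IsPEl p x) {N : ℕ}
    (hN : N.Coprime p) (h : x ^ N = 1) : x = 1 := by
  obtain ⟨k, hk⟩ := hx
  have h1 : orderOf x ∣ p ^ k := orderOf_dvd_of_pow_eq_one hk
  have h2 : orderOf x ∣ N := orderOf_dvd_of_pow_eq_one h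
  have h3 : orderOf x ∣ Nat.gcd N (p ^ k) := Nat.dvd_gcd h2 h1
  have h4 : Nat.gcd N (p ^ k) = 1 := Nat.Coprime.pow_right k hN
  rw [h4, Nat.dvd_one] at h3
  exact orderOf_eq_one_iff.1 h3

end pel

section plift
variable {G : Type*} [Group G] [Finite G] {p : ℕ} [hp : Fact p.Prime]

local notation "π" => QuotientGroup.mk' (Subgroup.center G)

theorem pow_card_center {z : G} (hz : z ∈ Subgroup.center G) :
    z ^ Nat.card (Subgroup.center G) = 1 := by
  have h1 : (⟨z, hz⟩ : Subgroup.center G) ^ Nat.card (Subgroup.center G) = 1 := pow_card_eq_one'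
  have h2 := congrArg Subtype.val h1
  rw [Subgroup.coe_pow, Subgroup.coe_one] at h2
  exact h2

theorem mk_eq_iff (x y : G) : π x = π y ↔ x⁻¹ * y ∈ Subgroup.center G := by
  show (x : G ⧸ Subgroup.center G) = y ↔ _
  rw [QuotientGroup.eq]

/-- two `p`-elements with the same image modulo the centre are equal -/
theorem IsPEl.eq_of_mk_eq (hZ : (Nat.card (Subgroup.center G)).Coprime p) {x y : G}
    (hx : IsPEl p x) (hy : IsPEl p y) (h : π x = π y) : x = y := by
  rw [mk_eq_iff] at h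
  have hc : Commute x⁻¹ y := by
    have h1 := Subgroup.mem_center_iff.1 h x
    -- x * (x⁻¹ * y) = (x⁻¹ * y) * x
    have h2 : y * x = x * y := by
      have : x * (x⁻¹ * y) = y := by group
      calc y * x = x * (x⁻¹ * y) * x := by rw [this]
        _ = x * ((x⁻¹ * y) * x) := by group
        _ = x * (x * (x⁻¹ * y)) := by rw [h1]
        _ = x * y := by group
    show x⁻¹ * y = y * x⁻¹
    calc x⁻¹ * y = x⁻¹ * (y * x) * x⁻¹ := by group
      _ = x⁻¹ * (x * y) * x⁻¹ := by rw [h2]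
      _ = y * x⁻¹ := by group
  have h1 : IsPEl p (x⁻¹ * y) := hx.inv.mul_of_commute hy hc
  have h2 : (x⁻¹ * y) ^ Nat.card (Subgroup.center G) = 1 := pow_card_center h
  have h3 := h1.eq_one_of_pow_eq_one hZ h2
  exact inv_mul_eq_one.1 h3

/-- `p`-elements commuting modulo the centre commute -/
theorem IsPEl.commute_of_mk (hZ : (Nat.card (Subgroup.center G)).Coprime p) {x y : G}
    (hx : IsPEl p x) (hy : IsPEl p y) (h : Commute (π x) (π y)) : Commute x y := by
  have h1 : π (x * y * x⁻¹) = π y := by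
    rw [map_mul, map_mul, map_inv, h.eq, mul_inv_cancel_right]
  have h2 := IsPEl.eq_of_mk_eq hZ (hy.conj x) hy h1
  show x * y = y * x
  calc x * y = x * y * x⁻¹ * x := by group
    _ = y * x := by rw [h2]

/-- a `p`-element of the central quotient lifts to a `p`-element -/
theorem exists_isPEl_lift (hZ : (Nat.card (Subgroup.center G)).Coprime p)
    {xb : G ⧸ Subgroup.center G} (hx : IsPEl p xb) : ∃ x : G, IsPEl p x ∧ π x = xb := by
  obtain ⟨k, hk⟩ := hx
  obtain ⟨y, rfl⟩ := QuotientGroup.mk'_surjective (Subgroup.center G) xb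
  by_cases hk0 : p ^ k = 1
  · rw [hk0, pow_one] at hk
    exact ⟨1, IsPEl.one, by rw [map_one, hk]⟩
  have hk1 : 1 < p ^ k := by
    have : 0 < p ^ k := pos_of_ne_zero (pow_ne_zero k hp.out.ne_zero)
    omega
  have hcop : (Nat.card (Subgroup.center G)).Coprime (p ^ k) := Nat.Coprime.pow_right k hZ
  obtain ⟨u, -, hu⟩ := Nat.exists_mul_mod_eq_one_of_coprime hcop hk1
  set N := Nat.card (Subgroup.center G) with hN
  have hyZ : y ^ (p ^ k) ∈ Subgroup.center G := by
    rw [← QuotientGroup.eq_one_iff]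
    have : ((y ^ (p ^ k) : G) : G ⧸ Subgroup.center G) = (π y) ^ (p ^ k) := by
      rw [← map_pow]; rfl
    rw [this, hk]
  have hyN : (y ^ (p ^ k)) ^ N = 1 := pow_card_center hyZ
  refine ⟨y ^ (N * u), ⟨k, ?_⟩, ?_⟩
  · rw [← pow_mul, mul_comm (N * u), ← mul_assoc, pow_mul, pow_mul, hyN, one_pow]
  · have h1 : N * u = p ^ k * (N * u / p ^ k) + 1 := by
      have := Nat.div_add_mod (N * u) (p ^ k)
      rw [hu] at this
      exact this.symm
    rw [map_pow, h1, pow_succ, pow_mul, hk, one_pow, one_mul]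

/-- the product of two `p`-elements lying over a `p`-subgroup of the central quotient is a
`p`-element -/
theorem IsPEl.mul_of_mk_mem (hZ : (Nat.card (Subgroup.center G)).Coprime p)
    {Nb : Subgroup (G ⧸ Subgroup.center G)} (hNb : IsPGroup p Nb) {x y : G}
    (hx : IsPEl p x) (hy : IsPEl p y) (hxN : π x ∈ Nb) (hyN : π y ∈ Nb) : IsPEl p (x * y) := by
  set M : Subgroup G := Nb.comap π with hM
  have hZM : Subgroup.center G ≤ M := by
    intro z hz
    show π z ∈ Nb
    have : π z = 1 := (QuotientGroup.eq_one_iff z).2 hz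
    rw [this]
    exact Subgroup.one_mem _
  set Z' : Subgroup M := (Subgroup.center G).subgroupOf M with hZ'
  have hcardZ' : Nat.card Z' = Nat.card (Subgroup.center G) :=
    Nat.card_congr (Subgroup.subgroupOfEquivOfLe hZM).toEquiv
  have hquot : IsPGroup p (M ⧸ Z') := by
    intro mb
    obtain ⟨m, rfl⟩ := QuotientGroup.mk'_surjective Z' mb
    obtain ⟨k, hk⟩ := hNb ⟨π (m : G), m.2⟩
    refine ⟨k, ?_⟩
    have h1 : π ((m : G) ^ (p ^ k)) = 1 := by
      have := congrArg Subtype.val hk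
      rw [map_pow]
      simpa using this
    have h2 : (m : G) ^ (p ^ k) ∈ Subgroup.center G := (QuotientGroup.eq_one_iff _).1 h1
    show (QuotientGroup.mk' Z' m) ^ (p ^ k) = 1
    rw [← map_pow]
    apply (QuotientGroup.eq_one_iff _).2
    show ((m ^ (p ^ k) : M) : G) ∈ Subgroup.center G
    rw [Subgroup.coe_pow]
    exact h2
  obtain ⟨n, hn⟩ := IsPGroup.iff_card.1 hquot
  have hidx : Z'.index = p ^ n := by rw [Subgroup.index_eq_card, hn]
  have hcop : Nat.Coprime (Nat.card Z') Z'.index := by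
    rw [hcardZ', hidx]
    exact Nat.Coprime.pow_right n hZ
  obtain ⟨H, hH⟩ := Subgroup.exists_right_complement'_of_coprime hcop
  have hHcard : Nat.card H = p ^ n := by
    have h1 := hH.card_mul_card
    have h2 := Z'.card_mul_index
    rw [hidx] at h2
    have hpos : 0 < Nat.card Z' := Nat.card_pos
    have : Nat.card Z' * Nat.card H = Nat.card Z' * p ^ n := by rw [h1, h2]
    exact Nat.eq_of_mul_eq_mul_left hpos this
  have hHp : IsPGroup p H := IsPGroup.of_card hHcard
  -- every p-element of M lies in H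
  have key : ∀ (w : G) (hwM : w ∈ M), IsPEl p w → (⟨w, hwM⟩ : M) ∈ H := by
    intro w hwM hw
    obtain ⟨⟨z, h⟩, hzh, -⟩ := hH.existsUnique (⟨w, hwM⟩ : M)
    have hzh' : ((z : M) : G) * ((h : M) : G) = w := by
      have := congrArg Subtype.val hzh
      simpa using this
    have hzc : ((z : M) : G) ∈ Subgroup.center G := z.2
    have hhp : IsPEl p ((h : M) : G) := by
      obtain ⟨k, hk⟩ := hHp h
      refine ⟨k, ?_⟩
      have := congrArg Subtype.val (congrArg Subtype.val hk)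
      simpa using this
    have hzeq : ((z : M) : G) = w * ((h : M) : G)⁻¹ := by rw [← hzh']; group
    have hcomm : Commute w ((h : M) : G)⁻¹ := by
      have h1 : Commute ((z : M) : G) ((h : M) : G) :=
        (Subgroup.mem_center_iff.1 hzc _).symm
      have h2 : Commute w ((h : M) : G) := by
        rw [← hzh']
        exact h1.mul_left (Commute.refl _)
      exact h2.inv_right
    have hzp : IsPEl p ((z : M) : G) := by
      rw [hzeq]
      exact hw.mul_of_commute hhp.inv hcomm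
    have hzN : ((z : M) : G) ^ Nat.card (Subgroup.center G) = 1 := pow_card_center hzc
    have hz1 : ((z : M) : G) = 1 := hzp.eq_one_of_pow_eq_one hZ hzN
    have : (⟨w, hwM⟩ : M) = (h : M) := by
      apply Subtype.ext
      show w = ((h : M) : G)
      rw [← hzh', hz1, one_mul]
    rw [this]
    exact h.2
  have hxH := key x hxN hx
  have hyH := key y hyN hy
  have hxyH : (⟨x, hxN⟩ * ⟨y, hyN⟩ : M) ∈ H := H.mul_mem hxH hyH
  obtain ⟨k, hk⟩ := hHp ⟨_, hxyH⟩
  refine ⟨k, ?_⟩
  have := congrArg Subtype.val (congrArg Subtype.val hk)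
  simpa using this

/-- the `p`-subgroup of `G` lying over a `p`-subgroup of the central quotient -/
def pLift (hZ : (Nat.card (Subgroup.center G)).Coprime p)
    (Nb : Subgroup (G ⧸ Subgroup.center G)) (hNb : IsPGroup p Nb) : Subgroup G where
  carrier := {x | IsPEl p x ∧ π x ∈ Nb}
  mul_mem' := by
    rintro x y ⟨hx, hxN⟩ ⟨hy, hyN⟩
    refine ⟨IsPEl.mul_of_mk_mem hZ hNb hx hy hxN hyN, ?_⟩
    rw [map_mul]
    exact Nb.mul_mem hxN hyN
  one_mem' := ⟨IsPEl.one, by rw [map_one]; exact Nb.one_mem⟩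
  inv_mem' := by
    rintro x ⟨hx, hxN⟩
    refine ⟨hx.inv, ?_⟩
    rw [map_inv]
    exact Nb.inv_mem hxN

theorem mem_pLift (hZ : (Nat.card (Subgroup.center G)).Coprime p)
    {Nb : Subgroup (G ⧸ Subgroup.center G)} (hNb : IsPGroup p Nb) {x : G} :
    x ∈ pLift hZ Nb hNb ↔ IsPEl p x ∧ π x ∈ Nb := Iff.rfl

theorem isPGroup_pLift (hZ : (Nat.card (Subgroup.center G)).Coprime p)
    {Nb : Subgroup (G ⧸ Subgroup.center G)} (hNb : IsPGroup p Nb) :
    IsPGroup p (pLift hZ Nb hNb) :=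
  isPGroup_of_forall_isPEl fun _ hx => hx.1

theorem map_pLift (hZ : (Nat.card (Subgroup.center G)).Coprime p)
    {Nb : Subgroup (G ⧸ Subgroup.center G)} (hNb : IsPGroup p Nb) :
    (pLift hZ Nb hNb).map π = Nb := by
  ext xb
  constructor
  · rintro ⟨x, hx, rfl⟩
    exact hx.2
  · intro hxb
    obtain ⟨x, hx, rfl⟩ := exists_isPEl_lift hZ (IsPEl.of_mem hNb hxb)
    exact ⟨x, ⟨hx, hxb⟩, rfl⟩

theorem pLift_map (hZ : (Nat.card (Subgroup.center G)).Coprime p) {N : Subgroup G}
    (hN : IsPGroup p N) : pLift hZ (N.map π) (hN.map π) = N := by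
  ext x
  rw [mem_pLift]
  constructor
  · rintro ⟨hx, y, hy, hyx⟩
    have := IsPEl.eq_of_mk_eq hZ (IsPEl.of_mem hN hy) hx hyx
    rw [← this]
    exact hy
  · intro hx
    exact ⟨IsPEl.of_mem hN hx, x, hx, rfl⟩

theorem pLift_mono (hZ : (Nat.card (Subgroup.center G)).Coprime p)
    {Nb Nb' : Subgroup (G ⧸ Subgroup.center G)} (hNb : IsPGroup p Nb) (hNb' : IsPGroup p Nb')
    (h : Nb ≤ Nb') : pLift hZ Nb hNb ≤ pLift hZ Nb' hNb' := fun _ hx => ⟨hx.1, h hx.2⟩

/-- a `p`-subgroup maps injectively to the central quotient -/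
theorem card_map_mk (hZ : (Nat.card (Subgroup.center G)).Coprime p) {N : Subgroup G}
    (hN : IsPGroup p N) : Nat.card (N.map π) = Nat.card N := by
  have hinj : Function.Injective ((π).comp N.subtype) := by
    intro a b hab
    apply Subtype.ext
    exact IsPEl.eq_of_mk_eq hZ (IsPEl.of_mem hN a.2) (IsPEl.of_mem hN b.2) hab
  have h1 : N.map π = ((π).comp N.subtype).range := by
    ext x
    constructor
    · rintro ⟨y, hy, rfl⟩
      exact ⟨⟨y, hy⟩, rfl⟩
    · rintro ⟨y, rfl⟩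
      exact ⟨y, y.2, rfl⟩
  rw [h1]
  exact (Nat.card_congr (MonoidHom.ofInjective hinj).toEquiv).symm

end plift

end Cfsg.Agent.Helper17.OrthAut
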