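import Mathlib
import Cfsg.Agent.Lib.Helper17.OrthAut1

set_option autoImplicit false

/-!
# Maximal subgroups through a quotient and an automorphism; fixed points of `p`-groups (helper17)
-/

namespace Cfsg.Agent.Helper17.OrthAut

section coatom
variable {G : Type*} [Group G] (Z : Subgroup G) [Z.Normal]

theorem comap_map_mk' {H : Subgroup G} (hZH : Z ≤ H) :
    (H.map (QuotientGroup.mk' Z)).comap (QuotientGroup.mk' Z) = H := by
  rw [Subgroup.comap_map_eq, QuotientGroup.ker_mk']
  exact sup_eq_left.2 hZH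

theorem map_comap_mk' (K : Subgroup (G ⧸ Z)) :
    (K.comap (QuotientGroup.mk' Z)).map (QuotientGroup.mk' Z) = K :=
  Subgroup.map_comap_eq_self_of_surjective (QuotientGroup.mk'_surjective Z) K

theorem map_symm_map (α : (G ⧸ Z) ≃* (G ⧸ Z)) (K : Subgroup (G ⧸ Z)) :
    (K.map α.toMonoidHom).map α.symm.toMonoidHom = K := by
  ext x
  constructor
  · rintro ⟨y, ⟨z, hz, rfl⟩, rfl⟩
    simpa using hz
  · intro hx
    exact ⟨α x, ⟨x, hx, rfl⟩, by simp⟩

theorem map_map_symm (α : (G ⧸ Z) ≃* (G ⧸ Z)) (K : Subgroup (G ⧸ Z)) :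
    (K.map α.symm.toMonoidHom).map α.toMonoidHom = K := by
  have := map_symm_map Z α.symm K
  simpa using this

/-- the transport of a subgroup of `G` containing `Z` through an automorphism of `G ⧸ Z` -/
def transport (α : (G ⧸ Z) ≃* (G ⧸ Z)) (H : Subgroup G) : Subgroup G :=
  ((H.map (QuotientGroup.mk' Z)).map α.toMonoidHom).comap (QuotientGroup.mk' Z)

theorem le_transport (α : (G ⧸ Z) ≃* (G ⧸ Z)) (H : Subgroup G) : Z ≤ transport Z α H := by
  intro z hz
  unfold transport
  rw [Subgroup.mem_comap]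
  have : QuotientGroup.mk' Z z = 1 := (QuotientGroup.eq_one_iff z).2 hz
  rw [this]
  exact Subgroup.one_mem _

theorem map_transport (α : (G ⧸ Z) ≃* (G ⧸ Z)) (H : Subgroup G) :
    (transport Z α H).map (QuotientGroup.mk' Z) =
      (H.map (QuotientGroup.mk' Z)).map α.toMonoidHom :=
  map_comap_mk' Z _

theorem transport_mono (α : (G ⧸ Z) ≃* (G ⧸ Z)) {H K : Subgroup G} (h : H ≤ K) :
    transport Z α H ≤ transport Z α K :=
  Subgroup.comap_mono (Subgroup.map_mono (Subgroup.map_mono h))

theorem transport_symm_transport (α : (G ⧸ Z) ≃* (G ⧸ Z)) {H : Subgroup G} (hZH : Z ≤ H) :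
    transport Z α.symm (transport Z α H) = H := by
  unfold transport
  rw [map_comap_mk', map_symm_map, comap_map_mk' Z hZH]

theorem transport_transport_symm (α : (G ⧸ Z) ≃* (G ⧸ Z)) {H : Subgroup G} (hZH : Z ≤ H) :
    transport Z α (transport Z α.symm H) = H := by
  have := transport_symm_transport Z α.symm hZH
  simpa using this

theorem transport_top (α : (G ⧸ Z) ≃* (G ⧸ Z)) : transport Z α ⊤ = ⊤ := by
  rw [eq_top_iff]
  intro x _
  unfold transport
  rw [Subgroup.mem_comap]
  refine ⟨α.symm (QuotientGroup.mk' Z x), ?_, by simp⟩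
  obtain ⟨y, hy⟩ := QuotientGroup.mk'_surjective Z (α.symm (QuotientGroup.mk' Z x))
  exact ⟨y, Subgroup.mem_top _, hy⟩

theorem isCoatom_transport (α : (G ⧸ Z) ≃* (G ⧸ Z)) {P : Subgroup G} (hP : IsCoatom P)
    (hZP : Z ≤ P) : IsCoatom (transport Z α P) := by
  constructor
  · intro h
    have h1 := transport_symm_transport Z α hZP
    rw [h, transport_top] at h1
    exact hP.1 h1.symm
  · intro H hH
    have hZH : Z ≤ H := (le_transport Z α P).trans hH.le
    have h1 : P ≤ transport Z α.symm H := by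
      have := transport_mono Z α.symm hH.le
      rwa [transport_symm_transport Z α hZP] at this
    have h2 : P ≠ transport Z α.symm H := by
      intro h
      have h3 := transport_transport_symm Z α hZH
      rw [← h] at h3
      exact hH.ne h3
    have h3 := hP.2 _ (lt_of_le_of_ne h1 h2)
    have h4 := transport_transport_symm Z α hZH
    rw [h3, transport_top] at h4
    exact h4.symm

end coatom

end Cfsg.Agent.Helper17.OrthAut

namespace Cfsg.Agent.Helper17.OrthAut

section fixed
variable {F : Type*} [Field F] {p : ℕ} [hp : Fact p.Prime] [CharP F p]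
variable {V : Type*} [AddCommGroup V] [Module F V] [Finite V]
variable {Γ : Type*} [Group Γ]

/-- a `p`-group acting linearly in characteristic `p` fixes a non-zero vector of every non-zero
invariant subspace -/
theorem exists_fixed_ne_zero (hΓ : IsPGroup p Γ) (ρ : Γ →* Module.End F V) (U : Submodule F V)
    (hU : U ≠ ⊥) (hinv : ∀ γ : Γ, ∀ u ∈ U, ρ γ u ∈ U) :
    ∃ v ∈ U, v ≠ 0 ∧ ∀ γ : Γ, ρ γ v = v := by
  let f : Γ →* Function.End U :=
    { toFun := fun γ u => ⟨ρ γ u, hinv γ u u.2⟩
      map_one' := by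
        funext u
        apply Subtype.ext
        show ρ 1 (u : V) = u
        rw [map_one]; rfl
      map_mul' := by
        intro a b
        funext u
        apply Subtype.ext
        show ρ (a * b) (u : V) = ρ a (ρ b (u : V))
        rw [map_mul]; rfl }
  letI : MulAction Γ U := MulAction.ofEndHom f
  have hsmul : ∀ (γ : Γ) (u : U), ((γ • u : U) : V) = ρ γ (u : V) := fun _ _ => rfl
  obtain ⟨u0, hu0U, hu0⟩ := (Submodule.ne_bot_iff U).1 hU
  have hdvd : p ∣ Nat.card U := by
    have h1 : addOrderOf (⟨u0, hu0U⟩ : U) = p := by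
      apply addOrderOf_eq_prime
      · apply Subtype.ext
        show p • u0 = 0
        have : (p : F) • u0 = 0 := by rw [CharP.cast_eq_zero F p, zero_smul]
        rw [← this, Nat.cast_smul_eq_nsmul]
      · intro h
        exact hu0 (congrArg Subtype.val h)
    rw [← h1]
    exact addOrderOf_dvd_natCard _
  have h0 : (0 : U) ∈ MulAction.fixedPoints Γ U := by
    intro γ
    apply Subtype.ext
    rw [hsmul]
    simp
  obtain ⟨b, hb, hb0⟩ := hΓ.exists_fixed_point_of_prime_dvd_card_of_fixed_point U hdvd h0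
  refine ⟨b, b.2, ?_, ?_⟩
  · intro h
    apply hb0
    apply Subtype.ext
    exact h.symm
  · intro γ
    have := hb γ
    rw [← hsmul, this]

/-- relative version: between two invariant subspaces `U < U'` there is a vector of `U'`, not in
`U`, fixed modulo `U` -/
theorem exists_fixed_mod (hΓ : IsPGroup p Γ) (ρ : Γ →* Module.End F V) (U U' : Submodule F V)
    (hUU' : U ≤ U') (hne : ¬ U' ≤ U) (hinv : ∀ γ : Γ, ∀ u ∈ U, ρ γ u ∈ U)
    (hinv' : ∀ γ : Γ, ∀ u ∈ U', ρ γ u ∈ U') :
    ∃ v ∈ U', v ∉ U ∧ ∀ γ : Γ, ρ γ v - v ∈ U := by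
  have hle : ∀ γ : Γ, U ≤ U.comap (ρ γ) := fun γ u hu => hinv γ u hu
  let ρb : Γ →* Module.End F (V ⧸ U) :=
    { toFun := fun γ => U.mapQ U (ρ γ) (hle γ)
      map_one' := by
        apply Submodule.linearMap_qext
        ext v
        simp
      map_mul' := by
        intro a b
        apply Submodule.linearMap_qext
        ext v
        simp [Module.End.mul_apply] }
  have hρb : ∀ (γ : Γ) (v : V), ρb γ (Submodule.Quotient.mk v) = Submodule.Quotient.mk (ρ γ v) :=
    fun _ _ => rfl
  haveI : Finite (V ⧸ U) := Finite.of_surjective _ (Submodule.Quotient.mk_surjective U)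
  have hUb : U'.map U.mkQ ≠ ⊥ := by
    intro h
    apply hne
    intro u hu
    have h1 : U.mkQ u ∈ U'.map U.mkQ := Submodule.mem_map_of_mem hu
    rw [h, Submodule.mem_bot] at h1
    exact (Submodule.Quotient.mk_eq_zero U).1 h1
  obtain ⟨vb, hvb, hvb0, hfix⟩ := exists_fixed_ne_zero hΓ ρb (U'.map U.mkQ) hUb (by
    rintro γ _ ⟨u, hu, rfl⟩
    exact ⟨ρ γ u, hinv' γ u hu, rfl⟩)
  obtain ⟨v, hv, rfl⟩ := hvb
  refine ⟨v, hv, ?_, ?_⟩
  · intro hvU
    apply hvb0
    exact (Submodule.Quotient.mk_eq_zero U).2 hvU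
  · intro γ
    have h1 := hfix γ
    have h2 : ρb γ (U.mkQ v) = Submodule.Quotient.mk (ρ γ v) := rfl
    rw [h2] at h1
    exact (Submodule.Quotient.eq U).1 h1

end fixed

end Cfsg.Agent.Helper17.OrthAut
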