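import Mathlib
import Cfsg.Agent.Lib.Helper2.OrthSimple

set_option autoImplicit false
set_option linter.unusedSectionVars false
set_option linter.unusedSimpArgs false

/-!
# Geometry of root groups in orthogonal groups (helper17)
-/

namespace Cfsg.Agent.Helper17.OrthAut

open QuadraticMap Matrix Cfsg.Agent.Helper28.WittQuad Cfsg.Agent.Helper2.Orth

variable {F : Type*} [Field F] {ι : Type} [Fintype ι] [DecidableEq ι]
  {Q : QuadraticForm F (ι → F)}

/-- orthogonal complement with respect to the polar form -/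
def perp (Q : QuadraticForm F (ι → F)) (U : Submodule F (ι → F)) : Submodule F (ι → F) where
  carrier := {v | ∀ u ∈ U, polar Q u v = 0}
  add_mem' := by
    intro a b ha hb u hu
    rw [polar_add_right, ha u hu, hb u hu, add_zero]
  zero_mem' := fun u _ => polar_zero_right _ _
  smul_mem' := by
    intro c a ha u hu
    rw [polar_smul_right, ha u hu, smul_zero]

theorem mem_perp {U : Submodule F (ι → F)} {v : ι → F} :
    v ∈ perp Q U ↔ ∀ u ∈ U, polar Q u v = 0 := Iff.rfl

theorem perp_anti {U U' : Submodule F (ι → F)} (h : U ≤ U') : perp Q U' ≤ perp Q U :=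
  fun _ hv u hu => hv u (h hu)

theorem le_perp_perp (U : Submodule F (ι → F)) : U ≤ perp Q (perp Q U) := by
  intro u hu v hv
  rw [polar_comm]
  exact hv u hu

theorem perp_perp (hQ : (polarBilin Q).Nondegenerate) (U : Submodule F (ι → F)) :
    perp Q (perp Q U) = U := by
  apply le_antisymm _ (le_perp_perp U)
  intro v hv
  by_contra hvU
  obtain ⟨b, hb1, hb2⟩ := exists_perp_partner hQ U hvU
  have hb : b ∈ perp Q U := by
    intro u hu
    rw [polar_comm]
    exact hb1 u hu
  rw [hv b hb] at hb2
  exact zero_ne_one hb2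

theorem mem_perp_span_singleton {z v : ι → F} :
    v ∈ perp Q (Submodule.span F {z}) ↔ polar Q z v = 0 := by
  constructor
  · intro h
    exact h z (Submodule.mem_span_singleton_self z)
  · intro h u hu
    obtain ⟨c, rfl⟩ := Submodule.mem_span_singleton.1 hu
    rw [polar_smul_left, h, smul_zero]

/-- a vector orthogonal to the whole of `z^⊥` is a multiple of `z` -/
theorem exists_smul_of_perp_perp (hQ : (polarBilin Q).Nondegenerate) {z v : ι → F}
    (h : ∀ b, polar Q z b = 0 → polar Q b v = 0) : ∃ c : F, v = c • z := by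
  have h1 : v ∈ perp Q (perp Q (Submodule.span F {z})) := by
    intro b hb
    exact h b (mem_perp_span_singleton.1 hb)
  rw [perp_perp hQ] at h1
  obtain ⟨c, hc⟩ := Submodule.mem_span_singleton.1 h1
  exact ⟨c, hc.symm⟩

theorem exists_polar_eq_one (hQ : (polarBilin Q).Nondegenerate) {z : ι → F} (hz0 : z ≠ 0) :
    ∃ v, polar Q z v = 1 := by
  have : z ∉ (⊥ : Submodule F (ι → F)) := by
    rw [Submodule.mem_bot]; exact hz0
  obtain ⟨b, -, hb⟩ := exists_perp_partner hQ ⊥ this
  exact ⟨b, by rw [polar_comm]; exact hb⟩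

/-- a singular partner of a non-zero singular vector -/
theorem exists_hyp_partner (hQ : (polarBilin Q).Nondegenerate) {z : ι → F} (hz0 : z ≠ 0)
    (hz : Q z = 0) : ∃ f, Q f = 0 ∧ polar Q z f = 1 := by
  obtain ⟨v, hv⟩ := exists_polar_eq_one hQ hz0
  refine ⟨v - Q v • z, ?_, ?_⟩
  · have : v - Q v • z = v + (-Q v) • z := by module
    rw [this, Q_add', QuadraticMap.map_smul, hz, polar_smul_right, polar_comm Q v z, hv]
    simp
  · rw [polar_sub_right, polar_smul_right, polar_self_of_singular Q hz, hv]
    simp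

/-- the component in `⟨z, f⟩^⊥` -/
def projW (Q : QuadraticForm F (ι → F)) (z f v : ι → F) : ι → F :=
  v - polar Q f v • z - polar Q z v • f

theorem polar_left_projW {z f : ι → F} (hz : Q z = 0) (hzf : polar Q z f = 1) (v : ι → F) :
    polar Q z (projW Q z f v) = 0 := by
  unfold projW
  rw [polar_sub_right, polar_sub_right, polar_smul_right, polar_smul_right,
    polar_self_of_singular Q hz, hzf]
  simp

theorem polar_right_projW {z f : ι → F} (hf : Q f = 0) (hzf : polar Q z f = 1) (v : ι → F) :
    polar Q f (projW Q z f v) = 0 := by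
  unfold projW
  rw [polar_sub_right, polar_sub_right, polar_smul_right, polar_smul_right,
    polar_self_of_singular Q hf, polar_comm Q f z, hzf]
  simp

theorem eq_add_projW (z f v : ι → F) :
    v = polar Q f v • z + polar Q z v • f + projW Q z f v := by
  unfold projW
  abel

theorem projW_add (z f v w : ι → F) : projW Q z f (v + w) = projW Q z f v + projW Q z f w := by
  unfold projW
  rw [polar_add_right, polar_add_right]
  module

theorem projW_smul (z f : ι → F) (c : F) (v : ι → F) :
    projW Q z f (c • v) = c • projW Q z f v := by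
  unfold projW
  rw [polar_smul_right, polar_smul_right]
  simp only [smul_eq_mul]
  module

theorem projW_of_mem {z f v : ι → F} (h1 : polar Q z v = 0) (h2 : polar Q f v = 0) :
    projW Q z f v = v := by
  unfold projW
  rw [h1, h2]
  simp

/-! ### Eichler elements -/

theorem eichG_eq_one_iff (hQ : (polarBilin Q).Nondegenerate) {z b : ι → F} (hz0 : z ≠ 0)
    (hz : Q z = 0) (hzb : polar Q z b = 0) : eichG Q z b = 1 ↔ ∃ c : F, b = c • z := by
  constructor
  · intro h
    obtain ⟨v, hv⟩ := exists_polar_eq_one hQ hz0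
    have h1 : eichG Q z b • v = v := by rw [h, one_smul]
    rw [eichG_smul hz hzb, eich_apply, hv] at h1
    obtain ⟨s, hs⟩ : ∃ s : F, s = polar Q b v := ⟨_, rfl⟩
    obtain ⟨t, ht⟩ : ∃ t : F, t = Q b := ⟨_, rfl⟩
    rw [← hs, ← ht] at h1
    refine ⟨s - t, ?_⟩
    have h2 : s • z - (1 : F) • b - t • (1 : F) • z = 0 := by
      have := h1
      rw [add_eq_left] at this
      exact this
    calc b = (s - t) • z - (s • z - (1 : F) • b - t • (1 : F) • z) := by module
      _ = (s - t) • z := by rw [h2, sub_zero]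
  · rintro ⟨c, rfl⟩
    exact eichG_self_smul hz c

theorem eichG_eq_iff (hQ : (polarBilin Q).Nondegenerate) {z b b' : ι → F} (hz0 : z ≠ 0)
    (hz : Q z = 0) (hzb : polar Q z b = 0) (hzb' : polar Q z b' = 0) :
    eichG Q z b = eichG Q z b' ↔ ∃ c : F, b - b' = c • z := by
  have hnb' : polar Q z (-b') = 0 := by rw [polar_neg_right, hzb', neg_zero]
  have h1 : eichG Q z b * (eichG Q z b')⁻¹ = eichG Q z (b - b') := by
    rw [eichG_inv hz hzb', eichG_mul hz hzb hnb', sub_eq_add_neg]
  rw [← eichG_eq_one_iff hQ hz0 hz (by rw [polar_sub_right, hzb, hzb', sub_zero]), ← h1,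
    mul_inv_eq_one]

/-- in dimension at least three there is a vector of `z^⊥` outside the line of `z` -/
theorem exists_perp_not_smul (hQ : (polarBilin Q).Nondegenerate) {e f : Fin 2 → (ι → F)}
    (fr : HypFrame Q e f) {z : ι → F} (hz0 : z ≠ 0) (hz : Q z = 0) :
    ∃ b, polar Q z b = 0 ∧ ∀ c : F, b ≠ c • z := by
  obtain ⟨g, hg⟩ := exists_smul_eq_of_Q_eq hQ hz0 (frame_e_ne_zero fr 0) (by rw [hz, fr.qe])
  refine ⟨g⁻¹ • e 1, ?_, ?_⟩
  · rw [← polar_smul_smul Q g, hg, smul_inv_smul, fr.ee]
  · intro c hc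
    have h1 : g • (g⁻¹ • e 1) = g • (c • z) := by rw [hc]
    rw [smul_inv_smul, smul_smul' Q, hg] at h1
    have h2 : polar Q (e 1) (f 1) = polar Q (c • e 0) (f 1) := by rw [h1]
    rw [polar_smul_left, fr.ef, fr.ef] at h2
    simp at h2

/-- the common fixed vectors of a root group are the multiples of `z` -/
theorem exists_smul_of_fixed (hQ : (polarBilin Q).Nondegenerate) {e f : Fin 2 → (ι → F)}
    (fr : HypFrame Q e f) {z v : ι → F} (hz0 : z ≠ 0) (hz : Q z = 0)
    (h : ∀ b, polar Q z b = 0 → eich Q z b v = v) : ∃ c : F, v = c • z := by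
  have key : ∀ b, polar Q z b = 0 →
      polar Q b v • z - polar Q z v • b - Q b • polar Q z v • z = 0 := by
    intro b hb
    have := h b hb
    rw [eich_apply, add_eq_left] at this
    exact this
  have hzv : polar Q z v = 0 := by
    by_contra hne
    obtain ⟨b, hb, hbz⟩ := exists_perp_not_smul hQ fr hz0 hz
    apply hbz ((polar Q z v)⁻¹ * (polar Q b v - Q b * polar Q z v))
    have h1 := key b hb
    have h2 : polar Q z v • b = (polar Q b v - Q b * polar Q z v) • z := by
      have : polar Q z v • b = (polar Q b v - Q b * polar Q z v) • z -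
          (polar Q b v • z - polar Q z v • b - Q b • polar Q z v • z) := by module
      rw [this, h1, sub_zero]
    rw [← smul_smul, ← h2, smul_smul, inv_mul_cancel₀ hne, one_smul]
  apply exists_smul_of_perp_perp hQ
  intro b hb
  have h1 := key b hb
  rw [hzv] at h1
  simp only [zero_smul, smul_zero, sub_zero] at h1
  rcases smul_eq_zero.1 h1 with h2 | h2
  · exact h2
  · exact absurd h2 hz0

/-- an isometry fixing `z` and acting trivially on `z^⊥ / z` is an Eichler element -/
theorem eq_eichG_of_trivial (hQ : (polarBilin Q).Nondegenerate) {z : ι → F} (hz0 : z ≠ 0)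
    (hz : Q z = 0) (g : Cfsg.isometryGroup F (⇑Q)) (hgz : g • z = z)
    (h : ∀ w, polar Q z w = 0 → ∃ c : F, g • w - w = c • z) :
    ∃ b, polar Q z b = 0 ∧ g = eichG Q z b := by
  obtain ⟨f, hf, hzf⟩ := exists_hyp_partner hQ hz0 hz
  have hgf : Q (g • f) = 0 := by rw [Q_smul Q, hf]
  have hzgf : polar Q z (g • f) = 1 := by
    have := polar_smul_smul Q g z f
    rw [hgz] at this
    rw [this, hzf]
  obtain ⟨h0, h1, h2⟩ := eich_fix_move hz hf hgf hzf hzgf
  refine ⟨f - g • f, h0, ?_⟩
  apply ext_smul
  intro x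
  rw [eichG_smul hz h0]
  have hx := eq_add_projW (Q := Q) z f x
  set w := projW Q z f x with hw
  have hzw : polar Q z w = 0 := polar_left_projW hz hzf x
  have hfw : polar Q f w = 0 := polar_right_projW hf hzf x
  obtain ⟨c, hc⟩ := h w hzw
  have hgw : g • w = w + c • z := by rw [← hc]; abel
  have hc' : c = polar Q (f - g • f) w := by
    have h3 : polar Q (g • w) (g • f) = 0 := by rw [polar_smul_smul Q, polar_comm, hfw]
    rw [hgw, polar_add_left, polar_smul_left, hzgf] at h3
    rw [polar_sub_left, hfw, polar_comm Q (g • f) w]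
    have : c = -polar Q w (g • f) := by
      have h4 : polar Q w (g • f) + c = 0 := by simpa using h3
      linear_combination h4
    rw [this]; ring
  have hew : eich Q z (f - g • f) w = w + c • z := by
    rw [eich_apply, hzw, ← hc']
    simp
  rw [hx, smul_add' Q, smul_add' Q, smul_smul' Q, smul_smul' Q, hgz, hgw, map_add, map_add,
    map_smul, map_smul, h1, h2, hew]

/-- the intersection of two distinct root groups -/
theorem rootGroup_inter (hQ : (polarBilin Q).Nondegenerate) {z z' b b' : ι → F} (hz0 : z ≠ 0)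
    (hz : Q z = 0) (hz'0 : z' ≠ 0) (hz' : Q z' = 0) (hind : ∀ c : F, z' ≠ c • z)
    (hzb : polar Q z b = 0) (hzb' : polar Q z' b' = 0) (heq : eichG Q z b = eichG Q z' b')
    (hne : eichG Q z b ≠ 1) :
    polar Q z z' = 0 ∧ ∃ c : F, eichG Q z b = eichG Q z (c • z') := by
  -- the element fixes z'
  have h1 : eichG Q z b • z' = z' := by
    rw [heq, eichG_smul hz' hzb', eich_apply, polar_self_of_singular Q hz', polar_comm Q b' z',
      hzb']
    simp
  rw [eichG_smul hz hzb, eich_apply, add_eq_left] at h1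
  have hzz' : polar Q z z' = 0 := by
    by_contra hzz'
    apply hne
    rw [eichG_eq_one_iff hQ hz0 hz hzb]
    refine ⟨(polar Q z z')⁻¹ * (polar Q b z' - Q b * polar Q z z'), ?_⟩
    have h2 : polar Q z z' • b = (polar Q b z' - Q b * polar Q z z') • z := by
      have : polar Q z z' • b = (polar Q b z' - Q b * polar Q z z') • z -
          (polar Q b z' • z - polar Q z z' • b - Q b • polar Q z z' • z) := by module
      rw [this, h1, sub_zero]
    rw [← smul_smul, ← h2, smul_smul, inv_mul_cancel₀ hzz', one_smul]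
  refine ⟨hzz', ?_⟩
  have hbz' : polar Q b z' = 0 := by
    rw [hzz'] at h1
    simp only [zero_smul, smul_zero, sub_zero] at h1
    rcases smul_eq_zero.1 h1 with h2 | h2
    · exact h2
    · exact absurd h2 hz0
  -- a vector v with polar z v = 1, polar z' v = 0
  have hzn : z ∉ Submodule.span F {z'} := by
    intro hmem
    obtain ⟨c, hc⟩ := Submodule.mem_span_singleton.1 hmem
    have hc0 : c ≠ 0 := by
      rintro rfl
      rw [zero_smul] at hc
      exact hz0 hc.symm
    apply hind c⁻¹
    rw [← hc, smul_smul, inv_mul_cancel₀ hc0, one_smul]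
  obtain ⟨v, hv1, hv2⟩ := exists_perp_partner hQ _ hzn
  have hvz' : polar Q z' v = 0 := by
    rw [polar_comm]
    exact hv1 z' (Submodule.mem_span_singleton_self z')
  have hzv : polar Q z v = 1 := by rw [polar_comm]; exact hv2
  have h3 : eichG Q z b • v = eichG Q z' b' • v := by rw [heq]
  rw [eichG_smul hz hzb, eichG_smul hz' hzb', eich_apply, eich_apply, hzv, hvz'] at h3
  obtain ⟨s, hs⟩ : ∃ s : F, s = polar Q b v := ⟨_, rfl⟩
  obtain ⟨t, ht⟩ : ∃ t : F, t = Q b := ⟨_, rfl⟩
  obtain ⟨s', hs'⟩ : ∃ s : F, s = polar Q b' v := ⟨_, rfl⟩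
  obtain ⟨t', ht'⟩ : ∃ t : F, t = Q b' := ⟨_, rfl⟩
  rw [← hs, ← ht, ← hs', ← ht'] at h3
  have h4 : b = (s - t) • z + (-s') • z' := by
    calc b = (s - t) • z + (-s') • z' +
        ((v + (s' • z' - (0 : F) • b' - t' • (0 : F) • z')) -
          (v + (s • z - (1 : F) • b - t • (1 : F) • z))) := by module
      _ = (s - t) • z + (-s') • z' := by rw [← h3]; module
  refine ⟨-s', ?_⟩
  rw [eichG_eq_iff hQ hz0 hz hzb (by rw [polar_smul_right, hzz', smul_zero])]
  refine ⟨s - t, ?_⟩
  calc b - (-s') • z' = ((s - t) • z + (-s') • z') - (-s') • z' := by rw [← h4]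
    _ = (s - t) • z := by abel

/-- a Siegel element lies in both root groups -/
theorem eichG_swap {z z' : ι → F} (hz : Q z = 0) (hz' : Q z' = 0) (hzz' : polar Q z z' = 0) :
    eichG Q z z' = eichG Q z' (-z) := by
  apply ext_smul
  intro x
  rw [eichG_smul hz hzz', eichG_smul hz' (by rw [polar_neg_right, polar_comm, hzz', neg_zero]),
    eich_apply, eich_apply, hz', QuadraticMap.map_neg, hz, polar_neg_left]
  module

end Cfsg.Agent.Helper17.OrthAut
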