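import Mathlib
import Cfsg.Agent.Lib.Helper17.OrthAut3

set_option autoImplicit false
set_option linter.unusedSectionVars false
set_option linter.unusedSimpArgs false

/-!
# Irreducibility and commutant of the Eichler group; transfer to a subspace (helper17)
-/

namespace Cfsg.Agent.Helper17.OrthAut

open QuadraticMap Matrix Cfsg.Agent.Helper28.WittQuad Cfsg.Agent.Helper2.Orth

section coord
variable {F : Type*} [Field F] {ι : Type} [Fintype ι] [DecidableEq ι]
  {Q : QuadraticForm F (ι → F)}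

theorem eich_self {z b : ι → F} (hz : Q z = 0) (hzb : polar Q z b = 0) : eich Q z b z = z := by
  rw [eich_apply, polar_comm Q b z, hzb, polar_self_of_singular Q hz]
  simp

/-- for a non-zero singular vector: two non-orthogonal vectors in its perp, and a singular
partner -/
theorem exists_perp_pair (hQ : (polarBilin Q).Nondegenerate) {e f : Fin 2 → (ι → F)}
    (fr : HypFrame Q e f) {w : ι → F} (hw0 : w ≠ 0) (hw : Q w = 0) :
    ∃ b b' w' : ι → F, polar Q w b = 0 ∧ polar Q w b' = 0 ∧ polar Q b b' = 1 ∧ Q b = 0 ∧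
      Q b' = 0 ∧ Q w' = 0 ∧ polar Q w w' = 1 ∧ polar Q w' b = 0 ∧ polar Q w' b' = 0 := by
  obtain ⟨t, -, ht⟩ := eich_trans_singular hQ fr (frame_e_ne_zero fr 0) (fr.qe 0) hw0 hw
  refine ⟨t • e 1, t • f 1, t • f 0, ?_, ?_, ?_, ?_, ?_, ?_, ?_, ?_, ?_⟩
  · rw [← ht, polar_smul_smul Q, fr.ee]
  · rw [← ht, polar_smul_smul Q, fr.ef]; simp
  · rw [polar_smul_smul Q, fr.ef]; simp
  · rw [Q_smul Q, fr.qe]
  · rw [Q_smul Q, fr.qf]
  · rw [Q_smul Q, fr.qf]
  · rw [← ht, polar_smul_smul Q, fr.ef]; simp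
  · rw [polar_smul_smul Q, fr.fe]; simp
  · rw [polar_smul_smul Q, fr.ff]

theorem irr_step {Y : Submodule F (ι → F)}
    (hinv : ∀ z b, Q z = 0 → polar Q z b = 0 → ∀ y ∈ Y, eich Q z b y ∈ Y) {y w : ι → F}
    (hy : y ∈ Y) (hw : Q w = 0) (hwy : polar Q w y ≠ 0) {b₁ b₂ : ι → F}
    (hb₁ : polar Q w b₁ = 0) (hb₂ : polar Q w b₂ = 0) (hb : polar Q b₁ b₂ ≠ 0) :
    w ∈ Y ∧ ∀ b, polar Q w b = 0 → b ∈ Y := by
  have hD : ∀ b, polar Q w b = 0 →
      polar Q b y • w - polar Q w y • b - Q b • polar Q w y • w ∈ Y := by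
    intro b hb
    have h1 := Y.sub_mem (hinv w b hw hb y hy) hy
    rw [eich_apply, add_sub_cancel_left] at h1
    exact h1
  have hwY : w ∈ Y := by
    have h1 := hD b₁ hb₁
    have h2 := hD b₂ hb₂
    have h3 := hD (b₁ + b₂) (by rw [polar_add_right, hb₁, hb₂, add_zero])
    have h4 := Y.sub_mem (Y.sub_mem h3 h1) h2
    have h5 : (polar Q (b₁ + b₂) y • w - polar Q w y • (b₁ + b₂) -
        Q (b₁ + b₂) • polar Q w y • w) -
        (polar Q b₁ y • w - polar Q w y • b₁ - Q b₁ • polar Q w y • w) -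
        (polar Q b₂ y • w - polar Q w y • b₂ - Q b₂ • polar Q w y • w) =
        (-(polar Q b₁ b₂ * polar Q w y)) • w := by
      rw [polar_add_left, Q_add']
      module
    rw [h5] at h4
    have h6 := Y.smul_mem (-(polar Q b₁ b₂ * polar Q w y))⁻¹ h4
    rw [smul_smul, inv_mul_cancel₀ (neg_ne_zero.2 (mul_ne_zero hb hwy)), one_smul] at h6
    exact h6
  refine ⟨hwY, fun b hb => ?_⟩
  have h1 := hD b hb
  have h2 : polar Q w y • b = polar Q b y • w - Q b • polar Q w y • w -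
      (polar Q b y • w - polar Q w y • b - Q b • polar Q w y • w) := by module
  have h3 : polar Q w y • b ∈ Y := by
    rw [h2]
    exact Y.sub_mem (Y.sub_mem (Y.smul_mem _ hwY) (Y.smul_mem _ (Y.smul_mem _ hwY))) h1
  have h4 := Y.smul_mem (polar Q w y)⁻¹ h3
  rw [smul_smul, inv_mul_cancel₀ hwy, one_smul] at h4
  exact h4

/-- the Eichler maps act irreducibly -/
theorem irr_coord (hQ : (polarBilin Q).Nondegenerate) {e f : Fin 2 → (ι → F)}
    (fr : HypFrame Q e f) (Y : Submodule F (ι → F)) (hY : Y ≠ ⊥)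
    (hinv : ∀ z b, Q z = 0 → polar Q z b = 0 → ∀ y ∈ Y, eich Q z b y ∈ Y) : Y = ⊤ := by
  obtain ⟨y, hyY, hy0⟩ := (Submodule.ne_bot_iff Y).1 hY
  -- a singular vector not orthogonal to y
  obtain ⟨w, hw, hwy⟩ : ∃ w, Q w = 0 ∧ polar Q w y ≠ 0 := by
    by_contra hcon
    push Not at hcon
    obtain ⟨v, hv⟩ := exists_polar_eq_one hQ hy0
    have h1 : ∀ u ∈ Submodule.span F {s : ι → F | Q s = 0}, polar Q u y = 0 := by
      intro u hu
      induction hu using Submodule.span_induction with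
      | mem s hs => exact hcon s hs
      | zero => exact polar_zero_left _ _
      | add a b _ _ ha hb => rw [polar_add_left, ha, hb, add_zero]
      | smul c a _ ha => rw [polar_smul_left, ha, smul_zero]
    have h2 := h1 v (mem_span_all_singular hQ fr v)
    rw [polar_comm, hv] at h2
    exact one_ne_zero h2
  have hw0 : w ≠ 0 := by
    rintro rfl
    exact hwy (polar_zero_left _ _)
  obtain ⟨b₁, b₂, w', hb₁, hb₂, hb, -, -, hw', hww', -, -⟩ := exists_perp_pair hQ fr hw0 hw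
  obtain ⟨hwY, hperp⟩ := irr_step hinv hyY hw hwy hb₁ hb₂ (by rw [hb]; exact one_ne_zero)
  have hw'0 : w' ≠ 0 := by
    rintro rfl
    rw [polar_zero_right] at hww'
    exact zero_ne_one hww'
  obtain ⟨c₁, c₂, -, hc₁, hc₂, hc, -, -, -, -, -, -⟩ := exists_perp_pair hQ fr hw'0 hw'
  obtain ⟨hw'Y, -⟩ := irr_step hinv hwY hw' (by rw [polar_comm, hww']; exact one_ne_zero) hc₁ hc₂
    (by rw [hc]; exact one_ne_zero)
  rw [eq_top_iff]
  intro v _
  have h1 : v = (v - polar Q w v • w') + polar Q w v • w' := by abel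
  rw [h1]
  apply Y.add_mem _ (Y.smul_mem _ hw'Y)
  apply hperp
  rw [polar_sub_right, polar_smul_right, hww']
  simp

/-- an additive map commuting with the Eichler maps is a scalar -/
theorem comm_coord (hQ : (polarBilin Q).Nondegenerate) {e f : Fin 2 → (ι → F)}
    (fr : HypFrame Q e f) (D : (ι → F) →+ (ι → F))
    (hD : ∀ z b, Q z = 0 → polar Q z b = 0 → ∀ v, D (eich Q z b v) = eich Q z b (D v)) :
    ∃ c : F, ∀ v, D v = c • v := by
  have hpt : ∀ u : ι → F, u ≠ 0 → Q u = 0 → ∃ a : F, D u = a • u := by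
    intro u hu0 hu
    apply exists_smul_of_fixed hQ fr hu0 hu
    intro b hb
    rw [← hD u b hu hb, eich_self hu hb]
  have hpair : ∀ u w : ι → F, u ≠ 0 → Q u = 0 → Q w = 0 → polar Q u w = 0 →
      (∀ c : F, w ≠ c • u) → ∀ a b : F, D u = a • u → D w = b • w → a = b := by
    intro u w hu0 hu hw huw hind a b ha hb
    have hs : Q (u + w) = 0 := by rw [Q_add', hu, hw, huw]; ring
    have hs0 : u + w ≠ 0 := by
      intro h
      apply hind (-1)
      rw [neg_smul, one_smul]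
      exact eq_neg_of_add_eq_zero_right h
    obtain ⟨c, hc⟩ := hpt (u + w) hs0 hs
    rw [map_add, ha, hb, smul_add] at hc
    have h1 : (c - b) • w = (a - c) • u := by
      have : (c - b) • w = (c • u + c • w) - (a • u + b • w) + (a - c) • u := by module
      rw [this, ← hc]
      module
    have hcb : c - b = 0 := by
      by_contra hne
      apply hind ((c - b)⁻¹ * (a - c))
      rw [← smul_smul, ← h1, smul_smul, inv_mul_cancel₀ hne, one_smul]
    rw [hcb, zero_smul] at h1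
    have hac : a - c = 0 := by
      rcases smul_eq_zero.1 h1.symm with h | h
      · exact h
      · exact absurd h hu0
    rw [sub_eq_zero.1 hac, sub_eq_zero.1 hcb]
  have hconst : ∀ u u' : ι → F, u ≠ 0 → Q u = 0 → u' ≠ 0 → Q u' = 0 → ∀ a b : F,
      D u = a • u → D u' = b • u' → a = b := by
    intro u u' hu0 hu hu'0 hu' a b ha hb
    obtain ⟨w, hw, huw, hu'w, hwu, hwu'⟩ := exists_common_orth hQ fr hu0 hu hu'0 hu'
    have hw0 : w ≠ 0 := by
      intro h
      exact hwu 0 (by rw [h, zero_smul])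
    obtain ⟨c, hc⟩ := hpt w hw0 hw
    rw [hpair u w hu0 hu hw huw hwu a c ha hc, hpair u' w hu'0 hu' hw hu'w hwu' b c hb hc]
  have he0 := frame_e_ne_zero fr 0
  obtain ⟨a, ha⟩ := hpt (e 0) he0 (fr.qe 0)
  have hsing : ∀ s : ι → F, Q s = 0 → D s = a • s := by
    intro s hs
    by_cases hs0 : s = 0
    · rw [hs0, map_zero, smul_zero]
    · obtain ⟨b, hb⟩ := hpt s hs0 hs
      rw [hconst (e 0) s he0 (fr.qe 0) hs0 hs a b ha hb]
      exact hb
  refine ⟨a, fun v => ?_⟩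
  have key : ∀ v ∈ Submodule.span F {s : ι → F | Q s = 0}, ∀ c : F, D (c • v) = a • c • v := by
    intro v hv
    induction hv using Submodule.span_induction with
    | mem s hs =>
      intro c
      exact hsing (c • s) (by rw [QuadraticMap.map_smul, hs, smul_zero])
    | zero => intro c; simp
    | add x y _ _ hx hy =>
      intro c
      rw [smul_add, map_add, hx, hy, smul_add]
    | smul c' x _ hx =>
      intro c
      rw [smul_smul]
      exact hx _
  have := key v (mem_span_all_singular hQ fr v) 1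
  rwa [one_smul] at this

end coord

section transfer
variable {F : Type*} [Field F] {ι : Type} [Fintype ι] [DecidableEq ι]
  {Q : QuadraticForm F (ι → F)}

theorem polar_comp {κ : Type} (Φ : (κ → F) →ₗ[F] (ι → F)) (x y : κ → F) :
    polar (Q.comp Φ) x y = polar Q (Φ x) (Φ y) := by
  unfold polar
  simp only [QuadraticMap.comp_apply, map_add]

theorem eich_comp {κ : Type} (Φ : (κ → F) →ₗ[F] (ι → F)) (z b x : κ → F) :
    Φ (eich (Q.comp Φ) z b x) = eich Q (Φ z) (Φ b) (Φ x) := by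
  rw [eich_apply, eich_apply]
  simp only [polar_comp, QuadraticMap.comp_apply, map_add, map_sub, map_smul]

/-- coordinates on a non-degenerate subspace containing two hyperbolic pairs -/
theorem exists_coord (W : Submodule F (ι → F))
    (hW : ∀ x ∈ W, (∀ y ∈ W, polar Q x y = 0) → x = 0) {e f : Fin 2 → (ι → F)}
    (fr : HypFrame Q e f) (he : ∀ i, e i ∈ W) (hf : ∀ i, f i ∈ W) :
    ∃ (d : ℕ) (Φ : (Fin d → F) →ₗ[F] (ι → F)) (Ψ : (ι → F) →ₗ[F] (Fin d → F))
      (e' f' : Fin 2 → (Fin d → F)),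
      (∀ x, Ψ (Φ x) = x) ∧ (∀ x, Φ x ∈ W) ∧ (∀ w ∈ W, Φ (Ψ w) = w) ∧
      (polarBilin (Q.comp Φ)).Nondegenerate ∧ HypFrame (Q.comp Φ) e' f' := by
  let B := Module.finBasis F W
  let Φ : (Fin (Module.finrank F W) → F) →ₗ[F] (ι → F) :=
    W.subtype ∘ₗ B.equivFun.symm.toLinearMap
  have hΦinj : Function.Injective Φ := by
    intro x y hxy
    have h1 : B.equivFun.symm x = B.equivFun.symm y := Subtype.ext hxy
    exact B.equivFun.symm.injective h1
  obtain ⟨Ψ, hΨ⟩ := LinearMap.exists_leftInverse_of_injective Φ (LinearMap.ker_eq_bot.2 hΦinj)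
  have hΨΦ : ∀ x, Ψ (Φ x) = x := fun x => by
    have := LinearMap.congr_fun hΨ x
    simpa using this
  have hΦW : ∀ x, Φ x ∈ W := fun x => (B.equivFun.symm x).2
  have hsurj : ∀ w ∈ W, ∃ x, Φ x = w := by
    intro w hw
    refine ⟨B.equivFun ⟨w, hw⟩, ?_⟩
    show ((B.equivFun.symm (B.equivFun ⟨w, hw⟩) : W) : ι → F) = w
    rw [LinearEquiv.symm_apply_apply]
  have hΦΨ : ∀ w ∈ W, Φ (Ψ w) = w := by
    intro w hw
    obtain ⟨x, rfl⟩ := hsurj w hw
    rw [hΨΦ]
  have hsep : ∀ x, (∀ y, polar (Q.comp Φ) x y = 0) → x = 0 := by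
    intro x hx
    apply hΦinj
    rw [map_zero]
    apply hW _ (hΦW x)
    intro y hy
    obtain ⟨y', rfl⟩ := hsurj y hy
    rw [← polar_comp]
    exact hx y'
  have hnd : (polarBilin (Q.comp Φ)).Nondegenerate := by
    constructor
    · intro x hx
      exact hsep x hx
    · intro y hy
      apply hsep y
      intro x
      rw [polar_comm]
      exact hy x
  refine ⟨_, Φ, Ψ, fun i => Ψ (e i), fun i => Ψ (f i), hΨΦ, hΦW, hΦΨ, hnd, ?_⟩
  constructor
  · intro i
    rw [QuadraticMap.comp_apply, hΦΨ _ (he i), fr.qe]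
  · intro i
    rw [QuadraticMap.comp_apply, hΦΨ _ (hf i), fr.qf]
  · intro i j
    rw [polar_comp, hΦΨ _ (he i), hΦΨ _ (he j), fr.ee]
  · intro i j
    rw [polar_comp, hΦΨ _ (hf i), hΦΨ _ (hf j), fr.ff]
  · intro i j
    rw [polar_comp, hΦΨ _ (he i), hΦΨ _ (hf j), fr.ef]

/-- irreducibility on a non-degenerate subspace containing two hyperbolic pairs -/
theorem irr_sub (W : Submodule F (ι → F))
    (hW : ∀ x ∈ W, (∀ y ∈ W, polar Q x y = 0) → x = 0) {e f : Fin 2 → (ι → F)}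
    (fr : HypFrame Q e f) (he : ∀ i, e i ∈ W) (hf : ∀ i, f i ∈ W)
    (Y : Submodule F (ι → F)) (hYW : Y ≤ W) (hY : Y ≠ ⊥)
    (hinv : ∀ z ∈ W, ∀ b ∈ W, Q z = 0 → polar Q z b = 0 → ∀ y ∈ Y, eich Q z b y ∈ Y) :
    W ≤ Y := by
  obtain ⟨d, Φ, Ψ, e', f', hΨΦ, hΦW, hΦΨ, hnd, fr'⟩ := exists_coord W hW fr he hf
  have h1 : Y.comap Φ = ⊤ := by
    apply irr_coord hnd fr'
    · obtain ⟨y, hyY, hy0⟩ := (Submodule.ne_bot_iff Y).1 hY
      intro h
      have h2 : Ψ y ∈ Y.comap Φ := by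
        show Φ (Ψ y) ∈ Y
        rw [hΦΨ y (hYW hyY)]
        exact hyY
      rw [h, Submodule.mem_bot] at h2
      apply hy0
      rw [← hΦΨ y (hYW hyY), h2, map_zero]
    · intro z b hz hzb y hy
      show Φ (eich (Q.comp Φ) z b y) ∈ Y
      rw [eich_comp]
      apply hinv _ (hΦW z) _ (hΦW b) _ _ _ hy
      · rw [← QuadraticMap.comp_apply, hz]
      · rw [← polar_comp, hzb]
  intro w hw
  have h2 : Ψ w ∈ Y.comap Φ := by rw [h1]; trivial
  have h3 : Φ (Ψ w) ∈ Y := h2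
  rwa [hΦΨ w hw] at h3

/-- the commutant on a non-degenerate subspace containing two hyperbolic pairs -/
theorem comm_sub (W : Submodule F (ι → F))
    (hW : ∀ x ∈ W, (∀ y ∈ W, polar Q x y = 0) → x = 0) {e f : Fin 2 → (ι → F)}
    (fr : HypFrame Q e f) (he : ∀ i, e i ∈ W) (hf : ∀ i, f i ∈ W)
    (D : (ι → F) →+ (ι → F)) (hDW : ∀ w ∈ W, D w ∈ W)
    (hD : ∀ z ∈ W, ∀ b ∈ W, Q z = 0 → polar Q z b = 0 → ∀ v ∈ W,
      D (eich Q z b v) = eich Q z b (D v)) :
    ∃ c : F, ∀ v ∈ W, D v = c • v := by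
  obtain ⟨d, Φ, Ψ, e', f', hΨΦ, hΦW, hΦΨ, hnd, fr'⟩ := exists_coord W hW fr he hf
  let D' : (Fin d → F) →+ (Fin d → F) :=
    (Ψ.toAddMonoidHom.comp D).comp Φ.toAddMonoidHom
  have hD' : ∀ x, Φ (D' x) = D (Φ x) := by
    intro x
    show Φ (Ψ (D (Φ x))) = D (Φ x)
    rw [hΦΨ _ (hDW _ (hΦW x))]
  obtain ⟨c, hc⟩ := comm_coord hnd fr' D' (by
    intro z b hz hzb v
    have h1 : Φ (D' (eich (Q.comp Φ) z b v)) = Φ (eich (Q.comp Φ) z b (D' v)) := by
      rw [hD', eich_comp, eich_comp, hD']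
      apply hD _ (hΦW z) _ (hΦW b) _ _ _ (hΦW v)
      · rw [← QuadraticMap.comp_apply, hz]
      · rw [← polar_comp, hzb]
    have h2 := congrArg Ψ h1
    rwa [hΨΦ, hΨΦ] at h2)
  refine ⟨c, fun v hv => ?_⟩
  have h1 := hD' (Ψ v)
  rw [hΦΨ v hv, hc, map_smul, hΦΨ v hv] at h1
  exact h1.symm

end transfer

end Cfsg.Agent.Helper17.OrthAut
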