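import Mathlib
import Cfsg.Agent.Lib.Helper17.OrthAut2
import Cfsg.Agent.Lib.Helper17.OrthAut4

set_option autoImplicit false
set_option linter.unusedSectionVars false
set_option linter.unusedSimpArgs false

/-!
# Point stabilisers and root groups in the Eichler group (helper17)
-/

namespace Cfsg.Agent.Helper17.OrthAut

open QuadraticMap Matrix MulAction Cfsg.Agent.Helper28.WittQuad Cfsg.Agent.Helper2.Orth
open scoped Pointwise

variable {F : Type*} [Field F] {ι : Type} [Fintype ι] [DecidableEq ι]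
  {Q : QuadraticForm F (ι → F)}

theorem Q_smulE (g : eichGroup Q) (v : ι → F) : Q (g • v) = Q v := Q_smul Q g.1 v

theorem polar_smulE (g : eichGroup Q) (u v : ι → F) : polar Q (g • u) (g • v) = polar Q u v :=
  polar_smul_smul Q g.1 u v

theorem polar_smulE_left (g : eichGroup Q) (u v : ι → F) :
    polar Q (g • u) v = polar Q u (g⁻¹ • v) := by
  rw [← polar_smulE g u (g⁻¹ • v), smul_inv_smul]

/-- Eichler elements in the Eichler group -/
noncomputable def eichE (z b : ι → F) (hz : Q z = 0) (hzb : polar Q z b = 0) : eichGroup Q :=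
  ⟨eichG Q z b, eichG_mem hz hzb⟩

theorem eichE_smul {z b : ι → F} (hz : Q z = 0) (hzb : polar Q z b = 0) (x : ι → F) :
    eichE z b hz hzb • x = eich Q z b x := eichG_smul hz hzb x

theorem eichE_mem_rootGroup {z b : ι → F} (hz : Q z = 0) (hzb : polar Q z b = 0) :
    eichE z b hz hzb ∈ rootGroup (Q := Q) z := ⟨b, hzb, rfl⟩

theorem extE {g h : eichGroup Q} (H : ∀ x : ι → F, g • x = h • x) : g = h :=
  Subtype.ext (ext_smul Q H)

theorem mem_stabilizer_pt {z : ι → F} (hz0 : z ≠ 0) (hz : Q z = 0) (g : eichGroup Q) :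
    g ∈ stabilizer (eichGroup Q) (pt z hz0 hz) ↔ ∃ a : F, g • z = a • z := by
  rw [mem_stabilizer_iff, smul_pt]
  constructor
  · intro h
    exact exists_smul_of_pt_eq hz0 hz _ _ h
  · rintro ⟨a, ha⟩
    exact pt_eq_of_smul hz0 hz _ _ a ha

theorem rootGroup_le_stabilizer {z : ι → F} (hz0 : z ≠ 0) (hz : Q z = 0) :
    rootGroup (Q := Q) z ≤ stabilizer (eichGroup Q) (pt z hz0 hz) := by
  rintro g ⟨b, hb, hg⟩
  rw [mem_stabilizer_pt]
  refine ⟨1, ?_⟩
  show (g : Cfsg.isometryGroup F (⇑Q)) • z = (1 : F) • z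
  rw [hg, eichG_smul hz hb, eich_self hz hb, one_smul]

theorem smul_ne_zeroE (g : eichGroup Q) {v : ι → F} (hv : v ≠ 0) : g • v ≠ 0 :=
  smul_ne_zero' Q g.1 hv

/-- the point stabiliser normalises the root group -/
theorem conj_mem_rootGroup {z : ι → F} (hz0 : z ≠ 0) (hz : Q z = 0) {g x : eichGroup Q}
    (hg : g ∈ stabilizer (eichGroup Q) (pt z hz0 hz)) (hx : x ∈ rootGroup (Q := Q) z) :
    g * x * g⁻¹ ∈ rootGroup (Q := Q) z := by
  obtain ⟨a, ha⟩ := (mem_stabilizer_pt hz0 hz g).1 hg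
  have ha0 : a ≠ 0 := by
    rintro rfl
    rw [zero_smul] at ha
    exact smul_ne_zeroE g hz0 ha
  have h1 := rootGroup_conj g hz
  have h2 : rootGroup (Q := Q) ((g : Cfsg.isometryGroup F (⇑Q)) • z) = rootGroup z := by
    have : (g : Cfsg.isometryGroup F (⇑Q)) • z = a • z := ha
    rw [this, rootGroup_smul_vec hz ha0]
  rw [h2] at h1
  rw [h1]
  exact ⟨x, hx, rfl⟩

theorem eichG_pow {z b : ι → F} (hz : Q z = 0) (hzb : polar Q z b = 0) (n : ℕ) :
    (eichG Q z b) ^ n = eichG Q z (n • b) := by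
  induction n with
  | zero => rw [pow_zero, zero_smul, eichG_zero]
  | succ n ih =>
    have h1 : polar Q z (n • b) = 0 := by
      rw [← Nat.cast_smul_eq_nsmul F, polar_smul_right, hzb, smul_zero]
    rw [pow_succ, ih, eichG_mul hz h1 hzb, succ_nsmul]

section charp
variable {p : ℕ} [hp : Fact p.Prime] [CharP F p]

theorem isPGroup_rootGroup (z : ι → F) : IsPGroup p (rootGroup (Q := Q) z) := by
  apply isPGroup_of_forall_isPEl
  rintro g ⟨b, hb, hg⟩
  refine ⟨1, ?_⟩
  apply Subtype.ext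
  rw [Subgroup.coe_pow, hg, pow_one, Subgroup.coe_one]
  by_cases hz : Q z = 0
  · rw [eichG_pow hz hb]
    have : p • b = 0 := by
      have h1 : (p : F) • b = 0 := by rw [CharP.cast_eq_zero F p, zero_smul]
      rw [← h1, Nat.cast_smul_eq_nsmul]
    rw [this, eichG_zero]
  · have : eichG Q z b = 1 := by
      unfold eichG
      rw [dif_neg (fun h => hz h.1)]
    rw [this, one_pow]

theorem eq_one_of_pow_char_pow {a : F} {k : ℕ} (h : a ^ (p ^ k) = 1) : a = 1 := by
  have : ExpChar F p := ExpChar.prime hp.out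
  apply iterateFrobenius_inj F p k
  rw [iterateFrobenius_def, iterateFrobenius_def, h, one_pow]

theorem pow_smul_eigen (g : eichGroup Q) {z : ι → F} {a : F} (h : g • z = a • z) (n : ℕ) :
    (g ^ n) • z = a ^ n • z := by
  induction n with
  | zero => simp
  | succ n ih =>
    rw [pow_succ, mul_smul, h, smul_comm, ih, smul_smul, pow_succ, mul_comm]

/-- a `p`-element stabilising a point fixes the vector -/
theorem IsPEl.smul_eq {g : eichGroup Q} (hg : IsPEl p g) {z : ι → F} (hz0 : z ≠ 0) {a : F}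
    (h : g • z = a • z) : g • z = z := by
  obtain ⟨k, hk⟩ := hg
  have h1 := pow_smul_eigen g h (p ^ k)
  rw [hk, one_smul] at h1
  have h2 : (a ^ (p ^ k) - 1) • z = 0 := by rw [sub_smul, ← h1, one_smul, sub_self]
  have h3 : a ^ (p ^ k) = 1 := by
    rcases smul_eq_zero.1 h2 with h3 | h3
    · exact sub_eq_zero.1 h3
    · exact absurd h3 hz0
  rw [h, eq_one_of_pow_char_pow h3, one_smul]

end charp

/-- the subspace orthogonal to a hyperbolic pair -/
def hypPerp (Q : QuadraticForm F (ι → F)) (z f : ι → F) : Submodule F (ι → F) where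
  carrier := {v | polar Q z v = 0 ∧ polar Q f v = 0}
  add_mem' := by
    rintro a b ⟨ha1, ha2⟩ ⟨hb1, hb2⟩
    exact ⟨by rw [polar_add_right, ha1, hb1, add_zero], by rw [polar_add_right, ha2, hb2, add_zero]⟩
  zero_mem' := ⟨polar_zero_right _ _, polar_zero_right _ _⟩
  smul_mem' := by
    rintro c a ⟨ha1, ha2⟩
    exact ⟨by rw [polar_smul_right, ha1, smul_zero], by rw [polar_smul_right, ha2, smul_zero]⟩

theorem mem_hypPerp {z f v : ι → F} :
    v ∈ hypPerp Q z f ↔ polar Q z v = 0 ∧ polar Q f v = 0 := Iff.rfl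

theorem projW_mem {z f : ι → F} (hz : Q z = 0) (hf : Q f = 0) (hzf : polar Q z f = 1)
    (v : ι → F) : projW Q z f v ∈ hypPerp Q z f :=
  ⟨polar_left_projW hz hzf v, polar_right_projW hf hzf v⟩

theorem hypPerp_nondeg (hQ : (polarBilin Q).Nondegenerate) {z f : ι → F} (hz : Q z = 0)
    (hf : Q f = 0) (hzf : polar Q z f = 1) :
    ∀ x ∈ hypPerp Q z f, (∀ y ∈ hypPerp Q z f, polar Q x y = 0) → x = 0 := by
  intro x hx h
  by_contra hx0
  obtain ⟨v, hv⟩ := exists_polar_eq_one hQ hx0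
  have h1 := eq_add_projW (Q := Q) z f v
  rw [h1, polar_add_right, polar_add_right, polar_smul_right, polar_smul_right,
    h _ (projW_mem hz hf hzf v), polar_comm Q x z, hx.1, polar_comm Q x f, hx.2] at hv
  simp at hv

/-- a frame of two hyperbolic pairs inside the perp of a given hyperbolic pair -/
theorem exists_frame_hypPerp (hQ : (polarBilin Q).Nondegenerate) {e f : Fin 3 → (ι → F)}
    (fr : HypFrame Q e f) {z f₀ : ι → F} (hz0 : z ≠ 0) (hz : Q z = 0) (hf : Q f₀ = 0)
    (hzf : polar Q z f₀ = 1) :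
    ∃ e' f' : Fin 2 → (ι → F), HypFrame Q e' f' ∧ (∀ i, e' i ∈ hypPerp Q z f₀) ∧
      (∀ i, f' i ∈ hypPerp Q z f₀) := by
  have hind : LinearIndependent F ![z, f₀] := by
    rw [LinearIndependent.pair_iff' hz0]
    intro a ha
    rw [← ha, polar_smul_right, polar_self_of_singular Q hz, smul_zero] at hzf
    exact zero_ne_one hzf
  have hind0 : LinearIndependent F ![e 0, f 0] := by
    rw [LinearIndependent.pair_iff' (frame_e_ne_zero fr 0)]
    intro a ha
    have h1 := fr.ef 0 0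
    rw [← ha, polar_smul_right, polar_self_of_singular Q (fr.qe 0), smul_zero] at h1
    simp at h1
  obtain ⟨g, hg0, hg1⟩ := exists_smul_pair hQ hind0 hind (by rw [fr.qe, hz]) (by rw [fr.qf, hf])
    (by rw [fr.ef, hzf]; simp)
  have fr2 := (fr.comp Fin.succ (Fin.succ_injective 2)).map (Cfsg.Agent.Helper17.Spinor.toEnd Q g) (Cfsg.Agent.Helper17.Spinor.toEnd_isometry Q g)
  refine ⟨_, _, fr2, ?_, ?_⟩
  · intro i
    show polar Q z (g • e i.succ) = 0 ∧ polar Q f₀ (g • e i.succ) = 0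
    rw [← hg0, ← hg1, polar_smul_smul Q, polar_smul_smul Q, fr.ee, fr.fe]
    simp [Fin.succ_ne_zero, (Fin.succ_ne_zero i).symm]
  · intro i
    show polar Q z (g • f i.succ) = 0 ∧ polar Q f₀ (g • f i.succ) = 0
    rw [← hg0, ← hg1, polar_smul_smul Q, polar_smul_smul Q, fr.ef, fr.ff]
    simp [Fin.succ_ne_zero, (Fin.succ_ne_zero i).symm]

end Cfsg.Agent.Helper17.OrthAut
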