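import Mathlib
import Cfsg.Agent.Lib.Helper17.OrthAut5

set_option autoImplicit false
set_option linter.unusedSectionVars false
set_option linter.unusedSimpArgs false

/-!
# Normal `p`-subgroups of a point stabiliser lie in the root group (helper17)
-/

namespace Cfsg.Agent.Helper17.OrthAut

open QuadraticMap Matrix MulAction Cfsg.Agent.Helper28.WittQuad Cfsg.Agent.Helper2.Orth
open scoped Pointwise

variable {F : Type*} [Field F] {ι : Type} [Fintype ι] [DecidableEq ι]
  {Q : QuadraticForm F (ι → F)}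

/-- the action of a subgroup of the Eichler group, as endomorphisms -/
noncomputable def actHom (N : Subgroup (eichGroup Q)) : N →* Module.End F (ι → F) :=
  (Cfsg.Agent.Helper17.Spinor.toEnd Q).comp ((eichGroup Q).subtype.comp N.subtype)

theorem actHom_apply (N : Subgroup (eichGroup Q)) (x : N) (v : ι → F) :
    actHom N x v = (x : eichGroup Q) • v := rfl

theorem eichE_smul_of_perp {w b v : ι → F} (hw : Q w = 0) (hwb : polar Q w b = 0)
    (hwv : polar Q w v = 0) (hbv : polar Q b v = 0) : eichE w b hw hwb • v = v := by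
  rw [eichE_smul, eich_apply, hwv, hbv]
  simp

section A4
variable [Finite F] {p : ℕ} [hp : Fact p.Prime] [CharP F p]

theorem le_rootGroup_of_normal (hQ : (polarBilin Q).Nondegenerate) {e f : Fin 3 → (ι → F)}
    (fr : HypFrame Q e f) {z : ι → F} (hz0 : z ≠ 0) (hz : Q z = 0)
    (N : Subgroup (eichGroup Q)) (hNp : IsPGroup p N)
    (hNle : N ≤ stabilizer (eichGroup Q) (pt z hz0 hz))
    (hNn : ∀ g ∈ stabilizer (eichGroup Q) (pt z hz0 hz), ∀ x ∈ N, g * x * g⁻¹ ∈ N) :
    N ≤ rootGroup (Q := Q) z := by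
  have hfix : ∀ x ∈ N, x • z = z := by
    intro x hx
    obtain ⟨a, ha⟩ := (mem_stabilizer_pt hz0 hz x).1 (hNle hx)
    exact (IsPEl.of_mem hNp hx).smul_eq hz0 ha
  obtain ⟨f₀, hf, hzf⟩ := exists_hyp_partner hQ hz0 hz
  obtain ⟨e', f', fr', he', hf'⟩ := exists_frame_hypPerp hQ fr hz0 hz hf hzf
  have fr2 : HypFrame Q (e ∘ Fin.castSucc) (f ∘ Fin.castSucc) :=
    fr.comp Fin.castSucc (Fin.castSucc_injective 2)
  let Y : Submodule F (ι → F) :=
    { carrier := {w | polar Q z w = 0 ∧ ∀ x ∈ N, ∃ c : F, x • w - w = c • z}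
      add_mem' := by
        rintro a b ⟨ha1, ha2⟩ ⟨hb1, hb2⟩
        refine ⟨by rw [polar_add_right, ha1, hb1, add_zero], fun x hx => ?_⟩
        obtain ⟨c, hc⟩ := ha2 x hx
        obtain ⟨c', hc'⟩ := hb2 x hx
        refine ⟨c + c', ?_⟩
        rw [smul_add, add_smul, ← hc, ← hc']
        abel
      zero_mem' := ⟨polar_zero_right _ _, fun x _ => ⟨0, by simp⟩⟩
      smul_mem' := by
        rintro k a ⟨ha1, ha2⟩
        refine ⟨by rw [polar_smul_right, ha1, smul_zero], fun x hx => ?_⟩
        obtain ⟨c, hc⟩ := ha2 x hx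
        refine ⟨k * c, ?_⟩
        rw [smul_comm, ← smul_sub, hc, smul_smul] }
  have hYmem : ∀ w, w ∈ Y ↔ polar Q z w = 0 ∧ ∀ x ∈ N, ∃ c : F, x • w - w = c • z :=
    fun _ => Iff.rfl
  have hzY : z ∈ Y := by
    rw [hYmem]
    refine ⟨polar_self_of_singular Q hz, fun x hx => ⟨0, ?_⟩⟩
    rw [hfix x hx, sub_self, zero_smul]
  -- a vector of z^⊥ outside the line, fixed modulo z
  obtain ⟨v, hvU', hvU, hv⟩ := exists_fixed_mod hNp (actHom N) (Submodule.span F {z})
    (perp Q (Submodule.span F {z}))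
    (by
      rw [Submodule.span_le, Set.singleton_subset_iff]
      exact mem_perp_span_singleton.2 (polar_self_of_singular Q hz))
    (by
      intro hle
      obtain ⟨b, hb, hbz⟩ := exists_perp_not_smul hQ fr2 hz0 hz
      obtain ⟨c, hc⟩ := Submodule.mem_span_singleton.1 (hle (mem_perp_span_singleton.2 hb))
      exact hbz c hc.symm)
    (by
      intro γ u hu
      obtain ⟨c, rfl⟩ := Submodule.mem_span_singleton.1 hu
      rw [actHom_apply, smul_comm, hfix _ γ.2]
      exact Submodule.smul_mem _ _ (Submodule.mem_span_singleton_self z))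
    (by
      intro γ u hu
      rw [mem_perp_span_singleton] at hu ⊢
      rw [actHom_apply, ← hfix _ γ.2, polar_smulE, hu])
  have hvY : v ∈ Y := by
    rw [hYmem]
    refine ⟨mem_perp_span_singleton.1 hvU', fun x hx => ?_⟩
    obtain ⟨c, hc⟩ := Submodule.mem_span_singleton.1 (hv ⟨x, hx⟩)
    exact ⟨c, hc.symm⟩
  have hzv : polar Q z v = 0 := mem_perp_span_singleton.1 hvU'
  -- its component in W
  have hy0 : projW Q z f₀ v = v - polar Q f₀ v • z := by
    unfold projW
    rw [hzv, zero_smul, sub_zero]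
  have hy0Y : projW Q z f₀ v ∈ Y := by
    rw [hy0]
    exact Y.sub_mem hvY (Y.smul_mem _ hzY)
  have hy0ne : projW Q z f₀ v ≠ 0 := by
    intro h
    rw [hy0, sub_eq_zero] at h
    apply hvU
    rw [h]
    exact Submodule.smul_mem _ _ (Submodule.mem_span_singleton_self z)
  have hW : hypPerp Q z f₀ ≤ Y ⊓ hypPerp Q z f₀ := by
    apply irr_sub (hypPerp Q z f₀) (hypPerp_nondeg hQ hz hf hzf) fr' he' hf' _ inf_le_right
    · intro h
      have : projW Q z f₀ v ∈ Y ⊓ hypPerp Q z f₀ := ⟨hy0Y, projW_mem hz hf hzf v⟩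
      rw [h, Submodule.mem_bot] at this
      exact hy0ne this
    · intro w hwW b hbW hw hwb y hy
      obtain ⟨hyY, hyW⟩ := hy
      have hgz : eichE w b hw hwb • z = z :=
        eichE_smul_of_perp hw hwb (by rw [polar_comm, hwW.1]) (by rw [polar_comm, hbW.1])
      have hgf : eichE w b hw hwb • f₀ = f₀ :=
        eichE_smul_of_perp hw hwb (by rw [polar_comm, hwW.2]) (by rw [polar_comm, hbW.2])
      have hgstab : eichE w b hw hwb ∈ stabilizer (eichGroup Q) (pt z hz0 hz) := by
        rw [mem_stabilizer_pt]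
        exact ⟨1, by rw [hgz, one_smul]⟩
      rw [← eichE_smul hw hwb]
      refine ⟨?_, ?_, ?_⟩
      · refine (hYmem _).2 ⟨?_, ?_⟩
        · rw [← hgz, polar_smulE, hyW.1]
        · intro x hx
          have h1 := hNn _ (Subgroup.inv_mem _ hgstab) x hx
          rw [inv_inv] at h1
          obtain ⟨c, hc⟩ := ((hYmem y).1 hyY).2 _ h1
          refine ⟨c, ?_⟩
          have h2 : x • eichE w b hw hwb • y - eichE w b hw hwb • y =
              eichE w b hw hwb • (((eichE w b hw hwb)⁻¹ * x * eichE w b hw hwb) • y - y) := by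
            rw [smul_sub, mul_smul, mul_smul, smul_inv_smul]
          rw [h2, hc, smul_comm, hgz]
      · rw [← hgz, polar_smulE, hyW.1]
      · rw [← hgf, polar_smulE, hyW.2]
  have hall : ∀ w, polar Q z w = 0 → w ∈ Y := by
    intro w hw
    have h1 := eq_add_projW (Q := Q) z f₀ w
    rw [h1]
    exact Y.add_mem (Y.add_mem (Y.smul_mem _ hzY) (by rw [hw, zero_smul]; exact Y.zero_mem))
      (hW (projW_mem hz hf hzf w)).1
  intro x hx
  obtain ⟨b, hb, hxb⟩ := eq_eichG_of_trivial hQ hz0 hz x.1 (hfix x hx) (by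
    intro w hw
    exact ((hYmem w).1 (hall w hw)).2 x hx)
  exact ⟨b, hb, hxb⟩

end A4

end Cfsg.Agent.Helper17.OrthAut
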