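import Mathlib
import Cfsg.Agent.Lib.Helper17.OrthAut6

set_option autoImplicit false
set_option linter.unusedSectionVars false
set_option linter.unusedSimpArgs false

/-!
# The centre of the Eichler group, maximality of point stabilisers, quotient form of A4 (helper17)
-/

namespace Cfsg.Agent.Helper17.OrthAut

open QuadraticMap Matrix MulAction Cfsg.Agent.Helper28.WittQuad Cfsg.Agent.Helper2.Orth
open scoped Pointwise

variable {F : Type*} [Field F] {ι : Type} [Fintype ι] [DecidableEq ι]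
  {Q : QuadraticForm F (ι → F)}

/-- equal root groups belong to the same point -/
theorem exists_smul_of_rootGroup_eq (hQ : (polarBilin Q).Nondegenerate) {e f : Fin 2 → (ι → F)}
    (fr : HypFrame Q e f) {z z' : ι → F} (hz0 : z ≠ 0) (hz : Q z = 0) (hz' : Q z' = 0)
    (h : rootGroup (Q := Q) z ≤ rootGroup (Q := Q) z') : ∃ a : F, z' = a • z := by
  apply exists_smul_of_fixed hQ fr hz0 hz
  intro b hb
  obtain ⟨b', hb', hbb'⟩ := h (eichE_mem_rootGroup hz hb)
  have h1 : eichG Q z b = eichG Q z' b' := hbb'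
  rw [← eichG_smul hz hb, h1, eichG_smul hz' hb', eich_self hz' hb']

/-- an element normalising a root group stabilises its point -/
theorem mem_stabilizer_of_normalizes (hQ : (polarBilin Q).Nondegenerate)
    {e f : Fin 2 → (ι → F)} (fr : HypFrame Q e f) {z : ι → F} (hz0 : z ≠ 0) (hz : Q z = 0)
    {g : eichGroup Q} (h : ∀ x ∈ rootGroup (Q := Q) z, g⁻¹ * x * g ∈ rootGroup (Q := Q) z) :
    g ∈ stabilizer (eichGroup Q) (pt z hz0 hz) := by
  rw [mem_stabilizer_pt]
  apply exists_smul_of_rootGroup_eq hQ fr hz0 hz (by rw [Q_smulE g z, hz])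
  intro x hx
  have h1 := rootGroup_conj g hz
  show x ∈ rootGroup ((g : Cfsg.isometryGroup F (⇑Q)) • z)
  rw [h1, Subgroup.mem_pointwise_smul_iff_inv_smul_mem, MulAut.smul_def, MulAut.conj_inv_apply]
  exact h x hx

theorem center_le_stabilizer (hQ : (polarBilin Q).Nondegenerate) {e f : Fin 2 → (ι → F)}
    (fr : HypFrame Q e f) {z : ι → F} (hz0 : z ≠ 0) (hz : Q z = 0) :
    Subgroup.center (eichGroup Q) ≤ stabilizer (eichGroup Q) (pt z hz0 hz) := by
  intro g hg
  apply mem_stabilizer_of_normalizes hQ fr hz0 hz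
  intro x hx
  have h1 : g⁻¹ * x * g = x := by
    have := Subgroup.mem_center_iff.1 hg x
    rw [mul_assoc, this, ← mul_assoc, inv_mul_cancel, one_mul]
  rw [h1]
  exact hx

section charp
variable [Finite F] {p : ℕ} [hp : Fact p.Prime] [CharP F p]

/-- the centre of the Eichler group has order prime to the characteristic -/
theorem center_coprime (hQ : (polarBilin Q).Nondegenerate) {e f : Fin 2 → (ι → F)}
    (fr : HypFrame Q e f) : (Nat.card (Subgroup.center (eichGroup Q))).Coprime p := by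
  rw [Nat.coprime_comm, Nat.Prime.coprime_iff_not_dvd hp.out]
  intro hdvd
  obtain ⟨ζ, hζ⟩ := exists_prime_orderOf_dvd_card' p hdvd
  have hζ1 : ζ ≠ 1 := by
    intro h
    rw [h, orderOf_one] at hζ
    exact hp.out.one_lt.ne hζ
  have hζp : IsPEl p (ζ : eichGroup Q) := by
    refine ⟨1, ?_⟩
    rw [pow_one, ← hζ, ← Subgroup.coe_pow, pow_orderOf_eq_one, Subgroup.coe_one]
  have hfix : ∀ s : ι → F, Q s = 0 → (ζ : eichGroup Q) • s = s := by
    intro s hs
    by_cases hs0 : s = 0
    · rw [hs0, smul_zero]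
    · obtain ⟨a, ha⟩ := (mem_stabilizer_pt hs0 hs _).1 (center_le_stabilizer hQ fr hs0 hs ζ.2)
      exact hζp.smul_eq hs0 ha
  apply hζ1
  apply Subtype.ext
  apply extE
  intro v
  rw [Subgroup.coe_one, one_smul]
  have hv := mem_span_all_singular hQ fr v
  induction hv using Submodule.span_induction with
  | mem s hs => exact hfix s hs
  | zero => rw [smul_zero]
  | add x y _ _ hx hy => rw [smul_add, hx, hy]
  | smul c x _ hx => rw [smul_comm, hx]

theorem nontrivial_singSub {e f : Fin 2 → (ι → F)} (fr : HypFrame Q e f) :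
    Nontrivial (singSub Q) := by
  refine ⟨⟨pt (e 0) (frame_e_ne_zero fr 0) (fr.qe 0), pt (f 0) (frame_f_ne_zero fr 0) (fr.qf 0),
    ?_⟩⟩
  intro h
  obtain ⟨a, ha⟩ := exists_smul_of_pt_eq (frame_f_ne_zero fr 0) (fr.qf 0) _ _ h
  have h1 := fr.ef 0 0
  rw [ha, polar_smul_left, polar_self_of_singular Q (fr.qf 0)] at h1
  simp at h1

theorem isCoatom_stabilizer (hQ : (polarBilin Q).Nondegenerate) {e f : Fin 3 → (ι → F)}
    (fr : HypFrame Q e f) {z : ι → F} (hz0 : z ≠ 0) (hz : Q z = 0) :
    IsCoatom (stabilizer (eichGroup Q) (pt z hz0 hz)) := by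
  have fr2 : HypFrame Q (e ∘ Fin.castSucc) (f ∘ Fin.castSucc) :=
    fr.comp Fin.castSucc (Fin.castSucc_injective 2)
  have h1 := nontrivial_singSub fr2
  have h2 := isPreprimitive_singSub hQ fr
  exact IsPreprimitive.isCoatom_stabilizer_of_isPreprimitive (G := eichGroup Q)
    (X := singSub Q) _

local notation "π" => QuotientGroup.mk' (Subgroup.center (eichGroup Q))

/-- quotient form: a normal `p`-subgroup of the image of a point stabiliser lies in the image
of the root group -/
theorem le_map_rootGroup_of_normal (hQ : (polarBilin Q).Nondegenerate)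
    {e f : Fin 3 → (ι → F)} (fr : HypFrame Q e f) {z : ι → F} (hz0 : z ≠ 0) (hz : Q z = 0)
    (Nb : Subgroup (eichGroup Q ⧸ Subgroup.center (eichGroup Q))) (hNb : IsPGroup p Nb)
    (hle : Nb ≤ (stabilizer (eichGroup Q) (pt z hz0 hz)).map π)
    (hn : ∀ g ∈ (stabilizer (eichGroup Q) (pt z hz0 hz)).map π, ∀ x ∈ Nb, g * x * g⁻¹ ∈ Nb) :
    Nb ≤ (rootGroup (Q := Q) z).map π := by
  have fr2 : HypFrame Q (e ∘ Fin.castSucc) (f ∘ Fin.castSucc) :=
    fr.comp Fin.castSucc (Fin.castSucc_injective 2)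
  have hZ := center_coprime (p := p) hQ fr2
  have h1 : pLift hZ Nb hNb ≤ rootGroup (Q := Q) z := by
    apply le_rootGroup_of_normal hQ fr hz0 hz _ (isPGroup_pLift hZ hNb)
    · intro x hx
      obtain ⟨s, hs, hsx⟩ := hle hx.2
      have h2 : s⁻¹ * x ∈ Subgroup.center (eichGroup Q) := (mk_eq_iff s x).1 hsx
      have h3 := center_le_stabilizer hQ fr2 hz0 hz h2
      have h4 := Subgroup.mul_mem _ hs h3
      rwa [mul_inv_cancel_left] at h4
    · intro g hg x hx
      refine ⟨hx.1.conj g, ?_⟩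
      rw [map_mul, map_mul, map_inv]
      exact hn _ ⟨g, hg, rfl⟩ _ hx.2
  rw [← map_pLift hZ hNb]
  exact Subgroup.map_mono h1

end charp

end Cfsg.Agent.Helper17.OrthAut
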