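import Mathlib
import Cfsg.Agent.Lib.Helper17.OrthAut7

set_option autoImplicit false
set_option linter.unusedSectionVars false
set_option linter.unusedSimpArgs false

/-!
# Fixed spaces of `p`-subgroups of the Eichler group; unipotent radicals (helper17)
-/

namespace Cfsg.Agent.Helper17.OrthAut

open QuadraticMap Matrix MulAction Cfsg.Agent.Helper28.WittQuad Cfsg.Agent.Helper2.Orth
open scoped Pointwise

variable {F : Type*} [Field F] {ι : Type} [Fintype ι] [DecidableEq ι]
  {Q : QuadraticForm F (ι → F)}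

/-- the fixed vectors of a subgroup -/
def fixV (A : Subgroup (eichGroup Q)) : Submodule F (ι → F) where
  carrier := {v | ∀ x ∈ A, x • v = v}
  add_mem' := by
    intro a b ha hb x hx
    rw [smul_add, ha x hx, hb x hx]
  zero_mem' := fun x _ => smul_zero x
  smul_mem' := by
    intro c a ha x hx
    rw [smul_comm, ha x hx]

theorem mem_fixV {A : Subgroup (eichGroup Q)} {v : ι → F} :
    v ∈ fixV A ↔ ∀ x ∈ A, x • v = v := Iff.rfl

/-- the perp of an invariant subspace is invariant -/
theorem smul_mem_perp {A : Subgroup (eichGroup Q)} {U : Submodule F (ι → F)}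
    (hU : ∀ x ∈ A, ∀ u ∈ U, x • u ∈ U) {x : eichGroup Q} (hx : x ∈ A) {v : ι → F}
    (hv : v ∈ perp Q U) : x • v ∈ perp Q U := by
  intro u hu
  have h1 := polar_smulE x (x⁻¹ • u) v
  rw [smul_inv_smul] at h1
  rw [h1]
  exact hv _ (hU _ (A.inv_mem hx) u hu)

/-- the singular part of the radical of the fixed space -/
def rad0 (A : Subgroup (eichGroup Q)) : Submodule F (ι → F) where
  carrier := {v | v ∈ fixV A ∧ v ∈ perp Q (fixV A) ∧ Q v = 0}
  add_mem' := by
    rintro a b ⟨ha1, ha2, ha3⟩ ⟨hb1, hb2, hb3⟩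
    refine ⟨Submodule.add_mem _ ha1 hb1, Submodule.add_mem _ ha2 hb2, ?_⟩
    rw [Q_add', ha3, hb3, hb2 a ha1]
    ring
  zero_mem' := ⟨Submodule.zero_mem _, Submodule.zero_mem _, map_zero Q⟩
  smul_mem' := by
    rintro c a ⟨ha1, ha2, ha3⟩
    refine ⟨Submodule.smul_mem _ _ ha1, Submodule.smul_mem _ _ ha2, ?_⟩
    rw [QuadraticMap.map_smul, ha3, smul_zero]

theorem mem_rad0 {A : Subgroup (eichGroup Q)} {v : ι → F} :
    v ∈ rad0 A ↔ v ∈ fixV A ∧ v ∈ perp Q (fixV A) ∧ Q v = 0 := Iff.rfl

section charp
variable [Finite F] {p : ℕ} [hp : Fact p.Prime] [CharP F p]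

theorem exists_fixed_in {A : Subgroup (eichGroup Q)} (hA : IsPGroup p A)
    (U : Submodule F (ι → F)) (hU0 : U ≠ ⊥) (hU : ∀ x ∈ A, ∀ u ∈ U, x • u ∈ U) :
    ∃ v ∈ U, v ≠ 0 ∧ v ∈ fixV A := by
  obtain ⟨v, hvU, hv0, hv⟩ := exists_fixed_ne_zero hA (actHom A) U hU0
    (fun γ u hu => hU _ γ.2 u hu)
  exact ⟨v, hvU, hv0, fun x hx => hv ⟨x, hx⟩⟩

/-- the radical of the fixed space of a non-trivial `p`-subgroup is non-zero -/
theorem radical_ne_bot (hQ : (polarBilin Q).Nondegenerate) {A : Subgroup (eichGroup Q)}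
    (hA : IsPGroup p A) (hA1 : A ≠ ⊥) : fixV A ⊓ perp Q (fixV A) ≠ ⊥ := by
  intro hR
  have hperp : perp Q (fixV A) = ⊥ := by
    by_contra hne
    obtain ⟨v, hv1, hv0, hv2⟩ := exists_fixed_in hA _ hne (by
      intro x hx v hv
      apply smul_mem_perp (A := A) _ hx hv
      intro y hy u hu
      rw [hu y hy]
      exact hu)
    have : v ∈ fixV A ⊓ perp Q (fixV A) := ⟨hv2, hv1⟩
    rw [hR, Submodule.mem_bot] at this
    exact hv0 this
  have htop : fixV A = ⊤ := by
    rw [← perp_perp hQ (fixV A), hperp, eq_top_iff]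
    intro v _ u hu
    rw [(Submodule.mem_bot F).1 hu, polar_zero_left]
  apply hA1
  rw [eq_bot_iff]
  intro x hx
  rw [Subgroup.mem_bot]
  apply extE
  intro v
  rw [one_smul]
  have : v ∈ fixV A := by rw [htop]; trivial
  exact this x hx

theorem card_le_two_of_forall {G : Type*} [Group G] [Finite G]
    (h : ∀ x y : G, x ≠ 1 → y ≠ 1 → x = y) : Nat.card G ≤ 2 := by
  classical
  have hinj : Function.Injective (fun x : G => decide (x = 1)) := by
    intro x y hxy
    by_cases hx : x = 1
    · by_cases hy : y = 1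
      · rw [hx, hy]
      · simp [hx, hy] at hxy
    · by_cases hy : y = 1
      · simp [hx, hy] at hxy
      · exact h x y hx hy
  have := Nat.card_le_card_of_injective _ hinj
  simpa using this

/-- the singular part of the radical of the fixed space is non-zero -/
theorem rad0_ne_bot (hQ : (polarBilin Q).Nondegenerate) {A : Subgroup (eichGroup Q)}
    (hA : IsPGroup p A) (hcard : 2 < Nat.card A) : rad0 A ≠ ⊥ := by
  intro h0
  have hA1 : A ≠ ⊥ := by
    rintro rfl
    rw [Subgroup.card_bot] at hcard
    omega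
  obtain ⟨w, hwR, hw0⟩ := (Submodule.ne_bot_iff _).1 (radical_ne_bot hQ hA hA1)
  obtain ⟨hwC, hwP⟩ := hwR
  have hnon : ∀ y, y ∈ fixV A → y ∈ perp Q (fixV A) → y ≠ 0 → Q y ≠ 0 := by
    intro y hy1 hy2 hy0 hQy
    have : y ∈ rad0 A := ⟨hy1, hy2, hQy⟩
    rw [h0, Submodule.mem_bot] at this
    exact hy0 this
  have hQw : Q w ≠ 0 := hnon w hwC hwP hw0
  have h2 : (2 : F) = 0 := by
    have h1 : polar Q w w = 0 := hwP w hwC
    have h1' : (2 : F) * Q w = 0 := by
      rw [← h1, polar_self, two_smul, two_mul]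
    rcases mul_eq_zero.1 h1' with h | h
    · exact h
    · exact absurd h hQw
  have hsq : ∀ a : F, IsSquare a := by
    intro a
    have : CharP F 2 := CharTwo.of_one_ne_zero_of_two_eq_zero one_ne_zero h2
    exact isSquare_of_charTwo' a
  -- the radical is the line of w
  have hline : ∀ y, y ∈ fixV A → y ∈ perp Q (fixV A) → ∃ c : F, y = c • w := by
    intro y hy1 hy2
    obtain ⟨s, hs⟩ := hsq (Q y / Q w)
    have h3 : Q (s • w + y) = 0 := by
      rw [Q_add', QuadraticMap.map_smul, polar_smul_left, hy2 w hwC, smul_eq_mul, ← hs,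
        div_mul_cancel₀ _ hQw]
      have : Q y + Q y = 0 := by rw [← two_mul, h2, zero_mul]
      simp [this]
    have h4 : s • w + y = 0 := by
      by_contra hne
      exact hnon _ (Submodule.add_mem _ (Submodule.smul_mem _ _ hwC) hy1)
        (Submodule.add_mem _ (Submodule.smul_mem _ _ hwP) hy2) hne h3
    refine ⟨-s, ?_⟩
    rw [neg_smul]
    exact eq_neg_of_add_eq_zero_right h4
  -- the perp of the fixed space is the line of w
  have hperp : perp Q (fixV A) ≤ Submodule.span F {w} := by
    by_contra hne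
    obtain ⟨d, hd1, hd2, hd3⟩ := exists_fixed_mod hA (actHom A) (Submodule.span F {w})
      (perp Q (fixV A))
      (by rw [Submodule.span_le, Set.singleton_subset_iff]; exact hwP) hne
      (by
        intro γ u hu
        obtain ⟨c, rfl⟩ := Submodule.mem_span_singleton.1 hu
        rw [actHom_apply, smul_comm, hwC _ γ.2]
        exact Submodule.smul_mem _ _ (Submodule.mem_span_singleton_self w))
      (by
        intro γ u hu
        rw [actHom_apply]
        apply smul_mem_perp (A := A) _ γ.2 hu
        intro y hy u hu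
        rw [hu y hy]
        exact hu)
    apply hd2
    have hdC : d ∈ fixV A := by
      intro x hx
      obtain ⟨l, hl⟩ := Submodule.mem_span_singleton.1 (hd3 ⟨x, hx⟩)
      rw [actHom_apply] at hl
      have h5 : x • d = d + l • w := by rw [hl]; abel
      have h6 : Q (x • d) = Q d := Q_smulE x d
      rw [h5, Q_add', QuadraticMap.map_smul, polar_smul_right, polar_comm Q d w, hd1 w hwC] at h6
      have h7 : l * l * Q w = 0 := by
        simp only [smul_eq_mul, mul_zero, add_zero] at h6
        linear_combination h6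
      have hl0 : l = 0 := by
        rcases mul_eq_zero.1 h7 with h | h
        · exact mul_self_eq_zero.1 h
        · exact absurd h hQw
      rw [h5, hl0, zero_smul, add_zero]
    obtain ⟨c, hc⟩ := hline d hdC hd1
    rw [hc]
    exact Submodule.smul_mem _ _ (Submodule.mem_span_singleton_self w)
  -- hence the fixed space is the hyperplane w^⊥
  have hC : ∀ v, polar Q w v = 0 → v ∈ fixV A := by
    intro v hv
    rw [← perp_perp hQ (fixV A)]
    intro u hu
    obtain ⟨c, rfl⟩ := Submodule.mem_span_singleton.1 (hperp hu)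
    rw [polar_smul_left, hv, smul_zero]
  obtain ⟨v₀, hv₀⟩ := exists_polar_eq_one hQ hw0
  have hdec : ∀ v, polar Q w (v - polar Q w v • v₀) = 0 := by
    intro v
    rw [polar_sub_right, polar_smul_right, hv₀]
    simp
  -- each element is determined by a scalar with two possible values
  have hlam : ∀ x ∈ A, ∃ l : F, x • v₀ = v₀ + l • w ∧ (l = 0 ∨ l = -(Q w)⁻¹) := by
    intro x hx
    have h5 : x • v₀ - v₀ ∈ Submodule.span F {w} := by
      apply hperp
      intro u hu
      rw [polar_sub_right, ← hu x hx, polar_smulE, hu x hx, sub_self]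
    obtain ⟨l, hl⟩ := Submodule.mem_span_singleton.1 h5
    have h6 : x • v₀ = v₀ + l • w := by rw [hl]; abel
    refine ⟨l, h6, ?_⟩
    have h7 : Q (x • v₀) = Q v₀ := Q_smulE x v₀
    rw [h6, Q_add', QuadraticMap.map_smul, polar_smul_right, polar_comm Q v₀ w, hv₀] at h7
    have h8 : l * (l * Q w + 1) = 0 := by
      simp only [smul_eq_mul, mul_one] at h7
      linear_combination h7
    rcases mul_eq_zero.1 h8 with h | h
    · exact Or.inl h
    · right
      field_simp
      linear_combination h
  have hdet : ∀ x ∈ A, ∀ y ∈ A, x • v₀ = y • v₀ → x = y := by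
    intro x hx y hy hxy
    apply extE
    intro v
    have h5 : v = (v - polar Q w v • v₀) + polar Q w v • v₀ := by abel
    rw [h5, smul_add, smul_add, hC _ (hdec v) x hx, hC _ (hdec v) y hy, smul_comm, hxy,
      ← smul_comm]
  have hle : Nat.card A ≤ 2 := by
    apply card_le_two_of_forall
    intro x y hx1 hy1
    obtain ⟨l, hl, hl'⟩ := hlam x x.2
    obtain ⟨m, hm, hm'⟩ := hlam y y.2
    have hl0 : l ≠ 0 := by
      rintro rfl
      apply hx1
      apply Subtype.ext
      apply hdet _ x.2 _ A.one_mem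
      rw [hl, zero_smul, add_zero, one_smul]
    have hm0 : m ≠ 0 := by
      rintro rfl
      apply hy1
      apply Subtype.ext
      apply hdet _ y.2 _ A.one_mem
      rw [hm, zero_smul, add_zero, one_smul]
    have hlm : l = m := by
      rcases hl' with h | h
      · exact absurd h hl0
      · rcases hm' with h' | h'
        · exact absurd h' hm0
        · rw [h, h']
    apply Subtype.ext
    apply hdet _ x.2 _ y.2
    rw [hl, hm, hlm]
  omega

end charp

end Cfsg.Agent.Helper17.OrthAut
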