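import Mathlib
import Cfsg.Agent.Lib.Helper17.OrthAut8

set_option autoImplicit false
set_option linter.unusedSectionVars false
set_option linter.unusedSimpArgs false

/-!
# Stabilisers of totally singular subspaces and their unipotent radicals (helper17)
-/

namespace Cfsg.Agent.Helper17.OrthAut

open QuadraticMap Matrix MulAction Cfsg.Agent.Helper28.WittQuad Cfsg.Agent.Helper2.Orth
open scoped Pointwise

variable {F : Type*} [Field F] {ι : Type} [Fintype ι] [DecidableEq ι]
  {Q : QuadraticForm F (ι → F)}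

/-- the stabiliser of a subspace -/
def stabU (U : Submodule F (ι → F)) : Subgroup (eichGroup Q) where
  carrier := {g | ∀ v, g • v ∈ U ↔ v ∈ U}
  mul_mem' := by
    intro a b ha hb v
    rw [mul_smul, ha, hb]
  one_mem' := fun v => by rw [one_smul]
  inv_mem' := by
    intro a ha v
    rw [← ha (a⁻¹ • v), smul_inv_smul]

theorem mem_stabU {U : Submodule F (ι → F)} {g : eichGroup Q} :
    g ∈ stabU U ↔ ∀ v, g • v ∈ U ↔ v ∈ U := Iff.rfl

theorem mem_stabU_of_forall {U : Submodule F (ι → F)} {g : eichGroup Q}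
    (h1 : ∀ u ∈ U, g • u ∈ U) (h2 : ∀ u ∈ U, g⁻¹ • u ∈ U) : g ∈ stabU U := by
  intro v
  constructor
  · intro h
    have := h2 _ h
    rwa [inv_smul_smul] at this
  · exact h1 v

theorem smul_mem_perp_of_stabU {U : Submodule F (ι → F)} {g : eichGroup Q} (hg : g ∈ stabU U)
    {v : ι → F} (hv : v ∈ perp Q U) : g • v ∈ perp Q U := by
  intro u hu
  have h1 := polar_smulE g (g⁻¹ • u) v
  rw [smul_inv_smul] at h1
  rw [h1]
  exact hv _ (((stabU U).inv_mem hg u).2 hu)

/-- the unipotent radical of the stabiliser of `U` -/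
def unipU (U : Submodule F (ι → F)) : Subgroup (eichGroup Q) where
  carrier := {g | (∀ u ∈ U, g • u = u) ∧ ∀ v ∈ perp Q U, g • v - v ∈ U}
  mul_mem' := by
    rintro a b ⟨ha1, ha2⟩ ⟨hb1, hb2⟩
    refine ⟨fun u hu => by rw [mul_smul, hb1 u hu, ha1 u hu], fun v hv => ?_⟩
    have h1 : (a * b) • v - v = (b • v - v) + (a • v - v) := by
      have h2 := ha1 _ (hb2 v hv)
      rw [smul_sub] at h2
      rw [mul_smul]
      have : a • b • v = (a • b • v - a • v) + a • v := by abel
      rw [this, h2]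
      abel
    rw [h1]
    exact U.add_mem (hb2 v hv) (ha2 v hv)
  one_mem' := ⟨fun u _ => one_smul _ u, fun v _ => by rw [one_smul, sub_self]; exact U.zero_mem⟩
  inv_mem' := by
    rintro a ⟨ha1, ha2⟩
    have h0 : ∀ u ∈ U, a⁻¹ • u = u := by
      intro u hu
      have := congrArg (fun w => a⁻¹ • w) (ha1 u hu)
      simp only [inv_smul_smul] at this
      exact this.symm
    refine ⟨h0, fun v hv => ?_⟩
    have h1 : a⁻¹ • v - v = -(a • v - v) := by
      have h2 := h0 _ (ha2 v hv)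
      rw [smul_sub, inv_smul_smul] at h2
      rw [← h2]
      abel
    rw [h1]
    exact U.neg_mem (ha2 v hv)

theorem mem_unipU {U : Submodule F (ι → F)} {g : eichGroup Q} :
    g ∈ unipU U ↔ (∀ u ∈ U, g • u = u) ∧ ∀ v ∈ perp Q U, g • v - v ∈ U := Iff.rfl

/-- the stabiliser normalises the unipotent radical -/
theorem conj_mem_unipU {U : Submodule F (ι → F)} {m g : eichGroup Q} (hm : m ∈ stabU U)
    (hg : g ∈ unipU U) : m * g * m⁻¹ ∈ unipU U := by
  have hm' := (stabU U).inv_mem hm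
  refine ⟨fun u hu => ?_, fun v hv => ?_⟩
  · rw [mul_smul, mul_smul, hg.1 _ ((hm' u).2 hu), smul_inv_smul]
  · have h1 : (m * g * m⁻¹) • v - v = m • (g • (m⁻¹ • v) - m⁻¹ • v) := by
      rw [mul_smul, mul_smul, smul_sub, smul_inv_smul]
    rw [h1]
    exact (hm _).2 (hg.2 _ (smul_mem_perp_of_stabU hm' hv))

theorem pow_smul_unip {g : eichGroup Q} {v a b : ι → F} (h1 : g • v = v + a)
    (h2 : g • a = a + b) (h3 : g • b = b) (n : ℕ) :
    (g ^ n) • v = v + n • a + (n.choose 2) • b := by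
  induction n with
  | zero => simp
  | succ n ih =>
    rw [pow_succ', mul_smul, ih, smul_add, smul_add, h1, smul_comm g n a, h2,
      smul_comm g (n.choose 2) b, h3, Nat.choose_succ_succ' n 1, Nat.choose_one_right]
    module

section charp
variable {p : ℕ} [hp : Fact p.Prime] [CharP F p]

theorem nsmul_eq_zero_of_dvd {n : ℕ} (h : p ∣ n) (v : ι → F) : n • v = 0 := by
  obtain ⟨k, rfl⟩ := h
  rw [← Nat.cast_smul_eq_nsmul F, Nat.cast_mul, CharP.cast_eq_zero F p, zero_mul, zero_smul]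

theorem isPGroup_unipU (U : Submodule F (ι → F)) : IsPGroup p (unipU (Q := Q) U) := by
  apply isPGroup_of_forall_isPEl
  intro g hg
  refine ⟨2, ?_⟩
  apply extE
  intro v
  rw [one_smul]
  have ha : g • v - v ∈ perp Q U := by
    intro u hu
    rw [polar_sub_right, ← hg.1 u hu, polar_smulE, hg.1 u hu, sub_self]
  have hb : g • (g • v - v) - (g • v - v) ∈ U := hg.2 _ ha
  have h := pow_smul_unip (g := g) (v := v) (a := g • v - v)
    (b := g • (g • v - v) - (g • v - v)) (by abel) (by abel) (hg.1 _ hb) (p ^ 2)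
  rw [h, nsmul_eq_zero_of_dvd (dvd_pow_self p two_ne_zero),
    nsmul_eq_zero_of_dvd (hp.out.dvd_choose_pow two_ne_zero (by
      intro h2
      have : 2 ≤ p := hp.out.two_le
      nlinarith))]
  simp

end charp

/-- Eichler elements in the unipotent radical -/
theorem eichE_mem_unipU {U : Submodule F (ι → F)} (hU : ∀ u ∈ U, Q u = 0) {u w : ι → F}
    (hu : u ∈ U) (hw : w ∈ perp Q U) :
    eichE u w (hU u hu) (hw u hu) ∈ unipU (Q := Q) U := by
  have hpol : ∀ u' ∈ U, polar Q u u' = 0 := by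
    intro u' hu'
    have h1 := hU _ (U.add_mem hu hu')
    rw [Q_add', hU u hu, hU u' hu'] at h1
    simpa using h1
  refine ⟨fun u' hu' => ?_, fun v hv => ?_⟩
  · rw [eichE_smul, eich_apply, hpol u' hu', polar_comm Q w u', hw u' hu']
    simp
  · rw [eichE_smul, eich_apply, hv u hu]
    simp only [zero_smul, smul_zero, sub_zero, add_sub_cancel_left]
    exact U.smul_mem _ hu

/-- if `U` is totally singular with two independent vectors and `U^⊥ ≠ U`, the unipotent
radical is not abelian -/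
theorem unipU_not_comm (hQ : (polarBilin Q).Nondegenerate) {U : Submodule F (ι → F)}
    (hU : ∀ u ∈ U, Q u = 0) {u₁ u₂ : ι → F} (hu₁ : u₁ ∈ U) (hu₂ : u₂ ∈ U) (hu₁0 : u₁ ≠ 0)
    (hind : ∀ c : F, u₂ ≠ c • u₁) {w : ι → F} (hw : w ∈ perp Q U) (hwU : w ∉ U) :
    ∃ x ∈ unipU (Q := Q) U, ∃ y ∈ unipU (Q := Q) U, x * y ≠ y * x := by
  have hpol : ∀ u ∈ U, ∀ u' ∈ U, polar Q u u' = 0 := by
    intro u hu u' hu'
    have h1 := hU _ (U.add_mem hu hu')
    rw [Q_add', hU u hu, hU u' hu'] at h1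
    simpa using h1
  -- w' in the perp of U, not orthogonal to w
  obtain ⟨w', hw', hww'⟩ : ∃ w' ∈ perp Q U, polar Q w' w ≠ 0 := by
    by_contra hcon
    push Not at hcon
    apply hwU
    rw [← perp_perp hQ U]
    exact hcon
  have hn : u₂ ∉ Submodule.span F {u₁} := by
    intro h
    obtain ⟨c, hc⟩ := Submodule.mem_span_singleton.1 h
    exact hind c hc.symm
  obtain ⟨v, hv1, hv2⟩ := exists_perp_partner hQ _ hn
  have hvu₁ : polar Q u₁ v = 0 := by
    rw [polar_comm]
    exact hv1 u₁ (Submodule.mem_span_singleton_self u₁)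
  have hvu₂ : polar Q u₂ v = 1 := by rw [polar_comm]; exact hv2
  refine ⟨_, eichE_mem_unipU hU hu₁ hw, _, eichE_mem_unipU hU hu₂ hw', ?_⟩
  intro heq
  have h1 := congrArg (fun g : eichGroup Q => g • v) heq
  simp only [mul_smul] at h1
  have hx : ∀ t, eichE u₁ w (hU u₁ hu₁) (hw u₁ hu₁) • t =
      t + (polar Q w t • u₁ - polar Q u₁ t • w - Q w • polar Q u₁ t • u₁) := by
    intro t
    rw [eichE_smul, eich_apply]
  have hy : ∀ t, eichE u₂ w' (hU u₂ hu₂) (hw' u₂ hu₂) • t =
      t + (polar Q w' t • u₂ - polar Q u₂ t • w' - Q w' • polar Q u₂ t • u₂) := by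
    intro t
    rw [eichE_smul, eich_apply]
  rw [hy v, hx v, hvu₁, hvu₂] at h1
  rw [hx, hy] at h1
  simp only [polar_add_right, polar_sub_right, polar_smul_right, smul_eq_mul,
    hpol u₁ hu₁ u₂ hu₂, hpol u₁ hu₁ u₁ hu₁, hpol u₂ hu₂ u₁ hu₁, hpol u₂ hu₂ u₂ hu₂,
    hw u₁ hu₁, hw u₂ hu₂, hw' u₁ hu₁, hw' u₂ hu₂, polar_comm Q w u₁, polar_comm Q w u₂,
    polar_comm Q w' u₁, polar_comm Q w' u₂, hvu₁, hvu₂] at h1
  have h2 : polar Q w w' • u₁ = 0 := by
    rw [← sub_eq_zero.2 h1.symm]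
    module
  rcases smul_eq_zero.1 h2 with h | h
  · rw [polar_comm] at h
    exact hww' h
  · exact hu₁0 h

end Cfsg.Agent.Helper17.OrthAut
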