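import Mathlib
import Cfsg.Agent.Lib.Helper17.OrthAut9

set_option autoImplicit false
set_option linter.unusedSectionVars false
set_option linter.unusedSimpArgs false

/-!
# An automorphism maps point stabilisers to point stabilisers (helper17)
-/

namespace Cfsg.Agent.Helper17.OrthAut

open QuadraticMap Matrix MulAction Cfsg.Agent.Helper28.WittQuad Cfsg.Agent.Helper2.Orth
open scoped Pointwise

variable {F : Type*} [Field F] {ι : Type} [Fintype ι] [DecidableEq ι]
  {Q : QuadraticForm F (ι → F)}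

/-- hypothesis excluding large maximal totally singular subspaces -/
def NoBigMax (Q : QuadraticForm F (ι → F)) : Prop :=
  ∀ U : Submodule F (ι → F), (∀ u ∈ U, Q u = 0) → perp Q U ≤ U →
    (∃ u₁ ∈ U, ∃ u₂ ∈ U, u₁ ≠ 0 ∧ ∀ c : F, u₂ ≠ c • u₁) →
    ∀ z : ι → F, z ≠ 0 → Q z = 0 →
      Nat.card (rootGroup (Q := Q) z) < Nat.card (unipU (Q := Q) U)

theorem smul_mem_fixV {A : Subgroup (eichGroup Q)} {m : eichGroup Q}
    (h : ∀ x ∈ A, m⁻¹ * x * m ∈ A) {v : ι → F} (hv : v ∈ fixV A) : m • v ∈ fixV A := by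
  intro x hx
  have h1 : x • m • v = m • ((m⁻¹ * x * m) • v) := by
    rw [mul_smul, mul_smul, smul_inv_smul]
  rw [h1, hv _ (h x hx)]

theorem smul_mem_rad0 {A : Subgroup (eichGroup Q)} {m : eichGroup Q}
    (h : ∀ x ∈ A, m⁻¹ * x * m ∈ A) (h' : ∀ x ∈ A, m * x * m⁻¹ ∈ A) {v : ι → F}
    (hv : v ∈ rad0 A) : m • v ∈ rad0 A := by
  obtain ⟨hv1, hv2, hv3⟩ := hv
  refine ⟨smul_mem_fixV h hv1, ?_, by rw [Q_smulE, hv3]⟩
  intro c hc
  rw [← polar_smulE m⁻¹, inv_smul_smul]
  apply hv2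
  apply smul_mem_fixV _ hc
  intro x hx
  rw [inv_inv]
  exact h' x hx

theorem polar_eq_zero_of_ts {U : Submodule F (ι → F)} (hU : ∀ u ∈ U, Q u = 0) {u u' : ι → F}
    (hu : u ∈ U) (hu' : u' ∈ U) : polar Q u u' = 0 := by
  have h1 := hU _ (U.add_mem hu hu')
  rw [Q_add', hU u hu, hU u' hu'] at h1
  simpa using h1

theorem stabU_ne_top (hQ : (polarBilin Q).Nondegenerate) {e f : Fin 2 → (ι → F)}
    (fr : HypFrame Q e f) {U : Submodule F (ι → F)} (hU : ∀ u ∈ U, Q u = 0) (hU0 : U ≠ ⊥) :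
    stabU (Q := Q) U ≠ ⊤ := by
  intro htop
  obtain ⟨u, huU, hu0⟩ := (Submodule.ne_bot_iff _).1 hU0
  have hall : ∀ s : ι → F, s ≠ 0 → Q s = 0 → s ∈ U := by
    intro s hs0 hs
    obtain ⟨t, ht, hts⟩ := eich_trans_singular hQ fr hu0 (hU u huU) hs0 hs
    have h1 : (⟨t, ht⟩ : eichGroup Q) ∈ stabU U := by rw [htop]; trivial
    have h2 := (h1 u).2 huU
    have h3 : (⟨t, ht⟩ : eichGroup Q) • u = s := hts
    rwa [h3] at h2
  have h1 := polar_eq_zero_of_ts hU (hall _ (frame_e_ne_zero fr 0) (fr.qe 0))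
    (hall _ (frame_f_ne_zero fr 0) (fr.qf 0))
  rw [fr.ef] at h1
  simp at h1

theorem unipU_le_stabU (U : Submodule F (ι → F)) : unipU (Q := Q) U ≤ stabU U := by
  intro g hg
  apply mem_stabU_of_forall
  · intro u hu
    rw [hg.1 u hu]
    exact hu
  · intro u hu
    rw [((unipU U).inv_mem hg).1 u hu]
    exact hu

theorem two_lt_card_rootGroup (hQ : (polarBilin Q).Nondegenerate) {e f : Fin 2 → (ι → F)}
    (fr : HypFrame Q e f) [Finite F] {z : ι → F} (hz0 : z ≠ 0) (hz : Q z = 0) :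
    2 < Nat.card (rootGroup (Q := Q) z) := by
  classical
  obtain ⟨b, b', -, hb, hb', hbb', -, hQb', -, -, -, -⟩ := exists_perp_pair hQ fr hz0 hz
  have h1 : eichG Q z b ≠ 1 := by
    intro h
    obtain ⟨c, rfl⟩ := (eichG_eq_one_iff hQ hz0 hz hb).1 h
    rw [polar_smul_left, hb', smul_zero] at hbb'
    exact zero_ne_one hbb'
  have h2 : eichG Q z b' ≠ 1 := by
    intro h
    obtain ⟨c, rfl⟩ := (eichG_eq_one_iff hQ hz0 hz hb').1 h
    rw [polar_smul_right, polar_comm, hb, smul_zero] at hbb'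
    exact zero_ne_one hbb'
  have h3 : eichG Q z b ≠ eichG Q z b' := by
    intro h
    obtain ⟨c, hc⟩ := (eichG_eq_iff hQ hz0 hz hb hb').1 h
    have h4 : polar Q (b - b') b' = 1 := by
      rw [polar_sub_left, hbb', polar_self_of_singular Q hQb', sub_zero]
    rw [hc, polar_smul_left, hb', smul_zero] at h4
    exact zero_ne_one h4
  let x0 : rootGroup (Q := Q) z := 1
  let x1 : rootGroup (Q := Q) z := ⟨eichE z b hz hb, eichE_mem_rootGroup hz hb⟩
  let x2 : rootGroup (Q := Q) z := ⟨eichE z b' hz hb', eichE_mem_rootGroup hz hb'⟩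
  have h10 : x1 ≠ x0 := by
    intro h
    apply h1
    have := congrArg (fun t : rootGroup (Q := Q) z => ((t : eichGroup Q) : Cfsg.isometryGroup F (⇑Q))) h
    exact this
  have h20 : x2 ≠ x0 := by
    intro h
    apply h2
    have := congrArg (fun t : rootGroup (Q := Q) z => ((t : eichGroup Q) : Cfsg.isometryGroup F (⇑Q))) h
    exact this
  have h12 : x1 ≠ x2 := by
    intro h
    apply h3
    have := congrArg (fun t : rootGroup (Q := Q) z => ((t : eichGroup Q) : Cfsg.isometryGroup F (⇑Q))) h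
    exact this
  have := Fintype.ofFinite (rootGroup (Q := Q) z)
  have hc : ({x0, x1, x2} : Finset (rootGroup (Q := Q) z)).card = 3 := by
    rw [Finset.card_insert_of_notMem, Finset.card_insert_of_notMem, Finset.card_singleton]
    · simpa using h12
    · simp only [Finset.mem_insert, Finset.mem_singleton, not_or]
      exact ⟨h10.symm, h20.symm⟩
  have h4 := Finset.card_le_univ ({x0, x1, x2} : Finset (rootGroup (Q := Q) z))
  rw [hc] at h4
  rw [Nat.card_eq_fintype_card]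
  omega

section main
variable [Finite F]

local notation "π" => QuotientGroup.mk' (Subgroup.center (eichGroup Q))

/-- **an automorphism maps each point stabiliser to a point stabiliser** -/
theorem exists_point_transport (p : ℕ) [hp : Fact p.Prime] [CharP F p]
    (hQ : (polarBilin Q).Nondegenerate) {e f : Fin 3 → (ι → F)}
    (fr : HypFrame Q e f) (hmax : NoBigMax Q)
    (α : (eichGroup Q ⧸ Subgroup.center (eichGroup Q)) ≃*
      (eichGroup Q ⧸ Subgroup.center (eichGroup Q))) {z : ι → F} (hz0 : z ≠ 0) (hz : Q z = 0) :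
    ∃ (z' : ι → F) (hz'0 : z' ≠ 0) (hz' : Q z' = 0),
      transport (Subgroup.center (eichGroup Q)) α (stabilizer (eichGroup Q) (pt z hz0 hz)) =
        stabilizer (eichGroup Q) (pt z' hz'0 hz') := by
  have fr2 : HypFrame Q (e ∘ Fin.castSucc) (f ∘ Fin.castSucc) :=
    fr.comp Fin.castSucc (Fin.castSucc_injective 2)
  have hZ := center_coprime (p := p) hQ fr2
  obtain ⟨P, hP⟩ : ∃ P, P = stabilizer (eichGroup Q) (pt z hz0 hz) := ⟨_, rfl⟩
  obtain ⟨M, hM⟩ : ∃ M, M = transport (Subgroup.center (eichGroup Q)) α P := ⟨_, rfl⟩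
  have hMco : IsCoatom M := by
    rw [hM, hP]
    exact isCoatom_transport _ α (isCoatom_stabilizer hQ fr hz0 hz)
      (center_le_stabilizer hQ fr2 hz0 hz)
  have hπM : M.map π = (P.map π).map α.toMonoidHom := by
    rw [hM]
    exact map_transport _ α P
  have hRbp : IsPGroup p (((rootGroup (Q := Q) z).map π).map α.toMonoidHom) :=
    ((isPGroup_rootGroup z).map π).map α.toMonoidHom
  obtain ⟨A, hAdef⟩ : ∃ A, A = pLift hZ _ hRbp := ⟨_, rfl⟩
  have hA : IsPGroup p A := by rw [hAdef]; exact isPGroup_pLift hZ hRbp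
  have hAπ : A.map π = ((rootGroup (Q := Q) z).map π).map α.toMonoidHom := by
    rw [hAdef]; exact map_pLift hZ hRbp
  have hAmem : ∀ x, x ∈ A ↔ IsPEl p x ∧
      π x ∈ ((rootGroup (Q := Q) z).map π).map α.toMonoidHom := by
    intro x
    rw [hAdef]
    exact mem_pLift hZ hRbp
  -- M normalises A
  have hMA : ∀ m ∈ M, ∀ x ∈ A, m * x * m⁻¹ ∈ A := by
    intro m hm x hx
    rw [hAmem] at hx ⊢
    refine ⟨hx.1.conj m, ?_⟩
    have h1 : π m ∈ (P.map π).map α.toMonoidHom := by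
      rw [← hπM]
      exact ⟨m, hm, rfl⟩
    obtain ⟨_, ⟨g, hg, rfl⟩, hgm⟩ := h1
    obtain ⟨_, ⟨r, hr, rfl⟩, hrx⟩ := hx.2
    refine ⟨π (g * r * g⁻¹), ⟨g * r * g⁻¹, ?_, rfl⟩, ?_⟩
    · rw [hP] at hg
      exact conj_mem_rootGroup hz0 hz hg hr
    · rw [map_mul, map_mul, map_inv, map_mul, map_mul, map_inv, hgm, hrx, map_mul, map_mul,
        map_inv]
  have hcardA : Nat.card A = Nat.card (rootGroup (Q := Q) z) := by
    rw [← card_map_mk hZ hA, hAπ, Subgroup.card_map_of_injective α.injective,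
      card_map_mk hZ (isPGroup_rootGroup z)]
  have h3 : 2 < Nat.card A := by
    rw [hcardA]
    exact two_lt_card_rootGroup hQ fr2 hz0 hz
  have hU0 : rad0 A ≠ ⊥ := rad0_ne_bot hQ hA h3
  obtain ⟨U, hUdef⟩ : ∃ U, U = rad0 A := ⟨_, rfl⟩
  rw [← hUdef] at hU0
  have hUts : ∀ u ∈ U, Q u = 0 := by
    intro u hu
    rw [hUdef] at hu
    exact hu.2.2
  have hMU : M ≤ stabU U := by
    intro m hm
    have hm' := M.inv_mem hm
    rw [hUdef]
    apply mem_stabU_of_forall
    · intro u hu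
      apply smul_mem_rad0 _ (hMA m hm) hu
      intro x hx
      have := hMA _ hm' x hx
      rwa [inv_inv] at this
    · intro u hu
      apply smul_mem_rad0 _ (hMA _ hm') hu
      intro x hx
      rw [inv_inv]
      exact hMA m hm x hx
  have hMeq : M = stabU U := by
    rcases eq_or_lt_of_le hMU with h | h
    · exact h
    · exact absurd (hMco.2 _ h) (stabU_ne_top hQ fr2 hUts hU0)
  -- the unipotent radical lies in A
  have hunip : unipU (Q := Q) U ≤ A := by
    have hle : ((unipU (Q := Q) U).map π).map α.symm.toMonoidHom ≤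
        (rootGroup (Q := Q) z).map π := by
      apply le_map_rootGroup_of_normal hQ fr hz0 hz _ (((isPGroup_unipU U).map π).map _)
      · rintro _ ⟨_, ⟨g, hg, rfl⟩, rfl⟩
        have h1 : π g ∈ M.map π := ⟨g, by rw [hMeq]; exact unipU_le_stabU U hg, rfl⟩
        rw [hπM] at h1
        obtain ⟨y, hy, hyg⟩ := h1
        rw [← hP]
        have : α.symm.toMonoidHom (π g) = y := by
          rw [← hyg]
          simp
        rw [this]
        exact hy
      · rintro _ ⟨g₀, hg₀, rfl⟩ _ ⟨_, ⟨r, hr, rfl⟩, rfl⟩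
        rw [← hP] at hg₀
        have h1 : α (π g₀) ∈ M.map π := by
          rw [hπM]
          exact ⟨π g₀, ⟨g₀, hg₀, rfl⟩, rfl⟩
        obtain ⟨m, hm, hmg⟩ := h1
        refine ⟨π (m * r * m⁻¹), ⟨m * r * m⁻¹, conj_mem_unipU (by rw [← hMeq]; exact hm) hr,
          rfl⟩, ?_⟩
        have h2 : π g₀ = α.symm (π m) := by rw [hmg]; simp
        rw [h2]
        simp only [MulEquiv.coe_toMonoidHom, map_mul, map_inv]
    intro g hg
    rw [hAmem]
    refine ⟨IsPEl.of_mem (isPGroup_unipU U) hg, ?_⟩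
    have h1 := hle ⟨π g, ⟨g, hg, rfl⟩, rfl⟩
    refine ⟨α.symm (π g), h1, ?_⟩
    simp
  -- A is abelian
  have hAcomm : ∀ x ∈ A, ∀ y ∈ A, x * y = y * x := by
    intro x hx y hy
    rw [hAmem] at hx hy
    apply IsPEl.commute_of_mk hZ hx.1 hy.1
    obtain ⟨_, ⟨r, hr, rfl⟩, hrx⟩ := hx.2
    obtain ⟨_, ⟨s, hs, rfl⟩, hsy⟩ := hy.2
    rw [← hrx, ← hsy]
    have h1 : r * s = s * r := by
      have := (rootGroup_isMulCommutative (Q := Q) hz).is_comm.comm ⟨r, hr⟩ ⟨s, hs⟩
      exact congrArg Subtype.val this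
    show α.toMonoidHom (π r) * α.toMonoidHom (π s) = α.toMonoidHom (π s) * α.toMonoidHom (π r)
    rw [← map_mul, ← map_mul, ← map_mul, ← map_mul, h1]
  by_cases hdim : ∃ u₁ ∈ U, ∃ u₂ ∈ U, u₁ ≠ 0 ∧ ∀ c : F, u₂ ≠ c • u₁
  · exfalso
    obtain ⟨u₁, hu₁, u₂, hu₂, hu₁0, hind⟩ := hdim
    by_cases hperp : perp Q U ≤ U
    · have h4 := hmax U hUts hperp ⟨u₁, hu₁, u₂, hu₂, hu₁0, hind⟩ z hz0 hz
      have h5 : Nat.card (unipU (Q := Q) U) ≤ Nat.card A := Subgroup.card_le_of_le hunip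
      omega
    · obtain ⟨w, hw, hwU⟩ := SetLike.not_le_iff_exists.1 hperp
      obtain ⟨x, hx, y, hy, hxy⟩ := unipU_not_comm hQ hUts hu₁ hu₂ hu₁0 hind hw hwU
      exact hxy (hAcomm x (hunip hx) y (hunip hy))
  · push Not at hdim
    obtain ⟨z', hz'U, hz'0⟩ := (Submodule.ne_bot_iff _).1 hU0
    have hline : ∀ u ∈ U, ∃ c : F, u = c • z' := fun u hu => hdim z' hz'U u hu hz'0
    refine ⟨z', hz'0, hUts z' hz'U, ?_⟩
    rw [← hP, ← hM, hMeq]
    ext g
    rw [mem_stabilizer_pt, mem_stabU]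
    constructor
    · intro h
      exact hline _ ((h z').2 hz'U)
    · rintro ⟨a, ha⟩ v
      have ha0 : a ≠ 0 := by
        rintro rfl
        rw [zero_smul] at ha
        exact smul_ne_zeroE g hz'0 ha
      have hinv : g⁻¹ • z' = a⁻¹ • z' := by
        have h1 : g⁻¹ • (g • z') = g⁻¹ • (a • z') := by rw [ha]
        rw [inv_smul_smul, smul_comm] at h1
        calc g⁻¹ • z' = a⁻¹ • (a • g⁻¹ • z') := by rw [smul_smul, inv_mul_cancel₀ ha0, one_smul]
          _ = a⁻¹ • z' := by rw [← h1]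
      constructor
      · intro hgv
        obtain ⟨c, hc⟩ := hline _ hgv
        have h1 : v = g⁻¹ • (c • z') := by rw [← hc, inv_smul_smul]
        rw [h1, smul_comm, hinv]
        exact U.smul_mem _ (U.smul_mem _ hz'U)
      · intro hv
        obtain ⟨c, rfl⟩ := hline v hv
        rw [smul_comm, ha]
        exact U.smul_mem _ (U.smul_mem _ hz'U)

end main

end Cfsg.Agent.Helper17.OrthAut
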