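import Mathlib
import Cfsg.Agent.Lib.Helper17.OrthAut10

set_option autoImplicit false
set_option linter.unusedSectionVars false
set_option linter.unusedSimpArgs false

/-!
# An automorphism permutes the images of the root groups (helper17)
-/

namespace Cfsg.Agent.Helper17.OrthAut

open QuadraticMap Matrix MulAction Cfsg.Agent.Helper28.WittQuad Cfsg.Agent.Helper2.Orth
open scoped Pointwise

variable {F : Type*} [Field F] {ι : Type} [Fintype ι] [DecidableEq ι]
  {Q : QuadraticForm F (ι → F)}

section main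
variable [Finite F]

local notation "π" => QuotientGroup.mk' (Subgroup.center (eichGroup Q))

theorem exists_point_image (p : ℕ) [hp : Fact p.Prime] [CharP F p]
    (hQ : (polarBilin Q).Nondegenerate) {e f : Fin 3 → (ι → F)}
    (fr : HypFrame Q e f) (hmax : NoBigMax Q)
    (α : (eichGroup Q ⧸ Subgroup.center (eichGroup Q)) ≃*
      (eichGroup Q ⧸ Subgroup.center (eichGroup Q))) {z : ι → F} (hz0 : z ≠ 0) (hz : Q z = 0) :
    ∃ (z' : ι → F) (hz'0 : z' ≠ 0) (hz' : Q z' = 0),
      ((stabilizer (eichGroup Q) (pt z hz0 hz)).map π).map α.toMonoidHom =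
        (stabilizer (eichGroup Q) (pt z' hz'0 hz')).map π ∧
      ((rootGroup (Q := Q) z).map π).map α.toMonoidHom = (rootGroup (Q := Q) z').map π := by
  obtain ⟨z', hz'0, hz', hM⟩ := exists_point_transport p hQ fr hmax α hz0 hz
  have hP : ((stabilizer (eichGroup Q) (pt z hz0 hz)).map π).map α.toMonoidHom =
      (stabilizer (eichGroup Q) (pt z' hz'0 hz')).map π := by
    rw [← hM, map_transport]
  refine ⟨z', hz'0, hz', hP, ?_⟩
  apply le_antisymm
  · apply le_map_rootGroup_of_normal hQ fr hz'0 hz' _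
      (((isPGroup_rootGroup (p := p) z).map π).map α.toMonoidHom)
    · rw [← hP]
      exact Subgroup.map_mono (Subgroup.map_mono (rootGroup_le_stabilizer hz0 hz))
    · rw [← hP]
      rintro _ ⟨_, ⟨g, hg, rfl⟩, rfl⟩ _ ⟨_, ⟨r, hr, rfl⟩, rfl⟩
      refine ⟨π (g * r * g⁻¹), ⟨g * r * g⁻¹, conj_mem_rootGroup hz0 hz hg hr, rfl⟩, ?_⟩
      simp only [MulEquiv.coe_toMonoidHom, map_mul, map_inv]
  · have h1 : ((rootGroup (Q := Q) z').map π).map α.symm.toMonoidHom ≤
        (rootGroup (Q := Q) z).map π := by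
      have hP' : ((stabilizer (eichGroup Q) (pt z' hz'0 hz')).map π).map α.symm.toMonoidHom =
          (stabilizer (eichGroup Q) (pt z hz0 hz)).map π := by
        rw [← hP, map_symm_map]
      apply le_map_rootGroup_of_normal hQ fr hz0 hz _
        (((isPGroup_rootGroup (p := p) z').map π).map α.symm.toMonoidHom)
      · rw [← hP']
        exact Subgroup.map_mono (Subgroup.map_mono (rootGroup_le_stabilizer hz'0 hz'))
      · rw [← hP']
        rintro _ ⟨_, ⟨g, hg, rfl⟩, rfl⟩ _ ⟨_, ⟨r, hr, rfl⟩, rfl⟩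
        refine ⟨π (g * r * g⁻¹), ⟨g * r * g⁻¹, conj_mem_rootGroup hz'0 hz' hg hr, rfl⟩, ?_⟩
        simp only [MulEquiv.coe_toMonoidHom, map_mul, map_inv]
    have h2 := Subgroup.map_mono (f := α.toMonoidHom) h1
    rwa [map_map_symm] at h2

end main

end Cfsg.Agent.Helper17.OrthAut
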