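import Mathlib
import Cfsg.Agent.Lib.Helper17.OrthAut11

set_option autoImplicit false
set_option linter.unusedSectionVars false
set_option linter.unusedSimpArgs false

/-!
# The additive map induced by an automorphism on a root group (helper17)
-/

namespace Cfsg.Agent.Helper17.OrthAut

open QuadraticMap Matrix MulAction Cfsg.Agent.Helper28.WittQuad Cfsg.Agent.Helper2.Orth
open scoped Pointwise

variable {F : Type*} [Field F] {ι : Type} [Fintype ι] [DecidableEq ι]
  {Q : QuadraticForm F (ι → F)}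

theorem eichG_mem' (z b : ι → F) : eichG Q z b ∈ eichGroup Q := by
  by_cases h : Q z = 0 ∧ polar Q z b = 0
  · exact eichG_mem h.1 h.2
  · unfold eichG
    rw [dif_neg h]
    exact Subgroup.one_mem _

/-- Eichler elements of the Eichler group, as a total function -/
noncomputable def eichT (z b : ι → F) : eichGroup Q := ⟨eichG Q z b, eichG_mem' z b⟩

theorem eichT_smul {z b : ι → F} (hz : Q z = 0) (hzb : polar Q z b = 0) (x : ι → F) :
    (eichT z b : eichGroup Q) • x = eich Q z b x := eichG_smul hz hzb x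

theorem eichT_mem_rootGroup {z b : ι → F} (hzb : polar Q z b = 0) :
    (eichT z b : eichGroup Q) ∈ rootGroup (Q := Q) z := ⟨b, hzb, rfl⟩

theorem mem_rootGroup_iff' {z : ι → F} {g : eichGroup Q} :
    g ∈ rootGroup (Q := Q) z ↔ ∃ b, polar Q z b = 0 ∧ g = eichT z b := by
  constructor
  · rintro ⟨b, hb, hg⟩
    exact ⟨b, hb, Subtype.ext hg⟩
  · rintro ⟨b, hb, rfl⟩
    exact eichT_mem_rootGroup hb

theorem eichT_add {z b b' : ι → F} (hz : Q z = 0) (hzb : polar Q z b = 0)
    (hzb' : polar Q z b' = 0) : (eichT z (b + b') : eichGroup Q) = eichT z b * eichT z b' :=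
  Subtype.ext (eichG_mul hz hzb hzb').symm

theorem eichT_conj (g : eichGroup Q) {z b : ι → F} (hz : Q z = 0) (hzb : polar Q z b = 0) :
    g * eichT z b * g⁻¹ = eichT (g • z) (g • b) :=
  Subtype.ext (eichG_conj g.1 hz hzb)

theorem eichT_eq_iff (hQ : (polarBilin Q).Nondegenerate) {z b b' : ι → F} (hz0 : z ≠ 0)
    (hz : Q z = 0) (hzb : polar Q z b = 0) (hzb' : polar Q z b' = 0) :
    (eichT z b : eichGroup Q) = eichT z b' ↔ ∃ c : F, b - b' = c • z := by
  rw [← eichG_eq_iff hQ hz0 hz hzb hzb']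
  constructor
  · intro h
    exact congrArg Subtype.val h
  · intro h
    exact Subtype.ext h

theorem eichT_smul_vec {z b : ι → F} (hz : Q z = 0) (hzb : polar Q z b = 0) (c : F) :
    (eichT z (b + c • z) : eichGroup Q) = eichT z b := by
  apply Subtype.ext
  show eichG Q z (b + c • z) = eichG Q z b
  rw [← eichG_mul hz hzb (by rw [polar_smul_right, polar_self_of_singular Q hz, smul_zero]),
    eichG_self_smul hz, mul_one]

theorem eichT_projW {z f b : ι → F} (hz : Q z = 0) (hzb : polar Q z b = 0) :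
    (eichT z (projW Q z f b) : eichGroup Q) = eichT z b := by
  have h1 : projW Q z f b = b + (-polar Q f b) • z := by
    unfold projW
    rw [hzb]
    module
  rw [h1, eichT_smul_vec hz hzb]

section charp
variable [Finite F]

local notation "π" => QuotientGroup.mk' (Subgroup.center (eichGroup Q))

/-- injectivity of `b ↦ π (eichT z b)` on the perp of a hyperbolic pair -/
theorem eq_of_mk_eichT_eq (p : ℕ) [hp : Fact p.Prime] [CharP F p]
    (hQ : (polarBilin Q).Nondegenerate) {e f : Fin 2 → (ι → F)} (fr : HypFrame Q e f)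
    {z f₀ b b' : ι → F} (hz0 : z ≠ 0) (hz : Q z = 0) (hzf : polar Q z f₀ = 1)
    (hb : b ∈ hypPerp Q z f₀) (hb' : b' ∈ hypPerp Q z f₀)
    (h : π (eichT z b) = π (eichT z b')) : b = b' := by
  have hZ := center_coprime (p := p) hQ fr
  have h1 := IsPEl.eq_of_mk_eq hZ
    (IsPEl.of_mem (isPGroup_rootGroup (p := p) z) (eichT_mem_rootGroup hb.1))
    (IsPEl.of_mem (isPGroup_rootGroup (p := p) z) (eichT_mem_rootGroup hb'.1)) h
  obtain ⟨c, hc⟩ := (eichT_eq_iff hQ hz0 hz hb.1 hb'.1).1 h1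
  have h2 : polar Q f₀ (b - b') = c := by
    rw [hc, polar_smul_right, polar_comm, hzf]
    simp
  rw [polar_sub_right, hb.2, hb'.2, sub_zero] at h2
  rw [← h2, zero_smul] at hc
  exact sub_eq_zero.1 hc

/-- membership in a root group can be tested in the quotient, for `p`-elements -/
theorem mem_rootGroup_of_mk_mem (p : ℕ) [hp : Fact p.Prime] [CharP F p]
    (hQ : (polarBilin Q).Nondegenerate) {e f : Fin 2 → (ι → F)} (fr : HypFrame Q e f)
    {z : ι → F} {x : eichGroup Q} (hx : IsPEl p x) (h : π x ∈ (rootGroup (Q := Q) z).map π) :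
    x ∈ rootGroup (Q := Q) z := by
  have hZ := center_coprime (p := p) hQ fr
  rw [← pLift_map hZ (isPGroup_rootGroup (p := p) z)]
  exact ⟨hx, h⟩

/-- equality of root groups can be tested in the quotient -/
theorem rootGroup_eq_of_map_eq (p : ℕ) [hp : Fact p.Prime] [CharP F p]
    (hQ : (polarBilin Q).Nondegenerate) {e f : Fin 2 → (ι → F)} (fr : HypFrame Q e f)
    {z z' : ι → F} (h : (rootGroup (Q := Q) z).map π = (rootGroup (Q := Q) z').map π) :
    rootGroup (Q := Q) z = rootGroup (Q := Q) z' := by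
  have hZ := center_coprime (p := p) hQ fr
  rw [← pLift_map hZ (isPGroup_rootGroup (p := p) z),
    ← pLift_map hZ (isPGroup_rootGroup (p := p) z')]
  ext x
  rw [mem_pLift, mem_pLift, h]

variable (β : (eichGroup Q ⧸ Subgroup.center (eichGroup Q)) ≃*
      (eichGroup Q ⧸ Subgroup.center (eichGroup Q)))

/-- the map induced by `β` on `⟨z, f⟩^⊥` through the root group of `z` -/
noncomputable def imgMap (z f₀ v : ι → F) : ι → F :=
  open Classical in
  if h : ∃ b', b' ∈ hypPerp Q z f₀ ∧ β (π (eichT z (projW Q z f₀ v))) = π (eichT z b') then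
    Classical.choose h
  else 0

variable {β}

theorem imgMap_spec {z f₀ : ι → F} (hz : Q z = 0) (hf : Q f₀ = 0) (hzf : polar Q z f₀ = 1)
    (hβ : ((rootGroup (Q := Q) z).map π).map β.toMonoidHom ≤ (rootGroup (Q := Q) z).map π)
    (v : ι → F) :
    imgMap β z f₀ v ∈ hypPerp Q z f₀ ∧
      β (π (eichT z (projW Q z f₀ v))) = π (eichT z (imgMap β z f₀ v)) := by
  have h : ∃ b', b' ∈ hypPerp Q z f₀ ∧
      β (π (eichT z (projW Q z f₀ v))) = π (eichT z b') := by
    have h1 : β (π (eichT z (projW Q z f₀ v))) ∈ (rootGroup (Q := Q) z).map π :=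
      hβ ⟨_, ⟨_, eichT_mem_rootGroup (polar_left_projW hz hzf v), rfl⟩, rfl⟩
    obtain ⟨r, hr, hrx⟩ := h1
    obtain ⟨b', hb', rfl⟩ := mem_rootGroup_iff'.1 hr
    refine ⟨projW Q z f₀ b', projW_mem hz hf hzf b', ?_⟩
    rw [← hrx, eichT_projW hz hb']
  unfold imgMap
  rw [dif_pos h]
  exact Classical.choose_spec h

theorem imgMap_unique (p : ℕ) [hp : Fact p.Prime] [CharP F p]
    (hQ : (polarBilin Q).Nondegenerate) {e f : Fin 2 → (ι → F)} (fr : HypFrame Q e f)
    {z f₀ : ι → F} (hz0 : z ≠ 0) (hz : Q z = 0) (hf : Q f₀ = 0) (hzf : polar Q z f₀ = 1)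
    (hβ : ((rootGroup (Q := Q) z).map π).map β.toMonoidHom ≤ (rootGroup (Q := Q) z).map π)
    {v b' : ι → F} (hb' : b' ∈ hypPerp Q z f₀)
    (h : β (π (eichT z (projW Q z f₀ v))) = π (eichT z b')) : imgMap β z f₀ v = b' := by
  obtain ⟨h1, h2⟩ := imgMap_spec hz hf hzf hβ v
  exact eq_of_mk_eichT_eq p hQ fr hz0 hz hzf h1 hb' (by rw [← h2, h])

theorem imgMap_add (p : ℕ) [hp : Fact p.Prime] [CharP F p]
    (hQ : (polarBilin Q).Nondegenerate) {e f : Fin 2 → (ι → F)} (fr : HypFrame Q e f)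
    {z f₀ : ι → F} (hz0 : z ≠ 0) (hz : Q z = 0) (hf : Q f₀ = 0) (hzf : polar Q z f₀ = 1)
    (hβ : ((rootGroup (Q := Q) z).map π).map β.toMonoidHom ≤ (rootGroup (Q := Q) z).map π)
    (v w : ι → F) : imgMap β z f₀ (v + w) = imgMap β z f₀ v + imgMap β z f₀ w := by
  obtain ⟨hv1, hv2⟩ := imgMap_spec hz hf hzf hβ v
  obtain ⟨hw1, hw2⟩ := imgMap_spec hz hf hzf hβ w
  apply imgMap_unique p hQ fr hz0 hz hf hzf hβ (Submodule.add_mem _ hv1 hw1)
  rw [projW_add, eichT_add hz (polar_left_projW hz hzf v) (polar_left_projW hz hzf w),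
    eichT_add hz hv1.1 hw1.1, map_mul, map_mul, map_mul, hv2, hw2]

/-- for `v` in the perp, the defining property without the projection -/
theorem imgMap_spec' {z f₀ : ι → F} (hz : Q z = 0) (hf : Q f₀ = 0) (hzf : polar Q z f₀ = 1)
    (hβ : ((rootGroup (Q := Q) z).map π).map β.toMonoidHom ≤ (rootGroup (Q := Q) z).map π)
    {v : ι → F} (hv : v ∈ hypPerp Q z f₀) :
    β (π (eichT z v)) = π (eichT z (imgMap β z f₀ v)) := by
  have := (imgMap_spec hz hf hzf hβ v).2
  rwa [projW_of_mem hv.1 hv.2] at this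

theorem imgMap_symm_imgMap (p : ℕ) [hp : Fact p.Prime] [CharP F p]
    (hQ : (polarBilin Q).Nondegenerate) {e f : Fin 2 → (ι → F)} (fr : HypFrame Q e f)
    {z f₀ : ι → F} (hz0 : z ≠ 0) (hz : Q z = 0) (hf : Q f₀ = 0) (hzf : polar Q z f₀ = 1)
    (hβ : ((rootGroup (Q := Q) z).map π).map β.toMonoidHom ≤ (rootGroup (Q := Q) z).map π)
    (hβ' : ((rootGroup (Q := Q) z).map π).map β.symm.toMonoidHom ≤
      (rootGroup (Q := Q) z).map π)
    {v : ι → F} (hv : v ∈ hypPerp Q z f₀) :
    imgMap β z f₀ (imgMap β.symm z f₀ v) = v := by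
  apply imgMap_unique p hQ fr hz0 hz hf hzf hβ hv
  have h1 := imgMap_spec hz hf hzf hβ' v
  rw [projW_of_mem h1.1.1 h1.1.2, ← h1.2, projW_of_mem hv.1 hv.2]
  simp

end charp

end Cfsg.Agent.Helper17.OrthAut
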