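import Mathlib
import Cfsg.Agent.Lib.Helper17.OrthAut12

set_option autoImplicit false
set_option linter.unusedSectionVars false
set_option linter.unusedSimpArgs false

/-!
# Equivariance of the induced additive map (helper17)
-/

namespace Cfsg.Agent.Helper17.OrthAut

open QuadraticMap Matrix MulAction Cfsg.Agent.Helper28.WittQuad Cfsg.Agent.Helper2.Orth
open scoped Pointwise

variable {F : Type*} [Field F] {ι : Type} [Fintype ι] [DecidableEq ι]
  {Q : QuadraticForm F (ι → F)}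

theorem hypPerp_comm (z f₀ : ι → F) : hypPerp Q f₀ z = hypPerp Q z f₀ := by
  ext v
  rw [mem_hypPerp, mem_hypPerp, and_comm]

theorem projW_comm (z f₀ v : ι → F) : projW Q f₀ z v = projW Q z f₀ v := by
  unfold projW
  abel

theorem smul_mem_hypPerp {z f₀ : ι → F} {g : eichGroup Q} (hgz : g • z = z) (hgf : g • f₀ = f₀)
    {v : ι → F} (hv : v ∈ hypPerp Q z f₀) : g • v ∈ hypPerp Q z f₀ := by
  constructor
  · rw [← hgz, polar_smulE, hv.1]
  · rw [← hgf, polar_smulE, hv.2]

section charp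
variable [Finite F]

local notation "π" => QuotientGroup.mk' (Subgroup.center (eichGroup Q))

variable {β : (eichGroup Q ⧸ Subgroup.center (eichGroup Q)) ≃*
      (eichGroup Q ⧸ Subgroup.center (eichGroup Q))}

theorem mem_of_map_mem_map {K : Subgroup (eichGroup Q ⧸ Subgroup.center (eichGroup Q))}
    {y : eichGroup Q ⧸ Subgroup.center (eichGroup Q)} (h : β y ∈ K.map β.toMonoidHom) :
    y ∈ K := by
  obtain ⟨k, hk, hky⟩ := h
  have : k = y := β.injective hky
  rwa [← this]

/-- a `p`-element lifting `β⁻¹` of an element fixing `z` fixes `z` -/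
theorem smul_eq_of_lift (p : ℕ) [hp : Fact p.Prime] [CharP F p]
    (hQ : (polarBilin Q).Nondegenerate) {e f : Fin 2 → (ι → F)} (fr : HypFrame Q e f)
    {z : ι → F} (hz0 : z ≠ 0) (hz : Q z = 0)
    (hβ : ((rootGroup (Q := Q) z).map π).map β.toMonoidHom = (rootGroup (Q := Q) z).map π)
    {l x : eichGroup Q} (hl : IsPEl p l) (hlx : β (π l) = π x) (hxz : x • z = z) :
    l • z = z := by
  have hxs : x⁻¹ ∈ stabilizer (eichGroup Q) (pt z hz0 hz) := by
    apply Subgroup.inv_mem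
    rw [mem_stabilizer_pt]
    exact ⟨1, by rw [hxz, one_smul]⟩
  have hls : l ∈ stabilizer (eichGroup Q) (pt z hz0 hz) := by
    apply mem_stabilizer_of_normalizes hQ fr hz0 hz
    intro r hr
    have hrp : IsPEl p r := IsPEl.of_mem (isPGroup_rootGroup (p := p) z) hr
    have h1 : IsPEl p (l⁻¹ * r * l) := by
      have := hrp.conj l⁻¹
      rwa [inv_inv] at this
    apply mem_rootGroup_of_mk_mem p hQ fr h1
    apply mem_of_map_mem_map (β := β)
    rw [hβ]
    have h2 : β (π r) ∈ (rootGroup (Q := Q) z).map π := by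
      rw [← hβ]
      exact ⟨π r, ⟨r, hr, rfl⟩, rfl⟩
    obtain ⟨r', hr', hrr'⟩ := h2
    refine ⟨x⁻¹ * r' * x, ?_, ?_⟩
    · have := conj_mem_rootGroup hz0 hz hxs hr'
      rwa [inv_inv] at this
    · simp only [map_mul, map_inv]
      rw [hlx, hrr']
  obtain ⟨a, ha⟩ := (mem_stabilizer_pt hz0 hz l).1 hls
  exact hl.smul_eq hz0 ha

theorem imgMap_equivariant (p : ℕ) [hp : Fact p.Prime] [CharP F p]
    (hQ : (polarBilin Q).Nondegenerate) {e f : Fin 2 → (ι → F)} (fr : HypFrame Q e f)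
    {z f₀ : ι → F} (hz0 : z ≠ 0) (hz : Q z = 0) (hf : Q f₀ = 0) (hzf : polar Q z f₀ = 1)
    (hβ : ((rootGroup (Q := Q) z).map π).map β.toMonoidHom ≤ (rootGroup (Q := Q) z).map π)
    {l x : eichGroup Q} (hlx : β (π l) = π x) (hlz : l • z = z) (hlf : l • f₀ = f₀)
    (hxz : x • z = z) (hxf : x • f₀ = f₀) {v : ι → F} (hv : v ∈ hypPerp Q z f₀) :
    imgMap β z f₀ (l • v) = x • imgMap β z f₀ v := by
  have hlv := smul_mem_hypPerp hlz hlf hv
  obtain ⟨hA1, hA2⟩ := imgMap_spec hz hf hzf hβ v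
  rw [projW_of_mem hv.1 hv.2] at hA2
  apply imgMap_unique p hQ fr hz0 hz hf hzf hβ (smul_mem_hypPerp hxz hxf hA1)
  rw [projW_of_mem hlv.1 hlv.2]
  have h1 : (eichT z (l • v) : eichGroup Q) = l * eichT z v * l⁻¹ := by
    rw [eichT_conj l hz hv.1, hlz]
  have h2 : (eichT z (x • imgMap β z f₀ v) : eichGroup Q) =
      x * eichT z (imgMap β z f₀ v) * x⁻¹ := by
    rw [eichT_conj x hz hA1.1, hxz]
  rw [h1, h2]
  simp only [map_mul, map_inv]
  rw [hlx, hA2]

end charp

end Cfsg.Agent.Helper17.OrthAut
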