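import Mathlib
import Cfsg.Agent.Lib.Helper17.OrthAut13

set_option autoImplicit false
set_option linter.unusedSectionVars false
set_option linter.unusedSimpArgs false

/-!
# Semilinearity of the induced map (helper17)
-/

namespace Cfsg.Agent.Helper17.OrthAut

open QuadraticMap Matrix MulAction Cfsg.Agent.Helper28.WittQuad Cfsg.Agent.Helper2.Orth
open scoped Pointwise

variable {F : Type*} [Field F] {ι : Type} [Fintype ι] [DecidableEq ι]
  {Q : QuadraticForm F (ι → F)}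

section charp
variable [Finite F]

local notation "π" => QuotientGroup.mk' (Subgroup.center (eichGroup Q))

/-- an automorphism normalised to fix the images of the root groups of a hyperbolic pair -/
structure Norm (α : (eichGroup Q ⧸ Subgroup.center (eichGroup Q)) ≃*
      (eichGroup Q ⧸ Subgroup.center (eichGroup Q))) (z f₀ : ι → F) : Prop where
  hz0 : z ≠ 0
  hz : Q z = 0
  hf0 : f₀ ≠ 0
  hf : Q f₀ = 0
  hzf : polar Q z f₀ = 1
  hαz : ((rootGroup (Q := Q) z).map π).map α.toMonoidHom = (rootGroup (Q := Q) z).map π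
  hαf : ((rootGroup (Q := Q) f₀).map π).map α.toMonoidHom = (rootGroup (Q := Q) f₀).map π

variable {α : (eichGroup Q ⧸ Subgroup.center (eichGroup Q)) ≃*
      (eichGroup Q ⧸ Subgroup.center (eichGroup Q))} {z f₀ : ι → F}

theorem Norm.hfz (N : Norm α z f₀) : polar Q f₀ z = 1 := by rw [polar_comm, N.hzf]

theorem Norm.hαz' (N : Norm α z f₀) :
    ((rootGroup (Q := Q) z).map π).map α.symm.toMonoidHom = (rootGroup (Q := Q) z).map π := by
  have := map_symm_map (Subgroup.center (eichGroup Q)) α ((rootGroup (Q := Q) z).map π)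
  rw [N.hαz] at this
  exact this

theorem Norm.hαf' (N : Norm α z f₀) :
    ((rootGroup (Q := Q) f₀).map π).map α.symm.toMonoidHom = (rootGroup (Q := Q) f₀).map π := by
  have := map_symm_map (Subgroup.center (eichGroup Q)) α ((rootGroup (Q := Q) f₀).map π)
  rw [N.hαf] at this
  exact this

theorem Norm.swap (N : Norm α z f₀) : Norm α f₀ z :=
  ⟨N.hf0, N.hf, N.hz0, N.hz, N.hfz, N.hαf, N.hαz⟩

theorem Norm.symm (N : Norm α z f₀) : Norm α.symm z f₀ :=
  ⟨N.hz0, N.hz, N.hf0, N.hf, N.hzf, N.hαz', N.hαf'⟩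

/-- the lifted element attached to an Eichler element of the perp -/
theorem Norm.exists_lift (N : Norm α z f₀) (p : ℕ) [hp : Fact p.Prime] [CharP F p]
    (hQ : (polarBilin Q).Nondegenerate) {e f : Fin 2 → (ι → F)} (fr : HypFrame Q e f)
    {w b : ι → F} (hwW : w ∈ hypPerp Q z f₀) (hbW : b ∈ hypPerp Q z f₀) (hw : Q w = 0)
    (hwb : polar Q w b = 0) :
    ∃ l : eichGroup Q, l • z = z ∧ l • f₀ = f₀ ∧ ∀ v ∈ hypPerp Q z f₀,
      imgMap α z f₀ (l • v) = eich Q w b (imgMap α z f₀ v) ∧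
      imgMap α f₀ z (l • v) = eich Q w b (imgMap α f₀ z v) := by
  have hZ := center_coprime (p := p) hQ fr
  have hxp : IsPEl p (eichT w b : eichGroup Q) :=
    IsPEl.of_mem (isPGroup_rootGroup (p := p) w) (eichT_mem_rootGroup hwb)
  have hxz : (eichT w b : eichGroup Q) • z = z := by
    rw [eichT_smul hw hwb, eich_apply, polar_comm Q b z, hbW.1, polar_comm Q w z, hwW.1]
    simp
  have hxf : (eichT w b : eichGroup Q) • f₀ = f₀ := by
    rw [eichT_smul hw hwb, eich_apply, polar_comm Q b f₀, hbW.2, polar_comm Q w f₀, hwW.2]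
    simp
  have h1 : IsPEl p (α.symm (π (eichT w b))) := (hxp.map π).map α.symm.toMonoidHom
  obtain ⟨l, hl, hlx⟩ := exists_isPEl_lift hZ h1
  have hlx' : α (π l) = π (eichT w b) := by rw [hlx]; simp
  have hlz := smul_eq_of_lift p hQ fr N.hz0 N.hz N.hαz hl hlx' hxz
  have hlf := smul_eq_of_lift p hQ fr N.hf0 N.hf N.hαf hl hlx' hxf
  refine ⟨l, hlz, hlf, fun v hv => ⟨?_, ?_⟩⟩
  · rw [imgMap_equivariant p hQ fr N.hz0 N.hz N.hf N.hzf N.hαz.le hlx' hlz hlf hxz hxf hv,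
      eichT_smul hw hwb]
  · rw [imgMap_equivariant p hQ fr N.hf0 N.hf N.hz N.hfz N.hαf.le hlx' hlf hlz hxf hxz
      (by rw [hypPerp_comm]; exact hv), eichT_smul hw hwb]

theorem Norm.imgMap_mem (N : Norm α z f₀) (v : ι → F) : imgMap α z f₀ v ∈ hypPerp Q z f₀ :=
  (imgMap_spec N.hz N.hf N.hzf N.hαz.le v).1

theorem Norm.imgMap_mem' (N : Norm α z f₀) (v : ι → F) : imgMap α f₀ z v ∈ hypPerp Q z f₀ := by
  rw [← hypPerp_comm]
  exact (imgMap_spec N.hf N.hz N.hfz N.hαf.le v).1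

/-- the induced map as an additive map -/
noncomputable def Norm.A (N : Norm α z f₀) (p : ℕ) [hp : Fact p.Prime] [CharP F p]
    (hQ : (polarBilin Q).Nondegenerate) {e f : Fin 2 → (ι → F)} (fr : HypFrame Q e f) :
    (ι → F) →+ (ι → F) :=
  AddMonoidHom.mk' (imgMap α z f₀)
    (imgMap_add p hQ fr N.hz0 N.hz N.hf N.hzf N.hαz.le)

theorem Norm.A_apply (N : Norm α z f₀) (p : ℕ) [hp : Fact p.Prime] [CharP F p]
    (hQ : (polarBilin Q).Nondegenerate) {e f : Fin 2 → (ι → F)} (fr : HypFrame Q e f)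
    (v : ι → F) : N.A p hQ fr v = imgMap α z f₀ v := rfl

theorem Norm.A_symm_A (N : Norm α z f₀) (p : ℕ) [hp : Fact p.Prime] [CharP F p]
    (hQ : (polarBilin Q).Nondegenerate) {e f : Fin 2 → (ι → F)} (fr : HypFrame Q e f)
    {v : ι → F} (hv : v ∈ hypPerp Q z f₀) : N.symm.A p hQ fr (N.A p hQ fr v) = v := by
  rw [Norm.A_apply, Norm.A_apply]
  have := imgMap_symm_imgMap (β := α.symm) p hQ fr N.hz0 N.hz N.hf N.hzf N.hαz'.le
    (by rw [MulEquiv.symm_symm]; exact N.hαz.le) hv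
  rwa [MulEquiv.symm_symm] at this

theorem Norm.A_A_symm (N : Norm α z f₀) (p : ℕ) [hp : Fact p.Prime] [CharP F p]
    (hQ : (polarBilin Q).Nondegenerate) {e f : Fin 2 → (ι → F)} (fr : HypFrame Q e f)
    {v : ι → F} (hv : v ∈ hypPerp Q z f₀) : N.A p hQ fr (N.symm.A p hQ fr v) = v := by
  rw [Norm.A_apply, Norm.A_apply]
  exact imgMap_symm_imgMap p hQ fr N.hz0 N.hz N.hf N.hzf N.hαz.le N.hαz'.le hv

/-- the inverse map intertwines in the other direction -/
theorem Norm.symm_eich (N : Norm α z f₀) (p : ℕ) [hp : Fact p.Prime] [CharP F p]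
    (hQ : (polarBilin Q).Nondegenerate) {e f : Fin 2 → (ι → F)} (fr : HypFrame Q e f)
    {w b : ι → F} (hwW : w ∈ hypPerp Q z f₀) (hbW : b ∈ hypPerp Q z f₀) (hw : Q w = 0)
    (hwb : polar Q w b = 0) :
    ∃ l : eichGroup Q, l • z = z ∧ l • f₀ = f₀ ∧
      (∀ v ∈ hypPerp Q z f₀, N.symm.A p hQ fr (eich Q w b v) = l • N.symm.A p hQ fr v) ∧
      (∀ v ∈ hypPerp Q z f₀, N.A p hQ fr (l • v) = eich Q w b (N.A p hQ fr v)) ∧
      (∀ v ∈ hypPerp Q z f₀, imgMap α f₀ z (l • v) = eich Q w b (imgMap α f₀ z v)) := by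
  obtain ⟨l, hlz, hlf, hl⟩ := N.exists_lift p hQ fr hwW hbW hw hwb
  refine ⟨l, hlz, hlf, fun v hv => ?_, fun v hv => (hl v hv).1, fun v hv => (hl v hv).2⟩
  have hBv : N.symm.A p hQ fr v ∈ hypPerp Q z f₀ := N.symm.imgMap_mem v
  have h1 := (hl _ hBv).1
  rw [← Norm.A_apply N p hQ fr, ← Norm.A_apply N p hQ fr, N.A_A_symm p hQ fr hv] at h1
  rw [← h1, N.A_symm_A p hQ fr (smul_mem_hypPerp hlz hlf hBv)]

end charp

end Cfsg.Agent.Helper17.OrthAut
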