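import Mathlib
import Cfsg.Agent.Lib.Helper17.OrthAut14

set_option autoImplicit false
set_option linter.unusedSectionVars false
set_option linter.unusedSimpArgs false

/-!
# The field automorphism attached to an automorphism (helper17)
-/

namespace Cfsg.Agent.Helper17.OrthAut

open QuadraticMap Matrix MulAction Cfsg.Agent.Helper28.WittQuad Cfsg.Agent.Helper2.Orth
open scoped Pointwise

variable {F : Type*} [Field F] {ι : Type} [Fintype ι] [DecidableEq ι]
  {Q : QuadraticForm F (ι → F)}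

section charp
variable [Finite F]

local notation "π" => QuotientGroup.mk' (Subgroup.center (eichGroup Q))

variable {α : (eichGroup Q ⧸ Subgroup.center (eichGroup Q)) ≃*
      (eichGroup Q ⧸ Subgroup.center (eichGroup Q))} {z f₀ : ι → F}

theorem Norm.A_ne_zero (N : Norm α z f₀) (p : ℕ) [hp : Fact p.Prime] [CharP F p]
    (hQ : (polarBilin Q).Nondegenerate) {e f : Fin 2 → (ι → F)} (fr : HypFrame Q e f)
    {v : ι → F} (hv : v ∈ hypPerp Q z f₀) (hv0 : v ≠ 0) : N.A p hQ fr v ≠ 0 := by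
  intro h
  apply hv0
  rw [← N.A_symm_A p hQ fr hv, h, map_zero]

/-- scalars are carried to scalars -/
theorem Norm.exists_scalar (N : Norm α z f₀) (p : ℕ) [hp : Fact p.Prime] [CharP F p]
    (hQ : (polarBilin Q).Nondegenerate) {e f : Fin 3 → (ι → F)} (fr : HypFrame Q e f) (c : F) :
    ∃ s : F, ∀ v ∈ hypPerp Q z f₀,
      N.A p hQ (fr.comp Fin.castSucc (Fin.castSucc_injective 2)) (c • v) =
        s • N.A p hQ (fr.comp Fin.castSucc (Fin.castSucc_injective 2)) v := by
  obtain ⟨fr2, hfr2⟩ : ∃ fr2 : HypFrame Q (e ∘ Fin.castSucc) (f ∘ Fin.castSucc),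
      fr2 = fr.comp Fin.castSucc (Fin.castSucc_injective 2) := ⟨_, rfl⟩
  rw [← hfr2]
  obtain ⟨e', f', fr', he', hf'⟩ := exists_frame_hypPerp hQ fr N.hz0 N.hz N.hf N.hzf
  let D : (ι → F) →+ (ι → F) :=
    AddMonoidHom.mk' (fun v => N.A p hQ fr2 (c • N.symm.A p hQ fr2 v)) (by
      intro a b
      simp only [map_add, smul_add])
  have hDapp : ∀ v, D v = N.A p hQ fr2 (c • N.symm.A p hQ fr2 v) := fun _ => rfl
  obtain ⟨s, hs⟩ := comm_sub (hypPerp Q z f₀) (hypPerp_nondeg hQ N.hz N.hf N.hzf) fr' he' hf' D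
    (fun w _ => N.imgMap_mem _) (by
      intro w hwW b hbW hw hwb v hv
      obtain ⟨l, hlz, hlf, h1, h2, -⟩ := N.symm_eich p hQ fr2 hwW hbW hw hwb
      have h3 := h2 (c • N.symm.A p hQ fr2 v) (Submodule.smul_mem _ _ (N.symm.imgMap_mem v))
      rw [hDapp, hDapp, h1 v hv, smul_comm, h3])
  refine ⟨s, fun v hv => ?_⟩
  have h1 := hs _ (N.imgMap_mem v)
  rw [hDapp, ← Norm.A_apply N p hQ fr2, N.A_symm_A p hQ fr2 hv] at h1
  exact h1

/-- **the field automorphism** -/
theorem Norm.exists_sigma (N : Norm α z f₀) (p : ℕ) [hp : Fact p.Prime] [CharP F p]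
    (hQ : (polarBilin Q).Nondegenerate) {e f : Fin 3 → (ι → F)} (fr : HypFrame Q e f) :
    ∃ σ : F ≃+* F, ∀ (c : F), ∀ v ∈ hypPerp Q z f₀,
      N.A p hQ (fr.comp Fin.castSucc (Fin.castSucc_injective 2)) (c • v) =
        σ c • N.A p hQ (fr.comp Fin.castSucc (Fin.castSucc_injective 2)) v := by
  obtain ⟨fr2, hfr2⟩ : ∃ fr2 : HypFrame Q (e ∘ Fin.castSucc) (f ∘ Fin.castSucc),
      fr2 = fr.comp Fin.castSucc (Fin.castSucc_injective 2) := ⟨_, rfl⟩
  have hex := N.exists_scalar p hQ fr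
  rw [← hfr2] at hex ⊢
  choose σ₀ hσ₀ using hex
  obtain ⟨e', f', fr', he', hf'⟩ := exists_frame_hypPerp hQ fr N.hz0 N.hz N.hf N.hzf
  have hu0 : N.A p hQ fr2 (e' 0) ≠ 0 :=
    N.A_ne_zero p hQ fr2 (he' 0) (frame_e_ne_zero fr' 0)
  have hcancel : ∀ a b : F, a • N.A p hQ fr2 (e' 0) = b • N.A p hQ fr2 (e' 0) → a = b := by
    intro a b hab
    have h1 : (a - b) • N.A p hQ fr2 (e' 0) = 0 := by rw [sub_smul, hab, sub_self]
    rcases smul_eq_zero.1 h1 with h | h
    · exact sub_eq_zero.1 h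
    · exact absurd h hu0
  let σh : F →+* F :=
    { toFun := σ₀
      map_one' := by
        apply hcancel
        rw [← hσ₀ 1 _ (he' 0), one_smul, one_smul]
      map_mul' := by
        intro a b
        apply hcancel
        rw [← hσ₀ (a * b) _ (he' 0), ← smul_smul, hσ₀ a _ (Submodule.smul_mem _ _ (he' 0)),
          hσ₀ b _ (he' 0), smul_smul]
      map_zero' := by
        apply hcancel
        rw [← hσ₀ 0 _ (he' 0), zero_smul, zero_smul, map_zero]
      map_add' := by
        intro a b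
        apply hcancel
        rw [← hσ₀ (a + b) _ (he' 0), add_smul, map_add, hσ₀ a _ (he' 0), hσ₀ b _ (he' 0),
          add_smul] }
  have hbij : Function.Bijective σh :=
    ⟨σh.injective, Finite.injective_iff_surjective.1 σh.injective⟩
  refine ⟨RingEquiv.ofBijective σh hbij, fun c v hv => ?_⟩
  exact hσ₀ c v hv

end charp

end Cfsg.Agent.Helper17.OrthAut
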