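import Mathlib
import Cfsg.Agent.Lib.Helper17.OrthAut15

set_option autoImplicit false
set_option linter.unusedSectionVars false
set_option linter.unusedSimpArgs false

/-!
# The induced map is a semisimilarity of the perp (helper17)
-/

namespace Cfsg.Agent.Helper17.OrthAut

open QuadraticMap Matrix MulAction Cfsg.Agent.Helper28.WittQuad Cfsg.Agent.Helper2.Orth
open scoped Pointwise

variable {F : Type*} [Field F] {ι : Type} [Fintype ι] [DecidableEq ι]
  {Q : QuadraticForm F (ι → F)}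

section charp
variable [Finite F]

local notation "π" => QuotientGroup.mk' (Subgroup.center (eichGroup Q))

variable {α : (eichGroup Q ⧸ Subgroup.center (eichGroup Q)) ≃*
      (eichGroup Q ⧸ Subgroup.center (eichGroup Q))} {z f₀ : ι → F}

theorem eq_zero_of_mem_hypPerp_of_smul {z f₀ b : ι → F} (hzf : polar Q z f₀ = 1)
    (hb : b ∈ hypPerp Q z f₀) {c : F} (h : b = c • z) : b = 0 := by
  have h1 : polar Q f₀ b = c := by
    rw [h, polar_smul_right, polar_comm, hzf]
    simp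
  rw [hb.2] at h1
  rw [h, ← h1, zero_smul]

/-- the induced map preserves singular vectors -/
theorem Norm.Q_A_eq_zero (N : Norm α z f₀) (p : ℕ) [hp : Fact p.Prime] [CharP F p]
    (hQ : (polarBilin Q).Nondegenerate) {e f : Fin 3 → (ι → F)} (fr : HypFrame Q e f)
    (hmax : NoBigMax Q) {b : ι → F} (hb : b ∈ hypPerp Q z f₀) (hQb : Q b = 0) :
    Q (N.A p hQ (fr.comp Fin.castSucc (Fin.castSucc_injective 2)) b) = 0 := by
  obtain ⟨fr2, hfr2⟩ : ∃ fr2 : HypFrame Q (e ∘ Fin.castSucc) (f ∘ Fin.castSucc),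
      fr2 = fr.comp Fin.castSucc (Fin.castSucc_injective 2) := ⟨_, rfl⟩
  rw [← hfr2]
  by_cases hb0 : b = 0
  · rw [hb0, map_zero, map_zero]
  obtain ⟨b', hb'0, hb', -, hR⟩ := exists_point_image p hQ fr hmax α hb0 hQb
  have hAb : N.A p hQ fr2 b ∈ hypPerp Q z f₀ := N.imgMap_mem b
  have hAb0 : N.A p hQ fr2 b ≠ 0 := N.A_ne_zero p hQ fr2 hb hb0
  have h1 : (eichT z b : eichGroup Q) ∈ rootGroup (Q := Q) b := by
    refine ⟨-z, by rw [polar_neg_right, polar_comm, hb.1, neg_zero], ?_⟩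
    exact eichG_swap N.hz hQb hb.1
  have h2 : π (eichT z (N.A p hQ fr2 b)) ∈ (rootGroup (Q := Q) b').map π := by
    rw [← hR, Norm.A_apply, ← imgMap_spec' N.hz N.hf N.hzf N.hαz.le hb]
    exact ⟨_, ⟨_, h1, rfl⟩, rfl⟩
  have h3 : (eichT z (N.A p hQ fr2 b) : eichGroup Q) ∈ rootGroup (Q := Q) b' :=
    mem_rootGroup_of_mk_mem p hQ fr2
      (IsPEl.of_mem (isPGroup_rootGroup (p := p) z) (eichT_mem_rootGroup hAb.1)) h2
  obtain ⟨b'', hb'', h4⟩ := h3
  have h4' : eichG Q z (N.A p hQ fr2 b) = eichG Q b' b'' := h4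
  have hne : eichG Q z (N.A p hQ fr2 b) ≠ 1 := by
    intro h
    obtain ⟨c, hc⟩ := (eichG_eq_one_iff hQ N.hz0 N.hz hAb.1).1 h
    exact hAb0 (eq_zero_of_mem_hypPerp_of_smul N.hzf hAb hc)
  have hind : ∀ c : F, b' ≠ c • z := by
    intro c hc
    have hc0 : c ≠ 0 := by
      rintro rfl
      rw [zero_smul] at hc
      exact hb'0 hc
    have h5 : rootGroup (Q := Q) b' = rootGroup (Q := Q) z := by
      rw [hc, rootGroup_smul_vec N.hz hc0]
    rw [h5, ← N.hαz] at hR
    have h6 : (rootGroup (Q := Q) b).map π = (rootGroup (Q := Q) z).map π := by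
      have := congrArg (Subgroup.map α.symm.toMonoidHom) hR
      rwa [map_symm_map, map_symm_map] at this
    have h7 := rootGroup_eq_of_map_eq p hQ fr2 h6
    obtain ⟨a, ha⟩ := exists_smul_of_rootGroup_eq hQ fr2 N.hz0 N.hz hQb h7.ge
    exact hb0 (eq_zero_of_mem_hypPerp_of_smul N.hzf hb ha)
  obtain ⟨hzb', c, hc⟩ := rootGroup_inter hQ N.hz0 N.hz hb'0 hb' hind hAb.1 hb'' h4' hne
  obtain ⟨s, hs⟩ := (eichG_eq_iff hQ N.hz0 N.hz hAb.1
    (by rw [polar_smul_right, hzb', smul_zero])).1 hc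
  have h8 : N.A p hQ fr2 b = c • b' + s • z := by rw [← hs]; abel
  rw [h8, Q_add', QuadraticMap.map_smul, QuadraticMap.map_smul, hb', N.hz, polar_smul_left,
    polar_smul_right, polar_comm Q b' z, hzb']
  simp

/-- orthogonal singular vectors go to orthogonal vectors -/
theorem Norm.polar_A_eq_zero (N : Norm α z f₀) (p : ℕ) [hp : Fact p.Prime] [CharP F p]
    (hQ : (polarBilin Q).Nondegenerate) {e f : Fin 3 → (ι → F)} (fr : HypFrame Q e f)
    (hmax : NoBigMax Q) {x x' : ι → F} (hx : x ∈ hypPerp Q z f₀) (hx' : x' ∈ hypPerp Q z f₀)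
    (hQx : Q x = 0) (hQx' : Q x' = 0) (hxx' : polar Q x x' = 0) :
    polar Q (N.A p hQ (fr.comp Fin.castSucc (Fin.castSucc_injective 2)) x)
      (N.A p hQ (fr.comp Fin.castSucc (Fin.castSucc_injective 2)) x') = 0 := by
  have h1 : Q (x + x') = 0 := by rw [Q_add', hQx, hQx', hxx']; ring
  have h2 := N.Q_A_eq_zero p hQ fr hmax (Submodule.add_mem _ hx hx') h1
  rw [map_add, Q_add', N.Q_A_eq_zero p hQ fr hmax hx hQx, N.Q_A_eq_zero p hQ fr hmax hx' hQx'] at h2
  simpa using h2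

end charp

end Cfsg.Agent.Helper17.OrthAut
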