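import Mathlib
import Cfsg.Agent.Lib.Helper17.OrthAut16

set_option autoImplicit false
set_option linter.unusedSectionVars false
set_option linter.unusedSimpArgs false

/-!
# The multiplier of the induced map (helper17)
-/

namespace Cfsg.Agent.Helper17.OrthAut

open QuadraticMap Matrix MulAction Cfsg.Agent.Helper28.WittQuad Cfsg.Agent.Helper2.Orth
open scoped Pointwise

variable {F : Type*} [Field F] {ι : Type} [Fintype ι] [DecidableEq ι]
  {Q : QuadraticForm F (ι → F)}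

theorem Q_comb3 (x y w : ι → F) (a b : F) :
    Q (a • x + b • y + w) = a * a * Q x + b * b * Q y + Q w + a * b * polar Q x y +
      a * polar Q x w + b * polar Q y w := by
  rw [Q_add', Q_add', QuadraticMap.map_smul, QuadraticMap.map_smul, polar_add_left,
    polar_smul_left, polar_smul_left, polar_smul_left, polar_smul_right]
  simp only [smul_eq_mul]
  ring

section charp
variable [Finite F]

local notation "π" => QuotientGroup.mk' (Subgroup.center (eichGroup Q))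

variable {α : (eichGroup Q ⧸ Subgroup.center (eichGroup Q)) ≃*
      (eichGroup Q ⧸ Subgroup.center (eichGroup Q))} {z f₀ : ι → F}

/-- **the induced map multiplies the form by a scalar, up to the field automorphism** -/
theorem Norm.exists_mult (N : Norm α z f₀) (p : ℕ) [hp : Fact p.Prime] [CharP F p]
    (hQ : (polarBilin Q).Nondegenerate) {e f : Fin 3 → (ι → F)} (fr : HypFrame Q e f)
    (hmax : NoBigMax Q) (σ : F ≃+* F)
    (hσ : ∀ (c : F), ∀ v ∈ hypPerp Q z f₀,
      N.A p hQ (fr.comp Fin.castSucc (Fin.castSucc_injective 2)) (c • v) =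
        σ c • N.A p hQ (fr.comp Fin.castSucc (Fin.castSucc_injective 2)) v) :
    ∃ c₀ : F, c₀ ≠ 0 ∧ ∀ b ∈ hypPerp Q z f₀,
      Q (N.A p hQ (fr.comp Fin.castSucc (Fin.castSucc_injective 2)) b) = c₀ * σ (Q b) := by
  obtain ⟨fr2, hfr2⟩ : ∃ fr2 : HypFrame Q (e ∘ Fin.castSucc) (f ∘ Fin.castSucc),
      fr2 = fr.comp Fin.castSucc (Fin.castSucc_injective 2) := ⟨_, rfl⟩
  have hsing := fun {b : ι → F} (hb : b ∈ hypPerp Q z f₀) (hQb : Q b = 0) =>
    N.Q_A_eq_zero p hQ fr hmax hb hQb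
  have hperp := fun {x x' : ι → F} (hx : x ∈ hypPerp Q z f₀) (hx' : x' ∈ hypPerp Q z f₀)
    (hQx : Q x = 0) (hQx' : Q x' = 0) (hxx' : polar Q x x' = 0) =>
    N.polar_A_eq_zero p hQ fr hmax hx hx' hQx hQx' hxx'
  rw [← hfr2] at hσ hsing hperp ⊢
  obtain ⟨A, hA⟩ : ∃ A : (ι → F) →+ (ι → F), A = N.A p hQ fr2 := ⟨_, rfl⟩
  rw [← hA] at hσ hsing hperp ⊢
  have hAW : ∀ v, A v ∈ hypPerp Q z f₀ := by
    intro v
    rw [hA]
    exact N.imgMap_mem v
  obtain ⟨e', f', fr', he', hf'⟩ := exists_frame_hypPerp hQ fr N.hz0 N.hz N.hf N.hzf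
  obtain ⟨u, hu⟩ : ∃ u, u = e' 0 := ⟨_, rfl⟩
  obtain ⟨v, hv⟩ : ∃ v, v = f' 0 := ⟨_, rfl⟩
  obtain ⟨u₁, hu₁⟩ : ∃ u, u = e' 1 := ⟨_, rfl⟩
  obtain ⟨v₁, hv₁⟩ : ∃ v, v = f' 1 := ⟨_, rfl⟩
  have huW : u ∈ hypPerp Q z f₀ := by rw [hu]; exact he' 0
  have hvW : v ∈ hypPerp Q z f₀ := by rw [hv]; exact hf' 0
  have hu₁W : u₁ ∈ hypPerp Q z f₀ := by rw [hu₁]; exact he' 1
  have hv₁W : v₁ ∈ hypPerp Q z f₀ := by rw [hv₁]; exact hf' 1
  have hQu : Q u = 0 := by rw [hu]; exact fr'.qe 0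
  have hQv : Q v = 0 := by rw [hv]; exact fr'.qf 0
  have hQu₁ : Q u₁ = 0 := by rw [hu₁]; exact fr'.qe 1
  have hQv₁ : Q v₁ = 0 := by rw [hv₁]; exact fr'.qf 1
  have huv : polar Q u v = 1 := by rw [hu, hv, fr'.ef]; simp
  have hu₁v₁ : polar Q u₁ v₁ = 1 := by rw [hu₁, hv₁, fr'.ef]; simp
  have huu₁ : polar Q u u₁ = 0 := by rw [hu, hu₁, fr'.ee]
  have huv₁ : polar Q u v₁ = 0 := by rw [hu, hv₁, fr'.ef]; simp
  have hvu₁ : polar Q v u₁ = 0 := by rw [hv, hu₁, fr'.fe]; simp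
  have hvv₁ : polar Q v v₁ = 0 := by rw [hv, hv₁, fr'.ff]
  have hQAu : Q (A u) = 0 := hsing huW hQu
  have hQAv : Q (A v) = 0 := hsing hvW hQv
  -- step (b)
  have hb : ∀ y ∈ hypPerp Q z f₀, polar Q u y = 0 → polar Q v y = 0 →
      polar Q (A u) (A y) = 0 ∧ polar Q (A v) (A y) = 0 := by
    intro y hyW huy hvy
    obtain ⟨y₀, hy₀⟩ : ∃ y₀, y₀ = projW Q u₁ v₁ y := ⟨_, rfl⟩
    have hy₀W : y₀ ∈ hypPerp Q z f₀ := by
      rw [hy₀]
      unfold projW
      exact Submodule.sub_mem _ (Submodule.sub_mem _ hyW (Submodule.smul_mem _ _ hu₁W))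
        (Submodule.smul_mem _ _ hv₁W)
    have h1 : polar Q u₁ y₀ = 0 := by rw [hy₀]; exact polar_left_projW hQu₁ hu₁v₁ y
    have h2 : polar Q v₁ y₀ = 0 := by rw [hy₀]; exact polar_right_projW hQv₁ hu₁v₁ y
    have h3 : polar Q u y₀ = 0 := by
      rw [hy₀]
      unfold projW
      rw [polar_sub_right, polar_sub_right, polar_smul_right, polar_smul_right, huy, huu₁, huv₁]
      simp
    have h4 : polar Q v y₀ = 0 := by
      rw [hy₀]
      unfold projW
      rw [polar_sub_right, polar_sub_right, polar_smul_right, polar_smul_right, hvy, hvu₁, hvv₁]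
      simp
    obtain ⟨s₁, hs₁⟩ : ∃ s₁, s₁ = (1 : F) • u₁ + (-Q y₀) • v₁ + y₀ := ⟨_, rfl⟩
    have hs₁W : s₁ ∈ hypPerp Q z f₀ := by
      rw [hs₁]
      exact Submodule.add_mem _ (Submodule.add_mem _ (Submodule.smul_mem _ _ hu₁W)
        (Submodule.smul_mem _ _ hv₁W)) hy₀W
    have hQs₁ : Q s₁ = 0 := by
      rw [hs₁, Q_comb3, hQu₁, hQv₁, hu₁v₁, h1, h2]
      ring
    have hus₁ : polar Q u s₁ = 0 := by
      rw [hs₁, polar_add_right, polar_add_right, polar_smul_right, polar_smul_right, huu₁, huv₁,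
        h3]
      simp
    have hvs₁ : polar Q v s₁ = 0 := by
      rw [hs₁, polar_add_right, polar_add_right, polar_smul_right, polar_smul_right, hvu₁, hvv₁,
        h4]
      simp
    have hy : y = s₁ + (polar Q v₁ y - 1) • u₁ + (polar Q u₁ y + Q y₀) • v₁ := by
      have h5 := eq_add_projW (Q := Q) u₁ v₁ y
      rw [← hy₀] at h5
      rw [hs₁]
      calc y = polar Q v₁ y • u₁ + polar Q u₁ y • v₁ + y₀ := h5
        _ = _ := by module
    have hAy : A y = A s₁ + σ (polar Q v₁ y - 1) • A u₁ + σ (polar Q u₁ y + Q y₀) • A v₁ := by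
      conv_lhs => rw [hy]
      rw [map_add, map_add, hσ _ _ hu₁W, hσ _ _ hv₁W]
    constructor
    · rw [hAy, polar_add_right, polar_add_right, polar_smul_right, polar_smul_right,
        hperp huW hs₁W hQu hQs₁ hus₁, hperp huW hu₁W hQu hQu₁ huu₁,
        hperp huW hv₁W hQu hQv₁ huv₁]
      simp
    · rw [hAy, polar_add_right, polar_add_right, polar_smul_right, polar_smul_right,
        hperp hvW hs₁W hQv hQs₁ hvs₁, hperp hvW hu₁W hQv hQu₁ hvu₁,
        hperp hvW hv₁W hQv hQv₁ hvv₁]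
      simp
  -- step (c)
  have hc : ∀ y ∈ hypPerp Q z f₀, polar Q u y = 0 → polar Q v y = 0 →
      Q (A y) = polar Q (A u) (A v) * σ (Q y) := by
    intro y hyW huy hvy
    obtain ⟨h1, h2⟩ := hb y hyW huy hvy
    obtain ⟨t, ht⟩ : ∃ t, t = (-Q y) • u + (1 : F) • v + y := ⟨_, rfl⟩
    have htW : t ∈ hypPerp Q z f₀ := by
      rw [ht]
      exact Submodule.add_mem _ (Submodule.add_mem _ (Submodule.smul_mem _ _ huW)
        (Submodule.smul_mem _ _ hvW)) hyW
    have hQt : Q t = 0 := by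
      rw [ht, Q_comb3, hQu, hQv, huv, huy, hvy]
      ring
    have hAt : A t = σ (-Q y) • A u + σ (1 : F) • A v + A y := by
      rw [ht, map_add, map_add, hσ _ _ huW, hσ _ _ hvW]
    have h3 := hsing htW hQt
    rw [hAt, Q_comb3, hQAu, hQAv, h1, h2, map_one, map_neg] at h3
    linear_combination h3
  refine ⟨polar Q (A u) (A v), ?_, ?_⟩
  · -- non-vanishing
    intro h0
    have h1 : ∀ b ∈ hypPerp Q z f₀, Q (A b) = 0 := by
      intro b hbW
      obtain ⟨y, hy⟩ : ∃ y, y = projW Q u v b := ⟨_, rfl⟩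
      have hyW : y ∈ hypPerp Q z f₀ := by
        rw [hy]
        unfold projW
        exact Submodule.sub_mem _ (Submodule.sub_mem _ hbW (Submodule.smul_mem _ _ huW))
          (Submodule.smul_mem _ _ hvW)
      have huy : polar Q u y = 0 := by rw [hy]; exact polar_left_projW hQu huv b
      have hvy : polar Q v y = 0 := by rw [hy]; exact polar_right_projW hQv huv b
      have h5 := eq_add_projW (Q := Q) u v b
      rw [← hy] at h5
      obtain ⟨h6, h7⟩ := hb y hyW huy hvy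
      have hAb : A b = σ (polar Q v b) • A u + σ (polar Q u b) • A v + A y := by
        conv_lhs => rw [h5]
        rw [map_add, map_add, hσ _ _ huW, hσ _ _ hvW]
      rw [hAb, Q_comb3, hQAu, hQAv, h6, h7, h0, hc y hyW huy hvy, h0]
      ring
    have h2 : u + v ∈ hypPerp Q z f₀ := Submodule.add_mem _ huW hvW
    have h3 := h1 _ (N.symm.imgMap_mem (u + v))
    rw [hA, ← Norm.A_apply N.symm p hQ fr2, N.A_A_symm p hQ fr2 h2, Q_add', hQu, hQv, huv] at h3
    simp at h3
  · intro b hbW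
    obtain ⟨y, hy⟩ : ∃ y, y = projW Q u v b := ⟨_, rfl⟩
    have hyW : y ∈ hypPerp Q z f₀ := by
      rw [hy]
      unfold projW
      exact Submodule.sub_mem _ (Submodule.sub_mem _ hbW (Submodule.smul_mem _ _ huW))
        (Submodule.smul_mem _ _ hvW)
    have huy : polar Q u y = 0 := by rw [hy]; exact polar_left_projW hQu huv b
    have hvy : polar Q v y = 0 := by rw [hy]; exact polar_right_projW hQv huv b
    have h5 := eq_add_projW (Q := Q) u v b
    rw [← hy] at h5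
    obtain ⟨h6, h7⟩ := hb y hyW huy hvy
    have hAb : A b = σ (polar Q v b) • A u + σ (polar Q u b) • A v + A y := by
      conv_lhs => rw [h5]
      rw [map_add, map_add, hσ _ _ huW, hσ _ _ hvW]
    have hQb : Q b = polar Q v b * polar Q u b + Q y := by
      conv_lhs => rw [h5]
      rw [Q_comb3, hQu, hQv, huv, huy, hvy]
      ring
    rw [hAb, Q_comb3, hQAu, hQAv, h6, h7, hc y hyW huy hvy, hQb, map_add, map_mul]
    ring

end charp

end Cfsg.Agent.Helper17.OrthAut
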