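import Mathlib
import Cfsg.Agent.Lib.Helper17.OrthAut17

set_option autoImplicit false
set_option linter.unusedSectionVars false
set_option linter.unusedSimpArgs false

/-!
# Comparison of the maps induced on the two opposite root groups (helper17)
-/

namespace Cfsg.Agent.Helper17.OrthAut

open QuadraticMap Matrix MulAction Cfsg.Agent.Helper28.WittQuad Cfsg.Agent.Helper2.Orth
open scoped Pointwise

variable {F : Type*} [Field F] {ι : Type} [Fintype ι] [DecidableEq ι]
  {Q : QuadraticForm F (ι → F)}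

theorem mem_rootGroup_smul_iff (g : eichGroup Q) {u : ι → F} (hu : Q u = 0) {r : eichGroup Q} :
    r ∈ rootGroup (Q := Q) (g • u) ↔ g⁻¹ * r * g ∈ rootGroup (Q := Q) u := by
  have h1 := rootGroup_conj g hu
  show r ∈ rootGroup ((g : Cfsg.isometryGroup F (⇑Q)) • u) ↔ _
  rw [h1, Subgroup.mem_pointwise_smul_iff_inv_smul_mem, MulAut.smul_def, MulAut.conj_inv_apply]

theorem projW_left {z f₀ : ι → F} (hz : Q z = 0) (hzf : polar Q z f₀ = 1) :
    projW Q z f₀ z = 0 := by
  unfold projW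
  rw [polar_self_of_singular Q hz, polar_comm Q f₀ z, hzf]
  simp

theorem projW_right {z f₀ : ι → F} (hf : Q f₀ = 0) (hzf : polar Q z f₀ = 1) :
    projW Q z f₀ f₀ = 0 := by
  unfold projW
  rw [polar_self_of_singular Q hf, hzf]
  simp

section charp
variable [Finite F]

local notation "π" => QuotientGroup.mk' (Subgroup.center (eichGroup Q))

variable {α : (eichGroup Q ⧸ Subgroup.center (eichGroup Q)) ≃*
      (eichGroup Q ⧸ Subgroup.center (eichGroup Q))} {z f₀ : ι → F}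

/-- the image of a conjugated root group -/
theorem image_rootGroup_smul {u u' : ι → F} (hu : Q u = 0) (hu' : Q u' = 0)
    (h : ((rootGroup (Q := Q) u).map π).map α.toMonoidHom = (rootGroup (Q := Q) u').map π)
    {g g' : eichGroup Q} (hg : α (π g) = π g') :
    ((rootGroup (Q := Q) (g • u)).map π).map α.toMonoidHom =
      (rootGroup (Q := Q) (g' • u')).map π := by
  ext y
  constructor
  · rintro ⟨_, ⟨r, hr, rfl⟩, rfl⟩
    replace hr := (mem_rootGroup_smul_iff g hu).1 hr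
    have h1 : α (π (g⁻¹ * r * g)) ∈ (rootGroup (Q := Q) u').map π := by
      rw [← h]
      exact ⟨_, ⟨_, hr, rfl⟩, rfl⟩
    obtain ⟨r', hr', hrr'⟩ := h1
    refine ⟨g' * r' * g'⁻¹, ?_, ?_⟩
    · refine (mem_rootGroup_smul_iff g' hu').2 ?_
      have : g'⁻¹ * (g' * r' * g'⁻¹) * g' = r' := by group
      rw [this]
      exact hr'
    · have h2 : r = g * (g⁻¹ * r * g) * g⁻¹ := by group
      symm
      calc α.toMonoidHom (π r) = α (π (g * (g⁻¹ * r * g) * g⁻¹)) := by rw [← h2]; rfl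
        _ = α (π g) * α (π (g⁻¹ * r * g)) * (α (π g))⁻¹ := by
          rw [map_mul, map_mul, map_inv, map_mul, map_mul, map_inv]
        _ = π g' * π r' * (π g')⁻¹ := by rw [hg, hrr']
        _ = π (g' * r' * g'⁻¹) := by rw [map_mul, map_mul, map_inv]
  · rintro ⟨r', hr', rfl⟩
    replace hr' := (mem_rootGroup_smul_iff g' hu').1 hr'
    have h1 : π (g'⁻¹ * r' * g') ∈ ((rootGroup (Q := Q) u).map π).map α.toMonoidHom := by
      rw [h]
      exact ⟨_, hr', rfl⟩
    obtain ⟨_, ⟨r, hr, rfl⟩, hrr'⟩ := h1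
    refine ⟨π (g * r * g⁻¹), ⟨g * r * g⁻¹, ?_, rfl⟩, ?_⟩
    · refine (mem_rootGroup_smul_iff g hu).2 ?_
      have : g⁻¹ * (g * r * g⁻¹) * g = r := by group
      rw [this]
      exact hr
    · have h2 : r' = g' * (g'⁻¹ * r' * g') * g'⁻¹ := by group
      have h3 : α (π r) = π (g'⁻¹ * r' * g') := hrr'
      calc α.toMonoidHom (π (g * r * g⁻¹)) = α (π g) * α (π r) * (α (π g))⁻¹ := by
            show α (π (g * r * g⁻¹)) = _
            rw [map_mul, map_mul, map_inv, map_mul, map_mul, map_inv]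
        _ = π g' * π (g'⁻¹ * r' * g') * (π g')⁻¹ := by rw [hg, h3]
        _ = π (g' * (g'⁻¹ * r' * g') * g'⁻¹) := by simp only [map_mul, map_inv]
        _ = π r' := by rw [← h2]

/-- the two induced maps are proportional -/
theorem Norm.exists_t (N : Norm α z f₀) (p : ℕ) [hp : Fact p.Prime] [CharP F p]
    (hQ : (polarBilin Q).Nondegenerate) {e f : Fin 3 → (ι → F)} (fr : HypFrame Q e f) :
    ∃ t : F, ∀ v ∈ hypPerp Q z f₀, imgMap α f₀ z v =
      t • N.A p hQ (fr.comp Fin.castSucc (Fin.castSucc_injective 2)) v := by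
  obtain ⟨fr2, hfr2⟩ : ∃ fr2 : HypFrame Q (e ∘ Fin.castSucc) (f ∘ Fin.castSucc),
      fr2 = fr.comp Fin.castSucc (Fin.castSucc_injective 2) := ⟨_, rfl⟩
  rw [← hfr2]
  obtain ⟨e', f', fr', he', hf'⟩ := exists_frame_hypPerp hQ fr N.hz0 N.hz N.hf N.hzf
  let D : (ι → F) →+ (ι → F) :=
    AddMonoidHom.mk' (fun v => N.swap.A p hQ fr2 (N.symm.A p hQ fr2 v)) (by
      intro a b
      simp only [map_add])
  have hDapp : ∀ v, D v = imgMap α f₀ z (N.symm.A p hQ fr2 v) := fun _ => rfl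
  obtain ⟨t, ht⟩ := comm_sub (hypPerp Q z f₀) (hypPerp_nondeg hQ N.hz N.hf N.hzf) fr' he' hf' D
    (fun w _ => N.imgMap_mem' _) (by
      intro w hwW b hbW hw hwb v hv
      obtain ⟨l, hlz, hlf, h1, -, h3⟩ := N.symm_eich p hQ fr2 hwW hbW hw hwb
      have h4 := h3 (N.symm.A p hQ fr2 v) (N.symm.imgMap_mem v)
      rw [hDapp, hDapp, h1 v hv, h4])
  refine ⟨t, fun v hv => ?_⟩
  have h1 := ht _ (N.imgMap_mem v)
  rw [hDapp, ← Norm.A_apply N p hQ fr2, N.A_symm_A p hQ fr2 hv] at h1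
  exact h1

end charp

end Cfsg.Agent.Helper17.OrthAut
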