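import Mathlib
import Cfsg.Agent.Lib.Helper17.OrthAut18

set_option autoImplicit false
set_option linter.unusedSectionVars false
set_option linter.unusedSimpArgs false

/-!
# The proportionality factor of the two induced maps (helper17)
-/

namespace Cfsg.Agent.Helper17.OrthAut

open QuadraticMap Matrix MulAction Cfsg.Agent.Helper28.WittQuad Cfsg.Agent.Helper2.Orth
open scoped Pointwise

variable {F : Type*} [Field F] {ι : Type} [Fintype ι] [DecidableEq ι]
  {Q : QuadraticForm F (ι → F)}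

section charp
variable [Finite F]

local notation "π" => QuotientGroup.mk' (Subgroup.center (eichGroup Q))

variable {α : (eichGroup Q ⧸ Subgroup.center (eichGroup Q)) ≃*
      (eichGroup Q ⧸ Subgroup.center (eichGroup Q))} {z f₀ : ι → F}

theorem Norm.t_mul_eq_one (N : Norm α z f₀) (p : ℕ) [hp : Fact p.Prime] [CharP F p]
    (hQ : (polarBilin Q).Nondegenerate) {e f : Fin 3 → (ι → F)} (fr : HypFrame Q e f)
    (σ : F ≃+* F) (c₀ : F) (hc₀0 : c₀ ≠ 0)
    (hc₀ : ∀ b ∈ hypPerp Q z f₀,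
      Q (N.A p hQ (fr.comp Fin.castSucc (Fin.castSucc_injective 2)) b) = c₀ * σ (Q b))
    (t : F) (ht : ∀ v ∈ hypPerp Q z f₀, imgMap α f₀ z v =
      t • N.A p hQ (fr.comp Fin.castSucc (Fin.castSucc_injective 2)) v) : t * c₀ = 1 := by
  obtain ⟨fr2, hfr2⟩ : ∃ fr2 : HypFrame Q (e ∘ Fin.castSucc) (f ∘ Fin.castSucc),
      fr2 = fr.comp Fin.castSucc (Fin.castSucc_injective 2) := ⟨_, rfl⟩
  rw [← hfr2] at hc₀ ht
  obtain ⟨e', f', fr', he', hf'⟩ := exists_frame_hypPerp hQ fr N.hz0 N.hz N.hf N.hzf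
  obtain ⟨b, hb⟩ : ∃ b, b = e' 0 + f' 0 := ⟨_, rfl⟩
  have hbW : b ∈ hypPerp Q z f₀ := by rw [hb]; exact Submodule.add_mem _ (he' 0) (hf' 0)
  have hQb : Q b = 1 := by
    rw [hb, Q_add', fr'.qe, fr'.qf, fr'.ef]
    simp
  obtain ⟨a, ha⟩ : ∃ a, a = N.A p hQ fr2 b := ⟨_, rfl⟩
  have haW : a ∈ hypPerp Q z f₀ := by rw [ha]; exact N.imgMap_mem b
  have hQa : Q a = c₀ := by rw [ha, hc₀ b hbW, hQb, map_one, mul_one]
  have ha0 : a ≠ 0 := by
    rintro rfl
    rw [map_zero] at hQa
    exact hc₀0 hQa.symm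
  have hnbW : -b ∈ hypPerp Q z f₀ := Submodule.neg_mem _ hbW
  have hA'nb : imgMap α f₀ z (-b) = -(t • a) := by
    rw [ht _ hnbW, map_neg, ← ha, smul_neg]
  -- the four elements
  have hx : α (π (eichT z b)) = π (eichT z a) := by
    rw [ha, Norm.A_apply]
    exact imgMap_spec' N.hz N.hf N.hzf N.hαz.le hbW
  have hx₂ : α (π (eichT f₀ (-b))) = π (eichT f₀ (-(t • a))) := by
    rw [← hA'nb]
    exact imgMap_spec' N.hf N.hz N.hfz N.hαf.le (by rw [hypPerp_comm]; exact hnbW)
  -- their action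
  have h1 : (eichT z b : eichGroup Q) • f₀ = f₀ - b - z := by
    rw [eichT_smul N.hz hbW.1, eich_apply, polar_comm Q b f₀, hbW.2, N.hzf, hQb]
    module
  have h2 : (eichT f₀ (-b) : eichGroup Q) • z = (-1 : F) • (f₀ - b - z) := by
    rw [eichT_smul N.hf (by rw [polar_neg_right, hbW.2, neg_zero]), eich_apply, polar_neg_left,
      polar_comm Q b z, hbW.1, N.hfz, QuadraticMap.map_neg, hQb]
    module
  have h3 : (eichT z a : eichGroup Q) • f₀ = f₀ - a - c₀ • z := by
    rw [eichT_smul N.hz haW.1, eich_apply, polar_comm Q a f₀, haW.2, N.hzf, hQa]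
    module
  have h4 : (eichT f₀ (-(t • a)) : eichGroup Q) • z = z + t • a - (t * t * c₀) • f₀ := by
    rw [eichT_smul N.hf (by rw [polar_neg_right, polar_smul_right, haW.2, smul_zero, neg_zero]),
      eich_apply, polar_neg_left, polar_smul_left, polar_comm Q a z, haW.1, N.hfz,
      QuadraticMap.map_neg, QuadraticMap.map_smul, hQa]
    simp only [smul_eq_mul]
    module
  have hQ1 : Q (f₀ - b - z) = 0 := by rw [← h1, Q_smulE, N.hf]
  have hQ3 : Q (f₀ - a - c₀ • z) = 0 := by rw [← h3, Q_smulE, N.hf]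
  have hQ4 : Q (z + t • a - (t * t * c₀) • f₀) = 0 := by rw [← h4, Q_smulE, N.hz]
  have i1 := image_rootGroup_smul N.hf N.hf N.hαf hx
  have i2 := image_rootGroup_smul N.hz N.hz N.hαz hx₂
  rw [h1, h3] at i1
  rw [h2, h4, rootGroup_smul_vec hQ1 (by norm_num : (-1 : F) ≠ 0)] at i2
  have h5 := rootGroup_eq_of_map_eq p hQ fr2 (i1.symm.trans i2)
  have hne : f₀ - a - c₀ • z ≠ 0 := by
    intro h
    have h6 : polar Q z (f₀ - a - c₀ • z) = 1 := by
      rw [polar_sub_right, polar_sub_right, polar_smul_right, N.hzf, haW.1,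
        polar_self_of_singular Q N.hz]
      simp
    rw [h, polar_zero_right] at h6
    exact zero_ne_one h6
  obtain ⟨μ, hμ⟩ := exists_smul_of_rootGroup_eq hQ fr2 hne hQ3 hQ4 h5.le
  -- compare
  have h7 : polar Q f₀ (z + t • a - (t * t * c₀) • f₀) = 1 := by
    rw [polar_sub_right, polar_add_right, polar_smul_right, polar_smul_right, N.hfz, haW.2,
      polar_self_of_singular Q N.hf]
    simp
  have h8 : polar Q f₀ (μ • (f₀ - a - c₀ • z)) = -(μ * c₀) := by
    rw [polar_smul_right, polar_sub_right, polar_sub_right, polar_smul_right, N.hfz, haW.2,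
      polar_self_of_singular Q N.hf]
    simp
  rw [hμ, h8] at h7
  have h9 : projW Q z f₀ (z + t • a - (t * t * c₀) • f₀) = t • a := by
    have : z + t • a - (t * t * c₀) • f₀ = z + t • a + (-(t * t * c₀)) • f₀ := by module
    rw [this, projW_add, projW_add, projW_smul, projW_smul, projW_left N.hz N.hzf,
      projW_right N.hf N.hzf, projW_of_mem haW.1 haW.2]
    simp
  have h10 : projW Q z f₀ (μ • (f₀ - a - c₀ • z)) = (-μ) • a := by
    have : μ • (f₀ - a - c₀ • z) = μ • f₀ + (-μ) • a + (-(μ * c₀)) • z := by module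
    rw [this, projW_add, projW_add, projW_smul, projW_smul, projW_smul, projW_left N.hz N.hzf,
      projW_right N.hf N.hzf, projW_of_mem haW.1 haW.2]
    simp
  rw [hμ, h10] at h9
  have h11 : (-μ - t) • a = 0 := by rw [sub_smul, h9, sub_self]
  have h12 : t = -μ := by
    rcases smul_eq_zero.1 h11 with h | h
    · linear_combination -h
    · exact absurd h ha0
  rw [h12]
  linear_combination h7

end charp

end Cfsg.Agent.Helper17.OrthAut
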