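import Mathlib
import Cfsg.Agent.Lib.Helper17.OrthAut19

set_option autoImplicit false
set_option linter.unusedSectionVars false
set_option linter.unusedSimpArgs false

/-!
# Semisimilarities and generation by two opposite root groups (helper17)
-/

namespace Cfsg.Agent.Helper17.OrthAut

open QuadraticMap Matrix MulAction Cfsg.Agent.Helper28.WittQuad Cfsg.Agent.Helper2.Orth
open scoped Pointwise

variable {F : Type*} [Field F] {ι : Type} [Fintype ι] [DecidableEq ι]
  {Q : QuadraticForm F (ι → F)}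

/-- a semisimilarity: additive, `σ`-semilinear, multiplying the form by `c₀` up to `σ` -/
structure SemiSim (Q : QuadraticForm F (ι → F)) (T : (ι → F) →+ (ι → F)) (σ : F ≃+* F)
    (c₀ : F) : Prop where
  smul : ∀ (c : F) (v : ι → F), T (c • v) = σ c • T v
  form : ∀ v : ι → F, Q (T v) = c₀ * σ (Q v)
  ne : c₀ ≠ 0

namespace SemiSim
variable {T : (ι → F) →+ (ι → F)} {σ : F ≃+* F} {c₀ : F}

theorem polar (S : SemiSim Q T σ c₀) (x y : ι → F) :
    QuadraticMap.polar Q (T x) (T y) = c₀ * σ (QuadraticMap.polar Q x y) := by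
  unfold QuadraticMap.polar
  rw [← map_add, S.form, S.form, S.form, map_sub, map_sub]
  ring

theorem injective (S : SemiSim Q T σ c₀) (hQ : (polarBilin Q).Nondegenerate) :
    Function.Injective T := by
  rw [injective_iff_map_eq_zero]
  intro v hv
  by_contra hv0
  obtain ⟨y, hy⟩ := exists_polar_eq_one hQ hv0
  have h1 := S.polar v y
  rw [hv, polar_zero_left, hy, map_one, mul_one] at h1
  exact S.ne h1.symm

theorem map_eich (S : SemiSim Q T σ c₀) (z b v : ι → F) :
    T (eich Q z b v) = eich Q (T z) (c₀⁻¹ • T b) (T v) := by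
  rw [eich_apply, eich_apply, map_add, map_sub, map_sub, S.smul, S.smul, S.smul, S.smul,
    polar_smul_left, S.polar, S.polar, QuadraticMap.map_smul, S.form]
  have h := S.ne
  have e1 : (c₀⁻¹ • (c₀ * σ (QuadraticMap.polar Q b v))) = σ (QuadraticMap.polar Q b v) := by
    rw [smul_eq_mul]
    field_simp
  have e2 : (c₀ * σ (QuadraticMap.polar Q z v)) • c₀⁻¹ • T b =
      σ (QuadraticMap.polar Q z v) • T b := by
    rw [smul_smul]
    congr 1
    field_simp
  have e3 : ((c₀⁻¹ * c₀⁻¹) • (c₀ * σ (Q b))) • (c₀ * σ (QuadraticMap.polar Q z v)) • T z =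
      σ (Q b) • σ (QuadraticMap.polar Q z v) • T z := by
    rw [smul_smul, smul_smul, smul_eq_mul]
    congr 1
    field_simp
  rw [e1, e2, e3]

end SemiSim

/-- conjugating by an element of one root group moves a non-orthogonal point to another -/
theorem rootGroup_le_of_nonperp {H : Subgroup (eichGroup Q)} {x y u : ι → F} (hx : Q x = 0)
    (hy : Q y = 0) (hu : Q u = 0) (hxy : polar Q x y ≠ 0) (hxu : polar Q x u ≠ 0)
    (hHx : rootGroup (Q := Q) x ≤ H) (hHy : rootGroup (Q := Q) y ≤ H) :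
    rootGroup (Q := Q) u ≤ H := by
  obtain ⟨y', hy'⟩ : ∃ y', y' = (polar Q x y)⁻¹ • y := ⟨_, rfl⟩
  obtain ⟨u', hu'⟩ : ∃ u', u' = (polar Q x u)⁻¹ • u := ⟨_, rfl⟩
  have hQy' : Q y' = 0 := by rw [hy', QuadraticMap.map_smul, hy, smul_zero]
  have hQu' : Q u' = 0 := by rw [hu', QuadraticMap.map_smul, hu, smul_zero]
  have hxy' : polar Q x y' = 1 := by
    rw [hy', polar_smul_right, smul_eq_mul, inv_mul_cancel₀ hxy]
  have hxu' : polar Q x u' = 1 := by
    rw [hu', polar_smul_right, smul_eq_mul, inv_mul_cancel₀ hxu]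
  have hRy : rootGroup (Q := Q) y' = rootGroup y := by
    rw [hy', rootGroup_smul_vec hy (inv_ne_zero hxy)]
  have hRu : rootGroup (Q := Q) u' = rootGroup u := by
    rw [hu', rootGroup_smul_vec hu (inv_ne_zero hxu)]
  obtain ⟨h0, -, h2⟩ := eich_fix_move hx hQu' hQy' hxu' hxy'
  have hg : (eichT x (u' - y') : eichGroup Q) • u' = y' := by rw [eichT_smul hx h0, h2]
  have hgH : (eichT x (u' - y') : eichGroup Q) ∈ H := hHx (eichT_mem_rootGroup h0)
  rw [← hRu]
  intro r hr
  have h3 : u' = (eichT x (u' - y') : eichGroup Q)⁻¹ • y' := eq_inv_smul_iff.2 hg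
  rw [h3, mem_rootGroup_smul_iff _ hQy', inv_inv, hRy] at hr
  have h4 := H.mul_mem (H.mul_mem (H.inv_mem hgH) (hHy hr)) hgH
  have h5 : (eichT x (u' - y') : eichGroup Q)⁻¹ *
      (eichT x (u' - y') * r * (eichT x (u' - y'))⁻¹) * eichT x (u' - y') = r := by group
  rwa [h5] at h4

/-- the Eichler group is generated by two opposite root groups -/
theorem eq_top_of_two_rootGroups (hQ : (polarBilin Q).Nondegenerate) {z f₀ : ι → F}
    (hz : Q z = 0) (hf : Q f₀ = 0) (hzf : polar Q z f₀ = 1)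
    (H : Subgroup (eichGroup Q)) (hHz : rootGroup (Q := Q) z ≤ H)
    (hHf : rootGroup (Q := Q) f₀ ≤ H) : H = ⊤ := by
  have hfz : polar Q f₀ z = 1 := by rw [polar_comm, hzf]
  have key : ∀ u : ι → F, u ≠ 0 → Q u = 0 → rootGroup (Q := Q) u ≤ H := by
    intro u hu0 hu
    -- a singular vector not orthogonal to u and to one of z, f₀
    obtain ⟨u'', hu'', huu'', hor⟩ : ∃ u'', Q u'' = 0 ∧ polar Q u'' u ≠ 0 ∧
        (polar Q z u'' ≠ 0 ∨ polar Q f₀ u'' ≠ 0) := by
      by_cases h1 : polar Q z u ≠ 0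
      · exact ⟨z, hz, h1, Or.inr (by rw [hfz]; exact one_ne_zero)⟩
      by_cases h2 : polar Q f₀ u ≠ 0
      · exact ⟨f₀, hf, h2, Or.inl (by rw [hzf]; exact one_ne_zero)⟩
      push Not at h1 h2
      obtain ⟨y, hy, huy⟩ := exists_hyp_partner hQ hu0 hu
      by_cases h3 : polar Q z y ≠ 0
      · exact ⟨y, hy, by rw [polar_comm, huy]; exact one_ne_zero, Or.inl h3⟩
      push Not at h3
      by_cases h4 : polar Q f₀ y ≠ 0
      · exact ⟨y, hy, by rw [polar_comm, huy]; exact one_ne_zero, Or.inr h4⟩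
      push Not at h4
      refine ⟨y + f₀, ?_, ?_, Or.inl ?_⟩
      · rw [Q_add', hy, hf, polar_comm, h4]; ring
      · rw [polar_add_left, polar_comm Q y u, huy, h2]
        simp
      · rw [polar_add_right, h3, hzf]
        simp
    have hRu'' : rootGroup (Q := Q) u'' ≤ H := by
      rcases hor with h | h
      · exact rootGroup_le_of_nonperp hz hf hu'' (by rw [hzf]; exact one_ne_zero) h hHz hHf
      · exact rootGroup_le_of_nonperp hf hz hu'' (by rw [hfz]; exact one_ne_zero) h hHf hHz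
    rcases hor with h | h
    · exact rootGroup_le_of_nonperp hu'' hz hu (by rw [polar_comm]; exact h) huu'' hRu'' hHz
    · exact rootGroup_le_of_nonperp hu'' hf hu (by rw [polar_comm]; exact h) huu'' hRu'' hHf
  rw [eq_top_iff, ← (orthIwasawa Q).is_generator]
  apply iSup_le
  intro pt
  exact key _ (Projectivization.rep_nonzero _) pt.2

end Cfsg.Agent.Helper17.OrthAut
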