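import Mathlib
import Cfsg.Agent.Lib.Helper17.OrthAut20

set_option autoImplicit false
set_option linter.unusedSectionVars false
set_option linter.unusedSimpArgs false

/-!
# A normalised automorphism is induced by a semisimilarity (helper17)
-/

namespace Cfsg.Agent.Helper17.OrthAut

open QuadraticMap Matrix MulAction Cfsg.Agent.Helper28.WittQuad Cfsg.Agent.Helper2.Orth
open scoped Pointwise

variable {F : Type*} [Field F] {ι : Type} [Fintype ι] [DecidableEq ι]
  {Q : QuadraticForm F (ι → F)}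

theorem projW_projW {z f₀ : ι → F} (hz : Q z = 0) (hf : Q f₀ = 0) (hzf : polar Q z f₀ = 1)
    (v : ι → F) : projW Q z f₀ (projW Q z f₀ v) = projW Q z f₀ v :=
  projW_of_mem (polar_left_projW hz hzf v) (polar_right_projW hf hzf v)

theorem eich_add_smul_self {z b : ι → F} (hz : Q z = 0) (hzb : polar Q z b = 0) (k : F)
    (x : ι → F) : eich Q z (b + k • z) x = eich Q z b x := by
  rw [← eich_eich hz hzb (by rw [polar_smul_right, polar_self_of_singular Q hz, smul_zero]),
    eich_self_smul hz]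

section charp
variable [Finite F]

local notation "π" => QuotientGroup.mk' (Subgroup.center (eichGroup Q))

variable {α : (eichGroup Q ⧸ Subgroup.center (eichGroup Q)) ≃*
      (eichGroup Q ⧸ Subgroup.center (eichGroup Q))} {z f₀ : ι → F}

theorem imgMap_projW {β : (eichGroup Q ⧸ Subgroup.center (eichGroup Q)) ≃*
      (eichGroup Q ⧸ Subgroup.center (eichGroup Q))} {z f₀ : ι → F} (hz : Q z = 0)
    (hf : Q f₀ = 0) (hzf : polar Q z f₀ = 1) (v : ι → F) :
    imgMap β z f₀ (projW Q z f₀ v) = imgMap β z f₀ v := by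
  unfold imgMap
  rw [projW_projW hz hf hzf]

/-- the subgroup of elements on which `α` is conjugation by `T` -/
def conjSub (α : (eichGroup Q ⧸ Subgroup.center (eichGroup Q)) ≃*
      (eichGroup Q ⧸ Subgroup.center (eichGroup Q))) (T : (ι → F) →+ (ι → F)) :
    Subgroup (eichGroup Q) where
  carrier := {s | ∃ s' : eichGroup Q, (∀ v, s' • T v = T (s • v)) ∧ α (π s) = π s'}
  mul_mem' := by
    rintro a b ⟨a', ha1, ha2⟩ ⟨b', hb1, hb2⟩
    refine ⟨a' * b', fun v => ?_, ?_⟩
    · rw [mul_smul, hb1, ha1, mul_smul]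
    · rw [map_mul, map_mul, ha2, hb2, map_mul]
  one_mem' := ⟨1, fun v => by rw [one_smul, one_smul], by rw [map_one, map_one]⟩
  inv_mem' := by
    rintro a ⟨a', ha1, ha2⟩
    refine ⟨a'⁻¹, fun v => ?_, ?_⟩
    · rw [inv_smul_eq_iff, ha1, smul_inv_smul]
    · rw [map_inv, map_inv, ha2, map_inv]

theorem Norm.main (N : Norm α z f₀) (p : ℕ) [hp : Fact p.Prime] [CharP F p]
    (hQ : (polarBilin Q).Nondegenerate) {e f : Fin 3 → (ι → F)} (fr : HypFrame Q e f)
    (hmax : NoBigMax Q) :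
    ∃ (T : (ι → F) →+ (ι → F)) (σ : F ≃+* F) (c₀ : F), SemiSim Q T σ c₀ ∧
      ∀ s : eichGroup Q, ∃ s' : eichGroup Q, (∀ v, s' • T v = T (s • v)) ∧ α (π s) = π s' := by
  obtain ⟨σ, hσ⟩ := N.exists_sigma p hQ fr
  obtain ⟨c₀, hc₀0, hc₀⟩ := N.exists_mult p hQ fr hmax σ hσ
  obtain ⟨t, ht⟩ := N.exists_t p hQ fr
  have htc := N.t_mul_eq_one p hQ fr σ c₀ hc₀0 hc₀ t ht
  obtain ⟨fr2, hfr2⟩ : ∃ fr2 : HypFrame Q (e ∘ Fin.castSucc) (f ∘ Fin.castSucc),
      fr2 = fr.comp Fin.castSucc (Fin.castSucc_injective 2) := ⟨_, rfl⟩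
  rw [← hfr2] at hσ hc₀ ht
  obtain ⟨A, hA⟩ : ∃ A : (ι → F) →+ (ι → F), A = N.A p hQ fr2 := ⟨_, rfl⟩
  rw [← hA] at hσ hc₀ ht
  have hAapp : ∀ v, A v = imgMap α z f₀ v := fun v => by rw [hA]; rfl
  have hAW : ∀ v, A v ∈ hypPerp Q z f₀ := fun v => by rw [hAapp]; exact N.imgMap_mem v
  have hAproj : ∀ v, A (projW Q z f₀ v) = A v := fun v => by
    rw [hAapp, hAapp, imgMap_projW N.hz N.hf N.hzf]
  have hAsmul : ∀ (c : F) (v : ι → F), A (c • v) = σ c • A v := by
    intro c v
    rw [← hAproj, projW_smul, hσ c _ (projW_mem N.hz N.hf N.hzf v), hAproj]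
  have hAz : A z = 0 := by rw [← hAproj, projW_left N.hz N.hzf, map_zero]
  have hAf : A f₀ = 0 := by rw [← hAproj, projW_right N.hf N.hzf, map_zero]
  let T : (ι → F) →+ (ι → F) :=
    AddMonoidHom.mk' (fun v => (c₀ * σ (polar Q f₀ v)) • z + σ (polar Q z v) • f₀ + A v) (by
      intro a b
      simp only [polar_add_right, map_add]
      module)
  have hT : ∀ v, T v = (c₀ * σ (polar Q f₀ v)) • z + σ (polar Q z v) • f₀ + A v := fun _ => rfl
  have S : SemiSim Q T σ c₀ := by
    refine ⟨fun c v => ?_, fun v => ?_, hc₀0⟩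
    · rw [hT, hT, polar_smul_right, polar_smul_right, hAsmul]
      simp only [smul_eq_mul, map_mul]
      module
    · have h1 := eq_add_projW (Q := Q) z f₀ v
      have h2 : Q v = polar Q f₀ v * polar Q z v + Q (projW Q z f₀ v) := by
        conv_lhs => rw [h1]
        rw [Q_comb3, N.hz, N.hf, N.hzf, polar_left_projW N.hz N.hzf, polar_right_projW N.hf N.hzf]
        ring
      rw [hT, Q_comb3, N.hz, N.hf, N.hzf, (hAW v).1, (hAW v).2, ← hAproj,
        hc₀ _ (projW_mem N.hz N.hf N.hzf v), h2, map_add, map_mul]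
      ring
  refine ⟨T, σ, c₀, S, ?_⟩
  have hTz : T z = c₀ • z := by
    rw [hT, N.hfz, polar_self_of_singular Q N.hz, hAz, map_one, map_zero]
    simp
  have hTf : T f₀ = f₀ := by
    rw [hT, N.hzf, polar_self_of_singular Q N.hf, hAf, map_one, map_zero]
    simp
  have htop : conjSub α T = ⊤ := by
    apply eq_top_of_two_rootGroups hQ N.hz N.hf N.hzf
    · intro s hs
      obtain ⟨b, hb, rfl⟩ := mem_rootGroup_iff'.1 hs
      refine ⟨eichT z (A b), fun v => ?_, ?_⟩
      · rw [eichT_smul N.hz (hAW b).1, eichT_smul N.hz hb, S.map_eich, hTz, eich_smul_left,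
          smul_smul, mul_inv_cancel₀ hc₀0, one_smul, hT b, hb, map_zero, zero_smul, add_zero,
          add_comm, eich_add_smul_self N.hz (hAW b).1]
      · rw [hAapp, ← (imgMap_spec N.hz N.hf N.hzf N.hαz.le b).2, eichT_projW N.hz hb]
    · intro s hs
      obtain ⟨b, hb, rfl⟩ := mem_rootGroup_iff'.1 hs
      have hA'b : imgMap α f₀ z b = t • A b := by
        rw [← imgMap_projW N.hf N.hz N.hfz, projW_comm, ht _ (projW_mem N.hz N.hf N.hzf b),
          hAproj]
      have ht' : t = c₀⁻¹ := eq_inv_of_mul_eq_one_left htc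
      refine ⟨eichT f₀ (t • A b), fun v => ?_, ?_⟩
      · have h1 : polar Q f₀ (t • A b) = 0 := by rw [polar_smul_right, (hAW b).2, smul_zero]
        rw [eichT_smul N.hf h1, eichT_smul N.hf hb, S.map_eich, hTf, hT b, hb, map_zero, mul_zero,
          zero_smul, zero_add, smul_add, smul_smul, add_comm, ← ht',
          eich_add_smul_self N.hf h1]
      · rw [← hA'b, ← (imgMap_spec N.hf N.hz N.hfz N.hαf.le b).2, eichT_projW N.hf hb]
  intro s
  have : s ∈ conjSub α T := by rw [htop]; trivial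
  exact this

end charp

end Cfsg.Agent.Helper17.OrthAut
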