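import Mathlib
import Cfsg.Agent.Lib.Helper17.OrthAut21

set_option autoImplicit false
set_option linter.unusedSectionVars false
set_option linter.unusedSimpArgs false

/-!
# Every automorphism of the projective Eichler group is induced by a semisimilarity (helper17)
-/

namespace Cfsg.Agent.Helper17.OrthAut

open QuadraticMap Matrix MulAction Cfsg.Agent.Helper28.WittQuad Cfsg.Agent.Helper2.Orth
open scoped Pointwise

variable {F : Type*} [Field F] {ι : Type} [Fintype ι] [DecidableEq ι]
  {Q : QuadraticForm F (ι → F)}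

section charp
variable [Finite F]

local notation "π" => QuotientGroup.mk' (Subgroup.center (eichGroup Q))

/-- composing with an inner automorphism moves the image of a root group -/
theorem image_rootGroup_conj {α : (eichGroup Q ⧸ Subgroup.center (eichGroup Q)) ≃*
      (eichGroup Q ⧸ Subgroup.center (eichGroup Q))} {u u' : ι → F} (hu' : Q u' = 0)
    (h : ((rootGroup (Q := Q) u).map π).map α.toMonoidHom = (rootGroup (Q := Q) u').map π)
    (g : eichGroup Q) :
    ((rootGroup (Q := Q) u).map π).map (α.trans (MulAut.conj (π g))).toMonoidHom =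
      (rootGroup (Q := Q) (g • u')).map π := by
  ext y
  constructor
  · rintro ⟨_, ⟨r, hr, rfl⟩, rfl⟩
    have h1 : α (π r) ∈ (rootGroup (Q := Q) u').map π := by
      rw [← h]
      exact ⟨_, ⟨r, hr, rfl⟩, rfl⟩
    obtain ⟨r', hr', hrr'⟩ := h1
    refine ⟨g * r' * g⁻¹, ?_, ?_⟩
    · refine (mem_rootGroup_smul_iff g hu').2 ?_
      have : g⁻¹ * (g * r' * g⁻¹) * g = r' := by group
      rw [this]
      exact hr'
    · show π (g * r' * g⁻¹) = MulAut.conj (π g) (α (π r))
      rw [MulAut.conj_apply, ← hrr', map_mul, map_mul, map_inv]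
  · rintro ⟨r'', hr'', rfl⟩
    replace hr'' := (mem_rootGroup_smul_iff g hu').1 hr''
    have h1 : π (g⁻¹ * r'' * g) ∈ ((rootGroup (Q := Q) u).map π).map α.toMonoidHom := by
      rw [h]
      exact ⟨_, hr'', rfl⟩
    obtain ⟨_, ⟨r, hr, rfl⟩, hrr'⟩ := h1
    refine ⟨π r, ⟨r, hr, rfl⟩, ?_⟩
    have h2 : α (π r) = π (g⁻¹ * r'' * g) := hrr'
    show MulAut.conj (π g) (α (π r)) = π r''
    rw [MulAut.conj_apply, h2]
    simp only [map_mul, map_inv]
    group

/-- the images of two opposite root groups are opposite -/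
theorem polar_ne_zero_of_images (p : ℕ) [hp : Fact p.Prime] [CharP F p]
    (hQ : (polarBilin Q).Nondegenerate) {e f : Fin 2 → (ι → F)} (fr : HypFrame Q e f)
    {α : (eichGroup Q ⧸ Subgroup.center (eichGroup Q)) ≃*
      (eichGroup Q ⧸ Subgroup.center (eichGroup Q))} {z f₀ z' f' : ι → F}
    (hz0 : z ≠ 0) (hz : Q z = 0) (hf : Q f₀ = 0) (hzf : polar Q z f₀ = 1)
    (hz'0 : z' ≠ 0) (hz' : Q z' = 0) (hf'0 : f' ≠ 0) (hf' : Q f' = 0)
    (h1 : ((rootGroup (Q := Q) z).map π).map α.toMonoidHom = (rootGroup (Q := Q) z').map π)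
    (h2 : ((rootGroup (Q := Q) f₀).map π).map α.toMonoidHom = (rootGroup (Q := Q) f').map π) :
    polar Q z' f' ≠ 0 := by
  have hZ := center_coprime (p := p) hQ fr
  intro h0
  have hf0 : f₀ ≠ 0 := by
    rintro rfl
    rw [polar_zero_right] at hzf
    exact zero_ne_one hzf
  have hindz : ∀ c : F, f₀ ≠ c • z := by
    intro c hc
    rw [hc, polar_smul_right, polar_self_of_singular Q hz, smul_zero] at hzf
    exact zero_ne_one hzf
  by_cases hind : ∃ c : F, f' = c • z'
  · obtain ⟨c, hc⟩ := hind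
    have hc0 : c ≠ 0 := by
      rintro rfl
      rw [zero_smul] at hc
      exact hf'0 hc
    have h3 : rootGroup (Q := Q) f' = rootGroup (Q := Q) z' := by
      rw [hc, rootGroup_smul_vec hz' hc0]
    rw [h3, ← h1] at h2
    have h4 : (rootGroup (Q := Q) f₀).map π = (rootGroup (Q := Q) z).map π := by
      have := congrArg (Subgroup.map α.symm.toMonoidHom) h2
      rwa [map_symm_map, map_symm_map] at this
    have h5 := rootGroup_eq_of_map_eq p hQ fr h4
    obtain ⟨a, ha⟩ := exists_smul_of_rootGroup_eq hQ fr hz0 hz hf h5.ge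
    exact hindz a ha
  · push Not at hind
    have hne : eichG Q z' f' ≠ 1 := by
      intro h
      obtain ⟨c, hc⟩ := (eichG_eq_one_iff hQ hz'0 hz' h0).1 h
      exact hind c hc
    have hm1 : (eichT z' f' : eichGroup Q) ∈ rootGroup (Q := Q) z' := eichT_mem_rootGroup h0
    have hm2 : (eichT z' f' : eichGroup Q) ∈ rootGroup (Q := Q) f' :=
      ⟨-z', by rw [polar_neg_right, polar_comm, h0, neg_zero], eichG_swap hz' hf' h0⟩
    have h3 : π (eichT z' f') ∈ ((rootGroup (Q := Q) z).map π).map α.toMonoidHom := by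
      rw [h1]; exact ⟨_, hm1, rfl⟩
    have h4 : π (eichT z' f') ∈ ((rootGroup (Q := Q) f₀).map π).map α.toMonoidHom := by
      rw [h2]; exact ⟨_, hm2, rfl⟩
    obtain ⟨_, ⟨r, hr, rfl⟩, hr1⟩ := h3
    obtain ⟨_, ⟨r', hr', rfl⟩, hr2⟩ := h4
    have h5 : π r = π r' := by
      apply α.injective
      exact hr1.trans hr2.symm
    have h6 : r = r' := IsPEl.eq_of_mk_eq hZ (IsPEl.of_mem (isPGroup_rootGroup (p := p) z) hr)
      (IsPEl.of_mem (isPGroup_rootGroup (p := p) f₀) hr') h5
    obtain ⟨b, hb, hrb⟩ := hr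
    obtain ⟨b', hb', hrb'⟩ := hr'
    have h7 : (r : Cfsg.isometryGroup F (⇑Q)) = 1 := by
      by_contra hr1'
      rw [hrb] at hr1'
      have h8 : eichG Q z b = eichG Q f₀ b' := by rw [← hrb, h6, hrb']
      obtain ⟨h9, -⟩ := rootGroup_inter hQ hz0 hz hf0 hf hindz hb hb' h8 hr1'
      rw [hzf] at h9
      exact one_ne_zero h9
    have h8 : r = 1 := Subtype.ext h7
    rw [h8] at hr1
    have h9 : π (eichT z' f') = π 1 := by
      rw [← hr1]
      simp
    have h10 := IsPEl.eq_of_mk_eq hZ (IsPEl.of_mem (isPGroup_rootGroup (p := p) z') hm1)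
      IsPEl.one h9
    exact hne (congrArg Subtype.val h10)

end charp

end Cfsg.Agent.Helper17.OrthAut
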