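import Mathlib
import Cfsg.Agent.Lib.Helper17.OrthAut22

set_option autoImplicit false
set_option linter.unusedSectionVars false
set_option linter.unusedSimpArgs false

/-!
# Every automorphism of the projective Eichler group is induced by a semisimilarity, II (helper17)
-/

namespace Cfsg.Agent.Helper17.OrthAut

open QuadraticMap Matrix MulAction Cfsg.Agent.Helper28.WittQuad Cfsg.Agent.Helper2.Orth
open scoped Pointwise

variable {F : Type*} [Field F] {ι : Type} [Fintype ι] [DecidableEq ι]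
  {Q : QuadraticForm F (ι → F)}

section charp
variable [Finite F]

local notation "π" => QuotientGroup.mk' (Subgroup.center (eichGroup Q))

/-- **every automorphism is conjugation by a semisimilarity** -/
theorem exists_semisim (p : ℕ) [hp : Fact p.Prime] [CharP F p]
    (hQ : (polarBilin Q).Nondegenerate) {e f : Fin 3 → (ι → F)} (fr : HypFrame Q e f)
    (hmax : NoBigMax Q)
    (α : (eichGroup Q ⧸ Subgroup.center (eichGroup Q)) ≃*
      (eichGroup Q ⧸ Subgroup.center (eichGroup Q))) :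
    ∃ (T : (ι → F) →+ (ι → F)) (σ : F ≃+* F) (c₀ : F), SemiSim Q T σ c₀ ∧
      ∀ s : eichGroup Q, ∃ s' : eichGroup Q, (∀ v, s' • T v = T (s • v)) ∧ α (π s) = π s' := by
  have fr2 : HypFrame Q (e ∘ Fin.castSucc) (f ∘ Fin.castSucc) :=
    fr.comp Fin.castSucc (Fin.castSucc_injective 2)
  obtain ⟨z, hzdef⟩ : ∃ z, z = e 0 := ⟨_, rfl⟩
  obtain ⟨f₀, hfdef⟩ : ∃ f₀, f₀ = f 0 := ⟨_, rfl⟩
  have hz0 : z ≠ 0 := by rw [hzdef]; exact frame_e_ne_zero fr 0
  have hf0 : f₀ ≠ 0 := by rw [hfdef]; exact frame_f_ne_zero fr 0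
  have hz : Q z = 0 := by rw [hzdef]; exact fr.qe 0
  have hf : Q f₀ = 0 := by rw [hfdef]; exact fr.qf 0
  have hzf : polar Q z f₀ = 1 := by rw [hzdef, hfdef, fr.ef]; simp
  obtain ⟨z', hz'0, hz', -, h1⟩ := exists_point_image p hQ fr hmax α hz0 hz
  obtain ⟨f', hf'0, hf', -, h2⟩ := exists_point_image p hQ fr hmax α hf0 hf
  have hne := polar_ne_zero_of_images p hQ fr2 hz0 hz hf hzf hz'0 hz' hf'0 hf' h1 h2
  -- move (z', f') to (z, c f₀)
  obtain ⟨t₁, ht₁, ht₁z⟩ := eich_trans_singular hQ fr2 hz'0 hz' hz0 hz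
  obtain ⟨g₁, hg₁⟩ : ∃ g₁ : eichGroup Q, g₁ = ⟨t₁, ht₁⟩ := ⟨_, rfl⟩
  have hg₁z : g₁ • z' = z := by rw [hg₁]; exact ht₁z
  obtain ⟨c, hc⟩ : ∃ c, c = polar Q z' f' := ⟨_, rfl⟩
  rw [← hc] at hne
  obtain ⟨y', hy'⟩ : ∃ y', y' = c⁻¹ • (g₁ • f') := ⟨_, rfl⟩
  have hQy' : Q y' = 0 := by rw [hy', QuadraticMap.map_smul, Q_smulE, hf', smul_zero]
  have hzy' : polar Q z y' = 1 := by
    rw [hy', polar_smul_right, ← hg₁z, polar_smulE, ← hc, smul_eq_mul, inv_mul_cancel₀ hne]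
  obtain ⟨h0, h3, h4⟩ := eich_fix_move hz hQy' hf hzy' hzf
  obtain ⟨g, hg⟩ : ∃ g : eichGroup Q, g = eichT z (y' - f₀) * g₁ := ⟨_, rfl⟩
  have hgz : g • z' = z := by rw [hg, mul_smul, hg₁z, eichT_smul hz h0, h3]
  have hgf : g • f' = c • f₀ := by
    have h5 : g₁ • f' = c • y' := by rw [hy', smul_smul, mul_inv_cancel₀ hne, one_smul]
    rw [hg, mul_smul, h5, smul_comm, eichT_smul hz h0, h4]
  -- the normalised automorphism
  obtain ⟨α', hα'⟩ : ∃ α', α' = α.trans (MulAut.conj (π g)) := ⟨_, rfl⟩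
  have N : Norm α' z f₀ := by
    refine ⟨hz0, hz, hf0, hf, hzf, ?_, ?_⟩
    · rw [hα', image_rootGroup_conj hz' h1 g, hgz]
    · rw [hα', image_rootGroup_conj hf' h2 g, hgf, rootGroup_smul_vec hf hne]
  obtain ⟨T', σ, c₀, S', hT'⟩ := N.main p hQ fr hmax
  let T : (ι → F) →+ (ι → F) := (DistribMulAction.toAddMonoidHom (ι → F) g⁻¹).comp T'
  have hT : ∀ v, T v = g⁻¹ • T' v := fun _ => rfl
  refine ⟨T, σ, c₀, ⟨fun a v => ?_, fun v => ?_, S'.ne⟩, fun s => ?_⟩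
  · rw [hT, hT, S'.smul, smul_comm]
  · rw [hT, Q_smulE, S'.form]
  · obtain ⟨s', hs'1, hs'2⟩ := hT' s
    refine ⟨g⁻¹ * s' * g, fun v => ?_, ?_⟩
    · rw [hT, hT, mul_smul, mul_smul, smul_inv_smul, hs'1]
    · have h5 : α' (π s) = π g * α (π s) * (π g)⁻¹ := by
        rw [hα']
        rfl
      rw [h5] at hs'2
      rw [map_mul, map_mul, map_inv, ← hs'2]
      group

end charp

end Cfsg.Agent.Helper17.OrthAut
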