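import Mathlib
import Cfsg.Agent.Lib.Helper17.OrthAut23
import Cfsg.Prelude.Def_LieTypeDatum

set_option autoImplicit false
set_option linter.unusedSectionVars false
set_option linter.unusedSimpArgs false

/-!
# Matrix form: every automorphism of `PΩ` is induced by a semisimilarity pair (helper17)
-/

namespace Cfsg.Agent.Helper17.OrthAut

open QuadraticMap Matrix MulAction Cfsg.Agent.Helper28.WittQuad Cfsg.Agent.Helper2.Orth
open scoped Pointwise

variable {F : Type*} [Field F] {ι : Type} [Fintype ι] [DecidableEq ι]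
  {Q : QuadraticForm F (ι → F)}

/-- the matrix of an additive map in the standard basis -/
def matOf (T : (ι → F) →+ (ι → F)) : Matrix ι ι F := fun i j => T (Pi.single j 1) i

theorem matOf_mulVec {T : (ι → F) →+ (ι → F)} {σ : F ≃+* F}
    (hT : ∀ (c : F) (v : ι → F), T (c • v) = σ c • T v) (v : ι → F) :
    matOf T *ᵥ (fun i => σ (v i)) = T v := by
  conv_rhs => rw [pi_eq_sum_univ' v]
  rw [map_sum]
  ext i
  rw [Matrix.mulVec, dotProduct, Finset.sum_apply]
  apply Finset.sum_congr rfl
  intro j _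
  rw [hT, Pi.smul_apply, smul_eq_mul, mul_comm]
  rfl

theorem mulVec_map_sigma (σ : F ≃+* F) (M : Matrix ι ι F) (v : ι → F) :
    M.map σ *ᵥ (fun i => σ (v i)) = fun i => σ ((M *ᵥ v) i) := by
  ext i
  exact (RingHom.map_mulVec (σ : F →+* F) M v i).symm

section charp
variable [Finite F]

/-- every automorphism of `H ⧸ Z(H)`, `H` the Eichler group, is induced by a semisimilarity
pair -/
theorem exists_pair (p : ℕ) [hp : Fact p.Prime] [CharP F p]
    (hQ : (polarBilin Q).Nondegenerate) {e f : Fin 3 → (ι → F)} (fr : HypFrame Q e f)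
    (hmax : NoBigMax Q) (H : Subgroup (Cfsg.isometryGroup F (⇑Q))) (hH : H = eichGroup Q)
    (α : (H ⧸ Subgroup.center H) ≃* (H ⧸ Subgroup.center H)) :
    ∃ (g : GL ι F) (σ : F ≃+* F), Cfsg.IsSemisimilarityPair (⇑Q) g σ ∧
      ∀ s s' : H, (((s' : Cfsg.isometryGroup F (⇑Q)) : GL ι F) : Matrix ι ι F) =
        (g : Matrix ι ι F) * ((((s : Cfsg.isometryGroup F (⇑Q)) : GL ι F) : Matrix ι ι F)).map σ *
          ((g⁻¹ : GL ι F) : Matrix ι ι F) →
        α (QuotientGroup.mk s) = QuotientGroup.mk s' := by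
  subst hH
  obtain ⟨T, σ, c₀, S, hT⟩ := exists_semisim p hQ fr hmax α
  have hmv : ∀ v, matOf T *ᵥ (fun i => σ (v i)) = T v := matOf_mulVec S.smul
  have hinj := S.injective hQ
  have hsurj : Function.Surjective T := Finite.injective_iff_surjective.1 hinj
  have hunit : IsUnit (matOf T) := by
    rw [← Matrix.mulVec_injective_iff_isUnit]
    intro w w' hww'
    have h1 : ∀ w : ι → F, matOf T *ᵥ w = T (fun i => σ.symm (w i)) := by
      intro w
      rw [← hmv]
      congr 1
      ext i
      simp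
    rw [h1, h1] at hww'
    have h2 := hinj hww'
    ext i
    have h3 := congrFun h2 i
    exact σ.symm.injective h3
  obtain ⟨g, hg⟩ := hunit
  refine ⟨g, σ, ⟨Units.mk0 c₀ S.ne, fun v => ?_⟩, fun s s' hss' => ?_⟩
  · rw [hg, hmv, S.form]
    rfl
  · obtain ⟨s'', hs''1, hs''2⟩ := hT s
    have key : ∀ v, s' • T v = T (s • v) := by
      intro v
      show (((s' : Cfsg.isometryGroup F (⇑Q)) : GL ι F) : Matrix ι ι F) *ᵥ T v = _
      rw [hss', ← hmv v, hg, ← Matrix.mulVec_mulVec, ← Matrix.mulVec_mulVec, Matrix.mulVec_mulVec _ _ (matOf T)]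
      have h1 : ((g⁻¹ : GL ι F) : Matrix ι ι F) * matOf T = 1 := by
        rw [← hg]
        exact Units.inv_mul g
      rw [h1, Matrix.one_mulVec, mulVec_map_sigma]
      exact hmv _
    have h2 : s'' = s' := by
      apply extE
      intro w
      obtain ⟨v, rfl⟩ := hsurj w
      rw [hs''1, key]
    rw [← h2]
    exact hs''2

end charp

end Cfsg.Agent.Helper17.OrthAut
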