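import Mathlib
import Cfsg.Agent.Lib.Helper17.OrthAut24

set_option autoImplicit false
set_option linter.unusedSectionVars false
set_option linter.unusedSimpArgs false

/-!
# `Aut(PΩ(Q))` is the image of the semisimilarity group: generic theorem (helper17)
-/

namespace Cfsg.Agent.Helper17.OrthAut

open QuadraticMap Matrix MulAction Cfsg.Agent.Helper28.WittQuad Cfsg.Agent.Helper2.Orth
open scoped Pointwise

variable {F : Type*} [Field F] {ι : Type} [Fintype ι] [DecidableEq ι]
  {Q : QuadraticForm F (ι → F)}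

/-- generic theorem: with a hyperbolic `3`-frame and no big maximal totally singular subspaces,
every automorphism of `PΩ(Q)` comes from a semisimilarity -/
theorem gammaPOmega_eq_top [Fintype F] (hQ : (polarBilin Q).Nondegenerate)
    (hex : Fintype.card F ≠ 2 ∨ Fintype.card ι ≠ 4) {e f : Fin 3 → (ι → F)}
    (fr : HypFrame Q e f) (hmax : NoBigMax Q) : Cfsg.gammaPOmega F (⇑Q) = ⊤ := by
  have hp : Fact (ringChar F).Prime := ⟨CharP.char_is_prime F (ringChar F)⟩
  have fr2 : HypFrame Q (e ∘ Fin.castSucc) (f ∘ Fin.castSucc) :=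
    fr.comp Fin.castSucc (Fin.castSucc_injective 2)
  rw [eq_top_iff]
  intro α _
  obtain ⟨g, σ, h1, h2⟩ := exists_pair (ringChar F) hQ fr hmax (Cfsg.Omega F (⇑Q))
    (Omega_eq_eichGroup hQ hex fr2) α
  exact Subgroup.subset_closure ⟨g, σ, h1, h2⟩

end Cfsg.Agent.Helper17.OrthAut
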