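import Mathlib
import Cfsg.Agent.Lib.Helper17.OrthAut25

set_option autoImplicit false
set_option linter.unusedSectionVars false
set_option linter.unusedSimpArgs false

/-!
# Dimension of maximal totally singular subspaces (helper17)
-/

namespace Cfsg.Agent.Helper17.OrthAut

open QuadraticMap Matrix MulAction Cfsg.Agent.Helper28.WittQuad Cfsg.Agent.Helper2.Orth
open scoped Pointwise

variable {F : Type*} [Field F] {ι : Type} [Fintype ι] [DecidableEq ι]
  {Q : QuadraticForm F (ι → F)}

theorem perp_eq_orthogonal (U : Submodule F (ι → F)) :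
    perp Q U = LinearMap.BilinForm.orthogonal (polarBilin Q) U := by
  ext v
  rfl

theorem finrank_perp (hQ : (polarBilin Q).Nondegenerate) (U : Submodule F (ι → F)) :
    Module.finrank F (perp Q U) = Fintype.card ι - Module.finrank F U := by
  rw [perp_eq_orthogonal, LinearMap.BilinForm.finrank_orthogonal hQ, Module.finrank_pi]

theorem le_perp_of_ts {U : Submodule F (ι → F)} (hU : ∀ u ∈ U, Q u = 0) : U ≤ perp Q U := by
  intro v hv u hu
  exact polar_eq_zero_of_ts hU hu hv

theorem perp_eq_self_of_ts {U : Submodule F (ι → F)} (hU : ∀ u ∈ U, Q u = 0)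
    (h : perp Q U ≤ U) : perp Q U = U := le_antisymm h (le_perp_of_ts hU)

theorem two_mul_finrank_of_ts (hQ : (polarBilin Q).Nondegenerate) {U : Submodule F (ι → F)}
    (hU : ∀ u ∈ U, Q u = 0) (h : perp Q U ≤ U) :
    2 * Module.finrank F U = Fintype.card ι := by
  have h1 := finrank_perp hQ U
  rw [perp_eq_self_of_ts hU h] at h1
  have h2 : Module.finrank F U ≤ Fintype.card ι := by
    have := Submodule.finrank_le U
    rwa [Module.finrank_pi] at this
  omega

/-- odd dimension: the hypothesis is vacuous -/
theorem noBigMax_of_odd (hQ : (polarBilin Q).Nondegenerate) (hodd : Odd (Fintype.card ι)) :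
    NoBigMax Q := by
  intro U hU hperp _ z _ _
  exfalso
  have := two_mul_finrank_of_ts hQ hU hperp
  obtain ⟨k, hk⟩ := hodd
  omega

end Cfsg.Agent.Helper17.OrthAut
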