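import Mathlib
import Cfsg.Agent.Lib.Helper17.OrthAut26
import Cfsg.Agent.Lib.Helper2.OrthFrames3
import Cfsg.Agent.Lib.Helper2.OrthFrame
import Cfsg.Agent.Lib.Helper2.OrthPOmega

set_option autoImplicit false
set_option linter.unusedSectionVars false
set_option linter.unusedSimpArgs false

/-!
# Minus type: no totally singular subspace of half the dimension (helper17)
-/

namespace Cfsg.Agent.Helper17.OrthAut

open QuadraticMap Matrix MulAction Cfsg.Agent.Helper28.WittQuad Cfsg.Agent.Helper2.Orth
  Cfsg.Agent.Helper13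
open scoped Pointwise

variable {F : Type*} [Field F]

theorem linearIndependent_single {ι κ : Type} [Fintype ι] [DecidableEq ι] (a : κ → ι)
    (ha : Function.Injective a) :
    LinearIndependent F (fun i : κ => (Pi.single (a i) 1 : ι → F)) := by
  have h := (Pi.basisFun F ι).linearIndependent.comp a ha
  convert h using 1
  funext i
  simp [Pi.basisFun_apply]

theorem noBigMax_minus [Finite F] (m : ℕ) (a b : F)
    (hab : ∀ z₁ z₂ : F, z₁ ^ 2 + a * z₁ * z₂ + b * z₂ ^ 2 = 0 → z₁ = 0 ∧ z₂ = 0) :
    NoBigMax (matQ (minusMat m a b)) := by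
  intro U hU hperp _ z _ _
  exfalso
  have hQ := nondeg_minus m a b hab
  have hc : Fintype.card ((Fin m ⊕ Fin m) ⊕ Fin 2) = 2 * m + 2 := by
    simp only [Fintype.card_sum, Fintype.card_fin]
    omega
  have hdim : Module.finrank F U = m + 1 := by
    have := two_mul_finrank_of_ts hQ hU hperp
    omega
  let B := Module.finBasisOfFinrankEq F U hdim
  let x : Fin (m + 1) → ((Fin m ⊕ Fin m) ⊕ Fin 2 → F) := fun i => (B i : (Fin m ⊕ Fin m) ⊕ Fin 2 → F)
  have hx : LinearIndependent F x := B.linearIndependent.map' U.subtype (Submodule.ker_subtype U)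
  have hxU : ∀ i, x i ∈ U := fun i => (B i).2
  let y : Fin m → ((Fin m ⊕ Fin m) ⊕ Fin 2 → F) := fun i => Pi.single (Sum.inl (Sum.inl i)) 1
  have hy : LinearIndependent F y :=
    linearIndependent_single (fun i : Fin m => (Sum.inl (Sum.inl i) : (Fin m ⊕ Fin m) ⊕ Fin 2))
      (fun i j h => by simpa using h)
  have hyQ : ∀ i, matQ (minusMat m a b) (y i) = 0 := by
    intro i
    show matQ (minusMat m a b) (Pi.single _ 1) = 0
    rw [matQ_single]
    simp [minusMat, plusMat]
  have hyp : ∀ i (v : (Fin m ⊕ Fin m) ⊕ Fin 2 → F),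
      polar (matQ (minusMat m a b)) (y i) v = v (Sum.inl (Sum.inr i)) := by
    intro i v
    apply polar_matQ_single_left'
    intro l
    rcases l with (l | l) | l
    · simp [minusMat, plusMat]
    · simp [minusMat, plusMat, Matrix.one_apply, eq_comm]
    · simp [minusMat, plusMat]
  obtain ⟨g, hg⟩ := exists_smul_family hQ m (x ∘ Fin.castSucc) y
    (hx.comp _ (Fin.castSucc_injective m)) hy
    (fun i => by rw [hyQ]; exact hU _ (hxU _))
    (fun i j => by
      rw [hyp]
      show polar _ (x _) (x _) = y j (Sum.inl (Sum.inr i))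
      rw [polar_eq_zero_of_ts hU (hxU _) (hxU _)]
      simp [y])
  obtain ⟨u', hu'⟩ : ∃ u', u' = g • x (Fin.last m) := ⟨_, rfl⟩
  have h1 : ∀ i, u' (Sum.inl (Sum.inr i)) = 0 := by
    intro i
    have h0 := hyp i u'
    rw [← h0, ← hg i, hu', polar_smul_smul]
    exact polar_eq_zero_of_ts hU (hxU _) (hxU _)
  have h2 : matQ (minusMat m a b) u' = 0 := by
    rw [hu', Q_smul]
    exact hU _ (hxU _)
  rw [matQ_minusMat] at h2
  simp only [h1, mul_zero, Finset.sum_const_zero, zero_add] at h2
  obtain ⟨h3, h4⟩ := hab _ _ h2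
  obtain ⟨c, hc⟩ : ∃ c : Fin m → F, c = fun i => u' (Sum.inl (Sum.inl i)) := ⟨_, rfl⟩
  have h5 : u' = ∑ i, c i • y i := by
    ext j
    rw [Finset.sum_apply, hc]
    rcases j with (j | j) | j
    · simp [y, Pi.single_apply, Finset.sum_ite_eq]
    · simp [y, h1]
    · fin_cases j
      · simpa [y] using h3
      · simpa [y] using h4
  have h6 : x (Fin.last m) = ∑ i, c i • x (Fin.castSucc i) := by
    have h7 : ∀ (s : Finset (Fin m)), g • ∑ i ∈ s, c i • x (Fin.castSucc i) =
        ∑ i ∈ s, c i • y i := by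
      intro s
      induction s using Finset.induction_on with
      | empty =>
        simp only [Finset.sum_empty]
        have := smul_smul' _ g (0 : F) (0 : (Fin m ⊕ Fin m) ⊕ Fin 2 → F)
        simpa using this
      | insert i s hi ih =>
        rw [Finset.sum_insert hi, Finset.sum_insert hi, smul_add', ih, smul_smul', ← hg i]
        rfl
    have h9 : g • x (Fin.last m) = g • ∑ i, c i • x (Fin.castSucc i) := by
      rw [h7, ← hu', h5]
    have := congrArg (fun w => g⁻¹ • w) h9
    simpa only [inv_smul_smul] using this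
  have h8 := Fintype.linearIndependent_iff.1 hx
    (Fin.lastCases (-1) c) (by
      rw [Fin.sum_univ_castSucc]
      simp only [Fin.lastCases_last, Fin.lastCases_castSucc]
      rw [h6]
      simp) (Fin.last m)
  simp at h8

end Cfsg.Agent.Helper17.OrthAut
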