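import Mathlib
import Cfsg.Agent.Lib.Helper17.OrthAut26

set_option autoImplicit false
set_option linter.unusedSectionVars false
set_option linter.unusedSimpArgs false

/-!
# Counting the unipotent radical of a maximal totally singular subspace (helper17)
-/

namespace Cfsg.Agent.Helper17.OrthAut

open QuadraticMap Matrix MulAction Cfsg.Agent.Helper28.WittQuad Cfsg.Agent.Helper2.Orth
open scoped Pointwise

variable {F : Type*} [Field F] {ι : Type} [Fintype ι] [DecidableEq ι]
  {Q : QuadraticForm F (ι → F)}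

/-- elements fixing `U` pointwise and moving every vector by an element of `W` -/
def radW (U W : Submodule F (ι → F)) : Subgroup (eichGroup Q) where
  carrier := {g | (∀ u ∈ U, g • u = u) ∧ ∀ v, g • v - v ∈ W}
  mul_mem' := by
    rintro a b ⟨ha1, ha2⟩ ⟨hb1, hb2⟩
    refine ⟨fun u hu => by rw [mul_smul, hb1 u hu, ha1 u hu], fun v => ?_⟩
    have h1 : (a * b) • v - v = (a • (b • v) - b • v) + (b • v - v) := by
      rw [mul_smul]; abel
    rw [h1]
    exact W.add_mem (ha2 _) (hb2 _)
  one_mem' := ⟨fun u _ => one_smul _ u, fun v => by rw [one_smul, sub_self]; exact W.zero_mem⟩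
  inv_mem' := by
    rintro a ⟨ha1, ha2⟩
    refine ⟨fun u hu => ?_, fun v => ?_⟩
    · have := congrArg (fun w => a⁻¹ • w) (ha1 u hu)
      simp only [inv_smul_smul] at this
      exact this.symm
    · have h1 : a⁻¹ • v - v = -(a • (a⁻¹ • v) - a⁻¹ • v) := by
        rw [smul_inv_smul]; abel
      rw [h1]
      exact W.neg_mem (ha2 _)

theorem mem_radW {U W : Submodule F (ι → F)} {g : eichGroup Q} :
    g ∈ radW (Q := Q) U W ↔ (∀ u ∈ U, g • u = u) ∧ ∀ v, g • v - v ∈ W := Iff.rfl

theorem radW_mono (U : Submodule F (ι → F)) {W W' : Submodule F (ι → F)} (h : W ≤ W') :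
    radW (Q := Q) U W ≤ radW U W' := fun _ hg => ⟨hg.1, fun v => h (hg.2 v)⟩

theorem radW_le_unipU {U W : Submodule F (ι → F)} (h : W ≤ U) :
    radW (Q := Q) U W ≤ unipU U := fun _ hg => ⟨hg.1, fun v _ => h (hg.2 v)⟩

/-- an isometry moving everything by elements of `W` fixes `W^⊥` pointwise -/
theorem fix_of_mem_perp (hQ : (polarBilin Q).Nondegenerate) {W : Submodule F (ι → F)}
    {g : eichGroup Q} (hg : ∀ v, g • v - v ∈ W) {a : ι → F} (ha : a ∈ perp Q W) :
    g • a = a := by
  by_contra h
  have h0 : g • a - a ≠ 0 := sub_ne_zero.2 h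
  obtain ⟨b, hb⟩ := exists_polar_eq_one hQ h0
  have h1 : polar Q (g • a - a) (g • (g⁻¹ • b)) = 0 := by
    rw [polar_sub_left, polar_smulE]
    have h2 : polar Q a (g • g⁻¹ • b) = polar Q a (g⁻¹ • b) + polar Q a (g • g⁻¹ • b - g⁻¹ • b) := by
      rw [← polar_add_right]
      congr 1
      abel
    rw [h2, polar_comm Q a (g • g⁻¹ • b - g⁻¹ • b), ha _ (hg _)]
    ring
  rw [smul_inv_smul, hb] at h1
  exact one_ne_zero h1

theorem eichT_mem_radW {U W : Submodule F (ι → F)} (hU : ∀ u ∈ U, Q u = 0) (hWU : W ≤ U)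
    {u w : ι → F} (hu : u ∈ U) (hw : w ∈ W) :
    (eichT u w : eichGroup Q) ∈ radW (Q := Q) U (W ⊔ Submodule.span F {u}) := by
  have huw : polar Q u w = 0 := polar_eq_zero_of_ts hU hu (hWU hw)
  refine ⟨fun u' hu' => ?_, fun v => ?_⟩
  · rw [eichT_smul (hU u hu) huw, eich_apply, polar_eq_zero_of_ts hU (hWU hw) hu',
      polar_eq_zero_of_ts hU hu hu']
    simp
  · rw [eichT_smul (hU u hu) huw, eich_apply, add_sub_cancel_left]
    have hu1 : u ∈ W ⊔ Submodule.span F {u} :=
      Submodule.mem_sup_right (Submodule.mem_span_singleton_self u)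
    have hw1 : w ∈ W ⊔ Submodule.span F {u} := Submodule.mem_sup_left hw
    exact Submodule.sub_mem _ (Submodule.sub_mem _ (Submodule.smul_mem _ _ hu1)
      (Submodule.smul_mem _ _ hw1)) (Submodule.smul_mem _ _ (Submodule.smul_mem _ _ hu1))

section fin
variable [Finite F]

/-- the counting step -/
theorem card_radW_step (hQ : (polarBilin Q).Nondegenerate) {U W : Submodule F (ι → F)}
    (hU : ∀ u ∈ U, Q u = 0) (hWU : W ≤ U) {u : ι → F} (hu : u ∈ U) (huW : u ∉ W) :
    Nat.card W * Nat.card (radW (Q := Q) U W) ≤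
      Nat.card (radW (Q := Q) U (W ⊔ Submodule.span F {u})) := by
  obtain ⟨x, hx1, hx2⟩ := exists_perp_partner hQ W huW
  have hxW : x ∈ perp Q W := by
    intro w hw
    rw [polar_comm]
    exact hx1 w hw
  have hux : polar Q u x = 1 := by rw [polar_comm]; exact hx2
  rw [← Nat.card_prod]
  let f : W × radW (Q := Q) U W → radW (Q := Q) U (W ⊔ Submodule.span F {u}) := fun p =>
    ⟨eichT u (-(p.1 : ι → F)) * (p.2 : eichGroup Q),
      Subgroup.mul_mem _ (eichT_mem_radW hU hWU hu (W.neg_mem p.1.2))
        (radW_mono U le_sup_left p.2.2)⟩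
  have hfx : ∀ p : W × radW (Q := Q) U W, ((f p : eichGroup Q)) • x = x + (p.1 : ι → F) := by
    intro p
    show (eichT u (-(p.1 : ι → F)) * (p.2 : eichGroup Q)) • x = _
    have huw : polar Q u (-(p.1 : ι → F)) = 0 :=
      polar_eq_zero_of_ts hU hu (hWU (W.neg_mem p.1.2))
    rw [mul_smul, fix_of_mem_perp hQ p.2.2.2 hxW, eichT_smul (hU u hu) huw, eich_apply, hux,
      polar_neg_left, polar_comm Q _ x, hx1 _ p.1.2, QuadraticMap.map_neg, hU _ (hWU p.1.2)]
    simp
  apply Nat.card_le_card_of_injective f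
  intro p p' hpp'
  have h1 : (p.1 : ι → F) = p'.1 := by
    have := hfx p
    rw [hpp', hfx p'] at this
    exact (add_left_cancel this).symm
  have h2 : (p.2 : eichGroup Q) = p'.2 := by
    have h3 : ((f p : eichGroup Q)) = (f p' : eichGroup Q) := by rw [hpp']
    change eichT u (-(p.1 : ι → F)) * (p.2 : eichGroup Q) =
      eichT u (-(p'.1 : ι → F)) * (p'.2 : eichGroup Q) at h3
    rw [h1] at h3
    exact mul_left_cancel h3
  exact Prod.ext (Subtype.ext h1) (Subtype.ext h2)

/-- lower bound for the radical of the span of an independent family in `U` -/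
theorem card_radW_family (hQ : (polarBilin Q).Nondegenerate) {U : Submodule F (ι → F)}
    (hU : ∀ u ∈ U, Q u = 0) :
    ∀ (d : ℕ) (u : Fin d → (ι → F)), LinearIndependent F u → (∀ i, u i ∈ U) →
      Nat.card F ^ d.choose 2 ≤
        Nat.card (radW (Q := Q) U (Submodule.span F (Set.range u))) := by
  intro d
  induction d with
  | zero =>
    intro u _ _
    rw [Nat.choose_zero_succ, pow_zero]
    exact Nat.card_pos
  | succ d ih =>
    intro u hu huU
    obtain ⟨h1, h2⟩ := linearIndependent_finSucc'.1 hu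
    have ih' := ih (Fin.init u) h1 (fun i => huU _)
    have hWU : Submodule.span F (Set.range (Fin.init u)) ≤ U := by
      rw [Submodule.span_le]
      rintro _ ⟨i, rfl⟩
      exact huU _
    have hstep := card_radW_step hQ hU hWU (huU (Fin.last d)) h2
    have hcardW : Nat.card (Submodule.span F (Set.range (Fin.init u))) = Nat.card F ^ d := by
      rw [Module.natCard_eq_pow_finrank (K := F), finrank_span_eq_card h1, Fintype.card_fin]
    have hle : Submodule.span F (Set.range (Fin.init u)) ⊔ Submodule.span F {u (Fin.last d)} ≤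
        Submodule.span F (Set.range u) := by
      apply sup_le
      · apply Submodule.span_mono
        rintro _ ⟨i, rfl⟩
        exact ⟨_, rfl⟩
      · rw [Submodule.span_le]
        rintro _ rfl
        exact Submodule.subset_span ⟨_, rfl⟩
    have hmono := Subgroup.card_le_of_le (radW_mono (Q := Q) U hle)
    have hch : (d + 1).choose 2 = d + d.choose 2 := by
      rw [Nat.choose_succ_succ d 1, Nat.choose_one_right]
    rw [hch, pow_add]
    calc Nat.card F ^ d * Nat.card F ^ d.choose 2
        ≤ Nat.card (Submodule.span F (Set.range (Fin.init u))) *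
          Nat.card (radW (Q := Q) U (Submodule.span F (Set.range (Fin.init u)))) := by
          rw [hcardW]
          exact Nat.mul_le_mul_left _ ih'
      _ ≤ _ := hstep
      _ ≤ _ := hmono

/-- upper bound for a root group -/
theorem card_rootGroup_le (hQ : (polarBilin Q).Nondegenerate) {z : ι → F} (hz0 : z ≠ 0) :
    Nat.card (rootGroup (Q := Q) z) ≤ Nat.card F ^ (Fintype.card ι - 1) := by
  let f : perp Q (Submodule.span F {z}) → rootGroup (Q := Q) z := fun b =>
    ⟨eichT z (b : ι → F), eichT_mem_rootGroup (mem_perp_span_singleton.1 b.2)⟩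
  have hf : Function.Surjective f := by
    rintro ⟨g, hg⟩
    obtain ⟨b, hb, rfl⟩ := mem_rootGroup_iff'.1 hg
    exact ⟨⟨b, mem_perp_span_singleton.2 hb⟩, rfl⟩
  have h1 := Nat.card_le_card_of_surjective f hf
  rw [Module.natCard_eq_pow_finrank (K := F) (V := perp Q (Submodule.span F {z})),
    finrank_perp hQ, finrank_span_singleton hz0] at h1
  exact h1

/-- even dimension `2m` with `m ≥ 5`: maximal totally singular subspaces of dimension `m` have
a big unipotent radical -/
theorem noBigMax_of_even (hQ : (polarBilin Q).Nondegenerate) {m : ℕ} (hm : 5 ≤ m)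
    (hc : Fintype.card ι = 2 * m) : NoBigMax Q := by
  intro U hU hperp _ z hz0 _
  have hdim : Module.finrank F U = m := by
    have := two_mul_finrank_of_ts hQ hU hperp
    omega
  let B := Module.finBasisOfFinrankEq F U hdim
  let x : Fin m → (ι → F) := fun i => (B i : ι → F)
  have hx : LinearIndependent F x := B.linearIndependent.map' U.subtype (Submodule.ker_subtype U)
  have hxU : ∀ i, x i ∈ U := fun i => (B i).2
  have h1 := card_radW_family hQ hU m x hx hxU
  have hle : Submodule.span F (Set.range x) ≤ U := by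
    rw [Submodule.span_le]
    rintro _ ⟨i, rfl⟩
    exact hxU i
  have h2 := Subgroup.card_le_of_le (radW_le_unipU (Q := Q) hle)
  have h3 := card_rootGroup_le hQ hz0
  rw [hc] at h3
  have hq : 1 < Nat.card F := Finite.one_lt_card
  have h4 : 2 * m ≤ m.choose 2 := by
    obtain ⟨k, rfl⟩ : ∃ k, m = k + 5 := ⟨m - 5, by omega⟩
    rw [Nat.choose_two_right, Nat.le_div_iff_mul_le two_pos]
    have : k + 5 - 1 = k + 4 := rfl
    rw [this]
    nlinarith
  calc Nat.card (rootGroup (Q := Q) z) ≤ Nat.card F ^ (2 * m - 1) := h3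
    _ < Nat.card F ^ (2 * m) := Nat.pow_lt_pow_right hq (by omega)
    _ ≤ Nat.card F ^ m.choose 2 := Nat.pow_le_pow_right (by omega) h4
    _ ≤ _ := h1
    _ ≤ _ := h2

end fin

end Cfsg.Agent.Helper17.OrthAut
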