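import Mathlib
import Cfsg.Agent.Lib.Helper17.OrthAut28

set_option autoImplicit false
set_option linter.unusedSectionVars false
set_option linter.unusedSimpArgs false

/-!
# Automorphisms of `PΩ(Q)` induced by semisimilarity pairs (helper17)
-/

namespace Cfsg.Agent.Helper17.OrthOut

open QuadraticMap Matrix MulAction Cfsg.Agent.Helper28.WittQuad Cfsg.Agent.Helper2.Orth
  Cfsg.Agent.Helper17.OrthAut
open scoped Pointwise

variable {F : Type*} [Field F] {ι : Type} [Fintype ι] [DecidableEq ι]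
  {Q : QuadraticForm F (ι → F)}

/-- conjugation by the semilinear map `v ↦ g σ(v)`, on `GL` -/
noncomputable def semiHom (g : GL ι F) (σ : F ≃+* F) : GL ι F →* GL ι F :=
  (MulAut.conj g).toMonoidHom.comp (Matrix.GeneralLinearGroup.map (σ : F →+* F))

theorem semiHom_apply (g : GL ι F) (σ : F ≃+* F) (s : GL ι F) :
    semiHom g σ s = g * Matrix.GeneralLinearGroup.map (σ : F →+* F) s * g⁻¹ := rfl

theorem semiHom_coe (g : GL ι F) (σ : F ≃+* F) (s : GL ι F) :
    ((semiHom g σ s : GL ι F) : Matrix ι ι F) =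
      (g : Matrix ι ι F) * (s : Matrix ι ι F).map σ * ((g⁻¹ : GL ι F) : Matrix ι ι F) := rfl

theorem map_injective (σ : F ≃+* F) :
    Function.Injective (Matrix.GeneralLinearGroup.map (n := ι) (σ : F →+* F)) := by
  intro s s' h
  ext i j
  have := congrArg (fun t : GL ι F => t i j) h
  simp only [Matrix.GeneralLinearGroup.map_apply] at this
  exact σ.injective this

theorem semiHom_injective (g : GL ι F) (σ : F ≃+* F) : Function.Injective (semiHom g σ) := by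
  intro s s' h
  rw [semiHom_apply, semiHom_apply] at h
  apply map_injective σ
  have := congrArg (fun t => g⁻¹ * t * g) h
  simpa [mul_assoc] using this

theorem semiHom_mem {g : GL ι F} {σ : F ≃+* F} (h : Cfsg.IsSemisimilarityPair (⇑Q) g σ)
    {s : GL ι F} (hs : s ∈ Cfsg.isometryGroup F (⇑Q)) :
    semiHom g σ s ∈ Cfsg.isometryGroup F (⇑Q) := by
  rw [mem_isometryGroup_iff] at hs ⊢
  intro v
  obtain ⟨c, hc⟩ := h
  obtain ⟨w, hw⟩ : ∃ w : ι → F, w = fun i => σ.symm ((((g⁻¹ : GL ι F) : Matrix ι ι F) *ᵥ v) i) :=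
    ⟨_, rfl⟩
  have hw1 : (fun i => σ (w i)) = ((g⁻¹ : GL ι F) : Matrix ι ι F) *ᵥ v := by
    rw [hw]
    ext i
    simp
  have hw2 : (g : Matrix ι ι F) *ᵥ (fun i => σ (w i)) = v := by
    rw [hw1, Matrix.mulVec_mulVec, ← Units.val_mul, mul_inv_cancel, Units.val_one,
      Matrix.one_mulVec]
  have h1 : (semiHom g σ s).1 *ᵥ v =
      (g : Matrix ι ι F) *ᵥ (fun i => σ (((s : Matrix ι ι F) *ᵥ w) i)) := by
    show ((semiHom g σ s : GL ι F) : Matrix ι ι F) *ᵥ v = _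
    rw [semiHom_coe, ← Matrix.mulVec_mulVec, ← Matrix.mulVec_mulVec, ← hw1, mulVec_map_sigma]
  rw [h1, hc, hs, ← hc, hw2]

/-- conjugation by a semisimilarity on the isometry group -/
noncomputable def semiO {g : GL ι F} {σ : F ≃+* F} (h : Cfsg.IsSemisimilarityPair (⇑Q) g σ) :
    Cfsg.isometryGroup F (⇑Q) →* Cfsg.isometryGroup F (⇑Q) :=
  ((semiHom g σ).comp (Subgroup.subtype _)).codRestrict _ (fun s => semiHom_mem h s.2)

theorem semiO_coe {g : GL ι F} {σ : F ≃+* F} (h : Cfsg.IsSemisimilarityPair (⇑Q) g σ)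
    (s : Cfsg.isometryGroup F (⇑Q)) : ((semiO h s : Cfsg.isometryGroup F (⇑Q)) : GL ι F) =
      semiHom g σ s := rfl

theorem semiO_injective {g : GL ι F} {σ : F ≃+* F} (h : Cfsg.IsSemisimilarityPair (⇑Q) g σ) :
    Function.Injective (semiO h) := by
  intro s s' hss'
  apply Subtype.ext
  apply semiHom_injective g σ
  rw [← semiO_coe h, ← semiO_coe h, hss']

section fin
variable [Finite F]

theorem semiO_bijective {g : GL ι F} {σ : F ≃+* F} (h : Cfsg.IsSemisimilarityPair (⇑Q) g σ) :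
    Function.Bijective (semiO h) :=
  ⟨semiO_injective h, Finite.injective_iff_surjective.1 (semiO_injective h)⟩

noncomputable def semiOEquiv {g : GL ι F} {σ : F ≃+* F}
    (h : Cfsg.IsSemisimilarityPair (⇑Q) g σ) :
    Cfsg.isometryGroup F (⇑Q) ≃* Cfsg.isometryGroup F (⇑Q) :=
  MulEquiv.ofBijective (semiO h) (semiO_bijective h)

theorem semiOEquiv_apply {g : GL ι F} {σ : F ≃+* F} (h : Cfsg.IsSemisimilarityPair (⇑Q) g σ)
    (s : Cfsg.isometryGroup F (⇑Q)) : semiOEquiv h s = semiO h s := rfl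

theorem map_Omega (e : Cfsg.isometryGroup F (⇑Q) ≃* Cfsg.isometryGroup F (⇑Q)) :
    (Cfsg.Omega F (⇑Q)).map e.toMonoidHom = Cfsg.Omega F (⇑Q) :=
  Subgroup.characteristic_iff_map_eq.1 inferInstance e

/-- conjugation by a semisimilarity on `Ω` -/
noncomputable def semiΩ {g : GL ι F} {σ : F ≃+* F} (h : Cfsg.IsSemisimilarityPair (⇑Q) g σ) :
    Cfsg.Omega F (⇑Q) ≃* Cfsg.Omega F (⇑Q) :=
  ((semiOEquiv h).subgroupMap (Cfsg.Omega F (⇑Q))).trans
    (MulEquiv.subgroupCongr (map_Omega (semiOEquiv h)))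

theorem semiΩ_coe {g : GL ι F} {σ : F ≃+* F} (h : Cfsg.IsSemisimilarityPair (⇑Q) g σ)
    (s : Cfsg.Omega F (⇑Q)) :
    ((semiΩ h s : Cfsg.Omega F (⇑Q)) : Cfsg.isometryGroup F (⇑Q)) = semiO h s := rfl

theorem semiΩ_matrix {g : GL ι F} {σ : F ≃+* F} (h : Cfsg.IsSemisimilarityPair (⇑Q) g σ)
    (s : Cfsg.Omega F (⇑Q)) :
    ((((semiΩ h s : Cfsg.Omega F (⇑Q)) : Cfsg.isometryGroup F (⇑Q)) : GL ι F) : Matrix ι ι F) =
      (g : Matrix ι ι F) * ((((s : Cfsg.isometryGroup F (⇑Q)) : GL ι F) : Matrix ι ι F)).map σ *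
        ((g⁻¹ : GL ι F) : Matrix ι ι F) := rfl

theorem map_center_Omega (e : Cfsg.Omega F (⇑Q) ≃* Cfsg.Omega F (⇑Q)) :
    (Subgroup.center (Cfsg.Omega F (⇑Q))).map e.toMonoidHom =
      Subgroup.center (Cfsg.Omega F (⇑Q)) :=
  Subgroup.characteristic_iff_map_eq.1 inferInstance e

/-- the automorphism of `PΩ` induced by a semisimilarity pair -/
noncomputable def stdAut {g : GL ι F} {σ : F ≃+* F} (h : Cfsg.IsSemisimilarityPair (⇑Q) g σ) :
    MulAut (Cfsg.POmega F (⇑Q)) :=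
  QuotientGroup.congr (Subgroup.center (Cfsg.Omega F (⇑Q))) (Subgroup.center (Cfsg.Omega F (⇑Q)))
    (semiΩ h) (map_center_Omega (semiΩ h))

theorem stdAut_mk {g : GL ι F} {σ : F ≃+* F} (h : Cfsg.IsSemisimilarityPair (⇑Q) g σ)
    (s : Cfsg.Omega F (⇑Q)) :
    stdAut h (QuotientGroup.mk s) = QuotientGroup.mk (semiΩ h s) := rfl

theorem stdAut_induced {g : GL ι F} {σ : F ≃+* F} (h : Cfsg.IsSemisimilarityPair (⇑Q) g σ) :
    Cfsg.IsInducedBySemilinearPOmega (⇑Q) g σ (stdAut h) := by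
  intro s s' hss'
  rw [stdAut_mk]
  congr 1
  apply Subtype.ext
  apply Subtype.ext
  apply Units.ext
  rw [hss', semiΩ_matrix]

theorem eq_stdAut_of_induced {g : GL ι F} {σ : F ≃+* F}
    (h : Cfsg.IsSemisimilarityPair (⇑Q) g σ) {β : MulAut (Cfsg.POmega F (⇑Q))}
    (hβ : Cfsg.IsInducedBySemilinearPOmega (⇑Q) g σ β) : β = stdAut h := by
  apply MulEquiv.ext
  intro x
  obtain ⟨s, rfl⟩ := QuotientGroup.mk_surjective x
  rw [stdAut_mk]
  exact hβ s (semiΩ h s) (semiΩ_matrix h s)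

end fin

end Cfsg.Agent.Helper17.OrthOut
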