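import Mathlib
import Cfsg.Agent.Lib.Helper17.OrthOut1

set_option autoImplicit false
set_option linter.unusedSectionVars false
set_option linter.unusedSimpArgs false

/-!
# Composition of standard automorphisms; every automorphism is standard (helper17)
-/

namespace Cfsg.Agent.Helper17.OrthOut

open QuadraticMap Matrix MulAction Cfsg.Agent.Helper28.WittQuad Cfsg.Agent.Helper2.Orth
  Cfsg.Agent.Helper17.OrthAut
open scoped Pointwise

variable {F : Type*} [Field F] {ι : Type} [Fintype ι] [DecidableEq ι]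
  {Q : QuadraticForm F (ι → F)}

theorem isSemisim_one : Cfsg.IsSemisimilarityPair (⇑Q) (1 : GL ι F) (RingEquiv.refl F) :=
  ⟨1, fun v => by simp⟩

theorem isSemisim_mul {g g' : GL ι F} {σ σ' : F ≃+* F}
    (h : Cfsg.IsSemisimilarityPair (⇑Q) g σ) (h' : Cfsg.IsSemisimilarityPair (⇑Q) g' σ') :
    Cfsg.IsSemisimilarityPair (⇑Q) (g * Matrix.GeneralLinearGroup.map (σ : F →+* F) g')
      (σ * σ' : RingAut F) := by
  obtain ⟨c, hc⟩ := h
  obtain ⟨c', hc'⟩ := h'
  refine ⟨c * Units.map (σ : F →* F) c', fun v => ?_⟩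
  have h1 : ((g * Matrix.GeneralLinearGroup.map (σ : F →+* F) g' : GL ι F) : Matrix ι ι F) *ᵥ
      (fun i => (σ * σ' : RingAut F) (v i)) =
      (g : Matrix ι ι F) *ᵥ (fun i => σ (((g' : Matrix ι ι F) *ᵥ (fun j => σ' (v j))) i)) := by
    rw [Units.val_mul, ← Matrix.mulVec_mulVec]
    congr 1
    exact mulVec_map_sigma σ (g' : Matrix ι ι F) (fun j => σ' (v j))
  rw [h1, hc, hc', map_mul]
  simp only [Units.val_mul, Units.coe_map, MonoidHom.coe_coe, RingAut.mul_apply]
  ring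

theorem semiHom_comp (g g' : GL ι F) (σ σ' : F ≃+* F) (s : GL ι F) :
    semiHom g σ (semiHom g' σ' s) =
      semiHom (g * Matrix.GeneralLinearGroup.map (σ : F →+* F) g') (σ * σ' : RingAut F) s := by
  rw [semiHom_apply, semiHom_apply, semiHom_apply]
  simp only [map_mul, map_inv, _root_.mul_inv_rev]
  have : Matrix.GeneralLinearGroup.map (σ : F →+* F)
      (Matrix.GeneralLinearGroup.map (σ' : F →+* F) s) =
      Matrix.GeneralLinearGroup.map (((σ * σ' : RingAut F) : F ≃+* F) : F →+* F) s := rfl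
  rw [this]
  group

section fin
variable [Finite F]

theorem stdAut_mul {g g' : GL ι F} {σ σ' : F ≃+* F}
    (h : Cfsg.IsSemisimilarityPair (⇑Q) g σ) (h' : Cfsg.IsSemisimilarityPair (⇑Q) g' σ') :
    stdAut h * stdAut h' = stdAut (isSemisim_mul h h') := by
  apply MulEquiv.ext
  intro x
  obtain ⟨s, rfl⟩ := QuotientGroup.mk_surjective x
  rw [MulAut.mul_apply, stdAut_mk, stdAut_mk, stdAut_mk]
  congr 1
  apply Subtype.ext
  apply Subtype.ext
  rw [semiΩ_coe, semiΩ_coe, semiO_coe, semiO_coe, semiΩ_coe, semiO_coe]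
  exact semiHom_comp g g' σ σ' _

theorem stdAut_one : stdAut (isSemisim_one (Q := Q)) = 1 := by
  apply MulEquiv.ext
  intro x
  obtain ⟨s, rfl⟩ := QuotientGroup.mk_surjective x
  rw [stdAut_mk, MulAut.one_apply]
  congr 1
  apply Subtype.ext
  apply Subtype.ext
  rw [semiΩ_coe, semiO_coe, semiHom_apply]
  ext i j
  simp

/-- every automorphism is standard -/
theorem exists_stdAut [Fintype F] (hQ : (polarBilin Q).Nondegenerate)
    (hex : Fintype.card F ≠ 2 ∨ Fintype.card ι ≠ 4) {e f : Fin 3 → (ι → F)}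
    (fr : HypFrame Q e f) (hmax : NoBigMax Q) (α : MulAut (Cfsg.POmega F (⇑Q))) :
    ∃ (g : GL ι F) (σ : F ≃+* F) (h : Cfsg.IsSemisimilarityPair (⇑Q) g σ), α = stdAut h := by
  have hp : Fact (ringChar F).Prime := ⟨CharP.char_is_prime F (ringChar F)⟩
  have fr2 : HypFrame Q (e ∘ Fin.castSucc) (f ∘ Fin.castSucc) :=
    fr.comp Fin.castSucc (Fin.castSucc_injective 2)
  obtain ⟨g, σ, h1, h2⟩ := exists_pair (ringChar F) hQ fr hmax (Cfsg.Omega F (⇑Q))
    (Omega_eq_eichGroup hQ hex fr2) α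
  exact ⟨g, σ, h1, eq_stdAut_of_induced h1 h2⟩

end fin

end Cfsg.Agent.Helper17.OrthOut
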