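import Mathlib
import Cfsg.Agent.Lib.Helper17.OrthOut2

set_option autoImplicit false
set_option linter.unusedSectionVars false
set_option linter.unusedSimpArgs false

/-!
# A semilinear map is determined up to scalars by its action on singular points (helper17)
-/

namespace Cfsg.Agent.Helper17.OrthOut

open QuadraticMap Matrix MulAction Cfsg.Agent.Helper28.WittQuad Cfsg.Agent.Helper2.Orth
  Cfsg.Agent.Helper17.OrthAut
open scoped Pointwise

variable {F : Type*} [Field F] {ι : Type} [Fintype ι] [DecidableEq ι]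
  {Q : QuadraticForm F (ι → F)}

/-- images of two independent vectors under an injective semilinear map are independent -/
theorem indep_semilinear {T : (ι → F) →+ (ι → F)} {σ : F ≃+* F}
    (hT : ∀ (c : F) (v : ι → F), T (c • v) = σ c • T v) (hinj : Function.Injective T)
    {z₁ z₂ : ι → F} (hz₁ : z₁ ≠ 0) (hind : ∀ c : F, z₂ ≠ c • z₁) {x y : F}
    (h : x • T z₁ + y • T z₂ = 0) : x = 0 ∧ y = 0 := by
  have h1 : T (σ.symm x • z₁ + σ.symm y • z₂) = 0 := by
    rw [map_add, hT, hT, RingEquiv.apply_symm_apply, RingEquiv.apply_symm_apply, h]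
  have h2 : σ.symm x • z₁ + σ.symm y • z₂ = 0 := by
    apply hinj
    rw [h1, map_zero]
  have hy : σ.symm y = 0 := by
    by_contra hy
    apply hind (-(σ.symm y)⁻¹ * σ.symm x)
    have h3 : σ.symm y • z₂ = -(σ.symm x • z₁) := eq_neg_of_add_eq_zero_right h2
    calc z₂ = (σ.symm y)⁻¹ • (σ.symm y • z₂) := by rw [smul_smul, inv_mul_cancel₀ hy, one_smul]
      _ = _ := by rw [h3, smul_neg, smul_smul]; simp
  rw [hy, zero_smul, add_zero] at h2
  have hx : σ.symm x = 0 := by
    rcases smul_eq_zero.1 h2 with h | h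
    · exact h
    · exact absurd h hz₁
  refine ⟨?_, ?_⟩
  · simpa using congrArg σ hx
  · simpa using congrArg σ hy

/-- the comparison step for two orthogonal independent singular vectors -/
theorem scalar_step {T T' : (ι → F) →+ (ι → F)} {σ σ' : F ≃+* F}
    (hT : ∀ (c : F) (v : ι → F), T (c • v) = σ c • T v)
    (hT' : ∀ (c : F) (v : ι → F), T' (c • v) = σ' c • T' v)
    (hinj : Function.Injective T) (hinj' : Function.Injective T')
    (h : ∀ z : ι → F, z ≠ 0 → Q z = 0 → ∃ a : F, T' z = a • T z)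
    {z₁ z₂ : ι → F} (hz₁0 : z₁ ≠ 0) (hz₁ : Q z₁ = 0) (hz₂ : Q z₂ = 0)
    (hz₁₂ : polar Q z₁ z₂ = 0) (hind : ∀ c : F, z₂ ≠ c • z₁) {a₁ a₂ : F}
    (ha₁ : T' z₁ = a₁ • T z₁) (ha₂ : T' z₂ = a₂ • T z₂) :
    a₁ = a₂ ∧ ∀ c : F, σ' c = σ c := by
  have ha₁0 : a₁ ≠ 0 := by
    rintro rfl
    rw [zero_smul] at ha₁
    apply hz₁0
    apply hinj'
    rw [ha₁, map_zero]
  have key : ∀ c : F, ∃ a₃ : F, a₁ = a₃ ∧ σ' c * a₂ = a₃ * σ c := by
    intro c
    have h30 : z₁ + c • z₂ ≠ 0 := by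
      intro h3
      by_cases hc : c = 0
      · rw [hc, zero_smul, add_zero] at h3
        exact hz₁0 h3
      · apply hind (-c⁻¹)
        have h4 : c • z₂ = -z₁ := eq_neg_of_add_eq_zero_right h3
        calc z₂ = c⁻¹ • (c • z₂) := by rw [smul_smul, inv_mul_cancel₀ hc, one_smul]
          _ = _ := by rw [h4, smul_neg, neg_smul]
    have h3Q : Q (z₁ + c • z₂) = 0 := by
      rw [Q_add', hz₁, QuadraticMap.map_smul, hz₂, polar_smul_right, hz₁₂]
      simp
    obtain ⟨a₃, ha₃⟩ := h _ h30 h3Q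
    refine ⟨a₃, ?_⟩
    rw [map_add, map_add, hT, hT', ha₁, ha₂, smul_add] at ha₃
    have h5 : (a₁ - a₃) • T z₁ + (σ' c * a₂ - a₃ * σ c) • T z₂ = 0 := by
      rw [sub_smul, sub_smul, mul_smul, mul_smul]
      rw [← sub_eq_zero] at ha₃
      rw [← ha₃]
      abel
    obtain ⟨h6, h7⟩ := indep_semilinear hT hinj hz₁0 hind h5
    exact ⟨sub_eq_zero.1 h6, sub_eq_zero.1 h7⟩
  have h12 : a₁ = a₂ := by
    obtain ⟨a₃, h1, h2⟩ := key 1
    rw [map_one, map_one, one_mul, mul_one] at h2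
    rw [h1, h2]
  refine ⟨h12, fun c => ?_⟩
  obtain ⟨a₃, h1, h2⟩ := key c
  rw [← h1, ← h12] at h2
  have : (σ' c - σ c) * a₁ = 0 := by rw [sub_mul, h2]; ring
  rcases mul_eq_zero.1 this with h | h
  · exact sub_eq_zero.1 h
  · exact absurd h ha₁0

/-- two injective semilinear maps agreeing on all singular points up to scalars differ by a
global scalar and have the same field automorphism -/
theorem semilinear_unique (hQ : (polarBilin Q).Nondegenerate) {e f : Fin 2 → (ι → F)}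
    (fr : HypFrame Q e f) {T T' : (ι → F) →+ (ι → F)} {σ σ' : F ≃+* F}
    (hT : ∀ (c : F) (v : ι → F), T (c • v) = σ c • T v)
    (hT' : ∀ (c : F) (v : ι → F), T' (c • v) = σ' c • T' v)
    (hinj : Function.Injective T) (hinj' : Function.Injective T')
    (h : ∀ z : ι → F, z ≠ 0 → Q z = 0 → ∃ a : F, T' z = a • T z) :
    σ = σ' ∧ ∃ a : F, ∀ v, T' v = a • T v := by
  have he0 : e 0 ≠ 0 := frame_e_ne_zero fr 0
  have he1 : e 1 ≠ 0 := frame_e_ne_zero fr 1
  obtain ⟨a, ha⟩ := h (e 0) he0 (fr.qe 0)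
  obtain ⟨a', ha'⟩ := h (e 1) he1 (fr.qe 1)
  have hind01 : ∀ c : F, e 1 ≠ c • e 0 := by
    intro c hc
    have h1 : polar Q (e 1) (f 1) = polar Q (c • e 0) (f 1) := by rw [← hc]
    rw [polar_smul_left, fr.ef, fr.ef] at h1
    simp at h1
  obtain ⟨-, hσ⟩ := scalar_step hT hT' hinj hinj' h he0 (fr.qe 0) (fr.qe 1) (fr.ee 0 1) hind01
    ha ha'
  have hσσ' : σ = σ' := by
    ext c
    exact (hσ c).symm
  refine ⟨hσσ', a, ?_⟩
  -- all scalars are equal to `a`
  have hall : ∀ z : ι → F, Q z = 0 → T' z = a • T z := by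
    intro z hz
    by_cases hz0 : z = 0
    · rw [hz0, map_zero, map_zero, smul_zero]
    obtain ⟨w, hw, h0w, hzw, hw0, hwz⟩ := exists_common_orth hQ fr he0 (fr.qe 0) hz0 hz
    have hw00 : w ≠ 0 := by
      intro h1
      apply hw0 0
      rw [h1, zero_smul]
    obtain ⟨aw, haw⟩ := h w hw00 hw
    obtain ⟨az, haz⟩ := h z hz0 hz
    obtain ⟨h1, -⟩ := scalar_step hT hT' hinj hinj' h he0 (fr.qe 0) hw h0w hw0 ha haw
    obtain ⟨h2, -⟩ := scalar_step hT hT' hinj hinj' h hz0 hz hw hzw hwz haz haw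
    rw [haz, h2, ← h1]
  have hsub : ∀ v ∈ Submodule.span F {s : ι → F | Q s = 0}, T' v = a • T v := by
    intro v hv
    induction hv using Submodule.span_induction with
    | mem x hx => exact hall x hx
    | zero => rw [map_zero, map_zero, smul_zero]
    | add x y _ _ hx hy => rw [map_add, map_add, hx, hy, smul_add]
    | smul c x _ hx => rw [hT', hT, hx, ← hσσ', smul_comm]
  intro v
  exact hsub v (mem_span_all_singular hQ fr v)

end Cfsg.Agent.Helper17.OrthOut
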