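import Mathlib
import Cfsg.Agent.Lib.Helper17.OrthOut3

set_option autoImplicit false
set_option linter.unusedSectionVars false
set_option linter.unusedSimpArgs false

/-!
# A standard automorphism determines its pair up to scalars (helper17)
-/

namespace Cfsg.Agent.Helper17.OrthOut

open QuadraticMap Matrix MulAction Cfsg.Agent.Helper28.WittQuad Cfsg.Agent.Helper2.Orth
  Cfsg.Agent.Helper17.OrthAut
open scoped Pointwise

variable {F : Type*} [Field F] {ι : Type} [Fintype ι] [DecidableEq ι]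
  {Q : QuadraticForm F (ι → F)}

/-- the semilinear map `v ↦ g σ(v)` -/
noncomputable def semiMap (g : GL ι F) (σ : F ≃+* F) : (ι → F) →+ (ι → F) where
  toFun v := (g : Matrix ι ι F) *ᵥ (fun i => σ (v i))
  map_zero' := by
    have : (fun i : ι => σ ((0 : ι → F) i)) = 0 := by ext i; simp
    rw [this, Matrix.mulVec_zero]
  map_add' u v := by
    rw [← Matrix.mulVec_add]
    congr 1
    ext i
    simp

theorem semiMap_apply (g : GL ι F) (σ : F ≃+* F) (v : ι → F) :
    semiMap g σ v = (g : Matrix ι ι F) *ᵥ (fun i => σ (v i)) := rfl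

theorem semiMap_smul (g : GL ι F) (σ : F ≃+* F) (c : F) (v : ι → F) :
    semiMap g σ (c • v) = σ c • semiMap g σ v := by
  rw [semiMap_apply, semiMap_apply, ← Matrix.mulVec_smul]
  congr 1
  ext i
  simp

theorem semiMap_injective (g : GL ι F) (σ : F ≃+* F) : Function.Injective (semiMap g σ) := by
  intro u v h
  rw [semiMap_apply, semiMap_apply] at h
  have h1 := congrArg (fun w => ((g⁻¹ : GL ι F) : Matrix ι ι F) *ᵥ w) h
  simp only [Matrix.mulVec_mulVec, ← Units.val_mul, inv_mul_cancel, Units.val_one,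
    Matrix.one_mulVec] at h1
  ext i
  exact σ.injective (congrFun h1 i)

theorem semiMap_surjective (g : GL ι F) (σ : F ≃+* F) : Function.Surjective (semiMap g σ) := by
  intro w
  refine ⟨fun i => σ.symm ((((g⁻¹ : GL ι F) : Matrix ι ι F) *ᵥ w) i), ?_⟩
  rw [semiMap_apply]
  have : (fun i => σ (σ.symm ((((g⁻¹ : GL ι F) : Matrix ι ι F) *ᵥ w) i))) =
      ((g⁻¹ : GL ι F) : Matrix ι ι F) *ᵥ w := by
    ext i; simp
  rw [this, Matrix.mulVec_mulVec, ← Units.val_mul, mul_inv_cancel, Units.val_one,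
    Matrix.one_mulVec]

theorem semiSim_of_pair {g : GL ι F} {σ : F ≃+* F} {c : Fˣ}
    (hc : ∀ v : ι → F, Q ((g : Matrix ι ι F) *ᵥ (fun i => σ (v i))) = (c : F) * σ (Q v)) :
    SemiSim Q (semiMap g σ) σ (c : F) where
  smul := semiMap_smul g σ
  form := hc
  ne := c.ne_zero

section fin
variable [Finite F]

theorem semiΩ_smul {g : GL ι F} {σ : F ≃+* F} (h : Cfsg.IsSemisimilarityPair (⇑Q) g σ)
    (s : Cfsg.Omega F (⇑Q)) (v : ι → F) :
    ((semiΩ h s : Cfsg.Omega F (⇑Q)) : Cfsg.isometryGroup F (⇑Q)) • semiMap g σ v =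
      semiMap g σ ((s : Cfsg.isometryGroup F (⇑Q)) • v) := by
  rw [smul_def, smul_def, semiMap_apply, semiMap_apply]
  show ((((semiΩ h s : Cfsg.Omega F (⇑Q)) : Cfsg.isometryGroup F (⇑Q)) : GL ι F) :
    Matrix ι ι F) *ᵥ _ = _
  rw [semiΩ_matrix, ← Matrix.mulVec_mulVec, ← Matrix.mulVec_mulVec, Matrix.mulVec_mulVec _ _
    (g : Matrix ι ι F), ← Units.val_mul, inv_mul_cancel, Units.val_one, Matrix.one_mulVec,
    mulVec_map_sigma]

/-- the key uniqueness statement, for a subgroup equal to the Eichler group -/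
theorem pair_unique_aux (p : ℕ) [hp : Fact p.Prime] [CharP F p]
    (hQ : (polarBilin Q).Nondegenerate) {e f : Fin 2 → (ι → F)} (fr : HypFrame Q e f)
    (H : Subgroup (Cfsg.isometryGroup F (⇑Q))) (hH : H = eichGroup Q)
    {T T' : (ι → F) →+ (ι → F)} {σ σ' : F ≃+* F} {c c' : F} (S : SemiSim Q T σ c)
    (S' : SemiSim Q T' σ' c') (hsurj : Function.Surjective T) (hsurj' : Function.Surjective T')
    (ε ε' : H → H)
    (hε : ∀ (s : H) (v : ι → F), ((ε s : H) : Cfsg.isometryGroup F (⇑Q)) • T v =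
      T ((s : Cfsg.isometryGroup F (⇑Q)) • v))
    (hε' : ∀ (s : H) (v : ι → F), ((ε' s : H) : Cfsg.isometryGroup F (⇑Q)) • T' v =
      T' ((s : Cfsg.isometryGroup F (⇑Q)) • v))
    (heq : ∀ s : H, (QuotientGroup.mk (ε s) : H ⧸ Subgroup.center H) = QuotientGroup.mk (ε' s)) :
    σ = σ' ∧ ∃ a : F, ∀ v, T' v = a • T v := by
  subst hH
  have hinj := S.injective hQ
  have hinj' := S'.injective hQ
  apply semilinear_unique hQ fr S.smul S'.smul hinj hinj'
  intro z hz0 hz
  have hTz0 : T z ≠ 0 := by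
    intro h
    apply hz0
    apply hinj
    rw [h, map_zero]
  have hTz : Q (T z) = 0 := by rw [S.form, hz, map_zero, mul_zero]
  have hT'z : Q (T' z) = 0 := by rw [S'.form, hz, map_zero, mul_zero]
  apply exists_smul_of_rootGroup_eq hQ fr hTz0 hTz hT'z
  intro r hr
  obtain ⟨b₁, hb₁, rfl⟩ := mem_rootGroup_iff'.1 hr
  obtain ⟨b, hb⟩ := hsurj (c • b₁)
  have hzb : polar Q z b = 0 := by
    have h1 := S.polar z b
    rw [hb, polar_smul_right, hb₁, smul_zero] at h1
    have h2 : σ (polar Q z b) = 0 := by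
      rcases mul_eq_zero.1 h1.symm with h | h
      · exact absurd h S.ne
      · exact h
    simpa using h2
  have hcb : c⁻¹ • T b = b₁ := by
    rw [hb, smul_smul, inv_mul_cancel₀ S.ne, one_smul]
  have h1 : ε (eichT z b) = eichT (T z) b₁ := by
    apply extE
    intro w
    obtain ⟨v, rfl⟩ := hsurj w
    have h2 := hε (eichT z b) v
    have h3 : ((eichT z b : eichGroup Q) : Cfsg.isometryGroup F (⇑Q)) • v = eich Q z b v :=
      eichT_smul hz hzb v
    rw [h3, S.map_eich, hcb] at h2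
    rw [eichT_smul hTz hb₁]
    exact h2
  have hzb' : polar Q (T' z) (c'⁻¹ • T' b) = 0 := by
    rw [polar_smul_right, S'.polar, hzb, map_zero, mul_zero, smul_zero]
  have h2 : ε' (eichT z b) = eichT (T' z) (c'⁻¹ • T' b) := by
    apply extE
    intro w
    obtain ⟨v, rfl⟩ := hsurj' w
    have h2 := hε' (eichT z b) v
    have h3 : ((eichT z b : eichGroup Q) : Cfsg.isometryGroup F (⇑Q)) • v = eich Q z b v :=
      eichT_smul hz hzb v
    rw [h3, S'.map_eich] at h2
    rw [eichT_smul hT'z hzb']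
    exact h2
  have hZ := center_coprime (p := p) hQ fr
  have h3 := IsPEl.eq_of_mk_eq hZ
    (IsPEl.of_mem (isPGroup_rootGroup (p := p) (T z)) (eichT_mem_rootGroup hb₁))
    (IsPEl.of_mem (isPGroup_rootGroup (p := p) (T' z)) (eichT_mem_rootGroup hzb'))
    (by
      have := heq (eichT z b)
      rw [h1, h2] at this
      exact this)
  rw [h3]
  exact eichT_mem_rootGroup hzb'

/-- a standard automorphism determines the field automorphism, and the matrix up to a scalar -/
theorem stdAut_eq_imp [Fintype F] (hQ : (polarBilin Q).Nondegenerate)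
    (hex : Fintype.card F ≠ 2 ∨ Fintype.card ι ≠ 4) {e f : Fin 2 → (ι → F)}
    (fr : HypFrame Q e f) {g g' : GL ι F} {σ σ' : F ≃+* F}
    (h : Cfsg.IsSemisimilarityPair (⇑Q) g σ) (h' : Cfsg.IsSemisimilarityPair (⇑Q) g' σ')
    (heq : stdAut h = stdAut h') :
    σ = σ' ∧ ∃ a : F, (g' : Matrix ι ι F) = a • (g : Matrix ι ι F) := by
  have hp : Fact (ringChar F).Prime := ⟨CharP.char_is_prime F (ringChar F)⟩
  obtain ⟨c, hc⟩ := id h
  obtain ⟨c', hc'⟩ := id h'
  obtain ⟨hσ, a, ha⟩ := pair_unique_aux (ringChar F) hQ fr (Cfsg.Omega F (⇑Q))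
    (Omega_eq_eichGroup hQ hex fr) (semiSim_of_pair hc) (semiSim_of_pair hc')
    (semiMap_surjective g σ) (semiMap_surjective g' σ') (semiΩ h) (semiΩ h')
    (semiΩ_smul h) (semiΩ_smul h') (by
      intro s
      rw [← stdAut_mk, ← stdAut_mk, heq])
  refine ⟨hσ, a, ?_⟩
  subst hσ
  ext i j
  have h1 := ha (fun k => σ.symm ((Pi.single j 1 : ι → F) k))
  rw [semiMap_apply, semiMap_apply] at h1
  have h2 : (fun i => σ ((fun k => σ.symm ((Pi.single j 1 : ι → F) k)) i)) =
      (Pi.single j 1 : ι → F) := by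
    ext k; simp
  rw [h2, Matrix.mulVec_single_one, Matrix.mulVec_single_one] at h1
  have h3 := congrFun h1 i
  simpa using h3

end fin

end Cfsg.Agent.Helper17.OrthOut
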