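import Mathlib
import Cfsg.Agent.Lib.Helper17.OrthOut4

set_option autoImplicit false
set_option linter.unusedSectionVars false
set_option linter.unusedSimpArgs false

/-!
# The field automorphism of an automorphism of `PΩ(Q)` (helper17)
-/

namespace Cfsg.Agent.Helper17.OrthOut

open QuadraticMap Matrix MulAction Cfsg.Agent.Helper28.WittQuad Cfsg.Agent.Helper2.Orth
  Cfsg.Agent.Helper17.OrthAut
open scoped Pointwise

variable {F : Type*} [Field F] [Fintype F] {ι : Type} [Fintype ι] [DecidableEq ι]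
  {Q : QuadraticForm F (ι → F)}

/-- the standing hypotheses under which `Aut(PΩ(Q))` is the image of `PΓO(Q)` -/
structure Good (Q : QuadraticForm F (ι → F)) : Prop where
  nondeg : (polarBilin Q).Nondegenerate
  hex : Fintype.card F ≠ 2 ∨ Fintype.card ι ≠ 4
  frame : ∃ e f : Fin 3 → (ι → F), HypFrame Q e f
  hmax : NoBigMax Q

theorem stdAut_congr {g g' : GL ι F} {σ σ' : F ≃+* F} (hg : g = g') (hσ : σ = σ')
    (h : Cfsg.IsSemisimilarityPair (⇑Q) g σ) (h' : Cfsg.IsSemisimilarityPair (⇑Q) g' σ') :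
    stdAut h = stdAut h' := by
  subst hg
  subst hσ
  rfl

namespace Good

theorem exists_frame2 (G : Good Q) : ∃ e f : Fin 2 → (ι → F), HypFrame Q e f := by
  obtain ⟨e, f, fr⟩ := G.frame
  exact ⟨_, _, fr.comp Fin.castSucc (Fin.castSucc_injective 2)⟩

theorem exists_stdAut (G : Good Q) (α : MulAut (Cfsg.POmega F (⇑Q))) :
    ∃ (g : GL ι F) (σ : F ≃+* F) (h : Cfsg.IsSemisimilarityPair (⇑Q) g σ), α = stdAut h := by
  obtain ⟨e, f, fr⟩ := G.frame
  exact OrthOut.exists_stdAut G.nondeg G.hex fr G.hmax α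

theorem stdAut_eq_imp (G : Good Q) {g g' : GL ι F} {σ σ' : F ≃+* F}
    (h : Cfsg.IsSemisimilarityPair (⇑Q) g σ) (h' : Cfsg.IsSemisimilarityPair (⇑Q) g' σ')
    (heq : stdAut h = stdAut h') :
    σ = σ' ∧ ∃ a : F, (g' : Matrix ι ι F) = a • (g : Matrix ι ι F) := by
  obtain ⟨e, f, fr⟩ := G.exists_frame2
  exact OrthOut.stdAut_eq_imp G.nondeg G.hex fr h h' heq

/-- the field automorphism of an automorphism -/
noncomputable def fieldOf (G : Good Q) (α : MulAut (Cfsg.POmega F (⇑Q))) : RingAut F :=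
  (G.exists_stdAut α).choose_spec.choose

theorem fieldOf_stdAut (G : Good Q) {g : GL ι F} {σ : F ≃+* F}
    (h : Cfsg.IsSemisimilarityPair (⇑Q) g σ) : G.fieldOf (stdAut h) = σ := by
  obtain ⟨h', heq⟩ := (G.exists_stdAut (stdAut h)).choose_spec.choose_spec
  exact ((G.stdAut_eq_imp h h' heq).1).symm

/-- the homomorphism to the automorphism group of the field -/
noncomputable def fieldHom (G : Good Q) : MulAut (Cfsg.POmega F (⇑Q)) →* RingAut F where
  toFun := G.fieldOf
  map_one' := by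
    rw [← stdAut_one, G.fieldOf_stdAut]
    rfl
  map_mul' α β := by
    obtain ⟨g, σ, h, rfl⟩ := G.exists_stdAut α
    obtain ⟨g', σ', h', rfl⟩ := G.exists_stdAut β
    rw [stdAut_mul, G.fieldOf_stdAut, G.fieldOf_stdAut, G.fieldOf_stdAut]

theorem fieldHom_stdAut (G : Good Q) {g : GL ι F} {σ : F ≃+* F}
    (h : Cfsg.IsSemisimilarityPair (⇑Q) g σ) : G.fieldHom (stdAut h) = σ :=
  G.fieldOf_stdAut h

theorem mem_ker_fieldHom (G : Good Q) (α : MulAut (Cfsg.POmega F (⇑Q))) :
    α ∈ G.fieldHom.ker ↔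
      ∃ (g : GL ι F) (h : Cfsg.IsSemisimilarityPair (⇑Q) g (RingEquiv.refl F)), α = stdAut h := by
  constructor
  · intro hα
    obtain ⟨g, σ, h, rfl⟩ := G.exists_stdAut α
    rw [MonoidHom.mem_ker, G.fieldHom_stdAut] at hα
    have hσ : σ = RingEquiv.refl F := hα
    subst hσ
    exact ⟨g, h, rfl⟩
  · rintro ⟨g, h, rfl⟩
    rw [MonoidHom.mem_ker, G.fieldHom_stdAut]
    rfl

end Good

end Cfsg.Agent.Helper17.OrthOut
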