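import Mathlib
import Cfsg.Agent.Lib.Helper17.OrthOut5
import Cfsg.Agent.Lib.Helper17.ConfAut9

set_option autoImplicit false
set_option linter.unusedSectionVars false
set_option linter.unusedSimpArgs false

/-!
# The kernel of the field homomorphism is the image of the similarity group (helper17)
-/

namespace Cfsg.Agent.Helper17.OrthOut

open QuadraticMap Matrix MulAction Cfsg.Agent.Helper28.WittQuad Cfsg.Agent.Helper2.Orth
  Cfsg.Agent.Helper17.OrthAut
open scoped Pointwise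

variable {F : Type*} [Field F] [Fintype F] {ι : Type} [Fintype ι] [DecidableEq ι]
  {Q : QuadraticForm F (ι → F)}

theorem isSemisim_refl_iff (g : GL ι F) :
    Cfsg.IsSemisimilarityPair (⇑Q) g (RingEquiv.refl F) ↔ g ∈ ConfAut.GO (⇑Q) := by
  constructor
  · rintro ⟨c, hc⟩
    exact ⟨c, fun v => by simpa using hc v⟩
  · rintro ⟨c, hc⟩
    exact ⟨c, fun v => by simpa using hc v⟩

theorem stdAut_refl_eq_Phi {g : GL ι F}
    (h : Cfsg.IsSemisimilarityPair (⇑Q) g (RingEquiv.refl F)) :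
    stdAut h = ConfAut.Phi (⇑Q) ⟨g, (isSemisim_refl_iff g).1 h⟩ :=
  (ConfAut.isInduced_iff (⇑Q) ((isSemisim_refl_iff g).1 h) (stdAut h)).1 (stdAut_induced h)

namespace Good

theorem ker_fieldHom (G : Good Q) : G.fieldHom.ker = ConfAut.PG Q := by
  ext α
  rw [G.mem_ker_fieldHom]
  constructor
  · rintro ⟨g, h, rfl⟩
    rw [stdAut_refl_eq_Phi]
    exact ⟨_, rfl⟩
  · rintro ⟨g, rfl⟩
    refine ⟨g.1, (isSemisim_refl_iff g.1).2 g.2, ?_⟩
    rw [stdAut_refl_eq_Phi]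

theorem fieldHom_surjective (G : Good Q)
    (hσ : ∀ σ : F ≃+* F, ∃ g : GL ι F, Cfsg.IsSemisimilarityPair (⇑Q) g σ) :
    Function.Surjective G.fieldHom := by
  intro σ
  obtain ⟨g, h⟩ := hσ σ
  exact ⟨stdAut h, G.fieldHom_stdAut h⟩

theorem card_mulAut (G : Good Q)
    (hσ : ∀ σ : F ≃+* F, ∃ g : GL ι F, Cfsg.IsSemisimilarityPair (⇑Q) g σ) :
    Nat.card (MulAut (Cfsg.POmega F (⇑Q))) = Nat.card (RingAut F) * Nat.card (ConfAut.PG Q) := by
  have h1 := Subgroup.card_eq_card_quotient_mul_card_subgroup G.fieldHom.ker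
  rw [Nat.card_congr (QuotientGroup.quotientKerEquivOfSurjective _
    (G.fieldHom_surjective hσ)).toEquiv, G.ker_fieldHom] at h1
  exact h1

theorem inn_le_ker (G : Good Q) : Cfsg.Inn (Cfsg.POmega F (⇑Q)) ≤ G.fieldHom.ker := by
  rw [G.ker_fieldHom, ConfAut.inn_eq]
  rintro _ ⟨k, -, rfl⟩
  exact ⟨k, rfl⟩

end Good

end Cfsg.Agent.Helper17.OrthOut
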