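import Mathlib
import Cfsg.Agent.Lib.Helper17.OrthOut6

set_option autoImplicit false
set_option linter.unusedSectionVars false
set_option linter.unusedSimpArgs false

/-!
# The centre of `PΩ(Q)` is trivial; order of the inner automorphism group (helper17)
-/

namespace Cfsg.Agent.Helper17.OrthOut

open QuadraticMap Matrix MulAction Cfsg.Agent.Helper28.WittQuad Cfsg.Agent.Helper2.Orth
  Cfsg.Agent.Helper17.OrthAut
open scoped Pointwise

variable {F : Type*} [Field F] [Fintype F] {ι : Type} [Fintype ι] [DecidableEq ι]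
  {Q : QuadraticForm F (ι → F)}

theorem isSemisim_of_mem_isometry {s : GL ι F} (hs : s ∈ Cfsg.isometryGroup F (⇑Q)) :
    Cfsg.IsSemisimilarityPair (⇑Q) s (RingEquiv.refl F) :=
  (isSemisim_refl_iff s).2 (ConfAut.isometryGroup_le_GO (⇑Q) hs)

/-- conjugation by an element of `Ω` is the standard automorphism of its matrix -/
theorem conj_eq_stdAut (s : Cfsg.Omega F (⇑Q)) :
    MulAut.conj (QuotientGroup.mk s : Cfsg.POmega F (⇑Q)) =
      stdAut (isSemisim_of_mem_isometry (Q := Q) s.1.2) := by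
  rw [stdAut_refl_eq_Phi, ← ConfAut.Phi_omegaToGO]
  rfl

namespace Good

/-- the centre of `PΩ(Q)` is trivial -/
theorem center_eq_bot (G : Good Q) : Subgroup.center (Cfsg.POmega F (⇑Q)) = ⊥ := by
  rw [eq_bot_iff]
  intro x hx
  obtain ⟨s, rfl⟩ := QuotientGroup.mk_surjective x
  rw [Subgroup.mem_bot, QuotientGroup.eq_one_iff]
  have h1 : MulAut.conj (QuotientGroup.mk s : Cfsg.POmega F (⇑Q)) = 1 := by
    ext y
    rw [MulAut.conj_apply, MulAut.one_apply, ← Subgroup.mem_center_iff.1 hx y]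
    group
  rw [conj_eq_stdAut, ← stdAut_one] at h1
  obtain ⟨-, a, ha⟩ := G.stdAut_eq_imp _ _ h1
  rw [Units.val_one] at ha
  -- `s` is a scalar matrix, hence central
  rw [Subgroup.mem_center_iff]
  intro t
  apply Subtype.ext
  apply Subtype.ext
  apply Units.ext
  have hs : ((((s : Cfsg.Omega F (⇑Q)) : Cfsg.isometryGroup F (⇑Q)) : GL ι F) : Matrix ι ι F) =
      a⁻¹ • (1 : Matrix ι ι F) := by
    have hne : Nonempty ι := by
      obtain ⟨e, f, fr⟩ := G.frame
      by_contra hne
      rw [not_nonempty_iff] at hne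
      exact frame_e_ne_zero fr 0 (Subsingleton.elim _ _)
    have ha0 : a ≠ 0 := by
      rintro rfl
      rw [zero_smul] at ha
      exact one_ne_zero ha
    rw [ha, smul_smul, inv_mul_cancel₀ ha0, one_smul]
  show ((((t * s : Cfsg.Omega F (⇑Q)) : Cfsg.isometryGroup F (⇑Q)) : GL ι F) : Matrix ι ι F) =
    ((((s * t : Cfsg.Omega F (⇑Q)) : Cfsg.isometryGroup F (⇑Q)) : GL ι F) : Matrix ι ι F)
  simp only [Subgroup.coe_mul, Units.val_mul, hs, Matrix.mul_smul, Matrix.smul_mul, Matrix.mul_one,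
    Matrix.one_mul]

theorem card_inn (G : Good Q) :
    Nat.card (Cfsg.Inn (Cfsg.POmega F (⇑Q))) = Nat.card (Cfsg.POmega F (⇑Q)) := by
  have hinj : Function.Injective (MulAut.conj : Cfsg.POmega F (⇑Q) →* MulAut _) := by
    rw [injective_iff_map_eq_one]
    intro x hx
    have h1 : x ∈ Subgroup.center (Cfsg.POmega F (⇑Q)) := by
      rw [Subgroup.mem_center_iff]
      intro y
      have h2 := congrArg (fun φ : MulAut (Cfsg.POmega F (⇑Q)) => φ y) hx
      simp only [MulAut.conj_apply, MulAut.one_apply] at h2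
      have h3 : x * y = y * x := by
        have := congrArg (fun z => z * x) h2
        simpa using this
      exact h3.symm
    rw [G.center_eq_bot, Subgroup.mem_bot] at h1
    exact h1
  exact (Nat.card_congr (MonoidHom.ofInjective hinj).toEquiv).symm

/-- the order of the automorphism group in terms of the image of the similarity group -/
theorem card_mulAut' (G : Good Q)
    (hσ : ∀ σ : F ≃+* F, ∃ g : GL ι F, Cfsg.IsSemisimilarityPair (⇑Q) g σ) :
    Nat.card (MulAut (Cfsg.POmega F (⇑Q))) =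
      (Cfsg.Inn (Cfsg.POmega F (⇑Q))).relIndex (ConfAut.PG Q) * Nat.card (RingAut F) *
        Nat.card (Cfsg.POmega F (⇑Q)) := by
  have hle : Cfsg.Inn (Cfsg.POmega F (⇑Q)) ≤ ConfAut.PG Q := by
    rw [← G.ker_fieldHom]
    exact G.inn_le_ker
  have h1 := Subgroup.relIndex_mul_relIndex ⊥ (Cfsg.Inn (Cfsg.POmega F (⇑Q))) (ConfAut.PG Q)
    bot_le hle
  rw [Subgroup.relIndex_bot_left, Subgroup.relIndex_bot_left, G.card_inn] at h1
  rw [G.card_mulAut hσ, ← h1]
  ring

end Good

end Cfsg.Agent.Helper17.OrthOut
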