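import Mathlib
import Cfsg.Agent.Lib.Helper17.OrthOut12

set_option autoImplicit false
set_option linter.unusedSectionVars false
set_option linter.unusedSimpArgs false

/-!
# Minus type: the standing hypotheses and surjectivity of the field homomorphism (helper17)
-/

namespace Cfsg.Agent.Helper17.OrthOut

open QuadraticMap Matrix Cfsg.Agent.Helper17.OrthAut Cfsg.Agent.Helper13
  Cfsg.Agent.Helper17.ConfAut Cfsg.Agent.Helper17.Spinor

variable {F : Type*} [Field F] [Fintype F]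

theorem card_minusIdx (n : ℕ) : Fintype.card ((Fin n ⊕ Fin n) ⊕ Fin 2) = 2 * (n + 1) := by
  simp only [Fintype.card_sum, Fintype.card_fin]
  omega

theorem good_minus (k : ℕ) (a b : F)
    (hab : ∀ z₁ z₂ : F, z₁ ^ 2 + a * z₁ * z₂ + b * z₂ ^ 2 = 0 → z₁ = 0 ∧ z₂ = 0) :
    Good (minusQ (k + 3) a b) where
  nondeg := Cfsg.Agent.Helper2.Orth.nondeg_minus (k + 3) a b hab
  hex := by
    right
    rw [card_minusIdx]
    omega
  frame := ⟨_, _, Cfsg.Agent.Helper2.Orth.hypFrame_minus k a b⟩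
  hmax := noBigMax_minus (k + 3) a b hab

theorem isSquare_map_iff (σ : F ≃+* F) (x : F) : IsSquare (σ x) ↔ IsSquare x := by
  constructor
  · rintro ⟨r, hr⟩
    refine ⟨σ.symm r, ?_⟩
    rw [← map_mul, ← hr, RingEquiv.symm_apply_apply]
  · rintro ⟨r, rfl⟩
    exact ⟨σ r, map_mul σ r r⟩

theorem exists_semisim_minus_odd (h2 : (2 : F) ≠ 0) (n : ℕ) (a b : F)
    (hab : ∀ z₁ z₂ : F, z₁ ^ 2 + a * z₁ * z₂ + b * z₂ ^ 2 = 0 → z₁ = 0 ∧ z₂ = 0)
    (σ : F ≃+* F) :
    ∃ g : GL ((Fin n ⊕ Fin n) ⊕ Fin 2) F, Cfsg.IsSemisimilarityPair (⇑(minusQ n a b)) g σ := by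
  classical
  have hD := disc_nonsquare h2 a b hab
  have hD' : ¬ IsSquare ((σ a) ^ 2 - 4 * σ b) := by
    have : (σ a) ^ 2 - 4 * σ b = σ (a ^ 2 - 4 * b) := by
      simp only [map_sub, map_mul, map_pow, map_ofNat]
    rw [this, isSquare_map_iff]
    exact hD
  obtain ⟨M, hM⟩ := exists_bin_iso_odd h2 a b (σ a) (σ b) hD hD'
  exact ⟨blockGL n 1 M, isSemisim_block n a b σ M hM⟩

/-- every automorphism of a finite field of characteristic two is a power of the squaring map -/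
theorem exists_pow_frob [CharP F 2] (σ₀ : RingAut F) (hσ₀ : ∀ t, σ₀ t = t * t)
    (σ : RingAut F) : ∃ n : ℕ, σ = σ₀ ^ n := by
  let _ : Algebra (ZMod 2) F := ZMod.algebra F 2
  have hpow : ∀ (n : ℕ) (x : F), (σ₀ ^ n) x = x ^ (2 ^ n) := by
    intro n
    induction n with
    | zero => intro x; simp
    | succ n ih =>
      intro x
      rw [pow_succ, RingAut.mul_apply, hσ₀, ih, ← pow_two, ← pow_mul, pow_succ, mul_comm]
  obtain ⟨τ, hτ⟩ : ∃ τ : F ≃ₐ[ZMod 2] F, ∀ x, τ x = σ x := by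
    refine ⟨AlgEquiv.ofRingEquiv (f := σ) ?_, fun x => rfl⟩
    intro x
    have h3 : ((σ : F →+* F).comp (algebraMap (ZMod 2) F)) = algebraMap (ZMod 2) F :=
      Subsingleton.elim _ _
    exact RingHom.congr_fun h3 x
  obtain ⟨n, hn⟩ := (FiniteField.bijective_frobeniusAlgEquivOfAlgebraic_pow (ZMod 2) F).2 τ
  refine ⟨n.1, ?_⟩
  ext x
  rw [hpow, ← hτ, ← hn]
  change ((FiniteField.frobeniusAlgEquivOfAlgebraic (ZMod 2) F) ^ n.1) x = _
  rw [AlgEquiv.coe_pow, FiniteField.coe_frobeniusAlgEquivOfAlgebraic_iterate, ZMod.card]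

/-- in characteristic two the middle coefficient of an anisotropic binary form is non-zero -/
theorem a_ne_zero_of_aniso [CharP F 2] (a b : F)
    (hab : ∀ z₁ z₂ : F, z₁ ^ 2 + a * z₁ * z₂ + b * z₂ ^ 2 = 0 → z₁ = 0 ∧ z₂ = 0) : a ≠ 0 := by
  rintro rfl
  obtain ⟨r, hr⟩ := isSquare_of_charTwo' b
  have h := hab r 1 (by
    rw [hr]
    have h2 : (2 : F) = 0 := CharTwo.two_eq_zero
    linear_combination (r * r) * h2)
  exact one_ne_zero h.2

/-- the squaring automorphism -/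
noncomputable def sqAut (F : Type*) [Field F] [Fintype F] [CharP F 2] : RingAut F :=
  frobeniusEquiv F 2

theorem sqAut_apply [CharP F 2] (t : F) : sqAut F t = t * t := by
  unfold sqAut
  rw [frobeniusEquiv_apply, frobenius_def, pow_two]

/-- the Frobenius matrix of the anisotropic plane -/
noncomputable def frobM (a b : F) (ha : a ≠ 0) : GL (Fin 2) F :=
  Matrix.GeneralLinearGroup.mkOfDetNeZero !![1, b; 0, a] (by
    rw [Matrix.det_fin_two_of]
    simpa using ha)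

theorem isSemisim_frob [CharP F 2] (n : ℕ) (a b : F) (ha : a ≠ 0) :
    Cfsg.IsSemisimilarityPair (⇑(minusQ n a b)) (blockGL n 1 (frobM a b ha)) (sqAut F) := by
  apply isSemisim_block
  intro w
  rw [sqAut_apply, sqAut_apply]
  exact binN_frob a b w

theorem exists_semisim_minus_two [CharP F 2] (n : ℕ) (a b : F)
    (hab : ∀ z₁ z₂ : F, z₁ ^ 2 + a * z₁ * z₂ + b * z₂ ^ 2 = 0 → z₁ = 0 ∧ z₂ = 0)
    (σ : F ≃+* F) :
    ∃ g : GL ((Fin n ⊕ Fin n) ⊕ Fin 2) F, Cfsg.IsSemisimilarityPair (⇑(minusQ n a b)) g σ := by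
  have ha := a_ne_zero_of_aniso a b hab
  obtain ⟨k, hk⟩ := exists_pow_frob (sqAut F) sqAut_apply σ
  have key : ∀ k : ℕ, ∃ g : GL ((Fin n ⊕ Fin n) ⊕ Fin 2) F,
      Cfsg.IsSemisimilarityPair (⇑(minusQ n a b)) g ((sqAut F ^ k : RingAut F)) := by
    intro k
    induction k with
    | zero => exact ⟨1, isSemisim_one⟩
    | succ k ih =>
      obtain ⟨g, hg⟩ := ih
      rw [pow_succ]
      exact ⟨_, isSemisim_mul hg (isSemisim_frob n a b ha)⟩
  obtain ⟨g, hg⟩ := key k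
  have hσ : σ = (sqAut F ^ k : RingAut F) := hk
  rw [hσ]
  exact ⟨g, hg⟩

end Cfsg.Agent.Helper17.OrthOut
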