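import Mathlib
import Cfsg.Agent.Lib.Helper17.OrthOut13

set_option autoImplicit false
set_option linter.unusedSectionVars false
set_option linter.unusedSimpArgs false

/-!
# The index of `Inn` in the image of the similarity group (helper17)
-/

namespace Cfsg.Agent.Helper17.OrthOut

open QuadraticMap Matrix Cfsg.Agent.Helper17.OrthAut Cfsg.Agent.Helper13
  Cfsg.Agent.Helper17.ConfAut Cfsg.Agent.Helper17.Spinor

theorem relIndex_of_hom {A X : Type*} [Group A] [Group X] (K N : Subgroup A) (φ : ↥K →* X)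
    (hs : Function.Surjective φ) (hk : φ.ker = N.subgroupOf K) :
    N.relIndex K = Nat.card X := by
  rw [Subgroup.relIndex, ← hk, Subgroup.index_ker, MonoidHom.range_eq_top.2 hs, Subgroup.card_top]

variable {F : Type*} [Field F] [Fintype F] {ι : Type} [Fintype ι] [DecidableEq ι]
  {Q : QuadraticForm F (ι → F)}

theorem Phi_of_scalar (g : ↥(GO (⇑Q))) (hg : (g : GL ι F) ∈ Cfsg.Geo.scalars ι F) :
    Phi (⇑Q) g = 1 := by
  ext x
  induction x using QuotientGroup.induction_on with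
  | H s =>
    obtain ⟨s', hs', hs'c⟩ := Phi_mk_coe (⇑Q) g s
    rw [hs', MulAut.one_apply]
    congr 1
    apply Subtype.ext
    apply Subtype.ext
    rw [hs'c, scalar_mul_comm hg]

theorem Good.exists_Q_ne_zero (G : Good Q) : ∃ v : ι → F, Q v ≠ 0 := by
  obtain ⟨e, f, fr⟩ := G.frame
  refine ⟨e 0 + f 0, ?_⟩
  rw [Cfsg.Agent.Helper2.Orth.Q_add', fr.qe, fr.qf, fr.ef]
  simp

section char2
variable [CharP F 2]

/-- in characteristic two the image of the similarity group contains `Inn` with index two -/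
theorem Good.relIndex_inn_PG_two (G : Good Q) :
    (Cfsg.Inn (Cfsg.POmega F (⇑Q))).relIndex (PG Q) = 2 := by
  obtain ⟨v₀, hv₀⟩ := G.exists_Q_ne_zero
  let ψ : ↥(Cfsg.isometryGroup F (⇑Q)) →* MulAut (Cfsg.POmega F (⇑Q)) :=
    (Phi (⇑Q)).comp (iO Q)
  have hψ : ∀ o, ψ o = Phi (⇑Q) (iO Q o) := fun _ => rfl
  -- injectivity
  have hinj : Function.Injective ψ := by
    rw [injective_iff_map_eq_one]
    intro o ho
    rw [hψ] at ho
    have h1 : stdAut (isSemisim_of_mem_isometry (Q := Q) o.2) = stdAut (isSemisim_one (Q := Q)) := by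
      rw [stdAut_refl_eq_Phi, stdAut_one]
      exact ho
    obtain ⟨-, a, ha⟩ := G.stdAut_eq_imp _ _ h1
    rw [Units.val_one] at ha
    have ha0 : a ≠ 0 := by
      rintro rfl
      rw [zero_smul] at ha
      have h3 := congrArg (fun M : Matrix ι ι F => M *ᵥ v₀) ha
      simp only [Matrix.one_mulVec, Matrix.zero_mulVec] at h3
      rw [h3] at hv₀
      exact hv₀ (map_zero Q)
    have ho1 : ((o : GL ι F) : Matrix ι ι F) = a⁻¹ • (1 : Matrix ι ι F) := by
      rw [ha, smul_smul, inv_mul_cancel₀ ha0, one_smul]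
    have h4 := (Cfsg.Agent.Helper2.Orth.mem_isometryGroup_iff Q (o : GL ι F)).1 o.2 v₀
    rw [ho1, Matrix.smul_mulVec, Matrix.one_mulVec, QuadraticMap.map_smul, smul_eq_mul] at h4
    have h5 : a⁻¹ * a⁻¹ = 1 := by
      have : (a⁻¹ * a⁻¹ - 1) * Q v₀ = 0 := by rw [sub_mul, h4]; ring
      rcases mul_eq_zero.1 this with h | h
      · exact sub_eq_zero.1 h
      · exact absurd h hv₀
    have h6 : a⁻¹ = 1 := by
      have h2 : (2 : F) = 0 := CharTwo.two_eq_zero
      have : (a⁻¹ - 1) * (a⁻¹ - 1) = 0 := by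
        linear_combination h5 + (1 - a⁻¹) * h2
      rcases mul_eq_zero.1 this with h | h <;> exact sub_eq_zero.1 h
    apply Subtype.ext
    apply Units.ext
    rw [ho1, h6, one_smul]
    rfl
  -- the range
  have hrange : (⊤ : Subgroup ↥(Cfsg.isometryGroup F (⇑Q))).map ψ = PG Q := by
    apply le_antisymm
    · rintro _ ⟨o, -, rfl⟩
      exact ⟨iO Q o, rfl⟩
    · rintro _ ⟨g, rfl⟩
      obtain ⟨c, hc0, hc⟩ := exists_isMult g
      obtain ⟨s, hs⟩ := isSquare_of_charTwo' c
      have hs0 : s ≠ 0 := by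
        rintro rfl
        rw [mul_zero] at hs
        exact hc0 hs
      set u : Fˣ := Units.mk0 s hs0 with hu
      have h1 : IsMult Q ((scalarGL u⁻¹ : GL ι F) * (g : GL ι F)) 1 := by
        have := (isMult_scalarGL (Q := Q) u⁻¹).mul hc
        have e1 : ((u⁻¹ : Fˣ) : F) ^ 2 * c = 1 := by
          rw [Units.val_inv_eq_inv_val, hu, Units.val_mk0, hs]
          field_simp
        rwa [e1] at this
      have ho : (scalarGL u⁻¹ : GL ι F) * (g : GL ι F) ∈ Cfsg.isometryGroup F (⇑Q) :=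
        isMult_one_iff.1 h1
      refine ⟨⟨_, ho⟩, trivial, ?_⟩
      rw [hψ]
      have h2 : iO Q ⟨_, ho⟩ = (⟨scalarGL u⁻¹, scalarGL_mem_GO u⁻¹⟩ : ↥(GO (⇑Q))) * g := by
        apply Subtype.ext
        rfl
      rw [h2, map_mul, Phi_of_scalar _ (scalarGL_mem u⁻¹), one_mul]
  have hinn : (Cfsg.Omega F (⇑Q)).map ψ = Cfsg.Inn (Cfsg.POmega F (⇑Q)) := by
    rw [inn_eq]
    ext α
    constructor
    · rintro ⟨o, ho, rfl⟩
      refine ⟨iO Q o, Subgroup.mem_subgroupOf.2 ?_, rfl⟩
      unfold Cfsg.Geo.omegaGL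
      exact ⟨o, ho, rfl⟩
    · rintro ⟨g, hg, rfl⟩
      have hg' := Subgroup.mem_subgroupOf.1 hg
      unfold Cfsg.Geo.omegaGL at hg'
      obtain ⟨o, ho, hog⟩ := hg'
      refine ⟨o, ho, ?_⟩
      rw [hψ]
      congr 1
      apply Subtype.ext
      exact hog
  rw [← hrange, ← hinn, Subgroup.relIndex_map_map_of_injective _ _ hinj, Subgroup.relIndex_top_right]
  exact index_Omega_char_two Q G.nondeg G.hex hv₀

end char2

end Cfsg.Agent.Helper17.OrthOut
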