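import Mathlib
import Cfsg.Agent.Lib.Helper17.OrthOut14

set_option autoImplicit false
set_option linter.unusedSectionVars false
set_option linter.unusedSimpArgs false

/-!
# Minus type, odd characteristic: the index of `Inn` in the image of the similarity group
(helper17)
-/

namespace Cfsg.Agent.Helper17.OrthOut

open QuadraticMap Matrix Cfsg.Agent.Helper17.OrthAut Cfsg.Agent.Helper13
  Cfsg.Agent.Helper17.ConfAut Cfsg.Agent.Helper17.Spinor

variable {F : Type*} [Field F] [Fintype F]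

section
variable (k : ℕ) (hodd : Odd (Fintype.card F)) (a b : F)
  (hab : ∀ z₁ z₂ : F, z₁ ^ 2 + a * z₁ * z₂ + b * z₂ ^ 2 = 0 → z₁ = 0 ∧ z₂ = 0)

local notation "Qm" => minusQ (k + 2) a b
local notation "Im" => (Fin (k + 2) ⊕ Fin (k + 2)) ⊕ Fin 2

include hodd hab

theorem minus_PG_structure :
    ((Even (k + 2) ∧ Fintype.card F % 4 = 3) →
      ∃ φ : ↥(PG Qm) →* DihedralGroup 4,
        Function.Surjective φ ∧ φ.ker = (POm Qm).subgroupOf (PG Qm)) ∧
    (¬ (Even (k + 2) ∧ Fintype.card F % 4 = 3) →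
      (∃ φ : ↥(PG Qm) →* Multiplicative (ZMod 2 × ZMod 2),
        Function.Surjective φ ∧ φ.ker = (POm Qm).subgroupOf (PG Qm)) ∧ POm Qm = ConfAut.PSO Qm) := by
  classical
  have h2 := ConfAut.two_ne_zero_of_odd_card hodd
  have hQ := Cfsg.Agent.Helper2.Orth.nondeg_minus (m := k + 2) a b hab
  have hT := Cfsg.Agent.Helper2.Orth.twoHyp_minus (F := F) k a b
  have hcard : Even (Fintype.card Im) := by rw [card_minus_eq k]; exact even_two_mul _
  have hnegiff := negGL_mem_minus_iff hodd (k + 2) a b hab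
  obtain ⟨lam, hlam⟩ := exists_nonsquare_unit hodd
  obtain ⟨s, t, hst⟩ := exists_binN_eq a b h2 hab (lam := (lam : F)) lam.ne_zero
  have hδm := delta1_mem (k + 2) a b lam s t hst
  set δ : ↥(GO (⇑Qm)) := ⟨delta1 (k + 2) a b lam s t hst, dClassGO_le_GO hδm⟩ with hδ
  have hδ' : IsMult Qm (δ : GL Im F) (lam : F) := isMult_delta1 (k + 2) a b lam s t hst
  constructor
  · intro hc
    exact d4_PG_POm h2 hQ hT hcard hδ' hlam (hnegiff.2 hc)
  · intro hc
    have hneg : (negGL : GL Im F) ∉ Cfsg.Geo.omegaGL (⇑Qm) := fun h => hc (hnegiff.1 h)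
    exact ⟨klein_PG_POm h2 hQ hT hcard hδ' hlam hneg,
      le_antisymm (POm_le_PSO Qm) (PSO_le_POm_of_not_mem h2 hQ hT hcard hneg)⟩

theorem relIndex_inn_PG_minus_odd :
    (Cfsg.Inn (Cfsg.POmega F (⇑Qm))).relIndex (PG Qm) =
      if (Even (k + 2) ∧ Fintype.card F % 4 = 3) then 8 else 4 := by
  classical
  obtain ⟨h1, h2'⟩ := minus_PG_structure k hodd a b hab
  rw [inn_eq]
  split_ifs with hc
  · obtain ⟨φ, hs, hk⟩ := h1 hc
    rw [relIndex_of_hom _ _ φ hs hk, DihedralGroup.nat_card]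
  · obtain ⟨⟨φ, hs, hk⟩, -⟩ := h2' hc
    rw [relIndex_of_hom _ _ φ hs hk, Nat.card_eq_fintype_card]
    rfl

end

end Cfsg.Agent.Helper17.OrthOut
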