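import Mathlib
import Cfsg.Agent.Lib.Helper17.OrthOut15

set_option autoImplicit false
set_option linter.unusedSectionVars false
set_option linter.unusedSimpArgs false

/-!
# Characteristic two, minus type: powers of the Frobenius semisimilarity (helper17)
-/

namespace Cfsg.Agent.Helper17.OrthOut

open QuadraticMap Matrix Cfsg.Agent.Helper17.OrthAut Cfsg.Agent.Helper13
  Cfsg.Agent.Helper17.ConfAut Cfsg.Agent.Helper17.Spinor

variable {F : Type*} [Field F]

theorem map_blockGL (n : ℕ) (σ : F →+* F) (A : GL (Fin n ⊕ Fin n) F) (M : GL (Fin 2) F) :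
    Matrix.GeneralLinearGroup.map σ (blockGL n A M) =
      blockGL n (Matrix.GeneralLinearGroup.map σ A) (Matrix.GeneralLinearGroup.map σ M) := by
  apply Units.ext
  rw [blockGL_coe]
  show (Matrix.fromBlocks _ _ _ _).map σ = _
  rw [Matrix.fromBlocks_map]
  simp only [Matrix.map_zero, map_zero]
  rfl

theorem blockGL_one (n : ℕ) : blockGL n (1 : GL (Fin n ⊕ Fin n) F) (1 : GL (Fin 2) F) = 1 := by
  apply Units.ext
  rw [blockGL_coe]
  simp [Matrix.fromBlocks_one]

/-- an upper triangular invertible matrix -/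
noncomputable def triGL (c d : F) (hd : d ≠ 0) : GL (Fin 2) F :=
  Matrix.GeneralLinearGroup.mkOfDetNeZero !![1, c; 0, d] (by
    rw [Matrix.det_fin_two_of]
    simpa using hd)

theorem triGL_coe (c d : F) (hd : d ≠ 0) :
    ((triGL c d hd : GL (Fin 2) F) : Matrix (Fin 2) (Fin 2) F) = !![1, c; 0, d] := rfl

theorem triGL_zero_one : triGL (0 : F) 1 one_ne_zero = 1 := by
  apply Units.ext
  rw [triGL_coe]
  ext i j
  fin_cases i <;> fin_cases j <;> simp

section char2
variable [Fintype F] [CharP F 2] (a b : F)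

theorem mulMat_sq (s t : F) :
    mulMat a b s t * mulMat a b s t = mulMat a b (s * s + b * t * t) (a * t * t) := by
  have h2 : (2 : F) = 0 := CharTwo.two_eq_zero
  unfold mulMat
  rw [Matrix.mul_fin_two]
  ext i j
  fin_cases i <;> fin_cases j <;> simp
  · linear_combination (-b * t * t) * h2
  · linear_combination (-b * s * t) * h2
  · linear_combination (s * t) * h2
  · linear_combination (-b * t * t + a * s * t) * h2

theorem frobM_mul_map (ha : a ≠ 0) (c d : F) (hd : d ≠ 0) (hd' : a * d * d ≠ 0) :
    frobM a b ha * Matrix.GeneralLinearGroup.map ((sqAut F : F ≃+* F) : F →+* F) (triGL c d hd) =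
      triGL (c * c + b * d * d) (a * d * d) hd' := by
  apply Units.ext
  rw [Units.val_mul, triGL_coe]
  show (!![1, b; 0, a] : Matrix (Fin 2) (Fin 2) F) * (!![1, c; 0, d] : Matrix (Fin 2) (Fin 2) F).map
    ((sqAut F : F ≃+* F) : F →+* F) = _
  rw [show (!![1, c; 0, d] : Matrix (Fin 2) (Fin 2) F).map ((sqAut F : F ≃+* F) : F →+* F) =
    !![1, c * c; 0, d * d] by
      ext i j
      fin_cases i <;> fin_cases j <;> simp [sqAut_apply]]
  rw [Matrix.mul_fin_two]
  ext i j
  fin_cases i <;> fin_cases j <;> simp [mul_assoc]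

open Polynomial in
/-- the multiplication by the generator of the quadratic extension is not fixed by the `q`-th
power map -/
theorem theta_pow_ne
    (hab : ∀ z₁ z₂ : F, z₁ ^ 2 + a * z₁ * z₂ + b * z₂ ^ 2 = 0 → z₁ = 0 ∧ z₂ = 0) :
    (mulMat a b 0 1) ^ (Fintype.card F) ≠ mulMat a b 0 1 := by
  classical
  intro h
  have hq : 1 < Fintype.card F := Fintype.one_lt_card
  have hmonic : (X ^ Fintype.card F - X : F[X]).Monic :=
    monic_X_pow_sub (by rw [degree_X]; exact_mod_cast hq)
  have hpoly : ((Finset.univ : Finset F).toList.map (fun c => (X - C c : F[X]))).prod =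
      X ^ Fintype.card F - X := by
    rw [Finset.prod_map_toList]
    have h1 := prod_multiset_X_sub_C_of_monic_of_roots_card_eq hmonic (by
      rw [FiniteField.roots_X_pow_card_sub_X, FiniteField.X_pow_card_sub_X_natDegree_eq F hq]
      rfl)
    rw [FiniteField.roots_X_pow_card_sub_X] at h1
    exact h1
  have h1 := congrArg (Polynomial.aeval (mulMat a b 0 1)) hpoly
  rw [map_list_prod, List.map_map, map_sub, map_pow, aeval_X, h, sub_self] at h1
  have h2 := congrArg (Matrix.detMonoidHom (n := Fin 2) (R := F)) h1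
  rw [map_list_prod, List.map_map, Matrix.coe_detMonoidHom, Matrix.det_zero,
    List.prod_eq_zero_iff, List.mem_map] at h2
  obtain ⟨c, -, hc⟩ := h2
  have h3 : Polynomial.aeval (mulMat a b 0 1) (X - C c : F[X]) = mulMat a b (-c) 1 := by
    rw [map_sub, aeval_X, aeval_C]
    unfold mulMat
    ext i j
    fin_cases i <;> fin_cases j <;> simp [Algebra.algebraMap_eq_smul_one] <;> ring
  simp only [Function.comp_apply] at hc
  rw [h3, det_mulMat] at hc
  exact one_ne_zero (hab _ _ hc).2

end char2

end Cfsg.Agent.Helper17.OrthOut
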