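import Mathlib
import Cfsg.Agent.Lib.Helper17.OrthOut16

set_option autoImplicit false
set_option linter.unusedSectionVars false
set_option linter.unusedSimpArgs false

/-!
# Characteristic two, minus type: the `f`-th power of the Frobenius automorphism is not inner
(helper17)
-/

namespace Cfsg.Agent.Helper17.OrthOut

open QuadraticMap Matrix Cfsg.Agent.Helper17.OrthAut Cfsg.Agent.Helper13
  Cfsg.Agent.Helper17.ConfAut Cfsg.Agent.Helper17.Spinor

variable {F : Type*} [Field F] [Fintype F] [CharP F 2]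

theorem sqAut_pow_apply (i : ℕ) (x : F) : ((sqAut F) ^ i : RingAut F) x = x ^ (2 ^ i) := by
  induction i generalizing x with
  | zero => simp
  | succ i ih =>
    rw [pow_succ, RingAut.mul_apply, sqAut_apply, ih, ← pow_two, ← pow_mul, pow_succ, mul_comm]

theorem sqAut_pow_card {f : ℕ} (hF : Fintype.card F = 2 ^ f) :
    ((sqAut F) ^ f : RingAut F) = RingEquiv.refl F := by
  ext x
  rw [sqAut_pow_apply, ← hF, FiniteField.pow_card]
  rfl

section
variable (n : ℕ) (a b : F)

/-- the powers of the Frobenius automorphism -/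
theorem frob_pow (ha : a ≠ 0) (i : ℕ) :
    ∃ (c d : F) (hd : d ≠ 0), a * d = a ^ (2 ^ i) ∧
      c * c + a * c * d + b * d * d = b ^ (2 ^ i) ∧
      (mulMat a b 0 1) ^ (2 ^ i) = mulMat a b c d ∧
      ∃ h : Cfsg.IsSemisimilarityPair (⇑(minusQ n a b)) (blockGL n 1 (triGL c d hd))
          ((sqAut F) ^ i : RingAut F),
        (stdAut (isSemisim_frob n a b ha)) ^ i = stdAut h := by
  have h2 : (2 : F) = 0 := CharTwo.two_eq_zero
  induction i with
  | zero =>
    have hg : (1 : GL ((Fin n ⊕ Fin n) ⊕ Fin 2) F) = blockGL n 1 (triGL (0 : F) 1 one_ne_zero) := by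
      rw [triGL_zero_one, blockGL_one]
    have hσ : RingEquiv.refl F = ((sqAut F) ^ 0 : RingAut F) := (pow_zero _).symm
    have h0 : Cfsg.IsSemisimilarityPair (⇑(minusQ n a b)) (blockGL n 1 (triGL (0 : F) 1 one_ne_zero))
        ((sqAut F) ^ 0 : RingAut F) := by
      rw [← hg, ← hσ]
      exact isSemisim_one
    refine ⟨0, 1, one_ne_zero, by simp, by simp, by simp, h0, ?_⟩
    rw [pow_zero, ← stdAut_one]
    exact stdAut_congr hg hσ _ _
  | succ i ih =>
    obtain ⟨c, d, hd, e1, e2, e3, h, e4⟩ := ih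
    have hd' : a * d * d ≠ 0 := mul_ne_zero (mul_ne_zero ha hd) hd
    have hg : blockGL n 1 (frobM a b ha) *
        Matrix.GeneralLinearGroup.map ((sqAut F : F ≃+* F) : F →+* F) (blockGL n 1 (triGL c d hd)) =
        blockGL n 1 (triGL (c * c + b * d * d) (a * d * d) hd') := by
      rw [map_blockGL, blockGL_mul, map_one, one_mul, frobM_mul_map]
    have hσ : ((sqAut F) * (sqAut F) ^ i : RingAut F) = (sqAut F) ^ (i + 1) := (pow_succ' _ i).symm
    have h' : Cfsg.IsSemisimilarityPair (⇑(minusQ n a b))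
        (blockGL n 1 (triGL (c * c + b * d * d) (a * d * d) hd')) ((sqAut F) ^ (i + 1) : RingAut F) := by
      rw [← hg, ← hσ]
      exact isSemisim_mul (isSemisim_frob n a b ha) h
    refine ⟨c * c + b * d * d, a * d * d, hd', ?_, ?_, ?_, h', ?_⟩
    · calc a * (a * d * d) = (a * d) ^ 2 := by ring
        _ = a ^ (2 ^ (i + 1)) := by rw [e1, ← pow_mul, ← pow_succ]
    · have h3 : (c * c + b * d * d) * (c * c + b * d * d) + a * (c * c + b * d * d) * (a * d * d) +
          b * (a * d * d) * (a * d * d) = (c * c + a * c * d + b * d * d) ^ 2 := by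
        linear_combination (-(a * c ^ 3 * d + a * b * c * d ^ 3 - a ^ 2 * b * d ^ 4)) * h2
      rw [h3, e2, ← pow_mul, ← pow_succ]
    · rw [pow_succ, pow_mul, e3, pow_two, mulMat_sq]
    · rw [pow_succ', e4, stdAut_mul]
      exact stdAut_congr hg hσ _ _

end

section general
variable {ι : Type} [Fintype ι] [DecidableEq ι] {Q : QuadraticForm F (ι → F)}

/-- in characteristic two an isometry inducing an inner automorphism lies in `Ω` -/
theorem Good.isometry_mem_of_inn (G : Good Q) (o : ↥(Cfsg.isometryGroup F (⇑Q)))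
    (h : stdAut (isSemisim_of_mem_isometry (Q := Q) o.2) ∈ Cfsg.Inn (Cfsg.POmega F (⇑Q))) :
    o ∈ Cfsg.Omega F (⇑Q) := by
  obtain ⟨v₀, hv₀⟩ := G.exists_Q_ne_zero
  obtain ⟨x, hx⟩ := h
  obtain ⟨s, rfl⟩ := QuotientGroup.mk_surjective x
  rw [conj_eq_stdAut] at hx
  obtain ⟨-, c, hc⟩ := G.stdAut_eq_imp _ _ hx
  have h4 := (Cfsg.Agent.Helper2.Orth.mem_isometryGroup_iff Q (o : GL ι F)).1 o.2 v₀
  have h5 := (Cfsg.Agent.Helper2.Orth.mem_isometryGroup_iff Q
    ((s : ↥(Cfsg.isometryGroup F (⇑Q))) : GL ι F)).1 s.1.2 v₀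
  rw [hc, Matrix.smul_mulVec, QuadraticMap.map_smul, smul_eq_mul, h5] at h4
  have h6 : c * c = 1 := by
    have : (c * c - 1) * Q v₀ = 0 := by rw [sub_mul, h4]; ring
    rcases mul_eq_zero.1 this with h | h
    · exact sub_eq_zero.1 h
    · exact absurd h hv₀
  have h7 : c = 1 := by
    have h2 : (2 : F) = 0 := CharTwo.two_eq_zero
    have : (c - 1) * (c - 1) = 0 := by
      linear_combination h6 + (1 - c) * h2
    rcases mul_eq_zero.1 this with h | h <;> exact sub_eq_zero.1 h
  rw [h7, one_smul] at hc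
  have h8 : o = s.1 := by
    apply Subtype.ext
    apply Units.ext
    exact hc
  rw [h8]
  exact s.2

end general

section
variable (n : ℕ) (a b : F)

theorem blockGL_triGL_eq_tG :
    blockGL n 1 (triGL a 1 one_ne_zero) =
      ((tG (minusQ n a b) (Sum.elim 0 ![1, 0]) : ↥(Cfsg.isometryGroup F (⇑(minusQ n a b)))) :
        GL ((Fin n ⊕ Fin n) ⊕ Fin 2) F) := by
  have h2 : (2 : F) = 0 := CharTwo.two_eq_zero
  have hu : minusQ n a b (Sum.elim 0 ![1, 0]) ≠ 0 := by
    rw [minusQ_inr]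
    simp
  apply Units.ext
  rw [tG_coe _ hu, blockGL_coe, triGL_coe]
  apply Matrix.toLin'.injective
  apply LinearMap.ext
  intro x
  rw [Matrix.toLin'_apply, Matrix.toLin'_apply, reflectionMatrix_mulVec]
  have hx : x = Sum.elim (x ∘ Sum.inl) (x ∘ Sum.inr) := (Sum.elim_comp_inl_inr x).symm
  ext (i | k)
  · rw [refl_minusQ_inr_inl]
    conv_lhs => rw [hx, Matrix.fromBlocks_mulVec]
    simp
  · simp only [refl_minusQ_inr_inr]
    conv_lhs => rw [hx, Matrix.fromBlocks_mulVec]
    have e3 : (![1, 0] : Fin 2 → F) 0 = 1 := rfl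
    have e4 : (![1, 0] : Fin 2 → F) 1 = 0 := rfl
    rw [e3, e4]
    fin_cases k
    · simp [Matrix.mulVec, dotProduct, Fin.sum_univ_two]
      linear_combination (x (Sum.inr 0) + a * x (Sum.inr 1)) * h2
    · simp [Matrix.mulVec, dotProduct, Fin.sum_univ_two]

/-- the `f`-th power of the Frobenius automorphism is not inner -/
theorem frob_pow_card_notMem
    (hab : ∀ z₁ z₂ : F, z₁ ^ 2 + a * z₁ * z₂ + b * z₂ ^ 2 = 0 → z₁ = 0 ∧ z₂ = 0)
    (G : Good (minusQ n a b)) (ha : a ≠ 0) {f : ℕ} (hF : Fintype.card F = 2 ^ f) :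
    (stdAut (isSemisim_frob n a b ha)) ^ f ∉ Cfsg.Inn (Cfsg.POmega F (⇑(minusQ n a b))) := by
  have h2 : (2 : F) = 0 := CharTwo.two_eq_zero
  obtain ⟨c, d, hd, e1, e2, e3, h, e4⟩ := frob_pow n a b ha f
  rw [← hF, FiniteField.pow_card] at e1 e2
  have hd1 : d = 1 := by
    have : a * (d - 1) = 0 := by rw [mul_sub, e1]; ring
    rcases mul_eq_zero.1 this with h' | h'
    · exact absurd h' ha
    · exact sub_eq_zero.1 h'
  subst hd1
  have hc : c = a := by
    have h5 : c * (c + a) = 0 := by linear_combination e2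
    rcases mul_eq_zero.1 h5 with h' | h'
    · exfalso
      rw [← hF, h'] at e3
      exact theta_pow_ne a b hab e3
    · linear_combination h' - a * h2
  subst hc
  intro hmem
  rw [e4] at hmem
  have hu : minusQ n c b (Sum.elim 0 ![1, 0]) ≠ 0 := by
    rw [minusQ_inr]
    simp
  have h6 : stdAut h = stdAut (isSemisim_of_mem_isometry (Q := minusQ n c b)
      (tG (minusQ n c b) (Sum.elim 0 ![1, 0])).2) :=
    stdAut_congr (blockGL_triGL_eq_tG n c b) (sqAut_pow_card hF) _ _
  rw [h6] at hmem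
  have h7 := G.isometry_mem_of_inn _ hmem
  have h8 := (prod_tG_mem_commutator_iff (minusQ n c b) G.nondeg G.hex [Sum.elim 0 ![1, 0]]
    (by
      intro v hv
      rw [List.mem_singleton] at hv
      rw [hv]
      exact hu)).1 (by simpa using h7)
  simp at h8

end

end Cfsg.Agent.Helper17.OrthOut
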