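import Mathlib

set_option autoImplicit false
set_option linter.unusedSectionVars false
set_option linter.unusedSimpArgs false

/-!
# Abstract group lemmas for the outer automorphism groups of orthogonal groups (helper17)
-/

namespace Cfsg.Agent.Helper17.OrthOut

open DihedralGroup

/-- an internal direct product -/
theorem mulEquiv_prod_of_complement {G : Type*} [Group G] (A B : Subgroup G)
    (hc : ∀ a ∈ A, ∀ b ∈ B, a * b = b * a) (h : Subgroup.IsComplement' A B) :
    Nonempty (G ≃* ↥A × ↥B) := by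
  let Ψ : ↥A × ↥B →* G :=
    { toFun := fun p => (p.1 : G) * (p.2 : G)
      map_one' := by simp
      map_mul' := by
        intro p p'
        simp only [Prod.fst_mul, Prod.snd_mul, Subgroup.coe_mul]
        have h1 := hc _ p'.1.2 _ p.2.2
        calc (p.1 : G) * (p'.1 : G) * ((p.2 : G) * (p'.2 : G))
            = (p.1 : G) * ((p'.1 : G) * (p.2 : G)) * (p'.2 : G) := by group
          _ = (p.1 : G) * ((p.2 : G) * (p'.1 : G)) * (p'.2 : G) := by rw [h1]
          _ = _ := by group }
  have hb : Function.Bijective Ψ := h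
  exact ⟨(MulEquiv.ofBijective Ψ hb).symm⟩

theorem d4_fix_r (θ : DihedralGroup 4 ≃* DihedralGroup 4) (h : θ (r 1) = r 1) (k : ZMod 4) :
    θ (r k) = r k := by
  have h1 : (r k : DihedralGroup 4) = (r 1) ^ k.val := by
    rw [r_one_pow, ZMod.natCast_zmod_val]
  rw [h1, map_pow, h]

theorem d4_eq_one_of_fix (θ : DihedralGroup 4 ≃* DihedralGroup 4) (h : θ (r 1) = r 1)
    (h' : θ (sr 0) = sr 0) : θ = 1 := by
  apply MulEquiv.ext
  intro x
  rw [MulAut.one_apply]
  cases x with
  | r k => exact d4_fix_r θ h k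
  | sr k =>
    have h1 : (sr k : DihedralGroup 4) = sr 0 * r k := by rw [sr_mul_r, zero_add]
    rw [h1, map_mul, h', d4_fix_r θ h k]

/-- the square of an automorphism of the dihedral group of order eight fixes the rotations -/
theorem d4_sq_fix_r (φ : DihedralGroup 4 ≃* DihedralGroup 4) : φ (φ (r 1)) = r 1 := by
  have key : ∀ x : DihedralGroup 4, x * x ≠ 1 → x = r 1 ∨ x = r 3 := by decide
  have h1 : φ (r 1) * φ (r 1) ≠ 1 := by
    rw [← map_mul]
    intro h
    have h2 : (r 1 * r 1 : DihedralGroup 4) = 1 := φ.injective (h.trans (map_one φ).symm)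
    revert h2
    decide
  rcases key _ h1 with h | h
  · rw [h, h]
  · have h3 : (r 3 : DihedralGroup 4) = r 1 * r 1 * r 1 := by decide
    rw [h, h3, map_mul, map_mul, h]
    decide

/-- an automorphism fixing the rotations and its action on the reflections -/
theorem d4_sq_fix_sr (ψ : DihedralGroup 4 ≃* DihedralGroup 4) (h : ψ (r 1) = r 1) :
    ψ (ψ (ψ (ψ (sr 0)))) = sr 0 := by
  have key : ∀ y : DihedralGroup 4, y * y = 1 → y ≠ 1 → y ≠ r 2 → ∃ i : ZMod 4, y = sr i := by
    decide
  have h1 : ψ (sr 0) * ψ (sr 0) = 1 := by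
    rw [← map_mul]
    have : (sr 0 * sr 0 : DihedralGroup 4) = 1 := by decide
    rw [this, map_one]
  have h2 : ψ (sr 0) ≠ 1 := by
    intro h'
    have h3 : (sr 0 : DihedralGroup 4) = 1 := ψ.injective (h'.trans (map_one ψ).symm)
    revert h3
    decide
  have h3 : ψ (sr 0) ≠ r 2 := by
    intro h'
    have h4 : (sr 0 : DihedralGroup 4) = r 2 :=
      ψ.injective (h'.trans (d4_fix_r ψ h 2).symm)
    revert h4
    decide
  obtain ⟨i, hi⟩ := key _ h1 h2 h3
  have hstep : ∀ j : ZMod 4, ψ (sr j) = sr (i + j) := by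
    intro j
    have h5 : (sr j : DihedralGroup 4) = sr 0 * r j := by rw [sr_mul_r, zero_add]
    rw [h5, map_mul, hi, d4_fix_r ψ h j, sr_mul_r]
  rw [hstep, hstep, hstep, hstep]
  congr 1
  have h6 : ∀ i : ZMod 4, i + (i + (i + (i + 0))) = 0 := by decide
  exact h6 i

theorem d4_pow_eight (φ : MulAut (DihedralGroup 4)) : φ ^ 8 = 1 := by
  have h1 : (φ ^ 8) (r 1) = r 1 := by
    have : φ ^ 8 = φ * φ * (φ * φ) * (φ * φ * (φ * φ)) := by
      simp only [pow_succ, pow_zero, one_mul, mul_assoc]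
    rw [this]
    simp only [MulAut.mul_apply]
    rw [d4_sq_fix_r, d4_sq_fix_r, d4_sq_fix_r, d4_sq_fix_r]
  have h2 : (φ ^ 8) (sr 0) = sr 0 := by
    have : φ ^ 8 = (φ * φ) * (φ * φ) * (φ * φ) * (φ * φ) := by
      simp only [pow_succ, pow_zero, one_mul, mul_assoc]
    rw [this]
    simp only [MulAut.mul_apply]
    exact d4_sq_fix_sr (φ * φ) (by rw [MulAut.mul_apply]; exact d4_sq_fix_r φ)
  exact d4_eq_one_of_fix _ h1 h2

/-- an automorphism of odd order of the dihedral group of order eight is trivial -/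
theorem d4_aut_eq_one (φ : MulAut (DihedralGroup 4)) {j : ℕ} (hj : Odd j) (h : φ ^ j = 1) :
    φ = 1 := by
  have h1 : orderOf φ ∣ 8 := orderOf_dvd_of_pow_eq_one (d4_pow_eight φ)
  have h2 : orderOf φ ∣ j := orderOf_dvd_of_pow_eq_one h
  have h3 : Nat.Coprime 8 j := by
    have : Nat.Coprime (2 ^ 3) j := Nat.Coprime.pow_left 3 (Nat.coprime_two_left.2 hj)
    simpa using this
  have h4 : orderOf φ ∣ 1 := by
    rw [← h3]
    exact Nat.dvd_gcd h1 h2
  exact orderOf_eq_one_iff.1 (Nat.dvd_one.1 h4)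

end Cfsg.Agent.Helper17.OrthOut
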