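import Mathlib
import Cfsg.Agent.Lib.Helper17.OrthOut18

set_option autoImplicit false
set_option linter.unusedSectionVars false
set_option linter.unusedSimpArgs false

/-!
# Abstract extension lemmas: `D₈ × C_f` and `C₂ × C_{2f}` (helper17)
-/

namespace Cfsg.Agent.Helper17.OrthOut

theorem card_mult_zmod (f : ℕ) : Nat.card (Multiplicative (ZMod f)) = f := by
  rw [Nat.card_congr (Multiplicative.toAdd (α := ZMod f)), Nat.card_zmod]

/-- an extension of a cyclic group of odd order by a dihedral group of order eight is a direct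
product -/
theorem d4_prod {G C : Type*} [Group G] [Group C] (π : G →* C)
    (hπ : Function.Surjective π) (e : ↥π.ker ≃* DihedralGroup 4) {f : ℕ} (hf : Odd f)
    (eC : C ≃* Multiplicative (ZMod f)) :
    Nonempty (G ≃* DihedralGroup 4 × Multiplicative (ZMod f)) := by
  have hK8 : Nat.card π.ker = 8 := by rw [Nat.card_congr e.toEquiv, DihedralGroup.nat_card]
  have hidx : π.ker.index = f := by
    rw [Subgroup.index_ker, MonoidHom.range_eq_top.2 hπ, Subgroup.card_top,
      Nat.card_congr eC.toEquiv, card_mult_zmod]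
  have hcop : Nat.Coprime (Nat.card π.ker) π.ker.index := by
    rw [hK8, hidx]
    have : Nat.Coprime (2 ^ 3) f := Nat.Coprime.pow_left 3 (Nat.coprime_two_left.2 hf)
    simpa using this
  obtain ⟨H, hH⟩ := Subgroup.exists_right_complement'_of_coprime hcop
  have hcardH : Nat.card H = f := by rw [← hidx, hH.symm.index_eq_card]
  have hcent : ∀ k ∈ π.ker, ∀ h ∈ H, k * h = h * k := by
    intro k hk h hh
    have hpow : h ^ f = 1 := by
      have h1 : (⟨h, hh⟩ : H) ^ Nat.card H = 1 := pow_card_eq_one'
      rw [hcardH] at h1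
      exact congrArg Subtype.val h1
    have hord : (MulAut.conjNormal h : MulAut π.ker) ^ f = 1 := by
      rw [← map_pow, hpow, map_one]
    have h2 : (MulAut.congr e (MulAut.conjNormal h : MulAut π.ker)) ^ f = 1 := by
      rw [← map_pow, hord, map_one]
    have h3 := d4_aut_eq_one _ hf h2
    have h4 : (MulAut.conjNormal h : MulAut π.ker) = 1 :=
      (MulAut.congr e).injective (h3.trans (map_one _).symm)
    have h5 := congrArg (fun θ : MulAut π.ker => ((θ ⟨k, hk⟩ : π.ker) : G)) h4
    simp only [MulAut.conjNormal_apply, MulAut.one_apply] at h5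
    calc k * h = (h * k * h⁻¹) * h := by rw [h5]
      _ = h * k := by group
  obtain ⟨E⟩ := mulEquiv_prod_of_complement π.ker H hcent hH
  exact ⟨E.trans (e.prodCongr ((hH.symm.QuotientMulEquiv).symm.trans
    ((QuotientGroup.quotientKerEquivOfSurjective π hπ).trans eC)))⟩

/-- a central extension of a cyclic group of order `f` by a Klein four group, with an element
of order `2 f` when `f` is even, is `C₂ × C_{2f}` -/
theorem klein_ext {G C : Type*} [Group G] [Group C] [IsCyclic C] (π : G →* C)
    (hπ : Function.Surjective π) {f : ℕ} (hf : 0 < f) (hC : Nat.card C = f)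
    (hK4 : Nat.card π.ker = 4) (hsq : ∀ k ∈ π.ker, k * k = 1)
    (hcen : π.ker ≤ Subgroup.center G)
    (hev : Even f → ∃ x : G, orderOf (π x) = f ∧ x ^ f ≠ 1) :
    Nonempty (G ≃* Multiplicative (ZMod 2 × ZMod (2 * f))) := by
  have hcomm : ∀ a b : G, a * b = b * a := commutative_of_cyclic_center_quotient π hcen
  have hcardG : Nat.card G = 4 * f := by
    have h1 := Subgroup.card_eq_card_quotient_mul_card_subgroup π.ker
    rw [Nat.card_congr (QuotientGroup.quotientKerEquivOfSurjective π hπ).toEquiv, hC, hK4] at h1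
    omega
  have hfinG : Finite G := Nat.finite_of_card_ne_zero (by omega)
  -- an element of order `2 f`
  obtain ⟨x, hx1, hx2⟩ : ∃ x : G, orderOf (π x) = f ∧ x ^ f ≠ 1 := by
    by_cases hfe : Even f
    · exact hev hfe
    · obtain ⟨c, hc⟩ := IsCyclic.exists_generator (α := C)
      obtain ⟨x₀, rfl⟩ := hπ c
      have ho : orderOf (π x₀) = f := by rw [orderOf_eq_card_of_forall_mem_zpowers hc, hC]
      by_cases h0 : x₀ ^ f = 1
      · obtain ⟨v, hv1⟩ : ∃ v : π.ker, v ≠ 1 := by
          by_contra hcon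
          push Not at hcon
          have : Nat.card π.ker ≤ 1 :=
            Finite.card_le_one_iff_subsingleton.2 ⟨fun a b => (hcon a).trans (hcon b).symm⟩
          omega
        refine ⟨x₀ * v, ?_, ?_⟩
        · rw [map_mul, MonoidHom.mem_ker.1 v.2, mul_one, ho]
        · rw [Commute.mul_pow (hcomm x₀ v), h0, one_mul]
          obtain ⟨t, ht⟩ := Nat.not_even_iff_odd.1 hfe
          rw [ht, pow_succ, pow_mul, pow_two, hsq v v.2, one_pow, one_mul]
          intro h
          exact hv1 (Subtype.ext h)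
      · exact ⟨x₀, ho, h0⟩
  have hxf_ker : x ^ f ∈ π.ker := by
    rw [MonoidHom.mem_ker, map_pow, ← hx1, pow_orderOf_eq_one]
  have hx2f : x ^ (2 * f) = 1 := by rw [mul_comm, pow_mul, pow_two, hsq _ hxf_ker]
  have hord : orderOf x = 2 * f := by
    have h1 : f ∣ orderOf x := by
      have := orderOf_map_dvd π x
      rwa [hx1] at this
    have h2 : orderOf x ∣ 2 * f := orderOf_dvd_of_pow_eq_one hx2f
    have h3 : ¬ orderOf x ∣ f := fun hdvd => hx2 (orderOf_dvd_iff_pow_eq_one.1 hdvd)
    obtain ⟨j, hj⟩ := h1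
    rw [hj] at h2 h3 ⊢
    have hj2 : j ∣ 2 := by
      rw [mul_comm 2 f] at h2
      exact Nat.dvd_of_mul_dvd_mul_left hf h2
    rcases (Nat.dvd_prime Nat.prime_two).1 hj2 with rfl | rfl
    · exfalso
      apply h3
      rw [mul_one]
    · ring
  -- an involution outside `⟨x⟩`
  obtain ⟨v, hvK, hvx⟩ : ∃ v ∈ π.ker, v ∉ Subgroup.zpowers x := by
    by_contra hcon
    push Not at hcon
    have hle : π.ker ≤ Subgroup.zpowers (x ^ f) := by
      intro v hv
      obtain ⟨j, rfl⟩ := Subgroup.mem_zpowers_iff.1 (hcon v hv)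
      have h1 := hsq _ hv
      rw [← zpow_add, ← two_mul] at h1
      have h2 : ((orderOf x : ℕ) : ℤ) ∣ 2 * j := orderOf_dvd_iff_zpow_eq_one.2 h1
      rw [hord] at h2
      have h3 : (f : ℤ) ∣ j := by
        have : ((2 * f : ℕ) : ℤ) = 2 * (f : ℤ) := by push_cast; ring
        rw [this] at h2
        exact Int.dvd_of_mul_dvd_mul_left (by norm_num) h2
      obtain ⟨t, rfl⟩ := h3
      rw [zpow_mul, zpow_natCast]
      exact Subgroup.zpow_mem_zpowers _ t
    have h2 : Nat.card (Subgroup.zpowers (x ^ f)) ≤ 2 := by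
      rw [Nat.card_zpowers]
      apply orderOf_le_of_pow_eq_one (by norm_num)
      rw [← pow_mul, mul_comm, hx2f]
    have := Subgroup.card_le_of_le hle
    omega
  have hv2 : v * v = 1 := hsq v hvK
  have hv1 : v ≠ 1 := fun h => hvx (h ▸ one_mem _)
  have hordv : orderOf v = 2 := orderOf_eq_prime (by rw [pow_two]; exact hv2) hv1
  have hdisj : Disjoint (Subgroup.zpowers v) (Subgroup.zpowers x) := by
    rw [Subgroup.disjoint_def]
    intro y hy hyx
    obtain ⟨j, rfl⟩ := Subgroup.mem_zpowers_iff.1 hy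
    rcases Int.even_or_odd' j with ⟨t, rfl | rfl⟩
    · rw [zpow_mul, zpow_two, hv2, one_zpow]
    · exfalso
      apply hvx
      rw [zpow_add, zpow_mul, zpow_two, hv2, one_zpow, one_mul, zpow_one] at hyx
      exact hyx
  have hcompl : Subgroup.IsComplement' (Subgroup.zpowers v) (Subgroup.zpowers x) :=
    Subgroup.isComplement'_of_card_mul_and_disjoint (by
      rw [Nat.card_zpowers, Nat.card_zpowers, hordv, hord, hcardG]
      ring) hdisj
  obtain ⟨E⟩ := mulEquiv_prod_of_complement _ _ (fun a _ b _ => hcomm a b) hcompl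
  have e1 : ↥(Subgroup.zpowers v) ≃* Multiplicative (ZMod 2) := by
    have e' := (zmodCyclicMulEquiv (inferInstance : IsCyclic (Subgroup.zpowers v))).symm
    rw [Nat.card_zpowers, hordv] at e'
    exact e'
  have e2 : ↥(Subgroup.zpowers x) ≃* Multiplicative (ZMod (2 * f)) := by
    have e' := (zmodCyclicMulEquiv (inferInstance : IsCyclic (Subgroup.zpowers x))).symm
    rw [Nat.card_zpowers, hord] at e'
    exact e'
  exact ⟨(E.trans (e1.prodCongr e2)).trans
    (MulEquiv.prodMultiplicative (ZMod 2) (ZMod (2 * f))).symm⟩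

end Cfsg.Agent.Helper17.OrthOut
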