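import Mathlib
import Cfsg.Agent.Lib.Helper17.OrthOut17
import Cfsg.Agent.Lib.Helper17.OrthOut19

set_option autoImplicit false
set_option linter.unusedSectionVars false
set_option linter.unusedSimpArgs false

/-!
# Semisimilarities with multiplier one; conjugation of similarities (helper17)
-/

namespace Cfsg.Agent.Helper17.OrthOut

open QuadraticMap Matrix Cfsg.Agent.Helper17.OrthAut Cfsg.Agent.Helper13
  Cfsg.Agent.Helper17.ConfAut Cfsg.Agent.Helper17.Spinor

/-- the kernel of a lifted homomorphism -/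
theorem ker_lift_equiv {A C : Type*} [Group A] [Group C] (N : Subgroup A) [N.Normal]
    (ρ₀ : A →* C) (hN : N ≤ ρ₀.ker) (P : Subgroup A) (hP : ρ₀.ker = P) :
    Nonempty (↥(QuotientGroup.lift N ρ₀ hN).ker ≃* ↥P ⧸ N.subgroupOf P) := by
  subst hP
  let τ : ↥ρ₀.ker →* A ⧸ N := (QuotientGroup.mk' N).comp ρ₀.ker.subtype
  have hker : τ.ker = N.subgroupOf ρ₀.ker := by
    ext x
    rw [MonoidHom.mem_ker, Subgroup.mem_subgroupOf]
    exact QuotientGroup.eq_one_iff _
  have hrange : τ.range = (QuotientGroup.lift N ρ₀ hN).ker := by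
    ext y
    constructor
    · rintro ⟨x, rfl⟩
      rw [MonoidHom.mem_ker]
      exact x.2
    · intro hy
      obtain ⟨a, rfl⟩ := QuotientGroup.mk_surjective y
      exact ⟨⟨a, hy⟩, rfl⟩
  exact ⟨((MulEquiv.subgroupCongr hrange).symm.trans
    (QuotientGroup.quotientKerEquivRange τ).symm).trans (QuotientGroup.quotientMulEquivOfEq hker)⟩

variable {F : Type*} [Field F] {ι : Type} [Fintype ι] [DecidableEq ι]
  {Q : QuadraticForm F (ι → F)}

/-- a semisimilarity with multiplier one -/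
def IsSemiIso (Q : QuadraticForm F (ι → F)) (g : GL ι F) (σ : F ≃+* F) : Prop :=
  ∀ v : ι → F, Q ((g : Matrix ι ι F) *ᵥ (fun i => σ (v i))) = σ (Q v)

theorem IsSemiIso.toPair {g : GL ι F} {σ : F ≃+* F} (h : IsSemiIso Q g σ) :
    Cfsg.IsSemisimilarityPair (⇑Q) g σ :=
  ⟨1, fun v => by rw [h v, Units.val_one, one_mul]⟩

theorem isSemiIso_one : IsSemiIso Q (1 : GL ι F) (RingEquiv.refl F) := fun v => by simp

theorem IsSemiIso.mul {g g' : GL ι F} {σ σ' : F ≃+* F} (h : IsSemiIso Q g σ)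
    (h' : IsSemiIso Q g' σ') :
    IsSemiIso Q (g * Matrix.GeneralLinearGroup.map (σ : F →+* F) g') (σ * σ' : RingAut F) := by
  intro v
  have h1 : ((g * Matrix.GeneralLinearGroup.map (σ : F →+* F) g' : GL ι F) : Matrix ι ι F) *ᵥ
      (fun i => (σ * σ' : RingAut F) (v i)) =
      (g : Matrix ι ι F) *ᵥ (fun i => σ (((g' : Matrix ι ι F) *ᵥ (fun j => σ' (v j))) i)) := by
    rw [Units.val_mul, ← Matrix.mulVec_mulVec]
    congr 1
    exact mulVec_map_sigma σ (g' : Matrix ι ι F) (fun j => σ' (v j))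
  rw [h1, h, h']
  rfl

theorem IsSemiIso.isMult {g : GL ι F} (h : IsSemiIso Q g (RingEquiv.refl F)) : IsMult Q g 1 := by
  intro v
  have := h v
  simpa using this

/-- conjugating a similarity by a semisimilarity -/
theorem isMult_semiHom {g : GL ι F} {σ : F ≃+* F} (h : Cfsg.IsSemisimilarityPair (⇑Q) g σ)
    {s : GL ι F} {c : F} (hs : IsMult Q s c) : IsMult Q (semiHom g σ s) (σ c) := by
  intro v
  obtain ⟨c', hc'⟩ := h
  obtain ⟨w, hw⟩ : ∃ w : ι → F, w = fun i => σ.symm ((((g⁻¹ : GL ι F) : Matrix ι ι F) *ᵥ v) i) :=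
    ⟨_, rfl⟩
  have hw1 : (fun i => σ (w i)) = ((g⁻¹ : GL ι F) : Matrix ι ι F) *ᵥ v := by
    rw [hw]
    ext i
    simp
  have hw2 : (g : Matrix ι ι F) *ᵥ (fun i => σ (w i)) = v := by
    rw [hw1, Matrix.mulVec_mulVec, ← Units.val_mul, mul_inv_cancel, Units.val_one,
      Matrix.one_mulVec]
  have h1 : ((semiHom g σ s : GL ι F) : Matrix ι ι F) *ᵥ v =
      (g : Matrix ι ι F) *ᵥ (fun i => σ (((s : Matrix ι ι F) *ᵥ w) i)) := by
    rw [semiHom_coe, ← Matrix.mulVec_mulVec, ← Matrix.mulVec_mulVec, ← hw1, mulVec_map_sigma]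
  show Q (((semiHom g σ s : GL ι F) : Matrix ι ι F) *ᵥ v) = σ c * Q v
  have h3 : Q v = (c' : F) * σ (Q w) := by
    conv_lhs => rw [← hw2]
    exact hc' w
  have h4 : Q ((s : Matrix ι ι F) *ᵥ w) = c * Q w := hs w
  rw [h1, hc', h4, h3, map_mul]
  ring

theorem det_semiHom (g : GL ι F) (σ : F ≃+* F) (s : GL ι F) :
    ((semiHom g σ s : GL ι F) : Matrix ι ι F).det = σ ((s : Matrix ι ι F).det) := by
  rw [semiHom_coe, Matrix.det_units_conj]
  exact ((σ : F →+* F).map_det (s : Matrix ι ι F)).symm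

theorem det_mul_map (g g' : GL ι F) (σ : F ≃+* F) :
    ((g * Matrix.GeneralLinearGroup.map (σ : F →+* F) g' : GL ι F) : Matrix ι ι F).det =
      (g : Matrix ι ι F).det * σ ((g' : Matrix ι ι F).det) := by
  rw [Units.val_mul, Matrix.det_mul]
  congr 1
  exact ((σ : F →+* F).map_det (g' : Matrix ι ι F)).symm

theorem map_refl (g : GL ι F) :
    Matrix.GeneralLinearGroup.map ((RingEquiv.refl F : F ≃+* F) : F →+* F) g = g := by
  ext i j
  rfl

end Cfsg.Agent.Helper17.OrthOut
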