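import Mathlib
import Cfsg.Agent.Lib.Helper17.OrthOut20

set_option autoImplicit false
set_option linter.unusedSectionVars false
set_option linter.unusedSimpArgs false

/-!
# The image of the similarity group is central modulo the image of `SO` (helper17)
-/

namespace Cfsg.Agent.Helper17.OrthOut

open QuadraticMap Matrix Cfsg.Agent.Helper17.OrthAut Cfsg.Agent.Helper13
  Cfsg.Agent.Helper17.ConfAut Cfsg.Agent.Helper17.Spinor

variable {F : Type*} [Field F] [Fintype F] [DecidableEq F] {ι : Type} [Fintype ι] [DecidableEq ι]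
  {Q : QuadraticForm F (ι → F)}

/-- `σ c / c` is a square and the determinants match -/
theorem exists_sq_of_det_sq (σ : F ≃+* F) {c d : F} (hc0 : c ≠ 0) {n : ℕ}
    (hd : d ^ 2 = c ^ (n + n)) :
    ∃ s : F, c⁻¹ * σ c = s ^ 2 ∧ d⁻¹ * σ d = s ^ (n + n) := by
  have hd0 : d ≠ 0 := by
    rintro rfl
    rw [zero_pow two_ne_zero] at hd
    exact (pow_ne_zero _ hc0) hd.symm
  have hsq : IsSquare (c⁻¹ * σ c) := by
    by_cases hcs : IsSquare c
    · exact (isSquare_inv.2 hcs).mul ((isSquare_map_iff σ c).2 hcs)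
    · have h1 : ¬ IsSquare (σ c) := fun h => hcs ((isSquare_map_iff σ c).1 h)
      rw [isSquare_mul_nonsquare (inv_ne_zero hc0) h1, isSquare_inv]
      exact hcs
  obtain ⟨s, hs⟩ := hsq
  refine ⟨s, by rw [hs, pow_two], ?_⟩
  have he : (d * (c ^ n)⁻¹) ^ 2 = 1 := by
    rw [mul_pow, hd, inv_pow, ← pow_mul, ← two_mul, mul_comm n 2, two_mul]
    exact mul_inv_cancel₀ (pow_ne_zero _ hc0)
  have hσe : σ (d * (c ^ n)⁻¹) = d * (c ^ n)⁻¹ := by
    rcases sq_eq_one_iff.1 he with h | h <;> simp [h]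
  have hcn0 : c ^ n ≠ 0 := pow_ne_zero _ hc0
  have hσcn0 : σ (c ^ n) ≠ 0 := by
    rw [Ne, map_eq_zero_iff σ σ.injective]
    exact hcn0
  rw [map_mul, map_inv₀] at hσe
  have h3 : d⁻¹ * σ d = (c ^ n)⁻¹ * σ (c ^ n) := by
    field_simp
    field_simp at hσe
    linear_combination hσe
  rw [h3, ← two_mul, mul_comm 2 n, pow_mul, ← pow_mul, mul_comm n 2, pow_mul, pow_two s, ← hs,
    mul_pow, inv_pow, map_pow]

/-- the image of the similarity group is central in `Out` when `Inn` is the image of `SO` -/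
theorem Good.comm_mod_inn (G : Good Q) (h2 : (2 : F) ≠ 0) {i₁ j₁ i₂ j₂ : ι}
    (hT : Cfsg.Agent.Helper2.Orth.TwoHyp Q i₁ j₁ i₂ j₂) (hcard : Even (Fintype.card ι))
    (hinn : Cfsg.Inn (Cfsg.POmega F (⇑Q)) = ConfAut.PSO Q)
    (α β : MulAut (Cfsg.POmega F (⇑Q))) (hβ : β ∈ PG Q) :
    (QuotientGroup.mk α : Cfsg.Out (Cfsg.POmega F (⇑Q))) * QuotientGroup.mk β =
      QuotientGroup.mk β * QuotientGroup.mk α := by
  obtain ⟨g', σ, h, rfl⟩ := G.exists_stdAut α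
  obtain ⟨g₀, rfl⟩ := hβ
  obtain ⟨c, hc0, hc⟩ := exists_isMult g₀
  have hβ' : Cfsg.IsSemisimilarityPair (⇑Q) (g₀ : GL ι F) (RingEquiv.refl F) :=
    (isSemisim_refl_iff _).2 g₀.2
  have e1 : Phi (⇑Q) g₀ = stdAut hβ' := (stdAut_refl_eq_Phi hβ').symm
  have hm'' : IsMult Q (semiHom g' σ (g₀ : GL ι F)) (σ c) := isMult_semiHom h hc
  have hσc0 : σ c ≠ 0 := by
    rw [Ne, map_eq_zero_iff σ σ.injective]
    exact hc0
  obtain ⟨g'', hg''⟩ : ∃ g'' : ↥(GO (⇑Q)), (g'' : GL ι F) = semiHom g' σ (g₀ : GL ι F) :=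
    ⟨⟨_, hm''.mem_GO hσc0⟩, rfl⟩
  have hβ'' : Cfsg.IsSemisimilarityPair (⇑Q) (g'' : GL ι F) (RingEquiv.refl F) :=
    (isSemisim_refl_iff _).2 g''.2
  have e2 : Phi (⇑Q) g'' = stdAut hβ'' := (stdAut_refl_eq_Phi hβ'').symm
  have hcomm : stdAut h * Phi (⇑Q) g₀ = Phi (⇑Q) g'' * stdAut h := by
    rw [e1, e2, stdAut_mul, stdAut_mul]
    apply stdAut_congr
    · rw [map_refl, hg'', semiHom_apply]
      group
    · show (σ * 1 : RingAut F) = 1 * σ
      rw [mul_one, one_mul]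
  have hmem : (Phi (⇑Q) g₀)⁻¹ * Phi (⇑Q) g'' ∈ Cfsg.Inn (Cfsg.POmega F (⇑Q)) := by
    rw [hinn, ← map_inv, ← map_mul]
    have hm : IsMult Q ((g₀⁻¹ * g'' : ↥(GO (⇑Q))) : GL ι F) (c⁻¹ * σ c) := by
      rw [Subgroup.coe_mul, Subgroup.coe_inv, hg'']
      exact (hc.inv hc0).mul hm''
    refine (Phi_mem_SO_iff h2 G.nondeg hT _ hm).2 ?_
    obtain ⟨n, hn⟩ := hcard
    have hd := hc.det_sq G.nondeg
    rw [hn] at hd
    obtain ⟨s, hs1, hs2⟩ := exists_sq_of_det_sq σ hc0 hd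
    refine ⟨s, hs1, ?_⟩
    rw [hn, ← hs2, Subgroup.coe_mul, Subgroup.coe_inv, hg'', Units.val_mul, Matrix.det_mul,
      det_semiHom]
    congr 1
    rw [Matrix.coe_units_inv, Matrix.det_nonsing_inv, Ring.inverse_eq_inv']
  calc (QuotientGroup.mk (stdAut h) : Cfsg.Out (Cfsg.POmega F (⇑Q))) *
        QuotientGroup.mk (Phi (⇑Q) g₀)
      = QuotientGroup.mk (stdAut h * Phi (⇑Q) g₀) := rfl
    _ = QuotientGroup.mk (Phi (⇑Q) g'' * stdAut h) := by rw [hcomm]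
    _ = QuotientGroup.mk (Phi (⇑Q) g'') * QuotientGroup.mk (stdAut h) := rfl
    _ = QuotientGroup.mk (Phi (⇑Q) g₀) * QuotientGroup.mk (stdAut h) := by
      rw [(QuotientGroup.eq.2 hmem : (QuotientGroup.mk (Phi (⇑Q) g₀) :
        Cfsg.Out (Cfsg.POmega F (⇑Q))) = QuotientGroup.mk (Phi (⇑Q) g''))]

end Cfsg.Agent.Helper17.OrthOut
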