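import Mathlib
import Cfsg.Agent.Lib.Helper17.OrthOut21

set_option autoImplicit false
set_option linter.unusedSectionVars false
set_option linter.unusedSimpArgs false

/-!
# Minus type, odd characteristic: a Frobenius semisimilarity with controlled determinant
(helper17)
-/

namespace Cfsg.Agent.Helper17.OrthOut

open QuadraticMap Matrix Cfsg.Agent.Helper17.OrthAut Cfsg.Agent.Helper13
  Cfsg.Agent.Helper17.ConfAut Cfsg.Agent.Helper17.Spinor

variable {F : Type*} [Field F]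

/-- a block semisimilarity with multiplier one -/
theorem isSemiIso_block (n : ℕ) (a b : F) (σ : F ≃+* F) (M : GL (Fin 2) F)
    (hM : ∀ w : Fin 2 → F,
      binN a b ((M : Matrix (Fin 2) (Fin 2) F) *ᵥ w) = binN (σ a) (σ b) w) :
    IsSemiIso (minusQ n a b) (blockGL n 1 M) σ := by
  intro v
  rw [blockGL_coe, minusQ_eq_add, minusQ_eq_add]
  simp only [Units.val_one, one_mul, map_add]
  obtain ⟨w, hw⟩ : ∃ w : (Fin n ⊕ Fin n) ⊕ Fin 2 → F, w = fun i => σ (v i) := ⟨_, rfl⟩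
  rw [← hw]
  have h0 := Matrix.fromBlocks_mulVec
    (1 : Matrix (Fin n ⊕ Fin n) (Fin n ⊕ Fin n) F) 0 0
    (M : Matrix (Fin 2) (Fin 2) F) (Sum.elim (w ∘ Sum.inl) (w ∘ Sum.inr))
  rw [Sum.elim_comp_inl_inr] at h0
  have h1 : (Matrix.fromBlocks
      (1 : Matrix (Fin n ⊕ Fin n) (Fin n ⊕ Fin n) F) 0 0
      (M : Matrix (Fin 2) (Fin 2) F) *ᵥ w) ∘ Sum.inl = w ∘ Sum.inl := by
    rw [h0]
    simp
  have h3 : (Matrix.fromBlocks
      (1 : Matrix (Fin n ⊕ Fin n) (Fin n ⊕ Fin n) F) 0 0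
      (M : Matrix (Fin 2) (Fin 2) F) *ᵥ w) ∘ Sum.inr =
      (M : Matrix (Fin 2) (Fin 2) F) *ᵥ (w ∘ Sum.inr) := by
    rw [h0]
    simp
  rw [h1, h3, hM, hw]
  have e1 : ((fun i => σ (v i)) ∘ Sum.inl : Fin n ⊕ Fin n → F) =
      fun i => σ ((v ∘ Sum.inl) i) := rfl
  have e2 : ((fun i => σ (v i)) ∘ Sum.inr : Fin 2 → F) = fun i => σ ((v ∘ Sum.inr) i) := rfl
  rw [e1, e2, plusQ_map, binN_map]

section odd
variable [Fintype F] [DecidableEq F]

/-- two anisotropic binary forms are isometric, with control of the determinant -/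
theorem exists_bin_iso_odd_det (h2 : (2 : F) ≠ 0) (a b a' b' : F)
    (hD : ¬ IsSquare (a ^ 2 - 4 * b)) (hD' : ¬ IsSquare (a' ^ 2 - 4 * b')) :
    ∃ M : GL (Fin 2) F, (∀ w : Fin 2 → F,
      binN a b ((M : Matrix (Fin 2) (Fin 2) F) *ᵥ w) = binN a' b' w) ∧
      (M : Matrix (Fin 2) (Fin 2) F).det ^ 2 * (a ^ 2 - 4 * b) = a' ^ 2 - 4 * b' := by
  have hD0 : a ^ 2 - 4 * b ≠ 0 := by
    intro h; apply hD; rw [h]; exact ⟨0, by ring⟩
  have hD'0 : a' ^ 2 - 4 * b' ≠ 0 := by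
    intro h; apply hD'; rw [h]; exact ⟨0, by ring⟩
  obtain ⟨r, hr⟩ := (isSquare_mul_nonsquare hD'0 hD).2 hD'
  obtain ⟨t, ht⟩ : ∃ t, t = r / (a ^ 2 - 4 * b) := ⟨_, rfl⟩
  have htD : t ^ 2 * (a ^ 2 - 4 * b) = a' ^ 2 - 4 * b' := by
    rw [ht, div_pow, pow_two r, ← hr]
    field_simp
  have ht0 : t ≠ 0 := by
    rintro rfl
    rw [zero_pow two_ne_zero, zero_mul] at htD
    exact hD'0 htD.symm
  have hdet : (!![1, (a' - a * t) / 2; 0, t] : Matrix (Fin 2) (Fin 2) F).det ≠ 0 := by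
    rw [Matrix.det_fin_two_of]
    simpa using ht0
  refine ⟨Matrix.GeneralLinearGroup.mkOfDetNeZero _ hdet, fun w => ?_, ?_⟩
  · show binN a b ((!![1, (a' - a * t) / 2; 0, t] : Matrix (Fin 2) (Fin 2) F) *ᵥ w) = _
    unfold binN
    simp only [Matrix.mulVec, dotProduct, Fin.sum_univ_two, Matrix.of_apply, Matrix.cons_val',
      Matrix.cons_val_zero, Matrix.cons_val_one, Matrix.empty_val', Matrix.cons_val_fin_one,
      Matrix.head_cons, Matrix.head_fin_const]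
    have h4 : (4 : F) ≠ 0 := by
      have : (4 : F) = 2 * 2 := by norm_num
      rw [this]
      exact mul_ne_zero h2 h2
    field_simp
    linear_combination (-(w 1) ^ 2) * htD
  · show (!![1, (a' - a * t) / 2; 0, t] : Matrix (Fin 2) (Fin 2) F).det ^ 2 * _ = _
    rw [Matrix.det_fin_two_of]
    simp only [one_mul, mul_zero, sub_zero]
    exact htD

theorem exists_semiIso_minus_odd (h2 : (2 : F) ≠ 0) (n : ℕ) (a b : F)
    (hab : ∀ z₁ z₂ : F, z₁ ^ 2 + a * z₁ * z₂ + b * z₂ ^ 2 = 0 → z₁ = 0 ∧ z₂ = 0)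
    (σ : F ≃+* F) :
    ∃ g : GL ((Fin n ⊕ Fin n) ⊕ Fin 2) F, IsSemiIso (minusQ n a b) g σ ∧
      (g : Matrix ((Fin n ⊕ Fin n) ⊕ Fin 2) ((Fin n ⊕ Fin n) ⊕ Fin 2) F).det ^ 2 *
        (a ^ 2 - 4 * b) = σ (a ^ 2 - 4 * b) := by
  classical
  have hD := disc_nonsquare h2 a b hab
  have hσD : (σ a) ^ 2 - 4 * σ b = σ (a ^ 2 - 4 * b) := by
    simp only [map_sub, map_mul, map_pow, map_ofNat]
  have hD' : ¬ IsSquare ((σ a) ^ 2 - 4 * σ b) := by
    rw [hσD, isSquare_map_iff]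
    exact hD
  obtain ⟨M, hM, hdet⟩ := exists_bin_iso_odd_det h2 a b (σ a) (σ b) hD hD'
  refine ⟨blockGL n 1 M, isSemiIso_block n a b σ M hM, ?_⟩
  rw [det_blockGL, Units.val_one, Matrix.det_one, one_mul, hdet, hσD]

end odd

end Cfsg.Agent.Helper17.OrthOut
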