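import Mathlib
import Cfsg.Agent.Lib.Helper17.OrthOut22

set_option autoImplicit false
set_option linter.unusedSectionVars false
set_option linter.unusedSimpArgs false

/-!
# Odd characteristic: powers of a Frobenius semisimilarity (helper17)
-/

namespace Cfsg.Agent.Helper17.OrthOut

open QuadraticMap Matrix Cfsg.Agent.Helper17.OrthAut Cfsg.Agent.Helper13
  Cfsg.Agent.Helper17.ConfAut Cfsg.Agent.Helper17.Spinor

variable {F : Type*} [Field F] [Fintype F] (p : ℕ) [Fact p.Prime] [CharP F p]

/-- the Frobenius automorphism -/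
noncomputable def frobAut : RingAut F := frobeniusEquiv F p

theorem frobAut_apply (t : F) : frobAut (F := F) p t = t ^ p := by
  unfold frobAut
  rw [frobeniusEquiv_apply, frobenius_def]

theorem frobAut_pow_apply (i : ℕ) (x : F) :
    ((frobAut (F := F) p) ^ i : RingAut F) x = x ^ (p ^ i) := by
  induction i generalizing x with
  | zero => simp
  | succ i ih =>
    rw [pow_succ, RingAut.mul_apply, frobAut_apply, ih, ← pow_mul, pow_succ, mul_comm]

theorem frobAut_pow_card {f : ℕ} (hF : Fintype.card F = p ^ f) :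
    ((frobAut (F := F) p) ^ f : RingAut F) = RingEquiv.refl F := by
  ext x
  rw [frobAut_pow_apply, ← hF, FiniteField.pow_card]
  rfl

/-- every automorphism is a power of the Frobenius automorphism -/
theorem exists_pow_frobAut (σ : RingAut F) : ∃ n : ℕ, σ = (frobAut (F := F) p) ^ n := by
  let _ : Algebra (ZMod p) F := ZMod.algebra F p
  obtain ⟨τ, hτ⟩ : ∃ τ : F ≃ₐ[ZMod p] F, ∀ x, τ x = σ x := by
    refine ⟨AlgEquiv.ofRingEquiv (f := σ) ?_, fun x => rfl⟩
    intro x
    have h3 : ((σ : F →+* F).comp (algebraMap (ZMod p) F)) = algebraMap (ZMod p) F :=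
      Subsingleton.elim _ _
    exact RingHom.congr_fun h3 x
  obtain ⟨n, hn⟩ := (FiniteField.bijective_frobeniusAlgEquivOfAlgebraic_pow (ZMod p) F).2 τ
  refine ⟨n.1, ?_⟩
  ext x
  rw [frobAut_pow_apply, ← hτ, ← hn]
  change ((FiniteField.frobeniusAlgEquivOfAlgebraic (ZMod p) F) ^ n.1) x = _
  rw [AlgEquiv.coe_pow, FiniteField.coe_frobeniusAlgEquivOfAlgebraic_iterate, ZMod.card]

theorem orderOf_frobAut {f : ℕ} (hf : Nat.card (RingAut F) = f) :
    orderOf (frobAut (F := F) p : RingAut F) = f := by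
  have hfin : Finite (RingAut F) :=
    Finite.of_injective (fun σ : RingAut F => (σ : F → F)) DFunLike.coe_injective
  rw [← hf]
  apply orderOf_eq_card_of_forall_mem_zpowers
  intro σ
  obtain ⟨i, hi⟩ := exists_pow_frobAut p σ
  rw [hi]
  exact Subgroup.npow_mem_zpowers _ i

variable {ι : Type} [Fintype ι] [DecidableEq ι] {Q : QuadraticForm F (ι → F)}

/-- the powers of a Frobenius semisimilarity -/
theorem semiIso_pow {g : GL ι F} (h : IsSemiIso Q g (frobAut p)) (i : ℕ) :
    ∃ gi : GL ι F, IsSemiIso Q gi ((frobAut (F := F) p) ^ i : RingAut F) ∧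
      (gi : Matrix ι ι F).det = (g : Matrix ι ι F).det ^ (∑ j ∈ Finset.range i, p ^ j) ∧
      ∃ hi : Cfsg.IsSemisimilarityPair (⇑Q) gi ((frobAut (F := F) p) ^ i : RingAut F),
        (stdAut h.toPair) ^ i = stdAut hi := by
  induction i with
  | zero =>
    have hσ : RingEquiv.refl F = ((frobAut (F := F) p) ^ 0 : RingAut F) := (pow_zero _).symm
    have h0 : IsSemiIso Q (1 : GL ι F) ((frobAut (F := F) p) ^ 0 : RingAut F) := by
      rw [← hσ]
      exact isSemiIso_one
    refine ⟨1, h0, by simp, h0.toPair, ?_⟩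
    rw [pow_zero, ← stdAut_one]
    exact stdAut_congr rfl hσ _ _
  | succ i ih =>
    obtain ⟨gi, hgi, hdet, hi, e⟩ := ih
    have hσ : ((frobAut (F := F) p) * (frobAut (F := F) p) ^ i : RingAut F) =
        (frobAut (F := F) p) ^ (i + 1) := (pow_succ' _ i).symm
    have h' : IsSemiIso Q (g * Matrix.GeneralLinearGroup.map
        (((frobAut (F := F) p : RingAut F) : F ≃+* F) : F →+* F) gi)
        ((frobAut (F := F) p) ^ (i + 1) : RingAut F) := by
      rw [← hσ]
      exact h.mul hgi
    refine ⟨_, h', ?_, h'.toPair, ?_⟩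
    · rw [det_mul_map, hdet, frobAut_apply, ← pow_mul, ← pow_succ', Finset.sum_range_succ',
        pow_zero, Finset.sum_mul]
      congr 2
    · rw [pow_succ', e, stdAut_mul]
      exact stdAut_congr rfl hσ _ _

end Cfsg.Agent.Helper17.OrthOut
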