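import Mathlib
import Cfsg.Agent.Lib.Helper17.OrthOut23

set_option autoImplicit false
set_option linter.unusedSectionVars false
set_option linter.unusedSimpArgs false

/-!
# Odd characteristic, `f` even: the `f`-th power of the Frobenius automorphism is not inner
(helper17)
-/

namespace Cfsg.Agent.Helper17.OrthOut

open QuadraticMap Matrix Cfsg.Agent.Helper17.OrthAut Cfsg.Agent.Helper13
  Cfsg.Agent.Helper17.ConfAut Cfsg.Agent.Helper17.Spinor

theorem even_geom_sum {p : ℕ} (hp : Odd p) (j : ℕ) :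
    Even (∑ i ∈ Finset.range (2 * j), p ^ i) := by
  induction j with
  | zero => simp
  | succ j ih =>
    have : 2 * (j + 1) = 2 * j + 1 + 1 := by ring
    rw [this, Finset.sum_range_succ, Finset.sum_range_succ, add_assoc]
    apply ih.add
    have h1 : p ^ (2 * j) + p ^ (2 * j + 1) = p ^ (2 * j) * (1 + p) := by ring
    rw [h1]
    apply Even.mul_left
    obtain ⟨t, ht⟩ := hp
    exact ⟨t + 1, by rw [ht]; ring⟩

variable {F : Type*} [Field F] [Fintype F] (p : ℕ) [Fact p.Prime] [CharP F p]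

/-- the norm of a square root of `Δ^(p-1)` for a non-square `Δ` is `-1` when `f` is even -/
theorem pow_geom_sum_eq_neg_one (hp : p ≠ 2) {f : ℕ} (hF : Fintype.card F = p ^ f) (hf : Even f)
    {t D : F} (hD : ¬ IsSquare D) (ht : t ^ 2 * D = D ^ p) :
    t ^ (∑ j ∈ Finset.range f, p ^ j) = -1 := by
  have hpp : p.Prime := Fact.out
  have hpodd : Odd p := hpp.odd_of_ne_two hp
  have hD0 : D ≠ 0 := by
    rintro rfl
    exact hD ⟨0, by ring⟩
  have ht2 : t ^ 2 = D ^ (p - 1) := by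
    have h1 : D ^ p = D ^ (p - 1) * D := by
      rw [← pow_succ, Nat.sub_add_cancel hpp.one_le]
    rw [h1] at ht
    exact mul_right_cancel₀ hD0 ht
  obtain ⟨j, hj⟩ := hf
  have hj' : f = 2 * j := by rw [hj]; ring
  obtain ⟨N', hN'⟩ := even_geom_sum hpodd j
  rw [← hj'] at hN'
  have hgeom := geom_sum_mul_add (p - 1) f
  rw [Nat.sub_add_cancel hpp.one_le] at hgeom
  have hchar : ringChar F ≠ 2 := by
    rw [ringChar.eq F p]
    exact hp
  have hodd := FiniteField.odd_card_of_char_ne_two hchar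
  have hhalf : (p - 1) * N' = Fintype.card F / 2 := by
    rw [hF, ← hgeom, hN']
    have : (N' + N') * (p - 1) + 1 = 2 * ((p - 1) * N') + 1 := by ring
    rw [this]
    omega
  rw [hN', ← two_mul, pow_mul, ht2, ← pow_mul, hhalf]
  rcases FiniteField.pow_dichotomy hchar hD0 with h | h
  · exact absurd ((FiniteField.isSquare_iff hchar hD0).2 h) hD
  · exact h

variable {ι : Type} [Fintype ι] [DecidableEq ι] {Q : QuadraticForm F (ι → F)} [DecidableEq F]

/-- the `f`-th power of a Frobenius automorphism with determinant of norm `-1` is not in the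
image of `SO` -/
theorem Good.frob_pow_notMem (G : Good Q) (h2 : (2 : F) ≠ 0) {i₁ j₁ i₂ j₂ : ι}
    (hT : Cfsg.Agent.Helper2.Orth.TwoHyp Q i₁ j₁ i₂ j₂) (hcard : Even (Fintype.card ι))
    {f : ℕ} (hF : Fintype.card F = p ^ f) {g : GL ι F} (h : IsSemiIso Q g (frobAut p))
    (hdet : (g : Matrix ι ι F).det ^ (∑ j ∈ Finset.range f, p ^ j) = -1) :
    (stdAut h.toPair) ^ f ∉ ConfAut.PSO Q := by
  obtain ⟨gf, hiso, hdetf, hf, e⟩ := semiIso_pow p h f
  have hσ : ((frobAut (F := F) p) ^ f : RingAut F) = RingEquiv.refl F := frobAut_pow_card p hF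
  have hiso' : IsSemiIso Q gf (RingEquiv.refl F) := by
    rw [← hσ]
    exact hiso
  have hm : IsMult Q gf 1 := hiso'.isMult
  have hGO : gf ∈ GO (⇑Q) := hm.mem_GO one_ne_zero
  have e2 : stdAut hf = Phi (⇑Q) ⟨gf, hGO⟩ := by
    rw [← stdAut_refl_eq_Phi hiso'.toPair]
    exact stdAut_congr rfl hσ _ _
  rw [e, e2]
  intro hmem
  obtain ⟨s, hs1, hs2⟩ := (Phi_mem_SO_iff h2 G.nondeg hT ⟨gf, hGO⟩ hm).1 hmem
  obtain ⟨n, hn⟩ := hcard
  rw [hn, ← two_mul, pow_mul, ← hs1, one_pow] at hs2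
  have h3 : (gf : Matrix ι ι F).det = -1 := by rw [hdetf, hdet]
  have h4 : ((⟨gf, hGO⟩ : ↥(GO (⇑Q))) : GL ι F) = gf := rfl
  rw [h4, h3] at hs2
  exact neg_one_ne_one_of_two_ne_zero h2 hs2

end Cfsg.Agent.Helper17.OrthOut
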