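import Mathlib
import Cfsg.Agent.Lib.Helper17.OrthOut24
import Cfsg.Agent.Lib.Helper2.Psln18
import Cfsg.Agent.Lib.Helper2.Psln20
import Cfsg.Agent.Lib.Helper13.FieldAutFixed

set_option autoImplicit false
set_option linter.unusedSectionVars false
set_option linter.unusedSimpArgs false
set_option linter.unusedVariables false

/-!
# Field automorphisms of the orthogonal groups: matrix norms and powers (helper17)
-/

namespace Cfsg.Agent.Helper17.OrthFA

open QuadraticMap Matrix Cfsg.Agent.Helper13 Cfsg.Agent.Helper17.OrthOut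
  Cfsg.Agent.Helper17.OrthAut
open Cfsg.Agent.Helper2.PN (mnorm mnorm_zero mnorm_succ exists_descent hmin_of_orderOf pnorm_mul
  pnorm_one exists_pnorm_eq)
open Cfsg.Agent.Helper13.FAut (pnorm pnorm_zero pnorm_succ hilbert90)

section mats

variable {F : Type*} [Field F] {ι : Type*} [Fintype ι] [DecidableEq ι]

theorem mapσ_mul (σ : F ≃+* F) (A B : Matrix ι ι F) :
    (A * B).map σ = A.map σ * B.map σ := by
  ext i j
  simp only [Matrix.map_apply, Matrix.mul_apply, map_sum, map_mul]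

theorem mapσ_one (σ : F ≃+* F) : (1 : Matrix ι ι F).map σ = 1 := by
  ext i j
  simp only [Matrix.map_apply, Matrix.one_apply]
  split_ifs <;> simp

theorem mapσ_map (σ σ' : F ≃+* F) (M : Matrix ι ι F) :
    (M.map σ').map σ = M.map (σ * σ' : F ≃+* F) := by
  ext i j
  rfl

theorem mapσ_id (M : Matrix ι ι F) : M.map (1 : F ≃+* F) = M := by
  ext i j
  rfl

theorem mapσ_smul (σ : F ≃+* F) (c : F) (M : Matrix ι ι F) :
    (c • M).map σ = σ c • M.map σ := by
  ext i j
  simp only [Matrix.map_apply, Matrix.smul_apply, smul_eq_mul, map_mul]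

theorem mapσ_transpose (σ : F ≃+* F) (M : Matrix ι ι F) : (Mᵀ).map σ = (M.map σ)ᵀ := by
  ext i j
  rfl

theorem mapσ_add (σ : F ≃+* F) (A B : Matrix ι ι F) :
    (A + B).map σ = A.map σ + B.map σ := by
  ext i j
  simp only [Matrix.map_apply, Matrix.add_apply, map_add]

theorem mapσ_det (σ : F ≃+* F) (M : Matrix ι ι F) : (M.map σ).det = σ M.det :=
  (RingHom.map_det (σ : F →+* F) M).symm

theorem mapσ_isUnit (σ : F ≃+* F) {M : Matrix ι ι F} (h : IsUnit M) : IsUnit (M.map σ) := by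
  rw [Matrix.isUnit_iff_isUnit_det] at h ⊢
  rw [mapσ_det]
  exact h.map σ

theorem mnorm_succ' (σ : F ≃+* F) (g : Matrix ι ι F) (i : ℕ) :
    mnorm σ g (i + 1) = mnorm σ g i * g.map (σ ^ i : F ≃+* F) := by
  induction i with
  | zero =>
    rw [mnorm_succ, mnorm_zero, mapσ_one, Matrix.mul_one, Matrix.one_mul, pow_zero, mapσ_id]
  | succ i ih =>
    calc mnorm σ g (i + 1 + 1) = g * (mnorm σ g (i + 1)).map σ := rfl
      _ = g * (mnorm σ g i * g.map (σ ^ i : F ≃+* F)).map σ := by rw [ih]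
      _ = (g * (mnorm σ g i).map σ) * (g.map (σ ^ i : F ≃+* F)).map σ := by
        rw [mapσ_mul, Matrix.mul_assoc]
      _ = mnorm σ g (i + 1) * g.map (σ ^ (i + 1) : F ≃+* F) := by
        rw [mapσ_map, ← pow_succ']
        rfl

theorem mnorm_smul (σ : F ≃+* F) (a : F) (g : Matrix ι ι F) (i : ℕ) :
    mnorm σ (a • g) i = pnorm σ a i • mnorm σ g i := by
  induction i with
  | zero => rw [mnorm_zero, mnorm_zero, pnorm_zero, one_smul]
  | succ i ih =>
    rw [mnorm_succ, ih, mapσ_smul, Matrix.smul_mul, Matrix.mul_smul, smul_smul,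
      pnorm_succ, mnorm_succ]

theorem map_pow_of_twist (σ : RingAut F) (M : Matrix ι ι F) (l : F) (h : M.map σ = l • M)
    (i : ℕ) : M.map (σ ^ i : F ≃+* F) = pnorm σ l i • M := by
  induction i with
  | zero => rw [pow_zero, mapσ_id, pnorm_zero, one_smul]
  | succ i ih =>
    rw [pow_succ', ← mapσ_map, ih, mapσ_smul, h, smul_smul, pnorm_succ, mul_comm]

theorem smul_cancel_of_unit [Nonempty ι] {M : Matrix ι ι F} (hM : IsUnit M) {c c' : F}
    (h : c • M = c' • M) : c = c' := by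
  obtain ⟨u, rfl⟩ := hM
  have h1 : (c • (u : Matrix ι ι F)) * ((u⁻¹ : (Matrix ι ι F)ˣ) : Matrix ι ι F) =
      (c' • (u : Matrix ι ι F)) * ((u⁻¹ : (Matrix ι ι F)ˣ) : Matrix ι ι F) := by rw [h]
  rw [Matrix.smul_mul, Matrix.smul_mul, Units.mul_inv] at h1
  obtain ⟨i⟩ := ‹Nonempty ι›
  have h2 := congrFun (congrFun h1 i) i
  simpa using h2

theorem GL_isUnit (g : GL ι F) : IsUnit (g : Matrix ι ι F) := ⟨g, rfl⟩

/-- the norm in the general linear group -/
noncomputable def gnorm (σ : F ≃+* F) (g : GL ι F) : ℕ → GL ι F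
  | 0 => 1
  | (i + 1) => g * Matrix.GeneralLinearGroup.map (σ : F →+* F) (gnorm σ g i)

theorem gnorm_zero (σ : F ≃+* F) (g : GL ι F) : gnorm σ g 0 = 1 := rfl

theorem gnorm_succ (σ : F ≃+* F) (g : GL ι F) (i : ℕ) :
    gnorm σ g (i + 1) = g * Matrix.GeneralLinearGroup.map (σ : F →+* F) (gnorm σ g i) := rfl

theorem gnorm_val (σ : F ≃+* F) (g : GL ι F) (i : ℕ) :
    ((gnorm σ g i : GL ι F) : Matrix ι ι F) = mnorm σ (g : Matrix ι ι F) i := by
  induction i with
  | zero => rfl
  | succ i ih =>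
    rw [gnorm_succ, mnorm_succ, ← ih]
    rfl

end mats

section pow

variable {F : Type*} [Field F] [Fintype F] {ι : Type} [Fintype ι] [DecidableEq ι]
  {Q : QuadraticForm F (ι → F)}

/-- the powers of the automorphism of a semisimilarity -/
theorem stdAut_pow {g : GL ι F} {σ : F ≃+* F} (h : Cfsg.IsSemisimilarityPair (⇑Q) g σ) (i : ℕ) :
    ∃ hi : Cfsg.IsSemisimilarityPair (⇑Q) (gnorm σ g i) ((σ : RingAut F) ^ i : RingAut F),
      (stdAut h) ^ i = stdAut hi := by
  induction i with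
  | zero =>
    have hσ : RingEquiv.refl F = ((σ : RingAut F) ^ 0 : RingAut F) := (pow_zero _).symm
    have h0 : Cfsg.IsSemisimilarityPair (⇑Q) (gnorm σ g 0) ((σ : RingAut F) ^ 0 : RingAut F) := by
      rw [← hσ, gnorm_zero]
      exact isSemisim_one
    refine ⟨h0, ?_⟩
    rw [pow_zero, ← stdAut_one]
    exact stdAut_congr rfl hσ _ _
  | succ i ih =>
    obtain ⟨hi, e⟩ := ih
    have hσ : ((σ : RingAut F) * (σ : RingAut F) ^ i : RingAut F) = (σ : RingAut F) ^ (i + 1) :=
      (pow_succ' _ i).symm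
    have h' : Cfsg.IsSemisimilarityPair (⇑Q) (gnorm σ g (i + 1))
        ((σ : RingAut F) ^ (i + 1) : RingAut F) := by
      rw [← hσ, gnorm_succ]
      exact isSemisim_mul h hi
    refine ⟨h', ?_⟩
    rw [pow_succ', e, stdAut_mul]
    exact stdAut_congr rfl hσ _ _

/-- the product of a similarity and a semisimilarity -/
theorem stdAut_mul_refl {g y : GL ι F} {σ : F ≃+* F}
    (hy : Cfsg.IsSemisimilarityPair (⇑Q) y (RingEquiv.refl F))
    (h : Cfsg.IsSemisimilarityPair (⇑Q) g σ) :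
    ∃ h' : Cfsg.IsSemisimilarityPair (⇑Q) (y * g) σ, stdAut hy * stdAut h = stdAut h' := by
  have hg : y * Matrix.GeneralLinearGroup.map ((RingEquiv.refl F : F ≃+* F) : F →+* F) g = y * g := by
    congr 1
  have hσ : ((RingEquiv.refl F : RingAut F) * (σ : RingAut F) : RingAut F) = σ := one_mul _
  have h' : Cfsg.IsSemisimilarityPair (⇑Q) (y * g) σ := by
    have := isSemisim_mul hy h
    rw [hg] at this
    exact this
  refine ⟨h', ?_⟩
  rw [stdAut_mul]
  exact stdAut_congr hg hσ _ _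

/-- the product of a semisimilarity and a similarity -/
theorem stdAut_refl_mul {g y : GL ι F} {σ : F ≃+* F}
    (h : Cfsg.IsSemisimilarityPair (⇑Q) g σ)
    (hy : Cfsg.IsSemisimilarityPair (⇑Q) y (RingEquiv.refl F)) :
    ∃ h' : Cfsg.IsSemisimilarityPair (⇑Q) (g * Matrix.GeneralLinearGroup.map (σ : F →+* F) y) σ,
      stdAut h * stdAut hy = stdAut h' := by
  have hσ : ((σ : RingAut F) * (RingEquiv.refl F : RingAut F) : RingAut F) = σ := mul_one _
  have h' : Cfsg.IsSemisimilarityPair (⇑Q) (g * Matrix.GeneralLinearGroup.map (σ : F →+* F) y)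
      σ := by
    have := isSemisim_mul h hy
    exact this
  refine ⟨h', ?_⟩
  rw [stdAut_mul]
  exact stdAut_congr rfl hσ _ _

end pow

end Cfsg.Agent.Helper17.OrthFA
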