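import Mathlib
import Cfsg.Agent.Lib.Helper17.OrthFA1

set_option autoImplicit false
set_option linter.unusedSectionVars false
set_option linter.unusedSimpArgs false
set_option linter.unusedVariables false

/-!
# Field automorphisms of the orthogonal groups: conjugacy in the coset (helper17)
-/

namespace Cfsg.Agent.Helper17.OrthFA

open QuadraticMap Matrix Cfsg.Agent.Helper13 Cfsg.Agent.Helper17.OrthOut
  Cfsg.Agent.Helper17.OrthAut
open Cfsg.Agent.Helper2.PN (mnorm mnorm_zero mnorm_succ exists_descent hmin_of_orderOf pnorm_mul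
  pnorm_one exists_pnorm_eq)
open Cfsg.Agent.Helper13.FAut (pnorm pnorm_zero pnorm_succ hilbert90)

section forms

variable {F : Type*} [Field F] {ι : Type*} [Fintype ι] [DecidableEq ι]

theorem matQ_congr_mul (M A : Matrix ι ι F) (v : ι → F) :
    matQ (Aᵀ * M * A) v = matQ M (A *ᵥ v) := by
  rw [matQ_apply, matQ_apply, ← Matrix.mulVec_mulVec, ← Matrix.mulVec_mulVec,
    Matrix.dotProduct_mulVec, Matrix.vecMul_transpose]

theorem matQ_smul (M : Matrix ι ι F) (c : F) (v : ι → F) :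
    matQ (c • M) v = c * matQ M v := by
  rw [matQ_apply, matQ_apply, Matrix.smul_mulVec, dotProduct_smul, smul_eq_mul]

/-- iterating a twisted equivariance -/
theorem twist_pow (σ : RingAut F) (q : (ι → F) → F) (μ : F)
    (h : ∀ v : ι → F, q (fun i => σ (v i)) = μ * σ (q v)) (n : ℕ) (v : ι → F) :
    q (fun i => ((σ ^ n : RingAut F)) (v i)) = pnorm σ μ n * ((σ ^ n : RingAut F)) (q v) := by
  induction n with
  | zero => simp [pnorm_zero]
  | succ n ih =>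
    have h1 : (fun i => ((σ ^ (n + 1) : RingAut F)) (v i)) =
        fun i => σ ((fun j => ((σ ^ n : RingAut F)) (v j)) i) := by
      funext i
      rw [pow_succ']
      rfl
    rw [h1, h, ih, map_mul, pnorm_succ, mul_assoc]
    congr 1
    rw [pow_succ']
    rfl

end forms

section main

variable {F : Type*} [Field F] [Fintype F] {ι : Type} [Fintype ι] [DecidableEq ι]

/-- the hypotheses on the field automorphism -/
structure SigHypQ (M : Matrix ι ι F) (σ : F ≃+* F) (r : ℕ) : Prop where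
  hr : 0 < r
  hord : orderOf σ = r
  hdesc : ∀ N : Matrix ι ι F, (∀ v : ι → F, matQ N (fun i => σ (v i)) = σ (matQ N v)) →
    (∃ h : Matrix ι ι F, IsUnit h ∧ ∃ c : F, c ≠ 0 ∧ ∀ v, matQ N v = c * matQ M (h *ᵥ v)) →
    ∃ k : Matrix ι ι F, k.map σ = k ∧ IsUnit k ∧ ∃ c : F, c ≠ 0 ∧
      ∀ v, matQ N (k *ᵥ v) = c * matQ M v

theorem stdAut_scalar {Q : QuadraticForm F (ι → F)} (a : Fˣ)
    (h : Cfsg.IsSemisimilarityPair (⇑Q) (ConfAut.scalarGL a : GL ι F) (RingEquiv.refl F)) :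
    stdAut h = 1 := by
  rw [stdAut_refl_eq_Phi]
  exact Phi_of_scalar _ (ConfAut.scalarGL_mem a)

/-- **conjugacy in the coset of a standard field automorphism** -/
theorem exists_conj_std {M : Matrix ι ι F} (G : Good (matQ M)) {σ : F ≃+* F} {r : ℕ}
    (hS : SigHypQ M σ r)
    (h1 : Cfsg.IsSemisimilarityPair (⇑(matQ M)) (1 : GL ι F) σ) {g : GL ι F}
    (hg : Cfsg.IsSemisimilarityPair (⇑(matQ M)) g σ) (hpow : (stdAut hg) ^ r = 1) :
    ∃ (y : GL ι F) (hy : Cfsg.IsSemisimilarityPair (⇑(matQ M)) y (RingEquiv.refl F)),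
      stdAut hg = stdAut hy * stdAut h1 * (stdAut hy)⁻¹ := by
  obtain ⟨w, hw⟩ := G.exists_Q_ne_zero
  have hne : Nonempty ι := by
    by_contra hcon
    rw [not_nonempty_iff] at hcon
    apply hw
    have : w = 0 := Subsingleton.elim _ _
    rw [this, map_zero]
  have hσr : (σ : RingAut F) ^ r = 1 := hS.hord ▸ pow_orderOf_eq_one (σ : RingAut F)
  have hmin := hmin_of_orderOf σ r hS.hord
  obtain ⟨hi, hpi⟩ := stdAut_pow hg r
  rw [hpi, ← stdAut_one] at hpow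
  obtain ⟨-, c, hc⟩ := G.stdAut_eq_imp isSemisim_one hi hpow.symm
  rw [gnorm_val, Units.val_one] at hc
  obtain ⟨Gm, hGm⟩ : ∃ Gm : Matrix ι ι F, Gm = (g : Matrix ι ι F) := ⟨_, rfl⟩
  rw [← hGm] at hc
  have hGu : IsUnit Gm := by rw [hGm]; exact GL_isUnit _
  -- `c` is fixed and nonzero
  have hσc : σ c = c := by
    have h1 : mnorm σ Gm (r + 1) = σ c • Gm := by
      rw [mnorm_succ, hc, mapσ_smul, mapσ_one, Matrix.mul_smul, Matrix.mul_one]
    have h2 : mnorm σ Gm (r + 1) = c • Gm := by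
      rw [mnorm_succ', hσr, mapσ_id, hc, Matrix.smul_mul, Matrix.one_mul]
    rw [h1] at h2
    exact smul_cancel_of_unit hGu h2
  have hc0 : c ≠ 0 := by
    rintro rfl
    have h1 : IsUnit (mnorm σ Gm r) := by
      rw [hGm, ← gnorm_val]
      exact GL_isUnit _
    rw [hc, zero_smul] at h1
    exact not_isUnit_zero h1
  obtain ⟨a, ha0, ha⟩ := exists_pnorm_eq σ r hS.hr hσr hmin c hc0 hσc
  obtain ⟨G', hG'⟩ : ∃ G' : Matrix ι ι F, G' = a⁻¹ • Gm := ⟨_, rfl⟩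
  have hn1 : mnorm σ G' r = 1 := by
    have h1 : pnorm σ a⁻¹ r * pnorm σ a r = 1 := by
      rw [← pnorm_mul, inv_mul_cancel₀ ha0, pnorm_one]
    rw [hG', mnorm_smul, hc, smul_smul, ← ha, h1, one_smul]
  obtain ⟨h₀, hu, hh⟩ := exists_descent σ G' r hS.hr hσr hmin hn1
  have hh' : Gm * h₀.map σ = a • h₀ := by
    rw [hG', Matrix.smul_mul] at hh
    calc Gm * h₀.map σ = a • (a⁻¹ • (Gm * h₀.map σ)) := by
          rw [smul_smul, mul_inv_cancel₀ ha0, one_smul]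
      _ = a • h₀ := by rw [hh]
  obtain ⟨μ, hμ⟩ := hg
  -- the transported form
  obtain ⟨N₁, hN₁⟩ : ∃ N₁ : Matrix ι ι F, N₁ = h₀ᵀ * M * h₀ := ⟨_, rfl⟩
  have hN₁v : ∀ v, matQ N₁ v = matQ M (h₀ *ᵥ v) := by
    intro v
    rw [hN₁, matQ_congr_mul]
  obtain ⟨μ', hμ'⟩ : ∃ μ' : F, μ' = (a⁻¹) ^ 2 * (μ : F) := ⟨_, rfl⟩
  have hμ'0 : μ' ≠ 0 := by
    rw [hμ']
    exact mul_ne_zero (pow_ne_zero _ (inv_ne_zero ha0)) μ.ne_zero
  have hN₁σ : ∀ v : ι → F, matQ N₁ (fun i => σ (v i)) = μ' * σ (matQ N₁ v) := by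
    intro v
    rw [hN₁v, hN₁v]
    have e1 : h₀ *ᵥ (fun i => σ (v i)) =
        a⁻¹ • (Gm *ᵥ (fun i => σ ((h₀ *ᵥ v) i))) := by
      rw [← mulVec_map_sigma, Matrix.mulVec_mulVec, hh', Matrix.smul_mulVec, smul_smul,
        inv_mul_cancel₀ ha0, one_smul]
    rw [e1, QuadraticMap.map_smul, hGm, hμ, hμ', smul_eq_mul]
    ring
  obtain ⟨w₁, hw₁⟩ : ∃ w₁ : ι → F, matQ N₁ w₁ ≠ 0 := by
    obtain ⟨u, hu'⟩ := hu
    refine ⟨((u⁻¹ : (Matrix ι ι F)ˣ) : Matrix ι ι F) *ᵥ w, ?_⟩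
    rw [hN₁v, Matrix.mulVec_mulVec, ← hu', Units.mul_inv, Matrix.one_mulVec]
    exact hw
  have hμn : pnorm σ μ' r = 1 := by
    have h3 := twist_pow σ (fun v => matQ N₁ v) μ' hN₁σ r w₁
    rw [hσr] at h3
    have h4 : matQ N₁ w₁ = pnorm σ μ' r * matQ N₁ w₁ := h3
    have h5 : (1 : F) * matQ N₁ w₁ = pnorm σ μ' r * matQ N₁ w₁ := by
      rw [one_mul]
      exact h4
    exact (mul_right_cancel₀ hw₁ h5).symm
  obtain ⟨ν, hν0, hν⟩ := hilbert90 σ r hS.hr hσr hmin μ' hμn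
  obtain ⟨N, hN⟩ : ∃ N : Matrix ι ι F, N = ν⁻¹ • N₁ := ⟨_, rfl⟩
  have hNσ : ∀ v : ι → F, matQ N (fun i => σ (v i)) = σ (matQ N v) := by
    intro v
    rw [hN, matQ_smul, matQ_smul, hN₁σ, map_mul, map_inv₀]
    have hσν : σ ν ≠ 0 := (map_ne_zero σ).2 hν0
    have e : ν⁻¹ * μ' = (σ ν)⁻¹ := by
      apply eq_inv_of_mul_eq_one_left
      rw [mul_assoc, hν, inv_mul_cancel₀ hν0]
    rw [← mul_assoc, e]
  have hNsim : ∃ h : Matrix ι ι F, IsUnit h ∧ ∃ c : F, c ≠ 0 ∧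
      ∀ v, matQ N v = c * matQ M (h *ᵥ v) := by
    refine ⟨h₀, hu, ν⁻¹, inv_ne_zero hν0, fun v => ?_⟩
    rw [hN, matQ_smul, hN₁v]
  obtain ⟨k, hkσ, hku, c', hc'0, hk⟩ := hS.hdesc N hNσ hNsim
  obtain ⟨y, hy⟩ : ∃ y : GL ι F, (y : Matrix ι ι F) = h₀ * k :=
    ⟨(hu.mul hku).unit, IsUnit.unit_spec _⟩
  have hyQ : ∀ v, matQ M ((y : Matrix ι ι F) *ᵥ v) = (ν * c') * matQ M v := by
    intro v
    rw [hy, ← Matrix.mulVec_mulVec, ← hN₁v]
    have h2 : N₁ = ν • N := by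
      rw [hN, smul_smul, mul_inv_cancel₀ hν0, one_smul]
    rw [h2, matQ_smul, hk, mul_assoc]
  have hyS : Cfsg.IsSemisimilarityPair (⇑(matQ M)) y (RingEquiv.refl F) := by
    refine ⟨Units.mk0 (ν * c') (mul_ne_zero hν0 hc'0), fun v => ?_⟩
    rw [Units.val_mk0]
    exact hyQ v
  refine ⟨y, hyS, ?_⟩
  rw [eq_mul_inv_iff_mul_eq]
  obtain ⟨hL, eL⟩ := stdAut_refl_mul ⟨μ, hμ⟩ hyS
  obtain ⟨hR, eR⟩ := stdAut_mul_refl hyS h1
  rw [eL, eR]
  have hsc : Cfsg.IsSemisimilarityPair (⇑(matQ M)) (ConfAut.scalarGL (Units.mk0 a ha0) : GL ι F)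
      (RingEquiv.refl F) :=
    (isSemisim_refl_iff _).2 (ConfAut.scalarGL_mem_GO _)
  obtain ⟨hR', eR'⟩ := stdAut_mul_refl hsc hR
  rw [stdAut_scalar, one_mul] at eR'
  rw [eR']
  apply stdAut_congr _ rfl
  apply Units.ext
  change (g : Matrix ι ι F) * (y : Matrix ι ι F).map σ =
    ((ConfAut.scalarGL (Units.mk0 a ha0) : GL ι F) : Matrix ι ι F) *
      ((y : Matrix ι ι F) * ((1 : GL ι F) : Matrix ι ι F))
  rw [ConfAut.scalarGL_coe, Units.val_mk0, Units.val_one, Matrix.mul_one, Matrix.smul_mul,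
    Matrix.one_mul, hy, mapσ_mul, hkσ, ← Matrix.mul_assoc, ← hGm, hh', Matrix.smul_mul]

end main

end Cfsg.Agent.Helper17.OrthFA
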