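import Mathlib
import Cfsg.Agent.Lib.Helper17.OrthFA2
import Cfsg.Agent.Lib.Helper13.QuadFinite

set_option autoImplicit false
set_option linter.unusedSectionVars false
set_option linter.unusedSimpArgs false
set_option linter.unusedVariables false

/-!
# Field automorphisms of the orthogonal groups: descent of quadratic forms (helper17)
-/

namespace Cfsg.Agent.Helper17.OrthFA

open QuadraticMap Matrix Cfsg.Agent.Helper13
open Cfsg.Agent.Helper13.FAut (fixedField mem_fixedField)

section tri

variable {K : Type*} [Field K] {ι : Type*} [Fintype ι] [DecidableEq ι]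

/-- a triangular matrix of a quadratic form -/
theorem exists_tri (Q : QuadraticForm K (ι → K)) :
    ∃ N : Matrix ι ι K, matQ N = Q ∧ ∀ i j, N i j = Q (Pi.single i 1) ∨
      N i j = polar Q (Pi.single i 1) (Pi.single j 1) ∨ N i j = 0 := by
  classical
  letI : LinearOrder ι :=
    LinearOrder.lift' (Fintype.equivFin ι) (Fintype.equivFin ι).injective
  refine ⟨LinearMap.BilinForm.toMatrix' (Q.toBilin (Pi.basisFun K ι)), ?_, ?_⟩
  · unfold matQ
    rw [Matrix.toBilin'_toMatrix', QuadraticMap.toQuadraticMap_toBilin]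
  · intro i j
    rw [LinearMap.BilinForm.toMatrix'_apply]
    have h := QuadraticMap.toBilin_apply Q (Pi.basisFun K ι) i j
    rw [Pi.basisFun_apply, Pi.basisFun_apply] at h
    rw [h]
    split_ifs
    · left; rfl
    · right; left; rfl
    · right; right; rfl

/-- a quadratic form is determined by its values and polar values on the standard basis -/
theorem quad_ext {Q₁ Q₂ : QuadraticForm K (ι → K)}
    (h1 : ∀ i, Q₁ (Pi.single i 1) = Q₂ (Pi.single i 1))
    (h2 : ∀ i j, polar Q₁ (Pi.single i 1) (Pi.single j 1) =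
      polar Q₂ (Pi.single i 1) (Pi.single j 1)) : Q₁ = Q₂ := by
  classical
  letI : LinearOrder ι :=
    LinearOrder.lift' (Fintype.equivFin ι) (Fintype.equivFin ι).injective
  have h : Q₁.toBilin (Pi.basisFun K ι) = Q₂.toBilin (Pi.basisFun K ι) := by
    apply (Pi.basisFun K ι).ext
    intro i
    apply (Pi.basisFun K ι).ext
    intro j
    rw [QuadraticMap.toBilin_apply, QuadraticMap.toBilin_apply]
    simp only [Pi.basisFun_apply, h1, h2]
  rw [← QuadraticMap.toQuadraticMap_toBilin Q₁ (Pi.basisFun K ι), h,
    QuadraticMap.toQuadraticMap_toBilin]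

theorem gram_eq_of_matQ_eq {A B : Matrix ι ι K} (h : matQ A = matQ B) : A + Aᵀ = B + Bᵀ := by
  rw [← gram_matQ, ← gram_matQ, h]

theorem diag_eq_of_matQ_eq {A B : Matrix ι ι K} (h : matQ A = matQ B) (i : ι) :
    A i i = B i i := by
  rw [← matQ_single A i, ← matQ_single B i, h]

theorem matQ_eq_of_diag_gram {A B : Matrix ι ι K} (hd : ∀ i, A i i = B i i)
    (hg : A + Aᵀ = B + Bᵀ) : matQ A = matQ B := by
  apply quad_ext
  · intro i
    rw [matQ_single, matQ_single, hd]
  · intro i j
    rw [polar_matQ_single, polar_matQ_single]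
    have := congrFun (congrFun hg i) j
    simpa [Matrix.add_apply, Matrix.transpose_apply] using this

/-- base change of an equality of forms -/
theorem matQ_map_eq {K₀ : Type*} [Field K₀] (j : K₀ →+* K) {A B : Matrix ι ι K₀}
    (h : matQ A = matQ B) : matQ (A.map j) = matQ (B.map j) := by
  apply matQ_eq_of_diag_gram
  · intro i
    rw [Matrix.map_apply, Matrix.map_apply, diag_eq_of_matQ_eq h]
  · have hg := gram_eq_of_matQ_eq h
    ext i k
    have := congrFun (congrFun hg i) k
    simp only [Matrix.add_apply, Matrix.transpose_apply, Matrix.map_apply] at this ⊢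
    rw [← map_add, ← map_add, this]

end tri

section fixed

variable {F : Type*} [Field F] {ι : Type*} [Fintype ι] [DecidableEq ι]

/-- a matrix fixed by `σ` has its entries in the fixed field -/
theorem exists_of_fixed (σ : F ≃+* F) {M : Matrix ι ι F} (h : M.map σ = M) :
    ∃ M₀ : Matrix ι ι (fixedField σ), M₀.map (fixedField σ).subtype = M := by
  refine ⟨fun i j => ⟨M i j, (mem_fixedField σ _).2 ?_⟩, ?_⟩
  · have := congrFun (congrFun h i) j
    exact this
  · ext i j
    rfl

theorem map_subtype_fixed (σ : F ≃+* F) (M₀ : Matrix ι ι (fixedField σ)) :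
    (M₀.map (fixedField σ).subtype).map σ = M₀.map (fixedField σ).subtype := by
  ext i j
  exact (mem_fixedField σ _).1 (M₀ i j).2

/-- a `σ`-equivariant form has a `σ`-fixed matrix -/
theorem exists_fixed_matrix (σ : F ≃+* F) (N : Matrix ι ι F)
    (hN : ∀ v : ι → F, matQ N (fun i => σ (v i)) = σ (matQ N v)) :
    ∃ N' : Matrix ι ι F, matQ N' = matQ N ∧ N'.map σ = N' := by
  obtain ⟨N', h1, h2⟩ := exists_tri (matQ N)
  refine ⟨N', h1, ?_⟩
  have hs : ∀ i : ι, (fun k => σ ((Pi.single i (1 : F) : ι → F) k)) = Pi.single i 1 := by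
    intro i
    funext k
    by_cases hk : k = i
    · subst hk
      simp
    · simp [Pi.single_apply, hk]
  have hs2 : ∀ i j : ι, (fun k => σ ((Pi.single i (1 : F) + Pi.single j 1 : ι → F) k)) =
      Pi.single i 1 + Pi.single j 1 := by
    intro i j
    funext k
    rw [Pi.add_apply, map_add, ← hs i, ← hs j]
    simp only [Pi.add_apply]
    rw [congrFun (hs i) k, congrFun (hs j) k]
    have e1 := congrFun (hs i) k
    have e2 := congrFun (hs j) k
    simp only at e1 e2
    rw [e1, e2]
  have hf1 : ∀ i : ι, σ (matQ N (Pi.single i 1)) = matQ N (Pi.single i 1) := by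
    intro i
    rw [← hN, hs]
  have hf2 : ∀ i j : ι, σ (polar (matQ N) (Pi.single i 1) (Pi.single j 1)) =
      polar (matQ N) (Pi.single i 1) (Pi.single j 1) := by
    intro i j
    unfold polar
    rw [map_sub, map_sub, hf1, hf1, ← hN, hs2]
  ext i j
  rw [Matrix.map_apply]
  rcases h2 i j with h | h | h
  · rw [h, hf1]
  · rw [h, hf2]
  · rw [h, map_zero]

end fixed

end Cfsg.Agent.Helper17.OrthFA
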