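import Mathlib
import Cfsg.Agent.Lib.Helper17.OrthFA3

set_option autoImplicit false
set_option linter.unusedSectionVars false
set_option linter.unusedSimpArgs false
set_option linter.unusedVariables false

/-!
# Field automorphisms of the orthogonal groups: the descent hypothesis in odd dimension
(helper17)
-/

namespace Cfsg.Agent.Helper17.OrthFA

open QuadraticMap Matrix Cfsg.Agent.Helper13
open Cfsg.Agent.Helper13.FAut (fixedField mem_fixedField)

section sim

variable {K : Type*} [Field K] [Finite K] {ι : Type*} [Fintype ι] [DecidableEq ι]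

theorem det_map_hom {K₀ : Type*} [Field K₀] (f : K₀ →+* K) (M : Matrix ι ι K₀) :
    (M.map f).det = f M.det := (RingHom.map_det f M).symm

theorem smul_add_transpose (c : K) (B : Matrix ι ι K) :
    c • B + (c • B)ᵀ = c • (B + Bᵀ) := by
  rw [Matrix.transpose_smul, smul_add]

/-- in odd dimension two nondegenerate forms are similar -/
theorem exists_similarity_odd_card (h2 : (2 : K) ≠ 0) (hodd : Odd (Fintype.card ι))
    (A B : Matrix ι ι K) (hA : (A + Aᵀ).det ≠ 0) (hB : (B + Bᵀ).det ≠ 0) :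
    ∃ (g : (ι → K) ≃ₗ[K] (ι → K)) (c : K), c ≠ 0 ∧ ∀ v, matQ A (g v) = c * matQ B v := by
  haveI := Fintype.ofFinite K
  obtain ⟨c, hc⟩ : ∃ c : K, c = (A + Aᵀ).det * (B + Bᵀ).det := ⟨_, rfl⟩
  have hc0 : c ≠ 0 := by
    rw [hc]
    exact mul_ne_zero hA hB
  have hcB : (c • B + (c • B)ᵀ).det = c ^ Fintype.card ι * (B + Bᵀ).det := by
    rw [smul_add_transpose, Matrix.det_smul]
  have hndB : (polarBilin (matQ (c • B))).Nondegenerate := by
    apply matQ_nondeg
    rw [hcB]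
    exact mul_ne_zero (pow_ne_zero _ hc0) hB
  have hndA : (polarBilin (matQ A)).Nondegenerate := matQ_nondeg A hA
  obtain ⟨n, hn⟩ := hodd
  obtain ⟨g, hg⟩ := equiv_of_disc_idx h2 (matQ (c • B)) (matQ A) hndB hndA
    (Pi.basisFun K ι) (Pi.basisFun K ι) rfl (by
      rw [gram_matQ, gram_matQ, hcB, hn]
      refine ⟨c ^ (n + 1), ?_⟩
      rw [hc]
      ring)
  refine ⟨g, c, hc0, fun v => ?_⟩
  rw [hg, matQ_smul]

end sim

section desc

variable {F : Type*} [Field F] [Fintype F] {ι : Type*} [Fintype ι] [DecidableEq ι]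

/-- the general shape of the descent: similarity over the fixed field gives the descent
hypothesis -/
theorem hdesc_of_fixed (σ : F ≃+* F) (M N : Matrix ι ι F) (hM : M.map σ = M)
    (hNσ : ∀ v : ι → F, matQ N (fun i => σ (v i)) = σ (matQ N v))
    (hsim : ∀ N₀ M₀ : Matrix ι ι (fixedField σ), M₀.map (fixedField σ).subtype = M →
      matQ (N₀.map (fixedField σ).subtype) = matQ N →
      ∃ (g : (ι → fixedField σ) ≃ₗ[fixedField σ] (ι → fixedField σ)) (c : fixedField σ),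
        c ≠ 0 ∧ ∀ v, matQ N₀ (g v) = c * matQ M₀ v) :
    ∃ k : Matrix ι ι F, k.map σ = k ∧ IsUnit k ∧ ∃ c : F, c ≠ 0 ∧
      ∀ v, matQ N (k *ᵥ v) = c * matQ M v := by
  obtain ⟨N', hN'Q, hN'σ⟩ := exists_fixed_matrix σ N hNσ
  obtain ⟨N₀, hN₀⟩ := exists_of_fixed σ hN'σ
  obtain ⟨M₀, hM₀⟩ := exists_of_fixed σ hM
  obtain ⟨g, c, hc0, hg⟩ := hsim N₀ M₀ hM₀ (by rw [hN₀, hN'Q])
  obtain ⟨k₀, hk₀⟩ : ∃ k₀ : Matrix ι ι (fixedField σ), k₀ = LinearMap.toMatrix' g.toLinearMap :=
    ⟨_, rfl⟩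
  have hk₀v : ∀ v, k₀ *ᵥ v = g v := by
    intro v
    rw [hk₀, ← Matrix.toLin'_apply, Matrix.toLin'_toMatrix']
    rfl
  have hk₀u : IsUnit k₀ := by
    rw [Matrix.isUnit_iff_isUnit_det, hk₀]
    have := LinearEquiv.isUnit_det' g
    rwa [← LinearMap.det_toMatrix'] at this
  have hform : matQ (k₀ᵀ * N₀ * k₀) = matQ (c • M₀) := by
    apply DFunLike.ext
    intro v
    rw [matQ_congr_mul, hk₀v, hg, matQ_smul]
  have hform' := matQ_map_eq (fixedField σ).subtype hform
  obtain ⟨k, hk⟩ : ∃ k : Matrix ι ι F, k = k₀.map (fixedField σ).subtype := ⟨_, rfl⟩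
  have e1 : (k₀ᵀ * N₀ * k₀).map (fixedField σ).subtype = kᵀ * N' * k := by
    rw [Matrix.map_mul, Matrix.map_mul, hN₀, ← hk, Matrix.transpose_map, ← hk]
  have e2 : (c • M₀).map (fixedField σ).subtype = (c : F) • M := by
    rw [← hM₀]
    ext i j
    simp only [Matrix.map_apply, Matrix.smul_apply, smul_eq_mul, map_mul]
    rfl
  rw [e1, e2] at hform'
  refine ⟨k, ?_, ?_, (c : F), ?_, fun v => ?_⟩
  · rw [hk]
    exact map_subtype_fixed σ k₀
  · rw [Matrix.isUnit_iff_isUnit_det, hk, det_map_hom]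
    rw [Matrix.isUnit_iff_isUnit_det] at hk₀u
    exact hk₀u.map _
  · intro h
    apply hc0
    exact Subtype.ext h
  · rw [← hN'Q, ← matQ_congr_mul, hform', matQ_smul]

/-- the descent hypothesis in odd dimension and odd characteristic -/
theorem hdesc_odd (h2 : (2 : F) ≠ 0) (hodd : Odd (Fintype.card ι)) (σ : F ≃+* F)
    (M : Matrix ι ι F) (hM : M.map σ = M) (hMnd : (M + Mᵀ).det ≠ 0)
    (N : Matrix ι ι F) (hNσ : ∀ v : ι → F, matQ N (fun i => σ (v i)) = σ (matQ N v))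
    (hNsim : ∃ h : Matrix ι ι F, IsUnit h ∧ ∃ c : F, c ≠ 0 ∧
      ∀ v, matQ N v = c * matQ M (h *ᵥ v)) :
    ∃ k : Matrix ι ι F, k.map σ = k ∧ IsUnit k ∧ ∃ c : F, c ≠ 0 ∧
      ∀ v, matQ N (k *ᵥ v) = c * matQ M v := by
  apply hdesc_of_fixed σ M N hM hNσ
  intro N₀ M₀ hM₀ hN₀
  have h2' : (2 : fixedField σ) ≠ 0 := by
    intro h
    apply h2
    rw [← map_ofNat (fixedField σ).subtype 2, h, map_zero]
  obtain ⟨h, hu, c, hc0, hh⟩ := hNsim
  have hdetN : ((N₀.map (fixedField σ).subtype) + (N₀.map (fixedField σ).subtype)ᵀ).det ≠ 0 := by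
    have e : matQ (N₀.map (fixedField σ).subtype) = matQ (c • (hᵀ * M * h)) := by
      rw [hN₀]
      apply DFunLike.ext
      intro v
      rw [hh, matQ_smul, matQ_congr_mul]
    rw [gram_eq_of_matQ_eq e, smul_add_transpose, Matrix.det_smul]
    have e3 : hᵀ * M * h + (hᵀ * M * h)ᵀ = hᵀ * (M + Mᵀ) * h := by
      rw [Matrix.transpose_mul, Matrix.transpose_mul, Matrix.transpose_transpose,
        Matrix.mul_add, Matrix.add_mul, Matrix.mul_assoc hᵀ Mᵀ h]
    rw [e3, Matrix.det_mul, Matrix.det_mul, Matrix.det_transpose]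
    rw [Matrix.isUnit_iff_isUnit_det, isUnit_iff_ne_zero] at hu
    exact mul_ne_zero (pow_ne_zero _ hc0) (mul_ne_zero (mul_ne_zero hu hMnd) hu)
  have hA : (N₀ + N₀ᵀ).det ≠ 0 := by
    intro h0
    apply hdetN
    have : (N₀.map (fixedField σ).subtype) + (N₀.map (fixedField σ).subtype)ᵀ =
        (N₀ + N₀ᵀ).map (fixedField σ).subtype := by
      ext i j
      simp [Matrix.add_apply, Matrix.transpose_apply, Matrix.map_apply]
    rw [this, det_map_hom, h0, map_zero]
  have hB : (M₀ + M₀ᵀ).det ≠ 0 := by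
    intro h0
    apply hMnd
    have : M + Mᵀ = (M₀ + M₀ᵀ).map (fixedField σ).subtype := by
      rw [← hM₀]
      ext i j
      simp [Matrix.add_apply, Matrix.transpose_apply, Matrix.map_apply]
    rw [this, det_map_hom, h0, map_zero]
  exact exists_similarity_odd_card h2' hodd N₀ M₀ hA hB

end desc

end Cfsg.Agent.Helper17.OrthFA
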