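import Mathlib
import Cfsg.Agent.Lib.Helper17.OrthFA4

set_option autoImplicit false
set_option linter.unusedSectionVars false
set_option linter.unusedSimpArgs false
set_option linter.unusedVariables false

/-!
# Field automorphisms of the orthogonal groups: the coset theorem (helper17)
-/

namespace Cfsg.Agent.Helper17.OrthFA

open QuadraticMap Matrix Cfsg.Agent.Helper13 Cfsg.Agent.Helper17.OrthOut
  Cfsg.Agent.Helper17.OrthAut

section sig

variable {F : Type*} [Field F] {ι : Type*} [Fintype ι] [DecidableEq ι]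

theorem mulVec_mapσ (σ : F ≃+* F) (M : Matrix ι ι F) (v : ι → F) :
    M.map σ *ᵥ (fun i => σ (v i)) = fun i => σ ((M *ᵥ v) i) := by
  ext i
  exact (RingHom.map_mulVec (σ : F →+* F) M v i).symm

theorem matQ_map_sigma (σ : F ≃+* F) (M : Matrix ι ι F) (v : ι → F) :
    matQ (M.map σ) (fun i => σ (v i)) = σ (matQ M v) := by
  rw [matQ_apply, matQ_apply, mulVec_mapσ]
  exact (RingHom.map_dotProduct (σ : F →+* F) v (M *ᵥ v)).symm

end sig

section main

variable {F : Type*} [Field F] [Fintype F] {ι : Type} [Fintype ι] [DecidableEq ι]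

theorem isSemisim_fixed {M : Matrix ι ι F} {σ : F ≃+* F} (hM : M.map σ = M) :
    Cfsg.IsSemisimilarityPair (⇑(matQ M)) (1 : GL ι F) σ := by
  refine ⟨1, fun v => ?_⟩
  rw [Units.val_one, Matrix.one_mulVec, Units.val_one, one_mul]
  conv_lhs => rw [← hM]
  exact matQ_map_sigma σ M v

/-- a standard field automorphism is the automorphism of the pair `(1, σ)` -/
theorem fieldAut_eq_stdAut {M : Matrix ι ι F} {σ : F ≃+* F}
    (h1 : Cfsg.IsSemisimilarityPair (⇑(matQ M)) (1 : GL ι F) σ)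
    {φ : MulAut (Cfsg.POmega F (⇑(matQ M)))} (hφ : Cfsg.IsFieldAutPOmegaOf (⇑(matQ M)) σ φ) :
    φ = stdAut h1 := by
  apply eq_stdAut_of_induced h1
  intro s s' hss'
  apply hφ s s'
  rw [hss', inv_one, Units.val_one, Matrix.one_mul, Matrix.mul_one]

theorem orderOf_conj' {X : Type*} [Group X] (h x : X) : orderOf (h * x * h⁻¹) = orderOf x := by
  rw [← MulAut.conj_apply]
  exact MulEquiv.orderOf_eq (MulAut.conj h) x

/-- **the coset theorem** -/
theorem coset_conj {M : Matrix ι ι F} (G : Good (matQ M)) {σ : F ≃+* F} {r : ℕ} (hr : r.Prime)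
    (hσ1 : σ ≠ RingEquiv.refl F)
    (hS : orderOf σ = r → SigHypQ M σ r)
    (D : Subgroup (MulAut (Cfsg.POmega F (⇑(matQ M))))) [hDn : D.Normal]
    (hDle : D ≤ G.fieldHom.ker)
    (h1 : Cfsg.IsSemisimilarityPair (⇑(matQ M)) (1 : GL ι F) σ)
    (hD : ∀ η ∈ G.fieldHom.ker, ∃ ζ : MulAut (Cfsg.POmega F (⇑(matQ M))),
      ζ * stdAut h1 = stdAut h1 * ζ ∧ η * ζ ∈ D)
    (x δ α : MulAut (Cfsg.POmega F (⇑(matQ M)))) (hαx : α * x * α⁻¹ = stdAut h1)
    (hxr : orderOf x = r) (hδ : δ ∈ D) :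
    orderOf (δ * x) = r ↔ Cfsg.IsConjUnder D x (δ * x) := by
  constructor
  · intro hord
    have hφr : orderOf (stdAut h1) = r := by
      rw [← hαx, orderOf_conj', hxr]
    have hσr : orderOf σ = r := by
      have h3 : orderOf (G.fieldHom (stdAut h1)) ∣ orderOf (stdAut h1) := orderOf_map_dvd _ _
      rw [G.fieldHom_stdAut, hφr] at h3
      rcases (Nat.dvd_prime hr).1 h3 with h4 | h4
      · exfalso
        apply hσ1
        exact orderOf_eq_one_iff.1 h4
      · exact h4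
    have hS' := hS hσr
    -- conjugate by `α`
    obtain ⟨δ', hδ'⟩ : ∃ δ', δ' = α * δ * α⁻¹ := ⟨_, rfl⟩
    have hδ'D : δ' ∈ D := by
      rw [hδ']
      exact hDn.conj_mem δ hδ α
    have hprod : α * (δ * x) * α⁻¹ = δ' * stdAut h1 := by
      rw [hδ', ← hαx]
      group
    obtain ⟨g', hg', hδ'g⟩ := (G.mem_ker_fieldHom δ').1 (hDle hδ'D)
    obtain ⟨hgσ, e1⟩ := stdAut_mul_refl hg' h1
    have hpow : (stdAut hgσ) ^ r = 1 := by
      rw [← e1, ← hδ'g, ← hprod, ← hord, ← orderOf_conj' α (δ * x)]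
      exact pow_orderOf_eq_one _
    obtain ⟨y, hy, hconj⟩ := exists_conj_std G hS' h1 hgσ hpow
    have hηker : stdAut hy ∈ G.fieldHom.ker := (G.mem_ker_fieldHom _).2 ⟨y, hy, rfl⟩
    obtain ⟨ζ, hζ, hηζ⟩ := hD _ hηker
    refine ⟨α⁻¹ * (stdAut hy * ζ) * α, ?_, ?_⟩
    · have := hDn.conj_mem _ hηζ α⁻¹
      rwa [inv_inv] at this
    · have h5 : δ * x = α⁻¹ * (δ' * stdAut h1) * α := by
        rw [← hprod]
        group
      have h6 : ζ * stdAut h1 * ζ⁻¹ = stdAut h1 := by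
        rw [hζ]
        group
      rw [h5, hδ'g, e1, hconj]
      have h7 : x = α⁻¹ * stdAut h1 * α := by
        rw [← hαx]
        group
      rw [h7]
      have h8 : α⁻¹ * (stdAut hy * ζ) * α * (α⁻¹ * stdAut h1 * α) *
          (α⁻¹ * (stdAut hy * ζ) * α)⁻¹ =
          α⁻¹ * (stdAut hy * (ζ * stdAut h1 * ζ⁻¹) * (stdAut hy)⁻¹) * α := by
        group
      rw [h8, h6]
  · rintro ⟨h, -, hh⟩
    rw [hh, orderOf_conj', hxr]

end main

end Cfsg.Agent.Helper17.OrthFA
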