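import Mathlib
import Cfsg.Agent.Lib.Helper17.OrthFA5

set_option autoImplicit false
set_option linter.unusedSectionVars false
set_option linter.unusedSimpArgs false
set_option linter.unusedVariables false

/-!
# Anisotropic binary forms over a finite field are isometric (helper17)
-/

namespace Cfsg.Agent.Helper17.OrthFA

open QuadraticMap Matrix Cfsg.Agent.Helper13 Cfsg.Agent.Helper17.OrthOut
  Cfsg.Agent.Helper17.ConfAut

section two

variable {K : Type*} [Field K] [Finite K] [CharP K 2]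

/-- the Artin-Schreier map -/
def wp : K →+ K where
  toFun t := t ^ 2 + t
  map_zero' := by simp
  map_add' x y := by
    have h2 : (2 : K) = 0 := CharTwo.two_eq_zero
    linear_combination (x * y) * h2

theorem wp_apply (t : K) : wp t = t ^ 2 + t := rfl

theorem wp_ker_card : Nat.card (wp (K := K)).ker = 2 := by
  classical
  have h : ((wp (K := K)).ker : Set K) = {0, 1} := by
    ext t
    simp only [SetLike.mem_coe, AddMonoidHom.mem_ker, wp_apply, Set.mem_insert_iff,
      Set.mem_singleton_iff]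
    constructor
    · intro h
      have h1 : t * (t + 1) = 0 := by linear_combination h
      rcases mul_eq_zero.1 h1 with h2 | h2
      · left; exact h2
      · right
        have h3 : (2 : K) = 0 := CharTwo.two_eq_zero
        linear_combination h2 - h3
    · rintro (rfl | rfl)
      · simp
      · have h3 : (2 : K) = 0 := CharTwo.two_eq_zero
        linear_combination h3
  have h1 : Nat.card (wp (K := K)).ker = Nat.card ((wp (K := K)).ker : Set K) := rfl
  rw [h1, h, Nat.card_eq_fintype_card, ← Set.toFinset_card, Set.toFinset_insert,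
    Set.toFinset_singleton, Finset.card_pair zero_ne_one]

theorem wp_range_index : (wp (K := K)).range.index = 2 := by
  have h1 := AddSubgroup.card_mul_index (wp (K := K)).ker
  have h2 := AddSubgroup.card_mul_index (wp (K := K)).range
  rw [AddSubgroup.index_ker, wp_ker_card] at h1
  have h3 : 0 < Nat.card (wp (K := K)).range := Nat.card_pos
  rw [← h1] at h2
  have h4 : Nat.card (wp (K := K)).range * (wp (K := K)).range.index =
      Nat.card (wp (K := K)).range * 2 := by rw [h2]; ring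
  exact Nat.eq_of_mul_eq_mul_left h3 h4

/-- two elements outside the image of the Artin-Schreier map differ by an element of the
image -/
theorem exists_wp_eq {c c' : K} (hc : ∀ t : K, t ^ 2 + t + c ≠ 0) (hc' : ∀ t : K, t ^ 2 + t + c' ≠ 0) :
    ∃ t : K, c' = c + (t ^ 2 + t) := by
  have h2 : (2 : K) = 0 := CharTwo.two_eq_zero
  have hcn : c ∉ (wp (K := K)).range := by
    rintro ⟨t, ht⟩
    apply hc t
    rw [wp_apply] at ht
    linear_combination ht + c * h2
  have hcn' : c' ∉ (wp (K := K)).range := by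
    rintro ⟨t, ht⟩
    apply hc' t
    rw [wp_apply] at ht
    linear_combination ht + c' * h2
  obtain ⟨a, ha⟩ := AddSubgroup.index_eq_two_iff.1 (wp_range_index (K := K))
  have h1 : c + a ∈ (wp (K := K)).range := by
    rcases ha c with ⟨h, -⟩ | ⟨h, -⟩
    · exact h
    · exact absurd h hcn
  have h1' : c' + a ∈ (wp (K := K)).range := by
    rcases ha c' with ⟨h, -⟩ | ⟨h, -⟩
    · exact h
    · exact absurd h hcn'
  have h3 : c' - c ∈ (wp (K := K)).range := by
    have := (wp (K := K)).range.sub_mem h1' h1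
    have e : c' + a - (c + a) = c' - c := by ring
    rwa [e] at this
  obtain ⟨t, ht⟩ := h3
  refine ⟨t, ?_⟩
  rw [wp_apply] at ht
  linear_combination -ht

/-- anisotropic binary forms in characteristic two are isometric -/
theorem exists_bin_iso_two (a b a' b' : K)
    (hab : ∀ z₁ z₂ : K, z₁ ^ 2 + a * z₁ * z₂ + b * z₂ ^ 2 = 0 → z₁ = 0 ∧ z₂ = 0)
    (hab' : ∀ z₁ z₂ : K, z₁ ^ 2 + a' * z₁ * z₂ + b' * z₂ ^ 2 = 0 → z₁ = 0 ∧ z₂ = 0) :
    ∃ M : GL (Fin 2) K, ∀ w : Fin 2 → K,
      binN a b ((M : Matrix (Fin 2) (Fin 2) K) *ᵥ w) = binN a' b' w := by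
  haveI := Fintype.ofFinite K
  have h2 : (2 : K) = 0 := CharTwo.two_eq_zero
  have ha : a ≠ 0 := a_ne_zero_of_aniso a b hab
  have ha' : a' ≠ 0 := a_ne_zero_of_aniso a' b' hab'
  have hc : ∀ t : K, t ^ 2 + t + b / a ^ 2 ≠ 0 := by
    intro t ht
    have := hab (a * t) 1 (by
      have e : (a * t) ^ 2 + a * (a * t) * 1 + b * 1 ^ 2 = a ^ 2 * (t ^ 2 + t + b / a ^ 2) := by
        field_simp
      rw [e, ht, mul_zero])
    exact one_ne_zero this.2
  have hc' : ∀ t : K, t ^ 2 + t + b' / a' ^ 2 ≠ 0 := by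
    intro t ht
    have := hab' (a' * t) 1 (by
      have e : (a' * t) ^ 2 + a' * (a' * t) * 1 + b' * 1 ^ 2 =
          a' ^ 2 * (t ^ 2 + t + b' / a' ^ 2) := by
        field_simp
      rw [e, ht, mul_zero])
    exact one_ne_zero this.2
  obtain ⟨t, ht⟩ := exists_wp_eq hc hc'
  have ht' : b' * a ^ 2 = b * a' ^ 2 + (t ^ 2 + t) * a ^ 2 * a' ^ 2 := by
    field_simp at ht
    linear_combination ht
  have hdet : (!![1, t * a'; 0, a' / a] : Matrix (Fin 2) (Fin 2) K).det ≠ 0 := by
    rw [Matrix.det_fin_two_of]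
    simp only [mul_zero, sub_zero, one_mul]
    exact div_ne_zero ha' ha
  refine ⟨Matrix.GeneralLinearGroup.mkOfDetNeZero _ hdet, fun w => ?_⟩
  have e : ((Matrix.GeneralLinearGroup.mkOfDetNeZero _ hdet : GL (Fin 2) K) :
      Matrix (Fin 2) (Fin 2) K) = !![1, t * a'; 0, a' / a] := rfl
  rw [e]
  unfold binN
  simp only [Matrix.mulVec, dotProduct, Fin.sum_univ_two, Matrix.of_apply, Matrix.cons_val',
    Matrix.cons_val_zero, Matrix.cons_val_one, Matrix.empty_val', Matrix.cons_val_fin_one,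
    Matrix.head_cons, Matrix.head_fin_const]
  field_simp
  linear_combination (w 1 ^ 2) * ht' + (t * a' * a ^ 2 * w 0 * w 1) * h2 +
    (t * a' ^ 2 * w 1 ^ 2 * a ^ 2 + t ^ 2 * a' ^ 2 * w 1 ^ 2 * a ^ 2 + a' ^ 2 * w 1 ^ 2 * b -
      w 1 ^ 2 * a ^ 2 * b') * h2

end two

section gen

variable {K : Type*} [Field K] [Fintype K]

theorem charP_two_of_two_eq_zero {R : Type*} [Field R] (h2 : (2 : R) = 0) : CharP R 2 := by
  have := CharP.ringChar_of_prime_eq_zero (R := R) Nat.prime_two (by exact_mod_cast h2)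
  exact ringChar.of_eq this

/-- **anisotropic binary forms over a finite field are isometric** -/
theorem exists_bin_iso (a b a' b' : K)
    (hab : ∀ z₁ z₂ : K, z₁ ^ 2 + a * z₁ * z₂ + b * z₂ ^ 2 = 0 → z₁ = 0 ∧ z₂ = 0)
    (hab' : ∀ z₁ z₂ : K, z₁ ^ 2 + a' * z₁ * z₂ + b' * z₂ ^ 2 = 0 → z₁ = 0 ∧ z₂ = 0) :
    ∃ M : GL (Fin 2) K, ∀ w : Fin 2 → K,
      binN a b ((M : Matrix (Fin 2) (Fin 2) K) *ᵥ w) = binN a' b' w := by
  classical
  by_cases h2 : (2 : K) = 0
  · haveI := charP_two_of_two_eq_zero h2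
    exact exists_bin_iso_two a b a' b' hab hab'
  · exact exists_bin_iso_odd h2 a b a' b' (disc_nonsquare h2 a b hab)
      (disc_nonsquare h2 a' b' hab')

end gen

end Cfsg.Agent.Helper17.OrthFA
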