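import Mathlib
import Cfsg.Agent.Lib.Helper17.OrthFA7
import Cfsg.Agent.S2617

set_option autoImplicit false
set_option linter.unusedSectionVars false
set_option linter.unusedSimpArgs false
set_option linter.unusedVariables false

/-!
# Minus type forms: block isometries, the number of singular vectors, forms in a basis
(helper17)
-/

namespace Cfsg.Agent.Helper17.OrthFA

open QuadraticMap Matrix Cfsg.Agent.Helper13 Cfsg.Agent.Helper17.OrthOut Cfsg.Agent.Helper17.Spinor
  Cfsg.Agent.Helper17.ConfAut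

section block

variable {F : Type*} [Field F]

/-- a block isometry between minus forms from an isometry of the binary parts -/
theorem minusQ_blockGL (n : ℕ) (a b a' b' : F) (M : GL (Fin 2) F)
    (hM : ∀ w : Fin 2 → F,
      binN a b ((M : Matrix (Fin 2) (Fin 2) F) *ᵥ w) = binN a' b' w)
    (v : (Fin n ⊕ Fin n) ⊕ Fin 2 → F) :
    minusQ n a b (((blockGL n 1 M : GL ((Fin n ⊕ Fin n) ⊕ Fin 2) F) :
      Matrix ((Fin n ⊕ Fin n) ⊕ Fin 2) ((Fin n ⊕ Fin n) ⊕ Fin 2) F) *ᵥ v) = minusQ n a' b' v := by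
  rw [blockGL_coe, minusQ_eq_add, minusQ_eq_add]
  simp only [Units.val_one]
  have h0 := Matrix.fromBlocks_mulVec
    (1 : Matrix (Fin n ⊕ Fin n) (Fin n ⊕ Fin n) F) 0 0
    (M : Matrix (Fin 2) (Fin 2) F) (Sum.elim (v ∘ Sum.inl) (v ∘ Sum.inr))
  rw [Sum.elim_comp_inl_inr] at h0
  have h1 : (Matrix.fromBlocks
      (1 : Matrix (Fin n ⊕ Fin n) (Fin n ⊕ Fin n) F) 0 0
      (M : Matrix (Fin 2) (Fin 2) F) *ᵥ v) ∘ Sum.inl = v ∘ Sum.inl := by
    rw [h0]
    simp
  have h3 : (Matrix.fromBlocks
      (1 : Matrix (Fin n ⊕ Fin n) (Fin n ⊕ Fin n) F) 0 0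
      (M : Matrix (Fin 2) (Fin 2) F) *ᵥ v) ∘ Sum.inr =
      (M : Matrix (Fin 2) (Fin 2) F) *ᵥ (v ∘ Sum.inr) := by
    rw [h0]
    simp
  rw [h1, h3, hM]

end block

section counts

open Cfsg.Agent.S2617

variable (F : Type*) [Field F] [Fintype F] [DecidableEq F]

theorem zM_zero' (a b : F)
    (hab : ∀ z₁ z₂ : F, z₁ ^ 2 + a * z₁ * z₂ + b * z₂ ^ 2 = 0 → z₁ = 0 ∧ z₂ = 0) :
    zM F 0 a b = 1 := by
  unfold zM
  rw [Finset.card_eq_one]
  refine ⟨fun _ => 0, ?_⟩
  ext w
  simp only [Finset.mem_filter, Finset.mem_univ, true_and, Finset.mem_singleton]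
  constructor
  · intro h
    simp only [Cfsg.quadFormMinus, Finset.univ_eq_empty, Finset.sum_empty, zero_add] at h
    obtain ⟨h0, h1⟩ := hab _ _ h
    funext j
    rcases j with (i | i) | b
    · exact i.elim0
    · exact i.elim0
    · fin_cases b
      · exact h0
      · exact h1
  · intro h
    rw [h]
    simp [Cfsg.quadFormMinus]

theorem zM_lt_zP' (a b : F)
    (hab : ∀ z₁ z₂ : F, z₁ ^ 2 + a * z₁ * z₂ + b * z₂ ^ 2 = 0 → z₁ = 0 ∧ z₂ = 0) (k : ℕ) :
    zM F k a b < zP F (k + 1) := by
  have hq : 2 ≤ Fintype.card F := Fintype.one_lt_card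
  induction k with
  | zero =>
    have h1 := zP_succ F 0
    rw [zP_zero, zM_zero' F a b hab] at *
    simp only [add_zero, pow_zero] at h1
    nlinarith
  | succ k ih =>
    have h1 := zP_succ F (k + 1)
    have h2 := zM_succ F k a b
    have e : k + 1 + (k + 1) = k + k + 2 := by ring
    rw [e] at h1
    nlinarith

end counts

section basis

variable {K : Type*} [Field K] {ι κ : Type*} [Fintype ι] [DecidableEq ι] [Fintype κ]
  [DecidableEq κ]

/-- rectangular change of variables -/
theorem matQ_congr_mul' (M : Matrix ι ι K) (A : Matrix ι κ K) (v : κ → K) :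
    matQ (Aᵀ * M * A) v = matQ M (A *ᵥ v) := by
  rw [matQ_apply, matQ_apply, ← Matrix.mulVec_mulVec, ← Matrix.mulVec_mulVec,
    Matrix.dotProduct_mulVec, Matrix.vecMul_transpose]

/-- the matrix of a basis of the standard space -/
noncomputable def basisMat (b : Module.Basis κ K (ι → K)) : Matrix ι κ K := fun i k => b k i

theorem basisMat_mulVec (b : Module.Basis κ K (ι → K)) (c : κ → K) :
    basisMat b *ᵥ c = b.equivFun.symm c := by
  rw [Module.Basis.equivFun_symm_apply]
  funext i
  simp only [Matrix.mulVec, dotProduct, basisMat, Finset.sum_apply, Pi.smul_apply, smul_eq_mul]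
  apply Finset.sum_congr rfl
  intro k _
  ring

theorem basisMat_mulVec_single (b : Module.Basis κ K (ι → K)) (k : κ) :
    basisMat b *ᵥ (Pi.single k 1) = b k := by
  funext i
  rw [Matrix.mulVec_single_one]
  rfl

/-- the form in a basis with prescribed values and polar values -/
theorem form_of_basis (N : Matrix ι ι K) (b : Module.Basis κ K (ι → K)) (M' : Matrix κ κ K)
    (h1 : ∀ k, matQ N (b k) = M' k k)
    (h2 : ∀ k l, polar (matQ N) (b k) (b l) = M' k l + M' l k) :
    matQ ((basisMat b)ᵀ * N * basisMat b) = matQ M' := by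
  apply quad_ext
  · intro k
    rw [matQ_congr_mul', basisMat_mulVec_single, matQ_single, h1]
  · intro k l
    conv_rhs => rw [polar_matQ_single]
    rw [← h2 k l]
    unfold polar
    rw [matQ_congr_mul', matQ_congr_mul', matQ_congr_mul', Matrix.mulVec_add,
      basisMat_mulVec_single, basisMat_mulVec_single]

theorem basisMat_left_inv (b : Module.Basis κ K (ι → K)) :
    ∃ L : Matrix κ ι K, L * basisMat b = 1 := by
  refine ⟨b.toMatrix (Pi.basisFun K ι), ?_⟩
  have h := Module.Basis.toMatrix_mul_toMatrix_flip b (Pi.basisFun K ι)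
  have e : (Pi.basisFun K ι).toMatrix b = basisMat b := by
    ext i k
    rw [Module.Basis.toMatrix_apply]
    simp [basisMat]
  rw [e] at h
  exact h

end basis

end Cfsg.Agent.Helper17.OrthFA
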