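import Mathlib
import Cfsg.Agent.Lib.Helper17.OrthFA8
import Cfsg.Agent.S2616

set_option autoImplicit false
set_option linter.unusedSectionVars false
set_option linter.unusedSimpArgs false
set_option linter.unusedVariables false

/-!
# Minus type forms: similarity over the fixed field (helper17)
-/

namespace Cfsg.Agent.Helper17.OrthFA

open QuadraticMap Matrix Cfsg.Agent.Helper13 Cfsg.Agent.Helper17.OrthOut Cfsg.Agent.Helper17.Spinor
  Cfsg.Agent.Helper17.ConfAut

/-- the hyperbolic basis condition -/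
def HypBasis {K : Type*} [Field K] {ι : Type*} [Fintype ι] [DecidableEq ι] (n : ℕ)
    (N : Matrix ι ι K) : Prop :=
  ∃ b : Module.Basis (Fin n ⊕ Fin n) K (ι → K),
    (∀ i, matQ N (b (Sum.inl i)) = 0 ∧ matQ N (b (Sum.inr i)) = 0) ∧
    (∀ i j, QuadraticMap.polar ⇑(matQ N) (b (Sum.inl i)) (b (Sum.inr j)) =
      if i = j then 1 else 0) ∧
    (∀ i j, QuadraticMap.polar ⇑(matQ N) (b (Sum.inl i)) (b (Sum.inl j)) = 0 ∧
      QuadraticMap.polar ⇑(matQ N) (b (Sum.inr i)) (b (Sum.inr j)) = 0)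

section nothyp

open Cfsg.Agent.S2617

variable {K₀ K : Type*} [Field K₀] [Field K] [Fintype K] [DecidableEq K]

theorem plusMat_map (j : K₀ →+* K) (n : ℕ) : (plusMat n K₀).map j = plusMat n K := by
  unfold plusMat
  rw [Matrix.fromBlocks_map]
  congr 1 <;> simp

/-- a form similar to a minus form has no hyperbolic basis over a subfield -/
theorem not_hypBasis (j : K₀ →+* K) (m : ℕ) (a b : K)
    (hab : ∀ z₁ z₂ : K, z₁ ^ 2 + a * z₁ * z₂ + b * z₂ ^ 2 = 0 → z₁ = 0 ∧ z₂ = 0)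
    (N₀ : Matrix ((Fin m ⊕ Fin m) ⊕ Fin 2) ((Fin m ⊕ Fin m) ⊕ Fin 2) K₀)
    (hsim : ∃ h : Matrix ((Fin m ⊕ Fin m) ⊕ Fin 2) ((Fin m ⊕ Fin m) ⊕ Fin 2) K, IsUnit h ∧
      ∃ c : K, c ≠ 0 ∧ ∀ v, matQ (N₀.map j) v = c * matQ (minusMat m a b) (h *ᵥ v)) :
    ¬ HypBasis (m + 1) N₀ := by
  rintro ⟨bs, h1, h2, h3⟩
  have hform := form_of_basis N₀ bs (plusMat (m + 1) K₀) (by
      intro k
      rcases k with i | i
      · rw [(h1 i).1]; simp [plusMat]
      · rw [(h1 i).2]; simp [plusMat]) (by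
      intro k l
      rcases k with i | i <;> rcases l with l | l
      · rw [(h3 i l).1]; simp [plusMat]
      · rw [h2 i l]; simp [plusMat, Matrix.one_apply]
      · rw [polar_comm, h2 l i]; simp [plusMat, Matrix.one_apply, eq_comm]
      · rw [(h3 i l).2]; simp [plusMat])
  have hform' := matQ_map_eq j hform
  obtain ⟨P, hP⟩ : ∃ P : Matrix ((Fin m ⊕ Fin m) ⊕ Fin 2) (Fin (m + 1) ⊕ Fin (m + 1)) K,
      P = (basisMat bs).map j := ⟨_, rfl⟩
  have e1 : ((basisMat bs)ᵀ * N₀ * basisMat bs).map j = Pᵀ * N₀.map j * P := by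
    rw [Matrix.map_mul, Matrix.map_mul, Matrix.transpose_map, ← hP]
  rw [e1, plusMat_map] at hform'
  have hPv : ∀ c : Fin (m + 1) ⊕ Fin (m + 1) → K,
      matQ (N₀.map j) (P *ᵥ c) = matQ (plusMat (m + 1) K) c := by
    intro c
    rw [← matQ_congr_mul', hform']
  obtain ⟨L₀, hL₀⟩ := basisMat_left_inv bs
  have hLP : L₀.map j * P = 1 := by
    rw [hP, ← Matrix.map_mul, hL₀]
    ext i k
    simp [Matrix.one_apply, apply_ite]
  have hPinj : Function.Injective (fun c : Fin (m + 1) ⊕ Fin (m + 1) → K => P *ᵥ c) := by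
    intro c c' hcc
    have := congrArg (fun v => L₀.map j *ᵥ v) hcc
    simp only [Matrix.mulVec_mulVec, hLP, Matrix.one_mulVec] at this
    exact this
  obtain ⟨h, hu, c, hc0, hh⟩ := hsim
  have hhinj : Function.Injective (fun v : (Fin m ⊕ Fin m) ⊕ Fin 2 → K => h *ᵥ v) := by
    obtain ⟨u, rfl⟩ := hu
    intro v v' hvv
    have := congrArg (fun w => ((u⁻¹ : (Matrix ((Fin m ⊕ Fin m) ⊕ Fin 2)
      ((Fin m ⊕ Fin m) ⊕ Fin 2) K)ˣ) : Matrix ((Fin m ⊕ Fin m) ⊕ Fin 2)
      ((Fin m ⊕ Fin m) ⊕ Fin 2) K) *ᵥ w) hvv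
    simp only [Matrix.mulVec_mulVec, Units.inv_mul, Matrix.one_mulVec] at this
    exact this
  have hlt := zM_lt_zP' K a b hab m
  have hle1 : zP K (m + 1) ≤ (Finset.univ.filter
      (fun v : (Fin m ⊕ Fin m) ⊕ Fin 2 → K => matQ (N₀.map j) v = 0)).card := by
    unfold zP
    apply Finset.card_le_card_of_injOn (fun c => P *ᵥ c)
    · intro c hc
      simp only [Finset.coe_filter, Finset.mem_univ, true_and, Set.mem_ofPred_eq] at hc ⊢
      rw [hPv, ← hc, quadFormPlus_eq]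
    · exact hPinj.injOn
  have hle2 : (Finset.univ.filter
      (fun v : (Fin m ⊕ Fin m) ⊕ Fin 2 → K => matQ (N₀.map j) v = 0)).card ≤ zM K m a b := by
    unfold zM
    apply Finset.card_le_card_of_injOn (fun v => h *ᵥ v)
    · intro v hv
      simp only [Finset.coe_filter, Finset.mem_univ, true_and, Set.mem_ofPred_eq] at hv ⊢
      rw [hh] at hv
      rcases mul_eq_zero.1 hv with h0 | h0
      · exact absurd h0 hc0
      · rw [Spinor.quadFormMinus_eq]
        exact h0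
    · exact hhinj.injOn
  omega

end nothyp

end Cfsg.Agent.Helper17.OrthFA
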