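import Mathlib
import Cfsg.Agent.Lib.Helper17.OrthFA9

set_option autoImplicit false
set_option linter.unusedSectionVars false
set_option linter.unusedSimpArgs false
set_option linter.unusedVariables false

/-!
# Minus type forms: the descent hypothesis (helper17)
-/

namespace Cfsg.Agent.Helper17.OrthFA

open QuadraticMap Matrix Cfsg.Agent.Helper13 Cfsg.Agent.Helper17.OrthOut Cfsg.Agent.Helper17.Spinor
  Cfsg.Agent.Helper17.ConfAut
open Cfsg.Agent.Helper13.FAut (fixedField mem_fixedField)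

section elliptic

variable {K : Type*} [Field K] [Fintype K] (m : ℕ)

theorem aniso_one_zeta (ζ : K) (hζ : ∀ t : K, t ^ 2 + t + ζ ≠ 0) :
    ∀ z₁ z₂ : K, z₁ ^ 2 + 1 * z₁ * z₂ + ζ * z₂ ^ 2 = 0 → z₁ = 0 ∧ z₂ = 0 := by
  intro z₁ z₂ h
  have h2 : z₂ = 0 := by
    by_contra hne
    apply hζ (z₁ / z₂)
    field_simp
    linear_combination h
  rw [h2] at h
  have h1 : z₁ ^ 2 = 0 := by linear_combination h
  exact ⟨pow_eq_zero_iff (by norm_num) |>.1 h1, h2⟩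

/-- a nondegenerate form of dimension `2m+2` without hyperbolic basis is isometric to every
minus form -/
theorem exists_minus_of_not_hyp (a₀ b₀ : K)
    (hab₀ : ∀ z₁ z₂ : K, z₁ ^ 2 + a₀ * z₁ * z₂ + b₀ * z₂ ^ 2 = 0 → z₁ = 0 ∧ z₂ = 0)
    (N₀ : Matrix ((Fin m ⊕ Fin m) ⊕ Fin 2) ((Fin m ⊕ Fin m) ⊕ Fin 2) K)
    (hnd : (N₀ + N₀ᵀ).det ≠ 0) (hnh : ¬ HypBasis (m + 1) N₀) :
    ∃ k₀ : Matrix ((Fin m ⊕ Fin m) ⊕ Fin 2) ((Fin m ⊕ Fin m) ⊕ Fin 2) K, IsUnit k₀ ∧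
      ∀ v, matQ N₀ (k₀ *ᵥ v) = matQ (minusMat m a₀ b₀) v := by
  have hQ := matQ_nondeg N₀ hnd
  have hV : Module.finrank K ((Fin m ⊕ Fin m) ⊕ Fin 2 → K) = 2 * (m + 1) := by
    rw [Module.finrank_fintype_fun_eq_card]
    simp only [Fintype.card_sum, Fintype.card_fin]
    ring
  have key : HypBasis (m + 1) N₀ ∨
      (∃ (b : Module.Basis ((Fin m ⊕ Fin m) ⊕ Fin 2) K ((Fin m ⊕ Fin m) ⊕ Fin 2 → K)) (ζ : K),
        (∀ t : K, t ^ 2 + t + ζ ≠ 0) ∧
        (∀ i, matQ N₀ (b (Sum.inl (Sum.inl i))) = 0 ∧ matQ N₀ (b (Sum.inl (Sum.inr i))) = 0) ∧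
        (∀ i j, QuadraticMap.polar ⇑(matQ N₀) (b (Sum.inl (Sum.inl i)))
          (b (Sum.inl (Sum.inr j))) = if i = j then 1 else 0) ∧
        (∀ i j, QuadraticMap.polar ⇑(matQ N₀) (b (Sum.inl (Sum.inl i)))
            (b (Sum.inl (Sum.inl j))) = 0 ∧
          QuadraticMap.polar ⇑(matQ N₀) (b (Sum.inl (Sum.inr i)))
            (b (Sum.inl (Sum.inr j))) = 0) ∧
        (∀ i (k : Fin 2), QuadraticMap.polar ⇑(matQ N₀) (b (Sum.inl (Sum.inl i)))
            (b (Sum.inr k)) = 0 ∧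
          QuadraticMap.polar ⇑(matQ N₀) (b (Sum.inl (Sum.inr i))) (b (Sum.inr k)) = 0) ∧
        matQ N₀ (b (Sum.inr 0)) = 1 ∧
        QuadraticMap.polar ⇑(matQ N₀) (b (Sum.inr 0)) (b (Sum.inr 1)) = 1 ∧
        matQ N₀ (b (Sum.inr 1)) = ζ) :=
    Cfsg.Agent.S2616.result (m := m + 1) (by omega) hV (matQ N₀) hQ
  rcases key with h | ⟨b, ζ, hζ, h1, h2, h3, h4, h5, h6, h7⟩
  · exact absurd h hnh
  · have hpol0 : QuadraticMap.polar ⇑(matQ N₀) (b (Sum.inr 0)) (b (Sum.inr 0)) = 2 := by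
      rw [QuadraticMap.polar_self, h5]
      simp
    have hpol1 : QuadraticMap.polar ⇑(matQ N₀) (b (Sum.inr 1)) (b (Sum.inr 1)) = 2 * ζ := by
      rw [QuadraticMap.polar_self, h7]
      simp
    have hform := form_of_basis N₀ b (minusMat m 1 ζ) (by
        intro k
        rcases k with (i | i) | i
        · rw [(h1 i).1]; simp [minusMat, plusMat]
        · rw [(h1 i).2]; simp [minusMat, plusMat]
        · fin_cases i
          · simp only [Fin.zero_eta]; rw [h5]; simp [minusMat]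
          · simp only [Fin.mk_one]; rw [h7]; simp [minusMat]) (by
        intro k l
        rcases k with (i | i) | i <;> rcases l with (l | l) | l
        · rw [(h3 i l).1]; simp [minusMat, plusMat]
        · rw [h2 i l]; simp [minusMat, plusMat, Matrix.one_apply]
        · rw [(h4 i l).1]; simp [minusMat]
        · rw [polar_comm, h2 l i]; simp [minusMat, plusMat, Matrix.one_apply, eq_comm]
        · rw [(h3 i l).2]; simp [minusMat, plusMat]
        · rw [(h4 i l).2]; simp [minusMat]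
        · rw [polar_comm, (h4 l i).1]; simp [minusMat]
        · rw [polar_comm, (h4 l i).2]; simp [minusMat]
        · fin_cases i <;> fin_cases l
          · simp only [Fin.zero_eta]; rw [hpol0]; simp [minusMat]; norm_num
          · simp only [Fin.zero_eta, Fin.mk_one]; rw [h6]; simp [minusMat]
          · simp only [Fin.zero_eta, Fin.mk_one]; rw [polar_comm, h6]; simp [minusMat]
          · simp only [Fin.mk_one]; rw [hpol1]; simp [minusMat]; ring)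
    obtain ⟨M₂, hM₂⟩ := exists_bin_iso 1 ζ a₀ b₀ (aniso_one_zeta ζ hζ) hab₀
    obtain ⟨L, hL⟩ := basisMat_left_inv b
    refine ⟨basisMat b * ((blockGL m 1 M₂ : GL ((Fin m ⊕ Fin m) ⊕ Fin 2) K) :
      Matrix ((Fin m ⊕ Fin m) ⊕ Fin 2) ((Fin m ⊕ Fin m) ⊕ Fin 2) K), ?_, fun v => ?_⟩
    · apply IsUnit.mul
      · rw [Matrix.isUnit_iff_isUnit_det]
        exact Matrix.isUnit_det_of_left_inverse hL
      · exact ⟨_, rfl⟩
    · rw [← Matrix.mulVec_mulVec, ← matQ_congr_mul', hform]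
      exact minusQ_blockGL m 1 ζ a₀ b₀ M₂ hM₂ v

end elliptic

end Cfsg.Agent.Helper17.OrthFA

namespace Cfsg.Agent.Helper17.OrthFA

open QuadraticMap Matrix Cfsg.Agent.Helper13 Cfsg.Agent.Helper17.OrthOut Cfsg.Agent.Helper17.Spinor
  Cfsg.Agent.Helper17.ConfAut
open Cfsg.Agent.Helper13.FAut (fixedField mem_fixedField)

section desc

variable {F : Type*} [Field F] [Fintype F] {ι : Type*} [Fintype ι] [DecidableEq ι]

/-- the general shape of the descent, matrix form -/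
theorem hdesc_of_fixed_mat (σ : F ≃+* F) (M N : Matrix ι ι F) (hM : M.map σ = M)
    (hNσ : ∀ v : ι → F, matQ N (fun i => σ (v i)) = σ (matQ N v))
    (hsim : ∀ N₀ M₀ : Matrix ι ι (fixedField σ), M₀.map (fixedField σ).subtype = M →
      matQ (N₀.map (fixedField σ).subtype) = matQ N →
      ∃ k₀ : Matrix ι ι (fixedField σ), IsUnit k₀ ∧ ∃ c : fixedField σ,
        c ≠ 0 ∧ ∀ v, matQ N₀ (k₀ *ᵥ v) = c * matQ M₀ v) :
    ∃ k : Matrix ι ι F, k.map σ = k ∧ IsUnit k ∧ ∃ c : F, c ≠ 0 ∧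
      ∀ v, matQ N (k *ᵥ v) = c * matQ M v := by
  obtain ⟨N', hN'Q, hN'σ⟩ := exists_fixed_matrix σ N hNσ
  obtain ⟨N₀, hN₀⟩ := exists_of_fixed σ hN'σ
  obtain ⟨M₀, hM₀⟩ := exists_of_fixed σ hM
  obtain ⟨k₀, hk₀u, c, hc0, hg⟩ := hsim N₀ M₀ hM₀ (by rw [hN₀, hN'Q])
  have hform : matQ (k₀ᵀ * N₀ * k₀) = matQ (c • M₀) := by
    apply DFunLike.ext
    intro v
    rw [matQ_congr_mul, hg, matQ_smul]
  have hform' := matQ_map_eq (fixedField σ).subtype hform
  obtain ⟨k, hk⟩ : ∃ k : Matrix ι ι F, k = k₀.map (fixedField σ).subtype := ⟨_, rfl⟩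
  have e1 : (k₀ᵀ * N₀ * k₀).map (fixedField σ).subtype = kᵀ * N' * k := by
    rw [Matrix.map_mul, Matrix.map_mul, hN₀, ← hk, Matrix.transpose_map, ← hk]
  have e2 : (c • M₀).map (fixedField σ).subtype = (c : F) • M := by
    rw [← hM₀]
    ext i j
    simp only [Matrix.map_apply, Matrix.smul_apply, smul_eq_mul, map_mul]
    rfl
  rw [e1, e2] at hform'
  refine ⟨k, ?_, ?_, (c : F), ?_, fun v => ?_⟩
  · rw [hk]
    exact map_subtype_fixed σ k₀
  · rw [Matrix.isUnit_iff_isUnit_det, hk, det_map_hom]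
    rw [Matrix.isUnit_iff_isUnit_det] at hk₀u
    exact hk₀u.map _
  · intro h
    apply hc0
    exact Subtype.ext h
  · rw [← hN'Q, ← matQ_congr_mul, hform', matQ_smul]

/-- nondegeneracy passes to the descended form -/
theorem det_ne_zero_of_sim {K₀ : Type*} [Field K₀] (j : K₀ →+* F) (M N : Matrix ι ι F)
    (hMnd : (M + Mᵀ).det ≠ 0) (N₀ : Matrix ι ι K₀) (hN₀ : matQ (N₀.map j) = matQ N)
    (hNsim : ∃ h : Matrix ι ι F, IsUnit h ∧ ∃ c : F, c ≠ 0 ∧
      ∀ v, matQ N v = c * matQ M (h *ᵥ v)) : (N₀ + N₀ᵀ).det ≠ 0 := by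
  obtain ⟨h, hu, c, hc0, hh⟩ := hNsim
  have hdetN : ((N₀.map j) + (N₀.map j)ᵀ).det ≠ 0 := by
    have e : matQ (N₀.map j) = matQ (c • (hᵀ * M * h)) := by
      rw [hN₀]
      apply DFunLike.ext
      intro v
      rw [hh, matQ_smul, matQ_congr_mul]
    rw [gram_eq_of_matQ_eq e, smul_add_transpose, Matrix.det_smul]
    have e3 : hᵀ * M * h + (hᵀ * M * h)ᵀ = hᵀ * (M + Mᵀ) * h := by
      rw [Matrix.transpose_mul, Matrix.transpose_mul, Matrix.transpose_transpose,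
        Matrix.mul_add, Matrix.add_mul, Matrix.mul_assoc hᵀ Mᵀ h]
    rw [e3, Matrix.det_mul, Matrix.det_mul, Matrix.det_transpose]
    rw [Matrix.isUnit_iff_isUnit_det, isUnit_iff_ne_zero] at hu
    exact mul_ne_zero (pow_ne_zero _ hc0) (mul_ne_zero (mul_ne_zero hu hMnd) hu)
  intro h0
  apply hdetN
  have : (N₀.map j) + (N₀.map j)ᵀ = (N₀ + N₀ᵀ).map j := by
    ext i k
    simp [Matrix.add_apply, Matrix.transpose_apply, Matrix.map_apply]
  rw [this, det_map_hom, h0, map_zero]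

end desc

section minus

variable {F : Type*} [Field F] [Fintype F]

/-- **the descent hypothesis for the minus type** -/
theorem hdesc_minus (m : ℕ) (σ : F ≃+* F) (a' b' : F)
    (hab' : ∀ z₁ z₂ : F, z₁ ^ 2 + a' * z₁ * z₂ + b' * z₂ ^ 2 = 0 → z₁ = 0 ∧ z₂ = 0)
    (ha' : σ a' = a') (hb' : σ b' = b')
    (N : Matrix ((Fin m ⊕ Fin m) ⊕ Fin 2) ((Fin m ⊕ Fin m) ⊕ Fin 2) F)
    (hNσ : ∀ v : (Fin m ⊕ Fin m) ⊕ Fin 2 → F, matQ N (fun i => σ (v i)) = σ (matQ N v))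
    (hNsim : ∃ h : Matrix ((Fin m ⊕ Fin m) ⊕ Fin 2) ((Fin m ⊕ Fin m) ⊕ Fin 2) F, IsUnit h ∧
      ∃ c : F, c ≠ 0 ∧ ∀ v, matQ N v = c * matQ (minusMat m a' b') (h *ᵥ v)) :
    ∃ k : Matrix ((Fin m ⊕ Fin m) ⊕ Fin 2) ((Fin m ⊕ Fin m) ⊕ Fin 2) F, k.map σ = k ∧ IsUnit k ∧
      ∃ c : F, c ≠ 0 ∧ ∀ v, matQ N (k *ᵥ v) = c * matQ (minusMat m a' b') v := by
  classical
  have hM : (minusMat m a' b').map σ = minusMat m a' b' := by
    have := minusMat_map (σ : F →+* F) m a' b'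
    rw [show ((σ : F →+* F) a') = a' from ha', show ((σ : F →+* F) b') = b' from hb'] at this
    exact this
  apply hdesc_of_fixed_mat σ _ N hM hNσ
  intro N₀ M₀ hM₀ hN₀
  obtain ⟨a₀, ha₀⟩ : ∃ a₀ : fixedField σ, (a₀ : F) = a' := ⟨⟨a', (mem_fixedField σ _).2 ha'⟩, rfl⟩
  obtain ⟨b₀, hb₀⟩ : ∃ b₀ : fixedField σ, (b₀ : F) = b' := ⟨⟨b', (mem_fixedField σ _).2 hb'⟩, rfl⟩
  have hM₀' : M₀ = minusMat m a₀ b₀ := by
    have h1 := minusMat_map (fixedField σ).subtype m a₀ b₀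
    have h2 : (minusMat m a₀ b₀).map (fixedField σ).subtype = M₀.map (fixedField σ).subtype := by
      rw [h1, hM₀]
      congr 1
    funext i k
    have := congrFun (congrFun h2 i) k
    simp only [Matrix.map_apply] at this
    exact ((fixedField σ).subtype.injective this).symm
  have hab₀ : ∀ z₁ z₂ : fixedField σ, z₁ ^ 2 + a₀ * z₁ * z₂ + b₀ * z₂ ^ 2 = 0 →
      z₁ = 0 ∧ z₂ = 0 := by
    intro z₁ z₂ h
    have h1 := congrArg (fixedField σ).subtype h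
    simp only [map_add, map_mul, map_pow, map_zero] at h1
    have h2 := hab' (z₁ : F) (z₂ : F) (by
      rw [← ha₀, ← hb₀]
      exact h1)
    exact ⟨Subtype.ext h2.1, Subtype.ext h2.2⟩
  have hMnd : (minusMat m a' b' + (minusMat m a' b')ᵀ).det ≠ 0 := by
    rw [minusMat_det]
    exact mul_ne_zero (pow_ne_zero _ (neg_ne_zero.2 one_ne_zero))
      (disc_ne_zero_of_anisotropic a' b' hab')
  have hnd := det_ne_zero_of_sim (fixedField σ).subtype _ N hMnd N₀ hN₀ hNsim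
  have hnh : ¬ HypBasis (m + 1) N₀ := by
    apply not_hypBasis (fixedField σ).subtype m a' b' hab' N₀
    rw [hN₀]
    exact hNsim
  obtain ⟨k₀, hk₀u, hk₀⟩ := exists_minus_of_not_hyp m a₀ b₀ hab₀ N₀ hnd hnh
  refine ⟨k₀, hk₀u, 1, one_ne_zero, fun v => ?_⟩
  rw [hk₀, hM₀', one_mul]

end minus

end Cfsg.Agent.Helper17.OrthFA
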