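import Mathlib
import Cfsg.Agent.Lib.Helper17.OrthFA10

set_option autoImplicit false
set_option linter.unusedSectionVars false
set_option linter.unusedSimpArgs false
set_option linter.unusedVariables false

/-!
# Transport of `PΩ(Q)` along an isometry of forms (helper17)
-/

namespace Cfsg.Agent.Helper17.OrthFA

open Cfsg.Agent.Helper17.ConfAut

section general

theorem map_center_equiv {G H : Type*} [Group G] [Group H] (e : G ≃* H) :
    (Subgroup.center G).map e.toMonoidHom = Subgroup.center H := by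
  ext y
  constructor
  · rintro ⟨x, hx, rfl⟩
    rw [Subgroup.mem_center_iff]
    intro h
    obtain ⟨g, rfl⟩ := e.surjective h
    change e g * e x = e x * e g
    rw [← map_mul, ← map_mul, Subgroup.mem_center_iff.1 hx g]
  · intro hy
    refine ⟨e.symm y, ?_, e.apply_symm_apply y⟩
    refine Subgroup.mem_center_iff.2 ?_
    intro g
    apply e.injective
    rw [map_mul, map_mul, e.apply_symm_apply]
    exact Subgroup.mem_center_iff.1 hy (e g)

theorem map_commutator_equiv {G H : Type*} [Group G] [Group H] (e : G ≃* H) :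
    (commutator G).map e.toMonoidHom = commutator H := by
  rw [commutator_def, commutator_def, Subgroup.map_commutator,
    Subgroup.map_top_of_surjective _ e.surjective]

theorem congr_eq_of_comm {X Y : Type*} [Group X] [Group Y] (e : X ≃* Y) (β : MulAut X)
    (β' : MulAut Y) (h : ∀ x, e (β x) = β' (e x)) : MulAut.congr e β = β' := by
  ext y
  obtain ⟨x, rfl⟩ := e.surjective y
  rw [← h]
  simp [MulAut.congr]

end general

section cT

variable {F : Type*} [Field F] {ι : Type} [Fintype ι] [DecidableEq ι] {Q Q' : (ι → F) → F}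
  (T : GL ι F) (hT : ∀ v, Q' ((T : Matrix ι ι F).mulVec v) = Q v)

include hT in
theorem hT_inv (v : ι → F) : Q (((T⁻¹ : GL ι F) : Matrix ι ι F).mulVec v) = Q' v := by
  rw [← hT, Matrix.mulVec_mulVec, ← Units.val_mul, mul_inv_cancel, Units.val_one,
    Matrix.one_mulVec]

include hT in
theorem conjT_mem_iso {s : GL ι F} (hs : s ∈ Cfsg.isometryGroup F Q) :
    T * s * T⁻¹ ∈ Cfsg.isometryGroup F Q' := by
  rw [mem_isometryGroup_iff] at hs ⊢
  intro v
  have h1 : ((T * s * T⁻¹ : GL ι F) : Matrix ι ι F).mulVec v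
      = (T : Matrix ι ι F).mulVec ((s : Matrix ι ι F).mulVec
        (((T⁻¹ : GL ι F) : Matrix ι ι F).mulVec v)) := by
    rw [Units.val_mul, Units.val_mul, Matrix.mulVec_mulVec, Matrix.mulVec_mulVec, mul_assoc]
  rw [h1, hT, hs, hT_inv T hT]

include hT in
theorem conjT_symm_mem_iso {s : GL ι F} (hs : s ∈ Cfsg.isometryGroup F Q') :
    T⁻¹ * s * T ∈ Cfsg.isometryGroup F Q := by
  rw [mem_isometryGroup_iff] at hs ⊢
  intro v
  have h1 : ((T⁻¹ * s * T : GL ι F) : Matrix ι ι F).mulVec v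
      = ((T⁻¹ : GL ι F) : Matrix ι ι F).mulVec ((s : Matrix ι ι F).mulVec
        ((T : Matrix ι ι F).mulVec v)) := by
    rw [Units.val_mul, Units.val_mul, Matrix.mulVec_mulVec, Matrix.mulVec_mulVec, mul_assoc]
  rw [h1, hT_inv T hT, hs, hT]

/-- conjugation by an isometry of forms, on the isometry groups -/
def isoT : ↥(Cfsg.isometryGroup F Q) ≃* ↥(Cfsg.isometryGroup F Q') where
  toFun s := ⟨T * s * T⁻¹, conjT_mem_iso T hT s.2⟩
  invFun s := ⟨T⁻¹ * s * T, conjT_symm_mem_iso T hT s.2⟩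
  left_inv s := by
    apply Subtype.ext
    show T⁻¹ * (T * s * T⁻¹) * T = s
    group
  right_inv s := by
    apply Subtype.ext
    show T * (T⁻¹ * s * T) * T⁻¹ = s
    group
  map_mul' s t := by
    apply Subtype.ext
    show T * ((s : GL ι F) * t) * T⁻¹ = (T * s * T⁻¹) * (T * t * T⁻¹)
    group

theorem isoT_coe (s : ↥(Cfsg.isometryGroup F Q)) :
    ((isoT T hT s : ↥(Cfsg.isometryGroup F Q')) : GL ι F) = T * s * T⁻¹ := rfl

/-- the induced isomorphism of the commutator subgroups -/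
noncomputable def omT : ↥(Cfsg.Omega F Q) ≃* ↥(Cfsg.Omega F Q') :=
  ((isoT T hT).subgroupMap (Cfsg.Omega F Q)).trans
    (MulEquiv.subgroupCongr (map_commutator_equiv (isoT T hT)))

theorem omT_coe (s : ↥(Cfsg.Omega F Q)) :
    (((omT T hT s : ↥(Cfsg.Omega F Q')) : ↥(Cfsg.isometryGroup F Q')) : GL ι F) =
      T * ((s : ↥(Cfsg.isometryGroup F Q)) : GL ι F) * T⁻¹ := rfl

/-- the induced isomorphism `PΩ(Q) ≃* PΩ(Q')` -/
noncomputable def cT : Cfsg.POmega F Q ≃* Cfsg.POmega F Q' :=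
  QuotientGroup.congr (Subgroup.center (Cfsg.Omega F Q)) (Subgroup.center (Cfsg.Omega F Q'))
    (omT T hT) (map_center_equiv (omT T hT))

theorem cT_mk (s : ↥(Cfsg.Omega F Q)) :
    cT T hT (QuotientGroup.mk s) = QuotientGroup.mk (omT T hT s) := rfl

include hT in
theorem conjT_mem_GO {g : GL ι F} (hg : g ∈ GO Q) : T * g * T⁻¹ ∈ GO Q' := by
  obtain ⟨c, hc⟩ := hg
  refine ⟨c, fun v => ?_⟩
  have h1 : ((T * g * T⁻¹ : GL ι F) : Matrix ι ι F).mulVec v
      = (T : Matrix ι ι F).mulVec ((g : Matrix ι ι F).mulVec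
        (((T⁻¹ : GL ι F) : Matrix ι ι F).mulVec v)) := by
    rw [Units.val_mul, Units.val_mul, Matrix.mulVec_mulVec, Matrix.mulVec_mulVec, mul_assoc]
  rw [h1, hT, hc, hT_inv T hT]

/-- **transport of the automorphisms induced by similarities** -/
theorem congr_cT_Phi (g : ↥(GO Q)) :
    MulAut.congr (cT T hT) (Phi Q g) =
      Phi Q' ⟨T * (g : GL ι F) * T⁻¹, conjT_mem_GO T hT g.2⟩ := by
  apply congr_eq_of_comm
  intro x
  induction x using QuotientGroup.induction_on with
  | H s =>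
    obtain ⟨s₂, hs₂, hs₂c⟩ := Phi_mk_coe Q g s
    rw [hs₂, cT_mk, cT_mk]
    obtain ⟨s₃, hs₃, hs₃c⟩ := Phi_mk_coe Q' ⟨T * (g : GL ι F) * T⁻¹, conjT_mem_GO T hT g.2⟩
      (omT T hT s)
    rw [hs₃]
    congr 1
    apply Subtype.ext
    apply Subtype.ext
    rw [hs₃c, omT_coe, omT_coe, hs₂c]
    group

end cT

end Cfsg.Agent.Helper17.OrthFA
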