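import Mathlib
import Cfsg.Agent.Lib.Helper17.OrthFA11

set_option autoImplicit false
set_option linter.unusedSectionVars false
set_option linter.unusedSimpArgs false
set_option linter.unusedVariables false

/-!
# Base change of reflections (helper17)
-/

namespace Cfsg.Agent.Helper17.OrthFA

open QuadraticMap Matrix Cfsg.Agent.Helper13 Cfsg.Agent.Helper17.OrthOut Cfsg.Agent.Helper17.Spinor
  Cfsg.Agent.Helper17.ConfAut

section basechange

variable {F K : Type*} [Field F] [Field K] (φ : F →+* K) {ι : Type} [Fintype ι] [DecidableEq ι]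

theorem matQ_map_hom (N : Matrix ι ι F) (v : ι → F) :
    matQ (N.map φ) (fun i => φ (v i)) = φ (matQ N v) := by
  rw [matQ_apply, matQ_apply]
  have h1 : N.map φ *ᵥ (fun i => φ (v i)) = fun i => φ ((N *ᵥ v) i) := by
    ext i
    exact (RingHom.map_mulVec φ N v i).symm
  rw [h1]
  exact (RingHom.map_dotProduct φ v (N *ᵥ v)).symm

theorem single_map_hom (j : ι) : (fun i => φ ((Pi.single j (1 : F) : ι → F) i)) = Pi.single j 1 := by
  funext i
  by_cases h : i = j
  · subst h
    simp
  · simp [Pi.single_apply, h]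

theorem polar_map_hom (N : Matrix ι ι F) (u v : ι → F) :
    polar (matQ (N.map φ)) (fun i => φ (u i)) (fun i => φ (v i)) = φ (polar (matQ N) u v) := by
  unfold polar
  have h1 : ((fun i => φ (u i)) + fun i => φ (v i)) = fun i => φ ((u + v) i) := by
    funext i
    simp
  rw [h1, matQ_map_hom, matQ_map_hom, matQ_map_hom, map_sub, map_sub]

theorem reflectionMatrix_map (N : Matrix ι ι F) (v : ι → F) :
    (Cfsg.reflectionMatrix (⇑(matQ N)) v).map φ =
      Cfsg.reflectionMatrix (⇑(matQ (N.map φ))) (fun i => φ (v i)) := by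
  ext i j
  unfold Cfsg.reflectionMatrix Cfsg.polarVec
  simp only [Matrix.map_apply, Matrix.sub_apply, Matrix.smul_apply, Matrix.vecMulVec_apply,
    smul_eq_mul, map_sub, map_mul, map_inv₀]
  rw [← matQ_map_hom φ N v, ← polar_map_hom φ N v (Pi.single j 1), single_map_hom]
  congr 1
  simp [Matrix.one_apply, apply_ite]

end basechange

end Cfsg.Agent.Helper17.OrthFA
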