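import Mathlib
import Cfsg.Agent.Lib.Helper17.OrthFA12

set_option autoImplicit false
set_option linter.unusedSectionVars false
set_option linter.unusedSimpArgs false
set_option linter.unusedVariables false

/-!
# Minus type in characteristic two: class preservation over a splitting field (helper17)
-/

namespace Cfsg.Agent.Helper17.OrthFA

open QuadraticMap Matrix Module Cfsg.Agent.Helper13 Cfsg.Agent.Helper17.OrthOut
  Cfsg.Agent.Helper17.Spinor Cfsg.Agent.Helper17.ConfAut

section splitfield

variable {K : Type*} [Field K] (m : ℕ) (a b : K) {t t' : K}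

/-- over a field where the binary part splits, a product of `k` reflections of the minus form
preserves the two classes iff `k` is even -/
theorem preserves_prod_refl_iff (hne : t ≠ t') (hsum : t + t' = -a) (hprod : t * t' = b)
    (hQK : (polarBilin (matQ (minusMat m a b))).Nondegenerate)
    (vs : List ((Fin m ⊕ Fin m) ⊕ Fin 2 → K)) (hvs : ∀ v ∈ vs, matQ (minusMat m a b) v ≠ 0)
    (g : Matrix ((Fin m ⊕ Fin m) ⊕ Fin 2) ((Fin m ⊕ Fin m) ⊕ Fin 2) K)
    (hg : Matrix.toLin' g = (vs.map (refl (matQ (minusMat m a b)))).prod) :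
    Cfsg.PreservesSingularClasses (⇑(matQ (minusMat m a b))) g ↔ Even vs.length := by
  set T := minusTEquiv m t t' hne with hTdef
  have hT : ∀ v, plusQ (m + 1) K (T v) = matQ (minusMat m a b) v := by
    intro v
    rw [hTdef, minusTEquiv_apply]
    exact plusQ_minusT (m := m) (t := t) (t' := t') a b hsum hprod v
  have hV : finrank K ((Fin m ⊕ Fin m) ⊕ Fin 2 → K) = 2 * (m + 1) := by
    rw [Module.finrank_fintype_fun_eq_card]
    simp only [Fintype.card_sum, Fintype.card_fin]
    ring
  have hmax : ∀ U : Submodule K ((Fin m ⊕ Fin m) ⊕ Fin 2 → K),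
      Cfsg.IsMaxTotallySingular (⇑(matQ (minusMat m a b))) U →
      (Cfsg.SameParityClass U (Cfsg.imageSubmodule g U) ↔ Even vs.length) := by
    intro U hU
    have h1 := (isMaxTS_map_iff hT U).2 hU
    rw [isMaxTotallySingular_iff] at h1
    have hfr : finrank K ↥U = m + 1 := by
      rw [← finrank_map_T (T := T) U]
      exact h1.2
    have hTS : IsTS (matQ (minusMat m a b)) U := hU.1
    have hpar := (finrank_inf_map_prod_refl_add_length (matQ (minusMat m a b)) hQK hTS
      (by rw [hfr, hV]) vs hvs).2
    have himg : Cfsg.imageSubmodule g U = U.map (vs.map (refl (matQ (minusMat m a b)))).prod := by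
      unfold Cfsg.imageSubmodule
      rw [hg]
    unfold Cfsg.SameParityClass
    rw [himg]
    have hle : finrank K ↥(U ⊓ U.map (vs.map (refl (matQ (minusMat m a b)))).prod) ≤
        finrank K ↥U := Submodule.finrank_mono inf_le_left
    rw [Nat.even_iff, Nat.even_iff]
    omega
  constructor
  · intro h
    obtain ⟨U₀, hU₀⟩ : ∃ U₀, Cfsg.IsMaxTotallySingular (⇑(matQ (minusMat m a b))) U₀ := by
      refine ⟨(plusU (m + 1) K).map T.symm.toLinearMap, ?_⟩
      rw [← isMaxTS_map_iff hT, map_symm_map, isMaxTotallySingular_iff]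
      exact ⟨isTS_plusU, finrank_plusU⟩
    exact (hmax U₀ hU₀).1 (h U₀ hU₀)
  · intro h U hU
    exact (hmax U hU).2 h

end splitfield

section basechange

variable {F K : Type*} [Field F] [Field K] (φ : F →+* K) {ι : Type} [Fintype ι] [DecidableEq ι]
  (N : Matrix ι ι F)

/-- base change of a product of reflections -/
theorem toLin'_map_prod_tG (vs : List (ι → F)) (hvs : ∀ v ∈ vs, matQ N v ≠ 0) :
    Matrix.toLin' (((((vs.map (tG (matQ N))).prod : ↥(Cfsg.isometryGroup F (⇑(matQ N)))) :
      GL ι F) : Matrix ι ι F).map φ) =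
      ((vs.map (fun v => fun i => φ (v i))).map (refl (matQ (N.map φ)))).prod := by
  induction vs with
  | nil =>
    simp only [List.map_nil, List.prod_nil]
    have : (((1 : ↥(Cfsg.isometryGroup F (⇑(matQ N)))) : GL ι F) : Matrix ι ι F).map φ = 1 := by
      show (1 : Matrix ι ι F).map φ = 1
      ext i j
      simp [Matrix.one_apply, apply_ite]
    rw [this, Matrix.toLin'_one]
    rfl
  | cons v vs ih =>
    have hv : matQ N v ≠ 0 := hvs v List.mem_cons_self
    have ih' := ih (fun u hu => hvs u (List.mem_cons_of_mem _ hu))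
    rw [List.map_cons, List.prod_cons, List.map_cons, List.map_cons, List.prod_cons]
    have e1 : ((((tG (matQ N) v * (vs.map (tG (matQ N))).prod :
        ↥(Cfsg.isometryGroup F (⇑(matQ N)))) : GL ι F) : Matrix ι ι F)) =
        (((tG (matQ N) v : ↥(Cfsg.isometryGroup F (⇑(matQ N)))) : GL ι F) : Matrix ι ι F) *
          (((((vs.map (tG (matQ N))).prod : ↥(Cfsg.isometryGroup F (⇑(matQ N)))) : GL ι F) :
            Matrix ι ι F)) := rfl
    rw [e1, Matrix.map_mul, Matrix.toLin'_mul, ih', tG_coe _ hv, reflectionMatrix_map,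
      toLin'_reflectionMatrix]
    rfl

end basechange

end Cfsg.Agent.Helper17.OrthFA
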