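import Mathlib
import Cfsg.Agent.Lib.Helper17.OrthFA13

set_option autoImplicit false
set_option linter.unusedSectionVars false
set_option linter.unusedSimpArgs false
set_option linter.unusedVariables false

/-!
# Minus type in characteristic two: the class-preserving isometries are `Ω` (helper17)
-/

namespace Cfsg.Agent.Helper17.OrthFA

open QuadraticMap Matrix Module Cfsg.Agent.Helper13 Cfsg.Agent.Helper17.OrthOut
  Cfsg.Agent.Helper17.Spinor Cfsg.Agent.Helper17.ConfAut

universe u

section char2

variable {F : Type u} [Field F] [Fintype F] [CharP F 2] (m : ℕ) (a b : F)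

/-- over a quadratic extension, a product of `k` orthogonal transvections of the minus form
preserves the classes iff `k` is even -/
theorem preserves_over_ext_iff
    (hab : ∀ z₁ z₂ : F, z₁ ^ 2 + a * z₁ * z₂ + b * z₂ ^ 2 = 0 → z₁ = 0 ∧ z₂ = 0)
    (vs : List ((Fin m ⊕ Fin m) ⊕ Fin 2 → F)) (hvs : ∀ v ∈ vs, minusQ m a b v ≠ 0)
    (K : Type u) [Field K] [Algebra F K] (hK : finrank F K = 2) :
    Cfsg.PreservesSingularClasses
        (Cfsg.quadFormMinus m K (algebraMap F K a) (algebraMap F K b))
        ((((((vs.map (tG (minusQ m a b))).prod : ↥(Cfsg.isometryGroup F (⇑(minusQ m a b)))) :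
          GL ((Fin m ⊕ Fin m) ⊕ Fin 2) F) :
          Matrix ((Fin m ⊕ Fin m) ⊕ Fin 2) ((Fin m ⊕ Fin m) ⊕ Fin 2) F)).map (algebraMap F K)) ↔
      Even vs.length := by
  have hfin : Module.Finite F K := Module.finite_of_finrank_pos (by rw [hK]; norm_num)
  have : Finite K := Module.finite_of_finite F
  let _ : Fintype K := Fintype.ofFinite K
  have hcard : Fintype.card K = Fintype.card F ^ 2 := by
    rw [Module.card_eq_pow_finrank (K := F) (V := K), hK]
  obtain ⟨t, ht⟩ := exists_root_quadratic hcard rfl (algebraMap F K) a b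
    (no_root_of_aniso a b hab)
  have h2K : (2 : K) = 0 := by
    rw [← map_ofNat (algebraMap F K) 2, CharTwo.two_eq_zero, map_zero]
  have ha0 : a ≠ 0 := a_ne_zero_of_aniso a b hab
  have hne : t ≠ -algebraMap F K a - t := by
    intro h
    have h1 : algebraMap F K a = 0 := by linear_combination h - t * h2K
    rw [map_eq_zero] at h1
    exact ha0 h1
  have hQK : (polarBilin (matQ (minusMat m (algebraMap F K a) (algebraMap F K b)))).Nondegenerate := by
    apply matQ_nondeg
    rw [minusMat_det]
    apply mul_ne_zero (pow_ne_zero _ (neg_ne_zero.2 one_ne_zero))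
    have h3 := disc_ne_zero_of_anisotropic a b hab
    intro h4
    apply h3
    apply (algebraMap F K).injective
    rw [map_zero, map_sub, map_mul, map_pow, map_ofNat]
    exact h4
  rw [Spinor.quadFormMinus_eq]
  have hg := toLin'_map_prod_tG (algebraMap F K) (minusMat m a b) vs hvs
  rw [minusMat_map] at hg
  have hvs' : ∀ w ∈ vs.map (fun v => fun i => algebraMap F K (v i)),
      matQ (minusMat m (algebraMap F K a) (algebraMap F K b)) w ≠ 0 := by
    intro w hw
    obtain ⟨v, hv, rfl⟩ := List.mem_map.1 hw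
    rw [← minusMat_map, matQ_map_hom]
    intro h0
    rw [map_eq_zero] at h0
    exact hvs v hv h0
  have key := preserves_prod_refl_iff m (algebraMap F K a) (algebraMap F K b) hne (by ring)
    (by linear_combination -ht) hQK _ hvs' _ hg
  rw [List.length_map] at key
  exact key

/-- **in characteristic two an isometry of the minus form preserves the two classes iff it lies
in `Ω`** -/
theorem presMinus_iff_mem_Omega
    (hex : Fintype.card F ≠ 2 ∨ Fintype.card ((Fin m ⊕ Fin m) ⊕ Fin 2) ≠ 4)
    (hab : ∀ z₁ z₂ : F, z₁ ^ 2 + a * z₁ * z₂ + b * z₂ ^ 2 = 0 → z₁ = 0 ∧ z₂ = 0)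
    (o : ↥(Cfsg.isometryGroup F (⇑(minusQ m a b)))) :
    Cfsg.PreservesSingularClassesMinus m a b
        (((o : GL ((Fin m ⊕ Fin m) ⊕ Fin 2) F)) :
          Matrix ((Fin m ⊕ Fin m) ⊕ Fin 2) ((Fin m ⊕ Fin m) ⊕ Fin 2) F) ↔
      o ∈ Cfsg.Omega F (⇑(minusQ m a b)) := by
  have hQ := minusQ_nondeg (k := m) a b hab
  obtain ⟨vs, hvs, rfl⟩ := exists_prod_tG (minusQ m a b) hQ hex o
  have hiff := prod_tG_mem_commutator_iff (minusQ m a b) hQ hex vs hvs
  constructor
  · rintro ⟨K, instK, instA, hK, hpres⟩
    exact hiff.2 ((preserves_over_ext_iff m a b hab vs hvs K hK).1 hpres)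
  · intro h
    obtain ⟨K, instK, instA, hK⟩ := exists_quadratic_extension a b hab
    exact ⟨K, instK, instA, hK, (preserves_over_ext_iff m a b hab vs hvs K hK).2 (hiff.1 h)⟩

end char2

end Cfsg.Agent.Helper17.OrthFA
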