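import Mathlib
import Cfsg.Agent.Lib.Helper17.OrthFA14

set_option autoImplicit false
set_option linter.unusedSectionVars false
set_option linter.unusedSimpArgs false
set_option linter.unusedVariables false

/-!
# Minus type in characteristic two: the inner-diagonal group is the inner group (helper17)
-/

namespace Cfsg.Agent.Helper17.OrthFA

open QuadraticMap Matrix Module Cfsg.Agent.Helper13 Cfsg.Agent.Helper17.OrthOut
  Cfsg.Agent.Helper17.Spinor Cfsg.Agent.Helper17.ConfAut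

universe u

section scal

variable {F : Type u} [Field F] (m : ℕ) (a b : F)

theorem imageSubmodule_smul {K : Type*} [Field K] {ι : Type} [Fintype ι] [DecidableEq ι]
    (d : K) (hd : d ≠ 0) (g : Matrix ι ι K) (U : Submodule K (ι → K)) :
    Cfsg.imageSubmodule (d • g) U = Cfsg.imageSubmodule g U := by
  unfold Cfsg.imageSubmodule
  rw [map_smul]
  exact Submodule.map_smul _ U d hd

theorem preservesSingularClasses_smul {K : Type*} [Field K] {ι : Type} [Fintype ι]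
    [DecidableEq ι] (Q : (ι → K) → K) (d : K) (hd : d ≠ 0) (g : Matrix ι ι K) :
    Cfsg.PreservesSingularClasses Q (d • g) ↔ Cfsg.PreservesSingularClasses Q g := by
  unfold Cfsg.PreservesSingularClasses
  simp only [imageSubmodule_smul d hd]

theorem presMinus_smul (d : F) (hd : d ≠ 0)
    (g : Matrix ((Fin m ⊕ Fin m) ⊕ Fin 2) ((Fin m ⊕ Fin m) ⊕ Fin 2) F) :
    Cfsg.PreservesSingularClassesMinus m a b (d • g) ↔
      Cfsg.PreservesSingularClassesMinus m a b g := by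
  unfold Cfsg.PreservesSingularClassesMinus
  constructor
  · rintro ⟨K, instK, instA, hK, h⟩
    refine ⟨K, instK, instA, hK, ?_⟩
    have e : (d • g).map (algebraMap F K) = algebraMap F K d • g.map (algebraMap F K) := by
      ext i j
      simp
    rw [e, preservesSingularClasses_smul _ _ (by rwa [Ne, map_eq_zero])] at h
    exact h
  · rintro ⟨K, instK, instA, hK, h⟩
    refine ⟨K, instK, instA, hK, ?_⟩
    have e : (d • g).map (algebraMap F K) = algebraMap F K d • g.map (algebraMap F K) := by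
      ext i j
      simp
    rw [e, preservesSingularClasses_smul _ _ (by rwa [Ne, map_eq_zero])]
    exact h

end scal

section char2

variable {F : Type u} [Field F] [Fintype F] [CharP F 2] (m : ℕ) (a b : F)

/-- **in characteristic two the inner-diagonal group of the minus type is the group of inner
automorphisms** -/
theorem inndiag_minus_eq_two
    (hex : Fintype.card F ≠ 2 ∨ Fintype.card ((Fin m ⊕ Fin m) ⊕ Fin 2) ≠ 4)
    (hab : ∀ z₁ z₂ : F, z₁ ^ 2 + a * z₁ * z₂ + b * z₂ ^ 2 = 0 → z₁ = 0 ∧ z₂ = 0) :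
    Cfsg.autSubgroupOf (fun β : Cfsg.POmega F (⇑(minusQ m a b)) ≃*
        Cfsg.POmega F (⇑(minusQ m a b)) =>
      ∃ g : GL ((Fin m ⊕ Fin m) ⊕ Fin 2) F,
        g ∈ Cfsg.Geo.quadSimilarityGroup (F := F) (⇑(minusQ m a b)) ∧
        Cfsg.PreservesSingularClassesMinus m a b
          (g : Matrix ((Fin m ⊕ Fin m) ⊕ Fin 2) ((Fin m ⊕ Fin m) ⊕ Fin 2) F) ∧
        Cfsg.IsInducedBySemilinearPOmega (⇑(minusQ m a b)) g (RingEquiv.refl F) β)
      = Cfsg.Inn (Cfsg.POmega F (⇑(minusQ m a b))) := by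
  rw [inn_eq, ← autSubgroupOf_eq_map (⇑(minusQ m a b)) (Cfsg.Geo.omegaGL (⇑(minusQ m a b)))
    (omegaGL_le_GO _)]
  congr 1
  funext β
  apply propext
  constructor
  · rintro ⟨g, hg, hpres, hind⟩
    obtain ⟨c, hc⟩ := hg
    obtain ⟨s, hs⟩ := isSquare_of_charTwo' (c : F)
    have hs0 : s ≠ 0 := by
      rintro rfl
      rw [mul_zero] at hs
      exact c.ne_zero hs
    set u : Fˣ := Units.mk0 s hs0 with hu
    have h1 : IsMult (minusQ m a b) ((scalarGL u⁻¹ : GL _ F) * g) 1 := by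
      have := (isMult_scalarGL (Q := minusQ m a b) u⁻¹).mul hc
      have e1 : ((u⁻¹ : Fˣ) : F) ^ 2 * c = 1 := by
        rw [Units.val_inv_eq_inv_val, hu, Units.val_mk0, hs]
        field_simp
      rwa [e1] at this
    have ho : (scalarGL u⁻¹ : GL _ F) * g ∈ Cfsg.isometryGroup F (⇑(minusQ m a b)) :=
      isMult_one_iff.1 h1
    obtain ⟨o, hoe⟩ : ∃ o : ↥(Cfsg.isometryGroup F (⇑(minusQ m a b))),
        (o : GL ((Fin m ⊕ Fin m) ⊕ Fin 2) F) = (scalarGL u⁻¹ : GL _ F) * g := ⟨⟨_, ho⟩, rfl⟩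
    have hpres' : Cfsg.PreservesSingularClassesMinus m a b
        ((o : GL ((Fin m ⊕ Fin m) ⊕ Fin 2) F) :
          Matrix ((Fin m ⊕ Fin m) ⊕ Fin 2) ((Fin m ⊕ Fin m) ⊕ Fin 2) F) := by
      have e : ((o : GL ((Fin m ⊕ Fin m) ⊕ Fin 2) F) :
          Matrix ((Fin m ⊕ Fin m) ⊕ Fin 2) ((Fin m ⊕ Fin m) ⊕ Fin 2) F) =
          ((u⁻¹ : Fˣ) : F) • (g : Matrix ((Fin m ⊕ Fin m) ⊕ Fin 2) ((Fin m ⊕ Fin m) ⊕ Fin 2) F) := by
        rw [hoe, Units.val_mul, scalarGL_coe, Matrix.smul_mul, Matrix.one_mul]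
      rw [e, presMinus_smul m a b _ (Units.ne_zero _)]
      exact hpres
    have hΩ := (presMinus_iff_mem_Omega m a b hex hab o).1 hpres'
    refine ⟨(scalarGL u⁻¹ : GL _ F) * g, ⟨o, hΩ, hoe⟩, ?_⟩
    have hgGO : g ∈ GO (⇑(minusQ m a b)) := ⟨c, hc⟩
    have hβ := (isInduced_iff (⇑(minusQ m a b)) hgGO β).1 hind
    have hmem : (scalarGL u⁻¹ : GL _ F) * g ∈ GO (⇑(minusQ m a b)) :=
      (GO (⇑(minusQ m a b))).mul_mem (scalarGL_mem_GO u⁻¹) hgGO
    rw [isInduced_iff (⇑(minusQ m a b)) hmem, hβ]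
    have h2 : (⟨(scalarGL u⁻¹ : GL _ F) * g, hmem⟩ : ↥(GO (⇑(minusQ m a b)))) =
        (⟨scalarGL u⁻¹, scalarGL_mem_GO u⁻¹⟩ : ↥(GO (⇑(minusQ m a b)))) * ⟨g, hgGO⟩ := rfl
    rw [h2, map_mul, Phi_of_scalar (⟨scalarGL u⁻¹, scalarGL_mem_GO u⁻¹⟩ :
      ↥(GO (⇑(minusQ m a b)))) (scalarGL_mem u⁻¹), one_mul]
  · rintro ⟨g, hg, hind⟩
    unfold Cfsg.Geo.omegaGL at hg
    obtain ⟨o, ho, rfl⟩ := hg
    refine ⟨_, isometryGroup_le_GO _ o.2, ?_, hind⟩
    exact (presMinus_iff_mem_Omega m a b hex hab o).2 ho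

end char2

end Cfsg.Agent.Helper17.OrthFA
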