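import Mathlib
import Cfsg.Agent.Lib.Helper17.OrthFA15

set_option autoImplicit false
set_option linter.unusedSectionVars false
set_option linter.unusedSimpArgs false
set_option linter.unusedVariables false

/-!
# Normality and transport of the class-preserving group; commuting reflections (helper17)
-/

namespace Cfsg.Agent.Helper17.OrthFA

open QuadraticMap Matrix Module Cfsg.Agent.Helper13 Cfsg.Agent.Helper17.OrthOut
  Cfsg.Agent.Helper17.Spinor Cfsg.Agent.Helper17.ConfAut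

section general

/-- two isomorphisms transport a normal subgroup of the automorphism group to the same
subgroup -/
theorem congr_mem_of_normal {X Y : Type*} [Group X] [Group Y] (D : Subgroup (MulAut X))
    [hD : D.Normal] (e₁ e₂ : X ≃* Y) {β : MulAut X} (hβ : β ∈ D) :
    ∃ β' ∈ D, MulAut.congr e₁ β = MulAut.congr e₂ β' := by
  obtain ⟨γ, hγ⟩ : ∃ γ : MulAut X, γ = e₁.trans e₂.symm := ⟨_, rfl⟩
  refine ⟨γ * β * γ⁻¹, hD.conj_mem β hβ γ, ?_⟩
  ext y
  have h1 : γ⁻¹ (e₂.symm y) = e₁.symm y := by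
    rw [MulAut.inv_apply, MulEquiv.symm_apply_eq, hγ]
    simp
  simp only [MulAut.congr, MulEquiv.coe_mk, Equiv.coe_fn_mk, MulEquiv.trans_apply,
    MulAut.mul_apply, h1]
  rw [hγ]
  simp

end general

section normal

variable {F : Type*} [Field F] [Fintype F] {ι : Type} [Fintype ι] [DecidableEq ι]
  {Q : QuadraticForm F (ι → F)}

theorem stdAut_of_GO (k : ↥(GO (⇑Q))) :
    stdAut ((isSemisim_refl_iff (Q := Q) (k : GL ι F)).2 k.2) = Phi (⇑Q) k := by
  rw [stdAut_refl_eq_Phi]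

/-- conjugating the automorphism of a similarity by the automorphism of a semisimilarity -/
theorem stdAut_mul_Phi {h : GL ι F} {τ : F ≃+* F} (hh : Cfsg.IsSemisimilarityPair (⇑Q) h τ)
    (k : ↥(GO (⇑Q))) (hg' : semiHom h τ (k : GL ι F) ∈ GO (⇑Q)) :
    stdAut hh * Phi (⇑Q) k = Phi (⇑Q) ⟨semiHom h τ (k : GL ι F), hg'⟩ * stdAut hh := by
  have kS := (isSemisim_refl_iff (Q := Q) (k : GL ι F)).2 k.2
  have gS := (isSemisim_refl_iff (Q := Q) (semiHom h τ (k : GL ι F))).2 hg'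
  rw [← stdAut_of_GO k, ← stdAut_of_GO ⟨semiHom h τ (k : GL ι F), hg'⟩]
  obtain ⟨hL, eL⟩ := stdAut_refl_mul hh kS
  obtain ⟨hR, eR⟩ := stdAut_mul_refl gS hh
  rw [eL, eR]
  apply stdAut_congr _ rfl
  rw [semiHom_apply]
  group

/-- the class-preserving group is normal in the automorphism group -/
theorem PD_normal (G : Good Q) (n : ℕ) : (PD Q n).Normal := by
  constructor
  intro η hη β
  obtain ⟨k, hk, rfl⟩ := hη
  obtain ⟨c, hc, hdet⟩ := Subgroup.mem_subgroupOf.1 hk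
  obtain ⟨h, τ, hh, rfl⟩ := G.exists_stdAut β
  have hg'mult := isMult_semiHom hh hc
  have hg'det := det_semiHom h τ (k : GL ι F)
  have hg'mem : semiHom h τ (k : GL ι F) ∈ dClassGO Q n := by
    refine ⟨Units.map (τ : F →* F) c, hg'mult, ?_⟩
    rw [hg'det, hdet, map_pow]
    rfl
  have hg'GO : semiHom h τ (k : GL ι F) ∈ GO (⇑Q) := dClassGO_le_GO hg'mem
  rw [stdAut_mul_Phi hh k hg'GO, mul_inv_cancel_right]
  exact ⟨⟨_, hg'GO⟩, Subgroup.mem_subgroupOf.2 hg'mem, rfl⟩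

end normal

section transport

variable {F : Type*} [Field F] [Fintype F] {ι : Type} [Fintype ι] [DecidableEq ι]
  {Q Q' : QuadraticForm F (ι → F)}

theorem conjT_isMult (T : GL ι F) (hT : ∀ v, Q' ((T : Matrix ι ι F).mulVec v) = Q v)
    {g : GL ι F} {c : F} (hc : IsMult Q g c) : IsMult Q' (T * g * T⁻¹) c := by
  intro v
  have h1 : ((T * g * T⁻¹ : GL ι F) : Matrix ι ι F).mulVec v
      = (T : Matrix ι ι F).mulVec ((g : Matrix ι ι F).mulVec
        (((T⁻¹ : GL ι F) : Matrix ι ι F).mulVec v)) := by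
    rw [Units.val_mul, Units.val_mul, Matrix.mulVec_mulVec, Matrix.mulVec_mulVec, mul_assoc]
  rw [h1, hT, hc, hT_inv (Q := ⇑Q) (Q' := ⇑Q') T hT]

/-- an arbitrary isomorphism carries the class-preserving group into the class-preserving
group -/
theorem congr_PD_le (G : Good Q) (n : ℕ) (T : GL ι F)
    (hT : ∀ v, Q' ((T : Matrix ι ι F).mulVec v) = Q v)
    (ψ : Cfsg.POmega F (⇑Q) ≃* Cfsg.POmega F (⇑Q')) {β : MulAut (Cfsg.POmega F (⇑Q))}
    (hβ : β ∈ PD Q n) : MulAut.congr ψ β ∈ PD Q' n := by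
  have := PD_normal G n
  obtain ⟨β', hβ', e⟩ := congr_mem_of_normal (PD Q n) ψ (cT (Q := ⇑Q) (Q' := ⇑Q') T hT) hβ
  rw [e]
  obtain ⟨k, hk, rfl⟩ := hβ'
  rw [congr_cT_Phi]
  obtain ⟨c, hc, hdet⟩ := Subgroup.mem_subgroupOf.1 hk
  refine ⟨_, Subgroup.mem_subgroupOf.2 ?_, rfl⟩
  refine ⟨c, conjT_isMult T hT hc, ?_⟩
  show ((T * (k : GL ι F) * T⁻¹ : GL ι F) : Matrix ι ι F).det = _
  rw [Units.val_mul, Units.val_mul]
  have := Matrix.det_units_conj T ((k : GL ι F) : Matrix ι ι F)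
  rw [this, hdet]

end transport

end Cfsg.Agent.Helper17.OrthFA
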