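import Mathlib
import Cfsg.Agent.Lib.Helper17.OrthFA16

set_option autoImplicit false
set_option linter.unusedSectionVars false
set_option linter.unusedSimpArgs false
set_option linter.unusedVariables false

/-!
# Reflections commuting with a field automorphism (helper17)
-/

namespace Cfsg.Agent.Helper17.OrthFA

open QuadraticMap Matrix Module Cfsg.Agent.Helper13 Cfsg.Agent.Helper17.OrthOut
  Cfsg.Agent.Helper17.Spinor Cfsg.Agent.Helper17.ConfAut

section commute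

variable {F : Type*} [Field F] [Fintype F] {ι : Type} [Fintype ι] [DecidableEq ι]

/-- the reflection in a vector fixed by `σ` commutes with the standard field automorphism -/
theorem Phi_tG_commute {M : Matrix ι ι F} {σ : F ≃+* F} (hM : M.map σ = M)
    (h1 : Cfsg.IsSemisimilarityPair (⇑(matQ M)) (1 : GL ι F) σ) (v₀ : ι → F)
    (hv₀σ : ∀ i, σ (v₀ i) = v₀ i) (hv₀ : matQ M v₀ ≠ 0) :
    Phi (⇑(matQ M)) (iO (matQ M) (tG (matQ M) v₀)) * stdAut h1 =
      stdAut h1 * Phi (⇑(matQ M)) (iO (matQ M) (tG (matQ M) v₀)) := by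
  have rS : Cfsg.IsSemisimilarityPair (⇑(matQ M))
      ((tG (matQ M) v₀ : ↥(Cfsg.isometryGroup F (⇑(matQ M)))) : GL ι F) (RingEquiv.refl F) :=
    isSemisim_of_mem_isometry (tG (matQ M) v₀).2
  have e0 : Phi (⇑(matQ M)) (iO (matQ M) (tG (matQ M) v₀)) = stdAut rS := by
    rw [stdAut_refl_eq_Phi]
    rfl
  rw [e0]
  obtain ⟨hL, eL⟩ := stdAut_mul_refl rS h1
  obtain ⟨hR, eR⟩ := stdAut_refl_mul h1 rS
  rw [eL, eR]
  apply stdAut_congr _ rfl
  apply Units.ext
  show (((tG (matQ M) v₀ : ↥(Cfsg.isometryGroup F (⇑(matQ M)))) : GL ι F) : Matrix ι ι F) *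
      ((1 : GL ι F) : Matrix ι ι F) = ((1 : GL ι F) : Matrix ι ι F) *
      ((((tG (matQ M) v₀ : ↥(Cfsg.isometryGroup F (⇑(matQ M)))) : GL ι F) :
        Matrix ι ι F)).map σ
  rw [Units.val_one, Matrix.mul_one, Matrix.one_mul, tG_coe _ hv₀]
  have h3 := reflectionMatrix_map (σ : F →+* F) M v₀
  rw [show M.map (σ : F →+* F) = M from hM] at h3
  have h4 : (fun i => (σ : F →+* F) (v₀ i)) = v₀ := funext hv₀σ
  rw [h4] at h3
  exact h3.symm

/-- odd characteristic: the similarity image is the class-preserving group times the centralizer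
of the field automorphism -/
theorem exists_commuting_odd {M : Matrix ι ι F} (G : Good (matQ M)) {σ : F ≃+* F}
    (hM : M.map σ = M) (h1 : Cfsg.IsSemisimilarityPair (⇑(matQ M)) (1 : GL ι F) σ) (n : ℕ)
    (hcard : Fintype.card ι = 2 * n) (v₀ : ι → F)
    (hv₀σ : ∀ i, σ (v₀ i) = v₀ i) (hv₀ : matQ M v₀ ≠ 0) :
    ∀ η ∈ G.fieldHom.ker, ∃ ζ : MulAut (Cfsg.POmega F (⇑(matQ M))),
      ζ * stdAut h1 = stdAut h1 * ζ ∧ η * ζ ∈ PD (matQ M) n := by
  intro η hη
  rw [G.ker_fieldHom] at hη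
  obtain ⟨k, rfl⟩ := hη
  obtain ⟨c, hc0, hc⟩ := exists_isMult k
  by_cases hd : ((k : GL ι F) : Matrix ι ι F).det = c ^ n
  · refine ⟨1, by rw [one_mul, mul_one], ?_⟩
    rw [mul_one]
    exact ⟨k, Subgroup.mem_subgroupOf.2 ⟨Units.mk0 c hc0, hc, hd⟩, rfl⟩
  · refine ⟨_, Phi_tG_commute hM h1 v₀ hv₀σ hv₀, ?_⟩
    rw [← map_mul]
    refine ⟨_, Subgroup.mem_subgroupOf.2 ?_, rfl⟩
    have ht1 : IsMult (matQ M)
        ((tG (matQ M) v₀ : ↥(Cfsg.isometryGroup F (⇑(matQ M)))) : GL ι F) 1 :=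
      isMult_one_iff.2 (tG (matQ M) v₀).2
    have hsq := hc.det_sq G.nondeg
    rw [hcard, pow_mul'] at hsq
    have hneg : ((k : GL ι F) : Matrix ι ι F).det = -c ^ n := by
      have h5 : (((k : GL ι F) : Matrix ι ι F).det - c ^ n) *
          (((k : GL ι F) : Matrix ι ι F).det + c ^ n) = 0 := by
        linear_combination hsq
      rcases mul_eq_zero.1 h5 with h6 | h6
      · exact absurd (sub_eq_zero.1 h6) hd
      · exact eq_neg_of_add_eq_zero_left h6
    refine ⟨Units.mk0 c hc0, ?_, ?_⟩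
    · have := hc.mul ht1
      rw [mul_one] at this
      exact this
    · show (((k : GL ι F) * ((tG (matQ M) v₀ : ↥(Cfsg.isometryGroup F (⇑(matQ M)))) : GL ι F) :
        GL ι F) : Matrix ι ι F).det = _
      rw [Units.val_mul, Matrix.det_mul, tG_coe _ hv₀, det_reflectionMatrix _ hv₀, hneg,
        Units.val_mk0]
      ring

end commute

section two

variable {F : Type*} [Field F] [Fintype F] [CharP F 2] {ι : Type} [Fintype ι] [DecidableEq ι]

/-- in characteristic two every similarity acts as an isometry -/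
theorem exists_isometry_of_GO_two {Q : QuadraticForm F (ι → F)} (k : ↥(GO (⇑Q))) :
    ∃ o : ↥(Cfsg.isometryGroup F (⇑Q)), Phi (⇑Q) k = Phi (⇑Q) (iO Q o) := by
  obtain ⟨c, hc0, hc⟩ := exists_isMult k
  obtain ⟨s, hs⟩ := isSquare_of_charTwo' c
  have hs0 : s ≠ 0 := by
    rintro rfl
    rw [mul_zero] at hs
    exact hc0 hs
  set u : Fˣ := Units.mk0 s hs0 with hu
  have h1 : IsMult Q ((scalarGL u⁻¹ : GL ι F) * (k : GL ι F)) 1 := by
    have := (isMult_scalarGL (Q := Q) u⁻¹).mul hc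
    have e1 : ((u⁻¹ : Fˣ) : F) ^ 2 * c = 1 := by
      rw [Units.val_inv_eq_inv_val, hu, Units.val_mk0, hs]
      field_simp
    rwa [e1] at this
  have ho : (scalarGL u⁻¹ : GL ι F) * (k : GL ι F) ∈ Cfsg.isometryGroup F (⇑Q) :=
    isMult_one_iff.1 h1
  refine ⟨⟨_, ho⟩, ?_⟩
  have h2 : iO Q ⟨_, ho⟩ = (⟨scalarGL u⁻¹, scalarGL_mem_GO u⁻¹⟩ : ↥(GO (⇑Q))) * k := by
    apply Subtype.ext
    rfl
  rw [h2, map_mul, Phi_of_scalar (⟨scalarGL u⁻¹, scalarGL_mem_GO u⁻¹⟩ : ↥(GO (⇑Q)))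
    (scalarGL_mem u⁻¹), one_mul]

/-- characteristic two: the similarity image is the inner group times the centralizer of the
field automorphism -/
theorem exists_commuting_two {M : Matrix ι ι F} (G : Good (matQ M)) {σ : F ≃+* F}
    (hM : M.map σ = M) (h1 : Cfsg.IsSemisimilarityPair (⇑(matQ M)) (1 : GL ι F) σ) (v₀ : ι → F)
    (hv₀σ : ∀ i, σ (v₀ i) = v₀ i) (hv₀ : matQ M v₀ ≠ 0) :
    ∀ η ∈ G.fieldHom.ker, ∃ ζ : MulAut (Cfsg.POmega F (⇑(matQ M))),
      ζ * stdAut h1 = stdAut h1 * ζ ∧ η * ζ ∈ Cfsg.Inn (Cfsg.POmega F (⇑(matQ M))) := by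
  intro η hη
  rw [G.ker_fieldHom] at hη
  obtain ⟨k, rfl⟩ := hη
  obtain ⟨o, ho⟩ := exists_isometry_of_GO_two k
  rw [ho]
  have hmemInn : ∀ o' : ↥(Cfsg.isometryGroup F (⇑(matQ M))), o' ∈ Cfsg.Omega F (⇑(matQ M)) →
      Phi (⇑(matQ M)) (iO (matQ M) o') ∈ Cfsg.Inn (Cfsg.POmega F (⇑(matQ M))) := by
    intro o' ho'
    rw [inn_eq]
    refine ⟨iO (matQ M) o', Subgroup.mem_subgroupOf.2 ?_, rfl⟩
    unfold Cfsg.Geo.omegaGL
    exact ⟨o', ho', rfl⟩
  by_cases hoΩ : o ∈ Cfsg.Omega F (⇑(matQ M))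
  · refine ⟨1, by rw [one_mul, mul_one], ?_⟩
    rw [mul_one]
    exact hmemInn o hoΩ
  · refine ⟨_, Phi_tG_commute hM h1 v₀ hv₀σ hv₀, ?_⟩
    rw [← map_mul, ← map_mul]
    apply hmemInn
    have hidx := index_Omega_char_two (matQ M) G.nondeg G.hex hv₀
    have htn : tG (matQ M) v₀ ∉ Cfsg.Omega F (⇑(matQ M)) := by
      intro ht
      have h5 := (prod_tG_mem_commutator_iff (matQ M) G.nondeg G.hex [v₀] (by
        intro v hv
        rw [List.mem_singleton] at hv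
        rw [hv]
        exact hv₀)).1 (by simpa using ht)
      simp at h5
    rw [Subgroup.mul_mem_iff_of_index_two hidx]
    exact ⟨fun h => absurd h hoΩ, fun h => absurd h htn⟩

end two

end Cfsg.Agent.Helper17.OrthFA
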