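import Mathlib
import Cfsg.Agent.Lib.Helper17.OrthFA17
import Cfsg.Agent.Lib.Helper17.OrthOut13

set_option autoImplicit false
set_option linter.unusedSectionVars false
set_option linter.unusedSimpArgs false
set_option linter.unusedVariables false

/-!
# Field automorphisms of the minus type orthogonal groups: the coset theorem (helper17)
-/

namespace Cfsg.Agent.Helper17.OrthFA

open QuadraticMap Matrix Module Cfsg.Agent.Helper13 Cfsg.Agent.Helper17.OrthOut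
  Cfsg.Agent.Helper17.Spinor Cfsg.Agent.Helper17.ConfAut

universe u

section general

/-- transport of the coset statement along an isomorphism -/
theorem transport_iff {A B : Type*} [Group A] [Group B] (Ψ : A ≃* B) (D : Subgroup A)
    (D' : Subgroup B) (hDD' : ∀ β, β ∈ D ↔ Ψ β ∈ D') (x δ : A) (r : ℕ)
    (h : orderOf (Ψ δ * Ψ x) = r ↔ Cfsg.IsConjUnder D' (Ψ x) (Ψ δ * Ψ x)) :
    orderOf (δ * x) = r ↔ Cfsg.IsConjUnder D x (δ * x) := by
  have e1 : orderOf (δ * x) = orderOf (Ψ δ * Ψ x) := by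
    rw [← map_mul, MulEquiv.orderOf_eq]
  rw [e1, h]
  constructor
  · rintro ⟨h', hh', e⟩
    refine ⟨Ψ.symm h', ?_, ?_⟩
    · rw [hDD', MulEquiv.apply_symm_apply]
      exact hh'
    · apply Ψ.injective
      rw [map_mul, map_mul, map_mul, map_inv, MulEquiv.apply_symm_apply]
      exact e
  · rintro ⟨h', hh', e⟩
    refine ⟨Ψ h', (hDD' h').1 hh', ?_⟩
    rw [← map_mul, e, map_mul, map_mul, map_inv]

theorem congr_mem_inn {X Y : Type*} [Group X] [Group Y] (ψ : X ≃* Y) (β : MulAut X) :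
    β ∈ Cfsg.Inn X ↔ MulAut.congr ψ β ∈ Cfsg.Inn Y := by
  constructor
  · rintro ⟨g, rfl⟩
    refine ⟨ψ g, ?_⟩
    ext y
    simp [MulAut.congr, MulAut.conj_apply]
  · rintro ⟨g, hg⟩
    refine ⟨ψ.symm g, ?_⟩
    ext y
    have := congrArg (fun γ : MulAut Y => ψ.symm (γ (ψ y))) hg
    simp [MulAut.congr, MulAut.conj_apply] at this
    rw [MulAut.conj_apply, this]

end general

section minus

variable {F : Type u} [Field F] [Fintype F]

/-- the inner-diagonal group of the minus type, for the form as a `QuadraticForm` -/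
noncomputable def Dm (m : ℕ) (a b : F) : Subgroup (MulAut (Cfsg.POmega F (⇑(minusQ m a b)))) :=
  Cfsg.autSubgroupOf (fun β : Cfsg.POmega F (⇑(minusQ m a b)) ≃*
      Cfsg.POmega F (⇑(minusQ m a b)) =>
    ∃ g : GL ((Fin m ⊕ Fin m) ⊕ Fin 2) F,
      g ∈ Cfsg.Geo.quadSimilarityGroup (F := F) (⇑(minusQ m a b)) ∧
      Cfsg.PreservesSingularClassesMinus m a b
        (g : Matrix ((Fin m ⊕ Fin m) ⊕ Fin 2) ((Fin m ⊕ Fin m) ⊕ Fin 2) F) ∧
      Cfsg.IsInducedBySemilinearPOmega (⇑(minusQ m a b)) g (RingEquiv.refl F) β)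

theorem minusMat_map_sigma (m : ℕ) (σ : F ≃+* F) (a' b' : F) (ha' : σ a' = a')
    (hb' : σ b' = b') : (minusMat m a' b').map σ = minusMat m a' b' := by
  have := minusMat_map (σ : F →+* F) m a' b'
  rw [show ((σ : F →+* F) a') = a' from ha', show ((σ : F →+* F) b') = b' from hb'] at this
  exact this

theorem minusQ_single (m : ℕ) (a' b' : F) :
    minusQ m a' b' (Pi.single (Sum.inr 0) 1) = 1 := by
  rw [matQ_minusMat]
  simp

theorem single_fixed (σ : F ≃+* F) {ι : Type*} [DecidableEq ι] (j : ι) (i : ι) :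
    σ ((Pi.single j (1 : F) : ι → F) i) = (Pi.single j (1 : F) : ι → F) i := by
  by_cases h : i = j
  · subst h
    simp
  · simp [Pi.single_apply, h]

/-- **the coset theorem for the minus type** -/
theorem minus_core (k : ℕ) (a b a' b' : F)
    (hab : ∀ z₁ z₂ : F, z₁ ^ 2 + a * z₁ * z₂ + b * z₂ ^ 2 = 0 → z₁ = 0 ∧ z₂ = 0)
    (hab' : ∀ z₁ z₂ : F, z₁ ^ 2 + a' * z₁ * z₂ + b' * z₂ ^ 2 = 0 → z₁ = 0 ∧ z₂ = 0)
    (x δ : MulAut (Cfsg.POmega F (⇑(minusQ (k + 3) a b))))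
    (ψ : Cfsg.POmega F (⇑(minusQ (k + 3) a b)) ≃* Cfsg.POmega F (⇑(minusQ (k + 3) a' b')))
    (σ : F ≃+* F) (hσ1 : σ ≠ RingEquiv.refl F) (ha' : σ a' = a') (hb' : σ b' = b')
    (hφ : Cfsg.IsFieldAutPOmegaOf (⇑(minusQ (k + 3) a' b')) σ ((ψ.symm.trans x).trans ψ))
    {r : ℕ} (hr : r.Prime) (hxr : orderOf x = r) (hδ : δ ∈ Dm (k + 3) a b) :
    orderOf (δ * x) = r ↔ Cfsg.IsConjUnder (Dm (k + 3) a b) x (δ * x) := by
  classical
  have G := good_minus k a b hab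
  have G' := good_minus k a' b' hab'
  have hM' := minusMat_map_sigma (k + 3) σ a' b' ha' hb'
  have h1' := isSemisim_fixed hM'
  have hΨx : MulAut.congr ψ x = stdAut h1' := fieldAut_eq_stdAut h1' hφ
  have hS' : orderOf σ = r → SigHypQ (minusMat (k + 3) a' b') σ r := fun hσr =>
    ⟨hr.pos, hσr, hdesc_minus (k + 3) σ a' b' hab' ha' hb'⟩
  have hxr' : orderOf (MulAut.congr ψ x) = r := by
    rw [MulEquiv.orderOf_eq]
    exact hxr
  have hαx : (1 : MulAut (Cfsg.POmega F (⇑(minusQ (k + 3) a' b')))) * MulAut.congr ψ x * 1⁻¹ =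
      stdAut h1' := by
    rw [one_mul, inv_one, mul_one]
    exact hΨx
  have hv₀ : minusQ (k + 3) a' b' (Pi.single (Sum.inr 0) 1) ≠ 0 := by
    rw [minusQ_single]
    exact one_ne_zero
  have hv₀σ : ∀ i, σ ((Pi.single (Sum.inr 0) (1 : F) :
      (Fin (k + 3) ⊕ Fin (k + 3)) ⊕ Fin 2 → F) i) = (Pi.single (Sum.inr 0) (1 : F) :
      (Fin (k + 3) ⊕ Fin (k + 3)) ⊕ Fin 2 → F) i := fun i => single_fixed σ _ i
  have hex : ∀ c d : F, Fintype.card F ≠ 2 ∨
      Fintype.card ((Fin (k + 3) ⊕ Fin (k + 3)) ⊕ Fin 2) ≠ 4 := by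
    intro _ _
    right
    rw [card_minusIdx]
    omega
  by_cases h2 : (2 : F) = 0
  · haveI := charP_two_of_two_eq_zero h2
    have hD : Dm (k + 3) a b = Cfsg.Inn (Cfsg.POmega F (⇑(minusQ (k + 3) a b))) :=
      inndiag_minus_eq_two (k + 3) a b (hex a b) hab
    rw [hD] at hδ ⊢
    apply transport_iff (MulAut.congr ψ) _ (Cfsg.Inn (Cfsg.POmega F (⇑(minusQ (k + 3) a' b'))))
      (congr_mem_inn ψ) x δ r
    exact coset_conj G' hr hσ1 hS' _ G'.inn_le_ker h1'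
      (exists_commuting_two G' hM' h1' _ hv₀σ hv₀) _ _ 1 hαx hxr' ((congr_mem_inn ψ δ).1 hδ)
  · have hD : Dm (k + 3) a b = PD (minusQ (k + 3) a b) (k + 3 + 1) :=
      inndiag_minus_eq (k + 3) a b h2 hab
    rw [hD] at hδ ⊢
    obtain ⟨M₂, hM₂⟩ := exists_bin_iso a' b' a b hab' hab
    obtain ⟨T, hT⟩ : ∃ T : GL ((Fin (k + 3) ⊕ Fin (k + 3)) ⊕ Fin 2) F,
        ∀ v, minusQ (k + 3) a' b' ((T : Matrix _ _ F).mulVec v) = minusQ (k + 3) a b v :=
      ⟨blockGL (k + 3) 1 M₂, fun v => minusQ_blockGL (k + 3) a' b' a b M₂ hM₂ v⟩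
    have hT' : ∀ v, minusQ (k + 3) a b (((T⁻¹ : GL _ F) : Matrix _ _ F).mulVec v) =
        minusQ (k + 3) a' b' v :=
      fun v => hT_inv (Q := ⇑(minusQ (k + 3) a b)) (Q' := ⇑(minusQ (k + 3) a' b')) T hT v
    have hDD' : ∀ β, β ∈ PD (minusQ (k + 3) a b) (k + 3 + 1) ↔
        MulAut.congr ψ β ∈ PD (minusQ (k + 3) a' b') (k + 3 + 1) := by
      intro β
      constructor
      · exact congr_PD_le G _ T hT ψ
      · intro h
        have h3 := congr_PD_le G' (k + 3 + 1) T⁻¹ hT' ψ.symm h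
        have h4 : MulAut.congr ψ.symm (MulAut.congr ψ β) = β := by
          ext y
          simp [MulAut.congr]
        rwa [h4] at h3
    apply transport_iff (MulAut.congr ψ) _ _ hDD' x δ r
    have hn := PD_normal G' (k + 3 + 1)
    have hle : PD (minusQ (k + 3) a' b') (k + 3 + 1) ≤ G'.fieldHom.ker := by
      rw [G'.ker_fieldHom]
      exact PD_le_PG
    have hcard : Fintype.card ((Fin (k + 3) ⊕ Fin (k + 3)) ⊕ Fin 2) = 2 * (k + 3 + 1) :=
      card_minusIdx (k + 3)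
    exact coset_conj G' hr hσ1 hS' _ hle h1'
      (exists_commuting_odd G' hM' h1' (k + 3 + 1) hcard _ hv₀σ hv₀) _ _ 1 hαx hxr'
      ((hDD' δ).1 hδ)

end minus

end Cfsg.Agent.Helper17.OrthFA
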