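import Mathlib
import Cfsg.Agent.Lib.Helper17.OrthFA18

set_option autoImplicit false
set_option linter.unusedSectionVars false
set_option linter.unusedSimpArgs false
set_option linter.unusedVariables false

/-!
# Field automorphisms of the minus type orthogonal groups: transport to the function form
(helper17)
-/

namespace Cfsg.Agent.Helper17.OrthFA

open QuadraticMap Matrix Module Cfsg.Agent.Helper13 Cfsg.Agent.Helper17.OrthOut
  Cfsg.Agent.Helper17.Spinor Cfsg.Agent.Helper17.ConfAut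

universe u

theorem minus_aux {F : Type u} [Field F] [Fintype F] (k : ℕ) (a b : F)
    (hab : ∀ z₁ z₂ : F, z₁ ^ 2 + a * z₁ * z₂ + b * z₂ ^ 2 = 0 → z₁ = 0 ∧ z₂ = 0)
    (Qf : F → F → (((Fin (k + 3) ⊕ Fin (k + 3)) ⊕ Fin 2) → F) → F)
    (hQf : ∀ a' b' : F, Qf a' b' = ⇑(minusQ (k + 3) a' b'))
    (x δ : MulAut (Cfsg.POmega F (Qf a b)))
    (hx : ∃ (a' b' : F) (ψ : Cfsg.POmega F (Qf a b) ≃* Cfsg.POmega F (Qf a' b'))
      (σ : F ≃+* F),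
      (∀ z₁ z₂ : F, z₁ ^ 2 + a' * z₁ * z₂ + b' * z₂ ^ 2 = 0 → z₁ = 0 ∧ z₂ = 0) ∧
      σ ≠ RingEquiv.refl F ∧ σ a' = a' ∧ σ b' = b' ∧
      Cfsg.IsFieldAutPOmegaOf (Qf a' b') σ ((ψ.symm.trans x).trans ψ))
    {r : ℕ} (hr : r.Prime) (hxr : orderOf x = r)
    (hδ : δ ∈ Cfsg.autSubgroupOf (fun β : Cfsg.POmega F (Qf a b) ≃* Cfsg.POmega F (Qf a b) =>
      ∃ g : GL ((Fin (k + 3) ⊕ Fin (k + 3)) ⊕ Fin 2) F,
        g ∈ Cfsg.Geo.quadSimilarityGroup (F := F) (Qf a b) ∧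
        Cfsg.PreservesSingularClassesMinus (k + 3) a b
          (g : Matrix ((Fin (k + 3) ⊕ Fin (k + 3)) ⊕ Fin 2)
            ((Fin (k + 3) ⊕ Fin (k + 3)) ⊕ Fin 2) F) ∧
        Cfsg.IsInducedBySemilinearPOmega (Qf a b) g (RingEquiv.refl F) β)) :
    orderOf (δ * x) = r ↔ Cfsg.IsConjUnder
      (Cfsg.autSubgroupOf (fun β : Cfsg.POmega F (Qf a b) ≃* Cfsg.POmega F (Qf a b) =>
      ∃ g : GL ((Fin (k + 3) ⊕ Fin (k + 3)) ⊕ Fin 2) F,
        g ∈ Cfsg.Geo.quadSimilarityGroup (F := F) (Qf a b) ∧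
        Cfsg.PreservesSingularClassesMinus (k + 3) a b
          (g : Matrix ((Fin (k + 3) ⊕ Fin (k + 3)) ⊕ Fin 2)
            ((Fin (k + 3) ⊕ Fin (k + 3)) ⊕ Fin 2) F) ∧
        Cfsg.IsInducedBySemilinearPOmega (Qf a b) g (RingEquiv.refl F) β)) x (δ * x) := by
  obtain rfl : Qf = fun a' b' => ⇑(minusQ (k + 3) a' b') := by
    funext a' b'
    exact hQf a' b'
  obtain ⟨a', b', ψ, σ, hab', hσ1, ha', hb', hφ⟩ := hx
  exact minus_core k a b a' b' hab hab' x δ ψ σ hσ1 ha' hb' hφ hr hxr hδ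

end Cfsg.Agent.Helper17.OrthFA
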