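import Mathlib
import Cfsg.Agent.Lib.Helper17.OrthFA20

set_option autoImplicit false
set_option linter.unusedSectionVars false
set_option linter.unusedSimpArgs false
set_option linter.unusedVariables false

/-!
# The coset theorem with two types of descended forms (helper17)
-/

namespace Cfsg.Agent.Helper17.OrthFA

open QuadraticMap Matrix Cfsg.Agent.Helper13 Cfsg.Agent.Helper17.OrthOut
  Cfsg.Agent.Helper17.OrthAut

section abstract

variable {A : Type*} [Group A]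

/-- conjugation by an element of `K` is trivial modulo `D` when `D` has index two in `K` -/
theorem comm_mem_of_index_two (K D : Subgroup A) [hK : K.Normal] [hD : D.Normal]
    (hidx : ∀ a ∈ K, ∀ b ∈ K, a ∉ D → b ∉ D → a * b ∈ D)
    {z : A} (hz : z ∈ K) (w : A) : z * w * z⁻¹ * w⁻¹ ∈ D := by
  have e : z * w * z⁻¹ * w⁻¹ = z * (w * z⁻¹ * w⁻¹) := by group
  rw [e]
  by_cases hzD : z ∈ D
  · exact D.mul_mem hzD (hD.conj_mem _ (D.inv_mem hzD) w)
  · apply hidx z hz _ (hK.conj_mem _ (K.inv_mem hz) w) hzD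
    intro h
    apply hzD
    have h2 := hD.conj_mem _ h w⁻¹
    have e2 : w⁻¹ * (w * z⁻¹ * w⁻¹) * w⁻¹⁻¹ = z⁻¹ := by group
    rw [e2] at h2
    exact (D.inv_mem_iff).1 h2

theorem conj_mul_inv_mem (K D : Subgroup A) [hK : K.Normal] [hD : D.Normal]
    (hidx : ∀ a ∈ K, ∀ b ∈ K, a ∉ D → b ∉ D → a * b ∈ D)
    {z : A} (hz : z ∈ K) {y w : A} (hy : y = z * w * z⁻¹) : y * w⁻¹ ∈ D := by
  rw [hy]
  exact comm_mem_of_index_two K D hidx hz w

end abstract

section main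

variable {F : Type*} [Field F] [Fintype F] {ι : Type} [Fintype ι] [DecidableEq ι]

/-- **the coset theorem, two types** -/
theorem coset_conj2 {M : Matrix ι ι F} (G : Good (matQ M)) {σ : F ≃+* F} {r : ℕ} (hr : r.Prime)
    (hσ1 : σ ≠ RingEquiv.refl F) {ρ : GL ι F}
    (hS : orderOf σ = r → SigHypQ2 M σ r ρ)
    (D : Subgroup (MulAut (Cfsg.POmega F (⇑(matQ M))))) [hDn : D.Normal]
    (hDle : D ≤ G.fieldHom.ker)
    (hidx : ∀ a ∈ G.fieldHom.ker, ∀ b ∈ G.fieldHom.ker, a ∉ D → b ∉ D → a * b ∈ D)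
    (h1 : Cfsg.IsSemisimilarityPair (⇑(matQ M)) (1 : GL ι F) σ)
    (hρ : Cfsg.IsSemisimilarityPair (⇑(matQ M)) ρ σ)
    (hρr : Cfsg.IsSemisimilarityPair (⇑(matQ M)) ρ (RingEquiv.refl F))
    (hρD : stdAut hρr ∉ D)
    (Γ : MulAut (Cfsg.POmega F (⇑(matQ M)))) (hΓ : Γ ∈ G.fieldHom.ker)
    (hΓc : Γ = 1 ∨ Γ ∉ D)
    (hD : ∀ η ∈ G.fieldHom.ker, ∃ ζ : MulAut (Cfsg.POmega F (⇑(matQ M))),
      ζ * (Γ * stdAut h1) = (Γ * stdAut h1) * ζ ∧ η * ζ ∈ D)
    (x δ α : MulAut (Cfsg.POmega F (⇑(matQ M)))) (hαx : α * x * α⁻¹ = Γ * stdAut h1)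
    (hxr : orderOf x = r) (hδ : δ ∈ D) :
    orderOf (δ * x) = r ↔ Cfsg.IsConjUnder D x (δ * x) := by
  constructor
  · intro hord
    have hKn : G.fieldHom.ker.Normal := MonoidHom.normal_ker _
    have hx₀r : orderOf (Γ * stdAut h1) = r := by
      rw [← hαx, orderOf_conj', hxr]
    have hσr : orderOf σ = r := by
      have h3 : orderOf (G.fieldHom (Γ * stdAut h1)) ∣ orderOf (Γ * stdAut h1) :=
        orderOf_map_dvd _ _
      rw [map_mul, MonoidHom.mem_ker.1 hΓ, one_mul, G.fieldHom_stdAut, hx₀r] at h3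
      rcases (Nat.dvd_prime hr).1 h3 with h4 | h4
      · exfalso
        apply hσ1
        exact orderOf_eq_one_iff.1 h4
      · exact h4
    have hS' := hS hσr
    -- the second standard element
    obtain ⟨hρ', eρ⟩ := stdAut_mul_refl hρr h1
    have eρ' : stdAut hρ = stdAut hρr * stdAut h1 := by
      rw [eρ]
      apply stdAut_congr _ rfl
      rw [mul_one]
    have hρker : stdAut hρr ∈ G.fieldHom.ker := (G.mem_ker_fieldHom _).2 ⟨ρ, hρr, rfl⟩
    -- every element of order `r` in the coset of `Γ φ` is conjugate to `φ` or `ρ φ` under the kernel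
    have key : ∀ β ∈ G.fieldHom.ker, (β * stdAut h1) ^ r = 1 →
        (∃ Y ∈ G.fieldHom.ker, β * stdAut h1 = Y * stdAut h1 * Y⁻¹) ∨
        (∃ Y ∈ G.fieldHom.ker, β * stdAut h1 = Y * stdAut hρ * Y⁻¹) := by
      intro β hβ hpow
      obtain ⟨g', hg', hβg⟩ := (G.mem_ker_fieldHom β).1 hβ
      obtain ⟨hgσ, e1⟩ := stdAut_mul_refl hg' h1
      rw [hβg, e1] at hpow ⊢
      obtain ⟨y, hy, hconj⟩ := exists_conj_std2 G hS' h1 hρ hgσ hpow
      have hηker : stdAut hy ∈ G.fieldHom.ker := (G.mem_ker_fieldHom _).2 ⟨y, hy, rfl⟩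
      rcases hconj with hconj | hconj
      · exact Or.inl ⟨_, hηker, hconj⟩
      · exact Or.inr ⟨_, hηker, hconj⟩
    -- conjugate by `α`
    obtain ⟨δ', hδ'⟩ : ∃ δ', δ' = α * δ * α⁻¹ := ⟨_, rfl⟩
    have hδ'D : δ' ∈ D := by
      rw [hδ']
      exact hDn.conj_mem δ hδ α
    have hprod : α * (δ * x) * α⁻¹ = δ' * Γ * stdAut h1 := by
      rw [hδ', mul_assoc _ Γ, ← hαx]
      group
    have hpow : (δ' * Γ * stdAut h1) ^ r = 1 := by
      rw [← hprod, ← hord, ← orderOf_conj' α (δ * x)]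
      exact pow_orderOf_eq_one _
    have hδ'Γ : δ' * Γ ∈ G.fieldHom.ker := (G.fieldHom.ker).mul_mem (hDle hδ'D) hΓ
    have hpow₀ : (Γ * stdAut h1) ^ r = 1 := by
      rw [← hx₀r]
      exact pow_orderOf_eq_one _
    -- conjugacy under the kernel
    have hZ : ∃ Z ∈ G.fieldHom.ker, δ' * Γ * stdAut h1 = Z * (Γ * stdAut h1) * Z⁻¹ := by
      rcases key _ hδ'Γ hpow with ⟨Y, hY, hYe⟩ | ⟨Y, hY, hYe⟩
      · -- hyperbolic type
        have h5 := conj_mul_inv_mem _ D hidx hY hYe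
        have e5 : δ' * Γ * stdAut h1 * (stdAut h1)⁻¹ = δ' * Γ := by group
        rw [e5] at h5
        have hΓD : Γ ∈ D := by
          have := D.mul_mem (D.inv_mem hδ'D) h5
          rwa [← mul_assoc, inv_mul_cancel, one_mul] at this
        rcases hΓc with hΓ1 | hΓn
        · refine ⟨Y, hY, ?_⟩
          rw [hYe, hΓ1, one_mul]
        · exact absurd hΓD hΓn
      · -- elliptic type
        have h5 := conj_mul_inv_mem _ D hidx hY hYe
        rw [eρ'] at h5
        have e5 : δ' * Γ * stdAut h1 * (stdAut hρr * stdAut h1)⁻¹ = δ' * (Γ * (stdAut hρr)⁻¹) := by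
          group
        rw [e5] at h5
        have hΓρ : Γ * (stdAut hρr)⁻¹ ∈ D := by
          have := D.mul_mem (D.inv_mem hδ'D) h5
          rwa [← mul_assoc, inv_mul_cancel, one_mul] at this
        rcases hΓc with hΓ1 | hΓn
        · exfalso
          rw [hΓ1, one_mul] at hΓρ
          exact hρD ((D.inv_mem_iff).1 hΓρ)
        · rcases key _ hΓ hpow₀ with ⟨Y', hY', hYe'⟩ | ⟨Y', hY', hYe'⟩
          · exfalso
            have h6 := conj_mul_inv_mem _ D hidx hY' hYe'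
            have e6 : Γ * stdAut h1 * (stdAut h1)⁻¹ = Γ := by group
            rw [e6] at h6
            exact hΓn h6
          · refine ⟨Y * Y'⁻¹, (G.fieldHom.ker).mul_mem hY ((G.fieldHom.ker).inv_mem hY'), ?_⟩
            rw [hYe, hYe']
            group
    obtain ⟨Z, hZker, hZe⟩ := hZ
    obtain ⟨ζ, hζ, hηζ⟩ := hD _ hZker
    refine ⟨α⁻¹ * (Z * ζ) * α, ?_, ?_⟩
    · have := hDn.conj_mem _ hηζ α⁻¹
      rwa [inv_inv] at this
    · have h5 : δ * x = α⁻¹ * (δ' * Γ * stdAut h1) * α := by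
        rw [← hprod]
        group
      have h6 : ζ * (Γ * stdAut h1) * ζ⁻¹ = Γ * stdAut h1 := by
        rw [hζ]
        group
      rw [h5, hZe]
      have h7 : x = α⁻¹ * (Γ * stdAut h1) * α := by
        rw [← hαx]
        group
      rw [h7]
      have h8 : α⁻¹ * (Z * ζ) * α * (α⁻¹ * (Γ * stdAut h1) * α) *
          (α⁻¹ * (Z * ζ) * α)⁻¹ =
          α⁻¹ * (Z * (ζ * (Γ * stdAut h1) * ζ⁻¹) * Z⁻¹) * α := by
        group
      rw [h8, h6]
  · rintro ⟨h, -, hh⟩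
    rw [hh, orderOf_conj', hxr]

end main

end Cfsg.Agent.Helper17.OrthFA
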