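import Mathlib
import Cfsg.Agent.Lib.Helper17.OrthFA21

set_option autoImplicit false
set_option linter.unusedSectionVars false
set_option linter.unusedSimpArgs false
set_option linter.unusedVariables false

/-!
# The swap of the last hyperbolic pair and the splitting coordinate change (helper17)
-/

namespace Cfsg.Agent.Helper17.OrthFA

open QuadraticMap Matrix Cfsg.Agent.Helper13 Cfsg.Agent.Helper17.OrthOut Cfsg.Agent.Helper17.Spinor
  Cfsg.Agent.Helper17.ConfAut

section wlast

variable {K : Type*} [Field K] (m : ℕ)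

/-- `e_last - f_last` -/
def wLast : Fin (m + 1) ⊕ Fin (m + 1) → K :=
  Pi.single (Sum.inl (Fin.last m)) 1 - Pi.single (Sum.inr (Fin.last m)) 1

theorem wLast_inl (i : Fin (m + 1)) :
    (wLast m : Fin (m + 1) ⊕ Fin (m + 1) → K) (Sum.inl i) = if i = Fin.last m then 1 else 0 := by
  simp [wLast, Pi.single_apply]

theorem wLast_inr (i : Fin (m + 1)) :
    (wLast m : Fin (m + 1) ⊕ Fin (m + 1) → K) (Sum.inr i) = if i = Fin.last m then -1 else 0 := by
  by_cases h : i = Fin.last m
  · simp [wLast, Pi.single_apply, h]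
  · simp [wLast, Pi.single_apply, h]

theorem plusQ_wLast : plusQ (m + 1) K (wLast m) = -1 := by
  rw [plusQ_apply]
  simp only [wLast_inl, wLast_inr]
  simp

theorem plusQ_wLast_ne : plusQ (m + 1) K (wLast m) ≠ 0 := by
  rw [plusQ_wLast]
  exact neg_ne_zero.2 one_ne_zero

theorem polar_wLast (x : Fin (m + 1) ⊕ Fin (m + 1) → K) :
    polar (plusQ (m + 1) K) (wLast m) x = x (Sum.inr (Fin.last m)) - x (Sum.inl (Fin.last m)) := by
  rw [polar_plusQ]
  simp only [wLast_inl, wLast_inr]
  simp [Finset.sum_add_distrib]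
  ring

theorem refl_wLast (x : Fin (m + 1) ⊕ Fin (m + 1) → K) :
    refl (plusQ (m + 1) K) (wLast m) x =
      x + (x (Sum.inr (Fin.last m)) - x (Sum.inl (Fin.last m))) • wLast m := by
  rw [refl_apply, plusQ_wLast, polar_wLast]
  have : ((-1 : K))⁻¹ = -1 := by
    rw [inv_neg, inv_one]
  rw [this, neg_one_mul, neg_smul, sub_neg_eq_add]

theorem refl_wLast_minusT (t t' : K) (v : (Fin m ⊕ Fin m) ⊕ Fin 2 → K) :
    refl (plusQ (m + 1) K) (wLast m) (minusT m t t' v) = minusT m t' t v := by
  rw [refl_wLast]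
  funext i
  rcases i with i | i
  · refine Fin.lastCases ?_ (fun j => ?_) i
    · simp only [Pi.add_apply, Pi.smul_apply, smul_eq_mul, wLast_inl, if_true, minusT_inl_last,
        minusT_inr_last]
      ring
    · simp only [Pi.add_apply, Pi.smul_apply, smul_eq_mul, wLast_inl, minusT_inl_castSucc,
        (Fin.castSucc_lt_last j).ne, if_false, mul_zero, add_zero]
  · refine Fin.lastCases ?_ (fun j => ?_) i
    · simp only [Pi.add_apply, Pi.smul_apply, smul_eq_mul, wLast_inr, if_true, minusT_inl_last,
        minusT_inr_last]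
      ring
    · simp only [Pi.add_apply, Pi.smul_apply, smul_eq_mul, wLast_inr, minusT_inr_castSucc,
        (Fin.castSucc_lt_last j).ne, if_false, mul_zero, add_zero]

/-- the matrix of the coordinate change -/
noncomputable def minusTM (t t' : K) :
    Matrix (Fin (m + 1) ⊕ Fin (m + 1)) ((Fin m ⊕ Fin m) ⊕ Fin 2) K :=
  LinearMap.toMatrix' (minusT m t t')

theorem minusTM_mulVec (t t' : K) (v : (Fin m ⊕ Fin m) ⊕ Fin 2 → K) :
    minusTM m t t' *ᵥ v = minusT m t t' v := by
  unfold minusTM
  rw [← Matrix.toLin'_apply, Matrix.toLin'_toMatrix']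

theorem reflectionMatrix_mul_minusTM (t t' : K) :
    Cfsg.reflectionMatrix (⇑(plusQ (m + 1) K)) (wLast m) * minusTM m t t' = minusTM m t' t := by
  apply Matrix.toLin'.injective
  apply LinearMap.ext
  intro v
  rw [Matrix.toLin'_mul, LinearMap.comp_apply, Matrix.toLin'_apply, Matrix.toLin'_apply,
    Matrix.toLin'_apply, minusTM_mulVec, minusTM_mulVec, reflectionMatrix_mulVec,
    refl_wLast_minusT]

theorem minusTM_map {K' : Type*} [Field K'] (φ : K →+* K') (t t' : K) :
    (minusTM m t t').map φ = minusTM m (φ t) (φ t') := by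
  ext i j
  unfold minusTM
  rw [Matrix.map_apply, LinearMap.toMatrix'_apply, LinearMap.toMatrix'_apply]
  rcases i with i | i
  · refine Fin.lastCases ?_ (fun k => ?_) i
    · rw [minusT_inl_last, minusT_inl_last]
      simp only [Pi.single_apply, map_sub, map_mul, apply_ite φ, map_one, map_zero]
    · rw [minusT_inl_castSucc, minusT_inl_castSucc]
      simp only [Pi.single_apply, apply_ite φ, map_one, map_zero]
  · refine Fin.lastCases ?_ (fun k => ?_) i
    · rw [minusT_inr_last, minusT_inr_last]
      simp only [Pi.single_apply, map_sub, map_mul, apply_ite φ, map_one, map_zero]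
    · rw [minusT_inr_castSucc, minusT_inr_castSucc]
      simp only [Pi.single_apply, apply_ite φ, map_one, map_zero]

/-- the inverse matrix -/
noncomputable def minusTMinv (t t' : K) (hne : t ≠ t') :
    Matrix ((Fin m ⊕ Fin m) ⊕ Fin 2) (Fin (m + 1) ⊕ Fin (m + 1)) K :=
  LinearMap.toMatrix' (minusTEquiv m t t' hne).symm.toLinearMap

theorem minusTM_mul_inv (t t' : K) (hne : t ≠ t') :
    minusTM m t t' * minusTMinv m t t' hne = 1 := by
  unfold minusTM minusTMinv
  rw [← LinearMap.toMatrix'_comp, ← LinearMap.toMatrix'_id]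
  congr 1
  apply LinearMap.ext
  intro v
  rw [LinearMap.comp_apply, LinearMap.id_apply, LinearEquiv.coe_coe, ← minusTEquiv_apply m t t' hne,
    LinearEquiv.apply_symm_apply]

theorem minusTMinv_mul (t t' : K) (hne : t ≠ t') :
    minusTMinv m t t' hne * minusTM m t t' = 1 := by
  unfold minusTM minusTMinv
  rw [← LinearMap.toMatrix'_comp, ← LinearMap.toMatrix'_id]
  congr 1
  apply LinearMap.ext
  intro v
  rw [LinearMap.comp_apply, LinearMap.id_apply, LinearEquiv.coe_coe, ← minusTEquiv_apply m t t' hne,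
    LinearEquiv.symm_apply_apply]

end wlast

end Cfsg.Agent.Helper17.OrthFA
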