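import Mathlib
import Cfsg.Agent.Lib.Helper17.OrthFA22

set_option autoImplicit false
set_option linter.unusedSectionVars false
set_option linter.unusedSimpArgs false
set_option linter.unusedVariables false

/-!
# Plus type forms: the two types of descended forms (helper17)
-/

namespace Cfsg.Agent.Helper17.OrthFA

open QuadraticMap Matrix Cfsg.Agent.Helper13 Cfsg.Agent.Helper17.OrthOut Cfsg.Agent.Helper17.Spinor
  Cfsg.Agent.Helper17.ConfAut
open Cfsg.Agent.Helper13.FAut (fixedField mem_fixedField)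

section bases

variable {K : Type*} [Field K] {ι : Type*} [Fintype ι] [DecidableEq ι]

/-- the form in a hyperbolic basis -/
theorem form_of_hyp_basis (n : ℕ) (N₀ : Matrix ι ι K)
    (bs : Module.Basis (Fin n ⊕ Fin n) K (ι → K))
    (h1 : ∀ i, matQ N₀ (bs (Sum.inl i)) = 0 ∧ matQ N₀ (bs (Sum.inr i)) = 0)
    (h2 : ∀ i j, QuadraticMap.polar ⇑(matQ N₀) (bs (Sum.inl i)) (bs (Sum.inr j)) =
      if i = j then 1 else 0)
    (h3 : ∀ i j, QuadraticMap.polar ⇑(matQ N₀) (bs (Sum.inl i)) (bs (Sum.inl j)) = 0 ∧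
      QuadraticMap.polar ⇑(matQ N₀) (bs (Sum.inr i)) (bs (Sum.inr j)) = 0) :
    matQ ((basisMat bs)ᵀ * N₀ * basisMat bs) = matQ (plusMat n K) := by
  apply form_of_basis N₀ bs (plusMat n K)
  · intro k
    rcases k with i | i
    · rw [(h1 i).1]; simp [plusMat]
    · rw [(h1 i).2]; simp [plusMat]
  · intro k l
    rcases k with i | i <;> rcases l with l | l
    · rw [(h3 i l).1]; simp [plusMat]
    · rw [h2 i l]; simp [plusMat, Matrix.one_apply]
    · rw [polar_comm, h2 l i]; simp [plusMat, Matrix.one_apply, eq_comm]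
    · rw [(h3 i l).2]; simp [plusMat]

/-- the form in an elliptic basis -/
theorem form_of_ell_basis (m : ℕ) (N₀ : Matrix ι ι K)
    (b : Module.Basis ((Fin m ⊕ Fin m) ⊕ Fin 2) K (ι → K)) (ζ : K)
    (h1 : ∀ i, matQ N₀ (b (Sum.inl (Sum.inl i))) = 0 ∧ matQ N₀ (b (Sum.inl (Sum.inr i))) = 0)
    (h2 : ∀ i j, QuadraticMap.polar ⇑(matQ N₀) (b (Sum.inl (Sum.inl i)))
      (b (Sum.inl (Sum.inr j))) = if i = j then 1 else 0)
    (h3 : ∀ i j, QuadraticMap.polar ⇑(matQ N₀) (b (Sum.inl (Sum.inl i)))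
        (b (Sum.inl (Sum.inl j))) = 0 ∧
      QuadraticMap.polar ⇑(matQ N₀) (b (Sum.inl (Sum.inr i)))
        (b (Sum.inl (Sum.inr j))) = 0)
    (h4 : ∀ i (k : Fin 2), QuadraticMap.polar ⇑(matQ N₀) (b (Sum.inl (Sum.inl i)))
        (b (Sum.inr k)) = 0 ∧
      QuadraticMap.polar ⇑(matQ N₀) (b (Sum.inl (Sum.inr i))) (b (Sum.inr k)) = 0)
    (h5 : matQ N₀ (b (Sum.inr 0)) = 1)
    (h6 : QuadraticMap.polar ⇑(matQ N₀) (b (Sum.inr 0)) (b (Sum.inr 1)) = 1)
    (h7 : matQ N₀ (b (Sum.inr 1)) = ζ) :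
    matQ ((basisMat b)ᵀ * N₀ * basisMat b) = matQ (minusMat m 1 ζ) := by
  have hpol0 : QuadraticMap.polar ⇑(matQ N₀) (b (Sum.inr 0)) (b (Sum.inr 0)) = 2 := by
    rw [QuadraticMap.polar_self, h5]
    simp
  have hpol1 : QuadraticMap.polar ⇑(matQ N₀) (b (Sum.inr 1)) (b (Sum.inr 1)) = 2 * ζ := by
    rw [QuadraticMap.polar_self, h7]
    simp
  apply form_of_basis N₀ b (minusMat m 1 ζ)
  · intro k
    rcases k with (i | i) | i
    · rw [(h1 i).1]; simp [minusMat, plusMat]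
    · rw [(h1 i).2]; simp [minusMat, plusMat]
    · fin_cases i
      · simp only [Fin.zero_eta]; rw [h5]; simp [minusMat]
      · simp only [Fin.mk_one]; rw [h7]; simp [minusMat]
  · intro k l
    rcases k with (i | i) | i <;> rcases l with (l | l) | l
    · rw [(h3 i l).1]; simp [minusMat, plusMat]
    · rw [h2 i l]; simp [minusMat, plusMat, Matrix.one_apply]
    · rw [(h4 i l).1]; simp [minusMat]
    · rw [polar_comm, h2 l i]; simp [minusMat, plusMat, Matrix.one_apply, eq_comm]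
    · rw [(h3 i l).2]; simp [minusMat, plusMat]
    · rw [(h4 i l).2]; simp [minusMat]
    · rw [polar_comm, (h4 l i).1]; simp [minusMat]
    · rw [polar_comm, (h4 l i).2]; simp [minusMat]
    · fin_cases i <;> fin_cases l
      · simp only [Fin.zero_eta]; rw [hpol0]; simp [minusMat]; norm_num
      · simp only [Fin.zero_eta, Fin.mk_one]; rw [h6]; simp [minusMat]
      · simp only [Fin.zero_eta, Fin.mk_one]; rw [polar_comm, h6]; simp [minusMat]
      · simp only [Fin.mk_one]; rw [hpol1]; simp [minusMat]; ring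

end bases

section count

open Cfsg.Agent.S2617

variable {K : Type*} [Field K] [Fintype K] [DecidableEq K]

/-- a hyperbolic form is not isometric to an elliptic one -/
theorem no_ell_of_hyp (m : ℕ) (ζ : K) (hζ : ∀ t : K, t ^ 2 + t + ζ ≠ 0)
    (N : Matrix (Fin (m + 1) ⊕ Fin (m + 1)) (Fin (m + 1) ⊕ Fin (m + 1)) K)
    (hNsim : ∃ h : Matrix (Fin (m + 1) ⊕ Fin (m + 1)) (Fin (m + 1) ⊕ Fin (m + 1)) K, IsUnit h ∧
      ∃ c : K, c ≠ 0 ∧ ∀ v, matQ N v = c * matQ (plusMat (m + 1) K) (h *ᵥ v))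
    (P : Matrix (Fin (m + 1) ⊕ Fin (m + 1)) ((Fin m ⊕ Fin m) ⊕ Fin 2) K)
    (L : Matrix ((Fin m ⊕ Fin m) ⊕ Fin 2) (Fin (m + 1) ⊕ Fin (m + 1)) K) (hPL : P * L = 1)
    (hPv : ∀ c, matQ N (P *ᵥ c) = matQ (minusMat m 1 ζ) c) : False := by
  obtain ⟨h, hu, c, hc0, hh⟩ := hNsim
  obtain ⟨u, rfl⟩ := hu
  have hlt := zM_lt_zP K ζ hζ m
  have hle : zP K (m + 1) ≤ zM K m 1 ζ := by
    unfold zP zM
    apply Finset.card_le_card_of_injOn
      (fun w => L *ᵥ (((u⁻¹ : (Matrix (Fin (m + 1) ⊕ Fin (m + 1))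
        (Fin (m + 1) ⊕ Fin (m + 1)) K)ˣ) : Matrix (Fin (m + 1) ⊕ Fin (m + 1))
        (Fin (m + 1) ⊕ Fin (m + 1)) K) *ᵥ w))
    · intro w hw
      simp only [Finset.coe_filter, Finset.mem_univ, true_and, Set.mem_ofPred_eq] at hw ⊢
      rw [Spinor.quadFormMinus_eq, ← hPv, Matrix.mulVec_mulVec, hPL, Matrix.one_mulVec, hh,
        Matrix.mulVec_mulVec, Units.mul_inv, Matrix.one_mulVec]
      rw [Spinor.quadFormPlus_eq] at hw
      rw [hw, mul_zero]
    · intro w _ w' _ hww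
      simp only at hww
      have e1 : ∀ x : Fin (m + 1) ⊕ Fin (m + 1) → K, P *ᵥ (L *ᵥ x) = x := fun x => by
        rw [Matrix.mulVec_mulVec, hPL, Matrix.one_mulVec]
      have e2 : ∀ x : Fin (m + 1) ⊕ Fin (m + 1) → K,
          (u : Matrix (Fin (m + 1) ⊕ Fin (m + 1)) (Fin (m + 1) ⊕ Fin (m + 1)) K) *ᵥ
          (((u⁻¹ : (Matrix (Fin (m + 1) ⊕ Fin (m + 1))
        (Fin (m + 1) ⊕ Fin (m + 1)) K)ˣ) : Matrix (Fin (m + 1) ⊕ Fin (m + 1))
        (Fin (m + 1) ⊕ Fin (m + 1)) K) *ᵥ x) = x := fun x => by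
        rw [Matrix.mulVec_mulVec, Units.mul_inv, Matrix.one_mulVec]
      have h1 := congrArg (fun v => P *ᵥ v) hww
      simp only [e1] at h1
      have h2 := congrArg (fun v => (u : Matrix (Fin (m + 1) ⊕ Fin (m + 1))
        (Fin (m + 1) ⊕ Fin (m + 1)) K) *ᵥ v) h1
      simp only [e2] at h2
      exact h2
  omega

end count

end Cfsg.Agent.Helper17.OrthFA
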