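import Mathlib
import Cfsg.Agent.Lib.Helper17.OrthFA23

set_option autoImplicit false
set_option linter.unusedSectionVars false
set_option linter.unusedSimpArgs false
set_option linter.unusedVariables false

/-!
# Plus type forms: the descent dichotomy (helper17)
-/

namespace Cfsg.Agent.Helper17.OrthFA

open QuadraticMap Matrix Cfsg.Agent.Helper13 Cfsg.Agent.Helper17.OrthOut Cfsg.Agent.Helper17.Spinor
  Cfsg.Agent.Helper17.ConfAut
open Cfsg.Agent.Helper13.FAut (fixedField mem_fixedField)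

section rect

variable {F : Type*} [Field F] {ι κ μ : Type*} [Fintype ι] [Fintype κ] [Fintype μ]
  [DecidableEq ι] [DecidableEq κ] [DecidableEq μ]

theorem mapσ_mul' (σ : F ≃+* F) (A : Matrix ι κ F) (B : Matrix κ μ F) :
    (A * B).map σ = A.map σ * B.map σ := by
  ext i j
  simp only [Matrix.map_apply, Matrix.mul_apply, map_sum, map_mul]

theorem map_hom_one {K₀ K : Type*} [Field K₀] [Field K] (j : K₀ →+* K) :
    (1 : Matrix ι ι K₀).map j = 1 := by
  ext i k
  simp [Matrix.one_apply, apply_ite]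

end rect

section desc

variable {F : Type*} [Field F] [Fintype F]

/-- **the descent dichotomy for the hyperbolic form** -/
theorem hdesc2_plus (m : ℕ) (σ : F ≃+* F)
    (N : Matrix (Fin (m + 1) ⊕ Fin (m + 1)) (Fin (m + 1) ⊕ Fin (m + 1)) F)
    (hNσ : ∀ v : Fin (m + 1) ⊕ Fin (m + 1) → F, matQ N (fun i => σ (v i)) = σ (matQ N v))
    (hNsim : ∃ h : Matrix (Fin (m + 1) ⊕ Fin (m + 1)) (Fin (m + 1) ⊕ Fin (m + 1)) F, IsUnit h ∧
      ∃ c : F, c ≠ 0 ∧ ∀ v, matQ N v = c * matQ (plusMat (m + 1) F) (h *ᵥ v)) :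
    ∃ k : Matrix (Fin (m + 1) ⊕ Fin (m + 1)) (Fin (m + 1) ⊕ Fin (m + 1)) F,
      (k.map σ = k ∨
        k.map σ = k * Cfsg.reflectionMatrix (⇑(plusQ (m + 1) F)) (wLast m)) ∧ IsUnit k ∧
      ∃ c : F, c ≠ 0 ∧ ∀ v, matQ N (k *ᵥ v) = c * matQ (plusMat (m + 1) F) v := by
  classical
  obtain ⟨j, hj⟩ : ∃ j : fixedField σ →+* F, j = (fixedField σ).subtype := ⟨_, rfl⟩
  have hjσ : ∀ x : fixedField σ, σ (j x) = j x := by
    intro x
    rw [hj]
    exact (mem_fixedField σ _).1 x.2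
  obtain ⟨N', hN'Q, hN'σ⟩ := exists_fixed_matrix σ N hNσ
  obtain ⟨N₀, hN₀⟩ := exists_of_fixed σ hN'σ
  rw [← hj] at hN₀
  have hN₀Q : matQ (N₀.map j) = matQ N := by rw [hN₀, hN'Q]
  have hMnd : (plusMat (m + 1) F + (plusMat (m + 1) F)ᵀ).det ≠ 0 := by
    rw [plusMat_add_transpose, hypBlock_det]
    exact pow_ne_zero _ (neg_ne_zero.2 one_ne_zero)
  have hnd := det_ne_zero_of_sim j _ N hMnd N₀ hN₀Q hNsim
  have hQ := matQ_nondeg N₀ hnd
  have hV : Module.finrank (fixedField σ) (Fin (m + 1) ⊕ Fin (m + 1) → fixedField σ) =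
      2 * (m + 1) := by
    rw [Module.finrank_fintype_fun_eq_card]
    simp only [Fintype.card_sum, Fintype.card_fin]
    ring
  have key : HypBasis (m + 1) N₀ ∨
      (∃ (b : Module.Basis ((Fin m ⊕ Fin m) ⊕ Fin 2) (fixedField σ)
          (Fin (m + 1) ⊕ Fin (m + 1) → fixedField σ)) (ζ : fixedField σ),
        (∀ t : fixedField σ, t ^ 2 + t + ζ ≠ 0) ∧
        (∀ i, matQ N₀ (b (Sum.inl (Sum.inl i))) = 0 ∧ matQ N₀ (b (Sum.inl (Sum.inr i))) = 0) ∧
        (∀ i j, QuadraticMap.polar ⇑(matQ N₀) (b (Sum.inl (Sum.inl i)))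
          (b (Sum.inl (Sum.inr j))) = if i = j then 1 else 0) ∧
        (∀ i j, QuadraticMap.polar ⇑(matQ N₀) (b (Sum.inl (Sum.inl i)))
            (b (Sum.inl (Sum.inl j))) = 0 ∧
          QuadraticMap.polar ⇑(matQ N₀) (b (Sum.inl (Sum.inr i)))
            (b (Sum.inl (Sum.inr j))) = 0) ∧
        (∀ i (k : Fin 2), QuadraticMap.polar ⇑(matQ N₀) (b (Sum.inl (Sum.inl i)))
            (b (Sum.inr k)) = 0 ∧
          QuadraticMap.polar ⇑(matQ N₀) (b (Sum.inl (Sum.inr i))) (b (Sum.inr k)) = 0) ∧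
        matQ N₀ (b (Sum.inr 0)) = 1 ∧
        QuadraticMap.polar ⇑(matQ N₀) (b (Sum.inr 0)) (b (Sum.inr 1)) = 1 ∧
        matQ N₀ (b (Sum.inr 1)) = ζ) :=
    Cfsg.Agent.S2616.result (m := m + 1) (by omega) hV (matQ N₀) hQ
  rcases key with ⟨bs, h1, h2, h3⟩ | ⟨b, ζ, hζ, h1, h2, h3, h4, h5, h6, h7⟩
  · -- hyperbolic over the fixed field
    have hform := form_of_hyp_basis (m + 1) N₀ bs h1 h2 h3
    have hform' := matQ_map_eq j hform
    obtain ⟨k, hk⟩ : ∃ k : Matrix (Fin (m + 1) ⊕ Fin (m + 1)) (Fin (m + 1) ⊕ Fin (m + 1)) F,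
        k = (basisMat bs).map j := ⟨_, rfl⟩
    have e1 : ((basisMat bs)ᵀ * N₀ * basisMat bs).map j = kᵀ * N₀.map j * k := by
      rw [Matrix.map_mul, Matrix.map_mul, Matrix.transpose_map, ← hk]
    rw [e1, plusMat_map] at hform'
    refine ⟨k, Or.inl ?_, ?_, 1, one_ne_zero, fun v => ?_⟩
    · rw [hk]
      ext i l
      exact hjσ _
    · obtain ⟨L₀, hL₀⟩ := basisMat_left_inv bs
      rw [Matrix.isUnit_iff_isUnit_det]
      apply Matrix.isUnit_det_of_left_inverse (B := L₀.map j)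
      rw [hk, ← Matrix.map_mul, hL₀, map_hom_one]
    · rw [one_mul, ← hN₀Q, ← matQ_congr_mul', hform']
  · -- elliptic over the fixed field
    have hform := form_of_ell_basis m N₀ b ζ h1 h2 h3 h4 h5 h6 h7
    have hform' := matQ_map_eq j hform
    obtain ⟨P, hP⟩ : ∃ P : Matrix (Fin (m + 1) ⊕ Fin (m + 1)) ((Fin m ⊕ Fin m) ⊕ Fin 2) F,
        P = (basisMat b).map j := ⟨_, rfl⟩
    have e1 : ((basisMat b)ᵀ * N₀ * basisMat b).map j = Pᵀ * N₀.map j * P := by
      rw [Matrix.map_mul, Matrix.map_mul, Matrix.transpose_map, ← hP]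
    rw [e1, minusMat_map, map_one] at hform'
    have hPv : ∀ c, matQ N (P *ᵥ c) = matQ (minusMat m 1 (j ζ)) c := by
      intro c
      rw [← hN₀Q, ← matQ_congr_mul', hform']
    obtain ⟨L₀, hL₀⟩ := basisMat_left_inv b
    obtain ⟨L, hL⟩ : ∃ L : Matrix ((Fin m ⊕ Fin m) ⊕ Fin 2) (Fin (m + 1) ⊕ Fin (m + 1)) F,
        L = L₀.map j := ⟨_, rfl⟩
    have hLP : L * P = 1 := by
      rw [hL, hP, ← Matrix.map_mul, hL₀, map_hom_one]
    have hPL : P * L = 1 := by
      have e : (Fin m ⊕ Fin m) ⊕ Fin 2 ≃ Fin (m + 1) ⊕ Fin (m + 1) :=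
        Fintype.equivOfCardEq (by
          simp only [Fintype.card_sum, Fintype.card_fin]
          ring)
      exact (Matrix.mul_eq_one_comm_of_equiv e).1 hLP
    -- a root of the binary part
    obtain ⟨ω, hω⟩ : ∃ ω : F, ω ^ 2 + ω + j ζ = 0 := by
      by_contra hno
      push Not at hno
      exact no_ell_of_hyp m (j ζ) hno N hNsim P L hPL hPv
    obtain ⟨ω', hω'⟩ : ∃ ω' : F, ω' = -1 - ω := ⟨_, rfl⟩
    have hσne : σ ω ≠ ω := by
      intro h
      apply hζ ⟨ω, (mem_fixedField σ _).2 h⟩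
      apply j.injective
      rw [map_add, map_add, map_pow, map_zero]
      have : j ⟨ω, (mem_fixedField σ _).2 h⟩ = ω := by
        rw [hj]
        rfl
      rw [this]
      exact hω
    have hσω : σ ω = ω' := by
      have h1 : (σ ω) ^ 2 + σ ω + j ζ = 0 := by
        rw [← hjσ ζ, ← map_pow, ← map_add, ← map_add, hω, map_zero]
      have h2 : (σ ω - ω) * (σ ω - ω') = 0 := by
        rw [hω']
        linear_combination h1 - hω
      rcases mul_eq_zero.1 h2 with h | h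
      · exact absurd (sub_eq_zero.1 h) hσne
      · exact sub_eq_zero.1 h
    have hσω' : σ ω' = ω := by
      rw [hω', map_sub, map_neg, map_one, hσω, hω']
      ring
    have hne : ω ≠ ω' := by
      intro h
      apply hσne
      rw [hσω, ← h]
    have hsum : ω + ω' = -1 := by
      rw [hω']
      ring
    have hprod : ω * ω' = j ζ := by
      rw [hω']
      linear_combination -hω
    have hS : ∀ c, matQ (plusMat (m + 1) F) (minusTM m ω ω' *ᵥ c) =
        matQ (minusMat m 1 (j ζ)) c := by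
      intro c
      rw [minusTM_mulVec]
      exact plusQ_minusT (m := m) (t := ω) (t' := ω') 1 (j ζ) hsum hprod c
    obtain ⟨ρ, hρ⟩ : ∃ ρ : Matrix (Fin (m + 1) ⊕ Fin (m + 1)) (Fin (m + 1) ⊕ Fin (m + 1)) F,
        ρ = Cfsg.reflectionMatrix (⇑(plusQ (m + 1) F)) (wLast m) := ⟨_, rfl⟩
    have hρρ : ρ * ρ = 1 := by
      rw [hρ]
      exact reflectionMatrix_mul_self' _ (plusQ_wLast_ne m)
    obtain ⟨S, hSd⟩ : ∃ S : Matrix (Fin (m + 1) ⊕ Fin (m + 1)) ((Fin m ⊕ Fin m) ⊕ Fin 2) F,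
        S = minusTM m ω ω' := ⟨_, rfl⟩
    obtain ⟨Si, hSi⟩ : ∃ Si : Matrix ((Fin m ⊕ Fin m) ⊕ Fin 2) (Fin (m + 1) ⊕ Fin (m + 1)) F,
        Si = minusTMinv m ω ω' hne := ⟨_, rfl⟩
    have hSSi : S * Si = 1 := by
      rw [hSd, hSi]
      exact minusTM_mul_inv m ω ω' hne
    have hSiS : Si * S = 1 := by
      rw [hSd, hSi]
      exact minusTMinv_mul m ω ω' hne
    have hPσ : P.map σ = P := by
      rw [hP]
      ext i l
      exact hjσ _
    have hSσ : S.map σ = ρ * S := by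
      rw [hSd, hρ, reflectionMatrix_mul_minusTM]
      have := minusTM_map m (σ : F →+* F) ω ω'
      rw [show (σ : F →+* F) ω = ω' from hσω, show (σ : F →+* F) ω' = ω from hσω'] at this
      exact this
    have hSiσ : Si.map σ = Si * ρ := by
      have h1 : Si.map σ * S.map σ = 1 := by
        rw [← mapσ_mul', hSiS]
        exact mapσ_one σ
      rw [hSσ, ← Matrix.mul_assoc] at h1
      have h2 : Si.map σ * ρ = Si := by
        calc Si.map σ * ρ = (Si.map σ * ρ) * (S * Si) := by rw [hSSi, Matrix.mul_one]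
          _ = ((Si.map σ * ρ) * S) * Si := by simp only [Matrix.mul_assoc]
          _ = Si := by rw [h1, Matrix.one_mul]
      calc Si.map σ = Si.map σ * (ρ * ρ) := by rw [hρρ, Matrix.mul_one]
        _ = (Si.map σ * ρ) * ρ := by rw [Matrix.mul_assoc]
        _ = Si * ρ := by rw [h2]
    refine ⟨P * Si, Or.inr ?_, ?_, 1, one_ne_zero, fun v => ?_⟩
    · rw [mapσ_mul', hPσ, hSiσ, Matrix.mul_assoc, hρ]
    · rw [Matrix.isUnit_iff_isUnit_det]
      apply Matrix.isUnit_det_of_left_inverse (B := S * L)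
      calc S * L * (P * Si) = S * (L * P) * Si := by
            simp only [Matrix.mul_assoc]
        _ = 1 := by rw [hLP, Matrix.mul_one, hSSi]
    · rw [one_mul, ← Matrix.mulVec_mulVec, hPv, ← hS, ← hSd, Matrix.mulVec_mulVec, hSSi,
        Matrix.one_mulVec]

end desc

end Cfsg.Agent.Helper17.OrthFA
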