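import Mathlib
import Cfsg.Agent.Lib.Helper17.OrthFA24

set_option autoImplicit false
set_option linter.unusedSectionVars false
set_option linter.unusedSimpArgs false
set_option linter.unusedVariables false

/-!
# The class-preserving group has index two in the image of the similarity group (helper17)
-/

namespace Cfsg.Agent.Helper17.OrthFA

open QuadraticMap Matrix Module Cfsg.Agent.Helper13 Cfsg.Agent.Helper17.OrthOut
  Cfsg.Agent.Helper17.Spinor Cfsg.Agent.Helper17.ConfAut Cfsg.Agent.Helper2.Orth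

section odd

variable {F : Type*} [Field F] [Fintype F] {ι : Type} [Fintype ι] [DecidableEq ι]
  {Q : QuadraticForm F (ι → F)} {n : ℕ} {i₁ j₁ i₂ j₂ : ι}

/-- a similarity outside the class group has determinant `-μ^n` -/
theorem det_eq_neg_of_notMem (hQ : (polarBilin Q).Nondegenerate)
    (hcard : Fintype.card ι = 2 * n) {g : GL ι F} {c : F} (hc0 : c ≠ 0) (hc : IsMult Q g c)
    (hd : (g : Matrix ι ι F).det ≠ c ^ n) : (g : Matrix ι ι F).det = -c ^ n := by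
  have hsq := hc.det_sq hQ
  rw [hcard, pow_mul'] at hsq
  have h5 : ((g : Matrix ι ι F).det - c ^ n) * ((g : Matrix ι ι F).det + c ^ n) = 0 := by
    linear_combination hsq
  rcases mul_eq_zero.1 h5 with h6 | h6
  · exact absurd (sub_eq_zero.1 h6) hd
  · exact eq_neg_of_add_eq_zero_left h6

theorem PD_hidx (h2 : (2 : F) ≠ 0) (hQ : (polarBilin Q).Nondegenerate)
    (h : TwoHyp Q i₁ j₁ i₂ j₂) (hcard : Fintype.card ι = 2 * n) :
    ∀ a ∈ PG Q, ∀ b ∈ PG Q, a ∉ PD Q n → b ∉ PD Q n → a * b ∈ PD Q n := by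
  rintro _ ⟨g₁, rfl⟩ _ ⟨g₂, rfl⟩ ha hb
  have hv := exists_Q_ne_zero h2 hQ h
  rw [Phi_mem_PD_iff h2 hQ h hcard] at ha hb
  rw [← map_mul, Phi_mem_PD_iff h2 hQ h hcard]
  obtain ⟨c₁, hc₁0, hc₁⟩ := exists_isMult g₁
  obtain ⟨c₂, hc₂0, hc₂⟩ := exists_isMult g₂
  rw [mem_dClassGO_iff hv hc₁0 hc₁] at ha
  rw [mem_dClassGO_iff hv hc₂0 hc₂] at hb
  have hd₁ := det_eq_neg_of_notMem hQ hcard hc₁0 hc₁ ha
  have hd₂ := det_eq_neg_of_notMem hQ hcard hc₂0 hc₂ hb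
  have hmul : IsMult Q ((g₁ * g₂ : ↥(GO (⇑Q))) : GL ι F) (c₁ * c₂) := hc₁.mul hc₂
  rw [mem_dClassGO_iff hv (mul_ne_zero hc₁0 hc₂0) hmul]
  show (((g₁ : GL ι F) * (g₂ : GL ι F) : GL ι F) : Matrix ι ι F).det = _
  rw [Units.val_mul, Matrix.det_mul, hd₁, hd₂]
  ring

theorem Phi_tG_notMem_PD (h2 : (2 : F) ≠ 0) (hQ : (polarBilin Q).Nondegenerate)
    (h : TwoHyp Q i₁ j₁ i₂ j₂) (hcard : Fintype.card ι = 2 * n) {v : ι → F} (hv : Q v ≠ 0) :
    Phi (⇑Q) (iO Q (tG Q v)) ∉ PD Q n := by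
  rw [Phi_mem_PD_iff h2 hQ h hcard]
  have hv' := exists_Q_ne_zero h2 hQ h
  have ht1 : IsMult Q ((tG Q v : ↥(Cfsg.isometryGroup F (⇑Q))) : GL ι F) 1 :=
    isMult_one_iff.2 (tG Q v).2
  intro hmem
  have hdet := (mem_dClassGO_iff hv' one_ne_zero ht1).1 hmem
  rw [tG_coe _ hv, det_reflectionMatrix _ hv, one_pow] at hdet
  apply h2
  linear_combination -hdet

end odd

section two

variable {F : Type*} [Field F] [Fintype F] [CharP F 2] {ι : Type} [Fintype ι] [DecidableEq ι]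
  {Q : QuadraticForm F (ι → F)}

theorem inn_hidx (G : Good Q) :
    ∀ a ∈ PG Q, ∀ b ∈ PG Q, a ∉ Cfsg.Inn (Cfsg.POmega F (⇑Q)) →
      b ∉ Cfsg.Inn (Cfsg.POmega F (⇑Q)) → a * b ∈ Cfsg.Inn (Cfsg.POmega F (⇑Q)) := by
  intro a ha b hb ha' hb'
  rw [mul_mem_iff_of_relIndex_two G.relIndex_inn_PG_two ha hb]
  exact ⟨fun h => absurd h ha', fun h => absurd h hb'⟩

theorem Phi_mem_inn_of_mem_Omega (o' : ↥(Cfsg.isometryGroup F (⇑Q)))
    (ho' : o' ∈ Cfsg.Omega F (⇑Q)) :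
    Phi (⇑Q) (iO Q o') ∈ Cfsg.Inn (Cfsg.POmega F (⇑Q)) := by
  rw [inn_eq]
  refine ⟨iO Q o', Subgroup.mem_subgroupOf.2 ?_, rfl⟩
  unfold Cfsg.Geo.omegaGL
  exact ⟨o', ho', rfl⟩

theorem tG_notMem_Omega (G : Good Q) {v : ι → F} (hv : Q v ≠ 0) :
    tG Q v ∉ Cfsg.Omega F (⇑Q) := by
  intro ht
  have h5 := (prod_tG_mem_commutator_iff Q G.nondeg G.hex [v] (by
    intro w hw
    rw [List.mem_singleton] at hw
    rw [hw]
    exact hv)).1 (by simpa using ht)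
  simp at h5

theorem Phi_tG_notMem_inn (G : Good Q) {v : ι → F} (hv : Q v ≠ 0) :
    Phi (⇑Q) (iO Q (tG Q v)) ∉ Cfsg.Inn (Cfsg.POmega F (⇑Q)) := by
  intro hmem
  have hidx := index_Omega_char_two Q G.nondeg G.hex hv
  have htn := tG_notMem_Omega G hv
  have hall : PG Q ≤ Cfsg.Inn (Cfsg.POmega F (⇑Q)) := by
    rintro _ ⟨k, rfl⟩
    obtain ⟨o, ho⟩ := exists_isometry_of_GO_two k
    rw [ho]
    by_cases hoΩ : o ∈ Cfsg.Omega F (⇑Q)
    · exact Phi_mem_inn_of_mem_Omega o hoΩ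
    · have h1 : o * tG Q v ∈ Cfsg.Omega F (⇑Q) := by
        rw [Subgroup.mul_mem_iff_of_index_two hidx]
        exact ⟨fun h => absurd h hoΩ, fun h => absurd h htn⟩
      have h2 := Phi_mem_inn_of_mem_Omega _ h1
      rw [map_mul, map_mul] at h2
      exact (Subgroup.mul_mem_cancel_right _ hmem).1 h2
  have hrel := G.relIndex_inn_PG_two
  have h1 : (Cfsg.Inn (Cfsg.POmega F (⇑Q))).relIndex (PG Q) = 1 :=
    Subgroup.relIndex_eq_one.2 hall
  omega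

end two

end Cfsg.Agent.Helper17.OrthFA
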