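import Mathlib
import Cfsg.Agent.Lib.Helper17.OrthFA25

set_option autoImplicit false
set_option linter.unusedSectionVars false
set_option linter.unusedSimpArgs false
set_option linter.unusedVariables false

/-!
# Plus type in characteristic two: the inner-diagonal group is the inner group (helper17)
-/

namespace Cfsg.Agent.Helper17.OrthFA

open QuadraticMap Matrix Module Cfsg.Agent.Helper13 Cfsg.Agent.Helper17.OrthOut
  Cfsg.Agent.Helper17.Spinor Cfsg.Agent.Helper17.ConfAut Cfsg.Agent.Helper2.Orth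

section parity

variable {K : Type*} [Field K] (n : ℕ)

/-- a product of reflections preserves the two classes iff its length is even -/
theorem preserves_prod_refl_plus_iff (vs : List (Fin n ⊕ Fin n → K))
    (hvs : ∀ v ∈ vs, plusQ n K v ≠ 0) (g : Matrix (Fin n ⊕ Fin n) (Fin n ⊕ Fin n) K)
    (hg : Matrix.toLin' g = (vs.map (refl (plusQ n K))).prod) :
    Cfsg.PreservesSingularClasses (⇑(plusQ n K)) g ↔ Even vs.length := by
  have hV : finrank K (Fin n ⊕ Fin n → K) = 2 * n := finrank_plus_space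
  have hmax : ∀ U : Submodule K (Fin n ⊕ Fin n → K),
      Cfsg.IsMaxTotallySingular (⇑(plusQ n K)) U →
      (Cfsg.SameParityClass U (Cfsg.imageSubmodule g U) ↔ Even vs.length) := by
    intro U hU
    rw [isMaxTotallySingular_iff] at hU
    have hpar := (finrank_inf_map_prod_refl_add_length (plusQ n K) plusQ_nondeg hU.1
      (by rw [hU.2, hV]) vs hvs).2
    have himg : Cfsg.imageSubmodule g U = U.map (vs.map (refl (plusQ n K))).prod := by
      unfold Cfsg.imageSubmodule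
      rw [hg]
    unfold Cfsg.SameParityClass
    rw [himg]
    have hle : finrank K ↥(U ⊓ U.map (vs.map (refl (plusQ n K))).prod) ≤ finrank K ↥U :=
      Submodule.finrank_mono inf_le_left
    rw [Nat.even_iff, Nat.even_iff]
    omega
  constructor
  · intro h
    have hU₀ : Cfsg.IsMaxTotallySingular (⇑(plusQ n K)) (plusU n K) :=
      (isMaxTotallySingular_iff _).2 ⟨isTS_plusU, finrank_plusU⟩
    exact (hmax _ hU₀).1 (h _ hU₀)
  · intro h U hU
    exact (hmax U hU).2 h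

end parity

section char2

variable {F : Type*} [Field F] [Fintype F] [CharP F 2] (n : ℕ)

/-- in characteristic two an isometry of the hyperbolic form preserves the two classes iff it
lies in `Ω` -/
theorem pres_iff_mem_Omega_plus
    (hex : Fintype.card F ≠ 2 ∨ Fintype.card (Fin n ⊕ Fin n) ≠ 4)
    (o : ↥(Cfsg.isometryGroup F (⇑(plusQ n F)))) :
    Cfsg.PreservesSingularClasses (⇑(plusQ n F))
        (((o : GL (Fin n ⊕ Fin n) F)) : Matrix (Fin n ⊕ Fin n) (Fin n ⊕ Fin n) F) ↔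
      o ∈ Cfsg.Omega F (⇑(plusQ n F)) := by
  have hQ := plusQ_nondeg (F := F) (m := n)
  obtain ⟨vs, hvs, rfl⟩ := exists_prod_tG (plusQ n F) hQ hex o
  have hiff := prod_tG_mem_commutator_iff (plusQ n F) hQ hex vs hvs
  rw [hiff]
  exact preserves_prod_refl_plus_iff n vs hvs _ (toEnd_prod_tG (plusQ n F) vs hvs)

/-- **in characteristic two the inner-diagonal group of the plus type is the group of inner
automorphisms** -/
theorem inndiag_plus_eq_two
    (hex : Fintype.card F ≠ 2 ∨ Fintype.card (Fin n ⊕ Fin n) ≠ 4) :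
    Cfsg.autSubgroupOf (fun β : Cfsg.POmega F (⇑(plusQ n F)) ≃*
        Cfsg.POmega F (⇑(plusQ n F)) =>
      ∃ g : GL (Fin n ⊕ Fin n) F,
        g ∈ Cfsg.Geo.quadSimilarityGroup (F := F) (⇑(plusQ n F)) ∧
        Cfsg.PreservesSingularClasses (⇑(plusQ n F))
          (g : Matrix (Fin n ⊕ Fin n) (Fin n ⊕ Fin n) F) ∧
        Cfsg.IsInducedBySemilinearPOmega (⇑(plusQ n F)) g (RingEquiv.refl F) β)
      = Cfsg.Inn (Cfsg.POmega F (⇑(plusQ n F))) := by
  rw [inn_eq, ← autSubgroupOf_eq_map (⇑(plusQ n F)) (Cfsg.Geo.omegaGL (⇑(plusQ n F)))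
    (omegaGL_le_GO _)]
  congr 1
  funext β
  apply propext
  constructor
  · rintro ⟨g, hg, hpres, hind⟩
    obtain ⟨c, hc⟩ := hg
    obtain ⟨s, hs⟩ := isSquare_of_charTwo' (c : F)
    have hs0 : s ≠ 0 := by
      rintro rfl
      rw [mul_zero] at hs
      exact c.ne_zero hs
    set u : Fˣ := Units.mk0 s hs0 with hu
    have h1 : IsMult (plusQ n F) ((scalarGL u⁻¹ : GL _ F) * g) 1 := by
      have := (isMult_scalarGL (Q := plusQ n F) u⁻¹).mul hc
      have e1 : ((u⁻¹ : Fˣ) : F) ^ 2 * c = 1 := by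
        rw [Units.val_inv_eq_inv_val, hu, Units.val_mk0, hs]
        field_simp
      rwa [e1] at this
    have ho : (scalarGL u⁻¹ : GL _ F) * g ∈ Cfsg.isometryGroup F (⇑(plusQ n F)) :=
      isMult_one_iff.1 h1
    obtain ⟨o, hoe⟩ : ∃ o : ↥(Cfsg.isometryGroup F (⇑(plusQ n F))),
        (o : GL (Fin n ⊕ Fin n) F) = (scalarGL u⁻¹ : GL _ F) * g := ⟨⟨_, ho⟩, rfl⟩
    have hpres' : Cfsg.PreservesSingularClasses (⇑(plusQ n F))
        ((o : GL (Fin n ⊕ Fin n) F) : Matrix (Fin n ⊕ Fin n) (Fin n ⊕ Fin n) F) := by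
      have e : ((o : GL (Fin n ⊕ Fin n) F) : Matrix (Fin n ⊕ Fin n) (Fin n ⊕ Fin n) F) =
          ((u⁻¹ : Fˣ) : F) • (g : Matrix (Fin n ⊕ Fin n) (Fin n ⊕ Fin n) F) := by
        rw [hoe, Units.val_mul, scalarGL_coe, Matrix.smul_mul, Matrix.one_mul]
      rw [e, preservesSingularClasses_smul _ _ (Units.ne_zero _)]
      exact hpres
    have hΩ := (pres_iff_mem_Omega_plus n hex o).1 hpres'
    refine ⟨(scalarGL u⁻¹ : GL _ F) * g, ⟨o, hΩ, hoe⟩, ?_⟩
    have hgGO : g ∈ GO (⇑(plusQ n F)) := ⟨c, hc⟩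
    have hβ := (isInduced_iff (⇑(plusQ n F)) hgGO β).1 hind
    have hmem : (scalarGL u⁻¹ : GL _ F) * g ∈ GO (⇑(plusQ n F)) :=
      (GO (⇑(plusQ n F))).mul_mem (scalarGL_mem_GO u⁻¹) hgGO
    rw [isInduced_iff (⇑(plusQ n F)) hmem, hβ]
    have h2 : (⟨(scalarGL u⁻¹ : GL _ F) * g, hmem⟩ : ↥(GO (⇑(plusQ n F)))) =
        (⟨scalarGL u⁻¹, scalarGL_mem_GO u⁻¹⟩ : ↥(GO (⇑(plusQ n F)))) * ⟨g, hgGO⟩ := rfl
    rw [h2, map_mul, Phi_of_scalar (⟨scalarGL u⁻¹, scalarGL_mem_GO u⁻¹⟩ :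
      ↥(GO (⇑(plusQ n F)))) (scalarGL_mem u⁻¹), one_mul]
  · rintro ⟨g, hg, hind⟩
    unfold Cfsg.Geo.omegaGL at hg
    obtain ⟨o, ho, rfl⟩ := hg
    refine ⟨_, isometryGroup_le_GO _ o.2, ?_, hind⟩
    exact (pres_iff_mem_Omega_plus n hex o).2 ho

end char2

end Cfsg.Agent.Helper17.OrthFA
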