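import Mathlib
import Cfsg.Agent.Lib.Helper17.OrthFA26
import Cfsg.Agent.Lib.Helper17.OrthAut28

set_option autoImplicit false
set_option linter.unusedSectionVars false
set_option linter.unusedSimpArgs false
set_option linter.unusedVariables false

/-!
# Field and graph-field automorphisms of the plus type orthogonal groups: the coset theorem
(helper17)
-/

namespace Cfsg.Agent.Helper17.OrthFA

open QuadraticMap Matrix Module Cfsg.Agent.Helper13 Cfsg.Agent.Helper17.OrthOut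
  Cfsg.Agent.Helper17.Spinor Cfsg.Agent.Helper17.ConfAut Cfsg.Agent.Helper2.Orth
  Cfsg.Agent.Helper17.OrthAut

universe u

section plus

variable {F : Type u} [Field F] [Fintype F]

theorem card_plusIdx (n : ℕ) : Fintype.card (Fin n ⊕ Fin n) = 2 * n := by
  simp only [Fintype.card_sum, Fintype.card_fin]
  ring

theorem good_plus (k : ℕ) : Good (plusQ (k + 4 + 1) F) where
  nondeg := plusQ_nondeg
  hex := by
    right
    rw [card_plusIdx]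
    omega
  frame := ⟨_, _, hypFrame_plus (F := F) (k + 2)⟩
  hmax := noBigMax_of_even plusQ_nondeg (m := k + 4 + 1) (by omega) (card_plusIdx _)

theorem wLast_fixed (σ : F ≃+* F) (m : ℕ) (i : Fin (m + 1) ⊕ Fin (m + 1)) :
    σ ((wLast m : Fin (m + 1) ⊕ Fin (m + 1) → F) i) = wLast m i := by
  rcases i with i | i
  · rw [wLast_inl]
    split_ifs <;> simp
  · rw [wLast_inr]
    split_ifs <;> simp

/-- the inner-diagonal group of the plus type, for the form as a `QuadraticForm` -/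
noncomputable def Dp (n : ℕ) : Subgroup (MulAut (Cfsg.POmega F (⇑(plusQ n F)))) :=
  Cfsg.autSubgroupOf (fun β : Cfsg.POmega F (⇑(plusQ n F)) ≃* Cfsg.POmega F (⇑(plusQ n F)) =>
    ∃ g : GL (Fin n ⊕ Fin n) F,
      g ∈ Cfsg.Geo.quadSimilarityGroup (F := F) (⇑(plusQ n F)) ∧
      Cfsg.PreservesSingularClasses (⇑(plusQ n F))
        (g : Matrix (Fin n ⊕ Fin n) (Fin n ⊕ Fin n) F) ∧
      Cfsg.IsInducedBySemilinearPOmega (⇑(plusQ n F)) g (RingEquiv.refl F) β)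

theorem Dp_eq_odd (h2 : (2 : F) ≠ 0) (n : ℕ) (hn : 1 ≤ n) :
    (Dp n : Subgroup (MulAut (Cfsg.POmega F (⇑(plusQ n F))))) = PD (plusQ n F) n := by
  unfold Dp
  rw [inndiag_eq h2 hn]
  rfl

/-- the properties of the inner-diagonal group used in the coset theorem -/
theorem plus_package (k : ℕ) (G : Good (plusQ (k + 4 + 1) F)) :
    (Dp (k + 4 + 1) : Subgroup (MulAut (Cfsg.POmega F (⇑(plusQ (k + 4 + 1) F))))).Normal ∧
    (Dp (k + 4 + 1) : Subgroup (MulAut (Cfsg.POmega F (⇑(plusQ (k + 4 + 1) F))))) ≤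
      G.fieldHom.ker ∧
    (∀ a ∈ G.fieldHom.ker, ∀ b ∈ G.fieldHom.ker, a ∉ Dp (k + 4 + 1) → b ∉ Dp (k + 4 + 1) →
      a * b ∈ Dp (k + 4 + 1)) ∧
    (∀ v : Fin (k + 4 + 1) ⊕ Fin (k + 4 + 1) → F, plusQ (k + 4 + 1) F v ≠ 0 →
      Phi (⇑(plusQ (k + 4 + 1) F)) (iO (plusQ (k + 4 + 1) F) (tG (plusQ (k + 4 + 1) F) v)) ∉
        Dp (k + 4 + 1)) ∧
    (∀ (σ : F ≃+* F)
      (h1 : Cfsg.IsSemisimilarityPair (⇑(plusQ (k + 4 + 1) F))
        (1 : GL (Fin (k + 4 + 1) ⊕ Fin (k + 4 + 1)) F) σ),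
      ∀ η ∈ G.fieldHom.ker, ∃ ζ : MulAut (Cfsg.POmega F (⇑(plusQ (k + 4 + 1) F))),
        ζ * stdAut h1 = stdAut h1 * ζ ∧ η * ζ ∈ Dp (k + 4 + 1)) := by
  classical
  have hcard : Fintype.card (Fin (k + 4 + 1) ⊕ Fin (k + 4 + 1)) = 2 * (k + 4 + 1) :=
    card_plusIdx _
  have hMσ : ∀ σ : F ≃+* F, (plusMat (k + 4 + 1) F).map σ = plusMat (k + 4 + 1) F :=
    fun σ => plusMat_map (σ : F →+* F) (k + 4 + 1)
  have hw := plusQ_wLast_ne (K := F) (k + 4)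
  by_cases h2 : (2 : F) = 0
  · haveI := charP_two_of_two_eq_zero h2
    have hD : (Dp (k + 4 + 1) : Subgroup (MulAut (Cfsg.POmega F (⇑(plusQ (k + 4 + 1) F))))) =
        Cfsg.Inn (Cfsg.POmega F (⇑(plusQ (k + 4 + 1) F))) :=
      inndiag_plus_eq_two (k + 4 + 1) G.hex
    rw [hD]
    refine ⟨inn_normal _, G.inn_le_ker, ?_, fun v hv => Phi_tG_notMem_inn G hv, ?_⟩
    · rw [G.ker_fieldHom]
      exact inn_hidx G
    · intro σ h1
      exact exists_commuting_two G (hMσ σ) h1 (wLast (k + 4)) (wLast_fixed σ (k + 4)) hw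
  · have hD : (Dp (k + 4 + 1) : Subgroup (MulAut (Cfsg.POmega F (⇑(plusQ (k + 4 + 1) F))))) =
        PD (plusQ (k + 4 + 1) F) (k + 4 + 1) := Dp_eq_odd h2 _ (by omega)
    rw [hD]
    have hT := twoHyp_plus (F := F) (k + 3)
    refine ⟨PD_normal G _, ?_, ?_, fun v hv => Phi_tG_notMem_PD h2 G.nondeg hT hcard hv, ?_⟩
    · rw [G.ker_fieldHom]
      exact PD_le_PG
    · rw [G.ker_fieldHom]
      exact PD_hidx h2 G.nondeg hT hcard
    · intro σ h1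
      exact exists_commuting_odd G (hMσ σ) h1 (k + 4 + 1) hcard (wLast (k + 4))
        (wLast_fixed σ (k + 4)) hw

/-- **the coset theorem for the plus type** -/
theorem plus_core (k : ℕ) (x δ : MulAut (Cfsg.POmega F (⇑(plusQ (k + 4 + 1) F))))
    (hx : Cfsg.IsFieldAutClassPOmega (⇑(plusQ (k + 4 + 1) F)) x ∨
      ∃ (α γ φ : MulAut (Cfsg.POmega F (⇑(plusQ (k + 4 + 1) F)))) (σ : F ≃+* F)
        (v : Fin (k + 4 + 1) ⊕ Fin (k + 4 + 1) → F)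
        (rr : GL (Fin (k + 4 + 1) ⊕ Fin (k + 4 + 1)) F),
        σ ≠ RingEquiv.refl F ∧ (⇑(plusQ (k + 4 + 1) F)) v ≠ 0 ∧ (∀ i, σ (v i) = v i) ∧
        (rr : Matrix (Fin (k + 4 + 1) ⊕ Fin (k + 4 + 1)) (Fin (k + 4 + 1) ⊕ Fin (k + 4 + 1)) F) =
          Cfsg.reflectionMatrix (⇑(plusQ (k + 4 + 1) F)) v ∧
        Cfsg.IsInducedBySemilinearPOmega (⇑(plusQ (k + 4 + 1) F)) rr (RingEquiv.refl F) γ ∧
        Cfsg.IsFieldAutPOmegaOf (⇑(plusQ (k + 4 + 1) F)) σ φ ∧ α * x * α⁻¹ = γ * φ)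
    {r : ℕ} (hr : r.Prime) (hxr : orderOf x = r) (hδ : δ ∈ Dp (k + 4 + 1)) :
    orderOf (δ * x) = r ↔ Cfsg.IsConjUnder (Dp (k + 4 + 1)) x (δ * x) := by
  classical
  have G := good_plus (F := F) k
  obtain ⟨hDn, hDle, hidx, hnot, hcomm⟩ := plus_package k G
  have hMσ : ∀ σ : F ≃+* F, (plusMat (k + 4 + 1) F).map σ = plusMat (k + 4 + 1) F :=
    fun σ => plusMat_map (σ : F →+* F) (k + 4 + 1)
  have hw := plusQ_wLast_ne (K := F) (k + 4)
  obtain ⟨ρ, hρdef⟩ : ∃ ρ : GL (Fin (k + 4 + 1) ⊕ Fin (k + 4 + 1)) F,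
      ρ = ((tG (plusQ (k + 4 + 1) F) (wLast (k + 4)) :
        ↥(Cfsg.isometryGroup F (⇑(plusQ (k + 4 + 1) F)))) :
        GL (Fin (k + 4 + 1) ⊕ Fin (k + 4 + 1)) F) := ⟨_, rfl⟩
  have hρcoe : (ρ : Matrix (Fin (k + 4 + 1) ⊕ Fin (k + 4 + 1))
      (Fin (k + 4 + 1) ⊕ Fin (k + 4 + 1)) F) =
      Cfsg.reflectionMatrix (⇑(plusQ (k + 4 + 1) F)) (wLast (k + 4)) := by
    rw [hρdef]
    exact tG_coe _ hw
  have hρr : Cfsg.IsSemisimilarityPair (⇑(plusQ (k + 4 + 1) F)) ρ (RingEquiv.refl F) := by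
    rw [hρdef]
    exact isSemisim_of_mem_isometry (tG (plusQ (k + 4 + 1) F) (wLast (k + 4))).2
  have hρΦ : stdAut hρr = Phi (⇑(plusQ (k + 4 + 1) F))
      (iO (plusQ (k + 4 + 1) F) (tG (plusQ (k + 4 + 1) F) (wLast (k + 4)))) := by
    rw [stdAut_refl_eq_Phi]
    congr 1
    apply Subtype.ext
    exact hρdef
  have hρD : stdAut hρr ∉ Dp (k + 4 + 1) := by
    rw [hρΦ]
    exact hnot _ hw
  -- the common part for a given `σ`
  have main : ∀ (σ : F ≃+* F) (hσ1 : σ ≠ RingEquiv.refl F)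
      (h1 : Cfsg.IsSemisimilarityPair (⇑(plusQ (k + 4 + 1) F))
        (1 : GL (Fin (k + 4 + 1) ⊕ Fin (k + 4 + 1)) F) σ)
      (Γ : MulAut (Cfsg.POmega F (⇑(plusQ (k + 4 + 1) F)))) (hΓ : Γ ∈ G.fieldHom.ker)
      (hΓc : Γ = 1 ∨ Γ ∉ Dp (k + 4 + 1))
      (hΓcomm : Γ * stdAut h1 = stdAut h1 * Γ)
      (α : MulAut (Cfsg.POmega F (⇑(plusQ (k + 4 + 1) F))))
      (hαx : α * x * α⁻¹ = Γ * stdAut h1),
      orderOf (δ * x) = r ↔ Cfsg.IsConjUnder (Dp (k + 4 + 1)) x (δ * x) := by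
    intro σ hσ1 h1 Γ hΓ hΓc hΓcomm α hαx
    have hρ : Cfsg.IsSemisimilarityPair (⇑(plusQ (k + 4 + 1) F)) ρ σ := by
      obtain ⟨h', -⟩ := stdAut_mul_refl hρr h1
      rwa [mul_one] at h'
    have hS : orderOf σ = r → SigHypQ2 (plusMat (k + 4 + 1) F) σ r ρ := fun hσr =>
      ⟨hr.pos, hσr, fun N hNσ hNsim => by
        rw [hρcoe]
        exact hdesc2_plus (k + 4) σ N hNσ hNsim⟩
    refine coset_conj2 G hr hσ1 hS (Dp (k + 4 + 1)) hDle hidx h1 hρ hρr hρD Γ hΓ hΓc ?_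
      x δ α hαx hxr hδ
    intro η hη
    rcases hΓc with hΓ1 | hΓn
    · obtain ⟨ζ, hζ, hηζ⟩ := hcomm σ h1 η hη
      refine ⟨ζ, ?_, hηζ⟩
      rw [hΓ1, one_mul]
      exact hζ
    · by_cases hηD : η ∈ Dp (k + 4 + 1)
      · exact ⟨1, by rw [one_mul, mul_one], by rwa [mul_one]⟩
      · refine ⟨Γ, ?_, hidx η hη Γ hΓ hηD hΓn⟩
        rw [mul_assoc, ← hΓcomm]
  rcases hx with ⟨α, φ, σ, hσ1, hφ, hαx⟩ | ⟨α, γ, φ, σ, v, rr, hσ1, hv, hvσ, hrr, hγ, hφ, hαx⟩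
  · have h1 := isSemisim_fixed (hMσ σ)
    have hφ' := fieldAut_eq_stdAut h1 hφ
    apply main σ hσ1 h1 1 (Subgroup.one_mem _) (Or.inl rfl) (by rw [one_mul, mul_one]) α
    rw [one_mul]
    exact hαx.trans hφ'
  · have h1 := isSemisim_fixed (hMσ σ)
    have hφ' := fieldAut_eq_stdAut h1 hφ
    have hrr' : rr = ((tG (plusQ (k + 4 + 1) F) v :
        ↥(Cfsg.isometryGroup F (⇑(plusQ (k + 4 + 1) F)))) :
        GL (Fin (k + 4 + 1) ⊕ Fin (k + 4 + 1)) F) := by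
      apply Units.ext
      rw [hrr]
      exact (tG_coe _ hv).symm
    have hgGO : rr ∈ GO (⇑(plusQ (k + 4 + 1) F)) := by
      rw [hrr']
      exact isometryGroup_le_GO _ (tG (plusQ (k + 4 + 1) F) v).2
    have hγ' : γ = Phi (⇑(plusQ (k + 4 + 1) F))
        (iO (plusQ (k + 4 + 1) F) (tG (plusQ (k + 4 + 1) F) v)) := by
      rw [(isInduced_iff (⇑(plusQ (k + 4 + 1) F)) hgGO γ).1 hγ]
      congr 1
      apply Subtype.ext
      exact hrr'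
    apply main σ hσ1 h1 γ ?_ (Or.inr ?_) ?_ α ?_
    · rw [G.ker_fieldHom, hγ']
      exact ⟨_, rfl⟩
    · rw [hγ']
      exact hnot v hv
    · rw [hγ']
      exact Phi_tG_commute (hMσ σ) h1 v hvσ hv
    · rw [hαx, hφ']

end plus

end Cfsg.Agent.Helper17.OrthFA
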