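import Mathlib
import Cfsg.Agent.Lib.Helper17.OrthFA27

set_option autoImplicit false
set_option linter.unusedSectionVars false
set_option linter.unusedSimpArgs false
set_option linter.unusedVariables false

/-!
# Field and graph-field automorphisms of the plus type orthogonal groups: transport to the
function form (helper17)
-/

namespace Cfsg.Agent.Helper17.OrthFA

open QuadraticMap Matrix Module Cfsg.Agent.Helper13 Cfsg.Agent.Helper17.OrthOut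
  Cfsg.Agent.Helper17.Spinor Cfsg.Agent.Helper17.ConfAut

universe u

theorem plus_aux {F : Type u} [Field F] [Fintype F] (k : ℕ)
    (Q₁ : (Fin (k + 4 + 1) ⊕ Fin (k + 4 + 1) → F) → F) (hQ₁ : Q₁ = ⇑(plusQ (k + 4 + 1) F))
    (x δ : MulAut (Cfsg.POmega F Q₁))
    (hx : Cfsg.IsFieldAutClassPOmega Q₁ x ∨
      ∃ (α γ φ : MulAut (Cfsg.POmega F Q₁)) (σ : F ≃+* F)
        (v : Fin (k + 4 + 1) ⊕ Fin (k + 4 + 1) → F)
        (rr : GL (Fin (k + 4 + 1) ⊕ Fin (k + 4 + 1)) F),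
        σ ≠ RingEquiv.refl F ∧ Q₁ v ≠ 0 ∧ (∀ i, σ (v i) = v i) ∧
        (rr : Matrix (Fin (k + 4 + 1) ⊕ Fin (k + 4 + 1)) (Fin (k + 4 + 1) ⊕ Fin (k + 4 + 1)) F) =
          Cfsg.reflectionMatrix Q₁ v ∧
        Cfsg.IsInducedBySemilinearPOmega Q₁ rr (RingEquiv.refl F) γ ∧
        Cfsg.IsFieldAutPOmegaOf Q₁ σ φ ∧ α * x * α⁻¹ = γ * φ)
    {r : ℕ} (hr : r.Prime) (hxr : orderOf x = r)
    (hδ : δ ∈ Cfsg.autSubgroupOf (fun β : Cfsg.POmega F Q₁ ≃* Cfsg.POmega F Q₁ =>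
      ∃ g : GL (Fin (k + 4 + 1) ⊕ Fin (k + 4 + 1)) F,
        g ∈ Cfsg.Geo.quadSimilarityGroup (F := F) Q₁ ∧
        Cfsg.PreservesSingularClasses Q₁
          (g : Matrix (Fin (k + 4 + 1) ⊕ Fin (k + 4 + 1)) (Fin (k + 4 + 1) ⊕ Fin (k + 4 + 1)) F) ∧
        Cfsg.IsInducedBySemilinearPOmega Q₁ g (RingEquiv.refl F) β)) :
    orderOf (δ * x) = r ↔ Cfsg.IsConjUnder
      (Cfsg.autSubgroupOf (fun β : Cfsg.POmega F Q₁ ≃* Cfsg.POmega F Q₁ =>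
      ∃ g : GL (Fin (k + 4 + 1) ⊕ Fin (k + 4 + 1)) F,
        g ∈ Cfsg.Geo.quadSimilarityGroup (F := F) Q₁ ∧
        Cfsg.PreservesSingularClasses Q₁
          (g : Matrix (Fin (k + 4 + 1) ⊕ Fin (k + 4 + 1)) (Fin (k + 4 + 1) ⊕ Fin (k + 4 + 1)) F) ∧
        Cfsg.IsInducedBySemilinearPOmega Q₁ g (RingEquiv.refl F) β)) x (δ * x) := by
  subst hQ₁
  exact plus_core k x δ hx hr hxr hδ

end Cfsg.Agent.Helper17.OrthFA
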