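import Mathlib
import Cfsg.Agent.Lib.Helper17.OrthFA28

set_option autoImplicit false
set_option linter.unusedSectionVars false
set_option linter.unusedSimpArgs false
set_option linter.unusedVariables false

/-!
# The centralizer of a standard field automorphism in the image of the similarity group
(helper17)
-/

namespace Cfsg.Agent.Helper17.OrthFA

open QuadraticMap Matrix Module Cfsg.Agent.Helper13 Cfsg.Agent.Helper17.OrthOut
  Cfsg.Agent.Helper17.Spinor Cfsg.Agent.Helper17.ConfAut Cfsg.Agent.Helper17.OrthAut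
open Cfsg.Agent.Helper2.PN (hmin_of_orderOf)
open Cfsg.Agent.Helper13.FAut (pnorm pnorm_zero pnorm_succ hilbert90 pow_apply_eq)

section basechange

variable {F : Type*} {F₀ : Type*} [Field F] [Field F₀] {ι : Type} [Fintype ι] [DecidableEq ι]
  (j : F₀ →+* F) (M₀ : Matrix ι ι F₀)

theorem map_smul_hom' (c : F₀) (M : Matrix ι ι F₀) : (c • M).map j = j c • M.map j := by
  ext a b
  simp only [Matrix.map_apply, Matrix.smul_apply, smul_eq_mul, map_mul]

/-- similarities stay similarities after extending the scalars, in any characteristic -/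
theorem isMult_map' {g₀ : GL ι F₀} {c₀ : F₀} (h : IsMult (matQ M₀) g₀ c₀) :
    IsMult (matQ (M₀.map j)) (Matrix.GeneralLinearGroup.map (n := ι) j g₀) (j c₀) := by
  have e : matQ ((g₀ : Matrix ι ι F₀)ᵀ * M₀ * (g₀ : Matrix ι ι F₀)) = matQ (c₀ • M₀) := by
    apply DFunLike.ext
    intro v
    rw [matQ_congr_mul, matQ_smul]
    exact h v
  have e' := matQ_map_eq j e
  intro v
  rw [map_coe_GL]
  have h3 := DFunLike.congr_fun e' v
  rw [Matrix.map_mul, Matrix.map_mul, Matrix.transpose_map, matQ_congr_mul, map_smul_hom',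
    matQ_smul] at h3
  exact h3

theorem map_mem_GO {g₀ : GL ι F₀} (hg₀ : g₀ ∈ GO (⇑(matQ M₀))) :
    Matrix.GeneralLinearGroup.map (n := ι) j g₀ ∈ GO (⇑(matQ (M₀.map j))) := by
  obtain ⟨c, hc⟩ := hg₀
  exact ⟨Units.map (j : F₀ →* F) c, isMult_map' j M₀ hc⟩

/-- a matrix over the small field is scalar iff it is scalar over the large field -/
theorem map_scalar_iff (A : Matrix ι ι F₀) :
    (∃ a : F, A.map j = a • (1 : Matrix ι ι F)) ↔ ∃ a₀ : F₀, A = a₀ • (1 : Matrix ι ι F₀) := by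
  constructor
  · rintro ⟨a, ha⟩
    rcases isEmpty_or_nonempty ι with hι | ⟨⟨i₀⟩⟩
    · exact ⟨0, Subsingleton.elim _ _⟩
    · refine ⟨A i₀ i₀, ?_⟩
      ext i k
      have h1 := congrFun (congrFun ha i) k
      have h0 := congrFun (congrFun ha i₀) i₀
      simp only [Matrix.map_apply, Matrix.smul_apply, Matrix.one_apply, smul_eq_mul,
        if_true, mul_one] at h1 h0
      simp only [Matrix.smul_apply, Matrix.one_apply, smul_eq_mul]
      apply j.injective
      by_cases hik : i = k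
      · subst hik
        rw [if_pos rfl, mul_one] at h1 ⊢
        rw [h1, h0]
      · rw [if_neg hik, mul_zero] at h1 ⊢
        rw [h1, map_zero]
  · rintro ⟨a₀, ha₀⟩
    refine ⟨j a₀, ?_⟩
    rw [ha₀, map_smul_hom', map_hom_one]

end basechange

section kernel

variable {F : Type*} [Field F] [Fintype F] {ι : Type} [Fintype ι] [DecidableEq ι]
  {Q : QuadraticForm F (ι → F)}

/-- the kernel of the action of the similarity group consists of the scalars -/
theorem Phi_eq_one_iff_good (G : Good Q) (g : ↥(GO (⇑Q))) :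
    Phi (⇑Q) g = 1 ↔ ∃ a : F, ((g : GL ι F) : Matrix ι ι F) = a • 1 := by
  have hg : Cfsg.IsSemisimilarityPair (⇑Q) (g : GL ι F) (RingEquiv.refl F) :=
    (isSemisim_refl_iff _).2 g.2
  have e0 : Phi (⇑Q) g = stdAut hg := by
    rw [stdAut_refl_eq_Phi]
  constructor
  · intro h
    rw [e0, ← stdAut_one] at h
    obtain ⟨-, a, ha⟩ := G.stdAut_eq_imp isSemisim_one hg h.symm
    exact ⟨a, by rw [ha, Units.val_one]⟩
  · rintro ⟨a, ha⟩
    obtain ⟨w, hw⟩ := G.exists_Q_ne_zero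
    have ha0 : a ≠ 0 := by
      rintro rfl
      rw [zero_smul] at ha
      apply hw
      have h1 : w = ((g⁻¹ : GL ι F) : Matrix ι ι F) *ᵥ (((g : GL ι F) : Matrix ι ι F) *ᵥ w) := by
        rw [Matrix.mulVec_mulVec, ← Units.val_mul, inv_mul_cancel, Units.val_one,
          Matrix.one_mulVec]
      rw [h1, ha, Matrix.zero_mulVec, Matrix.mulVec_zero, map_zero]
    apply Phi_of_scalar
    rw [mem_scalars_iff']
    refine ⟨Units.mk0 a ha0, ?_⟩
    apply Units.ext
    rw [ha, scalarGL_coe, Units.val_mk0]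

end kernel

section commute

variable {F : Type*} [Field F] [Fintype F] {ι : Type} [Fintype ι] [DecidableEq ι]
  {M : Matrix ι ι F} {σ : F ≃+* F}

/-- a similarity with `σ`-fixed matrix commutes with the standard field automorphism -/
theorem Phi_commute_of_fixed (h1 : Cfsg.IsSemisimilarityPair (⇑(matQ M)) (1 : GL ι F) σ)
    (g : ↥(GO (⇑(matQ M)))) (hg : ((g : GL ι F) : Matrix ι ι F).map σ = (g : GL ι F)) :
    Phi (⇑(matQ M)) g * stdAut h1 = stdAut h1 * Phi (⇑(matQ M)) g := by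
  have rS : Cfsg.IsSemisimilarityPair (⇑(matQ M)) (g : GL ι F) (RingEquiv.refl F) :=
    (isSemisim_refl_iff _).2 g.2
  have e0 : Phi (⇑(matQ M)) g = stdAut rS := by
    rw [stdAut_refl_eq_Phi]
  rw [e0]
  obtain ⟨hL, eL⟩ := stdAut_mul_refl rS h1
  obtain ⟨hR, eR⟩ := stdAut_refl_mul h1 rS
  rw [eL, eR]
  apply stdAut_congr _ rfl
  apply Units.ext
  show ((g : GL ι F) : Matrix ι ι F) * ((1 : GL ι F) : Matrix ι ι F) =
    ((1 : GL ι F) : Matrix ι ι F) * (((g : GL ι F) : Matrix ι ι F)).map σ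
  rw [Units.val_one, Matrix.mul_one, Matrix.one_mul, hg]

/-- a similarity commuting with the standard field automorphism is `σ`-fixed up to a scalar -/
theorem exists_fixed_of_commute (G : Good (matQ M)) {r : ℕ} (hr : 0 < r)
    (hord : orderOf σ = r)
    (h1 : Cfsg.IsSemisimilarityPair (⇑(matQ M)) (1 : GL ι F) σ)
    (g : ↥(GO (⇑(matQ M))))
    (hcomm : Phi (⇑(matQ M)) g * stdAut h1 = stdAut h1 * Phi (⇑(matQ M)) g) :
    ∃ d : F, d ≠ 0 ∧ (d • ((g : GL ι F) : Matrix ι ι F)).map σ =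
      d • ((g : GL ι F) : Matrix ι ι F) := by
  have rS : Cfsg.IsSemisimilarityPair (⇑(matQ M)) (g : GL ι F) (RingEquiv.refl F) :=
    (isSemisim_refl_iff _).2 g.2
  have e0 : Phi (⇑(matQ M)) g = stdAut rS := by
    rw [stdAut_refl_eq_Phi]
  rw [e0] at hcomm
  obtain ⟨hL, eL⟩ := stdAut_mul_refl rS h1
  obtain ⟨hR, eR⟩ := stdAut_refl_mul h1 rS
  rw [eL, eR] at hcomm
  obtain ⟨-, c, hc⟩ := G.stdAut_eq_imp hL hR hcomm
  obtain ⟨Gm, hGm⟩ : ∃ Gm : Matrix ι ι F, Gm = ((g : GL ι F) : Matrix ι ι F) := ⟨_, rfl⟩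
  have hc' : Gm.map σ = c • Gm := by
    have : (((1 : GL ι F) * Matrix.GeneralLinearGroup.map (n := ι) (σ : F →+* F) (g : GL ι F) :
        GL ι F) : Matrix ι ι F) = c • (((g : GL ι F) * (1 : GL ι F) : GL ι F) : Matrix ι ι F) := hc
    rw [one_mul, mul_one] at this
    rw [hGm]
    exact this
  have hGu : IsUnit Gm := by
    rw [hGm]
    exact ⟨(g : GL ι F), rfl⟩
  have hσr : (σ : RingAut F) ^ r = 1 := hord ▸ pow_orderOf_eq_one (σ : RingAut F)
  have hmin := hmin_of_orderOf σ r hord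
  -- a nonzero entry
  obtain ⟨i₀, k₀, hik⟩ : ∃ i₀ k₀, Gm i₀ k₀ ≠ 0 := by
    by_contra hcon
    push Not at hcon
    have h0 : Gm = 0 := by
      ext i k
      exact hcon i k
    obtain ⟨w, hw⟩ := G.exists_Q_ne_zero
    apply hw
    obtain ⟨u, hu⟩ := hGu
    have h1' : w = ((u⁻¹ : (Matrix ι ι F)ˣ) : Matrix ι ι F) *ᵥ (Gm *ᵥ w) := by
      rw [Matrix.mulVec_mulVec, ← hu, Units.inv_mul, Matrix.one_mulVec]
    rw [h1', h0, Matrix.zero_mulVec, Matrix.mulVec_zero, map_zero]
  have hpn : pnorm σ c r = 1 := by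
    have h3 := pow_apply_eq σ c (Set.range (fun p : ι × ι => Gm p.1 p.2)) (by
      rintro _ ⟨p, rfl⟩
      have := congrFun (congrFun hc' p.1) p.2
      simpa using this) r (Gm i₀ k₀) ⟨(i₀, k₀), rfl⟩
    rw [hσr] at h3
    have h4 : (1 : F) * Gm i₀ k₀ = pnorm σ c r * Gm i₀ k₀ := by
      rw [one_mul]
      exact h3
    exact (mul_right_cancel₀ hik h4).symm
  obtain ⟨d, hd0, hd⟩ := hilbert90 σ r hr hσr hmin c hpn
  refine ⟨d, hd0, ?_⟩
  rw [← hGm, mapσ_smul, hc', smul_smul, mul_comm, hd]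

end commute

end Cfsg.Agent.Helper17.OrthFA
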