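import Mathlib
import Cfsg.Agent.Lib.Helper17.OrthFA29

set_option autoImplicit false
set_option linter.unusedSectionVars false
set_option linter.unusedSimpArgs false
set_option linter.unusedVariables false

/-!
# The centralizer of a standard field automorphism: the isomorphism with the group over the
fixed field (helper17)
-/

namespace Cfsg.Agent.Helper17.OrthFA

open QuadraticMap Matrix Module Cfsg.Agent.Helper13 Cfsg.Agent.Helper17.OrthOut
  Cfsg.Agent.Helper17.Spinor Cfsg.Agent.Helper17.ConfAut Cfsg.Agent.Helper17.OrthAut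

section main

variable {F : Type*} {F₀ : Type*} [Field F] [Fintype F] [Field F₀] [Fintype F₀]
  {ι : Type} [Fintype ι] [DecidableEq ι]

/-- **the centralizer of a standard field automorphism in the image of a group of similarities
is the image of the corresponding group over the fixed field** -/
theorem centralizer_equiv (j : F₀ →+* F) (M₀ : Matrix ι ι F₀) (σ : F ≃+* F)
    (hjfix : ∀ a, σ (j a) = j a)
    (G : Good (matQ (M₀.map j))) (G₀ : Good (matQ M₀)) {r : ℕ} (hr : 0 < r)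
    (hord : orderOf σ = r)
    (h1 : Cfsg.IsSemisimilarityPair (⇑(matQ (M₀.map j))) (1 : GL ι F) σ)
    (H₀ : Subgroup (GL ι F₀)) (H : Subgroup (GL ι F)) (hH₀ : H₀ ≤ GO (⇑(matQ M₀)))
    (hH : H ≤ GO (⇑(matQ (M₀.map j))))
    (hsc : ∀ a : Fˣ, (scalarGL a : GL ι F) ∈ H)
    (hup : ∀ g₀ ∈ H₀, Matrix.GeneralLinearGroup.map (n := ι) j g₀ ∈ H)
    (hdown : ∀ g ∈ H, ((g : GL ι F) : Matrix ι ι F).map σ = (g : GL ι F) →
      ∃ g₀ ∈ H₀, Matrix.GeneralLinearGroup.map (n := ι) j g₀ = g) :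
    Nonempty (↥((H.subgroupOf (GO (⇑(matQ (M₀.map j))))).map (Phi (⇑(matQ (M₀.map j)))) ⊓
        Subgroup.centralizer {stdAut h1}) ≃*
      ↥((H₀.subgroupOf (GO (⇑(matQ M₀)))).map (Phi (⇑(matQ M₀))))) := by
  classical
  let Jgo : ↥H₀ →* ↥(GO (⇑(matQ (M₀.map j)))) :=
    ((Matrix.GeneralLinearGroup.map (n := ι) j).comp H₀.subtype).codRestrict
      (GO (⇑(matQ (M₀.map j)))) (fun g₀ => hH (hup g₀ g₀.2))
  have hJcoe : ∀ g₀ : ↥H₀, ((Jgo g₀ : ↥(GO (⇑(matQ (M₀.map j))))) : GL ι F) =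
      Matrix.GeneralLinearGroup.map (n := ι) j (g₀ : GL ι F₀) := fun _ => rfl
  let f₁ : ↥H₀ →* MulAut (Cfsg.POmega F (⇑(matQ (M₀.map j)))) :=
    (Phi (⇑(matQ (M₀.map j)))).comp Jgo
  let f₂ : ↥H₀ →* MulAut (Cfsg.POmega F₀ (⇑(matQ M₀))) :=
    (Phi (⇑(matQ M₀))).comp (Subgroup.inclusion hH₀)
  have hf₁ : ∀ g₀, f₁ g₀ = Phi (⇑(matQ (M₀.map j))) (Jgo g₀) := fun _ => rfl
  have hf₂ : ∀ g₀, f₂ g₀ = Phi (⇑(matQ M₀)) (Subgroup.inclusion hH₀ g₀) := fun _ => rfl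
  have hker : f₁.ker = f₂.ker := by
    ext g₀
    rw [MonoidHom.mem_ker, MonoidHom.mem_ker, hf₁, hf₂, Phi_eq_one_iff_good G,
      Phi_eq_one_iff_good G₀]
    exact map_scalar_iff j ((g₀ : GL ι F₀) : Matrix ι ι F₀)
  have hr₂ : f₂.range = (H₀.subgroupOf (GO (⇑(matQ M₀)))).map (Phi (⇑(matQ M₀))) := by
    ext η
    constructor
    · rintro ⟨g₀, rfl⟩
      exact ⟨Subgroup.inclusion hH₀ g₀, Subgroup.mem_subgroupOf.2 g₀.2, rfl⟩
    · rintro ⟨k, hk, rfl⟩
      exact ⟨⟨k, Subgroup.mem_subgroupOf.1 hk⟩, rfl⟩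
  have hr₁ : f₁.range = (H.subgroupOf (GO (⇑(matQ (M₀.map j))))).map
      (Phi (⇑(matQ (M₀.map j)))) ⊓ Subgroup.centralizer {stdAut h1} := by
    ext η
    constructor
    · rintro ⟨g₀, rfl⟩
      rw [Subgroup.mem_inf, Subgroup.mem_centralizer_singleton_iff]
      refine ⟨⟨Jgo g₀, Subgroup.mem_subgroupOf.2 (hup g₀ g₀.2), rfl⟩, ?_⟩
      rw [hf₁]
      apply Phi_commute_of_fixed h1
      rw [hJcoe, map_coe_GL]
      ext i k
      exact hjfix _
    · intro hη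
      rw [Subgroup.mem_inf, Subgroup.mem_centralizer_singleton_iff] at hη
      obtain ⟨⟨k, hk, rfl⟩, hcomm⟩ := hη
      have hkH : (k : GL ι F) ∈ H := Subgroup.mem_subgroupOf.1 hk
      obtain ⟨d, hd0, hd⟩ := exists_fixed_of_commute G hr hord h1 k hcomm
      obtain ⟨g, hg⟩ : ∃ g : GL ι F, g = scalarGL (Units.mk0 d hd0) * (k : GL ι F) := ⟨_, rfl⟩
      have hgH : g ∈ H := by
        rw [hg]
        exact H.mul_mem (hsc _) hkH
      have hgcoe : (g : Matrix ι ι F) = d • ((k : GL ι F) : Matrix ι ι F) := by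
        rw [hg, Units.val_mul, scalarGL_coe, Units.val_mk0, Matrix.smul_mul, Matrix.one_mul]
      obtain ⟨g₀, hg₀, hJg₀⟩ := hdown g hgH (by rw [hgcoe]; exact hd)
      refine ⟨⟨g₀, hg₀⟩, ?_⟩
      rw [hf₁]
      have e1 : Jgo ⟨g₀, hg₀⟩ =
          (⟨scalarGL (Units.mk0 d hd0), scalarGL_mem_GO _⟩ : ↥(GO (⇑(matQ (M₀.map j))))) * k := by
        apply Subtype.ext
        rw [hJcoe]
        show Matrix.GeneralLinearGroup.map (n := ι) j g₀ = scalarGL (Units.mk0 d hd0) * (k : GL ι F)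
        rw [hJg₀, hg]
      rw [e1, map_mul, Phi_of_scalar _ (scalarGL_mem _), one_mul]
  exact ⟨((MulEquiv.subgroupCongr hr₁).symm.trans
    (QuotientGroup.quotientKerEquivRange f₁).symm).trans
    ((QuotientGroup.quotientMulEquivOfEq hker).trans
      ((QuotientGroup.quotientKerEquivRange f₂).trans (MulEquiv.subgroupCongr hr₂)))⟩

end main

end Cfsg.Agent.Helper17.OrthFA
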