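import Mathlib
import Cfsg.Agent.Lib.Helper17.OrthFA30

set_option autoImplicit false
set_option linter.unusedSectionVars false
set_option linter.unusedSimpArgs false
set_option linter.unusedVariables false

/-!
# Descent of fixed similarities to the fixed field (helper17)
-/

namespace Cfsg.Agent.Helper17.OrthFA

open QuadraticMap Matrix Module Cfsg.Agent.Helper13 Cfsg.Agent.Helper17.OrthOut
  Cfsg.Agent.Helper17.Spinor Cfsg.Agent.Helper17.ConfAut Cfsg.Agent.Helper17.OrthAut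

section descend

variable {F : Type*} {F₀ : Type*} [Field F] [Field F₀] {ι : Type} [Fintype ι] [DecidableEq ι]
  (j : F₀ →+* F) (M₀ : Matrix ι ι F₀) (σ : F ≃+* F)

theorem map_mulVec_hom' (A : Matrix ι ι F₀) (w : ι → F₀) :
    A.map j *ᵥ (fun i => j (w i)) = fun i => j ((A *ᵥ w) i) := by
  funext i
  exact (RingHom.map_mulVec j A w i).symm

/-- a fixed similarity descends to the fixed field -/
theorem descend_similarity (hfix : ∀ x, σ x = x → ∃ a, j a = x)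
    (hv₀ : ∃ w₀ : ι → F₀, matQ M₀ w₀ ≠ 0) (g : GL ι F) (c : F)
    (hc : IsMult (matQ (M₀.map j)) g c) (hg : (g : Matrix ι ι F).map σ = (g : Matrix ι ι F)) :
    ∃ (g₀ : GL ι F₀) (c₀ : F₀), Matrix.GeneralLinearGroup.map (n := ι) j g₀ = g ∧ j c₀ = c ∧
      IsMult (matQ M₀) g₀ c₀ := by
  have hfix' : ∀ a b, σ ((g : Matrix ι ι F) a b) = (g : Matrix ι ι F) a b := by
    intro a b
    exact congrFun (congrFun hg a) b
  choose e he using fun a b => hfix _ (hfix' a b)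
  obtain ⟨A, hA⟩ : ∃ A : Matrix ι ι F₀, A = Matrix.of e := ⟨_, rfl⟩
  have hAmap : A.map j = (g : Matrix ι ι F) := by
    ext a b
    rw [hA, Matrix.map_apply, Matrix.of_apply, he]
  have hdet : A.det ≠ 0 := by
    intro h0
    have h1 : (A.map j).det = j A.det := (RingHom.map_det j A).symm
    rw [hAmap, h0, map_zero] at h1
    have hu : IsUnit (g : Matrix ι ι F).det := by
      rw [← Matrix.isUnit_iff_isUnit_det]
      exact ⟨g, rfl⟩
    rw [h1] at hu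
    exact not_isUnit_zero hu
  obtain ⟨g₀, hg₀⟩ : ∃ g₀ : GL ι F₀, (g₀ : Matrix ι ι F₀) = A :=
    ⟨Matrix.GeneralLinearGroup.mkOfDetNeZero A hdet, rfl⟩
  have hJ : Matrix.GeneralLinearGroup.map (n := ι) j g₀ = g := by
    apply Units.ext
    rw [map_coe_GL, hg₀, hAmap]
  obtain ⟨w₀, hw₀⟩ := hv₀
  have hval : ∀ w : ι → F₀, j (matQ M₀ (A *ᵥ w)) = c * j (matQ M₀ w) := by
    intro w
    rw [← matQ_map_hom j M₀, ← matQ_map_hom j M₀, ← map_mulVec_hom', hAmap]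
    exact hc _
  have hjw : j (matQ M₀ w₀) ≠ 0 := by
    rw [Ne, map_eq_zero]
    exact hw₀
  obtain ⟨c₀, hc₀⟩ : ∃ c₀ : F₀, c₀ = matQ M₀ (A *ᵥ w₀) / matQ M₀ w₀ := ⟨_, rfl⟩
  have hjc : j c₀ = c := by
    rw [hc₀, map_div₀, hval w₀, mul_div_assoc, div_self hjw, mul_one]
  refine ⟨g₀, c₀, hJ, hjc, ?_⟩
  intro w
  apply j.injective
  rw [hg₀, hval w, map_mul, hjc]

theorem det_map_GL (g₀ : GL ι F₀) :
    ((Matrix.GeneralLinearGroup.map (n := ι) j g₀ : GL ι F) : Matrix ι ι F).det =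
      j (g₀ : Matrix ι ι F₀).det := by
  rw [map_coe_GL]
  exact (RingHom.map_det j _).symm

/-- going up for the class group -/
theorem hup_dClass (n : ℕ) : ∀ g₀ ∈ dClassGO (matQ M₀) n,
    Matrix.GeneralLinearGroup.map (n := ι) j g₀ ∈ dClassGO (matQ (M₀.map j)) n := by
  rintro g₀ ⟨c, hc, hdet⟩
  refine ⟨Units.map (j : F₀ →* F) c, isMult_map' j M₀ hc, ?_⟩
  rw [det_map_GL, hdet, map_pow]
  rfl

/-- going down for the class group -/
theorem hdown_dClass (hfix : ∀ x, σ x = x → ∃ a, j a = x)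
    (hv₀ : ∃ w₀ : ι → F₀, matQ M₀ w₀ ≠ 0) (n : ℕ) :
    ∀ g ∈ dClassGO (matQ (M₀.map j)) n, ((g : GL ι F) : Matrix ι ι F).map σ = (g : GL ι F) →
      ∃ g₀ ∈ dClassGO (matQ M₀) n, Matrix.GeneralLinearGroup.map (n := ι) j g₀ = g := by
  rintro g ⟨c, hc, hdet⟩ hg
  obtain ⟨g₀, c₀, hJ, hjc, hm⟩ := descend_similarity j M₀ σ hfix hv₀ g c hc hg
  have hc₀0 : c₀ ≠ 0 := by
    rintro rfl
    rw [map_zero] at hjc
    exact c.ne_zero hjc.symm
  refine ⟨g₀, ⟨Units.mk0 c₀ hc₀0, hm, ?_⟩, hJ⟩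
  apply j.injective
  rw [Units.val_mk0, map_pow, hjc, ← hdet, ← hJ, det_map_GL]

/-- going up for the full similarity group -/
theorem hup_GO : ∀ g₀ ∈ GO (⇑(matQ M₀)),
    Matrix.GeneralLinearGroup.map (n := ι) j g₀ ∈ GO (⇑(matQ (M₀.map j))) :=
  fun g₀ hg₀ => map_mem_GO j M₀ hg₀

/-- going down for the full similarity group -/
theorem hdown_GO (hfix : ∀ x, σ x = x → ∃ a, j a = x)
    (hv₀ : ∃ w₀ : ι → F₀, matQ M₀ w₀ ≠ 0) :
    ∀ g ∈ GO (⇑(matQ (M₀.map j))), ((g : GL ι F) : Matrix ι ι F).map σ = (g : GL ι F) →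
      ∃ g₀ ∈ GO (⇑(matQ M₀)), Matrix.GeneralLinearGroup.map (n := ι) j g₀ = g := by
  rintro g ⟨c, hc⟩ hg
  obtain ⟨g₀, c₀, hJ, hjc, hm⟩ := descend_similarity j M₀ σ hfix hv₀ g c hc hg
  have hc₀0 : c₀ ≠ 0 := by
    rintro rfl
    rw [map_zero] at hjc
    exact c.ne_zero hjc.symm
  exact ⟨g₀, ⟨Units.mk0 c₀ hc₀0, hm⟩, hJ⟩

end descend

end Cfsg.Agent.Helper17.OrthFA
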