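import Mathlib
import Cfsg.Agent.Lib.Helper17.OrthFA31

set_option autoImplicit false
set_option linter.unusedSectionVars false
set_option linter.unusedSimpArgs false
set_option linter.unusedVariables false

/-!
# The class-preserving group is generated by `PΩ` and the centralizer of a field automorphism of
odd order (helper17)
-/

namespace Cfsg.Agent.Helper17.OrthFA

open QuadraticMap Matrix Module Cfsg.Agent.Helper13 Cfsg.Agent.Helper17.OrthOut
  Cfsg.Agent.Helper17.Spinor Cfsg.Agent.Helper17.ConfAut Cfsg.Agent.Helper17.OrthAut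
  Cfsg.Agent.Helper2.Orth
open Cfsg.Agent.Helper13.FAut (pow_succ_apply)

section nonsq

variable {F : Type*} {F₀ : Type*} [Field F] [Field F₀]

/-- a non-square of the fixed field of an automorphism of odd order stays a non-square -/
theorem nonsquare_map (j : F₀ →+* F) (σ : F ≃+* F) (hfix : ∀ x, σ x = x → ∃ a, j a = x)
    (hjfix : ∀ a, σ (j a) = j a)
    (h2 : (2 : F) ≠ 0) {r : ℕ} (hodd : Odd r) (hσr : (σ : RingAut F) ^ r = 1)
    {lam₀ : F₀} (hlam : ¬ IsSquare lam₀) : ¬ IsSquare (j lam₀) := by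
  rintro ⟨s, hs⟩
  have hσs : σ s * σ s = s * s := by
    rw [← map_mul, ← hs, hjfix]
  have h3 : (σ s - s) * (σ s + s) = 0 := by linear_combination hσs
  rcases mul_eq_zero.1 h3 with h | h
  · obtain ⟨s₀, hs₀⟩ := hfix s (sub_eq_zero.1 h)
    apply hlam
    refine ⟨s₀, ?_⟩
    apply j.injective
    rw [hs, map_mul, hs₀]
  · have hneg : σ s = -s := eq_neg_of_add_eq_zero_left h
    have hpow : ∀ k : ℕ, ((σ : RingAut F) ^ k) s = (-1) ^ k * s := by
      intro k
      induction k with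
      | zero => simp
      | succ k ih =>
        rw [pow_succ_apply, ih, map_mul, map_pow, map_neg, map_one, hneg, pow_succ]
        ring
    have h4 := hpow r
    rw [hσr, hodd.neg_one_pow] at h4
    have h5 : s = -1 * s := h4
    have h6 : (2 : F) * s = 0 := by linear_combination h5
    have hs0 : s = 0 := by
      rcases mul_eq_zero.1 h6 with h7 | h7
      · exact absurd h7 h2
      · exact h7
    apply hlam
    refine ⟨0, ?_⟩
    apply j.injective
    rw [hs, hs0, mul_zero, mul_zero, map_zero]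

end nonsq

section cover

variable {F : Type*} [Field F] [Fintype F] {ι : Type} [Fintype ι] [DecidableEq ι]
  {M : Matrix ι ι F} {σ : F ≃+* F} {n : ℕ} {i₁ j₁ i₂ j₂ : ι}

/-- **the class-preserving group is `PΩ` times the centralizer of the field automorphism**,
given a fixed similarity with non-square multiplier and a fixed rotation of non-square spinor
norm -/
theorem cover_odd (h2 : (2 : F) ≠ 0) (hQ : (polarBilin (matQ M)).Nondegenerate)
    (hT : TwoHyp (matQ M) i₁ j₁ i₂ j₂) (hcard : Fintype.card ι = 2 * n)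
    (hM : M.map σ = M)
    (h1 : Cfsg.IsSemisimilarityPair (⇑(matQ M)) (1 : GL ι F) σ)
    (δ : ↥(GO (⇑(matQ M)))) (lam : F) (hδ : IsMult (matQ M) (δ : GL ι F) lam)
    (hδm : (δ : GL ι F) ∈ dClassGO (matQ M) n) (hlam : ¬ IsSquare lam)
    (hδσ : ((δ : GL ι F) : Matrix ι ι F).map σ = (δ : GL ι F))
    (u v : ι → F) (huσ : ∀ i, σ (u i) = u i) (hvσ : ∀ i, σ (v i) = v i)
    (hu : matQ M u ≠ 0) (hv : matQ M v ≠ 0) (huv : ¬ IsSquare (matQ M u * matQ M v)) :
    ∀ h ∈ ConfAut.PD (matQ M) n, ∃ k ∈ ConfAut.POm (matQ M), ∃ c ∈ ConfAut.PD (matQ M) n,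
      c * stdAut h1 = stdAut h1 * c ∧ h = k * c := by
  classical
  have hn : 2 ≤ Fintype.card ι := two_le_card h2 hQ hT ⟨n, by rw [hcard]; ring⟩
  -- first adjustment: into the image of `SO`
  have L1 : ∀ h ∈ ConfAut.PD (matQ M) n, ∃ c₁ ∈ ConfAut.PD (matQ M) n,
      c₁ * stdAut h1 = stdAut h1 * c₁ ∧ h * c₁ ∈ ConfAut.PSO (matQ M) := by
    rintro _ ⟨g, hg, rfl⟩
    rw [SetLike.mem_coe, Subgroup.mem_subgroupOf] at hg
    obtain ⟨c, hc0, hc⟩ := exists_isMult g
    by_cases hsq : IsSquare c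
    · refine ⟨1, Subgroup.one_mem _, by rw [one_mul, mul_one], ?_⟩
      rw [mul_one]
      exact (Phi_mem_PSO_iff_of_dclass h2 hQ hT hcard g hc hg).2 hsq
    · refine ⟨Phi (⇑(matQ M)) δ, ⟨δ, Subgroup.mem_subgroupOf.2 hδm, rfl⟩,
        Phi_commute_of_fixed h1 δ hδσ, ?_⟩
      have hgδ : IsMult (matQ M) ((g * δ : ↥(GO (⇑(matQ M)))) : GL ι F) (c * lam) := by
        rw [Subgroup.coe_mul]
        exact hc.mul hδ
      have hgδm : ((g * δ : ↥(GO (⇑(matQ M)))) : GL ι F) ∈ dClassGO (matQ M) n := by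
        rw [Subgroup.coe_mul]
        exact (dClassGO (matQ M) n).mul_mem hg hδm
      rw [← map_mul, Phi_mem_PSO_iff_of_dclass h2 hQ hT hcard _ hgδ hgδm,
        Cfsg.Agent.Helper13.isSquare_mul_nonsquare hc0 hlam]
      exact hsq
  -- the rotation of non-square spinor norm
  obtain ⟨τ, hτ⟩ : ∃ τ : ↥(Cfsg.isometryGroup F (⇑(matQ M))),
      τ = tG (matQ M) u * tG (matQ M) v := ⟨_, rfl⟩
  have hτcoe : ((τ : GL ι F) : Matrix ι ι F) =
      ([u, v].map (fun w => Cfsg.reflectionMatrix (⇑(matQ M)) w)).prod := by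
    rw [hτ]
    simp only [List.map_cons, List.map_nil, List.prod_cons, List.prod_nil, mul_one]
    rw [Subgroup.coe_mul, Units.val_mul, tG_coe _ hu, tG_coe _ hv]
  have hvs : ∀ w ∈ [u, v], matQ M w ≠ 0 := by
    intro w hw
    rcases List.mem_cons.1 hw with h | h
    · rw [h]; exact hu
    · rw [List.mem_singleton] at h
      rw [h]; exact hv
  have hτΩ : τ ∉ Cfsg.Omega F (⇑(matQ M)) := by
    intro hmem
    have := (mem_Omega_iff (matQ M) h2 hQ τ [u, v] hvs hτcoe).1 hmem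
    obtain ⟨-, hsq⟩ := this
    simp only [List.map_cons, List.map_nil, List.prod_cons, List.prod_nil, mul_one] at hsq
    exact huv hsq
  have hτdet : ((τ : GL ι F) : Matrix ι ι F).det = 1 := by
    rw [hτ, Subgroup.coe_mul, Units.val_mul, Matrix.det_mul, tG_coe _ hu, tG_coe _ hv,
      det_reflectionMatrix _ hu, det_reflectionMatrix _ hv]
    ring
  have hτSO : (τ : GL ι F) ∈ Cfsg.specialIsometryGL F (⇑(matQ M)) := by
    unfold Cfsg.specialIsometryGL
    rw [Subgroup.mem_inf]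
    refine ⟨τ.2, ?_⟩
    show Matrix.GeneralLinearGroup.det (τ : GL ι F) = 1
    apply Units.ext
    rw [Matrix.GeneralLinearGroup.val_det_apply, hτdet]
    rfl
  have hτnotΩ : (τ : GL ι F) ∉ Geo.omegaGL (⇑(matQ M)) := by
    rw [Cfsg.Agent.Helper17.OmegaElts.mem_omegaGL_iff]
    rintro ⟨o, ho, hoe⟩
    have : o = τ := Subtype.ext hoe
    rw [this] at ho
    exact hτΩ ho
  have hΦτ : Phi (⇑(matQ M)) (iO (matQ M) τ) * stdAut h1 =
      stdAut h1 * Phi (⇑(matQ M)) (iO (matQ M) τ) := by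
    have e : iO (matQ M) τ = iO (matQ M) (tG (matQ M) u) * iO (matQ M) (tG (matQ M) v) := by
      rw [hτ]
      rfl
    rw [e, map_mul]
    have c1 := Phi_tG_commute hM h1 u huσ hu
    have c2 := Phi_tG_commute hM h1 v hvσ hv
    rw [mul_assoc, c2, ← mul_assoc, c1, mul_assoc]
  -- second adjustment: into the image of `Ω`
  have L2 : ∀ h ∈ ConfAut.PSO (matQ M), ∃ c₂ ∈ ConfAut.PD (matQ M) n,
      c₂ * stdAut h1 = stdAut h1 * c₂ ∧ h * c₂ ∈ ConfAut.POm (matQ M) := by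
    rintro _ ⟨k, hk, rfl⟩
    rw [SetLike.mem_coe, Subgroup.mem_subgroupOf] at hk
    by_cases hkΩ : (k : GL ι F) ∈ Geo.omegaGL (⇑(matQ M))
    · refine ⟨1, Subgroup.one_mem _, by rw [one_mul, mul_one], ?_⟩
      rw [mul_one]
      exact ⟨k, Subgroup.mem_subgroupOf.2 hkΩ, rfl⟩
    · refine ⟨Phi (⇑(matQ M)) (iO (matQ M) τ),
        ConfAut.PSO_le_PD ⟨iO (matQ M) τ, Subgroup.mem_subgroupOf.2 hτSO, rfl⟩, hΦτ, ?_⟩
      rw [← map_mul]
      refine ⟨k * iO (matQ M) τ, Subgroup.mem_subgroupOf.2 ?_, rfl⟩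
      rw [Subgroup.coe_mul]
      show (k : GL ι F) * (τ : GL ι F) ∈ Geo.omegaGL (⇑(matQ M))
      rw [mul_mem_iff_of_relIndex_two (relIndex_omegaGL h2 hQ hn) hk hτSO]
      exact ⟨fun h => absurd h hkΩ, fun h => absurd h hτnotΩ⟩
  intro h hh
  obtain ⟨c₁, hc₁, hc₁c, h1'⟩ := L1 h hh
  obtain ⟨c₂, hc₂, hc₂c, h2'⟩ := L2 _ h1'
  refine ⟨h * c₁ * c₂, h2', (c₁ * c₂)⁻¹, Subgroup.inv_mem _ (Subgroup.mul_mem _ hc₁ hc₂), ?_, ?_⟩
  · have e : (c₁ * c₂) * stdAut h1 = stdAut h1 * (c₁ * c₂) := by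
      rw [mul_assoc, hc₂c, ← mul_assoc, hc₁c, mul_assoc]
    calc (c₁ * c₂)⁻¹ * stdAut h1 = (c₁ * c₂)⁻¹ * (stdAut h1 * (c₁ * c₂)) * (c₁ * c₂)⁻¹ := by
          group
      _ = stdAut h1 * (c₁ * c₂)⁻¹ := by
          rw [← e]
          group
  · group

end cover

end Cfsg.Agent.Helper17.OrthFA
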