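import Mathlib
import Cfsg.Agent.Lib.Helper17.OrthFA32

set_option autoImplicit false
set_option linter.unusedSectionVars false
set_option linter.unusedSimpArgs false
set_option linter.unusedVariables false

/-!
# Similarities inducing inner automorphisms, and their descent in characteristic two (helper17)
-/

namespace Cfsg.Agent.Helper17.OrthFA

open QuadraticMap Matrix Module Cfsg.Agent.Helper13 Cfsg.Agent.Helper17.OrthOut
  Cfsg.Agent.Helper17.Spinor Cfsg.Agent.Helper17.ConfAut Cfsg.Agent.Helper17.OrthAut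

section hinn

variable {F : Type*} [Field F] [Fintype F] {ι : Type} [Fintype ι] [DecidableEq ι]
  (Q : QuadraticForm F (ι → F))

/-- the similarities inducing inner automorphisms -/
noncomputable def Hinn : Subgroup (GL ι F) :=
  ((Cfsg.Inn (Cfsg.POmega F (⇑Q))).comap (Phi (⇑Q))).map (GO (⇑Q)).subtype

theorem Hinn_le_GO : Hinn Q ≤ GO (⇑Q) := Subgroup.map_subtype_le _

theorem mem_Hinn_iff' (g : ↥(GO (⇑Q))) :
    (g : GL ι F) ∈ Hinn Q ↔ Phi (⇑Q) g ∈ Cfsg.Inn (Cfsg.POmega F (⇑Q)) := by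
  unfold Hinn
  constructor
  · rintro ⟨k, hk, hkg⟩
    have : k = g := Subtype.ext hkg
    rw [← this]
    exact hk
  · intro h
    exact ⟨g, h, rfl⟩

theorem map_Hinn : ((Hinn Q).subgroupOf (GO (⇑Q))).map (Phi (⇑Q)) =
    Cfsg.Inn (Cfsg.POmega F (⇑Q)) := by
  ext β
  constructor
  · rintro ⟨g, hg, rfl⟩
    rw [SetLike.mem_coe, Subgroup.mem_subgroupOf] at hg
    exact (mem_Hinn_iff' Q g).1 hg
  · intro hβ
    have h2 := hβ
    rw [inn_eq] at h2
    obtain ⟨g, hg, rfl⟩ := h2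
    exact ⟨g, Subgroup.mem_subgroupOf.2 ((mem_Hinn_iff' Q g).2 hβ), rfl⟩

theorem mem_Hinn_iff (G : Good Q) (g : GL ι F) :
    g ∈ Hinn Q ↔ ∃ a : Fˣ, ∃ o ∈ Geo.omegaGL (⇑Q), g = scalarGL a * o := by
  constructor
  · intro hg
    have hgGO : g ∈ GO (⇑Q) := Hinn_le_GO Q hg
    have h1 := (mem_Hinn_iff' Q ⟨g, hgGO⟩).1 hg
    rw [inn_eq] at h1
    obtain ⟨k, hk, hkg⟩ := h1
    rw [SetLike.mem_coe, Subgroup.mem_subgroupOf] at hk
    have h3 : Phi (⇑Q) (⟨g, hgGO⟩ * k⁻¹) = 1 := by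
      rw [map_mul, map_inv, hkg, mul_inv_cancel]
    obtain ⟨a, ha⟩ := (Phi_eq_one_iff_good G _).1 h3
    have ha' : (g : Matrix ι ι F) * ((k⁻¹ : ↥(GO (⇑Q))) : GL ι F) = a • 1 := ha
    have ha0 : a ≠ 0 := by
      rintro rfl
      rw [zero_smul] at ha'
      have hdet := congrArg Matrix.det ha'
      rw [← Units.val_mul] at hdet
      rcases isEmpty_or_nonempty ι with hι | hι
      · obtain ⟨v, hv⟩ := G.exists_Q_ne_zero
        apply hv
        have : v = 0 := Subsingleton.elim _ _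
        rw [this, map_zero]
      · rw [Matrix.det_zero] at hdet
        exact (Matrix.GeneralLinearGroup.det_ne_zero _) hdet
    refine ⟨Units.mk0 a ha0, (k : GL ι F), hk, ?_⟩
    apply Units.ext
    rw [Units.val_mul, scalarGL_coe, Units.val_mk0, Matrix.smul_mul, Matrix.one_mul]
    have h4 : (g : Matrix ι ι F) = (g : Matrix ι ι F) * ((k⁻¹ : ↥(GO (⇑Q))) : GL ι F) *
        ((k : GL ι F) : Matrix ι ι F) := by
      rw [Matrix.mul_assoc, ← Units.val_mul, ← Subgroup.coe_mul, inv_mul_cancel]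
      simp
    rw [h4, ha', Matrix.smul_mul, Matrix.one_mul]
  · rintro ⟨a, o, ho, rfl⟩
    have hoGO : o ∈ GO (⇑Q) := omegaGL_le_GO _ ho
    have hmem : scalarGL a * o ∈ GO (⇑Q) := (GO (⇑Q)).mul_mem (scalarGL_mem_GO a) hoGO
    have e : (⟨scalarGL a * o, hmem⟩ : ↥(GO (⇑Q))) =
        ⟨scalarGL a, scalarGL_mem_GO a⟩ * ⟨o, hoGO⟩ := rfl
    have := (mem_Hinn_iff' Q ⟨scalarGL a * o, hmem⟩).2 (by
      rw [e, map_mul, Phi_of_scalar _ (scalarGL_mem a), one_mul, inn_eq]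
      exact ⟨⟨o, hoGO⟩, Subgroup.mem_subgroupOf.2 ho, rfl⟩)
    exact this

theorem scalarGL_mem_Hinn (a : Fˣ) : (scalarGL a : GL ι F) ∈ Hinn Q := by
  have := (mem_Hinn_iff' Q ⟨scalarGL a, scalarGL_mem_GO a⟩).2 (by
    rw [Phi_of_scalar _ (scalarGL_mem a)]
    exact Subgroup.one_mem _)
  exact this

end hinn

end Cfsg.Agent.Helper17.OrthFA
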