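import Mathlib
import Cfsg.Agent.Lib.Helper17.OrthFA33

set_option autoImplicit false
set_option linter.unusedSectionVars false
set_option linter.unusedSimpArgs false
set_option linter.unusedVariables false

/-!
# Descent of `Ω` and of the similarities inducing inner automorphisms, characteristic two
(helper17)
-/

namespace Cfsg.Agent.Helper17.OrthFA

open QuadraticMap Matrix Module Cfsg.Agent.Helper13 Cfsg.Agent.Helper17.OrthOut
  Cfsg.Agent.Helper17.Spinor Cfsg.Agent.Helper17.ConfAut Cfsg.Agent.Helper17.OrthAut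

section char2

variable {F : Type*} {F₀ : Type*} [Field F] [Fintype F] [Field F₀] [Fintype F₀]
  {ι : Type} [Fintype ι] [DecidableEq ι] (j : F₀ →+* F) (M₀ : Matrix ι ι F₀)

theorem map_scalarGL (a₀ : F₀ˣ) :
    Matrix.GeneralLinearGroup.map (n := ι) j (scalarGL a₀) =
      scalarGL (Units.map (j : F₀ →* F) a₀) := by
  apply Units.ext
  rw [map_coe_GL, scalarGL_coe, scalarGL_coe, map_smul_hom']
  congr 1
  ext a b
  simp [Matrix.one_apply, apply_ite]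

variable [CharP F₀ 2] [CharP F 2]

/-- in characteristic two an isometry over the small field lies in `Ω` iff it does so over the
large field -/
theorem omega_map_iff (hQ₀ : (polarBilin (matQ M₀)).Nondegenerate)
    (hQ : (polarBilin (matQ (M₀.map j))).Nondegenerate)
    (hex₀ : Fintype.card F₀ ≠ 2 ∨ Fintype.card ι ≠ 4)
    (hex : Fintype.card F ≠ 2 ∨ Fintype.card ι ≠ 4)
    (o₀ : ↥(Cfsg.isometryGroup F₀ (⇑(matQ M₀)))) :
    Matrix.GeneralLinearGroup.map (n := ι) j (o₀ : GL ι F₀) ∈ Geo.omegaGL (⇑(matQ (M₀.map j))) ↔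
      (o₀ : GL ι F₀) ∈ Geo.omegaGL (⇑(matQ M₀)) := by
  obtain ⟨vs, hvs, rfl⟩ := exists_prod_tG (matQ M₀) hQ₀ hex₀ o₀
  have hvs' : ∀ w ∈ vs.map (fun v => fun i => j (v i)), matQ (M₀.map j) w ≠ 0 := by
    intro w hw
    obtain ⟨v, hv, rfl⟩ := List.mem_map.1 hw
    rw [matQ_map_hom]
    intro h0
    rw [map_eq_zero] at h0
    exact hvs v hv h0
  have hcoe : (((vs.map (fun v => fun i => j (v i))).map (tG (matQ (M₀.map j)))).prod :
      ↥(Cfsg.isometryGroup F (⇑(matQ (M₀.map j))))) =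
      (Matrix.GeneralLinearGroup.map (n := ι) j
        (((vs.map (tG (matQ M₀))).prod : ↥(Cfsg.isometryGroup F₀ (⇑(matQ M₀)))) : GL ι F₀) :
          GL ι F) := by
    apply Units.ext
    apply Matrix.toLin'.injective
    rw [map_coe_GL, toLin'_map_prod_tG j M₀ vs hvs, ← toEnd_prod_tG _ _ hvs']
    rfl
  have i1 := prod_tG_mem_commutator_iff (matQ M₀) hQ₀ hex₀ vs hvs
  have i2 := prod_tG_mem_commutator_iff (matQ (M₀.map j)) hQ hex _ hvs'
  rw [List.length_map] at i2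
  rw [Cfsg.Agent.Helper17.OmegaElts.mem_omegaGL_iff, Cfsg.Agent.Helper17.OmegaElts.mem_omegaGL_iff]
  constructor
  · rintro ⟨o, ho, hoe⟩
    have : o = ((vs.map (fun v => fun i => j (v i))).map (tG (matQ (M₀.map j)))).prod :=
      Subtype.ext (hoe.trans hcoe.symm)
    rw [this] at ho
    exact ⟨_, i1.2 (i2.1 ho), rfl⟩
  · rintro ⟨o, ho, hoe⟩
    have : o = (vs.map (tG (matQ M₀))).prod := Subtype.ext hoe
    rw [this] at ho
    exact ⟨_, i2.2 (i1.1 ho), hcoe⟩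

variable (G₀ : Good (matQ M₀)) (G : Good (matQ (M₀.map j)))
  (hex₀ : Fintype.card F₀ ≠ 2 ∨ Fintype.card ι ≠ 4)
  (hex : Fintype.card F ≠ 2 ∨ Fintype.card ι ≠ 4)
include G₀ G hex₀ hex

/-- going up for the similarities inducing inner automorphisms -/
theorem hup_Hinn : ∀ g₀ ∈ Hinn (matQ M₀),
    Matrix.GeneralLinearGroup.map (n := ι) j g₀ ∈ Hinn (matQ (M₀.map j)) := by
  intro g₀ hg₀
  obtain ⟨a₀, o₀, ho₀, rfl⟩ := (mem_Hinn_iff _ G₀ g₀).1 hg₀
  rw [map_mul, map_scalarGL]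
  refine (mem_Hinn_iff _ G _).2 ⟨_, _, ?_, rfl⟩
  exact (omega_map_iff j M₀ G₀.nondeg G.nondeg hex₀ hex
    ⟨o₀, omegaGL_le_isometryGroup _ ho₀⟩).2 ho₀

/-- going down for the similarities inducing inner automorphisms -/
theorem hdown_Hinn (σ : F ≃+* F) (hfix : ∀ x, σ x = x → ∃ a, j a = x) :
    ∀ g ∈ Hinn (matQ (M₀.map j)), ((g : GL ι F) : Matrix ι ι F).map σ = (g : GL ι F) →
      ∃ g₀ ∈ Hinn (matQ M₀), Matrix.GeneralLinearGroup.map (n := ι) j g₀ = g := by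
  intro g hg hσ
  obtain ⟨a, o, ho, hgo⟩ := (mem_Hinn_iff _ G g).1 hg
  have hoI : o ∈ Cfsg.isometryGroup F (⇑(matQ (M₀.map j))) := omegaGL_le_isometryGroup _ ho
  have hmult : IsMult (matQ (M₀.map j)) g ((a : F) ^ 2) := by
    rw [hgo]
    have := (isMult_scalarGL (Q := matQ (M₀.map j)) a).mul (isMult_one_iff.2 hoI)
    rwa [mul_one] at this
  obtain ⟨g₀, c₀, hJ, hjc, hm⟩ := descend_similarity j M₀ σ hfix G₀.exists_Q_ne_zero g _ hmult hσ
  have hc₀0 : c₀ ≠ 0 := by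
    rintro rfl
    rw [map_zero] at hjc
    exact (pow_ne_zero 2 a.ne_zero) hjc.symm
  obtain ⟨s₀, hs₀⟩ : IsSquare c₀ :=
    FiniteField.isSquare_of_char_two (ringChar.eq F₀ 2) c₀
  have hs₀0 : s₀ ≠ 0 := by
    rintro rfl
    rw [mul_zero] at hs₀
    exact hc₀0 hs₀
  have h2 : (2 : F) = 0 := CharTwo.two_eq_zero
  have hjs : j s₀ = a := by
    have h3 : (j s₀ - a) ^ 2 = 0 := by
      have h4 : j s₀ * j s₀ = (a : F) ^ 2 := by rw [← map_mul, ← hs₀, hjc]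
      linear_combination h4 - (j s₀ * a) * h2 + (a : F) ^ 2 * h2
    exact sub_eq_zero.1 ((pow_eq_zero_iff (two_ne_zero)).1 h3)
  obtain ⟨u₀, hu₀⟩ : ∃ u₀ : F₀ˣ, u₀ = Units.mk0 s₀ hs₀0 := ⟨_, rfl⟩
  have hu₀a : Units.map (j : F₀ →* F) u₀ = a := by
    apply Units.ext
    rw [hu₀]
    exact hjs
  obtain ⟨o₀, ho₀⟩ : ∃ o₀ : GL ι F₀, o₀ = scalarGL u₀⁻¹ * g₀ := ⟨_, rfl⟩
  have ho₀I : o₀ ∈ Cfsg.isometryGroup F₀ (⇑(matQ M₀)) := by
    rw [← isMult_one_iff, ho₀]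
    have := (isMult_scalarGL (Q := matQ M₀) u₀⁻¹).mul hm
    have e : ((u₀⁻¹ : F₀ˣ) : F₀) ^ 2 * c₀ = 1 := by
      rw [hu₀, hs₀, Units.val_inv_eq_inv_val, Units.val_mk0]
      field_simp
    rwa [e] at this
  have hJo₀ : Matrix.GeneralLinearGroup.map (n := ι) j o₀ = o := by
    rw [ho₀, map_mul, map_scalarGL, hJ, hgo, map_inv, hu₀a, ← mul_assoc]
    have : (scalarGL a⁻¹ : GL ι F) * scalarGL a = 1 := by
      apply Units.ext
      rw [Units.val_mul, scalarGL_coe, scalarGL_coe, Matrix.smul_mul, Matrix.one_mul, smul_smul,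
        Units.val_inv_eq_inv_val, inv_mul_cancel₀ a.ne_zero, one_smul]
      rfl
    rw [this, one_mul]
  have ho₀Ω : o₀ ∈ Geo.omegaGL (⇑(matQ M₀)) := by
    have := (omega_map_iff j M₀ G₀.nondeg G.nondeg hex₀ hex ⟨o₀, ho₀I⟩).1 (by
      show Matrix.GeneralLinearGroup.map (n := ι) j o₀ ∈ _
      rw [hJo₀]
      exact ho)
    exact this
  refine ⟨g₀, (mem_Hinn_iff _ G₀ g₀).2 ⟨u₀, o₀, ho₀Ω, ?_⟩, hJ⟩
  rw [ho₀, ← mul_assoc]
  have : (scalarGL u₀ : GL ι F₀) * scalarGL u₀⁻¹ = 1 := by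
    apply Units.ext
    rw [Units.val_mul, scalarGL_coe, scalarGL_coe, Matrix.smul_mul, Matrix.one_mul, smul_smul,
      Units.val_inv_eq_inv_val, mul_inv_cancel₀ u₀.ne_zero, one_smul]
    rfl
  rw [this, one_mul]

end char2

end Cfsg.Agent.Helper17.OrthFA
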