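import Mathlib
import Cfsg.Agent.Lib.Helper17.OrthFA34
import Cfsg.Agent.Lib.Helper17.QuadRoot
import Cfsg.Agent.Lib.Helper2.OutCongr

set_option autoImplicit false
set_option linter.unusedSectionVars false
set_option linter.unusedSimpArgs false
set_option linter.unusedVariables false

/-!
# Centralizers of field automorphisms: general transport lemmas (helper17)
-/

namespace Cfsg.Agent.Helper17.OrthFA

open QuadraticMap Matrix Module Cfsg.Agent.Helper13 Cfsg.Agent.Helper17.OrthOut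
  Cfsg.Agent.Helper17.Spinor Cfsg.Agent.Helper17.ConfAut Cfsg.Agent.Helper17.OrthAut

section desc

variable {F : Type*} [Field F] [Fintype F] {F₀ : Type*} [Field F₀] [Fintype F₀]

/-- a field with `p ^ (f / r)` elements embeds as the fixed field of an automorphism of order
`r` -/
theorem exists_desc {p f r : ℕ} [Fact p.Prime] (hF : Fintype.card F = p ^ f)
    (σ : F ≃+* F) (hr : r.Prime) (hord : orderOf σ = r)
    (hF₀ : Fintype.card F₀ = p ^ (f / r)) :
    r ∣ f ∧ ∃ j : F₀ →+* F, (∀ x, σ x = x → ∃ a, j a = x) ∧ (∀ a, σ (j a) = j a) := by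
  have hrf : r ∣ f := by
    have h1 := orderOf_dvd_natCard σ
    rw [hord, Cfsg.Agent.Helper2.OutCongr.card_ringEquiv hF] at h1
    exact h1
  have hcardfix : Nat.card (FAut.fixedField σ) = p ^ (f / r) :=
    FAut.card_fixedField σ r (p ^ (f / r)) hr.pos hord
      (by rw [hF, ← pow_mul, Nat.div_mul_cancel hrf])
  have : Fintype (FAut.fixedField σ) := Fintype.ofFinite _
  have e : F₀ ≃+* FAut.fixedField σ :=
    FiniteField.ringEquivOfCardEq (by rw [hF₀, ← Nat.card_eq_fintype_card, hcardfix])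
  refine ⟨hrf, (FAut.fixedField σ).subtype.comp (e : F₀ →+* FAut.fixedField σ), ?_, ?_⟩
  · intro x hx
    refine ⟨e.symm ⟨x, (FAut.mem_fixedField σ x).2 hx⟩, ?_⟩
    simp
  · intro a
    exact (FAut.mem_fixedField σ _).1 (e a).2

/-- an anisotropic binary form does not stay anisotropic over the quadratic extension -/
theorem not_aniso_of_sq {q : ℕ} (hF : Fintype.card F = q ^ 2) (hF₀ : Fintype.card F₀ = q)
    (j : F₀ →+* F) (a₀ b₀ : F₀)
    (hab₀ : ∀ z₁ z₂ : F₀, z₁ ^ 2 + a₀ * z₁ * z₂ + b₀ * z₂ ^ 2 = 0 → z₁ = 0 ∧ z₂ = 0)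
    (hab : ∀ z₁ z₂ : F, z₁ ^ 2 + j a₀ * z₁ * z₂ + j b₀ * z₂ ^ 2 = 0 → z₁ = 0 ∧ z₂ = 0) :
    False := by
  obtain ⟨t, ht⟩ := Cfsg.Agent.Helper17.exists_root_quadratic hF hF₀ j a₀ b₀
    (no_root_of_aniso a₀ b₀ hab₀)
  have := hab t 1 (by linear_combination ht)
  exact one_ne_zero this.2

end desc

section general

variable {A B : Type*} [Group A] [Group B]

theorem count_one_of_cover (D K : Subgroup A) (x : A)
    (h : ∀ h ∈ D, ∃ k ∈ K, ∃ c : A, c * x = x * c ∧ h = k * c) :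
    Cfsg.splitClassCount D K x = 1 := by
  unfold Cfsg.splitClassCount
  have hx : Cfsg.IsConjUnder D x x := ⟨1, D.one_mem, by group⟩
  have key : ∀ q : Quot fun y z : {y : A // Cfsg.IsConjUnder D x y} =>
      Cfsg.IsConjUnder K y.1 z.1, q = Quot.mk _ ⟨x, hx⟩ := by
    intro q
    induction q using Quot.ind with
    | mk y =>
      obtain ⟨y, h', hh', rfl⟩ := y
      obtain ⟨k, hk, c, hc, rfl⟩ := h h' hh'
      symm
      apply Quot.sound
      refine ⟨k, hk, ?_⟩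
      show k * c * x * (k * c)⁻¹ = k * x * k⁻¹
      have : c * x * c⁻¹ = x := by rw [hc]; group
      calc k * c * x * (k * c)⁻¹ = k * (c * x * c⁻¹) * k⁻¹ := by group
        _ = k * x * k⁻¹ := by rw [this]
  rw [Nat.card_eq_one_iff_unique]
  refine ⟨⟨fun q₁ q₂ => ?_⟩, ⟨Quot.mk _ ⟨x, hx⟩⟩⟩
  rw [key q₁, key q₂]

theorem cover_transport (Ψ : A ≃* B) (D K : Subgroup A)
    (D' K' : Subgroup B) (hD : ∀ β, β ∈ D ↔ Ψ β ∈ D') (hK : ∀ β, β ∈ K ↔ Ψ β ∈ K') (x : A)
    (h : ∀ h ∈ D', ∃ k ∈ K', ∃ c ∈ D', c * Ψ x = Ψ x * c ∧ h = k * c) :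
    ∀ h ∈ D, ∃ k ∈ K, ∃ c : A, c * x = x * c ∧ h = k * c := by
  intro g hg
  obtain ⟨k', hk', c', -, hc', e⟩ := h (Ψ g) ((hD g).1 hg)
  refine ⟨Ψ.symm k', (hK _).2 (by rw [Ψ.apply_symm_apply]; exact hk'), Ψ.symm c', ?_, ?_⟩
  · apply Ψ.injective
    rw [map_mul, map_mul, Ψ.apply_symm_apply]
    exact hc'
  · apply Ψ.injective
    rw [map_mul, Ψ.apply_symm_apply, Ψ.apply_symm_apply]
    exact e

theorem centralizer_transport (Ψ : A ≃* B) (D : Subgroup A) (D' : Subgroup B)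
    (hD : ∀ β, β ∈ D ↔ Ψ β ∈ D') (x : A) :
    Nonempty (↥(D ⊓ Subgroup.centralizer {x}) ≃* ↥(D' ⊓ Subgroup.centralizer {Ψ x})) := by
  have e : (D ⊓ Subgroup.centralizer {x}).map (Ψ : A →* B) =
      D' ⊓ Subgroup.centralizer {Ψ x} := by
    ext β
    rw [Subgroup.mem_map, Subgroup.mem_inf, Subgroup.mem_centralizer_singleton_iff]
    constructor
    · rintro ⟨γ, hγ, rfl⟩
      rw [Subgroup.mem_inf, Subgroup.mem_centralizer_singleton_iff] at hγ
      refine ⟨(hD γ).1 hγ.1, ?_⟩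
      show Ψ γ * Ψ x = Ψ x * Ψ γ
      rw [← map_mul, hγ.2, map_mul]
    · rintro ⟨h1, h2⟩
      refine ⟨Ψ.symm β, ?_, Ψ.apply_symm_apply β⟩
      rw [Subgroup.mem_inf, Subgroup.mem_centralizer_singleton_iff]
      refine ⟨(hD _).2 (by rw [Ψ.apply_symm_apply]; exact h1), ?_⟩
      apply Ψ.injective
      rw [map_mul, map_mul, Ψ.apply_symm_apply]
      exact h2
  exact ⟨((D ⊓ Subgroup.centralizer {x}).equivMapOfInjective (Ψ : A →* B) Ψ.injective).trans
    (MulEquiv.subgroupCongr e)⟩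

end general

end Cfsg.Agent.Helper17.OrthFA
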