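import Mathlib
import Cfsg.Agent.Lib.Helper17.OrthFA35
import Cfsg.Agent.Lib.Helper17.OrthFA18

set_option autoImplicit false
set_option linter.unusedSectionVars false
set_option linter.unusedSimpArgs false
set_option linter.unusedVariables false

/-!
# Centralizers of field automorphisms of the minus type groups: the two characteristic cases
(helper17)
-/

namespace Cfsg.Agent.Helper17.OrthFA

open QuadraticMap Matrix Module Cfsg.Agent.Helper13 Cfsg.Agent.Helper17.OrthOut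
  Cfsg.Agent.Helper17.Spinor Cfsg.Agent.Helper17.ConfAut Cfsg.Agent.Helper17.OrthAut
  Cfsg.Agent.Helper2.Orth

section aux

variable {F : Type*} [Field F] [Fintype F] {F₀ : Type*} [Field F₀] [Fintype F₀]

/-- odd characteristic -/
theorem minus_cent_odd (k : ℕ) (j : F₀ →+* F) (σ : F ≃+* F)
    (hfix : ∀ x, σ x = x → ∃ a, j a = x) (hjfix : ∀ a, σ (j a) = j a) (a₀ b₀ : F₀)
    (hab₀ : ∀ z₁ z₂ : F₀, z₁ ^ 2 + a₀ * z₁ * z₂ + b₀ * z₂ ^ 2 = 0 → z₁ = 0 ∧ z₂ = 0)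
    (h2 : (2 : F) ≠ 0)
    (M : Matrix ((Fin (k + 3) ⊕ Fin (k + 3)) ⊕ Fin 2) ((Fin (k + 3) ⊕ Fin (k + 3)) ⊕ Fin 2) F)
    (hM : (minusMat (k + 3) a₀ b₀).map j = M) (G : Good (matQ M)) {r : ℕ} (hr : 0 < r)
    (hodd : Odd r) (hord : orderOf σ = r)
    (h1 : Cfsg.IsSemisimilarityPair (⇑(matQ M)) (1 : GL ((Fin (k + 3) ⊕ Fin (k + 3)) ⊕ Fin 2) F) σ) :
    Nonempty (↥(ConfAut.PD (matQ M) (k + 3 + 1) ⊓ Subgroup.centralizer {stdAut h1}) ≃*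
      ↥(ConfAut.PD (minusQ (k + 3) a₀ b₀) (k + 3 + 1))) ∧
    ∀ h ∈ ConfAut.PD (matQ M) (k + 3 + 1), ∃ k' ∈ ConfAut.POm (matQ M),
      ∃ c ∈ ConfAut.PD (matQ M) (k + 3 + 1), c * stdAut h1 = stdAut h1 * c ∧ h = k' * c := by
  classical
  subst hM
  have G₀ := good_minus k a₀ b₀ hab₀
  have hcard : Fintype.card ((Fin (k + 3) ⊕ Fin (k + 3)) ⊕ Fin 2) = 2 * (k + 3 + 1) :=
    card_minusIdx (k + 3)
  have h2₀ : (2 : F₀) ≠ 0 := by
    intro h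
    apply h2
    have := congrArg j h
    rwa [map_ofNat, map_zero] at this
  constructor
  · exact centralizer_equiv j (minusMat (k + 3) a₀ b₀) σ hjfix G G₀ hr hord h1
      (dClassGO (minusQ (k + 3) a₀ b₀) (k + 3 + 1))
      (dClassGO (matQ ((minusMat (k + 3) a₀ b₀).map j)) (k + 3 + 1))
      dClassGO_le_GO dClassGO_le_GO (fun a => scalarGL_mem_dClassGO hcard a)
      (hup_dClass j _ _) (hdown_dClass j _ σ hfix G₀.exists_Q_ne_zero _)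
  · have hM' : ((minusMat (k + 3) a₀ b₀).map j).map σ = (minusMat (k + 3) a₀ b₀).map j := by
      ext i l
      simp only [Matrix.map_apply]
      exact hjfix _
    have hT : TwoHyp (matQ ((minusMat (k + 3) a₀ b₀).map j)) (Sum.inl (Sum.inl 0))
        (Sum.inl (Sum.inr 0)) (Sum.inl (Sum.inl 1)) (Sum.inl (Sum.inr 1)) := by
      rw [minusMat_map]
      exact twoHyp_minus (k + 1) (j a₀) (j b₀)
    have hchar : ringChar F₀ ≠ 2 := by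
      intro h
      have : CharP F₀ 2 := ringChar.of_eq h
      exact h2₀ CharTwo.two_eq_zero
    obtain ⟨lam₀, hlam₀⟩ := FiniteField.exists_nonsquare hchar
    have hlam₀0 : lam₀ ≠ 0 := by
      rintro rfl
      exact hlam₀ ⟨0, by ring⟩
    obtain ⟨s₀, t₀, hst⟩ := exists_binN_eq a₀ b₀ h2₀ hab₀ hlam₀0
    have hst' : s₀ ^ 2 + a₀ * s₀ * t₀ + b₀ * t₀ ^ 2 = ((Units.mk0 lam₀ hlam₀0 : F₀ˣ) : F₀) := by
      rw [Units.val_mk0]
      exact hst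
    have hσr : (σ : RingAut F) ^ r = 1 := by
      rw [← hord]
      exact pow_orderOf_eq_one σ
    have hjlam : ¬ IsSquare (j lam₀) := nonsquare_map j σ hfix hjfix h2 hodd hσr hlam₀
    obtain ⟨δ₀, hδ₀⟩ : ∃ δ₀ : GL ((Fin (k + 3) ⊕ Fin (k + 3)) ⊕ Fin 2) F₀,
        δ₀ = delta1 (k + 3) a₀ b₀ (Units.mk0 lam₀ hlam₀0) s₀ t₀ hst' := ⟨_, rfl⟩
    have hδ₀m : IsMult (minusQ (k + 3) a₀ b₀) δ₀ lam₀ := by
      rw [hδ₀]
      exact isMult_delta1 (k + 3) a₀ b₀ (Units.mk0 lam₀ hlam₀0) s₀ t₀ hst'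
    have hδ₀d : δ₀ ∈ dClassGO (minusQ (k + 3) a₀ b₀) (k + 3 + 1) := by
      rw [hδ₀]
      exact delta1_mem (k + 3) a₀ b₀ (Units.mk0 lam₀ hlam₀0) s₀ t₀ hst'
    have hδd := hup_dClass j (minusMat (k + 3) a₀ b₀) (k + 3 + 1) δ₀ hδ₀d
    have hδm := isMult_map' j (minusMat (k + 3) a₀ b₀) hδ₀m
    have hδσ : ∀ δ : GL ((Fin (k + 3) ⊕ Fin (k + 3)) ⊕ Fin 2) F,
        δ = Matrix.GeneralLinearGroup.map (n := (Fin (k + 3) ⊕ Fin (k + 3)) ⊕ Fin 2) j δ₀ →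
        (δ : Matrix ((Fin (k + 3) ⊕ Fin (k + 3)) ⊕ Fin 2) ((Fin (k + 3) ⊕ Fin (k + 3)) ⊕ Fin 2)
          F).map σ = (δ : Matrix ((Fin (k + 3) ⊕ Fin (k + 3)) ⊕ Fin 2)
            ((Fin (k + 3) ⊕ Fin (k + 3)) ⊕ Fin 2) F) := by
      rintro δ rfl
      rw [map_coe_GL]
      ext i l
      simp only [Matrix.map_apply]
      exact hjfix _
    obtain ⟨u₀, hu₀⟩ : ∃ u₀ : (Fin (k + 3) ⊕ Fin (k + 3)) ⊕ Fin 2 → F₀,
        u₀ = Pi.single (Sum.inr 0) 1 := ⟨_, rfl⟩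
    obtain ⟨v₀, hv₀⟩ : ∃ v₀ : (Fin (k + 3) ⊕ Fin (k + 3)) ⊕ Fin 2 → F₀,
        v₀ = Sum.elim (0 : Fin (k + 3) ⊕ Fin (k + 3) → F₀) ![s₀, t₀] := ⟨_, rfl⟩
    have hQu₀ : minusQ (k + 3) a₀ b₀ u₀ = 1 := by
      rw [hu₀]
      exact minusQ_single (k + 3) a₀ b₀
    have hQv₀ : minusQ (k + 3) a₀ b₀ v₀ = lam₀ := by
      rw [hv₀, minusQ_inr]
      simpa using hst
    have hQu : matQ ((minusMat (k + 3) a₀ b₀).map j) (fun i => j (u₀ i)) = 1 := by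
      rw [matQ_map_hom, hQu₀, map_one]
    have hQv : matQ ((minusMat (k + 3) a₀ b₀).map j) (fun i => j (v₀ i)) = j lam₀ := by
      rw [matQ_map_hom, hQv₀]
    have hjlam0 : j lam₀ ≠ 0 := by
      intro h
      rw [map_eq_zero] at h
      exact hlam₀0 h
    exact cover_odd h2 G.nondeg hT hcard hM' h1
      ⟨_, dClassGO_le_GO hδd⟩ (j lam₀) hδm hδd hjlam (hδσ _ rfl)
      (fun i => j (u₀ i)) (fun i => j (v₀ i)) (fun i => hjfix _) (fun i => hjfix _)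
      (by rw [hQu]; exact one_ne_zero) (by rw [hQv]; exact hjlam0)
      (by rw [hQu, hQv, one_mul]; exact hjlam)

/-- characteristic two -/
theorem minus_cent_two (k : ℕ) (j : F₀ →+* F) (σ : F ≃+* F)
    (hfix : ∀ x, σ x = x → ∃ a, j a = x) (hjfix : ∀ a, σ (j a) = j a) (a₀ b₀ : F₀)
    (hab₀ : ∀ z₁ z₂ : F₀, z₁ ^ 2 + a₀ * z₁ * z₂ + b₀ * z₂ ^ 2 = 0 → z₁ = 0 ∧ z₂ = 0)
    (h2 : (2 : F) = 0)
    (M : Matrix ((Fin (k + 3) ⊕ Fin (k + 3)) ⊕ Fin 2) ((Fin (k + 3) ⊕ Fin (k + 3)) ⊕ Fin 2) F)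
    (hM : (minusMat (k + 3) a₀ b₀).map j = M) (G : Good (matQ M)) {r : ℕ} (hr : 0 < r)
    (hord : orderOf σ = r)
    (h1 : Cfsg.IsSemisimilarityPair (⇑(matQ M)) (1 : GL ((Fin (k + 3) ⊕ Fin (k + 3)) ⊕ Fin 2) F) σ) :
    Nonempty (↥(Cfsg.Inn (Cfsg.POmega F (⇑(matQ M))) ⊓ Subgroup.centralizer {stdAut h1}) ≃*
      ↥(Cfsg.Inn (Cfsg.POmega F₀ (⇑(minusQ (k + 3) a₀ b₀))))) := by
  classical
  subst hM
  have G₀ := good_minus k a₀ b₀ hab₀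
  have h2₀ : (2 : F₀) = 0 := by
    apply j.injective
    rw [map_ofNat, map_zero]
    exact h2
  have := charP_two_of_two_eq_zero h2
  have := charP_two_of_two_eq_zero h2₀
  have hex₀ : Fintype.card F₀ ≠ 2 ∨ Fintype.card ((Fin (k + 3) ⊕ Fin (k + 3)) ⊕ Fin 2) ≠ 4 := by
    right
    rw [card_minusIdx]
    omega
  have hex : Fintype.card F ≠ 2 ∨ Fintype.card ((Fin (k + 3) ⊕ Fin (k + 3)) ⊕ Fin 2) ≠ 4 := by
    right
    rw [card_minusIdx]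
    omega
  have key := centralizer_equiv j (minusMat (k + 3) a₀ b₀) σ hjfix G G₀ hr hord h1
      (Hinn (minusQ (k + 3) a₀ b₀))
      (Hinn (matQ ((minusMat (k + 3) a₀ b₀).map j)))
      (Hinn_le_GO _) (Hinn_le_GO _) (fun a => scalarGL_mem_Hinn _ a)
      (hup_Hinn j _ G₀ G hex₀ hex) (hdown_Hinn j _ G₀ G hex₀ hex σ hfix)
  rw [map_Hinn, map_Hinn] at key
  exact key

end aux

end Cfsg.Agent.Helper17.OrthFA
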