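import Mathlib
import Cfsg.Agent.Lib.Helper17.OrthFA36
import Cfsg.Agent.Lib.Helper17.OrthFA19

set_option autoImplicit false
set_option linter.unusedSectionVars false
set_option linter.unusedSimpArgs false
set_option linter.unusedVariables false

/-!
# Centralizers of field automorphisms of the minus type groups: the theorem (helper17)
-/

namespace Cfsg.Agent.Helper17.OrthFA

open QuadraticMap Matrix Module Cfsg.Agent.Helper13 Cfsg.Agent.Helper17.OrthOut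
  Cfsg.Agent.Helper17.Spinor Cfsg.Agent.Helper17.ConfAut Cfsg.Agent.Helper17.OrthAut
  Cfsg.Agent.Helper2.Orth

universe u v

section core

variable {F : Type u} [Field F] [Fintype F]

theorem minus_cent_core (k : ℕ) (a b a' b' : F)
    (hab : ∀ z₁ z₂ : F, z₁ ^ 2 + a * z₁ * z₂ + b * z₂ ^ 2 = 0 → z₁ = 0 ∧ z₂ = 0)
    (hab' : ∀ z₁ z₂ : F, z₁ ^ 2 + a' * z₁ * z₂ + b' * z₂ ^ 2 = 0 → z₁ = 0 ∧ z₂ = 0)
    (x : MulAut (Cfsg.POmega F (⇑(minusQ (k + 3) a b))))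
    (ψ : Cfsg.POmega F (⇑(minusQ (k + 3) a b)) ≃* Cfsg.POmega F (⇑(minusQ (k + 3) a' b')))
    (σ : F ≃+* F) (hσ1 : σ ≠ RingEquiv.refl F) (ha' : σ a' = a') (hb' : σ b' = b')
    (hφ : Cfsg.IsFieldAutPOmegaOf (⇑(minusQ (k + 3) a' b')) σ ((ψ.symm.trans x).trans ψ))
    {r : ℕ} (hr : r.Prime) (hxr : orderOf x = r)
    {p f : ℕ} [Fact p.Prime] (hF : Fintype.card F = p ^ f)
    (F₀ : Type v) [Field F₀] [Fintype F₀] (hF₀ : Fintype.card F₀ = p ^ (f / r)) :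
    Odd r ∧ r ∣ f ∧
      (∃ a₀ b₀ : F₀, (∀ z₁ z₂ : F₀, z₁ ^ 2 + a₀ * z₁ * z₂ + b₀ * z₂ ^ 2 = 0 → z₁ = 0 ∧ z₂ = 0) ∧
        Nonempty (↥(Dm (k + 3) a b ⊓ Subgroup.centralizer {x}) ≃* ↥(Dm (k + 3) a₀ b₀))) ∧
      Cfsg.splitClassCount (Dm (k + 3) a b)
        (Cfsg.Inn (Cfsg.POmega F (⇑(minusQ (k + 3) a b)))) x = 1 := by
  classical
  have G := good_minus k a b hab
  have G' := good_minus k a' b' hab'
  have hM' := minusMat_map_sigma (k + 3) σ a' b' ha' hb'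
  have h1' := isSemisim_fixed hM'
  have hΨx : MulAut.congr ψ x = stdAut h1' := fieldAut_eq_stdAut h1' hφ
  have hxr' : orderOf (MulAut.congr ψ x) = r := by
    rw [MulEquiv.orderOf_eq]
    exact hxr
  have hσr : orderOf σ = r := by
    have h3 : orderOf (G'.fieldHom (stdAut h1')) ∣ orderOf (stdAut h1') := orderOf_map_dvd _ _
    rw [G'.fieldHom_stdAut, ← hΨx, hxr'] at h3
    rcases (Nat.dvd_prime hr).1 h3 with h4 | h4
    · exfalso
      apply hσ1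
      exact orderOf_eq_one_iff.1 h4
    · exact h4
  obtain ⟨hrf, j, hfix, hjfix⟩ := exists_desc hF σ hr hσr hF₀
  obtain ⟨a₀, rfl⟩ := hfix a' ha'
  obtain ⟨b₀, rfl⟩ := hfix b' hb'
  have hab₀ : ∀ z₁ z₂ : F₀, z₁ ^ 2 + a₀ * z₁ * z₂ + b₀ * z₂ ^ 2 = 0 → z₁ = 0 ∧ z₂ = 0 := by
    intro z₁ z₂ h
    have h' := congrArg j h
    simp only [map_add, map_mul, map_pow, map_zero] at h'
    obtain ⟨e1, e2⟩ := hab' (j z₁) (j z₂) h'
    rw [map_eq_zero] at e1 e2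
    exact ⟨e1, e2⟩
  have hodd : Odd r := by
    rcases hr.eq_two_or_odd' with h | h
    · exfalso
      subst h
      obtain ⟨c, hc⟩ := hrf
      have h5 : f / 2 = c := by omega
      rw [h5] at hF₀
      have hF' : Fintype.card F = (p ^ c) ^ 2 := by
        rw [hF, hc, ← pow_mul, mul_comm]
      exact not_aniso_of_sq hF' hF₀ j a₀ b₀ hab₀ hab'
    · exact h
  refine ⟨hodd, hrf, ?_⟩
  have G₀ := good_minus k a₀ b₀ hab₀
  have hex : ∀ c d : F, Fintype.card F ≠ 2 ∨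
      Fintype.card ((Fin (k + 3) ⊕ Fin (k + 3)) ⊕ Fin 2) ≠ 4 := by
    intro _ _
    right
    rw [card_minusIdx]
    omega
  have hex₀ : Fintype.card F₀ ≠ 2 ∨
      Fintype.card ((Fin (k + 3) ⊕ Fin (k + 3)) ⊕ Fin 2) ≠ 4 := by
    right
    rw [card_minusIdx]
    omega
  by_cases h2 : (2 : F) = 0
  · have := charP_two_of_two_eq_zero h2
    have h2₀ : (2 : F₀) = 0 := by
      apply j.injective
      rw [map_ofNat, map_zero]
      exact h2
    have := charP_two_of_two_eq_zero h2₀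
    have hD : Dm (k + 3) a b = Cfsg.Inn (Cfsg.POmega F (⇑(minusQ (k + 3) a b))) :=
      inndiag_minus_eq_two (k + 3) a b (hex a b) hab
    have hD₀ : Dm (k + 3) a₀ b₀ = Cfsg.Inn (Cfsg.POmega F₀ (⇑(minusQ (k + 3) a₀ b₀))) :=
      inndiag_minus_eq_two (k + 3) a₀ b₀ hex₀ hab₀
    rw [hD]
    constructor
    · refine ⟨a₀, b₀, hab₀, ?_⟩
      rw [hD₀]
      obtain ⟨e1⟩ := centralizer_transport (MulAut.congr ψ)
        (Cfsg.Inn (Cfsg.POmega F (⇑(minusQ (k + 3) a b))))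
        (Cfsg.Inn (Cfsg.POmega F (⇑(minusQ (k + 3) (j a₀) (j b₀))))) (congr_mem_inn ψ) x
      rw [hΨx] at e1
      obtain ⟨e2⟩ := minus_cent_two k j σ hfix hjfix a₀ b₀ hab₀ h2
        (minusMat (k + 3) (j a₀) (j b₀)) (minusMat_map j (k + 3) a₀ b₀) G' hr.pos hσr h1'
      exact ⟨e1.trans e2⟩
    · apply count_one_of_cover
      intro h hh
      exact ⟨h, hh, 1, by rw [one_mul, mul_one], by rw [mul_one]⟩
  · have h2₀ : (2 : F₀) ≠ 0 := by
      intro h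
      apply h2
      have := congrArg j h
      rwa [map_ofNat, map_zero] at this
    have hD : Dm (k + 3) a b = ConfAut.PD (minusQ (k + 3) a b) (k + 3 + 1) :=
      inndiag_minus_eq (k + 3) a b h2 hab
    have hD₀ : Dm (k + 3) a₀ b₀ = ConfAut.PD (minusQ (k + 3) a₀ b₀) (k + 3 + 1) :=
      inndiag_minus_eq (k + 3) a₀ b₀ h2₀ hab₀
    rw [hD]
    obtain ⟨M₂, hM₂⟩ := exists_bin_iso (j a₀) (j b₀) a b hab' hab
    obtain ⟨T, hT⟩ : ∃ T : GL ((Fin (k + 3) ⊕ Fin (k + 3)) ⊕ Fin 2) F,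
        ∀ v, minusQ (k + 3) (j a₀) (j b₀) ((T : Matrix _ _ F).mulVec v) = minusQ (k + 3) a b v :=
      ⟨blockGL (k + 3) 1 M₂, fun v => minusQ_blockGL (k + 3) (j a₀) (j b₀) a b M₂ hM₂ v⟩
    have hT' : ∀ v, minusQ (k + 3) a b (((T⁻¹ : GL _ F) : Matrix _ _ F).mulVec v) =
        minusQ (k + 3) (j a₀) (j b₀) v :=
      fun v => hT_inv (Q := ⇑(minusQ (k + 3) a b)) (Q' := ⇑(minusQ (k + 3) (j a₀) (j b₀))) T hT v
    have hDD' : ∀ β, β ∈ ConfAut.PD (minusQ (k + 3) a b) (k + 3 + 1) ↔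
        MulAut.congr ψ β ∈ ConfAut.PD (minusQ (k + 3) (j a₀) (j b₀)) (k + 3 + 1) := by
      intro β
      constructor
      · exact congr_PD_le G _ T hT ψ
      · intro h
        have h3 := congr_PD_le G' (k + 3 + 1) T⁻¹ hT' ψ.symm h
        have h4 : MulAut.congr ψ.symm (MulAut.congr ψ β) = β := by
          ext y
          simp [MulAut.congr]
        rwa [h4] at h3
    obtain ⟨⟨e2⟩, hcov⟩ := minus_cent_odd k j σ hfix hjfix a₀ b₀ hab₀ h2
        (minusMat (k + 3) (j a₀) (j b₀)) (minusMat_map j (k + 3) a₀ b₀) G' hr.pos hodd hσr h1'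
    constructor
    · refine ⟨a₀, b₀, hab₀, ?_⟩
      rw [hD₀]
      obtain ⟨e1⟩ := centralizer_transport (MulAut.congr ψ) _ _ hDD' x
      rw [hΨx] at e1
      exact ⟨e1.trans e2⟩
    · apply count_one_of_cover
      apply cover_transport (MulAut.congr ψ) _ _ _ _ hDD' (congr_mem_inn ψ) x
      rw [hΨx, inn_eq]
      exact hcov

end core

end Cfsg.Agent.Helper17.OrthFA
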