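import Mathlib
import Cfsg.Agent.Lib.Helper17.OrthFA37

set_option autoImplicit false
set_option linter.unusedSectionVars false
set_option linter.unusedSimpArgs false
set_option linter.unusedVariables false

/-!
# Centralizers of field automorphisms of the minus type groups: transport to the function form
(helper17)
-/

namespace Cfsg.Agent.Helper17.OrthFA

open QuadraticMap Matrix Module Cfsg.Agent.Helper13 Cfsg.Agent.Helper17.OrthOut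
  Cfsg.Agent.Helper17.Spinor Cfsg.Agent.Helper17.ConfAut

universe u v

theorem minus_cent_aux {F : Type u} [Field F] [Fintype F] (k : ℕ) (a b : F)
    (hab : ∀ z₁ z₂ : F, z₁ ^ 2 + a * z₁ * z₂ + b * z₂ ^ 2 = 0 → z₁ = 0 ∧ z₂ = 0)
    (Qf : F → F → (((Fin (k + 3) ⊕ Fin (k + 3)) ⊕ Fin 2) → F) → F)
    (hQf : ∀ a' b' : F, Qf a' b' = ⇑(minusQ (k + 3) a' b'))
    (x : MulAut (Cfsg.POmega F (Qf a b)))
    (hx : ∃ (a' b' : F) (ψ : Cfsg.POmega F (Qf a b) ≃* Cfsg.POmega F (Qf a' b'))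
      (σ : F ≃+* F),
      (∀ z₁ z₂ : F, z₁ ^ 2 + a' * z₁ * z₂ + b' * z₂ ^ 2 = 0 → z₁ = 0 ∧ z₂ = 0) ∧
      σ ≠ RingEquiv.refl F ∧ σ a' = a' ∧ σ b' = b' ∧
      Cfsg.IsFieldAutPOmegaOf (Qf a' b') σ ((ψ.symm.trans x).trans ψ))
    {r : ℕ} (hr : r.Prime) (hxr : orderOf x = r)
    {p f : ℕ} [Fact p.Prime] (hF : Fintype.card F = p ^ f)
    (F₀ : Type v) [Field F₀] [Fintype F₀] (hF₀ : Fintype.card F₀ = p ^ (f / r))
    (Qf₀ : F₀ → F₀ → (((Fin (k + 3) ⊕ Fin (k + 3)) ⊕ Fin 2) → F₀) → F₀)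
    (hQf₀ : ∀ a' b' : F₀, Qf₀ a' b' = ⇑(minusQ (k + 3) a' b')) :
    Odd r ∧ r ∣ f ∧
      (∃ a₀ b₀ : F₀, (∀ z₁ z₂ : F₀, z₁ ^ 2 + a₀ * z₁ * z₂ + b₀ * z₂ ^ 2 = 0 → z₁ = 0 ∧ z₂ = 0) ∧
        Nonempty (↥(Cfsg.autSubgroupOf (fun β : Cfsg.POmega F (Qf a b) ≃*
            Cfsg.POmega F (Qf a b) =>
          ∃ g : GL ((Fin (k + 3) ⊕ Fin (k + 3)) ⊕ Fin 2) F,
            g ∈ Cfsg.Geo.quadSimilarityGroup (F := F) (Qf a b) ∧
            Cfsg.PreservesSingularClassesMinus (k + 3) a b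
              (g : Matrix ((Fin (k + 3) ⊕ Fin (k + 3)) ⊕ Fin 2)
                ((Fin (k + 3) ⊕ Fin (k + 3)) ⊕ Fin 2) F) ∧
            Cfsg.IsInducedBySemilinearPOmega (Qf a b) g (RingEquiv.refl F) β) ⊓
          Subgroup.centralizer {x}) ≃*
          ↥(Cfsg.autSubgroupOf (fun β : Cfsg.POmega F₀ (Qf₀ a₀ b₀) ≃*
            Cfsg.POmega F₀ (Qf₀ a₀ b₀) =>
          ∃ g : GL ((Fin (k + 3) ⊕ Fin (k + 3)) ⊕ Fin 2) F₀,
            g ∈ Cfsg.Geo.quadSimilarityGroup (F := F₀) (Qf₀ a₀ b₀) ∧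
            Cfsg.PreservesSingularClassesMinus (k + 3) a₀ b₀
              (g : Matrix ((Fin (k + 3) ⊕ Fin (k + 3)) ⊕ Fin 2)
                ((Fin (k + 3) ⊕ Fin (k + 3)) ⊕ Fin 2) F₀) ∧
            Cfsg.IsInducedBySemilinearPOmega (Qf₀ a₀ b₀) g (RingEquiv.refl F₀) β)))) ∧
      Cfsg.splitClassCount (Cfsg.autSubgroupOf (fun β : Cfsg.POmega F (Qf a b) ≃*
            Cfsg.POmega F (Qf a b) =>
          ∃ g : GL ((Fin (k + 3) ⊕ Fin (k + 3)) ⊕ Fin 2) F,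
            g ∈ Cfsg.Geo.quadSimilarityGroup (F := F) (Qf a b) ∧
            Cfsg.PreservesSingularClassesMinus (k + 3) a b
              (g : Matrix ((Fin (k + 3) ⊕ Fin (k + 3)) ⊕ Fin 2)
                ((Fin (k + 3) ⊕ Fin (k + 3)) ⊕ Fin 2) F) ∧
            Cfsg.IsInducedBySemilinearPOmega (Qf a b) g (RingEquiv.refl F) β))
        (Cfsg.Inn (Cfsg.POmega F (Qf a b))) x = 1 := by
  obtain rfl : Qf = fun a' b' => ⇑(minusQ (k + 3) a' b') := by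
    funext a' b'
    exact hQf a' b'
  obtain rfl : Qf₀ = fun a' b' => ⇑(minusQ (k + 3) a' b') := by
    funext a' b'
    exact hQf₀ a' b'
  obtain ⟨a', b', ψ, σ, hab', hσ1, ha', hb', hφ⟩ := hx
  exact minus_cent_core k a b a' b' hab hab' x ψ σ hσ1 ha' hb' hφ hr hxr hF F₀ hF₀

end Cfsg.Agent.Helper17.OrthFA
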