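import Mathlib
import Cfsg.Agent.Lib.Helper17.OrthFA35

set_option autoImplicit false
set_option linter.unusedSectionVars false
set_option linter.unusedSimpArgs false
set_option linter.unusedVariables false

/-!
# Rotations, spinor norms and field automorphisms (helper17)
-/

namespace Cfsg.Agent.Helper17.OrthFA

open QuadraticMap Matrix Module Cfsg.Agent.Helper13 Cfsg.Agent.Helper17.OrthOut
  Cfsg.Agent.Helper17.Spinor Cfsg.Agent.Helper17.ConfAut Cfsg.Agent.Helper17.OrthAut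
  Cfsg.Agent.Helper2.Orth

section special

variable {F : Type*} [Field F] {ι : Type} [Fintype ι] [DecidableEq ι]

theorem mem_special_iff' (Q : (ι → F) → F) (g : GL ι F) :
    g ∈ Cfsg.specialIsometryGL F Q ↔
      g ∈ Cfsg.isometryGroup F Q ∧ (g : Matrix ι ι F).det = 1 := by
  unfold Cfsg.specialIsometryGL
  rw [Subgroup.mem_inf]
  constructor
  · rintro ⟨h1, h2⟩
    refine ⟨h1, ?_⟩
    have h4 : Matrix.GeneralLinearGroup.det g = 1 := h2
    have h5 := congrArg Units.val h4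
    rw [Matrix.GeneralLinearGroup.val_det_apply] at h5
    rw [h5]
    rfl
  · rintro ⟨h1, h2⟩
    refine ⟨h1, ?_⟩
    show Matrix.GeneralLinearGroup.det g = 1
    apply Units.ext
    rw [Matrix.GeneralLinearGroup.val_det_apply, h2]
    rfl

end special

section cover

variable {F : Type*} [Field F] [Fintype F] {ι : Type} [Fintype ι] [DecidableEq ι]
  {M : Matrix ι ι F} {σ : F ≃+* F}

/-- the rotation `r_u r_v` of non-square spinor norm -/
theorem rot_props (h2 : (2 : F) ≠ 0) (hQ : (polarBilin (matQ M)).Nondegenerate)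
    (u v : ι → F) (hu : matQ M u ≠ 0) (hv : matQ M v ≠ 0)
    (huv : ¬ IsSquare (matQ M u * matQ M v)) :
    ((tG (matQ M) u * tG (matQ M) v : ↥(Cfsg.isometryGroup F (⇑(matQ M)))) : GL ι F) ∈
        Cfsg.specialIsometryGL F (⇑(matQ M)) ∧
      ((tG (matQ M) u * tG (matQ M) v : ↥(Cfsg.isometryGroup F (⇑(matQ M)))) : GL ι F) ∉
        Geo.omegaGL (⇑(matQ M)) := by
  obtain ⟨τ, hτ⟩ : ∃ τ : ↥(Cfsg.isometryGroup F (⇑(matQ M))),
      τ = tG (matQ M) u * tG (matQ M) v := ⟨_, rfl⟩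
  rw [← hτ]
  have hτcoe : ((τ : GL ι F) : Matrix ι ι F) =
      ([u, v].map (fun w => Cfsg.reflectionMatrix (⇑(matQ M)) w)).prod := by
    rw [hτ]
    simp only [List.map_cons, List.map_nil, List.prod_cons, List.prod_nil, mul_one]
    rw [Subgroup.coe_mul, Units.val_mul, tG_coe _ hu, tG_coe _ hv]
  have hvs : ∀ w ∈ [u, v], matQ M w ≠ 0 := by
    intro w hw
    rcases List.mem_cons.1 hw with h | h
    · rw [h]; exact hu
    · rw [List.mem_singleton] at h
      rw [h]; exact hv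
  have hτΩ : τ ∉ Cfsg.Omega F (⇑(matQ M)) := by
    intro hmem
    have := (mem_Omega_iff (matQ M) h2 hQ τ [u, v] hvs hτcoe).1 hmem
    obtain ⟨-, hsq⟩ := this
    simp only [List.map_cons, List.map_nil, List.prod_cons, List.prod_nil, mul_one] at hsq
    exact huv hsq
  have hτdet : ((τ : GL ι F) : Matrix ι ι F).det = 1 := by
    rw [hτ, Subgroup.coe_mul, Units.val_mul, Matrix.det_mul, tG_coe _ hu, tG_coe _ hv,
      det_reflectionMatrix _ hu, det_reflectionMatrix _ hv]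
    ring
  refine ⟨(mem_special_iff' _ _).2 ⟨τ.2, hτdet⟩, ?_⟩
  rw [Cfsg.Agent.Helper17.OmegaElts.mem_omegaGL_iff]
  rintro ⟨o, ho, hoe⟩
  have : o = τ := Subtype.ext hoe
  rw [this] at ho
  exact hτΩ ho

/-- the image of `SO` is the image of `Ω` times the centralizer of the field automorphism, given
a fixed rotation of non-square spinor norm -/
theorem cover_SO (h2 : (2 : F) ≠ 0) (hQ : (polarBilin (matQ M)).Nondegenerate)
    (hn : 2 ≤ Fintype.card ι) (hM : M.map σ = M)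
    (h1 : Cfsg.IsSemisimilarityPair (⇑(matQ M)) (1 : GL ι F) σ)
    (u v : ι → F) (huσ : ∀ i, σ (u i) = u i) (hvσ : ∀ i, σ (v i) = v i)
    (hu : matQ M u ≠ 0) (hv : matQ M v ≠ 0) (huv : ¬ IsSquare (matQ M u * matQ M v)) :
    ∀ h ∈ ConfAut.PSO (matQ M), ∃ k ∈ ConfAut.POm (matQ M), ∃ c ∈ ConfAut.PSO (matQ M),
      c * stdAut h1 = stdAut h1 * c ∧ h = k * c := by
  classical
  obtain ⟨hτSO, hτnotΩ⟩ := rot_props h2 hQ u v hu hv huv
  obtain ⟨τ, hτ⟩ : ∃ τ : ↥(Cfsg.isometryGroup F (⇑(matQ M))),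
      τ = tG (matQ M) u * tG (matQ M) v := ⟨_, rfl⟩
  rw [← hτ] at hτSO hτnotΩ
  have hΦτ : Phi (⇑(matQ M)) (iO (matQ M) τ) * stdAut h1 =
      stdAut h1 * Phi (⇑(matQ M)) (iO (matQ M) τ) := by
    have e : iO (matQ M) τ = iO (matQ M) (tG (matQ M) u) * iO (matQ M) (tG (matQ M) v) := by
      rw [hτ]
      rfl
    rw [e, map_mul]
    have c1 := Phi_tG_commute hM h1 u huσ hu
    have c2 := Phi_tG_commute hM h1 v hvσ hv
    rw [mul_assoc, c2, ← mul_assoc, c1, mul_assoc]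
  rintro _ ⟨k, hk, rfl⟩
  rw [SetLike.mem_coe, Subgroup.mem_subgroupOf] at hk
  by_cases hkΩ : (k : GL ι F) ∈ Geo.omegaGL (⇑(matQ M))
  · refine ⟨_, ⟨k, Subgroup.mem_subgroupOf.2 hkΩ, rfl⟩, 1, Subgroup.one_mem _,
      by rw [one_mul, mul_one], by rw [mul_one]⟩
  · have hτmem : Phi (⇑(matQ M)) (iO (matQ M) τ) ∈ ConfAut.PSO (matQ M) :=
      ⟨iO (matQ M) τ, Subgroup.mem_subgroupOf.2 hτSO, rfl⟩
    refine ⟨Phi (⇑(matQ M)) (k * iO (matQ M) τ), ?_, (Phi (⇑(matQ M)) (iO (matQ M) τ))⁻¹,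
      Subgroup.inv_mem _ hτmem, ?_, ?_⟩
    · refine ⟨k * iO (matQ M) τ, Subgroup.mem_subgroupOf.2 ?_, rfl⟩
      rw [Subgroup.coe_mul]
      show (k : GL ι F) * (τ : GL ι F) ∈ Geo.omegaGL (⇑(matQ M))
      rw [mul_mem_iff_of_relIndex_two (relIndex_omegaGL h2 hQ hn) hk hτSO]
      exact ⟨fun h => absurd h hkΩ, fun h => absurd h hτnotΩ⟩
    · calc (Phi (⇑(matQ M)) (iO (matQ M) τ))⁻¹ * stdAut h1
          = (Phi (⇑(matQ M)) (iO (matQ M) τ))⁻¹ *
              (stdAut h1 * Phi (⇑(matQ M)) (iO (matQ M) τ)) *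
              (Phi (⇑(matQ M)) (iO (matQ M) τ))⁻¹ := by group
        _ = stdAut h1 * (Phi (⇑(matQ M)) (iO (matQ M) τ))⁻¹ := by
          rw [← hΦτ]
          group
    · rw [map_mul]
      group

end cover

section odddim

variable {F : Type*} [Field F] [Fintype F] {ι : Type} [Fintype ι] [DecidableEq ι]
  {Q : QuadraticForm F (ι → F)}

/-- in odd dimension every similarity is a scalar times a rotation -/
theorem exists_scalar_mul_special (hQ : (polarBilin Q).Nondegenerate)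
    (hcard : Odd (Fintype.card ι)) (g : GL ι F) (hg : g ∈ GO (⇑Q)) :
    ∃ a : Fˣ, ∃ o ∈ Cfsg.specialIsometryGL F (⇑Q), g = scalarGL a * o := by
  obtain ⟨c, hc'⟩ := hg
  have hc : IsMult Q g (c : F) := hc'
  obtain ⟨n, hn⟩ := hcard
  have hdet := hc.det_sq hQ
  rw [hn] at hdet
  have hc0 : (c : F) ≠ 0 := c.ne_zero
  have hd0 : (g : Matrix ι ι F).det ≠ 0 := by
    intro h
    rw [h] at hdet
    have : (c : F) ^ (2 * n + 1) ≠ 0 := pow_ne_zero _ hc0
    apply this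
    rw [← hdet]
    ring
  obtain ⟨s, hs⟩ : ∃ s : F, s = (g : Matrix ι ι F).det / (c : F) ^ n := ⟨_, rfl⟩
  have hs2 : s ^ 2 = c := by
    rw [hs, div_pow, hdet]
    field_simp
    ring
  have hs0 : s ≠ 0 := by
    rintro rfl
    apply hc0
    rw [← hs2]
    ring
  refine ⟨Units.mk0 s hs0, scalarGL (Units.mk0 s hs0)⁻¹ * g, ?_, ?_⟩
  · rw [mem_special_iff']
    constructor
    · rw [← isMult_one_iff]
      have := (isMult_scalarGL (Q := Q) (Units.mk0 s hs0)⁻¹).mul hc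
      have e : (((Units.mk0 s hs0)⁻¹ : Fˣ) : F) ^ 2 * c = 1 := by
        rw [Units.val_inv_eq_inv_val, Units.val_mk0, ← hs2]
        field_simp
      rwa [e] at this
    · rw [Units.val_mul, Matrix.det_mul, det_scalarGL, hn, Units.val_inv_eq_inv_val,
        Units.val_mk0]
      have h3 : s ^ (2 * n + 1) = (g : Matrix ι ι F).det := by
        rw [pow_succ, pow_mul, hs2, hs]
        field_simp
      rw [inv_pow, h3, inv_mul_cancel₀ hd0]
  · rw [← mul_assoc]
    have : (scalarGL (Units.mk0 s hs0) : GL ι F) * scalarGL (Units.mk0 s hs0)⁻¹ = 1 := by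
      apply Units.ext
      rw [Units.val_mul, scalarGL_coe, scalarGL_coe, Matrix.smul_mul, Matrix.one_mul, smul_smul,
        Units.val_inv_eq_inv_val, mul_inv_cancel₀ (Units.mk0 s hs0).ne_zero, one_smul]
      rfl
    rw [this, one_mul]

theorem PG_eq_PSO_of_odd (hQ : (polarBilin Q).Nondegenerate)
    (hcard : Odd (Fintype.card ι)) : ConfAut.PG Q = ConfAut.PSO Q := by
  apply le_antisymm
  · rintro _ ⟨g, rfl⟩
    obtain ⟨a, o, ho, hgo⟩ := exists_scalar_mul_special hQ hcard (g : GL ι F) g.2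
    have hoGO : o ∈ GO (⇑Q) := isometryGroup_le_GO _ ((mem_special_iff' _ _).1 ho).1
    have e : g = ⟨scalarGL a, scalarGL_mem_GO a⟩ * ⟨o, hoGO⟩ := Subtype.ext hgo
    rw [e, map_mul, Phi_of_scalar _ (scalarGL_mem a), one_mul]
    exact ⟨⟨o, hoGO⟩, Subgroup.mem_subgroupOf.2 ho, rfl⟩
  · rintro _ ⟨g, -, rfl⟩
    exact ⟨g, rfl⟩

end odddim

end Cfsg.Agent.Helper17.OrthFA
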