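import Mathlib
import Cfsg.Agent.Lib.Helper17.OrthFA39

set_option autoImplicit false
set_option linter.unusedSectionVars false
set_option linter.unusedSimpArgs false
set_option linter.unusedVariables false

/-!
# Rotations over the fixed field of an involutory field automorphism lie in `Ω` (helper17)
-/

namespace Cfsg.Agent.Helper17.OrthFA

open QuadraticMap Matrix Module Cfsg.Agent.Helper13 Cfsg.Agent.Helper17.OrthOut
  Cfsg.Agent.Helper17.Spinor Cfsg.Agent.Helper17.ConfAut Cfsg.Agent.Helper17.OrthAut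
  Cfsg.Agent.Helper2.Orth

section sq

variable {F : Type*} [Field F] [Fintype F] {F₀ : Type*} [Field F₀] [Fintype F₀]

/-- every element of the subfield of index two is a square -/
theorem isSquare_map_of_sq {q : ℕ} (hF : Fintype.card F = q ^ 2) (hF₀ : Fintype.card F₀ = q)
    (j : F₀ →+* F) (x : F₀) : IsSquare (j x) := by
  by_cases h : ∃ z : F₀, z ^ 2 = x
  · obtain ⟨z, rfl⟩ := h
    exact ⟨j z, by rw [map_pow, pow_two]⟩
  · obtain ⟨t, ht⟩ := Cfsg.Agent.Helper17.exists_root_quadratic hF hF₀ j 0 (-x) (by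
      intro z hz
      apply h
      refine ⟨z, ?_⟩
      linear_combination hz)
    refine ⟨t, ?_⟩
    rw [map_zero, map_neg] at ht
    linear_combination -ht

end sq

section prod

variable {F : Type*} [Field F] {ι : Type} [Fintype ι] [DecidableEq ι]
  (Q : QuadraticForm F (ι → F))

theorem det_prod_tG (vs : List (ι → F)) (hvs : ∀ v ∈ vs, Q v ≠ 0) :
    ((((vs.map (tG Q)).prod : ↥(Cfsg.isometryGroup F (⇑Q))) : GL ι F) : Matrix ι ι F).det =
      (-1) ^ vs.length := by
  induction vs with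
  | nil =>
    simp only [List.map_nil, List.prod_nil, List.length_nil, pow_zero]
    show (1 : Matrix ι ι F).det = 1
    exact Matrix.det_one
  | cons v vs ih =>
    have hv : Q v ≠ 0 := hvs v List.mem_cons_self
    have ih' := ih (fun u hu => hvs u (List.mem_cons_of_mem _ hu))
    rw [List.map_cons, List.prod_cons, Subgroup.coe_mul, Units.val_mul, Matrix.det_mul, ih',
      tG_coe _ hv, det_reflectionMatrix _ hv, List.length_cons, pow_succ]
    ring

end prod

section rot

variable {F : Type*} {F₀ : Type*} [Field F] [Fintype F] [Field F₀] [Fintype F₀]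
  {ι : Type} [Fintype ι] [DecidableEq ι] (j : F₀ →+* F) (M₀ : Matrix ι ι F₀)

/-- the base change of a product of reflections, as an element of the isometry group -/
theorem map_prod_tG_eq (vs : List (ι → F₀)) (hvs : ∀ v ∈ vs, matQ M₀ v ≠ 0) :
    (((vs.map (fun v => fun i => j (v i))).map (tG (matQ (M₀.map j)))).prod :
      ↥(Cfsg.isometryGroup F (⇑(matQ (M₀.map j))))) =
      (Matrix.GeneralLinearGroup.map (n := ι) j
        (((vs.map (tG (matQ M₀))).prod : ↥(Cfsg.isometryGroup F₀ (⇑(matQ M₀)))) : GL ι F₀) :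
          GL ι F) := by
  have hvs' : ∀ w ∈ vs.map (fun v => fun i => j (v i)), matQ (M₀.map j) w ≠ 0 := by
    intro w hw
    obtain ⟨v, hv, rfl⟩ := List.mem_map.1 hw
    rw [matQ_map_hom]
    intro h0
    rw [map_eq_zero] at h0
    exact hvs v hv h0
  apply Units.ext
  apply Matrix.toLin'.injective
  rw [map_coe_GL, toLin'_map_prod_tG j M₀ vs hvs, ← toEnd_prod_tG _ _ hvs']
  rfl

/-- a rotation over the small field lies in `Ω` over the large field when all elements of the
small field become squares -/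
theorem map_special_mem_omegaGL (h2 : (2 : F) ≠ 0)
    (hQ₀ : (polarBilin (matQ M₀)).Nondegenerate)
    (hQ : (polarBilin (matQ (M₀.map j))).Nondegenerate)
    (hex₀ : Fintype.card F₀ ≠ 2 ∨ Fintype.card ι ≠ 4)
    (hsq : ∀ x : F₀, IsSquare (j x)) (o₀ : GL ι F₀)
    (ho₀ : o₀ ∈ Cfsg.specialIsometryGL F₀ (⇑(matQ M₀))) :
    Matrix.GeneralLinearGroup.map (n := ι) j o₀ ∈ Geo.omegaGL (⇑(matQ (M₀.map j))) := by
  obtain ⟨hiso, hdet⟩ := (mem_special_iff' _ _).1 ho₀
  obtain ⟨vs, hvs, hprod⟩ := exists_prod_tG (matQ M₀) hQ₀ hex₀ ⟨o₀, hiso⟩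
  have hvs' : ∀ w ∈ vs.map (fun v => fun i => j (v i)), matQ (M₀.map j) w ≠ 0 := by
    intro w hw
    obtain ⟨v, hv, rfl⟩ := List.mem_map.1 hw
    rw [matQ_map_hom]
    intro h0
    rw [map_eq_zero] at h0
    exact hvs v hv h0
  have h2₀ : (2 : F₀) ≠ 0 := by
    intro h
    apply h2
    have := congrArg j h
    rwa [map_ofNat, map_zero] at this
  have hlen : Even vs.length := by
    have h3 := det_prod_tG (matQ M₀) vs hvs
    rw [← hprod] at h3
    have h4 : ((⟨o₀, hiso⟩ : ↥(Cfsg.isometryGroup F₀ (⇑(matQ M₀)))) : GL ι F₀) = o₀ := rfl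
    rw [h4, hdet] at h3
    by_contra hodd
    rw [Nat.not_even_iff_odd] at hodd
    rw [hodd.neg_one_pow] at h3
    apply h2₀
    linear_combination h3
  have hcoe := map_prod_tG_eq j M₀ vs hvs
  rw [← hprod] at hcoe
  have h4 : ((⟨o₀, hiso⟩ : ↥(Cfsg.isometryGroup F₀ (⇑(matQ M₀)))) : GL ι F₀) = o₀ := rfl
  rw [h4] at hcoe
  rw [Cfsg.Agent.Helper17.OmegaElts.mem_omegaGL_iff]
  refine ⟨_, ?_, hcoe⟩
  rw [mem_commutator_iff (matQ (M₀.map j)) h2 hQ _ _ hvs' (toEnd_prod_tG _ _ hvs')]
  refine ⟨by rw [List.length_map]; exact hlen, ?_⟩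
  have h5 : ((vs.map (fun v => fun i => j (v i))).map (matQ (M₀.map j))).prod =
      j ((vs.map (matQ M₀)).prod) := by
    rw [map_list_prod, List.map_map, List.map_map]
    congr 1
    apply List.map_congr_left
    intro v _
    exact matQ_map_hom j M₀ v
  rw [h5]
  exact hsq _

end rot

end Cfsg.Agent.Helper17.OrthFA
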