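import Mathlib
import Cfsg.Agent.Lib.Helper17.OrthOut6
import Cfsg.Agent.Lib.Helper2.OrthPOmega

set_option autoImplicit false
set_option linter.unusedSectionVars false
set_option linter.unusedSimpArgs false

/-!
# Odd dimension: the image of the similarity group (helper17)
-/

namespace Cfsg.Agent.Helper17.OrthOut

open QuadraticMap Matrix Cfsg.Agent.Helper2.Orth Cfsg.Agent.Helper17.OrthAut
  Cfsg.Agent.Helper17.Spinor

variable {F : Type*} [Field F] [Fintype F] {ι : Type} [Fintype ι] [DecidableEq ι]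
  {Q : QuadraticForm F (ι → F)}

section odd
variable {i₁ j₁ i₂ j₂ : ι} (h2 : (2 : F) ≠ 0) (hQ : (polarBilin Q).Nondegenerate)
  (h : TwoHyp Q i₁ j₁ i₂ j₂) {m : ℕ} (hn : Fintype.card ι = 2 * m + 1)
include h2 hQ h hn

/-- in odd dimension every similarity is a scalar times a special isometry -/
theorem PG_eq_PSO_of_odd : ConfAut.PG Q = ConfAut.PSO Q := by
  apply le_antisymm _ (le_trans (ConfAut.PSO_le_PO Q) (ConfAut.PO_le_PG Q))
  rintro _ ⟨g, rfl⟩
  obtain ⟨c, hc0, hc⟩ := ConfAut.exists_isMult g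
  apply (ConfAut.Phi_mem_SO_iff h2 hQ h g hc).2
  have hdet := hc.det_sq hQ
  rw [hn] at hdet
  obtain ⟨d, hd⟩ : ∃ d, d = ((g : GL ι F) : Matrix ι ι F).det := ⟨_, rfl⟩
  rw [← hd] at hdet
  have hcm : c ^ m ≠ 0 := pow_ne_zero _ hc0
  have h1 : c = (d / c ^ m) ^ 2 := by
    rw [div_pow, hdet, pow_succ, ← pow_mul, mul_comm m 2]
    field_simp
  refine ⟨d / c ^ m, h1, ?_⟩
  rw [hn, ← hd, pow_succ, pow_mul, ← h1]
  field_simp

/-- the special isometries act faithfully, in odd dimension -/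
theorem card_PSO_of_odd :
    Nat.card (ConfAut.PSO Q) = Nat.card (Cfsg.specialIsometryGL F (⇑Q)) := by
  let f' : ↥(Cfsg.specialIsometryGL F (⇑Q)) →* MulAut (Cfsg.POmega F (⇑Q)) :=
    (ConfAut.Phi (⇑Q)).comp (Subgroup.inclusion (ConfAut.specialIsometryGL_le_GO (⇑Q)))
  have hrange : f'.range = ConfAut.PSO Q := by
    ext α
    constructor
    · rintro ⟨x, rfl⟩
      exact ⟨Subgroup.inclusion (ConfAut.specialIsometryGL_le_GO (⇑Q)) x, x.2, rfl⟩
    · rintro ⟨k, hk, rfl⟩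
      exact ⟨⟨k.1, hk⟩, rfl⟩
  have hinj : Function.Injective f' := by
    intro x y hxy
    have h1 : ConfAut.Phi (⇑Q) (Subgroup.inclusion (ConfAut.specialIsometryGL_le_GO (⇑Q)) x) =
        ConfAut.Phi (⇑Q) (Subgroup.inclusion (ConfAut.specialIsometryGL_le_GO (⇑Q)) y) := hxy
    rw [ConfAut.Phi_eq_iff h2 hQ h, ConfAut.mem_scalars_iff'] at h1
    obtain ⟨a, ha⟩ := h1
    have ha' : (x : GL ι F)⁻¹ * (y : GL ι F) = ConfAut.scalarGL a := ha
    have hz : (x : GL ι F)⁻¹ * (y : GL ι F) ∈ Cfsg.specialIsometryGL F (⇑Q) :=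
      Subgroup.mul_mem _ (Subgroup.inv_mem _ x.2) y.2
    rw [ha'] at hz
    unfold Cfsg.specialIsometryGL at hz
    rw [Subgroup.mem_inf] at hz
    obtain ⟨hz1, hz2⟩ := hz
    have hv := ConfAut.exists_Q_ne_zero h2 hQ h
    have h3 : (1 : F) = (a : F) ^ 2 :=
      ConfAut.IsMult.unique hv (ConfAut.isMult_one_iff.2 hz1) (ConfAut.isMult_scalarGL a)
    have h4 : (a : F) ^ Fintype.card ι = 1 := by
      rw [← ConfAut.det_scalarGL]
      have h5 : Matrix.GeneralLinearGroup.det (ConfAut.scalarGL a : GL ι F) = 1 := hz2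
      have := congrArg Units.val h5
      simpa using this
    rw [hn, pow_succ, pow_mul, ← h3, one_pow, one_mul] at h4
    have ha1 : a = 1 := Units.ext h4
    rw [ha1] at ha'
    have h6 : (ConfAut.scalarGL (1 : Fˣ) : GL ι F) = 1 := map_one _
    rw [h6, inv_mul_eq_one] at ha'
    exact Subtype.ext ha'
  rw [← hrange]
  exact (Nat.card_congr (MonoidHom.ofInjective hinj).toEquiv).symm

theorem card_special_mul_two :
    Nat.card (Cfsg.specialIsometryGL F (⇑Q)) * 2 = Nat.card (Cfsg.isometryGroup F (⇑Q)) := by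
  obtain ⟨u, hu⟩ := ConfAut.exists_Q_ne_zero h2 hQ h
  rw [ConfAut.specialIsometryGL_eq_map,
    Subgroup.card_map_of_injective (Subgroup.subtype_injective _), ← index_special Q h2 hQ hu,
    Subgroup.card_mul_index]

end odd

end Cfsg.Agent.Helper17.OrthOut
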