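import Mathlib
import Cfsg.Agent.Lib.Helper17.OrthOut7
import Cfsg.Agent.Lib.Helper2.OrthFrames3

set_option autoImplicit false
set_option linter.unusedSectionVars false
set_option linter.unusedSimpArgs false

/-!
# The standard odd-dimensional form: order of the automorphism group (helper17)
-/

namespace Cfsg.Agent.Helper17.OrthOut

open QuadraticMap Matrix Cfsg.Agent.Helper2.Orth Cfsg.Agent.Helper17.OrthAut
  Cfsg.Agent.Helper17.Spinor Cfsg.Agent.Helper13

variable {F : Type*} [Field F] [Fintype F]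

theorem card_oddIdx (m : ℕ) : Fintype.card (Unit ⊕ (Fin m ⊕ Fin m)) = 2 * m + 1 := by
  simp only [Fintype.card_sum, Fintype.card_fin, Fintype.card_unit]
  omega

theorem good_odd (h2 : (2 : F) ≠ 0) (k : ℕ) : Good (matQ (oddMat (k + 3) F)) where
  nondeg := nondeg_odd (k + 3) h2
  hex := by
    right
    rw [card_oddIdx]
    omega
  frame := ⟨_, _, hypFrame_odd k⟩
  hmax := noBigMax_of_odd (nondeg_odd (k + 3) h2) ⟨k + 3, card_oddIdx _⟩

/-- the field automorphisms act on the standard odd form -/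
theorem isSemisim_odd (m : ℕ) (σ : F ≃+* F) :
    Cfsg.IsSemisimilarityPair (⇑(matQ (oddMat m F))) (1 : GL _ F) σ := by
  refine ⟨1, fun v => ?_⟩
  rw [Units.val_one, Matrix.one_mulVec, matQ_oddMat, matQ_oddMat, Units.val_one, one_mul,
    map_add, map_pow, map_sum]
  simp only [map_mul]

theorem card_mulAut_odd (h2 : (2 : F) ≠ 0) (k : ℕ) :
    Nat.card (MulAut (Cfsg.POmega F (⇑(matQ (oddMat (k + 3) F))))) =
      2 * Nat.card (RingAut F) * Nat.card (Cfsg.POmega F (⇑(matQ (oddMat (k + 3) F)))) := by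
  have G := good_odd (F := F) h2 k
  have hQ := nondeg_odd (F := F) (k + 3) h2
  have hT : TwoHyp (matQ (oddMat (k + 3) F)) (Sum.inr (Sum.inl 0)) (Sum.inr (Sum.inr 0))
      (Sum.inr (Sum.inl 1)) (Sum.inr (Sum.inr 1)) := twoHyp_odd (k + 1)
  have hn := card_oddIdx (k + 3)
  rw [G.card_mulAut (fun σ => ⟨1, isSemisim_odd (k + 3) σ⟩), PG_eq_PSO_of_odd h2 hQ hT hn,
    card_PSO_of_odd h2 hQ hT hn]
  have h3 := card_special_mul_two h2 hQ hT hn
  have hno : (∃ g : Cfsg.isometryGroup F (⇑(matQ (oddMat (k + 3) F))),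
      g ∈ Cfsg.Omega F (⇑(matQ (oddMat (k + 3) F))) ∧ g.1.1 = -1) ↔ False := by
    rw [iff_false]
    rintro ⟨g, hg, hg1⟩
    have hs := Cfsg.Agent.Helper17.Spinor.Omega_le_special _ hg
    have hdet : Matrix.GeneralLinearGroup.det g.1 = 1 := hs
    have hdet' : (g.1.1).det = 1 := by
      have := congrArg Units.val hdet
      simpa using this
    rw [hg1, Matrix.det_neg, Matrix.det_one, mul_one, hn] at hdet'
    have : (-1 : F) ^ (2 * (k + 3) + 1) = -1 := by
      rw [pow_succ, pow_mul]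
      simp
    rw [this] at hdet'
    apply h2
    linear_combination -hdet'
  have : Nonempty (Unit ⊕ (Fin (k + 3) ⊕ Fin (k + 3))) := ⟨Sum.inl ()⟩
  have key := card_POmega_of_odd hQ hT h2 (by rw [hn]; omega) False hno
  rw [if_neg not_false] at key
  have h4 : Nat.card (Cfsg.specialIsometryGL F (⇑(matQ (oddMat (k + 3) F)))) =
      2 * Nat.card (Cfsg.POmega F (⇑(matQ (oddMat (k + 3) F)))) := by
    omega
  rw [h4]
  ring

end Cfsg.Agent.Helper17.OrthOut
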