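import Mathlib
import Cfsg.Agent.Lib.Helper17.OrthFA5
import Cfsg.Agent.Lib.Helper17.OrthOut8

set_option autoImplicit false
set_option linter.unusedSectionVars false
set_option linter.unusedSimpArgs false
set_option linter.unusedVariables false

/-!
# Field automorphisms of the odd-dimensional orthogonal groups: the coset theorem (helper17)
-/

namespace Cfsg.Agent.Helper17.OrthFA

open Cfsg Matrix Cfsg.Agent.Helper13 Cfsg.Agent.Helper2.Orth Cfsg.Agent.Helper17.OrthOut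
  Cfsg.Agent.Helper17

theorem oddMat_map {F : Type*} [Field F] (m : ℕ) (σ : F ≃+* F) :
    (oddMat m F).map σ = oddMat m F := by
  ext i j
  rcases i with i | i | i <;> rcases j with j | j | j <;>
    simp [oddMat, plusMat, Matrix.one_apply, apply_ite]

theorem odd_aux {F : Type*} [Field F] [Fintype F] (h2 : (2 : F) ≠ 0) (k : ℕ)
    (Q' : (Unit ⊕ (Fin (k + 3) ⊕ Fin (k + 3)) → F) → F)
    (hQ' : Q' = ⇑(matQ (oddMat (k + 3) F)))
    (x δ : MulAut (POmega F Q')) (hx : IsFieldAutClassPOmega Q' x) {r : ℕ} (hr : r.Prime)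
    (hxr : orderOf x = r) (hδ : δ ∈ Cfsg.pgoAut F Q') :
    orderOf (δ * x) = r ↔ IsConjUnder (pgoAut F Q') x (δ * x) := by
  subst hQ'
  have G := good_odd h2 k
  obtain ⟨α, φ, σ, hσ1, hφ, hαx⟩ := hx
  have hM := oddMat_map (k + 3) σ
  have h1 := isSemisim_fixed hM
  have hφ' := fieldAut_eq_stdAut h1 hφ
  have hker : Cfsg.pgoAut F (⇑(matQ (oddMat (k + 3) F))) = G.fieldHom.ker := by
    rw [ConfAut.pgoAut_eq, G.ker_fieldHom]
  rw [hker] at hδ ⊢
  have hdet : (oddMat (k + 3) F + (oddMat (k + 3) F)ᵀ).det ≠ 0 := by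
    rw [oddMat_det]
    exact mul_ne_zero h2 (pow_ne_zero _ (neg_ne_zero.2 one_ne_zero))
  have hcard : Odd (Fintype.card (Unit ⊕ (Fin (k + 3) ⊕ Fin (k + 3)))) := by
    rw [card_oddIdx]
    exact ⟨k + 3, rfl⟩
  exact coset_conj G hr hσ1 (fun hσr => ⟨hr.pos, hσr, hdesc_odd h2 hcard σ _ hM hdet⟩)
    G.fieldHom.ker le_rfl h1 (fun η hη => ⟨1, by rw [one_mul, mul_one], by rwa [mul_one]⟩)
    x δ α (hαx.trans hφ') hxr hδ

end Cfsg.Agent.Helper17.OrthFA
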