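import Mathlib
import Cfsg.Agent.Lib.Helper17.OrthFA40
import Cfsg.Agent.Lib.Helper17.OrthFA6
import Cfsg.Agent.Lib.Helper2.Psln23

set_option autoImplicit false
set_option linter.unusedSectionVars false
set_option linter.unusedSimpArgs false
set_option linter.unusedVariables false

/-!
# Odd dimension: the image of `Ω` in the image of `SO`, and counting classes (helper17)
-/

namespace Cfsg.Agent.Helper17.OrthFA

open QuadraticMap Matrix Module Cfsg.Agent.Helper13 Cfsg.Agent.Helper17.OrthOut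
  Cfsg.Agent.Helper17.Spinor Cfsg.Agent.Helper17.ConfAut Cfsg.Agent.Helper17.OrthAut
  Cfsg.Agent.Helper2.Orth

section odddim

variable {F : Type*} [Field F] [Fintype F] {ι : Type} [Fintype ι] [DecidableEq ι]
  {Q : QuadraticForm F (ι → F)} {i₁ j₁ i₂ j₂ : ι}

theorem Phi_mem_POm_iff_of_odd (h2 : (2 : F) ≠ 0) (hQ : (polarBilin Q).Nondegenerate)
    (h : TwoHyp Q i₁ j₁ i₂ j₂) (hcard : Odd (Fintype.card ι)) (k : ↥(GO (⇑Q)))
    (hk : (k : GL ι F) ∈ Cfsg.specialIsometryGL F (⇑Q)) :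
    Phi (⇑Q) k ∈ ConfAut.POm Q ↔ (k : GL ι F) ∈ Geo.omegaGL (⇑Q) := by
  have hk1 : IsMult Q (k : GL ι F) 1 := isMult_one_iff.2 ((mem_special_iff' _ _).1 hk).1
  rw [Phi_mem_POm_iff h2 hQ h k hk1]
  constructor
  · rintro (h' | h')
    · exact h'
    · exfalso
      have h3 := omegaGL_le_special Q h'
      have h4 := ((mem_special_iff' _ _).1 h3).2
      rw [Units.val_mul, Matrix.det_mul, ((mem_special_iff' _ _).1 hk).2, one_mul,
        det_scalarGL, Units.val_neg, Units.val_one, hcard.neg_one_pow] at h4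
      apply h2
      linear_combination -h4
  · exact Or.inl

theorem relIndex_POm_PSO_of_odd (h2 : (2 : F) ≠ 0) (hQ : (polarBilin Q).Nondegenerate)
    (h : TwoHyp Q i₁ j₁ i₂ j₂) (hcard : Odd (Fintype.card ι)) :
    (ConfAut.POm Q).relIndex (ConfAut.PSO Q) = 2 := by
  have hn : 2 ≤ Fintype.card ι := by
    have h1 : Fintype.card ι ≠ 1 := by
      intro h1
      have h3 : ∀ a b : ι, a = b := fun a b => Fintype.card_le_one_iff.1 h1.le a b
      exact h.ne1 (h3 _ _)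
    obtain ⟨n, hn⟩ := hcard
    omega
  have hidx := relIndex_omegaGL h2 hQ hn
  obtain ⟨s₀, hs₀, hs₀'⟩ : ∃ s₀ ∈ Cfsg.specialIsometryGL F (⇑Q), s₀ ∉ Geo.omegaGL (⇑Q) := by
    by_contra hcon
    push Not at hcon
    have : (Geo.omegaGL (⇑Q)).relIndex (Cfsg.specialIsometryGL F (⇑Q)) = 1 :=
      Subgroup.relIndex_eq_one.2 hcon
    omega
  rw [Subgroup.relIndex_eq_two_iff]
  have hs₀G : s₀ ∈ GO (⇑Q) := specialIsometryGL_le_GO (⇑Q) hs₀
  have hs₀m : (⟨s₀, hs₀G⟩ : ↥(GO (⇑Q))) ∈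
      (Cfsg.specialIsometryGL F (⇑Q)).subgroupOf (GO (⇑Q)) := by
    rw [Subgroup.mem_subgroupOf]; exact hs₀
  refine ⟨Phi (⇑Q) ⟨s₀, hs₀G⟩, ⟨_, hs₀m, rfl⟩, ?_⟩
  rintro _ ⟨k, hk, rfl⟩
  rw [SetLike.mem_coe, Subgroup.mem_subgroupOf] at hk
  have hks : ((k * ⟨s₀, hs₀G⟩ : ↥(GO (⇑Q))) : GL ι F) ∈ Cfsg.specialIsometryGL F (⇑Q) := by
    rw [Subgroup.coe_mul]
    exact Subgroup.mul_mem _ hk hs₀
  rw [← map_mul, Phi_mem_POm_iff_of_odd h2 hQ h hcard _ hks,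
    Phi_mem_POm_iff_of_odd h2 hQ h hcard _ hk, Subgroup.coe_mul]
  rw [mul_mem_iff_of_relIndex_two hidx hk hs₀]
  by_cases hkO : (k : GL ι F) ∈ Geo.omegaGL (⇑Q)
  · exact Or.inr ⟨hkO, fun hc => hs₀' (hc.1 hkO)⟩
  · exact Or.inl ⟨⟨fun hc => absurd hc hkO, fun hc => absurd hc hs₀'⟩, hkO⟩

theorem relIndex_inn_PG_of_odd (h2 : (2 : F) ≠ 0) (hQ : (polarBilin Q).Nondegenerate)
    (h : TwoHyp Q i₁ j₁ i₂ j₂) (hcard : Odd (Fintype.card ι)) :
    (Cfsg.Inn (Cfsg.POmega F (⇑Q))).relIndex (ConfAut.PG Q) = 2 := by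
  rw [inn_eq, PG_eq_PSO_of_odd hQ hcard]
  exact relIndex_POm_PSO_of_odd h2 hQ h hcard

end odddim

section count

variable {F : Type*} [Field F] [Fintype F] {ι : Type} [Fintype ι] [DecidableEq ι]
  {Q : QuadraticForm F (ι → F)}

/-- if the centralizer of `x` in the image of the similarity group consists of inner
automorphisms, the class of `x` splits into as many classes as the index of the inner
automorphisms -/
theorem count_eq_relIndex_of_le (x : MulAut (Cfsg.POmega F (⇑Q)))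
    (hC : ∀ g : ↥(GO (⇑Q)), Phi (⇑Q) g * x = x * Phi (⇑Q) g →
      Phi (⇑Q) g ∈ Cfsg.Inn (Cfsg.POmega F (⇑Q))) :
    Cfsg.splitClassCount (ConfAut.PG Q) (Cfsg.Inn (Cfsg.POmega F (⇑Q))) x =
      (Cfsg.Inn (Cfsg.POmega F (⇑Q))).relIndex (ConfAut.PG Q) := by
  have hn : (Cfsg.Inn (Cfsg.POmega F (⇑Q))).Normal := inn_normal _
  have hle : Cfsg.Inn (Cfsg.POmega F (⇑Q)) ≤ (Phi (⇑Q)).range := by
    rw [inn_eq]
    rintro _ ⟨g, -, rfl⟩
    exact ⟨g, rfl⟩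
  have h1 := Cfsg.Agent.Helper2.PN.splitClassCount_eq_index (Phi (⇑Q))
    (Cfsg.Inn (Cfsg.POmega F (⇑Q))) hle x
  have h2 : (Subgroup.centralizer {x}).comap (Phi (⇑Q)) ≤
      (Cfsg.Inn (Cfsg.POmega F (⇑Q))).comap (Phi (⇑Q)) := by
    intro g hg
    rw [Subgroup.mem_comap, Subgroup.mem_centralizer_singleton_iff] at hg
    exact hC g hg
  rw [sup_eq_left.2 h2, Subgroup.index_comap] at h1
  exact h1

end count

end Cfsg.Agent.Helper17.OrthFA
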