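import Mathlib
import Cfsg.Agent.Lib.Helper17.OrthFA41

set_option autoImplicit false
set_option linter.unusedSectionVars false
set_option linter.unusedSimpArgs false
set_option linter.unusedVariables false

/-!
# Centralizers of field automorphisms of the odd-dimensional orthogonal groups (helper17)
-/

namespace Cfsg.Agent.Helper17.OrthFA

open QuadraticMap Matrix Module Cfsg.Agent.Helper13 Cfsg.Agent.Helper17.OrthOut
  Cfsg.Agent.Helper17.Spinor Cfsg.Agent.Helper17.ConfAut Cfsg.Agent.Helper17.OrthAut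
  Cfsg.Agent.Helper2.Orth

universe u v

theorem oddMat_map_hom {F₀ F : Type*} [Field F₀] [Field F] (j : F₀ →+* F) (m : ℕ) :
    (oddMat m F₀).map j = oddMat m F := by
  ext i l
  rcases i with i | i | i <;> rcases l with l | l | l <;>
    simp [oddMat, plusMat, Matrix.one_apply, apply_ite]

section aux

variable {F : Type*} [Field F] [Fintype F] {F₀ : Type*} [Field F₀] [Fintype F₀]

theorem odd_cent_aux (k : ℕ) (j : F₀ →+* F) (σ : F ≃+* F)
    (hfix : ∀ x, σ x = x → ∃ a, j a = x) (hjfix : ∀ a, σ (j a) = j a)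
    (h2 : (2 : F) ≠ 0)
    (M : Matrix (Unit ⊕ (Fin (k + 3) ⊕ Fin (k + 3))) (Unit ⊕ (Fin (k + 3) ⊕ Fin (k + 3))) F)
    (hM : (oddMat (k + 3) F₀).map j = M) (G : Good (matQ M)) {r : ℕ} (hr : 0 < r)
    (hord : orderOf σ = r)
    (h1 : Cfsg.IsSemisimilarityPair (⇑(matQ M))
      (1 : GL (Unit ⊕ (Fin (k + 3) ⊕ Fin (k + 3))) F) σ) :
    Nonempty (↥(ConfAut.PG (matQ M) ⊓ Subgroup.centralizer {stdAut h1}) ≃*
      ↥(ConfAut.PG (matQ (oddMat (k + 3) F₀)))) ∧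
    (Odd r → ∀ h ∈ ConfAut.PG (matQ M), ∃ k' ∈ ConfAut.POm (matQ M),
      ∃ c : MulAut (Cfsg.POmega F (⇑(matQ M))), c * stdAut h1 = stdAut h1 * c ∧ h = k' * c) ∧
    ((∀ x : F₀, IsSquare (j x)) → ∀ g : ↥(GO (⇑(matQ M))),
      Phi (⇑(matQ M)) g * stdAut h1 = stdAut h1 * Phi (⇑(matQ M)) g →
      Phi (⇑(matQ M)) g ∈ ConfAut.POm (matQ M)) := by
  classical
  subst hM
  have h2₀ : (2 : F₀) ≠ 0 := by
    intro h
    apply h2
    have := congrArg j h
    rwa [map_ofNat, map_zero] at this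
  have G₀ := good_odd h2₀ k
  have hcardo : Odd (Fintype.card (Unit ⊕ (Fin (k + 3) ⊕ Fin (k + 3)))) := by
    rw [card_oddIdx]
    exact ⟨k + 3, rfl⟩
  have hM' : ((oddMat (k + 3) F₀).map j).map σ = (oddMat (k + 3) F₀).map j := by
    ext i l
    simp only [Matrix.map_apply]
    exact hjfix _
  refine ⟨?_, ?_, ?_⟩
  · have key := centralizer_equiv j (oddMat (k + 3) F₀) σ hjfix G G₀ hr hord h1
      (GO (⇑(matQ (oddMat (k + 3) F₀)))) (GO (⇑(matQ ((oddMat (k + 3) F₀).map j))))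
      le_rfl le_rfl (fun a => scalarGL_mem_GO a) (hup_GO j _)
      (hdown_GO j _ σ hfix G₀.exists_Q_ne_zero)
    rw [Subgroup.subgroupOf_self, Subgroup.subgroupOf_self, ← MonoidHom.range_eq_map,
      ← MonoidHom.range_eq_map] at key
    exact key
  · intro hodd
    rw [PG_eq_PSO_of_odd G.nondeg hcardo]
    have hchar : ringChar F₀ ≠ 2 := by
      intro h
      have : CharP F₀ 2 := ringChar.of_eq h
      exact h2₀ CharTwo.two_eq_zero
    obtain ⟨lam₀, hlam₀⟩ := FiniteField.exists_nonsquare hchar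
    have hlam₀0 : lam₀ ≠ 0 := by
      rintro rfl
      exact hlam₀ ⟨0, by ring⟩
    have hσr : (σ : RingAut F) ^ r = 1 := by
      rw [← hord]
      exact pow_orderOf_eq_one σ
    have hjlam : ¬ IsSquare (j lam₀) := nonsquare_map j σ hfix hjfix h2 hodd hσr hlam₀
    obtain ⟨u₀, hu₀⟩ : ∃ u₀ : Unit ⊕ (Fin (k + 3) ⊕ Fin (k + 3)) → F₀,
        u₀ = Pi.single (Sum.inl ()) 1 := ⟨_, rfl⟩
    obtain ⟨v₀, hv₀⟩ : ∃ v₀ : Unit ⊕ (Fin (k + 3) ⊕ Fin (k + 3)) → F₀,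
        v₀ = Pi.single (Sum.inr (Sum.inl 0)) 1 + Pi.single (Sum.inr (Sum.inr 0)) lam₀ :=
      ⟨_, rfl⟩
    have hQu₀ : matQ (oddMat (k + 3) F₀) u₀ = 1 := by
      rw [hu₀, matQ_oddMat]
      simp
    have hQv₀ : matQ (oddMat (k + 3) F₀) v₀ = lam₀ := by
      rw [hv₀, matQ_oddMat]
      simp [Pi.single_apply, Finset.sum_ite_eq']
    have hQu : matQ ((oddMat (k + 3) F₀).map j) (fun i => j (u₀ i)) = 1 := by
      rw [matQ_map_hom, hQu₀, map_one]
    have hQv : matQ ((oddMat (k + 3) F₀).map j) (fun i => j (v₀ i)) = j lam₀ := by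
      rw [matQ_map_hom, hQv₀]
    have hjlam0 : j lam₀ ≠ 0 := by
      intro h
      rw [map_eq_zero] at h
      exact hlam₀0 h
    have hn : 2 ≤ Fintype.card (Unit ⊕ (Fin (k + 3) ⊕ Fin (k + 3))) := by
      rw [card_oddIdx]
      omega
    have hcov := cover_SO h2 G.nondeg hn hM' h1
      (fun i => j (u₀ i)) (fun i => j (v₀ i)) (fun i => hjfix _) (fun i => hjfix _)
      (by rw [hQu]; exact one_ne_zero) (by rw [hQv]; exact hjlam0)
      (by rw [hQu, hQv, one_mul]; exact hjlam)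
    intro h hh
    obtain ⟨k', hk', c, -, hc, e⟩ := hcov h hh
    exact ⟨k', hk', c, hc, e⟩
  · intro hsq g hcomm
    obtain ⟨d, hd0, hd⟩ := exists_fixed_of_commute G hr hord h1 g hcomm
    obtain ⟨g', hg'⟩ : ∃ g' : GL (Unit ⊕ (Fin (k + 3) ⊕ Fin (k + 3))) F,
        g' = scalarGL (Units.mk0 d hd0) * (g : GL _ F) := ⟨_, rfl⟩
    have hg'GO : g' ∈ GO (⇑(matQ ((oddMat (k + 3) F₀).map j))) := by
      rw [hg']
      exact Subgroup.mul_mem _ (scalarGL_mem_GO _) g.2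
    have hg'coe : (g' : Matrix (Unit ⊕ (Fin (k + 3) ⊕ Fin (k + 3)))
        (Unit ⊕ (Fin (k + 3) ⊕ Fin (k + 3))) F) =
        d • ((g : GL (Unit ⊕ (Fin (k + 3) ⊕ Fin (k + 3))) F) :
          Matrix (Unit ⊕ (Fin (k + 3) ⊕ Fin (k + 3))) (Unit ⊕ (Fin (k + 3) ⊕ Fin (k + 3))) F) := by
      rw [hg', Units.val_mul, scalarGL_coe, Units.val_mk0, Matrix.smul_mul, Matrix.one_mul]
    obtain ⟨g₀, hg₀, hJg₀⟩ := hdown_GO j (oddMat (k + 3) F₀) σ hfix G₀.exists_Q_ne_zero g' hg'GO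
      (by rw [hg'coe]; exact hd)
    obtain ⟨a₀, o₀, ho₀, hgo₀⟩ := exists_scalar_mul_special G₀.nondeg hcardo g₀ hg₀
    have hJo₀ := map_special_mem_omegaGL j (oddMat (k + 3) F₀) h2 G₀.nondeg G.nondeg G₀.hex hsq
      o₀ ho₀
    have hJo₀GO := omegaGL_le_GO _ hJo₀
    have e : g = (⟨scalarGL ((Units.mk0 d hd0)⁻¹ * Units.map (j : F₀ →* F) a₀),
        scalarGL_mem_GO _⟩ : ↥(GO (⇑(matQ ((oddMat (k + 3) F₀).map j))))) *
        ⟨_, hJo₀GO⟩ := by
      apply Subtype.ext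
      show (g : GL _ F) = scalarGL ((Units.mk0 d hd0)⁻¹ * Units.map (j : F₀ →* F) a₀) *
        Matrix.GeneralLinearGroup.map (n := Unit ⊕ (Fin (k + 3) ⊕ Fin (k + 3))) j o₀
      have e1 : Matrix.GeneralLinearGroup.map (n := Unit ⊕ (Fin (k + 3) ⊕ Fin (k + 3))) j g₀ =
          scalarGL (Units.map (j : F₀ →* F) a₀) *
          Matrix.GeneralLinearGroup.map (n := Unit ⊕ (Fin (k + 3) ⊕ Fin (k + 3))) j o₀ := by
        rw [hgo₀, map_mul, map_scalarGL]
      have e2 : (scalarGL ((Units.mk0 d hd0)⁻¹ * Units.map (j : F₀ →* F) a₀) :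
          GL (Unit ⊕ (Fin (k + 3) ⊕ Fin (k + 3))) F) =
          (scalarGL (Units.mk0 d hd0))⁻¹ * scalarGL (Units.map (j : F₀ →* F) a₀) := by
        unfold scalarGL
        rw [map_mul, map_inv]
      rw [e2, mul_assoc, ← e1, hJg₀, hg', inv_mul_cancel_left]
    rw [e, map_mul, Phi_of_scalar _ (scalarGL_mem _), one_mul]
    exact ⟨_, Subgroup.mem_subgroupOf.2 hJo₀, rfl⟩

end aux

end Cfsg.Agent.Helper17.OrthFA
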