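import Mathlib
import Cfsg.Agent.Lib.Helper17.OrthFA42

set_option autoImplicit false
set_option linter.unusedSectionVars false
set_option linter.unusedSimpArgs false
set_option linter.unusedVariables false

/-!
# Centralizers of field automorphisms of the odd-dimensional orthogonal groups: the theorem
(helper17)
-/

namespace Cfsg.Agent.Helper17.OrthFA

open QuadraticMap Matrix Module Cfsg.Agent.Helper13 Cfsg.Agent.Helper17.OrthOut
  Cfsg.Agent.Helper17.Spinor Cfsg.Agent.Helper17.ConfAut Cfsg.Agent.Helper17.OrthAut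
  Cfsg.Agent.Helper2.Orth

universe u v

theorem odd_cent_core {F : Type u} [Field F] [Fintype F] (h2 : (2 : F) ≠ 0) (k : ℕ)
    (x : MulAut (Cfsg.POmega F (⇑(matQ (oddMat (k + 3) F)))))
    (hx : Cfsg.IsFieldAutClassPOmega (⇑(matQ (oddMat (k + 3) F))) x)
    {r : ℕ} (hr : r.Prime) (hxr : orderOf x = r)
    {p f : ℕ} [Fact p.Prime] (hF : Fintype.card F = p ^ f)
    (F₀ : Type v) [Field F₀] [Fintype F₀] (hF₀ : Fintype.card F₀ = p ^ (f / r)) :
    r ∣ f ∧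
      Nonempty (↥(ConfAut.PG (matQ (oddMat (k + 3) F)) ⊓ Subgroup.centralizer {x}) ≃*
        ↥(ConfAut.PG (matQ (oddMat (k + 3) F₀)))) ∧
      (Odd r → Cfsg.splitClassCount (ConfAut.PG (matQ (oddMat (k + 3) F)))
        (Cfsg.Inn (Cfsg.POmega F (⇑(matQ (oddMat (k + 3) F))))) x = 1) ∧
      (r = 2 → Cfsg.splitClassCount (ConfAut.PG (matQ (oddMat (k + 3) F)))
        (Cfsg.Inn (Cfsg.POmega F (⇑(matQ (oddMat (k + 3) F))))) x = 2) := by
  classical
  have G := good_odd h2 k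
  obtain ⟨α, φ, σ, hσ1, hφ, hαx⟩ := hx
  have hM := oddMat_map (k + 3) σ
  have h1 := isSemisim_fixed hM
  have hφ' := fieldAut_eq_stdAut h1 hφ
  have hαx' : α * x * α⁻¹ = stdAut h1 := hαx.trans hφ'
  have hφr : orderOf (stdAut h1) = r := by
    rw [← hαx', orderOf_conj', hxr]
  have hσr : orderOf σ = r := by
    have h3 : orderOf (G.fieldHom (stdAut h1)) ∣ orderOf (stdAut h1) := orderOf_map_dvd _ _
    rw [G.fieldHom_stdAut, hφr] at h3
    rcases (Nat.dvd_prime hr).1 h3 with h4 | h4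
    · exfalso
      apply hσ1
      exact orderOf_eq_one_iff.1 h4
    · exact h4
  obtain ⟨hrf, j, hfix, hjfix⟩ := exists_desc hF σ hr hσr hF₀
  obtain ⟨⟨e2⟩, hcov, hsqC⟩ := odd_cent_aux k j σ hfix hjfix h2 (oddMat (k + 3) F)
    (oddMat_map_hom j (k + 3)) G hr.pos hσr h1
  have hPGn : (ConfAut.PG (matQ (oddMat (k + 3) F))).Normal := by
    rw [← G.ker_fieldHom]
    infer_instance
  have hInn : (Cfsg.Inn (Cfsg.POmega F (⇑(matQ (oddMat (k + 3) F))))).Normal := inn_normal _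
  have hcardo : Odd (Fintype.card (Unit ⊕ (Fin (k + 3) ⊕ Fin (k + 3)))) := by
    rw [card_oddIdx]
    exact ⟨k + 3, rfl⟩
  refine ⟨hrf, ?_, ?_, ?_⟩
  · have e1 := Cfsg.Agent.Helper2.PN.centralizerInfEquiv
      (ConfAut.PG (matQ (oddMat (k + 3) F))) α x
    rw [hαx'] at e1
    exact ⟨e1.trans e2⟩
  · intro hodd
    rw [← Cfsg.Agent.Helper2.PN.splitClassCount_conj _ _ α x, hαx']
    apply count_one_of_cover
    intro h hh
    obtain ⟨k', hk', c, hc, e⟩ := hcov hodd h hh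
    exact ⟨k', by rw [inn_eq]; exact hk', c, hc, e⟩
  · intro hr2
    subst hr2
    obtain ⟨c, hc⟩ := hrf
    have h5 : f / 2 = c := by omega
    rw [h5] at hF₀
    have hF' : Fintype.card F = (p ^ c) ^ 2 := by
      rw [hF, hc, ← pow_mul, mul_comm]
    have hsq : ∀ x : F₀, IsSquare (j x) := isSquare_map_of_sq hF' hF₀ j
    rw [← Cfsg.Agent.Helper2.PN.splitClassCount_conj _ _ α x, hαx',
      count_eq_relIndex_of_le _ (fun g hg => by rw [inn_eq]; exact hsqC hsq g hg),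
      relIndex_inn_PG_of_odd h2 G.nondeg (twoHyp_odd (k + 1)) hcardo]

theorem odd_cent_final {F : Type u} [Field F] [Fintype F] (h2 : (2 : F) ≠ 0) (k : ℕ)
    (Q' : (Unit ⊕ (Fin (k + 3) ⊕ Fin (k + 3)) → F) → F)
    (hQ' : Q' = ⇑(matQ (oddMat (k + 3) F)))
    (x : MulAut (Cfsg.POmega F Q')) (hx : Cfsg.IsFieldAutClassPOmega Q' x)
    {r : ℕ} (hr : r.Prime) (hxr : orderOf x = r)
    {p f : ℕ} [Fact p.Prime] (hF : Fintype.card F = p ^ f)
    (F₀ : Type v) [Field F₀] [Fintype F₀] (hF₀ : Fintype.card F₀ = p ^ (f / r))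
    (Q₀' : (Unit ⊕ (Fin (k + 3) ⊕ Fin (k + 3)) → F₀) → F₀)
    (hQ₀' : Q₀' = ⇑(matQ (oddMat (k + 3) F₀))) :
    r ∣ f ∧
      Nonempty (↥(Cfsg.pgoAut F Q' ⊓ Subgroup.centralizer {x}) ≃* ↥(Cfsg.pgoAut F₀ Q₀')) ∧
      (Odd r → Cfsg.splitClassCount (Cfsg.pgoAut F Q') (Cfsg.Inn (Cfsg.POmega F Q')) x = 1) ∧
      (r = 2 → Cfsg.splitClassCount (Cfsg.pgoAut F Q') (Cfsg.Inn (Cfsg.POmega F Q')) x = 2) := by
  subst hQ'
  subst hQ₀'
  rw [ConfAut.pgoAut_eq, ConfAut.pgoAut_eq]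
  exact odd_cent_core h2 k x hx hr hxr hF F₀ hF₀

end Cfsg.Agent.Helper17.OrthFA
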