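import Mathlib
import Cfsg.Agent.Lib.Helper17.OrthFA43
import Cfsg.Agent.Lib.Helper17.OrthFA28

set_option autoImplicit false
set_option linter.unusedSectionVars false
set_option linter.unusedSimpArgs false
set_option linter.unusedVariables false

/-!
# Transport of `PΩ(Q)` along a linear isometry between coordinate spaces on different index
types (helper17)
-/

namespace Cfsg.Agent.Helper17.OrthFA

open QuadraticMap Matrix Module Cfsg.Agent.Helper13 Cfsg.Agent.Helper17.OrthOut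
  Cfsg.Agent.Helper17.Spinor Cfsg.Agent.Helper17.ConfAut

section rect

variable {F : Type*} [Field F] [Fintype F] {ι ι' : Type} [Fintype ι] [DecidableEq ι] [Fintype ι']
  [DecidableEq ι'] {Q : QuadraticForm F (ι → F)} {Q' : QuadraticForm F (ι' → F)}
  (T : Matrix ι' ι F) (Ti : Matrix ι ι' F) (e1 : T * Ti = 1) (e2 : Ti * T = 1)
  (hT : ∀ v, Q' (T *ᵥ v) = Q v)

/-- conjugation by an invertible rectangular matrix -/
def conjGL : GL ι F ≃* GL ι' F where
  toFun g := ⟨T * (g : Matrix ι ι F) * Ti, T * ((g⁻¹ : GL ι F) : Matrix ι ι F) * Ti, by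
      calc T * (g : Matrix ι ι F) * Ti * (T * ((g⁻¹ : GL ι F) : Matrix ι ι F) * Ti)
          = T * ((g : Matrix ι ι F) * (Ti * T) * ((g⁻¹ : GL ι F) : Matrix ι ι F)) * Ti := by
            simp only [Matrix.mul_assoc]
        _ = 1 := by
            rw [e2, Matrix.mul_one, ← Units.val_mul, mul_inv_cancel, Units.val_one, Matrix.mul_one,
              e1], by
      calc T * ((g⁻¹ : GL ι F) : Matrix ι ι F) * Ti * (T * (g : Matrix ι ι F) * Ti)
          = T * (((g⁻¹ : GL ι F) : Matrix ι ι F) * (Ti * T) * (g : Matrix ι ι F)) * Ti := by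
            simp only [Matrix.mul_assoc]
        _ = 1 := by
            rw [e2, Matrix.mul_one, ← Units.val_mul, inv_mul_cancel, Units.val_one, Matrix.mul_one,
              e1]⟩
  invFun g := ⟨Ti * (g : Matrix ι' ι' F) * T, Ti * ((g⁻¹ : GL ι' F) : Matrix ι' ι' F) * T, by
      calc Ti * (g : Matrix ι' ι' F) * T * (Ti * ((g⁻¹ : GL ι' F) : Matrix ι' ι' F) * T)
          = Ti * ((g : Matrix ι' ι' F) * (T * Ti) * ((g⁻¹ : GL ι' F) : Matrix ι' ι' F)) * T := by
            simp only [Matrix.mul_assoc]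
        _ = 1 := by
            rw [e1, Matrix.mul_one, ← Units.val_mul, mul_inv_cancel, Units.val_one, Matrix.mul_one,
              e2], by
      calc Ti * ((g⁻¹ : GL ι' F) : Matrix ι' ι' F) * T * (Ti * (g : Matrix ι' ι' F) * T)
          = Ti * (((g⁻¹ : GL ι' F) : Matrix ι' ι' F) * (T * Ti) * (g : Matrix ι' ι' F)) * T := by
            simp only [Matrix.mul_assoc]
        _ = 1 := by
            rw [e1, Matrix.mul_one, ← Units.val_mul, inv_mul_cancel, Units.val_one, Matrix.mul_one,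
              e2]⟩
  left_inv g := by
    apply Units.ext
    show Ti * (T * (g : Matrix ι ι F) * Ti) * T = (g : Matrix ι ι F)
    calc Ti * (T * (g : Matrix ι ι F) * Ti) * T = (Ti * T) * (g : Matrix ι ι F) * (Ti * T) := by
          simp only [Matrix.mul_assoc]
      _ = (g : Matrix ι ι F) := by rw [e2, Matrix.one_mul, Matrix.mul_one]
  right_inv g := by
    apply Units.ext
    show T * (Ti * (g : Matrix ι' ι' F) * T) * Ti = (g : Matrix ι' ι' F)
    calc T * (Ti * (g : Matrix ι' ι' F) * T) * Ti = (T * Ti) * (g : Matrix ι' ι' F) * (T * Ti) := by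
          simp only [Matrix.mul_assoc]
      _ = (g : Matrix ι' ι' F) := by rw [e1, Matrix.one_mul, Matrix.mul_one]
  map_mul' g h := by
    apply Units.ext
    show T * ((g * h : GL ι F) : Matrix ι ι F) * Ti =
      (T * (g : Matrix ι ι F) * Ti) * (T * (h : Matrix ι ι F) * Ti)
    rw [Units.val_mul]
    calc T * ((g : Matrix ι ι F) * (h : Matrix ι ι F)) * Ti
        = T * ((g : Matrix ι ι F) * 1 * (h : Matrix ι ι F)) * Ti := by rw [Matrix.mul_one]
      _ = (T * (g : Matrix ι ι F) * Ti) * (T * (h : Matrix ι ι F) * Ti) := by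
          rw [← e2]
          simp only [Matrix.mul_assoc]

theorem conjGL_coe (g : GL ι F) :
    ((conjGL T Ti e1 e2 g : GL ι' F) : Matrix ι' ι' F) = T * (g : Matrix ι ι F) * Ti := rfl

theorem conjGL_symm_coe (g : GL ι' F) :
    (((conjGL T Ti e1 e2).symm g : GL ι F) : Matrix ι ι F) = Ti * (g : Matrix ι' ι' F) * T := rfl

include e1 hT in
theorem hTi (v : ι' → F) : Q (Ti *ᵥ v) = Q' v := by
  rw [← hT, Matrix.mulVec_mulVec, e1, Matrix.one_mulVec]

include e1 e2 hT in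
theorem isMult_conjGL {g : GL ι F} {c : F} (hc : IsMult Q g c) :
    IsMult Q' (conjGL T Ti e1 e2 g) c := by
  intro v
  rw [conjGL_coe]
  have h1 : (T * (g : Matrix ι ι F) * Ti) *ᵥ v = T *ᵥ ((g : Matrix ι ι F) *ᵥ (Ti *ᵥ v)) := by
    rw [Matrix.mulVec_mulVec, Matrix.mulVec_mulVec, Matrix.mul_assoc]
  rw [h1, hT, hc, hTi T Ti e1 hT]

include e1 e2 hT in
theorem isMult_conjGL_symm {g : GL ι' F} {c : F} (hc : IsMult Q' g c) :
    IsMult Q ((conjGL T Ti e1 e2).symm g) c := by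
  intro v
  rw [conjGL_symm_coe]
  have h1 : (Ti * (g : Matrix ι' ι' F) * T) *ᵥ v = Ti *ᵥ ((g : Matrix ι' ι' F) *ᵥ (T *ᵥ v)) := by
    rw [Matrix.mulVec_mulVec, Matrix.mulVec_mulVec, Matrix.mul_assoc]
  rw [h1, hTi T Ti e1 hT, hc, hT]

include e1 e2 hT in
theorem conjGL_mem_GO {g : GL ι F} (hg : g ∈ GO (⇑Q)) : conjGL T Ti e1 e2 g ∈ GO (⇑Q') := by
  obtain ⟨c, hc⟩ := hg
  exact ⟨c, isMult_conjGL T Ti e1 e2 hT hc⟩

theorem det_conjGL (g : GL ι F) :
    ((conjGL T Ti e1 e2 g : GL ι' F) : Matrix ι' ι' F).det = (g : Matrix ι ι F).det := by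
  rw [conjGL_coe]
  exact Matrix.det_conj_of_mul_eq_one e1 e2

include e1 e2 hT in
theorem conjGL_mem_dClassGO_iff (n : ℕ) (g : GL ι F) :
    conjGL T Ti e1 e2 g ∈ dClassGO Q' n ↔ g ∈ dClassGO Q n := by
  constructor
  · rintro ⟨c, hc, hdet⟩
    refine ⟨c, ?_, ?_⟩
    · have := isMult_conjGL_symm T Ti e1 e2 hT hc
      rwa [MulEquiv.symm_apply_apply] at this
    · rw [← det_conjGL T Ti e1 e2 g]
      exact hdet
  · rintro ⟨c, hc, hdet⟩
    exact ⟨c, isMult_conjGL T Ti e1 e2 hT hc, by rw [det_conjGL]; exact hdet⟩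

/-- conjugation on the isometry groups -/
def isoR : ↥(Cfsg.isometryGroup F (⇑Q)) ≃* ↥(Cfsg.isometryGroup F (⇑Q')) where
  toFun s := ⟨conjGL T Ti e1 e2 s, isMult_one_iff.1
    (isMult_conjGL T Ti e1 e2 hT (isMult_one_iff.2 s.2))⟩
  invFun s := ⟨(conjGL T Ti e1 e2).symm s, isMult_one_iff.1
    (isMult_conjGL_symm T Ti e1 e2 hT (isMult_one_iff.2 s.2))⟩
  left_inv s := by
    apply Subtype.ext
    exact (conjGL T Ti e1 e2).symm_apply_apply _
  right_inv s := by
    apply Subtype.ext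
    exact (conjGL T Ti e1 e2).apply_symm_apply _
  map_mul' s t := by
    apply Subtype.ext
    exact map_mul (conjGL T Ti e1 e2) _ _

theorem isoR_coe (s : ↥(Cfsg.isometryGroup F (⇑Q))) :
    ((isoR T Ti e1 e2 hT s : ↥(Cfsg.isometryGroup F (⇑Q'))) : GL ι' F) =
      conjGL T Ti e1 e2 (s : GL ι F) := rfl

/-- the induced isomorphism of the commutator subgroups -/
noncomputable def omR : ↥(Cfsg.Omega F (⇑Q)) ≃* ↥(Cfsg.Omega F (⇑Q')) :=
  ((isoR T Ti e1 e2 hT).subgroupMap (Cfsg.Omega F (⇑Q))).trans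
    (MulEquiv.subgroupCongr (map_commutator_equiv (isoR T Ti e1 e2 hT)))

theorem omR_coe (s : ↥(Cfsg.Omega F (⇑Q))) :
    (((omR T Ti e1 e2 hT s : ↥(Cfsg.Omega F (⇑Q'))) : ↥(Cfsg.isometryGroup F (⇑Q'))) : GL ι' F) =
      conjGL T Ti e1 e2 ((s : ↥(Cfsg.isometryGroup F (⇑Q))) : GL ι F) := rfl

/-- the induced isomorphism `PΩ(Q) ≃* PΩ(Q')` -/
noncomputable def rT : Cfsg.POmega F (⇑Q) ≃* Cfsg.POmega F (⇑Q') :=
  QuotientGroup.congr (Subgroup.center (Cfsg.Omega F (⇑Q))) (Subgroup.center (Cfsg.Omega F (⇑Q')))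
    (omR T Ti e1 e2 hT) (map_center_equiv (omR T Ti e1 e2 hT))

theorem rT_mk (s : ↥(Cfsg.Omega F (⇑Q))) :
    rT T Ti e1 e2 hT (QuotientGroup.mk s) = QuotientGroup.mk (omR T Ti e1 e2 hT s) := rfl

include e1 e2 hT in
theorem conjGL_mem_omegaGL_iff (g : GL ι F) :
    conjGL T Ti e1 e2 g ∈ Geo.omegaGL (⇑Q') ↔ g ∈ Geo.omegaGL (⇑Q) := by
  rw [Cfsg.Agent.Helper17.OmegaElts.mem_omegaGL_iff, Cfsg.Agent.Helper17.OmegaElts.mem_omegaGL_iff]
  constructor
  · rintro ⟨o', ho', hoe⟩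
    have hmem : (isoR T Ti e1 e2 hT).symm o' ∈ Cfsg.Omega F (⇑Q) := by
      have h3 := map_commutator_equiv (isoR T Ti e1 e2 hT)
      have h4 : o' ∈ (commutator ↥(Cfsg.isometryGroup F (⇑Q))).map
          (isoR T Ti e1 e2 hT).toMonoidHom := by
        rw [h3]
        exact ho'
      obtain ⟨o, ho, hoo'⟩ := h4
      have : (isoR T Ti e1 e2 hT).symm o' = o := by
        rw [← hoo']
        exact (isoR T Ti e1 e2 hT).symm_apply_apply o
      rw [this]
      exact ho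
    refine ⟨_, hmem, ?_⟩
    show (conjGL T Ti e1 e2).symm (o' : GL ι' F) = g
    rw [hoe, MulEquiv.symm_apply_apply]
  · rintro ⟨o, ho, hoe⟩
    refine ⟨omR T Ti e1 e2 hT ⟨o, ho⟩, (omR T Ti e1 e2 hT ⟨o, ho⟩).2, ?_⟩
    rw [omR_coe]
    show conjGL T Ti e1 e2 (o : GL ι F) = _
    rw [hoe]

/-- **transport of the automorphisms induced by similarities** -/
theorem congr_rT_Phi (g : ↥(GO (⇑Q))) :
    MulAut.congr (rT T Ti e1 e2 hT) (Phi (⇑Q) g) =
      Phi (⇑Q') ⟨conjGL T Ti e1 e2 (g : GL ι F), conjGL_mem_GO T Ti e1 e2 hT g.2⟩ := by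
  apply congr_eq_of_comm
  intro x
  induction x using QuotientGroup.induction_on with
  | H s =>
    obtain ⟨s₂, hs₂, hs₂c⟩ := Phi_mk_coe (⇑Q) g s
    rw [hs₂, rT_mk, rT_mk]
    obtain ⟨s₃, hs₃, hs₃c⟩ := Phi_mk_coe (⇑Q')
      ⟨conjGL T Ti e1 e2 (g : GL ι F), conjGL_mem_GO T Ti e1 e2 hT g.2⟩ (omR T Ti e1 e2 hT s)
    rw [hs₃]
    congr 1
    apply Subtype.ext
    apply Subtype.ext
    rw [hs₃c, omR_coe, omR_coe, hs₂c, map_mul, map_mul, map_inv]

/-- **transport of the standard automorphisms** -/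
theorem congr_rT_stdAut {g : GL ι F} {σ : F ≃+* F} (h : Cfsg.IsSemisimilarityPair (⇑Q) g σ)
    {g' : GL ι' F} (h' : Cfsg.IsSemisimilarityPair (⇑Q') g' σ)
    (hg' : (g' : Matrix ι' ι' F) = T * (g : Matrix ι ι F) * Ti.map σ) :
    MulAut.congr (rT T Ti e1 e2 hT) (stdAut h) = stdAut h' := by
  have hσ1 : T.map σ * Ti.map σ = 1 := by
    rw [← Matrix.map_mul, e1]
    ext a b
    simp [Matrix.one_apply, apply_ite]
  have hσ2 : Ti.map σ * T.map σ = 1 := by
    rw [← Matrix.map_mul, e2]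
    ext a b
    simp [Matrix.one_apply, apply_ite]
  have hg'inv : ((g'⁻¹ : GL ι' F) : Matrix ι' ι' F) =
      T.map σ * ((g⁻¹ : GL ι F) : Matrix ι ι F) * Ti := by
    have h3 : (g' : Matrix ι' ι' F) * (T.map σ * ((g⁻¹ : GL ι F) : Matrix ι ι F) * Ti) = 1 := by
      rw [hg']
      calc T * (g : Matrix ι ι F) * Ti.map σ * (T.map σ * ((g⁻¹ : GL ι F) : Matrix ι ι F) * Ti)
          = T * ((g : Matrix ι ι F) * (Ti.map σ * T.map σ) * ((g⁻¹ : GL ι F) : Matrix ι ι F)) *
              Ti := by simp only [Matrix.mul_assoc]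
        _ = 1 := by
          rw [hσ2, Matrix.mul_one, ← Units.val_mul, mul_inv_cancel, Units.val_one, Matrix.mul_one,
            e1]
    calc ((g'⁻¹ : GL ι' F) : Matrix ι' ι' F)
        = ((g'⁻¹ : GL ι' F) : Matrix ι' ι' F) *
          ((g' : Matrix ι' ι' F) * (T.map σ * ((g⁻¹ : GL ι F) : Matrix ι ι F) * Ti)) := by
          rw [h3, Matrix.mul_one]
      _ = T.map σ * ((g⁻¹ : GL ι F) : Matrix ι ι F) * Ti := by
          rw [← Matrix.mul_assoc, ← Units.val_mul, inv_mul_cancel, Units.val_one, Matrix.one_mul]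
  apply congr_eq_of_comm
  intro x
  induction x using QuotientGroup.induction_on with
  | H s =>
    rw [stdAut_mk, rT_mk, rT_mk, stdAut_mk]
    congr 1
    apply Subtype.ext
    apply Subtype.ext
    apply Units.ext
    rw [omR_coe, conjGL_coe, semiΩ_matrix, semiΩ_matrix, omR_coe, conjGL_coe, hg', hg'inv,
      Matrix.map_mul, Matrix.map_mul]
    calc T * ((g : Matrix ι ι F) *
          (((s : ↥(Cfsg.isometryGroup F (⇑Q))) : GL ι F) : Matrix ι ι F).map σ *
          ((g⁻¹ : GL ι F) : Matrix ι ι F)) * Ti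
        = T * (g : Matrix ι ι F) * (1 *
          (((s : ↥(Cfsg.isometryGroup F (⇑Q))) : GL ι F) : Matrix ι ι F).map σ * 1) *
          ((g⁻¹ : GL ι F) : Matrix ι ι F) * Ti := by
          rw [Matrix.one_mul, Matrix.mul_one]
          simp only [Matrix.mul_assoc]
      _ = T * (g : Matrix ι ι F) * Ti.map σ * (T.map σ *
          (((s : ↥(Cfsg.isometryGroup F (⇑Q))) : GL ι F) : Matrix ι ι F).map σ * Ti.map σ) *
          (T.map σ * ((g⁻¹ : GL ι F) : Matrix ι ι F) * Ti) := by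
          rw [← hσ2]
          simp only [Matrix.mul_assoc]

end rect

end Cfsg.Agent.Helper17.OrthFA
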