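import Mathlib
import Cfsg.Agent.Lib.Helper17.OrthFA44
import Cfsg.Agent.Lib.Helper2.PslAut7

set_option autoImplicit false
set_option linter.unusedSectionVars false
set_option linter.unusedSimpArgs false
set_option linter.unusedVariables false

/-!
# Transport of the class-preserving group and of class counts; split minus forms (helper17)
-/

namespace Cfsg.Agent.Helper17.OrthFA

open QuadraticMap Matrix Module Cfsg.Agent.Helper13 Cfsg.Agent.Helper17.OrthOut
  Cfsg.Agent.Helper17.Spinor Cfsg.Agent.Helper17.ConfAut Cfsg.Agent.Helper17.OrthAut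

section rect

variable {F : Type*} [Field F] [Fintype F] {ι ι' : Type} [Fintype ι] [DecidableEq ι] [Fintype ι']
  [DecidableEq ι'] {Q : QuadraticForm F (ι → F)} {Q' : QuadraticForm F (ι' → F)}
  (T : Matrix ι' ι F) (Ti : Matrix ι ι' F) (e1 : T * Ti = 1) (e2 : Ti * T = 1)
  (hT : ∀ v, Q' (T *ᵥ v) = Q v)

theorem congr_rT_mem_PD_iff (n : ℕ) (β : MulAut (Cfsg.POmega F (⇑Q))) :
    MulAut.congr (rT T Ti e1 e2 hT) β ∈ ConfAut.PD Q' n ↔ β ∈ ConfAut.PD Q n := by
  constructor
  · rintro ⟨g', hg', hβ⟩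
    rw [SetLike.mem_coe, Subgroup.mem_subgroupOf] at hg'
    obtain ⟨g, hg⟩ : ∃ g : GL ι F, g = (conjGL T Ti e1 e2).symm (g' : GL ι' F) := ⟨_, rfl⟩
    have hcg : conjGL T Ti e1 e2 g = (g' : GL ι' F) := by
      rw [hg, MulEquiv.apply_symm_apply]
    have hgd : g ∈ dClassGO Q n := by
      rw [← conjGL_mem_dClassGO_iff T Ti e1 e2 hT, hcg]
      exact hg'
    have hgGO : g ∈ GO (⇑Q) := dClassGO_le_GO hgd
    have h3 := congr_rT_Phi T Ti e1 e2 hT ⟨g, hgGO⟩
    have h4 : (⟨conjGL T Ti e1 e2 g, conjGL_mem_GO T Ti e1 e2 hT hgGO⟩ : ↥(GO (⇑Q'))) = g' :=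
      Subtype.ext hcg
    rw [h4, hβ] at h3
    have h5 : β = Phi (⇑Q) ⟨g, hgGO⟩ := ((MulAut.congr (rT T Ti e1 e2 hT)).injective h3).symm
    rw [h5]
    exact ⟨⟨g, hgGO⟩, Subgroup.mem_subgroupOf.2 hgd, rfl⟩
  · rintro ⟨g, hg, rfl⟩
    rw [SetLike.mem_coe, Subgroup.mem_subgroupOf] at hg
    rw [congr_rT_Phi]
    refine ⟨_, Subgroup.mem_subgroupOf.2 ?_, rfl⟩
    exact (conjGL_mem_dClassGO_iff T Ti e1 e2 hT n _).2 hg

end rect

section general

variable {A B : Type*} [Group A] [Group B]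

theorem splitClassCount_congr (Ψ : A ≃* B) (D K : Subgroup A) (D' K' : Subgroup B)
    (hD : ∀ β, β ∈ D ↔ Ψ β ∈ D') (hK : ∀ β, β ∈ K ↔ Ψ β ∈ K') (x : A) :
    Cfsg.splitClassCount D K x = Cfsg.splitClassCount D' K' (Ψ x) := by
  unfold Cfsg.splitClassCount
  have hconj : ∀ (S : Subgroup A) (S' : Subgroup B), (∀ β, β ∈ S ↔ Ψ β ∈ S') →
      ∀ y z : A, Cfsg.IsConjUnder S y z ↔ Cfsg.IsConjUnder S' (Ψ y) (Ψ z) := by
    intro S S' hS y z
    constructor
    · rintro ⟨h, hh, rfl⟩
      exact ⟨Ψ h, (hS h).1 hh, by rw [map_mul, map_mul, map_inv]⟩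
    · rintro ⟨h', hh', e⟩
      refine ⟨Ψ.symm h', (hS _).2 (by rw [Ψ.apply_symm_apply]; exact hh'), ?_⟩
      apply Ψ.injective
      rw [map_mul, map_mul, map_inv, Ψ.apply_symm_apply]
      exact e
  let e : {y : A // Cfsg.IsConjUnder D x y} ≃ {y : B // Cfsg.IsConjUnder D' (Ψ x) y} :=
    { toFun := fun y => ⟨Ψ y.1, (hconj D D' hD x y.1).1 y.2⟩
      invFun := fun y => ⟨Ψ.symm y.1, (hconj D D' hD x _).2 (by
        rw [Ψ.apply_symm_apply]; exact y.2)⟩
      left_inv := fun y => Subtype.ext (Ψ.symm_apply_apply _)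
      right_inv := fun y => Subtype.ext (Ψ.apply_symm_apply _) }
  apply Nat.card_congr
  exact Quot.congr e (fun y z => hconj K K' hK y.1 z.1)

end general

section field

variable {F : Type*} [Field F] [Fintype F]

/-- a finite field has at most one automorphism of order two -/
theorem eq_of_orderOf_two (σ σ' : F ≃+* F) (h : orderOf σ = 2) (h' : orderOf σ' = 2) :
    σ = σ' := by
  classical
  have hp : Fact (ringChar F).Prime := ⟨CharP.char_is_prime F (ringChar F)⟩
  have hcyc : IsCyclic (RingAut F) := Cfsg.Agent.Helper2.PA.isCyclic_ringAut (ringChar F)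
  have : Finite (RingAut F) :=
    Finite.of_injective (fun f : F ≃+* F => (f : F → F)) DFunLike.coe_injective
  have : Fintype (RingAut F) := Fintype.ofFinite _
  have hd : 2 ∣ Fintype.card (RingAut F) := by
    rw [← h, ← Nat.card_eq_fintype_card]
    exact orderOf_dvd_natCard σ
  have hcard := IsCyclic.card_orderOf_eq_totient (α := RingAut F) hd
  rw [Nat.totient_two] at hcard
  have hmem : (σ : RingAut F) ∈ Finset.univ.filter (fun a : RingAut F => orderOf a = 2) := by
    rw [Finset.mem_filter]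
    exact ⟨Finset.mem_univ _, h⟩
  have hmem' : (σ' : RingAut F) ∈ Finset.univ.filter (fun a : RingAut F => orderOf a = 2) := by
    rw [Finset.mem_filter]
    exact ⟨Finset.mem_univ _, h'⟩
  exact Finset.card_le_one.1 hcard.le _ hmem _ hmem'

theorem ringAut_comm (σ τ : F ≃+* F) : (σ * τ : RingAut F) = τ * σ := by
  have hp : Fact (ringChar F).Prime := ⟨CharP.char_is_prime F (ringChar F)⟩
  have hcyc : IsCyclic (RingAut F) := Cfsg.Agent.Helper2.PA.isCyclic_ringAut (ringChar F)
  let _ := IsCyclic.commGroup (α := RingAut F)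
  exact mul_comm _ _

/-- the split "minus" form in dimension at least ten satisfies the standing hypotheses -/
theorem good_minus_split (k : ℕ) (a b : F) (hdisc : 4 * b - a ^ 2 ≠ 0) :
    Good (minusQ (k + 4) a b) where
  nondeg := by
    apply matQ_nondeg
    rw [minusMat_det]
    exact mul_ne_zero (pow_ne_zero _ (neg_ne_zero.2 one_ne_zero)) hdisc
  hex := by
    right
    rw [card_minusIdx]
    omega
  frame := ⟨_, _, Cfsg.Agent.Helper2.Orth.hypFrame_minus (k + 1) a b⟩
  hmax := by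
    have hQ : (polarBilin (minusQ (k + 4) a b)).Nondegenerate := by
      apply matQ_nondeg
      rw [minusMat_det]
      exact mul_ne_zero (pow_ne_zero _ (neg_ne_zero.2 one_ne_zero)) hdisc
    exact noBigMax_of_even hQ (m := k + 5) (by omega) (by rw [card_minusIdx])

end field

end Cfsg.Agent.Helper17.OrthFA
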