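import Mathlib
import Cfsg.Agent.Lib.Helper17.OrthFA45

set_option autoImplicit false
set_option linter.unusedSectionVars false
set_option linter.unusedSimpArgs false
set_option linter.unusedVariables false

/-!
# Graph-field automorphisms differ by class-preserving automorphisms (helper17)
-/

namespace Cfsg.Agent.Helper17.OrthFA

open QuadraticMap Matrix Module Cfsg.Agent.Helper13 Cfsg.Agent.Helper17.OrthOut
  Cfsg.Agent.Helper17.Spinor Cfsg.Agent.Helper17.ConfAut Cfsg.Agent.Helper17.OrthAut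

section abstract

variable {A : Type*} [Group A]

/-- commutators with elements of `P` lie in `D`, for normal subgroups `D ≤ P` with `P / D` of
order at most two -/
theorem comm_mem_of_hidx (D P : Subgroup A) [hD : D.Normal] [hP : P.Normal]
    (hidx : ∀ a ∈ P, ∀ b ∈ P, a ∉ D → b ∉ D → a * b ∈ D) (β a : A) (ha : a ∈ P) :
    β * a * β⁻¹ * a⁻¹ ∈ D := by
  by_cases haD : a ∈ D
  · exact D.mul_mem (hD.conj_mem a haD β) (D.inv_mem haD)
  · have h1 : β * a * β⁻¹ ∉ D := by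
      intro h
      apply haD
      have := hD.conj_mem _ h β⁻¹
      rw [inv_inv] at this
      have e : β⁻¹ * (β * a * β⁻¹) * β = a := by group
      rwa [e] at this
    have h2 : a⁻¹ ∉ D := fun h => haD (by simpa using D.inv_mem h)
    exact hidx _ (hP.conj_mem a ha β) _ (P.inv_mem ha) h1 h2

theorem gf_diff_mem (D P : Subgroup A) [hD : D.Normal] [hP : P.Normal]
    (hidx : ∀ a ∈ P, ∀ b ∈ P, a ∉ D → b ∉ D → a * b ∈ D)
    (φ : A) (hφ : ∀ β : A, β * φ * β⁻¹ * φ⁻¹ ∈ D)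
    (Γ Γ' α α' x y : A) (hΓ : Γ ∈ P) (hΓ' : Γ' ∈ P) (hΓD : Γ ∉ D) (hΓ'D : Γ' ∉ D)
    (hx : α * x * α⁻¹ = Γ * φ) (hy : α' * y * α'⁻¹ = Γ' * φ) : y * x⁻¹ ∈ D := by
  have key : ∀ (γ β z : A), γ ∈ P → β * z * β⁻¹ = γ * φ → z * (γ * φ)⁻¹ ∈ D := by
    intro γ β z hγ hz
    have hz' : z = β⁻¹ * (γ * φ) * β := by
      rw [← hz]
      group
    have e : z * (γ * φ)⁻¹ =
        (β⁻¹ * γ * β⁻¹⁻¹ * γ⁻¹) * (γ * (β⁻¹ * φ * β⁻¹⁻¹ * φ⁻¹) * γ⁻¹) := by
      rw [hz']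
      group
    rw [e]
    exact D.mul_mem (comm_mem_of_hidx D P hidx β⁻¹ γ hγ) (hD.conj_mem _ (hφ β⁻¹) γ)
  have h1 := key Γ α x hΓ hx
  have h2 := key Γ' α' y hΓ' hy
  have h3 : Γ' * Γ⁻¹ ∈ D :=
    hidx _ hΓ' _ (P.inv_mem hΓ) hΓ'D (fun h => hΓD (by simpa using D.inv_mem h))
  have e : y * x⁻¹ = (y * (Γ' * φ)⁻¹) * (Γ' * Γ⁻¹) * (x * (Γ * φ)⁻¹)⁻¹ := by group
  rw [e]
  exact D.mul_mem (D.mul_mem h2 h3) (D.inv_mem h1)

end abstract

section field

variable {F : Type*} [Field F] [Fintype F] {ι : Type} [Fintype ι] [DecidableEq ι]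
  {M : Matrix ι ι F}

/-- standard field automorphisms commute -/
theorem stdField_comm {σ τ : F ≃+* F}
    (h1 : Cfsg.IsSemisimilarityPair (⇑(matQ M)) (1 : GL ι F) σ)
    (h1' : Cfsg.IsSemisimilarityPair (⇑(matQ M)) (1 : GL ι F) τ) :
    stdAut h1 * stdAut h1' = stdAut h1' * stdAut h1 := by
  rw [stdAut_mul, stdAut_mul]
  apply stdAut_congr
  · rw [map_one, map_one]
  · exact ringAut_comm σ τ

/-- commutators with a standard field automorphism lie in a normal subgroup of index at most two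
of the kernel of the field homomorphism -/
theorem comm_stdField_mem (G : Good (matQ M)) (hMall : ∀ τ : F ≃+* F, M.map τ = M)
    (D : Subgroup (MulAut (Cfsg.POmega F (⇑(matQ M))))) [hD : D.Normal]
    (hidx : ∀ a ∈ G.fieldHom.ker, ∀ b ∈ G.fieldHom.ker, a ∉ D → b ∉ D → a * b ∈ D)
    {σ : F ≃+* F} (h1 : Cfsg.IsSemisimilarityPair (⇑(matQ M)) (1 : GL ι F) σ)
    (β : MulAut (Cfsg.POmega F (⇑(matQ M)))) :
    β * stdAut h1 * β⁻¹ * (stdAut h1)⁻¹ ∈ D := by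
  obtain ⟨τ, hτ⟩ : ∃ τ : F ≃+* F, τ = G.fieldHom β := ⟨_, rfl⟩
  have h1τ := isSemisim_fixed (hMall τ)
  obtain ⟨a, ha⟩ : ∃ a, a = β * (stdAut h1τ)⁻¹ := ⟨_, rfl⟩
  have haker : a ∈ G.fieldHom.ker := by
    rw [MonoidHom.mem_ker, ha, map_mul, map_inv, G.fieldHom_stdAut, ← hτ]
    exact mul_inv_cancel _
  have hβ : β = a * stdAut h1τ := by
    rw [ha]
    group
  have hc := stdField_comm h1τ h1
  have e : β * stdAut h1 * β⁻¹ * (stdAut h1)⁻¹ =
      ((stdAut h1) * a * (stdAut h1)⁻¹ * a⁻¹)⁻¹ := by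
    rw [hβ]
    have e1 : a * stdAut h1τ * stdAut h1 * (a * stdAut h1τ)⁻¹ * (stdAut h1)⁻¹ =
        a * (stdAut h1τ * stdAut h1) * (stdAut h1τ)⁻¹ * a⁻¹ * (stdAut h1)⁻¹ := by group
    rw [e1, hc]
    group
  rw [e]
  exact D.inv_mem (comm_mem_of_hidx D G.fieldHom.ker hidx _ a haker)

end field

end Cfsg.Agent.Helper17.OrthFA
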