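import Mathlib
import Cfsg.Agent.Lib.Helper17.OrthFA46

set_option autoImplicit false
set_option linter.unusedSectionVars false
set_option linter.unusedSimpArgs false
set_option linter.unusedVariables false

/-!
# A class count in a tower of two index two steps; norms in a quadratic extension (helper17)
-/

namespace Cfsg.Agent.Helper17.OrthFA

open QuadraticMap Matrix Module Cfsg.Agent.Helper13 Cfsg.Agent.Helper17.OrthOut
  Cfsg.Agent.Helper17.Spinor Cfsg.Agent.Helper17.ConfAut Cfsg.Agent.Helper17.OrthAut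

section tower

variable {X : Type*} [Group X]

/-- the class count when the centralizer lies in the middle term of a tower `K ≤ P ≤ D` with two
steps of index two -/
theorem count_tower (D P K : Subgroup X) [hK : K.Normal] (hKP : K ≤ P) (hPD : P ≤ D)
    (h1 : K.relIndex P = 2) (h2 : P.relIndex D = 2) (x : X)
    (hC : D ⊓ Subgroup.centralizer {x} ≤ P) :
    (D ⊓ Subgroup.centralizer {x} ≤ K → Cfsg.splitClassCount D K x = 4) ∧
    (¬ D ⊓ Subgroup.centralizer {x} ≤ K → Cfsg.splitClassCount D K x = 2) := by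
  have hKD : K ≤ D := hKP.trans hPD
  have h0 := Cfsg.Agent.Helper2.PN.splitClassCount_eq_index D.subtype K
    (by rw [Subgroup.range_subtype]; exact hKD) x
  rw [Subgroup.range_subtype] at h0
  rw [h0]
  obtain ⟨A, hA⟩ : ∃ A : Subgroup ↥D, A = K.comap D.subtype := ⟨_, rfl⟩
  obtain ⟨B, hB⟩ : ∃ B : Subgroup ↥D, B = (Subgroup.centralizer {x}).comap D.subtype := ⟨_, rfl⟩
  obtain ⟨A', hA'⟩ : ∃ A' : Subgroup ↥D, A' = P.comap D.subtype := ⟨_, rfl⟩
  rw [← hA, ← hB]
  have hAA' : A ≤ A' := by
    rw [hA, hA']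
    exact Subgroup.comap_mono hKP
  have hBA' : B ≤ A' := by
    intro b hb
    rw [hB] at hb
    rw [hA']
    exact hC ⟨b.2, hb⟩
  have hA'idx : A'.index = 2 := by
    rw [hA']
    exact h2
  have hrel : A.relIndex A' = 2 := by
    rw [hA, hA']
    have := Subgroup.relIndex_subgroupOf (H := K) (K := P) (L := D) hPD
    rw [← h1, ← this]
    rfl
  have hAidx : A.index = 4 := by
    rw [← Subgroup.relIndex_mul_index hAA', hrel, hA'idx]
  constructor
  · intro hle
    have hBA : B ≤ A := by
      intro b hb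
      rw [hB] at hb
      rw [hA]
      exact hle ⟨b.2, hb⟩
    rw [sup_eq_left.2 hBA]
    exact hAidx
  · intro hnle
    have hex : ∃ b ∈ B, b ∉ A := by
      by_contra hcon
      push Not at hcon
      apply hnle
      rintro y ⟨hyD, hyC⟩
      have h3 := hcon ⟨y, hyD⟩ (by rw [hB]; exact hyC)
      rw [hA] at h3
      exact h3
    obtain ⟨b, hbB, hbA⟩ := hex
    have hsup : A ⊔ B = A' := by
      apply le_antisymm (sup_le hAA' hBA')
      intro a' ha'
      by_cases haA : a' ∈ A
      · exact Subgroup.mem_sup_left haA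
      · have h3 : b⁻¹ * a' ∈ A := by
          rw [mul_mem_iff_of_relIndex_two hrel (A'.inv_mem (hBA' hbB)) ha']
          constructor
          · intro h
            exact absurd (by simpa using A.inv_mem h) hbA
          · intro h
            exact absurd h haA
        have e : a' = b * (b⁻¹ * a') := by group
        rw [e]
        exact Subgroup.mul_mem _ (Subgroup.mem_sup_right hbB) (Subgroup.mem_sup_left h3)
    rw [hsup]
    exact hA'idx

end tower

section norm

variable {F : Type*} [Field F] {F₀ : Type*} [Field F₀] (j : F₀ →+* F) (σ : F ≃+* F)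
  (hfix : ∀ x, σ x = x → ∃ a, j a = x) (hjfix : ∀ a, σ (j a) = j a)
  (hσ2 : ∀ x, σ (σ x) = x)

include hfix hjfix hσ2 in
/-- the minimal polynomial of an element moved by the involution gives an anisotropic binary
form over the fixed field -/
theorem exists_aniso (t : F) (ht : σ t ≠ t) :
    ∃ a₀ b₀ : F₀, j a₀ = -(t + σ t) ∧ j b₀ = t * σ t ∧
      ∀ z₁ z₂ : F₀, z₁ ^ 2 + a₀ * z₁ * z₂ + b₀ * z₂ ^ 2 = 0 → z₁ = 0 ∧ z₂ = 0 := by
  obtain ⟨a₀, ha₀⟩ := hfix (-(t + σ t)) (by rw [map_neg, map_add, hσ2, add_comm])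
  obtain ⟨b₀, hb₀⟩ := hfix (t * σ t) (by rw [map_mul, hσ2, mul_comm])
  refine ⟨a₀, b₀, ha₀, hb₀, ?_⟩
  intro z₁ z₂ h
  have h' := congrArg j h
  simp only [map_add, map_mul, map_pow, map_zero] at h'
  rw [ha₀, hb₀] at h'
  have h3 : (j z₁ - t * j z₂) * (j z₁ - σ t * j z₂) = 0 := by linear_combination h'
  have hz₂ : z₂ = 0 := by
    by_contra hz
    have hjz : j z₂ ≠ 0 := by
      intro h0
      exact hz ((map_eq_zero j).1 h0)
    rcases mul_eq_zero.1 h3 with h4 | h4
    · apply ht
      have e : t = j (z₁ / z₂) := by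
        rw [map_div₀]
        field_simp
        linear_combination -h4
      rw [e]
      exact hjfix _
    · apply ht
      have e : σ t = j (z₁ / z₂) := by
        rw [map_div₀]
        field_simp
        linear_combination -h4
      have e2 : σ (σ t) = σ t := by
        rw [e]
        exact hjfix _
      rw [hσ2] at e2
      exact e2.symm
  refine ⟨?_, hz₂⟩
  rw [hz₂, map_zero, mul_zero, sub_zero, mul_zero, sub_zero] at h3
  have := mul_self_eq_zero.1 h3
  exact (map_eq_zero j).1 this

include hfix hjfix hσ2 in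
/-- squares have square norms -/
theorem norm_of_isSquare (y : F) (hy : IsSquare y) : ∃ c₀ : F₀, y * σ y = j (c₀ ^ 2) := by
  obtain ⟨ν, rfl⟩ := hy
  obtain ⟨c₀, hc₀⟩ := hfix (ν * σ ν) (by rw [map_mul, hσ2, mul_comm])
  refine ⟨c₀, ?_⟩
  rw [map_pow, hc₀, map_mul]
  ring

include hfix hjfix hσ2 in
/-- elements with square norm are squares, when the elements of the fixed field are squares -/
theorem isSquare_of_norm (hsq : ∀ c : F₀, IsSquare (j c)) (y : F) (c₀ : F₀)
    (hc₀ : y * σ y = j (c₀ ^ 2)) : IsSquare y := by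
  obtain ⟨c, hc⟩ : ∃ c : F, c = j c₀ := ⟨_, rfl⟩
  have hcc : y * σ y = c ^ 2 := by rw [hc₀, map_pow, hc]
  by_cases hw : c + y = 0
  · have e : y = j (-c₀) := by
      rw [map_neg, ← hc]
      linear_combination hw
    rw [e]
    exact hsq _
  · have hσw : σ (c + y) = c + σ y := by rw [map_add, hc, hjfix]
    have hfixed : σ ((c + y) * σ (c + y)) = (c + y) * σ (c + y) := by
      rw [map_mul, hσ2]
      ring
    obtain ⟨d₀, hd₀⟩ := hfix _ hfixed
    obtain ⟨e, he⟩ := hsq d₀
    obtain ⟨s, hs⟩ := hsq c₀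
    rw [← hc] at hs
    have hσw0 : σ (c + y) ≠ 0 := by
      intro h
      apply hw
      exact (map_eq_zero_iff σ σ.injective).1 h
    have he0 : e ≠ 0 := by
      rintro rfl
      rw [mul_zero] at he
      rw [he] at hd₀
      exact mul_ne_zero hw hσw0 hd₀.symm
    have he' : e * e = (c + y) * σ (c + y) := he.symm.trans hd₀
    have key : y * σ (c + y) = c * (c + y) := by
      rw [hσw]
      linear_combination hcc
    refine ⟨s * (c + y) / e, ?_⟩
    rw [div_mul_div_comm, eq_div_iff (mul_ne_zero he0 he0)]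
    linear_combination y * he' + (c + y) * key + (c + y) ^ 2 * hs

end norm

end Cfsg.Agent.Helper17.OrthFA
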