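import Mathlib
import Cfsg.Agent.Lib.Helper17.OrthFA47
import Cfsg.Agent.Lib.Helper17.OrthFA27

set_option autoImplicit false
set_option linter.unusedSectionVars false
set_option linter.unusedSimpArgs false
set_option linter.unusedVariables false

/-!
# The split minus form and the hyperbolic form: transport of the field automorphism (helper17)
-/

namespace Cfsg.Agent.Helper17.OrthFA

open QuadraticMap Matrix Module Cfsg.Agent.Helper13 Cfsg.Agent.Helper17.OrthOut
  Cfsg.Agent.Helper17.Spinor Cfsg.Agent.Helper17.ConfAut Cfsg.Agent.Helper17.OrthAut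

universe u

section theta

variable {F : Type u} [Field F] [Fintype F] (m : ℕ) (t t' : F) (hne : t ≠ t') (a b : F)
  (hsum : t + t' = -a) (hprod : t * t' = b)

include hsum hprod in
theorem plusQ_minusTM (v : (Fin m ⊕ Fin m) ⊕ Fin 2 → F) :
    plusQ (m + 1) F (minusTM m t t' *ᵥ v) = minusQ m a b v := by
  rw [minusTM_mulVec]
  exact plusQ_minusT m t t' a b hsum hprod v

/-- the isomorphism between the group of the split minus form and the group of the hyperbolic
form -/
noncomputable def thetaIso :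
    Cfsg.POmega F (⇑(minusQ m a b)) ≃* Cfsg.POmega F (⇑(plusQ (m + 1) F)) :=
  rT (minusTM m t t') (minusTMinv m t t' hne) (minusTM_mul_inv m t t' hne)
    (minusTMinv_mul m t t' hne) (plusQ_minusTM m t t' a b hsum hprod)

theorem reflectionMatrix_wLast_sq :
    Cfsg.reflectionMatrix (⇑(plusQ (m + 1) F)) (wLast m) *
      Cfsg.reflectionMatrix (⇑(plusQ (m + 1) F)) (wLast m) = 1 := by
  have hw := plusQ_wLast_ne (K := F) m
  have h := tG_mul_self (plusQ (m + 1) F) hw
  have h2 := congrArg (fun s : ↥(Cfsg.isometryGroup F (⇑(plusQ (m + 1) F))) =>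
    ((s : GL (Fin (m + 1) ⊕ Fin (m + 1)) F) :
      Matrix (Fin (m + 1) ⊕ Fin (m + 1)) (Fin (m + 1) ⊕ Fin (m + 1)) F)) h
  simp only [Subgroup.coe_mul, Units.val_mul, Subgroup.coe_one, Units.val_one] at h2
  rw [tG_coe _ hw] at h2
  exact h2

/-- **the field automorphism of the split minus form becomes the graph-field automorphism** -/
theorem congr_theta_stdAut (σ : F ≃+* F) (hσt : σ t = t') (hσt' : σ t' = t)
    (h1m : Cfsg.IsSemisimilarityPair (⇑(minusQ m a b))
      (1 : GL ((Fin m ⊕ Fin m) ⊕ Fin 2) F) σ)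
    (h1p : Cfsg.IsSemisimilarityPair (⇑(plusQ (m + 1) F))
      (1 : GL (Fin (m + 1) ⊕ Fin (m + 1)) F) σ) :
    MulAut.congr (thetaIso m t t' hne a b hsum hprod) (stdAut h1m) =
      Phi (⇑(plusQ (m + 1) F)) (iO (plusQ (m + 1) F) (tG (plusQ (m + 1) F) (wLast m))) *
        stdAut h1p := by
  have hw := plusQ_wLast_ne (K := F) m
  obtain ⟨ρ, hρdef⟩ : ∃ ρ : GL (Fin (m + 1) ⊕ Fin (m + 1)) F,
      ρ = ((tG (plusQ (m + 1) F) (wLast m) :
        ↥(Cfsg.isometryGroup F (⇑(plusQ (m + 1) F)))) :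
        GL (Fin (m + 1) ⊕ Fin (m + 1)) F) := ⟨_, rfl⟩
  have hρcoe : (ρ : Matrix (Fin (m + 1) ⊕ Fin (m + 1)) (Fin (m + 1) ⊕ Fin (m + 1)) F) =
      Cfsg.reflectionMatrix (⇑(plusQ (m + 1) F)) (wLast m) := by
    rw [hρdef]
    exact tG_coe _ hw
  have hρr : Cfsg.IsSemisimilarityPair (⇑(plusQ (m + 1) F)) ρ (RingEquiv.refl F) := by
    rw [hρdef]
    exact isSemisim_of_mem_isometry (tG (plusQ (m + 1) F) (wLast m)).2
  have hρΦ : stdAut hρr = Phi (⇑(plusQ (m + 1) F))
      (iO (plusQ (m + 1) F) (tG (plusQ (m + 1) F) (wLast m))) := by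
    rw [stdAut_refl_eq_Phi]
    congr 1
    apply Subtype.ext
    exact hρdef
  obtain ⟨h', e⟩ := stdAut_mul_refl hρr h1p
  rw [← hρΦ, e]
  unfold thetaIso
  apply congr_rT_stdAut
  rw [Units.val_mul, Units.val_one, Matrix.mul_one, Units.val_one, Matrix.mul_one, hρcoe]
  -- `r = T * σ(Ti)`
  have h3 : (minusTM m t t').map σ =
      Cfsg.reflectionMatrix (⇑(plusQ (m + 1) F)) (wLast m) * minusTM m t t' := by
    have := minusTM_map m (σ : F →+* F) t t'
    rw [show ((σ : F →+* F) t) = t' from hσt, show ((σ : F →+* F) t') = t from hσt'] at this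
    rw [reflectionMatrix_mul_minusTM]
    exact this
  have h4 : (minusTM m t t').map σ * (minusTMinv m t t' hne).map σ = 1 := by
    rw [← Matrix.map_mul, minusTM_mul_inv]
    ext i l
    simp [Matrix.one_apply, apply_ite]
  rw [h3, Matrix.mul_assoc] at h4
  calc Cfsg.reflectionMatrix (⇑(plusQ (m + 1) F)) (wLast m)
      = Cfsg.reflectionMatrix (⇑(plusQ (m + 1) F)) (wLast m) *
          (Cfsg.reflectionMatrix (⇑(plusQ (m + 1) F)) (wLast m) *
            (minusTM m t t' * (minusTMinv m t t' hne).map σ)) := by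
        rw [h4, Matrix.mul_one]
    _ = minusTM m t t' * (minusTMinv m t t' hne).map σ := by
        rw [← Matrix.mul_assoc, reflectionMatrix_wLast_sq, Matrix.one_mul]

end theta

end Cfsg.Agent.Helper17.OrthFA
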