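import Mathlib
import Cfsg.Agent.Lib.Helper17.OrthFA48
import Cfsg.Agent.Lib.Helper17.OrthFA43

set_option autoImplicit false
set_option linter.unusedSectionVars false
set_option linter.unusedSimpArgs false
set_option linter.unusedVariables false

/-!
# The centralizer of an involutory field automorphism in the class-preserving group (helper17)
-/

namespace Cfsg.Agent.Helper17.OrthFA

open QuadraticMap Matrix Module Cfsg.Agent.Helper13 Cfsg.Agent.Helper17.OrthOut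
  Cfsg.Agent.Helper17.Spinor Cfsg.Agent.Helper17.ConfAut Cfsg.Agent.Helper17.OrthAut
  Cfsg.Agent.Helper2.Orth

section jphi

variable {F : Type*} {F₀ : Type*} [Field F] [Fintype F] [Field F₀] [Fintype F₀]
  {ι : Type} [Fintype ι] [DecidableEq ι]
  (j : F₀ →+* F) (M₀ : Matrix ι ι F₀) (σ : F ≃+* F)

/-- the automorphisms induced by the class-preserving similarities over the small field -/
noncomputable def JPhi (n : ℕ) :
    ↥(dClassGO (matQ M₀) n) →* MulAut (Cfsg.POmega F (⇑(matQ (M₀.map j)))) :=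
  (Phi (⇑(matQ (M₀.map j)))).comp
    (((Matrix.GeneralLinearGroup.map (n := ι) j).comp (dClassGO (matQ M₀) n).subtype).codRestrict
      (GO (⇑(matQ (M₀.map j)))) (fun g₀ => dClassGO_le_GO (hup_dClass j M₀ n g₀ g₀.2)))

theorem JPhi_apply (n : ℕ) (g₀ : ↥(dClassGO (matQ M₀) n)) :
    JPhi j M₀ n g₀ = Phi (⇑(matQ (M₀.map j)))
      ⟨Matrix.GeneralLinearGroup.map (n := ι) j (g₀ : GL ι F₀),
        dClassGO_le_GO (hup_dClass j M₀ n g₀ g₀.2)⟩ := rfl

variable {i₁ j₁ i₂ j₂ : ι} (h2 : (2 : F) ≠ 0)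
  (hT : TwoHyp (matQ (M₀.map j)) i₁ j₁ i₂ j₂) {n : ℕ} (hcard : Fintype.card ι = 2 * n)
  (hfix : ∀ x, σ x = x → ∃ a, j a = x) (hjfix : ∀ a, σ (j a) = j a)
  (G : Good (matQ (M₀.map j))) (G₀ : Good (matQ M₀)) {r : ℕ} (hr : 0 < r)
  (hord : orderOf σ = r)
  (h1 : Cfsg.IsSemisimilarityPair (⇑(matQ (M₀.map j))) (1 : GL ι F) σ)

include hcard hfix G G₀ hr hord in
/-- the centralizer consists of automorphisms coming from the small field -/
theorem cent_le_range :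
    ConfAut.PD (matQ (M₀.map j)) n ⊓ Subgroup.centralizer {stdAut h1} ≤
      (JPhi j M₀ n).range := by
  intro β hβ
  rw [Subgroup.mem_inf] at hβ
  obtain ⟨⟨g, hg, rfl⟩, hβc⟩ := hβ
  rw [SetLike.mem_coe, Subgroup.mem_subgroupOf] at hg
  rw [Subgroup.mem_centralizer_singleton_iff] at hβc
  obtain ⟨d, hd0, hd⟩ := exists_fixed_of_commute G hr hord h1 g hβc
  obtain ⟨g', hg'⟩ : ∃ g' : GL ι F, g' = scalarGL (Units.mk0 d hd0) * (g : GL ι F) := ⟨_, rfl⟩
  have hg'd : g' ∈ dClassGO (matQ (M₀.map j)) n := by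
    rw [hg']
    exact Subgroup.mul_mem _ (scalarGL_mem_dClassGO hcard _) hg
  have hg'coe : (g' : Matrix ι ι F) = d • ((g : GL ι F) : Matrix ι ι F) := by
    rw [hg', Units.val_mul, scalarGL_coe, Units.val_mk0, Matrix.smul_mul, Matrix.one_mul]
  obtain ⟨g₀, hg₀, hJg₀⟩ := hdown_dClass j M₀ σ hfix G₀.exists_Q_ne_zero n g' hg'd
    (by rw [hg'coe]; exact hd)
  refine ⟨⟨g₀, hg₀⟩, ?_⟩
  rw [JPhi_apply]
  have e : (⟨Matrix.GeneralLinearGroup.map (n := ι) j g₀,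
      dClassGO_le_GO (hup_dClass j M₀ n g₀ hg₀)⟩ : ↥(GO (⇑(matQ (M₀.map j))))) =
      ⟨scalarGL (Units.mk0 d hd0), scalarGL_mem_GO _⟩ * g := by
    apply Subtype.ext
    show Matrix.GeneralLinearGroup.map (n := ι) j g₀ = scalarGL (Units.mk0 d hd0) * (g : GL ι F)
    rw [hJg₀, hg']
  rw [e, map_mul, Phi_of_scalar _ (scalarGL_mem _), one_mul]

include hjfix in
/-- automorphisms coming from the small field commute with the field automorphism -/
theorem range_le_cent :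
    (JPhi j M₀ n).range ≤
      ConfAut.PD (matQ (M₀.map j)) n ⊓ Subgroup.centralizer {stdAut h1} := by
  rintro _ ⟨g₀, rfl⟩
  rw [JPhi_apply, Subgroup.mem_inf]
  constructor
  · refine ⟨⟨Matrix.GeneralLinearGroup.map (n := ι) j (g₀ : GL ι F₀),
      dClassGO_le_GO (hup_dClass j M₀ n g₀ g₀.2)⟩, ?_, rfl⟩
    rw [SetLike.mem_coe, Subgroup.mem_subgroupOf]
    exact hup_dClass j M₀ n g₀ g₀.2
  rw [Subgroup.mem_centralizer_singleton_iff]
  apply Phi_commute_of_fixed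
  show ((Matrix.GeneralLinearGroup.map (n := ι) j (g₀ : GL ι F₀) : GL ι F) : Matrix ι ι F).map σ = _
  rw [map_coe_GL]
  ext a b
  simp only [Matrix.map_apply]
  exact hjfix _

include h2 hT hcard G in
/-- automorphisms coming from the small field are induced by special isometries, when the
elements of the small field are squares -/
theorem JPhi_mem_PSO (hsq : ∀ x : F₀, IsSquare (j x)) (g₀ : ↥(dClassGO (matQ M₀) n)) :
    JPhi j M₀ n g₀ ∈ ConfAut.PSO (matQ (M₀.map j)) := by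
  obtain ⟨c, hc, hdet⟩ := g₀.2
  rw [JPhi_apply]
  have hc' : IsMult (matQ (M₀.map j)) (Matrix.GeneralLinearGroup.map (n := ι) j (g₀ : GL ι F₀))
      (j (c : F₀)) := isMult_map' j M₀ hc
  exact (Phi_mem_PSO_iff_of_dclass h2 G.nondeg hT hcard
    (⟨Matrix.GeneralLinearGroup.map (n := ι) j (g₀ : GL ι F₀),
      dClassGO_le_GO (hup_dClass j M₀ n g₀ g₀.2)⟩ : ↥(GO (⇑(matQ (M₀.map j))))) hc'
    (hup_dClass j M₀ n g₀ g₀.2)).2 (hsq _)

include h2 hcard G G₀ in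
/-- similarities over the small field with square multiplier induce inner automorphisms -/
theorem JPhi_mem_POm_of_sq (hsq : ∀ x : F₀, IsSquare (j x)) (g₀ : ↥(dClassGO (matQ M₀) n))
    (s₀ : F₀) (hs₀ : IsMult (matQ M₀) (g₀ : GL ι F₀) (s₀ ^ 2)) :
    JPhi j M₀ n g₀ ∈ ConfAut.POm (matQ (M₀.map j)) := by
  obtain ⟨c, hc, hdet⟩ := g₀.2
  have hcs : (c : F₀) = s₀ ^ 2 := IsMult.unique G₀.exists_Q_ne_zero hc hs₀
  have hs₀0 : s₀ ≠ 0 := by
    rintro rfl
    rw [zero_pow two_ne_zero] at hcs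
    exact c.ne_zero hcs
  obtain ⟨o₀, ho₀⟩ : ∃ o₀ : GL ι F₀, o₀ = scalarGL (Units.mk0 s₀ hs₀0)⁻¹ * (g₀ : GL ι F₀) :=
    ⟨_, rfl⟩
  have ho₀m : IsMult (matQ M₀) o₀ 1 := by
    rw [ho₀]
    have := (isMult_scalarGL (Q := matQ M₀) (Units.mk0 s₀ hs₀0)⁻¹).mul hs₀
    have e : (((Units.mk0 s₀ hs₀0)⁻¹ : F₀ˣ) : F₀) ^ 2 * s₀ ^ 2 = 1 := by
      rw [Units.val_inv_eq_inv_val, Units.val_mk0]
      field_simp
    rwa [e] at this
  have ho₀s : o₀ ∈ Cfsg.specialIsometryGL F₀ (⇑(matQ M₀)) := by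
    rw [mem_special_iff']
    refine ⟨isMult_one_iff.1 ho₀m, ?_⟩
    rw [ho₀, Units.val_mul, Matrix.det_mul, det_scalarGL, hdet, hcs, hcard,
      Units.val_inv_eq_inv_val, Units.val_mk0, ← pow_mul, inv_pow]
    exact inv_mul_cancel₀ (pow_ne_zero _ hs₀0)
  have hJo₀ := map_special_mem_omegaGL j M₀ h2 G₀.nondeg G.nondeg G₀.hex hsq o₀ ho₀s
  have hJo₀GO := omegaGL_le_GO _ hJo₀
  rw [JPhi_apply]
  have e : (⟨Matrix.GeneralLinearGroup.map (n := ι) j (g₀ : GL ι F₀),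
      dClassGO_le_GO (hup_dClass j M₀ n g₀ g₀.2)⟩ : ↥(GO (⇑(matQ (M₀.map j))))) =
      ⟨scalarGL (Units.map (j : F₀ →* F) (Units.mk0 s₀ hs₀0)), scalarGL_mem_GO _⟩ *
        ⟨_, hJo₀GO⟩ := by
    apply Subtype.ext
    show Matrix.GeneralLinearGroup.map (n := ι) j (g₀ : GL ι F₀) =
      scalarGL (Units.map (j : F₀ →* F) (Units.mk0 s₀ hs₀0)) *
        Matrix.GeneralLinearGroup.map (n := ι) j o₀
    rw [← map_scalarGL, ← map_mul, ho₀]
    congr 1
    have e2 : (scalarGL (Units.mk0 s₀ hs₀0)⁻¹ : GL ι F₀) = (scalarGL (Units.mk0 s₀ hs₀0))⁻¹ := by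
      unfold scalarGL
      rw [map_inv]
    rw [e2, mul_inv_cancel_left]
  rw [e, map_mul, Phi_of_scalar _ (scalarGL_mem _), one_mul]
  exact ⟨_, Subgroup.mem_subgroupOf.2 hJo₀, rfl⟩

include h2 hcard hfix hjfix G G₀ hr hord in
/-- the centralizer consists of inner automorphisms iff one automorphism coming from a
similarity over the small field with non-square multiplier is inner -/
theorem cent_le_POm_iff (hsq : ∀ x : F₀, IsSquare (j x)) (δ₀ : ↥(dClassGO (matQ M₀) n))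
    (lam₀ : F₀) (hδ₀ : IsMult (matQ M₀) (δ₀ : GL ι F₀) lam₀) (hlam₀ : ¬ IsSquare lam₀) :
    ConfAut.PD (matQ (M₀.map j)) n ⊓ Subgroup.centralizer {stdAut h1} ≤
      ConfAut.POm (matQ (M₀.map j)) ↔
    JPhi j M₀ n δ₀ ∈ ConfAut.POm (matQ (M₀.map j)) := by
  classical
  constructor
  · intro h
    exact h (range_le_cent j M₀ σ hjfix h1 ⟨δ₀, rfl⟩)
  · intro hδ β hβ
    obtain ⟨g₀, rfl⟩ := cent_le_range j M₀ σ hcard hfix G G₀ hr hord h1 hβ
    obtain ⟨c, hc, hdet⟩ := g₀.2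
    by_cases hcsq : IsSquare (c : F₀)
    · obtain ⟨s₀, hs₀⟩ := hcsq
      apply JPhi_mem_POm_of_sq j M₀ h2 hcard G G₀ hsq g₀ s₀
      rw [pow_two, ← hs₀]
      exact hc
    · have h3 : JPhi j M₀ n (g₀ * δ₀) ∈ ConfAut.POm (matQ (M₀.map j)) := by
        have hm : IsMult (matQ M₀) ((g₀ * δ₀ : ↥(dClassGO (matQ M₀) n)) : GL ι F₀)
            ((c : F₀) * lam₀) := by
          rw [Subgroup.coe_mul]
          exact hc.mul hδ₀
        obtain ⟨s₀, hs₀⟩ := (Cfsg.Agent.Helper13.isSquare_mul_nonsquare c.ne_zero hlam₀).2 hcsq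
        apply JPhi_mem_POm_of_sq j M₀ h2 hcard G G₀ hsq (g₀ * δ₀) s₀
        rw [pow_two, ← hs₀]
        exact hm
      rw [map_mul] at h3
      exact (Subgroup.mul_mem_cancel_right _ hδ).1 h3

end jphi

end Cfsg.Agent.Helper17.OrthFA
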