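import Mathlib
import Cfsg.Agent.Lib.Helper17.OrthFA49

set_option autoImplicit false
set_option linter.unusedSectionVars false
set_option linter.unusedSimpArgs false
set_option linter.unusedVariables false

/-!
# The diagonal similarity of the split minus form in hyperbolic coordinates (helper17)
-/

namespace Cfsg.Agent.Helper17.OrthFA

open QuadraticMap Matrix Module Cfsg.Agent.Helper13 Cfsg.Agent.Helper17.OrthOut
  Cfsg.Agent.Helper17.Spinor Cfsg.Agent.Helper17.ConfAut Cfsg.Agent.Helper17.OrthAut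
  Cfsg.Agent.Helper2.Orth

universe u

section rect

variable {F : Type*} [Field F] [Fintype F] {ι ι' : Type} [Fintype ι] [DecidableEq ι] [Fintype ι']
  [DecidableEq ι'] (T : Matrix ι' ι F) (Ti : Matrix ι ι' F) (e1 : T * Ti = 1) (e2 : Ti * T = 1)

theorem conjGL_scalarGL (c : Fˣ) : conjGL T Ti e1 e2 (scalarGL c) = scalarGL c := by
  apply Units.ext
  rw [conjGL_coe, scalarGL_coe, scalarGL_coe, Matrix.mul_smul, Matrix.mul_one, Matrix.smul_mul, e1]

end rect

section diag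

variable {F : Type u} [Field F] (m : ℕ) (t t' : F) (a b : F)
  (hsum : t + t' = -a) (hprod : t * t' = b)
  (lam : Fˣ) (s u : F) (hst : s ^ 2 + a * s * u + b * u ^ 2 = lam)

theorem delta1_mulVec (v : (Fin m ⊕ Fin m) ⊕ Fin 2 → F) :
    (∀ i, ((delta1 m a b lam s u hst : GL ((Fin m ⊕ Fin m) ⊕ Fin 2) F) :
      Matrix ((Fin m ⊕ Fin m) ⊕ Fin 2) ((Fin m ⊕ Fin m) ⊕ Fin 2) F).mulVec v (Sum.inl (Sum.inl i)) =
        (lam : F) * v (Sum.inl (Sum.inl i))) ∧
    (∀ i, ((delta1 m a b lam s u hst : GL ((Fin m ⊕ Fin m) ⊕ Fin 2) F) :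
      Matrix ((Fin m ⊕ Fin m) ⊕ Fin 2) ((Fin m ⊕ Fin m) ⊕ Fin 2) F).mulVec v (Sum.inl (Sum.inr i)) =
        v (Sum.inl (Sum.inr i))) ∧
    (((delta1 m a b lam s u hst : GL ((Fin m ⊕ Fin m) ⊕ Fin 2) F) :
      Matrix ((Fin m ⊕ Fin m) ⊕ Fin 2) ((Fin m ⊕ Fin m) ⊕ Fin 2) F).mulVec v (Sum.inr 0) =
        s * v (Sum.inr 0) - b * u * v (Sum.inr 1)) ∧
    (((delta1 m a b lam s u hst : GL ((Fin m ⊕ Fin m) ⊕ Fin 2) F) :
      Matrix ((Fin m ⊕ Fin m) ⊕ Fin 2) ((Fin m ⊕ Fin m) ⊕ Fin 2) F).mulVec v (Sum.inr 1) =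
        u * v (Sum.inr 0) + (s + a * u) * v (Sum.inr 1)) := by
  have e : ((delta1 m a b lam s u hst : GL ((Fin m ⊕ Fin m) ⊕ Fin 2) F) :
      Matrix ((Fin m ⊕ Fin m) ⊕ Fin 2) ((Fin m ⊕ Fin m) ⊕ Fin 2) F) =
      Matrix.fromBlocks (blk (fun _ => (lam : F)) 0 0 1) 0 0 (mulMat a b s u) := rfl
  rw [e]
  have h := Matrix.fromBlocks_mulVec (blk (fun _ : Fin m => (lam : F)) 0 0 1) 0 0 (mulMat a b s u)
    (Sum.elim (v ∘ Sum.inl) (v ∘ Sum.inr))
  rw [Sum.elim_comp_inl_inr] at h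
  rw [h]
  simp only [Sum.elim_comp_inl, Sum.elim_comp_inr, Matrix.zero_mulVec, add_zero, zero_add,
    Sum.elim_inl, Sum.elim_inr, blk_mulVec]
  refine ⟨fun i => ?_, fun i => ?_, ?_, ?_⟩
  · simp
  · simp
  · simp [mulMat, Matrix.mulVec, dotProduct, Fin.sum_univ_two]
    ring
  · simp [mulMat, Matrix.mulVec, dotProduct, Fin.sum_univ_two]

/-- the first half of the diagonal -/
def dOne : Fin (m + 1) → F := Fin.snoc (α := fun _ => F) (fun _ : Fin m => (lam : F)) (s - t * u)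

/-- the second half of the diagonal -/
def dTwo : Fin (m + 1) → F := Fin.snoc (α := fun _ => F) (fun _ : Fin m => (1 : F)) (s - t' * u)

include hsum hprod in
theorem minusTM_mul_delta1 :
    minusTM m t t' * ((delta1 m a b lam s u hst : GL ((Fin m ⊕ Fin m) ⊕ Fin 2) F) :
      Matrix ((Fin m ⊕ Fin m) ⊕ Fin 2) ((Fin m ⊕ Fin m) ⊕ Fin 2) F) =
    Matrix.fromBlocks (Matrix.diagonal (dOne m t lam s u)) 0 0
      (Matrix.diagonal (dTwo m t' s u)) * minusTM m t t' := by
  apply Matrix.toLin'.injective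
  apply LinearMap.ext
  intro v
  rw [Matrix.toLin'_mul, LinearMap.comp_apply, Matrix.toLin'_apply, Matrix.toLin'_apply,
    Matrix.toLin'_mul, LinearMap.comp_apply, Matrix.toLin'_apply, Matrix.toLin'_apply,
    minusTM_mulVec, minusTM_mulVec]
  obtain ⟨h1, h2, h3, h4⟩ := delta1_mulVec m a b lam s u hst v
  have hroot : t ^ 2 + a * t + b = 0 := by
    have ha : a = -(t + t') := by rw [hsum, neg_neg]
    rw [ha, ← hprod]
    ring
  have hroot' : t' ^ 2 + a * t' + b = 0 := by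
    have ha : a = -(t + t') := by rw [hsum, neg_neg]
    rw [ha, ← hprod]
    ring
  have h := Matrix.fromBlocks_mulVec (Matrix.diagonal (dOne m t lam s u)) 0 0
    (Matrix.diagonal (dTwo m t' s u))
    (Sum.elim (minusT m t t' v ∘ Sum.inl) (minusT m t t' v ∘ Sum.inr))
  rw [Sum.elim_comp_inl_inr] at h
  rw [h]
  funext i
  rcases i with i | i
  · refine Fin.lastCases ?_ (fun l => ?_) i
    · simp only [minusT_inl_last, Sum.elim_inl, Sum.elim_comp_inl, Matrix.zero_mulVec, add_zero,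
        Matrix.mulVec_diagonal, Function.comp_apply, h3, h4, dOne, Fin.snoc_last]
      linear_combination (-u * v (Sum.inr 1)) * hroot
    · simp only [minusT_inl_castSucc, Sum.elim_inl, Sum.elim_comp_inl, Matrix.zero_mulVec, add_zero,
        Matrix.mulVec_diagonal, Function.comp_apply, h1, dOne, Fin.snoc_castSucc]
  · refine Fin.lastCases ?_ (fun l => ?_) i
    · simp only [minusT_inr_last, Sum.elim_inr, Sum.elim_comp_inr, Matrix.zero_mulVec, zero_add,
        Matrix.mulVec_diagonal, Function.comp_apply, h3, h4, dTwo, Fin.snoc_last]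
      linear_combination (-u * v (Sum.inr 1)) * hroot'
    · simp only [minusT_inr_castSucc, Sum.elim_inr, Sum.elim_comp_inr, Matrix.zero_mulVec, zero_add,
        Matrix.mulVec_diagonal, Function.comp_apply, h2, dTwo, Fin.snoc_castSucc, one_mul]

end diag

end Cfsg.Agent.Helper17.OrthFA
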