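import Mathlib
import Cfsg.Agent.Lib.Helper17.OrthFA50

set_option autoImplicit false
set_option linter.unusedSectionVars false
set_option linter.unusedSimpArgs false
set_option linter.unusedVariables false

/-!
# When the diagonal similarity of the split minus form induces an inner automorphism (helper17)
-/

namespace Cfsg.Agent.Helper17.OrthFA

open QuadraticMap Matrix Module Cfsg.Agent.Helper13 Cfsg.Agent.Helper17.OrthOut
  Cfsg.Agent.Helper17.Spinor Cfsg.Agent.Helper17.ConfAut Cfsg.Agent.Helper17.OrthAut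
  Cfsg.Agent.Helper2.Orth

universe u

section crit

variable {F : Type u} [Field F] [Fintype F] (m : ℕ) (t t' : F) (hne : t ≠ t') (a b : F)
  (hsum : t + t' = -a) (hprod : t * t' = b)
  (lam : Fˣ) (s u : F) (hst : s ^ 2 + a * s * u + b * u ^ 2 = lam)

include hsum hprod hst in
theorem dOne_mul_dTwo (i : Fin (m + 1)) : dOne m t lam s u i * dTwo m t' s u i = lam := by
  refine Fin.lastCases ?_ (fun l => ?_) i
  · simp only [dOne, dTwo, Fin.snoc_last]
    have ha : a = -(t + t') := by rw [hsum, neg_neg]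
    rw [← hst, ha, ← hprod]
    ring
  · simp only [dOne, dTwo, Fin.snoc_castSucc, mul_one]

theorem prod_dOne : ∏ i, dOne m t lam s u i = (lam : F) ^ m * (s - t * u) := by
  rw [Fin.prod_univ_castSucc]
  simp only [dOne, Fin.snoc_last, Fin.snoc_castSucc, Finset.prod_const, Finset.card_univ,
    Fintype.card_fin]

include hsum hprod hst in
/-- the conjugate of the scaled diagonal similarity -/
theorem conjGL_delta1_scaled (c : Fˣ) (hc : (c : F) ^ 2 = lam)
    (hd : ∀ i, ((c⁻¹ : Fˣ) : F) * dOne m t lam s u i ≠ 0) :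
    conjGL (minusTM m t t') (minusTMinv m t t' hne) (minusTM_mul_inv m t t' hne)
      (minusTMinv_mul m t t' hne) (delta1 m a b lam s u hst * scalarGL c⁻¹) =
    ((psi (dGL (fun i => ((c⁻¹ : Fˣ) : F) * dOne m t lam s u i) hd) :
      ↥(Cfsg.isometryGroup F (⇑(plusQ (m + 1) F)))) : GL (Fin (m + 1) ⊕ Fin (m + 1)) F) := by
  rw [map_mul, conjGL_scalarGL]
  apply Units.ext
  have hconj : minusTM m t t' * ((delta1 m a b lam s u hst : GL ((Fin m ⊕ Fin m) ⊕ Fin 2) F) :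
      Matrix ((Fin m ⊕ Fin m) ⊕ Fin 2) ((Fin m ⊕ Fin m) ⊕ Fin 2) F) * minusTMinv m t t' hne =
      Matrix.fromBlocks (Matrix.diagonal (dOne m t lam s u)) 0 0
        (Matrix.diagonal (dTwo m t' s u)) := by
    rw [minusTM_mul_delta1 m t t' a b hsum hprod lam s u hst, Matrix.mul_assoc, minusTM_mul_inv,
      Matrix.mul_one]
  rw [Units.val_mul, conjGL_coe, hconj, scalarGL_coe, Matrix.mul_smul,
    Matrix.mul_one, Cfsg.Agent.Helper17.Spinor.psi_coe]
  have e1 : ((dGL (fun i => ((c⁻¹ : Fˣ) : F) * dOne m t lam s u i) hd : GL (Fin (m + 1)) F) :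
      Matrix (Fin (m + 1)) (Fin (m + 1)) F) =
      Matrix.diagonal (fun i => ((c⁻¹ : Fˣ) : F) * dOne m t lam s u i) := rfl
  have e2 : (((dGL (fun i => ((c⁻¹ : Fˣ) : F) * dOne m t lam s u i) hd)⁻¹ : GL (Fin (m + 1)) F) :
      Matrix (Fin (m + 1)) (Fin (m + 1)) F) =
      Matrix.diagonal (fun i => (((c⁻¹ : Fˣ) : F) * dOne m t lam s u i)⁻¹) := rfl
  rw [e1, e2, Matrix.diagonal_transpose, Matrix.fromBlocks_smul, smul_zero]
  have e3 : ((c⁻¹ : Fˣ) : F) • Matrix.diagonal (dOne m t lam s u) =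
      Matrix.diagonal (fun i => ((c⁻¹ : Fˣ) : F) * dOne m t lam s u i) := by
    rw [← Matrix.diagonal_smul]
    rfl
  have e4 : ((c⁻¹ : Fˣ) : F) • Matrix.diagonal (dTwo m t' s u) =
      Matrix.diagonal (fun i => (((c⁻¹ : Fˣ) : F) * dOne m t lam s u i)⁻¹) := by
    rw [← Matrix.diagonal_smul]
    congr 1
    funext i
    have h1 := dOne_mul_dTwo m t t' a b hsum hprod lam s u hst i
    have h2 := hd i
    have hc0 : (c : F) ≠ 0 := c.ne_zero
    rw [Pi.smul_apply, smul_eq_mul, Units.val_inv_eq_inv_val]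
    rw [Units.val_inv_eq_inv_val] at h2
    have h3 : dOne m t lam s u i ≠ 0 := right_ne_zero_of_mul h2
    rw [mul_inv, inv_inv]
    field_simp
    rw [hc]
    linear_combination h1
  rw [e3, e4]

include hsum hprod hne in
/-- **the criterion** -/
theorem Phi_delta1_mem_iff (h2 : (2 : F) ≠ 0)
    (hQ : (polarBilin (minusQ m a b)).Nondegenerate)
    {i₁ j₁ i₂ j₂ : (Fin m ⊕ Fin m) ⊕ Fin 2} (hT : TwoHyp (minusQ m a b) i₁ j₁ i₂ j₂)
    (hneg : (negGL : GL ((Fin m ⊕ Fin m) ⊕ Fin 2) F) ∈ Geo.omegaGL (⇑(minusQ m a b)))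
    (hex : Fintype.card F ≠ 2 ∨ Fintype.card (Fin (m + 1) ⊕ Fin (m + 1)) ≠ 4)
    (c : Fˣ) (hc : (c : F) ^ 2 = lam) (hμ : s - t * u ≠ 0)
    (hGO : delta1 m a b lam s u hst ∈ GO (⇑(minusQ m a b))) :
    Phi (⇑(minusQ m a b)) ⟨delta1 m a b lam s u hst, hGO⟩ ∈ ConfAut.POm (minusQ m a b) ↔
      IsSquare ((c : F) ^ (m + 1) * (s - t * u)) := by
  have hd : ∀ i, ((c⁻¹ : Fˣ) : F) * dOne m t lam s u i ≠ 0 := by
    intro i
    apply mul_ne_zero (Units.ne_zero _)
    refine Fin.lastCases ?_ (fun l => ?_) i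
    · simp only [dOne, Fin.snoc_last]
      exact hμ
    · simp only [dOne, Fin.snoc_castSucc]
      exact lam.ne_zero
  have hg : IsMult (minusQ m a b) ((⟨delta1 m a b lam s u hst, hGO⟩ :
      ↥(GO (⇑(minusQ m a b)))) : GL ((Fin m ⊕ Fin m) ⊕ Fin 2) F) ((c : F) ^ 2) := by
    rw [hc]
    exact isMult_delta1 m a b lam s u hst
  rw [Phi_mem_POm_iff_of_sq h2 hQ hT hneg _ c hg,
    ← conjGL_mem_omegaGL_iff (minusTM m t t') (minusTMinv m t t' hne) (minusTM_mul_inv m t t' hne)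
      (minusTMinv_mul m t t' hne) (plusQ_minusTM m t t' a b hsum hprod)]
  show conjGL (minusTM m t t') (minusTMinv m t t' hne) (minusTM_mul_inv m t t' hne)
      (minusTMinv_mul m t t' hne) (delta1 m a b lam s u hst * scalarGL c⁻¹) ∈ _ ↔ _
  rw [conjGL_delta1_scaled m t t' hne a b hsum hprod lam s u hst c hc hd,
    Cfsg.Agent.Helper17.OmegaElts.mem_omegaGL_iff]
  have key : (∃ h : ↥(Cfsg.isometryGroup F (⇑(plusQ (m + 1) F))),
      h ∈ Cfsg.Omega F (⇑(plusQ (m + 1) F)) ∧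
      (h : GL (Fin (m + 1) ⊕ Fin (m + 1)) F) =
        ((psi (dGL (fun i => ((c⁻¹ : Fˣ) : F) * dOne m t lam s u i) hd) :
          ↥(Cfsg.isometryGroup F (⇑(plusQ (m + 1) F)))) : GL (Fin (m + 1) ⊕ Fin (m + 1)) F)) ↔
      psi (dGL (fun i => ((c⁻¹ : Fˣ) : F) * dOne m t lam s u i) hd) ∈
        Cfsg.Omega F (⇑(plusQ (m + 1) F)) := by
    constructor
    · rintro ⟨h, hh, he⟩
      have : h = psi (dGL (fun i => ((c⁻¹ : Fˣ) : F) * dOne m t lam s u i) hd) := Subtype.ext he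
      rw [← this]
      exact hh
    · intro h
      exact ⟨_, h, rfl⟩
  rw [key, psi_dGL_mem_iff hex]
  have hc0 : (c : F) ≠ 0 := c.ne_zero
  have hprod' : (∏ i, ((c⁻¹ : Fˣ) : F) * dOne m t lam s u i) * ((c : F) ^ (m + 1)) ^ 2 =
      (c : F) ^ (m + 1) * (s - t * u) * ((c : F) ^ m) ^ 2 := by
    rw [Finset.prod_mul_distrib, prod_dOne, Finset.prod_const, Finset.card_univ, Fintype.card_fin,
      Units.val_inv_eq_inv_val, ← hc, inv_pow]
    field_simp
    ring
  constructor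
  · rintro ⟨y, hy⟩
    refine ⟨y * (c : F) ^ (m + 1) / (c : F) ^ m, ?_⟩
    have h5 : (c : F) ^ m ≠ 0 := pow_ne_zero _ hc0
    rw [div_mul_div_comm, eq_div_iff (mul_ne_zero h5 h5)]
    rw [hy] at hprod'
    linear_combination -hprod'
  · rintro ⟨y, hy⟩
    refine ⟨y * (c : F) ^ m / (c : F) ^ (m + 1), ?_⟩
    have h5 : (c : F) ^ (m + 1) ≠ 0 := pow_ne_zero _ hc0
    rw [div_mul_div_comm, eq_div_iff (mul_ne_zero h5 h5)]
    rw [hy] at hprod'
    linear_combination hprod'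

end crit

end Cfsg.Agent.Helper17.OrthFA
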