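import Mathlib
import Cfsg.Agent.Lib.Helper17.OrthFA51

set_option autoImplicit false
set_option linter.unusedSectionVars false
set_option linter.unusedSimpArgs false
set_option linter.unusedVariables false

/-!
# Squares in a quadratic extension of finite fields; the diagonal similarity over the large field
(helper17)
-/

namespace Cfsg.Agent.Helper17.OrthFA

open QuadraticMap Matrix Module Cfsg.Agent.Helper13 Cfsg.Agent.Helper17.OrthOut
  Cfsg.Agent.Helper17.Spinor Cfsg.Agent.Helper17.ConfAut Cfsg.Agent.Helper17.OrthAut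
  Cfsg.Agent.Helper2.Orth

section sq

variable {F : Type*} [Field F] [Fintype F] {F₀ : Type*} [Field F₀] [Fintype F₀]
  (j : F₀ →+* F) (σ : F ≃+* F)
  (hfix : ∀ x, σ x = x → ∃ a, j a = x) (hjfix : ∀ a, σ (j a) = j a)
  (hσ2 : ∀ x, σ (σ x) = x)

include hfix hjfix hσ2 in
/-- an element whose norm is not a square is not a square -/
theorem not_isSquare_of_norm (lam₀ : F₀) (hlam₀ : ¬ IsSquare lam₀) (μ : F)
    (hμ : μ * σ μ = j lam₀) : ¬ IsSquare μ := by
  intro h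
  obtain ⟨c₀, hc₀⟩ := norm_of_isSquare j σ hfix hjfix hσ2 μ h
  apply hlam₀
  refine ⟨c₀, ?_⟩
  apply j.injective
  rw [← hμ, hc₀, pow_two]

include hfix hjfix hσ2 in
/-- a square root of a non-square of the small field is a square iff `q₀ ≡ 3 (mod 4)` -/
theorem isSquare_root_iff (hsq : ∀ c : F₀, IsSquare (j c)) (lam₀ : F₀)
    (hlam₀ : ¬ IsSquare lam₀) (c : F) (hc : c ^ 2 = j lam₀) :
    IsSquare c ↔ Fintype.card F₀ % 4 = 3 := by
  classical
  have hσc : σ c = -c := by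
    have h1 : (σ c) ^ 2 = c ^ 2 := by
      rw [← map_pow, hc, hjfix]
    have h3 : (σ c - c) * (σ c + c) = 0 := by linear_combination h1
    rcases mul_eq_zero.1 h3 with h4 | h4
    · exfalso
      obtain ⟨e₀, he₀⟩ := hfix c (sub_eq_zero.1 h4)
      apply hlam₀
      refine ⟨e₀, ?_⟩
      apply j.injective
      rw [← hc, ← he₀, map_mul, pow_two]
    · linear_combination h4
  have hnorm : c * σ c = j (-lam₀) := by
    rw [hσc, map_neg, ← hc]
    ring
  have hlam₀0 : lam₀ ≠ 0 := by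
    rintro rfl
    exact hlam₀ ⟨0, by ring⟩
  have hiff : IsSquare (-lam₀) ↔ ¬ IsSquare (-1 : F₀) := by
    have := Cfsg.Agent.Helper13.isSquare_mul_nonsquare (x := (-1 : F₀)) (neg_ne_zero.2 one_ne_zero)
      hlam₀
    rwa [neg_one_mul] at this
  rw [FiniteField.isSquare_neg_one_iff, not_not] at hiff
  rw [← hiff]
  constructor
  · intro h
    obtain ⟨c₀, hc₀⟩ := norm_of_isSquare j σ hfix hjfix hσ2 c h
    refine ⟨c₀, ?_⟩
    apply j.injective
    rw [← hnorm, hc₀, pow_two]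
  · rintro ⟨c₀, hc₀⟩
    apply isSquare_of_norm j σ hfix hjfix hσ2 hsq c c₀
    rw [hnorm, hc₀, pow_two]

/-- squares among the products of a power and a non-square -/
theorem isSquare_pow_mul_iff (c μ : F) (hc0 : c ≠ 0) (hμ : ¬ IsSquare μ) (n : ℕ) :
    IsSquare (c ^ n * μ) ↔ Odd n ∧ ¬ IsSquare c := by
  classical
  rw [Cfsg.Agent.Helper13.isSquare_mul_nonsquare (pow_ne_zero n hc0) hμ]
  rcases Nat.even_or_odd n with ⟨k, hk⟩ | ⟨k, hk⟩
  · constructor
    · intro h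
      exfalso
      apply h
      exact ⟨c ^ k, by rw [hk, pow_add]⟩
    · rintro ⟨ho, -⟩
      exfalso
      rw [hk] at ho
      exact (Nat.not_odd_iff_even.2 ⟨k, rfl⟩) ho
  · have hck : c ^ k ≠ 0 := pow_ne_zero k hc0
    constructor
    · intro h
      refine ⟨⟨k, hk⟩, ?_⟩
      rintro ⟨z, hz⟩
      apply h
      refine ⟨z * c ^ k, ?_⟩
      rw [hk, pow_succ, pow_mul, hz]
      ring
    · rintro ⟨-, h⟩ ⟨y, hy⟩
      apply h
      refine ⟨y / c ^ k, ?_⟩
      rw [div_mul_div_comm, eq_div_iff (mul_ne_zero hck hck), ← hy, hk]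
      ring

end sq

section mapdelta

variable {F : Type*} [Field F] {F₀ : Type*} [Field F₀] (j : F₀ →+* F) (m : ℕ)

theorem mulMat_map (a₀ b₀ s₀ u₀ : F₀) :
    (mulMat a₀ b₀ s₀ u₀).map j = mulMat (j a₀) (j b₀) (j s₀) (j u₀) := by
  ext i k
  fin_cases i <;> fin_cases k <;> simp [mulMat]

theorem map_delta1 (a₀ b₀ : F₀) (lam₀ : F₀ˣ) (s₀ u₀ : F₀)
    (hst₀ : s₀ ^ 2 + a₀ * s₀ * u₀ + b₀ * u₀ ^ 2 = lam₀)
    (hst : (j s₀) ^ 2 + j a₀ * j s₀ * j u₀ + j b₀ * (j u₀) ^ 2 =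
      (Units.map (j : F₀ →* F) lam₀ : Fˣ)) :
    Matrix.GeneralLinearGroup.map (n := (Fin m ⊕ Fin m) ⊕ Fin 2) j
      (delta1 m a₀ b₀ lam₀ s₀ u₀ hst₀) =
    delta1 m (j a₀) (j b₀) (Units.map (j : F₀ →* F) lam₀) (j s₀) (j u₀) hst := by
  apply Units.ext
  rw [map_coe_GL]
  have e₀ : ((delta1 m a₀ b₀ lam₀ s₀ u₀ hst₀ : GL ((Fin m ⊕ Fin m) ⊕ Fin 2) F₀) :
      Matrix ((Fin m ⊕ Fin m) ⊕ Fin 2) ((Fin m ⊕ Fin m) ⊕ Fin 2) F₀) =
      Matrix.fromBlocks (Matrix.fromBlocks (Matrix.diagonal (fun _ : Fin m => (lam₀ : F₀)))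
        (Matrix.diagonal (0 : Fin m → F₀)) (Matrix.diagonal (0 : Fin m → F₀))
        (Matrix.diagonal (1 : Fin m → F₀))) 0 0 (mulMat a₀ b₀ s₀ u₀) := rfl
  have e : ((delta1 m (j a₀) (j b₀) (Units.map (j : F₀ →* F) lam₀) (j s₀) (j u₀) hst :
      GL ((Fin m ⊕ Fin m) ⊕ Fin 2) F) :
      Matrix ((Fin m ⊕ Fin m) ⊕ Fin 2) ((Fin m ⊕ Fin m) ⊕ Fin 2) F) =
      Matrix.fromBlocks (Matrix.fromBlocks (Matrix.diagonal (fun _ : Fin m => j (lam₀ : F₀)))
        (Matrix.diagonal (0 : Fin m → F)) (Matrix.diagonal (0 : Fin m → F))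
        (Matrix.diagonal (1 : Fin m → F))) 0 0 (mulMat (j a₀) (j b₀) (j s₀) (j u₀)) := rfl
  rw [e₀, e, Matrix.fromBlocks_map, Matrix.fromBlocks_map, mulMat_map,
    Matrix.diagonal_map (map_zero j), Matrix.diagonal_map (map_zero j),
    Matrix.diagonal_map (map_zero j)]
  congr 1
  · congr 1
    · ext a b
      simp [Matrix.diagonal_apply]
    · ext a b
      simp [Matrix.diagonal_apply]
    · ext a b
      simp [Matrix.diagonal_apply, apply_ite]
  · ext a b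
    simp
  · ext a b
    simp

end mapdelta

end Cfsg.Agent.Helper17.OrthFA
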