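import Mathlib
import Cfsg.Agent.Lib.Helper17.OrthFA52

set_option autoImplicit false
set_option linter.unusedSectionVars false
set_option linter.unusedSimpArgs false
set_option linter.unusedVariables false

/-!
# The split minus form: `-1`, similarities of every multiplier, the criterion for a general
Gram matrix (helper17)
-/

namespace Cfsg.Agent.Helper17.OrthFA

open QuadraticMap Matrix Module Cfsg.Agent.Helper13 Cfsg.Agent.Helper17.OrthOut
  Cfsg.Agent.Helper17.Spinor Cfsg.Agent.Helper17.ConfAut Cfsg.Agent.Helper17.OrthAut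
  Cfsg.Agent.Helper2.Orth

universe u

section split

variable {F : Type u} [Field F] [Fintype F] (m : ℕ) (t t' : F) (hne : t ≠ t') (a b : F)
  (hsum : t + t' = -a) (hprod : t * t' = b)

include hne hsum hprod in
/-- `-1` lies in `Ω` of the split minus form when `q ≡ 1 (mod 4)` -/
theorem negGL_mem_split (hcard : Fintype.card F % 4 = 1) :
    (negGL : GL ((Fin m ⊕ Fin m) ⊕ Fin 2) F) ∈ Geo.omegaGL (⇑(minusQ m a b)) := by
  have hodd : Odd (Fintype.card F) := by
    rw [Nat.odd_iff]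
    omega
  rw [← conjGL_mem_omegaGL_iff (minusTM m t t') (minusTMinv m t t' hne)
    (minusTM_mul_inv m t t' hne) (minusTMinv_mul m t t' hne) (plusQ_minusTM m t t' a b hsum hprod)]
  show conjGL (minusTM m t t') (minusTMinv m t t' hne) (minusTM_mul_inv m t t' hne)
    (minusTMinv_mul m t t' hne) (scalarGL (-1)) ∈ _
  rw [conjGL_scalarGL]
  apply (negGL_mem_plus_iff hodd (m + 1) (by omega)).2
  rintro ⟨-, h⟩
  omega

include hne hsum hprod in
/-- the split binary form represents every element -/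
theorem exists_binN_split (lam : F) : ∃ s u : F, s ^ 2 + a * s * u + b * u ^ 2 = lam := by
  have h0 : t' - t ≠ 0 := sub_ne_zero.2 (Ne.symm hne)
  refine ⟨lam + t * ((lam - 1) / (t' - t)), (lam - 1) / (t' - t), ?_⟩
  have ha : a = -(t + t') := by rw [hsum, neg_neg]
  rw [ha, ← hprod]
  field_simp
  ring

include hne hsum hprod in
/-- the criterion for a general Gram matrix -/
theorem Phi_delta1_mem_iff' (M : Matrix ((Fin m ⊕ Fin m) ⊕ Fin 2) ((Fin m ⊕ Fin m) ⊕ Fin 2) F)
    (hM : M = minusMat m a b)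
    (lam : Fˣ) (s u : F) (hst : s ^ 2 + a * s * u + b * u ^ 2 = lam)
    (h2 : (2 : F) ≠ 0) (hQ : (polarBilin (matQ M)).Nondegenerate)
    {i₁ j₁ i₂ j₂ : (Fin m ⊕ Fin m) ⊕ Fin 2} (hT : TwoHyp (matQ M) i₁ j₁ i₂ j₂)
    (hneg : (negGL : GL ((Fin m ⊕ Fin m) ⊕ Fin 2) F) ∈ Geo.omegaGL (⇑(matQ M)))
    (hex : Fintype.card F ≠ 2 ∨ Fintype.card (Fin (m + 1) ⊕ Fin (m + 1)) ≠ 4)
    (c : Fˣ) (hc : (c : F) ^ 2 = lam) (hμ : s - t * u ≠ 0)
    (g : ↥(GO (⇑(matQ M))))
    (hg : (g : GL ((Fin m ⊕ Fin m) ⊕ Fin 2) F) = delta1 m a b lam s u hst) :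
    Phi (⇑(matQ M)) g ∈ ConfAut.POm (matQ M) ↔ IsSquare ((c : F) ^ (m + 1) * (s - t * u)) := by
  subst hM
  obtain ⟨g, hgGO⟩ := g
  have hg' : g = delta1 m a b lam s u hst := hg
  subst hg'
  exact Phi_delta1_mem_iff m t t' hne a b hsum hprod lam s u hst h2 hQ hT hneg hex c hc hμ hgGO

end split

end Cfsg.Agent.Helper17.OrthFA
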