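import Mathlib
import Cfsg.Agent.Lib.Helper17.OrthFA53

set_option autoImplicit false
set_option linter.unusedSectionVars false
set_option linter.unusedSimpArgs false
set_option linter.unusedVariables false
set_option maxHeartbeats 1000000

/-!
# The involutory field automorphism of the split minus form: centralizer and class count in odd
characteristic (helper17)
-/

namespace Cfsg.Agent.Helper17.OrthFA

open QuadraticMap Matrix Module Cfsg.Agent.Helper13 Cfsg.Agent.Helper17.OrthOut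
  Cfsg.Agent.Helper17.Spinor Cfsg.Agent.Helper17.ConfAut Cfsg.Agent.Helper17.OrthAut
  Cfsg.Agent.Helper2.Orth

section aux

variable {F : Type*} [Field F] [Fintype F] {F₀ : Type*} [Field F₀] [Fintype F₀]

theorem split_cent_odd (k : ℕ) (j : F₀ →+* F) (σ : F ≃+* F)
    (hfix : ∀ x, σ x = x → ∃ a, j a = x) (hjfix : ∀ a, σ (j a) = j a)
    (hσ2 : ∀ x, σ (σ x) = x) (hord : orderOf σ = 2) (hsq : ∀ x : F₀, IsSquare (j x))
    (hcardF : Fintype.card F % 4 = 1)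
    (a₀ b₀ : F₀)
    (hab₀ : ∀ z₁ z₂ : F₀, z₁ ^ 2 + a₀ * z₁ * z₂ + b₀ * z₂ ^ 2 = 0 → z₁ = 0 ∧ z₂ = 0)
    (t : F) (ht : σ t ≠ t) (ha₀ : j a₀ = -(t + σ t)) (hb₀ : j b₀ = t * σ t)
    (h2 : (2 : F) ≠ 0)
    (h1 : Cfsg.IsSemisimilarityPair (⇑(matQ ((minusMat (k + 4) a₀ b₀).map j)))
      (1 : GL ((Fin (k + 4) ⊕ Fin (k + 4)) ⊕ Fin 2) F) σ) :
    Nonempty (↥(ConfAut.PD (matQ ((minusMat (k + 4) a₀ b₀).map j)) (k + 4 + 1) ⊓
        Subgroup.centralizer {stdAut h1}) ≃*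
      ↥(ConfAut.PD (minusQ (k + 4) a₀ b₀) (k + 4 + 1))) ∧
    ((Odd (k + 4 + 1) ∧ Fintype.card F₀ % 4 = 1) →
      Cfsg.splitClassCount (ConfAut.PD (matQ ((minusMat (k + 4) a₀ b₀).map j)) (k + 4 + 1))
        (Cfsg.Inn (Cfsg.POmega F (⇑(matQ ((minusMat (k + 4) a₀ b₀).map j))))) (stdAut h1) = 4) ∧
    (¬ (Odd (k + 4 + 1) ∧ Fintype.card F₀ % 4 = 1) →
      Cfsg.splitClassCount (ConfAut.PD (matQ ((minusMat (k + 4) a₀ b₀).map j)) (k + 4 + 1))
        (Cfsg.Inn (Cfsg.POmega F (⇑(matQ ((minusMat (k + 4) a₀ b₀).map j))))) (stdAut h1) = 2) := by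
  classical
  obtain ⟨t', ht'⟩ : ∃ t' : F, t' = σ t := ⟨_, rfl⟩
  have hne : t ≠ t' := by
    rw [ht']
    exact fun h => ht h.symm
  have hsum : t + t' = -(j a₀) := by rw [ha₀, ht', neg_neg]
  have hprod : t * t' = j b₀ := by rw [hb₀, ht']
  have hσt' : σ t' = t := by rw [ht', hσ2]
  have hMeq : (minusMat (k + 4) a₀ b₀).map j = minusMat (k + 4) (j a₀) (j b₀) :=
    minusMat_map j (k + 4) a₀ b₀
  have hdisc : 4 * j b₀ - (j a₀) ^ 2 ≠ 0 := by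
    have ha : j a₀ = -(t + t') := by rw [hsum, neg_neg]
    rw [← hprod, ha]
    have e : 4 * (t * t') - (-(t + t')) ^ 2 = -((t - t') ^ 2) := by ring
    rw [e]
    exact neg_ne_zero.2 (pow_ne_zero _ (sub_ne_zero.2 hne))
  have G : Good (matQ ((minusMat (k + 4) a₀ b₀).map j)) := by
    rw [hMeq]
    exact good_minus_split k (j a₀) (j b₀) hdisc
  have G₀ : Good (minusQ (k + 4) a₀ b₀) := good_minus (k + 1) a₀ b₀ hab₀
  have hcard : Fintype.card ((Fin (k + 4) ⊕ Fin (k + 4)) ⊕ Fin 2) = 2 * (k + 4 + 1) :=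
    card_minusIdx (k + 4)
  have hev : Even (Fintype.card ((Fin (k + 4) ⊕ Fin (k + 4)) ⊕ Fin 2)) := ⟨k + 4 + 1, by
    rw [hcard]; ring⟩
  have h2₀ : (2 : F₀) ≠ 0 := by
    intro h
    apply h2
    have := congrArg j h
    rwa [map_ofNat, map_zero] at this
  have hT : TwoHyp (matQ ((minusMat (k + 4) a₀ b₀).map j)) (Sum.inl (Sum.inl 0))
      (Sum.inl (Sum.inr 0)) (Sum.inl (Sum.inl 1)) (Sum.inl (Sum.inr 1)) := by
    rw [hMeq]
    exact twoHyp_minus (k + 2) (j a₀) (j b₀)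
  have hneg : (negGL : GL ((Fin (k + 4) ⊕ Fin (k + 4)) ⊕ Fin 2) F) ∈
      Geo.omegaGL (⇑(matQ ((minusMat (k + 4) a₀ b₀).map j))) := by
    rw [hMeq]
    exact negGL_mem_split (k + 4) t t' hne (j a₀) (j b₀) hsum hprod hcardF
  refine ⟨?_, ?_⟩
  · exact centralizer_equiv j (minusMat (k + 4) a₀ b₀) σ hjfix G G₀ (by norm_num) hord h1
      (dClassGO (minusQ (k + 4) a₀ b₀) (k + 4 + 1))
      (dClassGO (matQ ((minusMat (k + 4) a₀ b₀).map j)) (k + 4 + 1))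
      dClassGO_le_GO dClassGO_le_GO (fun a => scalarGL_mem_dClassGO hcard a)
      (hup_dClass j _ _) (hdown_dClass j _ σ hfix G₀.exists_Q_ne_zero _)
  -- the class count
  have hcharF₀ : ringChar F₀ ≠ 2 := by
    intro h
    have : CharP F₀ 2 := ringChar.of_eq h
    exact h2₀ CharTwo.two_eq_zero
  have hcharF : ringChar F ≠ 2 := by
    intro h
    have : CharP F 2 := ringChar.of_eq h
    exact h2 CharTwo.two_eq_zero
  obtain ⟨lam₀, hlam₀⟩ := FiniteField.exists_nonsquare hcharF₀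
  have hlam₀0 : lam₀ ≠ 0 := by
    rintro rfl
    exact hlam₀ ⟨0, by ring⟩
  obtain ⟨s₀, u₀, hst⟩ := exists_binN_eq a₀ b₀ h2₀ hab₀ hlam₀0
  have hst₀ : s₀ ^ 2 + a₀ * s₀ * u₀ + b₀ * u₀ ^ 2 = ((Units.mk0 lam₀ hlam₀0 : F₀ˣ) : F₀) := by
    rw [Units.val_mk0]
    exact hst
  obtain ⟨δ₀, hδ₀⟩ : ∃ δ₀ : GL ((Fin (k + 4) ⊕ Fin (k + 4)) ⊕ Fin 2) F₀,
      δ₀ = delta1 (k + 4) a₀ b₀ (Units.mk0 lam₀ hlam₀0) s₀ u₀ hst₀ := ⟨_, rfl⟩
  have hδ₀m : IsMult (minusQ (k + 4) a₀ b₀) δ₀ lam₀ := by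
    rw [hδ₀]
    exact isMult_delta1 (k + 4) a₀ b₀ (Units.mk0 lam₀ hlam₀0) s₀ u₀ hst₀
  have hδ₀d : δ₀ ∈ dClassGO (minusQ (k + 4) a₀ b₀) (k + 4 + 1) := by
    rw [hδ₀]
    exact delta1_mem (k + 4) a₀ b₀ (Units.mk0 lam₀ hlam₀0) s₀ u₀ hst₀
  -- the tower
  have hKn : (ConfAut.POm (matQ ((minusMat (k + 4) a₀ b₀).map j))).Normal := by
    have h := inn_normal (Cfsg.POmega F (⇑(matQ ((minusMat (k + 4) a₀ b₀).map j))))
    rw [inn_eq] at h
    exact h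
  have hrel1 : (ConfAut.POm (matQ ((minusMat (k + 4) a₀ b₀).map j))).relIndex
      (ConfAut.PSO (matQ ((minusMat (k + 4) a₀ b₀).map j))) = 2 :=
    relIndex_POm_PSO_of_mem h2 G.nondeg hT hev hneg
  have hrel2 : (ConfAut.PSO (matQ ((minusMat (k + 4) a₀ b₀).map j))).relIndex
      (ConfAut.PD (matQ ((minusMat (k + 4) a₀ b₀).map j)) (k + 4 + 1)) = 2 := by
    obtain ⟨lamF, hlamF⟩ := FiniteField.exists_nonsquare hcharF
    have hlamF0 : lamF ≠ 0 := by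
      rintro rfl
      exact hlamF ⟨0, by ring⟩
    obtain ⟨sF, uF, hstF⟩ := exists_binN_split t t' hne (j a₀) (j b₀) hsum hprod lamF
    have hstF' : sF ^ 2 + j a₀ * sF * uF + j b₀ * uF ^ 2 = ((Units.mk0 lamF hlamF0 : Fˣ) : F) := by
      rw [Units.val_mk0]
      exact hstF
    rw [hMeq]
    have hQ' : (polarBilin (minusQ (k + 4) (j a₀) (j b₀))).Nondegenerate :=
      (good_minus_split k (j a₀) (j b₀) hdisc).nondeg
    have hmem := delta1_mem (k + 4) (j a₀) (j b₀) (Units.mk0 lamF hlamF0) sF uF hstF'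
    have hmult : IsMult (minusQ (k + 4) (j a₀) (j b₀))
        (delta1 (k + 4) (j a₀) (j b₀) (Units.mk0 lamF hlamF0) sF uF hstF') lamF :=
      isMult_delta1 (k + 4) (j a₀) (j b₀) (Units.mk0 lamF hlamF0) sF uF hstF'
    exact relIndex_PSO_PD h2 hQ' (twoHyp_minus (k + 2) (j a₀) (j b₀)) hcard
      (δ := ⟨_, dClassGO_le_GO hmem⟩) hmult hmem hlamF
  have hC : ConfAut.PD (matQ ((minusMat (k + 4) a₀ b₀).map j)) (k + 4 + 1) ⊓
      Subgroup.centralizer {stdAut h1} ≤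
      ConfAut.PSO (matQ ((minusMat (k + 4) a₀ b₀).map j)) := by
    intro β hβ
    obtain ⟨g₀, rfl⟩ := cent_le_range j (minusMat (k + 4) a₀ b₀) σ hcard hfix G G₀
      (by norm_num) hord h1 hβ
    exact JPhi_mem_PSO j (minusMat (k + 4) a₀ b₀) h2 hT hcard G hsq g₀
  have htower := count_tower (ConfAut.PD (matQ ((minusMat (k + 4) a₀ b₀).map j)) (k + 4 + 1))
    (ConfAut.PSO (matQ ((minusMat (k + 4) a₀ b₀).map j)))
    (ConfAut.POm (matQ ((minusMat (k + 4) a₀ b₀).map j)))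
    (POm_le_PSO _) PSO_le_PD hrel1 hrel2 (stdAut h1) hC
  rw [inn_eq]
  -- the criterion
  have hiff := cent_le_POm_iff j (minusMat (k + 4) a₀ b₀) σ h2 hcard hfix hjfix G G₀
    (by norm_num) hord h1 hsq ⟨δ₀, hδ₀d⟩ lam₀ hδ₀m hlam₀
  obtain ⟨c, hc⟩ := hsq lam₀
  have hc0 : c ≠ 0 := by
    rintro rfl
    rw [mul_zero, map_eq_zero] at hc
    exact hlam₀0 hc
  have hstJ : (j s₀) ^ 2 + j a₀ * j s₀ * j u₀ + j b₀ * (j u₀) ^ 2 =
      ((Units.map (j : F₀ →* F) (Units.mk0 lam₀ hlam₀0) : Fˣ) : F) := by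
    have := congrArg j hst
    simp only [map_add, map_mul, map_pow] at this
    rw [this]
    rfl
  have hμnorm : (j s₀ - t * j u₀) * σ (j s₀ - t * j u₀) = j lam₀ := by
    rw [map_sub, map_mul, hjfix, hjfix, ← ht']
    have := congrArg j hst
    simp only [map_add, map_mul, map_pow] at this
    have ha : j a₀ = -(t + t') := by rw [hsum, neg_neg]
    rw [← this, ha, ← hprod]
    ring
  have hμns : ¬ IsSquare (j s₀ - t * j u₀) :=
    not_isSquare_of_norm j σ hfix hjfix hσ2 lam₀ hlam₀ _ hμnorm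
  have hμ0 : j s₀ - t * j u₀ ≠ 0 := by
    intro h
    apply hμns
    rw [h]
    exact ⟨0, by ring⟩
  have hcU : ((Units.mk0 c hc0 : Fˣ) : F) ^ 2 =
      ((Units.map (j : F₀ →* F) (Units.mk0 lam₀ hlam₀0) : Fˣ) : F) := by
    rw [Units.val_mk0, pow_two, ← hc]
    rfl
  have hcrit : JPhi j (minusMat (k + 4) a₀ b₀) (k + 4 + 1) ⟨δ₀, hδ₀d⟩ ∈
      ConfAut.POm (matQ ((minusMat (k + 4) a₀ b₀).map j)) ↔
      IsSquare (c ^ (k + 4 + 1) * (j s₀ - t * j u₀)) := by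
    rw [JPhi_apply]
    have := Phi_delta1_mem_iff' (k + 4) t t' hne (j a₀) (j b₀) hsum hprod
      ((minusMat (k + 4) a₀ b₀).map j) hMeq
      (Units.map (j : F₀ →* F) (Units.mk0 lam₀ hlam₀0)) (j s₀) (j u₀) hstJ h2 G.nondeg hT hneg
      (by right; rw [card_plusIdx]; omega) (Units.mk0 c hc0) hcU hμ0
      ⟨Matrix.GeneralLinearGroup.map (n := (Fin (k + 4) ⊕ Fin (k + 4)) ⊕ Fin 2) j δ₀,
        dClassGO_le_GO (hup_dClass j (minusMat (k + 4) a₀ b₀) (k + 4 + 1) δ₀ hδ₀d)⟩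
      (by
        show Matrix.GeneralLinearGroup.map (n := (Fin (k + 4) ⊕ Fin (k + 4)) ⊕ Fin 2) j δ₀ = _
        rw [hδ₀]
        exact map_delta1 j (k + 4) a₀ b₀ (Units.mk0 lam₀ hlam₀0) s₀ u₀ hst₀ hstJ)
    rw [Units.val_mk0] at this
    exact this
  have hroot : IsSquare c ↔ Fintype.card F₀ % 4 = 3 :=
    isSquare_root_iff j σ hfix hjfix hσ2 hsq lam₀ hlam₀ c (by rw [pow_two, hc])
  have hoddF₀ : Fintype.card F₀ % 2 = 1 := FiniteField.odd_card_of_char_ne_two hcharF₀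
  have hfinal : ConfAut.PD (matQ ((minusMat (k + 4) a₀ b₀).map j)) (k + 4 + 1) ⊓
      Subgroup.centralizer {stdAut h1} ≤ ConfAut.POm (matQ ((minusMat (k + 4) a₀ b₀).map j)) ↔
      (Odd (k + 4 + 1) ∧ Fintype.card F₀ % 4 = 1) := by
    rw [hiff, hcrit, isSquare_pow_mul_iff c _ hc0 hμns, hroot]
    constructor
    · rintro ⟨ho, h3⟩
      refine ⟨ho, ?_⟩
      omega
    · rintro ⟨ho, h1'⟩
      refine ⟨ho, ?_⟩
      omega
  constructor
  · intro h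
    exact htower.1 (hfinal.2 h)
  · intro h
    exact htower.2 (fun h' => h (hfinal.1 h'))

end aux

end Cfsg.Agent.Helper17.OrthFA
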