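import Mathlib
import Cfsg.Agent.Lib.Helper17.OrthFA54

set_option autoImplicit false
set_option linter.unusedSectionVars false
set_option linter.unusedSimpArgs false
set_option linter.unusedVariables false
set_option maxHeartbeats 1000000

/-!
# Involutory graph-field automorphisms of the plus type groups: normal form and conjugacy
(helper17)
-/

namespace Cfsg.Agent.Helper17.OrthFA

open QuadraticMap Matrix Module Cfsg.Agent.Helper13 Cfsg.Agent.Helper17.OrthOut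
  Cfsg.Agent.Helper17.Spinor Cfsg.Agent.Helper17.ConfAut Cfsg.Agent.Helper17.OrthAut
  Cfsg.Agent.Helper2.Orth

universe u

section gf

variable {F : Type u} [Field F] [Fintype F]

/-- the standard automorphism of the pair `(1, σ)` is a field automorphism -/
theorem stdAut_isFieldAut {ι : Type} [Fintype ι] [DecidableEq ι] {Q : QuadraticForm F (ι → F)}
    {σ : F ≃+* F} (h1 : Cfsg.IsSemisimilarityPair (⇑Q) (1 : GL ι F) σ) :
    Cfsg.IsFieldAutPOmegaOf (⇑Q) σ (stdAut h1) := by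
  intro s s' hss'
  apply stdAut_induced h1 s s'
  rw [hss', inv_one, Units.val_one, Matrix.one_mul, Matrix.mul_one]

/-- the square of the standard automorphism of an involution of the field -/
theorem stdAut_sq_of_orderOf_two {ι : Type} [Fintype ι] [DecidableEq ι]
    {Q : QuadraticForm F (ι → F)} {σ : F ≃+* F} (hσ : orderOf σ = 2)
    (h1 : Cfsg.IsSemisimilarityPair (⇑Q) (1 : GL ι F) σ) : stdAut h1 * stdAut h1 = 1 := by
  rw [stdAut_mul, ← stdAut_one]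
  apply stdAut_congr
  · rw [map_one, mul_one]
  · have h := pow_orderOf_eq_one σ
    rw [hσ, pow_two] at h
    exact h

/-- the normal form of an involutory graph-field automorphism -/
theorem gf_normal_form (k : ℕ) (G : Good (plusQ (k + 4 + 1) F))
    (x : MulAut (Cfsg.POmega F (⇑(plusQ (k + 4 + 1) F))))
    (hx : ∃ (α γ φ : MulAut (Cfsg.POmega F (⇑(plusQ (k + 4 + 1) F)))) (σ : F ≃+* F)
        (v : Fin (k + 4 + 1) ⊕ Fin (k + 4 + 1) → F)
        (rr : GL (Fin (k + 4 + 1) ⊕ Fin (k + 4 + 1)) F),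
        σ ≠ RingEquiv.refl F ∧ (⇑(plusQ (k + 4 + 1) F)) v ≠ 0 ∧ (∀ i, σ (v i) = v i) ∧
        (rr : Matrix (Fin (k + 4 + 1) ⊕ Fin (k + 4 + 1)) (Fin (k + 4 + 1) ⊕ Fin (k + 4 + 1)) F) =
          Cfsg.reflectionMatrix (⇑(plusQ (k + 4 + 1) F)) v ∧
        Cfsg.IsInducedBySemilinearPOmega (⇑(plusQ (k + 4 + 1) F)) rr (RingEquiv.refl F) γ ∧
        Cfsg.IsFieldAutPOmegaOf (⇑(plusQ (k + 4 + 1) F)) σ φ ∧ α * x * α⁻¹ = γ * φ)
    (hx2 : orderOf x = 2) :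
    ∃ σ : F ≃+* F, orderOf σ = 2 ∧
      ∀ h1 : Cfsg.IsSemisimilarityPair (⇑(plusQ (k + 4 + 1) F))
        (1 : GL (Fin (k + 4 + 1) ⊕ Fin (k + 4 + 1)) F) σ,
      ∃ α Γ : MulAut (Cfsg.POmega F (⇑(plusQ (k + 4 + 1) F))),
        Γ ∈ G.fieldHom.ker ∧ Γ ∉ Dp (k + 4 + 1) ∧ α * x * α⁻¹ = Γ * stdAut h1 := by
  classical
  obtain ⟨hDn, hDle, hidx, hnot, hcomm⟩ := plus_package k G
  obtain ⟨α, γ, φ, σ, v, rr, hσ1, hv, hvσ, hrr, hγ, hφ, hαx⟩ := hx
  have hMσ : (plusMat (k + 4 + 1) F).map σ = plusMat (k + 4 + 1) F :=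
    plusMat_map (σ : F →+* F) (k + 4 + 1)
  have h1 := isSemisim_fixed hMσ
  have hφ' := fieldAut_eq_stdAut h1 hφ
  have hrr' : rr = ((tG (plusQ (k + 4 + 1) F) v :
      ↥(Cfsg.isometryGroup F (⇑(plusQ (k + 4 + 1) F)))) :
      GL (Fin (k + 4 + 1) ⊕ Fin (k + 4 + 1)) F) := by
    apply Units.ext
    rw [hrr]
    exact (tG_coe _ hv).symm
  have hgGO : rr ∈ GO (⇑(plusQ (k + 4 + 1) F)) := by
    rw [hrr']
    exact isometryGroup_le_GO _ (tG (plusQ (k + 4 + 1) F) v).2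
  have hγ' : γ = Phi (⇑(plusQ (k + 4 + 1) F))
      (iO (plusQ (k + 4 + 1) F) (tG (plusQ (k + 4 + 1) F) v)) := by
    rw [(isInduced_iff (⇑(plusQ (k + 4 + 1) F)) hgGO γ).1 hγ]
    congr 1
    apply Subtype.ext
    exact hrr'
  have hγker : γ ∈ G.fieldHom.ker := by
    rw [G.ker_fieldHom, hγ']
    exact ⟨_, rfl⟩
  have hγD : γ ∉ Dp (k + 4 + 1) := by
    rw [hγ']
    exact hnot v hv
  have hfield : G.fieldHom (α * x * α⁻¹) = σ := by
    rw [hαx, map_mul, (MonoidHom.mem_ker).1 hγker, one_mul, hφ', G.fieldHom_stdAut]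
  have hσ2 : orderOf σ = 2 := by
    have h3 : orderOf (G.fieldHom (α * x * α⁻¹)) ∣ orderOf (α * x * α⁻¹) := orderOf_map_dvd _ _
    rw [hfield, orderOf_conj', hx2] at h3
    rcases (Nat.dvd_prime Nat.prime_two).1 h3 with h4 | h4
    · exfalso
      apply hσ1
      exact orderOf_eq_one_iff.1 h4
    · exact h4
  refine ⟨σ, hσ2, fun h1' => ⟨α, γ, hγker, hγD, ?_⟩⟩
  rw [hαx, hφ']

/-- two involutory automorphisms with normal forms for the same field automorphism are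
conjugate under the inner-diagonal group -/
theorem gf_conj_of_forms (k : ℕ) (G : Good (plusQ (k + 4 + 1) F))
    (x y : MulAut (Cfsg.POmega F (⇑(plusQ (k + 4 + 1) F))))
    (hx : ∃ (α γ φ : MulAut (Cfsg.POmega F (⇑(plusQ (k + 4 + 1) F)))) (σ : F ≃+* F)
        (v : Fin (k + 4 + 1) ⊕ Fin (k + 4 + 1) → F)
        (rr : GL (Fin (k + 4 + 1) ⊕ Fin (k + 4 + 1)) F),
        σ ≠ RingEquiv.refl F ∧ (⇑(plusQ (k + 4 + 1) F)) v ≠ 0 ∧ (∀ i, σ (v i) = v i) ∧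
        (rr : Matrix (Fin (k + 4 + 1) ⊕ Fin (k + 4 + 1)) (Fin (k + 4 + 1) ⊕ Fin (k + 4 + 1)) F) =
          Cfsg.reflectionMatrix (⇑(plusQ (k + 4 + 1) F)) v ∧
        Cfsg.IsInducedBySemilinearPOmega (⇑(plusQ (k + 4 + 1) F)) rr (RingEquiv.refl F) γ ∧
        Cfsg.IsFieldAutPOmegaOf (⇑(plusQ (k + 4 + 1) F)) σ φ ∧ α * x * α⁻¹ = γ * φ)
    (hx2 : orderOf x = 2) (hy2 : orderOf y = 2) (σ : F ≃+* F)
    (h1 : Cfsg.IsSemisimilarityPair (⇑(plusQ (k + 4 + 1) F))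
      (1 : GL (Fin (k + 4 + 1) ⊕ Fin (k + 4 + 1)) F) σ)
    (hxf : ∃ α Γ : MulAut (Cfsg.POmega F (⇑(plusQ (k + 4 + 1) F))),
      Γ ∈ G.fieldHom.ker ∧ Γ ∉ Dp (k + 4 + 1) ∧ α * x * α⁻¹ = Γ * stdAut h1)
    (hyf : ∃ α Γ : MulAut (Cfsg.POmega F (⇑(plusQ (k + 4 + 1) F))),
      Γ ∈ G.fieldHom.ker ∧ Γ ∉ Dp (k + 4 + 1) ∧ α * y * α⁻¹ = Γ * stdAut h1) :
    Cfsg.IsConjUnder (Dp (k + 4 + 1)) x y := by
  classical
  obtain ⟨hDn, hDle, hidx, hnot, hcomm⟩ := plus_package k G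
  obtain ⟨α, Γ, hΓ, hΓD, hαx⟩ := hxf
  obtain ⟨α', Γ', hΓ', hΓ'D, hαy⟩ := hyf
  have hMall : ∀ τ : F ≃+* F, (plusMat (k + 4 + 1) F).map τ = plusMat (k + 4 + 1) F :=
    fun τ => plusMat_map (τ : F →+* F) (k + 4 + 1)
  have hφ : ∀ β : MulAut (Cfsg.POmega F (⇑(plusQ (k + 4 + 1) F))),
      β * stdAut h1 * β⁻¹ * (stdAut h1)⁻¹ ∈ Dp (k + 4 + 1) :=
    fun β => comm_stdField_mem G hMall (Dp (k + 4 + 1)) hidx h1 β
  have hδ : y * x⁻¹ ∈ Dp (k + 4 + 1) :=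
    gf_diff_mem (Dp (k + 4 + 1)) G.fieldHom.ker hidx (stdAut h1) hφ Γ Γ' α α' x y hΓ hΓ' hΓD hΓ'D
      hαx hαy
  have key := plus_core k x (y * x⁻¹) (Or.inr hx) Nat.prime_two hx2 hδ
  rw [inv_mul_cancel_right] at key
  exact key.1 hy2

/-- the standard involutory graph-field automorphism has order two -/
theorem orderOf_xw (k : ℕ) (G : Good (plusQ (k + 4 + 1) F)) (σ : F ≃+* F) (hσ : orderOf σ = 2)
    (h1 : Cfsg.IsSemisimilarityPair (⇑(plusQ (k + 4 + 1) F))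
      (1 : GL (Fin (k + 4 + 1) ⊕ Fin (k + 4 + 1)) F) σ) :
    orderOf (Phi (⇑(plusQ (k + 4 + 1) F))
      (iO (plusQ (k + 4 + 1) F) (tG (plusQ (k + 4 + 1) F) (wLast (k + 4)))) * stdAut h1) = 2 := by
  classical
  have hw := plusQ_wLast_ne (K := F) (k + 4)
  have hMσ : (plusMat (k + 4 + 1) F).map σ = plusMat (k + 4 + 1) F :=
    plusMat_map (σ : F →+* F) (k + 4 + 1)
  have hc := Phi_tG_commute hMσ h1 (wLast (k + 4)) (wLast_fixed σ (k + 4)) hw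
  have hΓ2 : Phi (⇑(plusQ (k + 4 + 1) F))
      (iO (plusQ (k + 4 + 1) F) (tG (plusQ (k + 4 + 1) F) (wLast (k + 4)))) *
      Phi (⇑(plusQ (k + 4 + 1) F))
      (iO (plusQ (k + 4 + 1) F) (tG (plusQ (k + 4 + 1) F) (wLast (k + 4)))) = 1 := by
    rw [← map_mul, ← map_mul, tG_mul_self _ hw, map_one, map_one]
  have hφ2 := stdAut_sq_of_orderOf_two hσ h1
  apply orderOf_eq_prime
  · rw [pow_two]
    calc Phi (⇑(plusQ (k + 4 + 1) F))
          (iO (plusQ (k + 4 + 1) F) (tG (plusQ (k + 4 + 1) F) (wLast (k + 4)))) * stdAut h1 *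
        (Phi (⇑(plusQ (k + 4 + 1) F))
          (iO (plusQ (k + 4 + 1) F) (tG (plusQ (k + 4 + 1) F) (wLast (k + 4)))) * stdAut h1)
        = Phi (⇑(plusQ (k + 4 + 1) F))
          (iO (plusQ (k + 4 + 1) F) (tG (plusQ (k + 4 + 1) F) (wLast (k + 4)))) *
          (stdAut h1 * Phi (⇑(plusQ (k + 4 + 1) F))
          (iO (plusQ (k + 4 + 1) F) (tG (plusQ (k + 4 + 1) F) (wLast (k + 4))))) * stdAut h1 := by
          group
      _ = 1 := by
          rw [← hc, ← mul_assoc, hΓ2, one_mul, hφ2]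
  · intro h
    have h3 := congrArg G.fieldHom h
    have hker : Phi (⇑(plusQ (k + 4 + 1) F))
        (iO (plusQ (k + 4 + 1) F) (tG (plusQ (k + 4 + 1) F) (wLast (k + 4)))) ∈
        G.fieldHom.ker := by
      rw [G.ker_fieldHom]
      exact ⟨_, rfl⟩
    rw [map_mul, (MonoidHom.mem_ker).1 hker, one_mul, G.fieldHom_stdAut, map_one] at h3
    rw [h3, orderOf_one] at hσ
    exact absurd hσ (by norm_num)

end gf

end Cfsg.Agent.Helper17.OrthFA
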