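import Mathlib
import Cfsg.Agent.Lib.Helper17.OrthFA55

set_option autoImplicit false
set_option linter.unusedSectionVars false
set_option linter.unusedSimpArgs false
set_option linter.unusedVariables false
set_option maxHeartbeats 1000000

/-!
# Involutory graph-field automorphisms of the plus type groups: the theorem (helper17)
-/

namespace Cfsg.Agent.Helper17.OrthFA

open QuadraticMap Matrix Module Cfsg.Agent.Helper13 Cfsg.Agent.Helper17.OrthOut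
  Cfsg.Agent.Helper17.Spinor Cfsg.Agent.Helper17.ConfAut Cfsg.Agent.Helper17.OrthAut
  Cfsg.Agent.Helper2.Orth

universe u v

section aux

variable {F : Type*} [Field F] [Fintype F] {F₀ : Type*} [Field F₀] [Fintype F₀]

theorem split_cent_odd' (k : ℕ) (j : F₀ →+* F) (σ : F ≃+* F)
    (hfix : ∀ x, σ x = x → ∃ a, j a = x) (hjfix : ∀ a, σ (j a) = j a)
    (hσ2 : ∀ x, σ (σ x) = x) (hord : orderOf σ = 2) (hsq : ∀ x : F₀, IsSquare (j x))
    (hcardF : Fintype.card F % 4 = 1)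
    (a₀ b₀ : F₀)
    (hab₀ : ∀ z₁ z₂ : F₀, z₁ ^ 2 + a₀ * z₁ * z₂ + b₀ * z₂ ^ 2 = 0 → z₁ = 0 ∧ z₂ = 0)
    (t : F) (ht : σ t ≠ t) (ha₀ : j a₀ = -(t + σ t)) (hb₀ : j b₀ = t * σ t)
    (h2 : (2 : F) ≠ 0)
    (M : Matrix ((Fin (k + 4) ⊕ Fin (k + 4)) ⊕ Fin 2) ((Fin (k + 4) ⊕ Fin (k + 4)) ⊕ Fin 2) F)
    (hM : (minusMat (k + 4) a₀ b₀).map j = M)
    (h1 : Cfsg.IsSemisimilarityPair (⇑(matQ M))
      (1 : GL ((Fin (k + 4) ⊕ Fin (k + 4)) ⊕ Fin 2) F) σ) :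
    Nonempty (↥(ConfAut.PD (matQ M) (k + 4 + 1) ⊓ Subgroup.centralizer {stdAut h1}) ≃*
      ↥(ConfAut.PD (minusQ (k + 4) a₀ b₀) (k + 4 + 1))) ∧
    ((Odd (k + 4 + 1) ∧ Fintype.card F₀ % 4 = 1) →
      Cfsg.splitClassCount (ConfAut.PD (matQ M) (k + 4 + 1))
        (Cfsg.Inn (Cfsg.POmega F (⇑(matQ M)))) (stdAut h1) = 4) ∧
    (¬ (Odd (k + 4 + 1) ∧ Fintype.card F₀ % 4 = 1) →
      Cfsg.splitClassCount (ConfAut.PD (matQ M) (k + 4 + 1))
        (Cfsg.Inn (Cfsg.POmega F (⇑(matQ M)))) (stdAut h1) = 2) := by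
  subst hM
  exact split_cent_odd k j σ hfix hjfix hσ2 hord hsq hcardF a₀ b₀ hab₀ t ht ha₀ hb₀ h2 h1

theorem congr_theta_mem_PD_iff (m : ℕ) (t t' : F) (hne : t ≠ t') (a b : F)
    (hsum : t + t' = -a) (hprod : t * t' = b) (n : ℕ)
    (β : MulAut (Cfsg.POmega F (⇑(minusQ m a b)))) :
    β ∈ ConfAut.PD (minusQ m a b) n ↔
      MulAut.congr (thetaIso m t t' hne a b hsum hprod) β ∈ ConfAut.PD (plusQ (m + 1) F) n := by
  unfold thetaIso
  exact (congr_rT_mem_PD_iff _ _ _ _ _ n β).symm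

theorem two_eq_zero_iff_of_card {p f : ℕ} [hp : Fact p.Prime] (hF : Fintype.card F = p ^ f)
    (hf : 1 ≤ f) : (2 : F) = 0 ↔ p = 2 := by
  constructor
  · intro h2
    have := charP_two_of_two_eq_zero h2
    have h3 := FiniteField.even_card_of_char_two (ringChar.eq F 2)
    rw [hF] at h3
    have h4 : 2 ∣ p ^ f := Nat.dvd_of_mod_eq_zero h3
    have h5 := Nat.Prime.dvd_of_dvd_pow Nat.prime_two h4
    exact ((Nat.prime_dvd_prime_iff_eq Nat.prime_two hp.out).1 h5).symm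
  · intro h
    have h3 : ((Fintype.card F : ℕ) : F) = 0 := Nat.cast_card_eq_zero F
    rw [hF, h] at h3
    push_cast at h3
    exact (pow_eq_zero_iff (by omega)).1 h3

end aux

end Cfsg.Agent.Helper17.OrthFA
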