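import Mathlib
import Cfsg.Agent.Lib.Helper17.OrthFA56
import Cfsg.Agent.Lib.Helper17.OrthFA38

set_option autoImplicit false
set_option linter.unusedSectionVars false
set_option linter.unusedSimpArgs false
set_option linter.unusedVariables false
set_option maxHeartbeats 2000000

/-!
# Involutory graph-field automorphisms of the plus type groups: the core theorem (helper17)
-/

namespace Cfsg.Agent.Helper17.OrthFA

open QuadraticMap Matrix Module Cfsg.Agent.Helper13 Cfsg.Agent.Helper17.OrthOut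
  Cfsg.Agent.Helper17.Spinor Cfsg.Agent.Helper17.ConfAut Cfsg.Agent.Helper17.OrthAut
  Cfsg.Agent.Helper2.Orth

universe u v

/-- the graph-field predicate for the form as a `QuadraticForm` -/
def IsGF {F : Type u} [Field F] (k : ℕ)
    (x : MulAut (Cfsg.POmega F (⇑(plusQ (k + 4 + 1) F)))) : Prop :=
  ∃ (α γ φ : MulAut (Cfsg.POmega F (⇑(plusQ (k + 4 + 1) F)))) (σ : F ≃+* F)
    (v : Fin (k + 4 + 1) ⊕ Fin (k + 4 + 1) → F)
    (rr : GL (Fin (k + 4 + 1) ⊕ Fin (k + 4 + 1)) F),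
    σ ≠ RingEquiv.refl F ∧ (⇑(plusQ (k + 4 + 1) F)) v ≠ 0 ∧ (∀ i, σ (v i) = v i) ∧
    (rr : Matrix (Fin (k + 4 + 1) ⊕ Fin (k + 4 + 1)) (Fin (k + 4 + 1) ⊕ Fin (k + 4 + 1)) F) =
      Cfsg.reflectionMatrix (⇑(plusQ (k + 4 + 1) F)) v ∧
    Cfsg.IsInducedBySemilinearPOmega (⇑(plusQ (k + 4 + 1) F)) rr (RingEquiv.refl F) γ ∧
    Cfsg.IsFieldAutPOmegaOf (⇑(plusQ (k + 4 + 1) F)) σ φ ∧ α * x * α⁻¹ = γ * φ

theorem gf_core {F : Type u} [Field F] [Fintype F] (k : ℕ) {p f : ℕ} [Fact p.Prime]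
    (hF : Fintype.card F = p ^ f) (hf : 1 ≤ f)
    (x : MulAut (Cfsg.POmega F (⇑(plusQ (k + 4 + 1) F)))) (hx : IsGF k x)
    (hx2 : orderOf x = 2)
    (F₀ : Type v) [Field F₀] [Fintype F₀] (hF₀ : Fintype.card F₀ = p ^ (f / 2)) :
    Even f ∧
    (∀ y : MulAut (Cfsg.POmega F (⇑(plusQ (k + 4 + 1) F))), IsGF k y → orderOf y = 2 →
      Cfsg.IsConjUnder (Dp (k + 4 + 1)) x y) ∧
    (∃ a₀ b₀ : F₀, (∀ z₁ z₂ : F₀, z₁ ^ 2 + a₀ * z₁ * z₂ + b₀ * z₂ ^ 2 = 0 → z₁ = 0 ∧ z₂ = 0) ∧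
      Nonempty (↥(Dp (k + 4 + 1) ⊓ Subgroup.centralizer {x}) ≃* ↥(Dm (k + 4) a₀ b₀))) ∧
    (p = 2 → Cfsg.splitClassCount (Dp (k + 4 + 1))
      (Cfsg.Inn (Cfsg.POmega F (⇑(plusQ (k + 4 + 1) F)))) x = 1) ∧
    ((p ≠ 2 ∧ Odd (k + 4 + 1) ∧ p ^ (f / 2) % 4 = 1) → Cfsg.splitClassCount (Dp (k + 4 + 1))
      (Cfsg.Inn (Cfsg.POmega F (⇑(plusQ (k + 4 + 1) F)))) x = 4) ∧
    ((p ≠ 2 ∧ ¬ (Odd (k + 4 + 1) ∧ p ^ (f / 2) % 4 = 1)) → Cfsg.splitClassCount (Dp (k + 4 + 1))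
      (Cfsg.Inn (Cfsg.POmega F (⇑(plusQ (k + 4 + 1) F)))) x = 2) := by
  classical
  have G := good_plus (F := F) k
  obtain ⟨hDn, hDle, hidx, hnot, hcomm⟩ := plus_package k G
  obtain ⟨σ, hσ2, hform⟩ := gf_normal_form k G x hx hx2
  have hMσ : (plusMat (k + 4 + 1) F).map σ = plusMat (k + 4 + 1) F :=
    plusMat_map (σ : F →+* F) (k + 4 + 1)
  have h1p := isSemisim_fixed hMσ
  obtain ⟨h2f, j, hfix, hjfix⟩ := exists_desc hF σ Nat.prime_two hσ2 hF₀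
  have hσσ : ∀ z, σ (σ z) = z := by
    intro z
    have h := pow_orderOf_eq_one σ
    rw [hσ2, pow_two] at h
    exact DFunLike.congr_fun h z
  have hσ1 : ∃ t : F, σ t ≠ t := by
    by_contra hcon
    push Not at hcon
    have e : σ = (1 : RingAut F) := RingEquiv.ext hcon
    rw [e, orderOf_one] at hσ2
    exact absurd hσ2 (by norm_num)
  obtain ⟨t, ht⟩ := hσ1
  obtain ⟨a₀, b₀, ha₀, hb₀, hab₀⟩ := exists_aniso j σ hfix hjfix hσσ t ht
  have hconj : ∀ y : MulAut (Cfsg.POmega F (⇑(plusQ (k + 4 + 1) F))), orderOf y = 2 →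
      (∃ α Γ : MulAut (Cfsg.POmega F (⇑(plusQ (k + 4 + 1) F))),
        Γ ∈ G.fieldHom.ker ∧ Γ ∉ Dp (k + 4 + 1) ∧ α * y * α⁻¹ = Γ * stdAut h1p) →
      Cfsg.IsConjUnder (Dp (k + 4 + 1)) x y := fun y hy2 hyf =>
    gf_conj_of_forms k G x y hx hx2 hy2 σ h1p (hform h1p) hyf
  refine ⟨even_iff_two_dvd.2 h2f, ?_, ?_⟩
  · intro y hy hy2
    obtain ⟨σ', hσ'2, hform'⟩ := gf_normal_form k G y hy hy2
    have e := eq_of_orderOf_two σ' σ hσ'2 hσ2
    subst e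
    exact hconj y hy2 (hform' h1p)
  -- the standard representative
  have hw := plusQ_wLast_ne (K := F) (k + 4)
  obtain ⟨xw, hxwdef⟩ : ∃ xw : MulAut (Cfsg.POmega F (⇑(plusQ (k + 4 + 1) F))),
      xw = Phi (⇑(plusQ (k + 4 + 1) F))
        (iO (plusQ (k + 4 + 1) F) (tG (plusQ (k + 4 + 1) F) (wLast (k + 4)))) * stdAut h1p :=
    ⟨_, rfl⟩
  have hxw2 : orderOf xw = 2 := by
    rw [hxwdef]
    exact orderOf_xw k G σ hσ2 h1p
  obtain ⟨d, hd, hxw⟩ := hconj xw hxw2 ⟨1, _, by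
      rw [G.ker_fieldHom]
      exact ⟨_, rfl⟩, hnot _ hw, by rw [one_mul, inv_one, mul_one, hxwdef]⟩
  -- the transport to the split minus form
  obtain ⟨t', ht'⟩ : ∃ t' : F, t' = σ t := ⟨_, rfl⟩
  have hne : t ≠ t' := by
    rw [ht']
    exact fun h => ht h.symm
  have hsum : t + t' = -(j a₀) := by rw [ha₀, ht', neg_neg]
  have hprod : t * t' = j b₀ := by rw [hb₀, ht']
  have h1m : Cfsg.IsSemisimilarityPair (⇑(minusQ (k + 4) (j a₀) (j b₀)))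
      (1 : GL ((Fin (k + 4) ⊕ Fin (k + 4)) ⊕ Fin 2) F) σ :=
    isSemisim_fixed (minusMat_map_sigma (k + 4) σ (j a₀) (j b₀) (hjfix a₀) (hjfix b₀))
  have hΘ : MulAut.congr (thetaIso (k + 4) t t' hne (j a₀) (j b₀) hsum hprod) (stdAut h1m) = xw := by
    rw [hxwdef]
    exact congr_theta_stdAut (k + 4) t t' hne (j a₀) (j b₀) hsum hprod σ ht'.symm
      (by rw [ht', hσσ]) h1m h1p
  have hdisc : 4 * j b₀ - (j a₀) ^ 2 ≠ 0 := by
    have ha : j a₀ = -(t + t') := by rw [hsum, neg_neg]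
    rw [← hprod, ha]
    have e : 4 * (t * t') - (-(t + t')) ^ 2 = -((t - t') ^ 2) := by ring
    rw [e]
    exact neg_ne_zero.2 (pow_ne_zero _ (sub_ne_zero.2 hne))
  have Gm : Good (minusQ (k + 4) (j a₀) (j b₀)) := good_minus_split k (j a₀) (j b₀) hdisc
  have hp2 := two_eq_zero_iff_of_card hF hf
  have hInn : (Cfsg.Inn (Cfsg.POmega F (⇑(plusQ (k + 4 + 1) F)))).Normal := inn_normal _
  by_cases h2 : (2 : F) = 0
  · -- characteristic two
    have hp : p = 2 := hp2.1 h2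
    have := charP_two_of_two_eq_zero h2
    have h2₀ : (2 : F₀) = 0 := by
      apply j.injective
      rw [map_ofNat, map_zero]
      exact h2
    have := charP_two_of_two_eq_zero h2₀
    have hD : (Dp (k + 4 + 1) : Subgroup (MulAut (Cfsg.POmega F (⇑(plusQ (k + 4 + 1) F))))) =
        Cfsg.Inn (Cfsg.POmega F (⇑(plusQ (k + 4 + 1) F))) :=
      inndiag_plus_eq_two (k + 4 + 1) G.hex
    have hex₀ : Fintype.card F₀ ≠ 2 ∨
        Fintype.card ((Fin (k + 4) ⊕ Fin (k + 4)) ⊕ Fin 2) ≠ 4 := by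
      right
      rw [card_minusIdx]
      omega
    have hD₀ : Dm (k + 4) a₀ b₀ = Cfsg.Inn (Cfsg.POmega F₀ (⇑(minusQ (k + 4) a₀ b₀))) :=
      inndiag_minus_eq_two (k + 4) a₀ b₀ hex₀ hab₀
    rw [hD]
    refine ⟨⟨a₀, b₀, hab₀, ?_⟩, ?_, ?_, ?_⟩
    · rw [hD₀]
      have e1 := Cfsg.Agent.Helper2.PN.centralizerInfEquiv
        (Cfsg.Inn (Cfsg.POmega F (⇑(plusQ (k + 4 + 1) F)))) d x
      rw [← hxw] at e1
      obtain ⟨e2⟩ := centralizer_transport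
        (MulAut.congr (thetaIso (k + 4) t t' hne (j a₀) (j b₀) hsum hprod))
        (Cfsg.Inn (Cfsg.POmega F (⇑(minusQ (k + 4) (j a₀) (j b₀)))))
        (Cfsg.Inn (Cfsg.POmega F (⇑(plusQ (k + 4 + 1) F))))
        (congr_mem_inn (thetaIso (k + 4) t t' hne (j a₀) (j b₀) hsum hprod)) (stdAut h1m)
      rw [hΘ] at e2
      obtain ⟨e3⟩ := minus_cent_two (k + 1) j σ hfix hjfix a₀ b₀ hab₀ h2
        (minusMat (k + 4) (j a₀) (j b₀)) (minusMat_map j (k + 4) a₀ b₀) Gm (by norm_num) hσ2 h1m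
      exact ⟨(e1.trans e2.symm).trans e3⟩
    · intro _
      apply count_one_of_cover
      intro h hh
      exact ⟨h, hh, 1, by rw [one_mul, mul_one], by rw [mul_one]⟩
    · rintro ⟨hne2, -⟩
      exact absurd hp hne2
    · rintro ⟨hne2, -⟩
      exact absurd hp hne2
  · -- odd characteristic
    have hpne : p ≠ 2 := fun h => h2 (hp2.2 h)
    have h2₀ : (2 : F₀) ≠ 0 := by
      intro h
      apply h2
      have := congrArg j h
      rwa [map_ofNat, map_zero] at this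
    have hD : (Dp (k + 4 + 1) : Subgroup (MulAut (Cfsg.POmega F (⇑(plusQ (k + 4 + 1) F))))) =
        ConfAut.PD (plusQ (k + 4 + 1) F) (k + 4 + 1) := Dp_eq_odd h2 _ (by omega)
    have hD₀ : Dm (k + 4) a₀ b₀ = ConfAut.PD (minusQ (k + 4) a₀ b₀) (k + 4 + 1) :=
      inndiag_minus_eq (k + 4) a₀ b₀ h2₀ hab₀
    rw [hD] at hDn hd
    rw [hD]
    have hF' : Fintype.card F = (p ^ (f / 2)) ^ 2 := by
      rw [hF, ← pow_mul, Nat.div_mul_cancel h2f]
    have hsq : ∀ z : F₀, IsSquare (j z) := isSquare_map_of_sq hF' hF₀ j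
    have hcharF₀ : ringChar F₀ ≠ 2 := by
      intro h
      have : CharP F₀ 2 := ringChar.of_eq h
      exact h2₀ CharTwo.two_eq_zero
    have hoddF₀ : Fintype.card F₀ % 2 = 1 := FiniteField.odd_card_of_char_ne_two hcharF₀
    have hcardF : Fintype.card F % 4 = 1 := by
      rw [hF', ← hF₀]
      obtain ⟨c, hc⟩ : ∃ c, Fintype.card F₀ = 2 * c + 1 := ⟨Fintype.card F₀ / 2, by omega⟩
      have e : (Fintype.card F₀) ^ 2 = 4 * (c * c + c) + 1 := by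
        rw [hc]
        ring
      omega
    obtain ⟨⟨e3⟩, hc4, hc2⟩ := split_cent_odd' k j σ hfix hjfix hσσ hσ2 hsq hcardF a₀ b₀ hab₀ t ht
      ha₀ hb₀ h2 (minusMat (k + 4) (j a₀) (j b₀)) (minusMat_map j (k + 4) a₀ b₀) h1m
    have hcount : Cfsg.splitClassCount (ConfAut.PD (plusQ (k + 4 + 1) F) (k + 4 + 1))
        (Cfsg.Inn (Cfsg.POmega F (⇑(plusQ (k + 4 + 1) F)))) x =
        Cfsg.splitClassCount (ConfAut.PD (minusQ (k + 4) (j a₀) (j b₀)) (k + 4 + 1))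
        (Cfsg.Inn (Cfsg.POmega F (⇑(minusQ (k + 4) (j a₀) (j b₀))))) (stdAut h1m) := by
      rw [splitClassCount_congr
        (MulAut.congr (thetaIso (k + 4) t t' hne (j a₀) (j b₀) hsum hprod))
        (ConfAut.PD (minusQ (k + 4) (j a₀) (j b₀)) (k + 4 + 1))
        (Cfsg.Inn (Cfsg.POmega F (⇑(minusQ (k + 4) (j a₀) (j b₀)))))
        (ConfAut.PD (plusQ (k + 4 + 1) F) (k + 4 + 1))
        (Cfsg.Inn (Cfsg.POmega F (⇑(plusQ (k + 4 + 1) F))))
        (congr_theta_mem_PD_iff (k + 4) t t' hne (j a₀) (j b₀) hsum hprod (k + 4 + 1))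
        (congr_mem_inn (thetaIso (k + 4) t t' hne (j a₀) (j b₀) hsum hprod)) (stdAut h1m),
        hΘ, hxw]
      exact (Cfsg.Agent.Helper2.PN.splitClassCount_conj _ _ d x).symm
    refine ⟨⟨a₀, b₀, hab₀, ?_⟩, ?_, ?_, ?_⟩
    · rw [hD₀]
      have e1 := Cfsg.Agent.Helper2.PN.centralizerInfEquiv
        (ConfAut.PD (plusQ (k + 4 + 1) F) (k + 4 + 1)) d x
      rw [← hxw] at e1
      obtain ⟨e2⟩ := centralizer_transport
        (MulAut.congr (thetaIso (k + 4) t t' hne (j a₀) (j b₀) hsum hprod))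
        (ConfAut.PD (minusQ (k + 4) (j a₀) (j b₀)) (k + 4 + 1))
        (ConfAut.PD (plusQ (k + 4 + 1) F) (k + 4 + 1))
        (congr_theta_mem_PD_iff (k + 4) t t' hne (j a₀) (j b₀) hsum hprod (k + 4 + 1))
        (stdAut h1m)
      rw [hΘ] at e2
      exact ⟨(e1.trans e2.symm).trans e3⟩
    · intro hp
      exact absurd hp hpne
    · rintro ⟨-, ho, h4⟩
      rw [hcount]
      apply hc4
      rw [hF₀]
      exact ⟨ho, h4⟩
    · rintro ⟨-, hn⟩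
      rw [hcount]
      apply hc2
      rw [hF₀]
      exact hn

end Cfsg.Agent.Helper17.OrthFA
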