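import Mathlib
import Cfsg.Agent.Lib.Helper17.OrthFA57

set_option autoImplicit false
set_option linter.unusedSectionVars false
set_option linter.unusedSimpArgs false
set_option linter.unusedVariables false
set_option maxHeartbeats 1000000

/-!
# Involutory graph-field automorphisms of the plus type groups: transport to the function form
(helper17)
-/

namespace Cfsg.Agent.Helper17.OrthFA

open QuadraticMap Matrix Module Cfsg.Agent.Helper13 Cfsg.Agent.Helper17.OrthOut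
  Cfsg.Agent.Helper17.Spinor Cfsg.Agent.Helper17.ConfAut

universe u v

theorem gf_aux {F : Type u} [Field F] [Fintype F] (k : ℕ) {p f : ℕ} [Fact p.Prime]
    (hF : Fintype.card F = p ^ f) (hf : 1 ≤ f)
    (Q₁ : (Fin (k + 4 + 1) ⊕ Fin (k + 4 + 1) → F) → F) (hQ₁ : Q₁ = ⇑(plusQ (k + 4 + 1) F))
    (x : MulAut (Cfsg.POmega F Q₁))
    (hx : ∃ (α γ φ : MulAut (Cfsg.POmega F Q₁)) (σ : F ≃+* F)
        (v : Fin (k + 4 + 1) ⊕ Fin (k + 4 + 1) → F)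
        (rr : GL (Fin (k + 4 + 1) ⊕ Fin (k + 4 + 1)) F),
        σ ≠ RingEquiv.refl F ∧ Q₁ v ≠ 0 ∧ (∀ i, σ (v i) = v i) ∧
        (rr : Matrix (Fin (k + 4 + 1) ⊕ Fin (k + 4 + 1)) (Fin (k + 4 + 1) ⊕ Fin (k + 4 + 1)) F) =
          Cfsg.reflectionMatrix Q₁ v ∧
        Cfsg.IsInducedBySemilinearPOmega Q₁ rr (RingEquiv.refl F) γ ∧
        Cfsg.IsFieldAutPOmegaOf Q₁ σ φ ∧ α * x * α⁻¹ = γ * φ)
    (hx2 : orderOf x = 2)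
    (F₀ : Type v) [Field F₀] [Fintype F₀] (hF₀ : Fintype.card F₀ = p ^ (f / 2))
    (Qf₀ : F₀ → F₀ → (((Fin (k + 4) ⊕ Fin (k + 4)) ⊕ Fin 2) → F₀) → F₀)
    (hQf₀ : ∀ a' b' : F₀, Qf₀ a' b' = ⇑(minusQ (k + 4) a' b')) :
    Even f ∧
    (∀ y : MulAut (Cfsg.POmega F Q₁),
      (∃ (α γ φ : MulAut (Cfsg.POmega F Q₁)) (σ : F ≃+* F)
        (v : Fin (k + 4 + 1) ⊕ Fin (k + 4 + 1) → F)
        (rr : GL (Fin (k + 4 + 1) ⊕ Fin (k + 4 + 1)) F),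
        σ ≠ RingEquiv.refl F ∧ Q₁ v ≠ 0 ∧ (∀ i, σ (v i) = v i) ∧
        (rr : Matrix (Fin (k + 4 + 1) ⊕ Fin (k + 4 + 1)) (Fin (k + 4 + 1) ⊕ Fin (k + 4 + 1)) F) =
          Cfsg.reflectionMatrix Q₁ v ∧
        Cfsg.IsInducedBySemilinearPOmega Q₁ rr (RingEquiv.refl F) γ ∧
        Cfsg.IsFieldAutPOmegaOf Q₁ σ φ ∧ α * y * α⁻¹ = γ * φ) → orderOf y = 2 →
      Cfsg.IsConjUnder (Cfsg.autSubgroupOf (fun β : Cfsg.POmega F Q₁ ≃* Cfsg.POmega F Q₁ =>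
        ∃ g : GL (Fin (k + 4 + 1) ⊕ Fin (k + 4 + 1)) F,
          g ∈ Cfsg.Geo.quadSimilarityGroup (F := F) Q₁ ∧
          Cfsg.PreservesSingularClasses Q₁
            (g : Matrix (Fin (k + 4 + 1) ⊕ Fin (k + 4 + 1)) (Fin (k + 4 + 1) ⊕ Fin (k + 4 + 1)) F) ∧
          Cfsg.IsInducedBySemilinearPOmega Q₁ g (RingEquiv.refl F) β)) x y) ∧
    (∃ a₀ b₀ : F₀, (∀ z₁ z₂ : F₀, z₁ ^ 2 + a₀ * z₁ * z₂ + b₀ * z₂ ^ 2 = 0 → z₁ = 0 ∧ z₂ = 0) ∧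
      Nonempty (↥(Cfsg.autSubgroupOf (fun β : Cfsg.POmega F Q₁ ≃* Cfsg.POmega F Q₁ =>
        ∃ g : GL (Fin (k + 4 + 1) ⊕ Fin (k + 4 + 1)) F,
          g ∈ Cfsg.Geo.quadSimilarityGroup (F := F) Q₁ ∧
          Cfsg.PreservesSingularClasses Q₁
            (g : Matrix (Fin (k + 4 + 1) ⊕ Fin (k + 4 + 1)) (Fin (k + 4 + 1) ⊕ Fin (k + 4 + 1)) F) ∧
          Cfsg.IsInducedBySemilinearPOmega Q₁ g (RingEquiv.refl F) β) ⊓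
          Subgroup.centralizer {x}) ≃*
        ↥(Cfsg.autSubgroupOf (fun β : Cfsg.POmega F₀ (Qf₀ a₀ b₀) ≃*
            Cfsg.POmega F₀ (Qf₀ a₀ b₀) =>
          ∃ g : GL ((Fin (k + 4) ⊕ Fin (k + 4)) ⊕ Fin 2) F₀,
            g ∈ Cfsg.Geo.quadSimilarityGroup (F := F₀) (Qf₀ a₀ b₀) ∧
            Cfsg.PreservesSingularClassesMinus (k + 4) a₀ b₀
              (g : Matrix ((Fin (k + 4) ⊕ Fin (k + 4)) ⊕ Fin 2)
                ((Fin (k + 4) ⊕ Fin (k + 4)) ⊕ Fin 2) F₀) ∧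
            Cfsg.IsInducedBySemilinearPOmega (Qf₀ a₀ b₀) g (RingEquiv.refl F₀) β)))) ∧
    (p = 2 → Cfsg.splitClassCount
      (Cfsg.autSubgroupOf (fun β : Cfsg.POmega F Q₁ ≃* Cfsg.POmega F Q₁ =>
        ∃ g : GL (Fin (k + 4 + 1) ⊕ Fin (k + 4 + 1)) F,
          g ∈ Cfsg.Geo.quadSimilarityGroup (F := F) Q₁ ∧
          Cfsg.PreservesSingularClasses Q₁
            (g : Matrix (Fin (k + 4 + 1) ⊕ Fin (k + 4 + 1)) (Fin (k + 4 + 1) ⊕ Fin (k + 4 + 1)) F) ∧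
          Cfsg.IsInducedBySemilinearPOmega Q₁ g (RingEquiv.refl F) β))
      (Cfsg.Inn (Cfsg.POmega F Q₁)) x = 1) ∧
    ((p ≠ 2 ∧ Odd (k + 4 + 1) ∧ p ^ (f / 2) % 4 = 1) → Cfsg.splitClassCount
      (Cfsg.autSubgroupOf (fun β : Cfsg.POmega F Q₁ ≃* Cfsg.POmega F Q₁ =>
        ∃ g : GL (Fin (k + 4 + 1) ⊕ Fin (k + 4 + 1)) F,
          g ∈ Cfsg.Geo.quadSimilarityGroup (F := F) Q₁ ∧
          Cfsg.PreservesSingularClasses Q₁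
            (g : Matrix (Fin (k + 4 + 1) ⊕ Fin (k + 4 + 1)) (Fin (k + 4 + 1) ⊕ Fin (k + 4 + 1)) F) ∧
          Cfsg.IsInducedBySemilinearPOmega Q₁ g (RingEquiv.refl F) β))
      (Cfsg.Inn (Cfsg.POmega F Q₁)) x = 4) ∧
    ((p ≠ 2 ∧ ¬ (Odd (k + 4 + 1) ∧ p ^ (f / 2) % 4 = 1)) → Cfsg.splitClassCount
      (Cfsg.autSubgroupOf (fun β : Cfsg.POmega F Q₁ ≃* Cfsg.POmega F Q₁ =>
        ∃ g : GL (Fin (k + 4 + 1) ⊕ Fin (k + 4 + 1)) F,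
          g ∈ Cfsg.Geo.quadSimilarityGroup (F := F) Q₁ ∧
          Cfsg.PreservesSingularClasses Q₁
            (g : Matrix (Fin (k + 4 + 1) ⊕ Fin (k + 4 + 1)) (Fin (k + 4 + 1) ⊕ Fin (k + 4 + 1)) F) ∧
          Cfsg.IsInducedBySemilinearPOmega Q₁ g (RingEquiv.refl F) β))
      (Cfsg.Inn (Cfsg.POmega F Q₁)) x = 2) := by
  subst hQ₁
  obtain rfl : Qf₀ = fun a' b' => ⇑(minusQ (k + 4) a' b') := by
    funext a' b'
    exact hQf₀ a' b'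
  exact gf_core k hF hf x hx hx2 F₀ hF₀

end Cfsg.Agent.Helper17.OrthFA
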