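import Mathlib
import Cfsg.Prelude.Def_Solvable
import Cfsg.Agent.Lib.Helper13.FieldAutFixed

set_option autoImplicit false
set_option linter.unusedSectionVars false
set_option linter.unusedSimpArgs false
set_option linter.unusedVariables false

/-!
# Abstract lemmas on cores of centralizers of automorphisms (helper17)

The first lemmas follow the corresponding ones of helper2 for the symplectic groups.
-/

namespace Cfsg.Agent.Helper17.OrthFA

section abstractcore

variable {G : Type*} [Group G]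

/-- the core prime to `ℓ` of a subgroup is nontrivial iff the subgroup normalises a nontrivial
subgroup of order prime to `ℓ` contained in it -/
theorem pPrimeCore_ne_bot_iff (ℓ : ℕ) (H : Subgroup G) :
    Cfsg.pPrimeCore ℓ ↥H ≠ ⊥ ↔ ∃ N : Subgroup G, N ≤ H ∧ N ≠ ⊥ ∧ (Nat.card N).Coprime ℓ ∧
      ∀ h ∈ H, ∀ n ∈ N, h * n * h⁻¹ ∈ N := by
  constructor
  · intro h
    unfold Cfsg.pPrimeCore at h
    rw [Ne, sSup_eq_bot, not_forall] at h
    obtain ⟨N', hN'⟩ := h
    rw [Classical.not_imp] at hN'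
    obtain ⟨⟨hnorm, hcop⟩, hne⟩ := hN'
    refine ⟨N'.map H.subtype, Subgroup.map_subtype_le N', ?_, ?_, ?_⟩
    · rw [Ne, Subgroup.map_eq_bot_iff_of_injective _ H.subtype_injective]
      exact hne
    · rw [Subgroup.card_map_of_injective H.subtype_injective]
      exact hcop
    · rintro h hh _ ⟨n', hn', rfl⟩
      refine ⟨⟨h, hh⟩ * n' * ⟨h, hh⟩⁻¹, hnorm.conj_mem n' hn' ⟨h, hh⟩, ?_⟩
      simp
  · rintro ⟨N, hNH, hne, hcop, hnorm⟩
    have hmem : N.subgroupOf H ∈ {N' : Subgroup ↥H | N'.Normal ∧ (Nat.card N').Coprime ℓ} := by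
      refine ⟨⟨?_⟩, ?_⟩
      · intro n' hn' h'
        rw [Subgroup.mem_subgroupOf] at hn' ⊢
        have := hnorm h'.1 h'.2 n'.1 hn'
        simpa using this
      · rw [Nat.card_congr (Subgroup.subgroupOfEquivOfLe hNH).toEquiv]
        exact hcop
    have hle : N.subgroupOf H ≤ Cfsg.pPrimeCore ℓ ↥H := le_sSup hmem
    have hne' : N.subgroupOf H ≠ ⊥ := by
      intro h0
      apply hne
      rw [eq_bot_iff]
      intro n hn
      have h1 : (⟨n, hNH hn⟩ : ↥H) ∈ N.subgroupOf H := hn
      rw [h0, Subgroup.mem_bot] at h1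
      rw [Subgroup.mem_bot]
      exact congrArg Subtype.val h1
    exact ne_bot_of_le_ne_bot hne' hle

/-- the existence of a nontrivial subgroup of order prime to `p` of `A ⊓ C(x)` normalised by
`A ⊓ C(x)` -/
def HasCore (p : ℕ) (A : Subgroup G) (x : G) : Prop :=
  ∃ N : Subgroup G, N ≤ A ⊓ Subgroup.centralizer {x} ∧ N ≠ ⊥ ∧ (Nat.card N).Coprime p ∧
    ∀ h ∈ A ⊓ Subgroup.centralizer {x}, ∀ n ∈ N, h * n * h⁻¹ ∈ N

theorem HasCore.map {p : ℕ} {A : Subgroup G} {x : G} (e : G ≃* G) (h : HasCore p A x) :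
    HasCore p (A.map e.toMonoidHom) (e x) := by
  obtain ⟨N, hNle, hne, hcop, hnorm⟩ := h
  refine ⟨N.map e.toMonoidHom, ?_, ?_, ?_, ?_⟩
  · rintro _ ⟨n, hn, rfl⟩
    have h1 := hNle hn
    rw [Subgroup.mem_inf, Subgroup.mem_centralizer_singleton_iff] at h1
    rw [Subgroup.mem_inf, Subgroup.mem_centralizer_singleton_iff]
    refine ⟨⟨n, h1.1, rfl⟩, ?_⟩
    show e n * e x = e x * e n
    rw [← map_mul, ← map_mul, h1.2]
  · rw [Ne, Subgroup.map_eq_bot_iff_of_injective _ e.injective]
    exact hne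
  · rw [Subgroup.card_map_of_injective e.injective]
    exact hcop
  · rintro h' hh' _ ⟨n, hn, rfl⟩
    rw [Subgroup.mem_inf, Subgroup.mem_centralizer_singleton_iff] at hh'
    obtain ⟨⟨h, hhA, rfl⟩, hcomm⟩ := hh'
    have hcomm' : h * x = x * h := by
      apply e.injective
      rw [map_mul, map_mul]
      exact hcomm
    have hmem : h ∈ A ⊓ Subgroup.centralizer {x} := by
      rw [Subgroup.mem_inf, Subgroup.mem_centralizer_singleton_iff]
      exact ⟨hhA, hcomm'⟩
    refine ⟨h * n * h⁻¹, hnorm h hmem n hn, ?_⟩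
    show e (h * n * h⁻¹) = e h * e n * (e h)⁻¹
    rw [map_mul, map_mul, map_inv]

/-- a subgroup `N` of order prime to `p`, normalised by a simple group `L` of order divisible by
`p` which it normalises, and such that the elements of `N` centralising `L` lie in a cyclic group
of order dividing `p`, is trivial -/
theorem core_abstract [Finite G] {p : ℕ} (hp : p.Prime) (φ : G)
    (hφ : φ ^ p = 1) (L N : Subgroup G) (hL : IsSimpleGroup ↥L) (hpL : p ∣ Nat.card L)
    (hLN : ∀ l ∈ L, ∀ n ∈ N, l * n * l⁻¹ ∈ N)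
    (hNL : ∀ n ∈ N, ∀ l ∈ L, n * l * n⁻¹ ∈ L)
    (hcent : ∀ n ∈ N, (∀ l ∈ L, n * l = l * n) → n ∈ Subgroup.zpowers φ)
    (hcop : (Nat.card N).Coprime p) : N = ⊥ := by
  have hnorm : (N.subgroupOf L).Normal := by
    constructor
    intro n hn l
    rw [Subgroup.mem_subgroupOf] at hn ⊢
    have := hLN l.1 l.2 n.1 hn
    simpa using this
  have hbot : N.subgroupOf L = ⊥ := by
    rcases hnorm.eq_bot_or_eq_top with h | h
    · exact h
    · exfalso
      have hLleN : L ≤ N := Subgroup.subgroupOf_eq_top.1 h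
      have h1 : Nat.card L ∣ Nat.card N := Subgroup.card_dvd_of_le hLleN
      have h2 : p ∣ Nat.card N := hpL.trans h1
      have h3 : p ∣ 1 := by
        have := Nat.dvd_gcd h2 (dvd_refl p)
        rwa [hcop] at this
      exact hp.one_lt.ne' (Nat.dvd_one.1 h3)
  have hdisj : ∀ y, y ∈ N → y ∈ L → y = 1 := by
    intro y hyN hyL
    have h1 : (⟨y, hyL⟩ : ↥L) ∈ N.subgroupOf L := Subgroup.mem_subgroupOf.2 hyN
    rw [hbot, Subgroup.mem_bot] at h1
    exact congrArg Subtype.val h1
  have hNle : N ≤ Subgroup.zpowers φ := by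
    intro n hn
    apply hcent n hn
    intro l hl
    have h1 : n * l * n⁻¹ * l⁻¹ = 1 := by
      apply hdisj
      · have h2 : n * l * n⁻¹ * l⁻¹ = n * (l * n⁻¹ * l⁻¹) := by group
        rw [h2]
        exact N.mul_mem hn (hLN l hl _ (N.inv_mem hn))
      · exact L.mul_mem (hNL n hn l hl) (L.inv_mem hl)
    calc n * l = (n * l * n⁻¹ * l⁻¹) * (l * n) := by group
      _ = l * n := by rw [h1, one_mul]
  have h1 : Nat.card N ∣ Nat.card (Subgroup.zpowers φ) := Subgroup.card_dvd_of_le hNle
  rw [Nat.card_zpowers] at h1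
  have h2 : orderOf φ ∣ p := orderOf_dvd_of_pow_eq_one hφ
  have h3 : Nat.card N ∣ p := h1.trans h2
  have h4 : Nat.card N = 1 := Nat.Coprime.eq_one_of_dvd hcop h3
  exact Subgroup.card_eq_one.1 h4

end abstractcore

section autcore

variable {K : Type*} [Group K]

/-- conjugating an inner automorphism by an automorphism -/
theorem aut_conj_conj (a : MulAut K) (k : K) :
    a * MulAut.conj k * a⁻¹ = MulAut.conj (a k) := by
  ext y
  simp only [MulAut.mul_apply, MulAut.conj_apply, map_mul, map_inv, MulAut.apply_inv_self]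

/-- the inner automorphisms of the fixed points of `x` lie in the centralizer of `x` -/
theorem fix_conj_mem_centralizer (x : MulAut K) {k : K} (hk : x k = k) :
    MulAut.conj k ∈ Subgroup.centralizer {x} := by
  rw [Subgroup.mem_centralizer_singleton_iff]
  have h1 := aut_conj_conj x k
  rw [hk] at h1
  calc MulAut.conj k * x = (x * MulAut.conj k * x⁻¹) * x := by rw [h1]
    _ = x * MulAut.conj k := by group

theorem fix_of_conj_mem_centralizer (hZ : Function.Injective (MulAut.conj : K →* MulAut K))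
    (x : MulAut K) {k : K} (hk : MulAut.conj k ∈ Subgroup.centralizer {x}) : x k = k := by
  rw [Subgroup.mem_centralizer_singleton_iff] at hk
  have h1 := aut_conj_conj x k
  apply hZ
  rw [← h1, ← hk]
  group

/-- the fixed points of a conjugate automorphism -/
theorem eqLocus_conj (a φ : MulAut K) :
    MonoidHom.eqLocus (a * φ * a⁻¹).toMonoidHom (MonoidHom.id K) =
      (MonoidHom.eqLocus φ.toMonoidHom (MonoidHom.id K)).map a.toMonoidHom := by
  ext k
  constructor
  · intro hk
    have hk' : a (φ (a⁻¹ k)) = k := hk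
    refine ⟨a⁻¹ k, ?_, MulAut.apply_inv_self K a k⟩
    change φ (a⁻¹ k) = a⁻¹ k
    apply a.injective
    rw [hk', MulAut.apply_inv_self]
  · rintro ⟨k₀, hk₀, rfl⟩
    have hk₀' : φ k₀ = k₀ := hk₀
    change a (φ (a⁻¹ (a k₀))) = a k₀
    rw [MulAut.inv_apply_self, hk₀']

theorem card_eqLocus_conj (a φ : MulAut K) :
    Nat.card ↥(MonoidHom.eqLocus (a * φ * a⁻¹).toMonoidHom (MonoidHom.id K)) =
      Nat.card ↥(MonoidHom.eqLocus φ.toMonoidHom (MonoidHom.id K)) := by
  rw [eqLocus_conj, Subgroup.card_map_of_injective a.injective]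

/-- the inner automorphisms centralizing `x` are those of the fixed points of `x` -/
theorem inn_inf_centralizer (hZ : Function.Injective (MulAut.conj : K →* MulAut K))
    (x : MulAut K) :
    (MulAut.conj : K →* MulAut K).range ⊓ Subgroup.centralizer {x} =
      (MonoidHom.eqLocus x.toMonoidHom (MonoidHom.id K)).map (MulAut.conj : K →* MulAut K) := by
  ext n
  rw [Subgroup.mem_inf]
  constructor
  · rintro ⟨⟨k, rfl⟩, hk⟩
    exact ⟨k, fix_of_conj_mem_centralizer hZ x hk, rfl⟩
  · rintro ⟨k, hk, rfl⟩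
    exact ⟨⟨k, rfl⟩, fix_conj_mem_centralizer x hk⟩

end autcore

section galois

variable {F : Type*} [Field F] [Finite F]

open Cfsg.Agent.Helper13.FAut (fixedField mem_fixedField)

/-- an automorphism fixing the fixed field of `σ` pointwise is a power of `σ` -/
theorem mem_zpowers_of_fixes_fixedField (σ τ : RingAut F)
    (h : ∀ a, σ a = a → τ a = a) : τ ∈ Subgroup.zpowers σ := by
  have : Finite (RingAut F) :=
    Finite.of_injective (fun f : F ≃+* F => (f : F → F)) DFunLike.coe_injective
  let τa : F →ₐ[FixedPoints.subfield (Subgroup.zpowers (σ : RingAut F)) F] F :=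
    { toRingHom := (τ : F →+* F)
      commutes' := by
        intro a
        exact h a.1 ((mem_fixedField σ a.1).1 a.2) }
  obtain ⟨g, hg⟩ := (FixedPoints.toAlgHom_bijective (Subgroup.zpowers (σ : RingAut F)) F).2 τa
  have h1 : (g : RingAut F) = τ := by
    ext x
    have := DFunLike.congr_fun hg x
    exact this
  rw [← h1]
  exact g.2

end galois

end Cfsg.Agent.Helper17.OrthFA
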