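import Mathlib
import Cfsg.Agent.Lib.Helper17.OrthFA58
import Cfsg.Agent.Lib.Helper17.OrthFA59

set_option autoImplicit false
set_option linter.unusedSectionVars false
set_option linter.unusedSimpArgs false
set_option linter.unusedVariables false

/-!
# Conjugating similarities by standard automorphisms; base change of `Ω`; restriction of field
automorphisms to a fixed field (helper17)
-/

namespace Cfsg.Agent.Helper17.OrthFA

open QuadraticMap Matrix Module Cfsg.Agent.Helper13 Cfsg.Agent.Helper17.OrthOut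
  Cfsg.Agent.Helper17.Spinor Cfsg.Agent.Helper17.ConfAut

section conj

variable {F : Type*} [Field F] [Fintype F] {ι : Type} [Fintype ι] [DecidableEq ι]
  {Q : QuadraticForm F (ι → F)}

/-- conjugating the automorphism of a similarity by a standard automorphism -/
theorem stdAut_conj_Phi {g : GL ι F} {τ : F ≃+* F} (h : Cfsg.IsSemisimilarityPair (⇑Q) g τ)
    (s : ↥(GO (⇑Q))) :
    ∃ hs' : semiHom g τ (s : GL ι F) ∈ GO (⇑Q),
      stdAut h * Phi (⇑Q) s * (stdAut h)⁻¹ = Phi (⇑Q) ⟨semiHom g τ (s : GL ι F), hs'⟩ := by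
  obtain ⟨c, hc⟩ := s.2
  have hc' : IsMult Q (s : GL ι F) (c : F) := hc
  have hs' : semiHom g τ (s : GL ι F) ∈ GO (⇑Q) :=
    ⟨Units.map (τ : F →* F) c, isMult_semiHom h hc'⟩
  refine ⟨hs', ?_⟩
  rw [mul_inv_eq_iff_eq_mul]
  have rS : Cfsg.IsSemisimilarityPair (⇑Q) (s : GL ι F) (RingEquiv.refl F) :=
    (isSemisim_refl_iff _).2 s.2
  have rS' : Cfsg.IsSemisimilarityPair (⇑Q) (semiHom g τ (s : GL ι F)) (RingEquiv.refl F) :=
    (isSemisim_refl_iff _).2 hs'
  have e0 : Phi (⇑Q) s = stdAut rS := by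
    rw [stdAut_refl_eq_Phi]
  have e1 : Phi (⇑Q) ⟨semiHom g τ (s : GL ι F), hs'⟩ = stdAut rS' := by
    rw [stdAut_refl_eq_Phi]
  rw [e0, e1]
  obtain ⟨hL, eL⟩ := stdAut_refl_mul h rS
  obtain ⟨hR, eR⟩ := stdAut_mul_refl rS' h
  rw [eL, eR]
  apply stdAut_congr _ rfl
  rw [semiHom_apply]
  group

end conj

section basechange

variable {F : Type*} {F₀ : Type*} [Field F] [Fintype F] [Field F₀] [Fintype F₀]
  {ι : Type} [Fintype ι] [DecidableEq ι] (j : F₀ →+* F) (M₀ : Matrix ι ι F₀)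

/-- the base change of an element of `Ω` lies in `Ω` -/
theorem map_Omega_mem (hQ₀ : (polarBilin (matQ M₀)).Nondegenerate)
    (hQ : (polarBilin (matQ (M₀.map j))).Nondegenerate)
    (hex₀ : Fintype.card F₀ ≠ 2 ∨ Fintype.card ι ≠ 4)
    (hex : Fintype.card F ≠ 2 ∨ Fintype.card ι ≠ 4)
    (o₀ : ↥(Cfsg.isometryGroup F₀ (⇑(matQ M₀)))) (ho₀ : o₀ ∈ Cfsg.Omega F₀ (⇑(matQ M₀))) :
    ∃ o : ↥(Cfsg.isometryGroup F (⇑(matQ (M₀.map j)))), o ∈ Cfsg.Omega F (⇑(matQ (M₀.map j))) ∧
      (o : GL ι F) = Matrix.GeneralLinearGroup.map (n := ι) j (o₀ : GL ι F₀) := by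
  obtain ⟨vs, hvs, rfl⟩ := exists_prod_tG (matQ M₀) hQ₀ hex₀ o₀
  have hvs' : ∀ w ∈ vs.map (fun v => fun i => j (v i)), matQ (M₀.map j) w ≠ 0 := by
    intro w hw
    obtain ⟨v, hv, rfl⟩ := List.mem_map.1 hw
    rw [matQ_map_hom]
    intro h0
    rw [map_eq_zero] at h0
    exact hvs v hv h0
  rw [prod_tG_mem_Omega_iff_all _ hQ₀ hex₀ vs hvs] at ho₀
  refine ⟨_, ?_, map_prod_tG_eq j M₀ vs hvs⟩
  rw [prod_tG_mem_Omega_iff_all _ hQ hex _ hvs', List.length_map]
  refine ⟨ho₀.1, ?_⟩
  have h5 : ((vs.map (fun v => fun i => j (v i))).map (fun v => matQ (M₀.map j) v)).prod =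
      j ((vs.map (fun v => matQ M₀ v)).prod) := by
    rw [map_list_prod, List.map_map, List.map_map]
    congr 1
    apply List.map_congr_left
    intro v _
    exact matQ_map_hom j M₀ v
  rw [h5]
  exact ho₀.2.map j

end basechange

section restrict

variable {F : Type*} {F₀ : Type*} [Field F] [Fintype F] [Field F₀] [Fintype F₀]

/-- a field automorphism restricts to the fixed field of another one -/
theorem exists_restrict (j : F₀ →+* F) (σ τ : F ≃+* F)
    (hfix : ∀ x, σ x = x → ∃ a, j a = x) (hjfix : ∀ a, σ (j a) = j a) :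
    ∃ τ₀ : F₀ ≃+* F₀, ∀ a, τ (j a) = j (τ₀ a) := by
  have hcomm : ∀ x, σ (τ x) = τ (σ x) := by
    intro x
    have := ringAut_comm σ τ
    exact DFunLike.congr_fun this x
  have hex : ∀ a : F₀, ∃ b : F₀, j b = τ (j a) := by
    intro a
    apply hfix
    rw [hcomm, hjfix]
  choose t ht using hex
  have hjinj : Function.Injective j := j.injective
  let τr : F₀ →+* F₀ :=
    { toFun := t
      map_one' := by
        apply hjinj
        rw [ht, map_one, map_one]
      map_mul' := by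
        intro a b
        apply hjinj
        rw [ht, map_mul, map_mul, map_mul, ht, ht]
      map_zero' := by
        apply hjinj
        rw [ht, map_zero, map_zero]
      map_add' := by
        intro a b
        apply hjinj
        rw [ht, map_add, map_add, map_add, ht, ht] }
  have hinj : Function.Injective τr := τr.injective
  have hbij : Function.Bijective τr := ⟨hinj, Finite.injective_iff_surjective.1 hinj⟩
  refine ⟨RingEquiv.ofBijective τr hbij, ?_⟩
  intro a
  exact (ht a).symm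

variable {ι : Type} [Fintype ι] [DecidableEq ι]

theorem map_map_restrict (j : F₀ →+* F) (τ : F ≃+* F) (τ₀ : F₀ ≃+* F₀)
    (hτ : ∀ a, τ (j a) = j (τ₀ a)) (s₀ : GL ι F₀) :
    Matrix.GeneralLinearGroup.map (n := ι) (τ : F →+* F)
      (Matrix.GeneralLinearGroup.map (n := ι) j s₀) =
    Matrix.GeneralLinearGroup.map (n := ι) j
      (Matrix.GeneralLinearGroup.map (n := ι) (τ₀ : F₀ →+* F₀) s₀) := by
  apply Units.ext
  ext a b
  rw [map_coe_GL, map_coe_GL, map_coe_GL, map_coe_GL]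
  simp only [Matrix.map_apply]
  exact hτ _

end restrict

end Cfsg.Agent.Helper17.OrthFA
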