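import Mathlib
import Cfsg.Agent.Lib.Helper17.OrthFA60

set_option autoImplicit false
set_option linter.unusedSectionVars false
set_option linter.unusedSimpArgs false
set_option linter.unusedVariables false

/-!
# The image of `Ω` over the fixed field in the automorphism group of `PΩ` (helper17)
-/

namespace Cfsg.Agent.Helper17.OrthFA

open QuadraticMap Matrix Module Cfsg.Agent.Helper13 Cfsg.Agent.Helper17.OrthOut
  Cfsg.Agent.Helper17.Spinor Cfsg.Agent.Helper17.ConfAut Cfsg.Agent.Helper2.Orth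

section conjinj

variable {F : Type*} [Field F] [Fintype F] {ι : Type} [Fintype ι] [DecidableEq ι]
  {Q : QuadraticForm F (ι → F)}

theorem conj_injective_of_good (G : Good Q) :
    Function.Injective (MulAut.conj : Cfsg.POmega F (⇑Q) →* MulAut (Cfsg.POmega F (⇑Q))) := by
  rw [injective_iff_map_eq_one]
  intro x hx
  have h1 : x ∈ Subgroup.center (Cfsg.POmega F (⇑Q)) := by
    rw [Subgroup.mem_center_iff]
    intro y
    have h2 := congrArg (fun φ : MulAut (Cfsg.POmega F (⇑Q)) => φ y) hx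
    simp only [MulAut.conj_apply, MulAut.one_apply] at h2
    calc y * x = (x * y * x⁻¹) * x := by rw [h2]
      _ = x * y := by group
  rw [G.center_eq_bot, Subgroup.mem_bot] at h1
  exact h1

theorem isSimple_of_good (G : Good Q) : IsSimpleGroup (Cfsg.POmega F (⇑Q)) := by
  obtain ⟨e, f, fr⟩ := G.frame
  exact isSimpleGroup_POmega G.nondeg G.hex fr

end conjinj

section image

variable {F : Type*} {F₀ : Type*} [Field F] [Fintype F] [Field F₀] [Fintype F₀]
  {ι : Type} [Fintype ι] [DecidableEq ι] (j : F₀ →+* F) (M₀ : Matrix ι ι F₀)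

/-- the base change of `Ω` over the small field into the similarity group over the large field -/
noncomputable def Jom : ↥(Cfsg.Omega F₀ (⇑(matQ M₀))) →* ↥(GO (⇑(matQ (M₀.map j)))) :=
  ((Matrix.GeneralLinearGroup.map (n := ι) j).comp
    ((Cfsg.isometryGroup F₀ (⇑(matQ M₀))).subtype.comp
      (Cfsg.Omega F₀ (⇑(matQ M₀))).subtype)).codRestrict (GO (⇑(matQ (M₀.map j))))
    (fun s₀ => map_mem_GO j M₀ (isometryGroup_le_GO _ s₀.1.2))

theorem Jom_coe (s₀ : ↥(Cfsg.Omega F₀ (⇑(matQ M₀)))) :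
    ((Jom j M₀ s₀ : ↥(GO (⇑(matQ (M₀.map j))))) : GL ι F) =
      Matrix.GeneralLinearGroup.map (n := ι) j
        ((s₀ : ↥(Cfsg.isometryGroup F₀ (⇑(matQ M₀)))) : GL ι F₀) := rfl

/-- the image of `Ω` over the small field in the automorphism group -/
noncomputable def fL : ↥(Cfsg.Omega F₀ (⇑(matQ M₀))) →*
    MulAut (Cfsg.POmega F (⇑(matQ (M₀.map j)))) :=
  (Phi (⇑(matQ (M₀.map j)))).comp (Jom j M₀)

theorem fL_apply (s₀ : ↥(Cfsg.Omega F₀ (⇑(matQ M₀)))) :
    fL j M₀ s₀ = Phi (⇑(matQ (M₀.map j))) (Jom j M₀ s₀) := rfl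

variable (G : Good (matQ (M₀.map j))) (G₀ : Good (matQ M₀))
include G G₀

theorem fL_ker : (fL j M₀).ker = Subgroup.center ↥(Cfsg.Omega F₀ (⇑(matQ M₀))) := by
  ext s₀
  have h1 : (∃ a₀ : F₀, ((((s₀ : ↥(Cfsg.isometryGroup F₀ (⇑(matQ M₀)))) : GL ι F₀)) :
      Matrix ι ι F₀) = a₀ • 1) ↔ Phi (⇑(matQ M₀)) (omegaToGO (⇑(matQ M₀)) s₀) = 1 :=
    (Phi_eq_one_iff_good G₀ (omegaToGO (⇑(matQ M₀)) s₀)).symm
  rw [MonoidHom.mem_ker, fL_apply, Phi_eq_one_iff_good G, Jom_coe, map_coe_GL,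
    map_scalar_iff j, h1, Phi_omegaToGO, ← QuotientGroup.eq_one_iff]
  constructor
  · intro h
    apply conj_injective_of_good G₀
    rw [h, map_one]
  · intro h
    rw [h, map_one]

/-- the image is isomorphic to `PΩ` over the small field -/
noncomputable def fLEquiv : ↥(fL j M₀).range ≃* Cfsg.POmega F₀ (⇑(matQ M₀)) :=
  (QuotientGroup.quotientKerEquivRange (fL j M₀)).symm.trans
    (QuotientGroup.quotientMulEquivOfEq (fL_ker j M₀ G G₀))

theorem fL_range_simple : IsSimpleGroup ↥(fL j M₀).range := by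
  have := isSimple_of_good G₀
  exact (fLEquiv j M₀ G G₀).isSimpleGroup

theorem card_fL_range :
    Nat.card ↥(fL j M₀).range = Nat.card (Cfsg.POmega F₀ (⇑(matQ M₀))) :=
  Nat.card_congr (fLEquiv j M₀ G G₀).toEquiv

theorem fL_mem_inn (s₀ : ↥(Cfsg.Omega F₀ (⇑(matQ M₀)))) :
    fL j M₀ s₀ ∈ Cfsg.Inn (Cfsg.POmega F (⇑(matQ (M₀.map j)))) := by
  obtain ⟨o, ho, hoe⟩ := map_Omega_mem j M₀ G₀.nondeg G.nondeg G₀.hex G.hex s₀.1 s₀.2
  have h1 : fL j M₀ s₀ = Phi (⇑(matQ (M₀.map j))) (omegaToGO (⇑(matQ (M₀.map j))) ⟨o, ho⟩) := by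
    rw [fL_apply]
    congr 1
    apply Subtype.ext
    rw [Jom_coe]
    exact hoe.symm
  rw [h1, Phi_omegaToGO]
  exact ⟨_, rfl⟩

omit G G₀ in
theorem fL_comm {σ : F ≃+* F} (hjfix : ∀ a, σ (j a) = j a)
    (h1 : Cfsg.IsSemisimilarityPair (⇑(matQ (M₀.map j))) (1 : GL ι F) σ)
    (s₀ : ↥(Cfsg.Omega F₀ (⇑(matQ M₀)))) :
    fL j M₀ s₀ * stdAut h1 = stdAut h1 * fL j M₀ s₀ := by
  rw [fL_apply]
  apply Phi_commute_of_fixed h1
  rw [Jom_coe, map_coe_GL]
  ext a b
  exact hjfix _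

end image

end Cfsg.Agent.Helper17.OrthFA
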