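import Mathlib
import Cfsg.Agent.Lib.Helper17.OrthFA61

set_option autoImplicit false
set_option linter.unusedSectionVars false
set_option linter.unusedSimpArgs false
set_option linter.unusedVariables false

/-!
# The centralizer of a standard field automorphism acting on the image of `Ω` over the fixed
field (helper17)
-/

namespace Cfsg.Agent.Helper17.OrthFA

open QuadraticMap Matrix Module Cfsg.Agent.Helper13 Cfsg.Agent.Helper17.OrthOut
  Cfsg.Agent.Helper17.Spinor Cfsg.Agent.Helper17.ConfAut Cfsg.Agent.Helper2.Orth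

section sec

variable {F : Type*} [Field F] [Fintype F] {ι : Type} [Fintype ι] [DecidableEq ι]
  {Q : QuadraticForm F (ι → F)}

/-- the standard field automorphisms, as a homomorphism -/
noncomputable def fieldSec
    (hall : ∀ τ : F ≃+* F, Cfsg.IsSemisimilarityPair (⇑Q) (1 : GL ι F) τ) :
    RingAut F →* MulAut (Cfsg.POmega F (⇑Q)) where
  toFun τ := stdAut (hall τ)
  map_one' := by
    rw [← stdAut_one]
  map_mul' σ σ' := by
    rw [stdAut_mul]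
    exact stdAut_congr (by simp) rfl _ _

theorem fieldSec_apply
    (hall : ∀ τ : F ≃+* F, Cfsg.IsSemisimilarityPair (⇑Q) (1 : GL ι F) τ) (τ : RingAut F) :
    fieldSec hall τ = stdAut (hall τ) := rfl

theorem fieldSec_injective (G : Good Q)
    (hall : ∀ τ : F ≃+* F, Cfsg.IsSemisimilarityPair (⇑Q) (1 : GL ι F) τ) :
    Function.Injective (fieldSec hall) := by
  intro τ τ' h
  have := congrArg G.fieldHom h
  rwa [fieldSec_apply, fieldSec_apply, G.fieldHom_stdAut, G.fieldHom_stdAut] at this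

/-- a similarity times a field automorphism fixing the form -/
theorem isSemisim_of_GO {g : GL ι F} (hg : g ∈ GO (⇑Q)) {τ : F ≃+* F}
    (h : Cfsg.IsSemisimilarityPair (⇑Q) (1 : GL ι F) τ) :
    Cfsg.IsSemisimilarityPair (⇑Q) g τ := by
  have rS := (isSemisim_refl_iff (Q := Q) g).2 hg
  obtain ⟨h', -⟩ := stdAut_mul_refl rS h
  rwa [mul_one] at h'

theorem Phi_mul_stdAut {g : GL ι F} (hg : g ∈ GO (⇑Q)) {τ : F ≃+* F}
    (h : Cfsg.IsSemisimilarityPair (⇑Q) (1 : GL ι F) τ) :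
    Phi (⇑Q) ⟨g, hg⟩ * stdAut h = stdAut (isSemisim_of_GO hg h) := by
  have rS := (isSemisim_refl_iff (Q := Q) g).2 hg
  obtain ⟨h', e⟩ := stdAut_mul_refl rS h
  have e0 : Phi (⇑Q) ⟨g, hg⟩ = stdAut rS := by
    rw [stdAut_refl_eq_Phi]
  rw [e0, e]
  exact stdAut_congr (mul_one _) rfl _ _

end sec

section cent

variable {F : Type*} {F₀ : Type*} [Field F] [Fintype F] [Field F₀] [Fintype F₀]
  {ι : Type} [Fintype ι] [DecidableEq ι] (j : F₀ →+* F) (M₀ : Matrix ι ι F₀)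
  (G : Good (matQ (M₀.map j))) (G₀ : Good (matQ M₀))

include G G₀ in
/-- an automorphism commuting with a standard field automorphism is the image of a similarity
over the fixed field times a standard field automorphism -/
theorem cent_decomp (σ : F ≃+* F) (hfix : ∀ x, σ x = x → ∃ a, j a = x)
    (hall : ∀ τ : F ≃+* F, Cfsg.IsSemisimilarityPair (⇑(matQ (M₀.map j))) (1 : GL ι F) τ)
    {r : ℕ} (hr : 0 < r) (hord : orderOf σ = r)
    (c : MulAut (Cfsg.POmega F (⇑(matQ (M₀.map j)))))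
    (hc : c * stdAut (hall σ) = stdAut (hall σ) * c) :
    ∃ (τ : F ≃+* F) (g₀ : GL ι F₀) (hg₀ : g₀ ∈ GO (⇑(matQ M₀))),
      c = Phi (⇑(matQ (M₀.map j)))
        ⟨Matrix.GeneralLinearGroup.map (n := ι) j g₀, map_mem_GO j M₀ hg₀⟩ * stdAut (hall τ) := by
  obtain ⟨τ, hτ⟩ : ∃ τ : F ≃+* F, τ = G.fieldHom c := ⟨_, rfl⟩
  obtain ⟨a, ha⟩ : ∃ a, a = c * (stdAut (hall τ))⁻¹ := ⟨_, rfl⟩
  have haker : a ∈ G.fieldHom.ker := by
    rw [MonoidHom.mem_ker, ha, map_mul, map_inv, G.fieldHom_stdAut, ← hτ]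
    exact mul_inv_cancel _
  rw [G.ker_fieldHom] at haker
  obtain ⟨g, hg⟩ := haker
  have hcomm : Phi (⇑(matQ (M₀.map j))) g * stdAut (hall σ) =
      stdAut (hall σ) * Phi (⇑(matQ (M₀.map j))) g := by
    rw [hg, ha]
    have h3 := stdField_comm (hall σ) (hall τ)
    calc c * (stdAut (hall τ))⁻¹ * stdAut (hall σ)
        = c * ((stdAut (hall τ))⁻¹ * (stdAut (hall σ) * stdAut (hall τ)) *
            (stdAut (hall τ))⁻¹) := by group
      _ = c * ((stdAut (hall τ))⁻¹ * (stdAut (hall τ) * stdAut (hall σ)) *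
            (stdAut (hall τ))⁻¹) := by rw [h3]
      _ = (c * stdAut (hall σ)) * (stdAut (hall τ))⁻¹ := by group
      _ = (stdAut (hall σ) * c) * (stdAut (hall τ))⁻¹ := by rw [hc]
      _ = stdAut (hall σ) * (c * (stdAut (hall τ))⁻¹) := by group
  obtain ⟨d, hd0, hd⟩ := exists_fixed_of_commute G hr hord (hall σ) g hcomm
  obtain ⟨g', hg'⟩ : ∃ g' : GL ι F, g' = scalarGL (Units.mk0 d hd0) * (g : GL ι F) := ⟨_, rfl⟩
  have hg'GO : g' ∈ GO (⇑(matQ (M₀.map j))) := by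
    rw [hg']
    exact Subgroup.mul_mem _ (scalarGL_mem_GO _) g.2
  have hg'coe : (g' : Matrix ι ι F) = d • ((g : GL ι F) : Matrix ι ι F) := by
    rw [hg', Units.val_mul, scalarGL_coe, Units.val_mk0, Matrix.smul_mul, Matrix.one_mul]
  obtain ⟨g₀, hg₀, hJg₀⟩ := hdown_GO j M₀ σ hfix G₀.exists_Q_ne_zero g' hg'GO
    (by rw [hg'coe]; exact hd)
  refine ⟨τ, g₀, hg₀, ?_⟩
  have e : (⟨Matrix.GeneralLinearGroup.map (n := ι) j g₀, map_mem_GO j M₀ hg₀⟩ :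
      ↥(GO (⇑(matQ (M₀.map j))))) =
      (⟨scalarGL (Units.mk0 d hd0), scalarGL_mem_GO _⟩ : ↥(GO (⇑(matQ (M₀.map j))))) * g := by
    apply Subtype.ext
    show Matrix.GeneralLinearGroup.map (n := ι) j g₀ = scalarGL (Units.mk0 d hd0) * (g : GL ι F)
    rw [hJg₀, hg']
  rw [e, map_mul, Phi_of_scalar _ (scalarGL_mem _), one_mul, hg, ha]
  group

/-- the action of the centralizer on the image of `Ω` over the fixed field -/
theorem conj_fL (τ : F ≃+* F) (τ₀ : F₀ ≃+* F₀) (hτ : ∀ a, τ (j a) = j (τ₀ a))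
    {g₀ : GL ι F₀} (hg₀ : g₀ ∈ GO (⇑(matQ M₀)))
    (hτ1 : Cfsg.IsSemisimilarityPair (⇑(matQ (M₀.map j))) (1 : GL ι F) τ)
    (h₀ : Cfsg.IsSemisimilarityPair (⇑(matQ M₀)) g₀ τ₀)
    (s₀ : ↥(Cfsg.Omega F₀ (⇑(matQ M₀)))) :
    (Phi (⇑(matQ (M₀.map j)))
        ⟨Matrix.GeneralLinearGroup.map (n := ι) j g₀, map_mem_GO j M₀ hg₀⟩ * stdAut hτ1) *
      fL j M₀ s₀ *
      (Phi (⇑(matQ (M₀.map j)))
        ⟨Matrix.GeneralLinearGroup.map (n := ι) j g₀, map_mem_GO j M₀ hg₀⟩ * stdAut hτ1)⁻¹ =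
      fL j M₀ (semiΩ h₀ s₀) := by
  rw [Phi_mul_stdAut]
  obtain ⟨hs', e2⟩ := stdAut_conj_Phi (isSemisim_of_GO (map_mem_GO j M₀ hg₀) hτ1) (Jom j M₀ s₀)
  rw [fL_apply, e2, fL_apply]
  congr 1
  apply Subtype.ext
  show semiHom (Matrix.GeneralLinearGroup.map (n := ι) j g₀) τ
      ((Jom j M₀ s₀ : ↥(GO (⇑(matQ (M₀.map j))))) : GL ι F) =
    ((Jom j M₀ (semiΩ h₀ s₀) : ↥(GO (⇑(matQ (M₀.map j))))) : GL ι F)
  rw [Jom_coe, Jom_coe, semiΩ_coe, semiO_coe, semiHom_apply, semiHom_apply,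
    map_map_restrict j τ τ₀ hτ, map_mul, map_mul, map_inv]

include G G₀ in
/-- an element of the centralizer commuting with the image of `Ω` over the fixed field acts
trivially over the fixed field -/
theorem stdAut_eq_one_of_comm (τ : F ≃+* F) (τ₀ : F₀ ≃+* F₀) (hτ : ∀ a, τ (j a) = j (τ₀ a))
    {g₀ : GL ι F₀} (hg₀ : g₀ ∈ GO (⇑(matQ M₀)))
    (hτ1 : Cfsg.IsSemisimilarityPair (⇑(matQ (M₀.map j))) (1 : GL ι F) τ)
    (h₀ : Cfsg.IsSemisimilarityPair (⇑(matQ M₀)) g₀ τ₀)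
    (hcomm : ∀ s₀ : ↥(Cfsg.Omega F₀ (⇑(matQ M₀))),
      (Phi (⇑(matQ (M₀.map j)))
        ⟨Matrix.GeneralLinearGroup.map (n := ι) j g₀, map_mem_GO j M₀ hg₀⟩ * stdAut hτ1) *
        fL j M₀ s₀ = fL j M₀ s₀ *
      (Phi (⇑(matQ (M₀.map j)))
        ⟨Matrix.GeneralLinearGroup.map (n := ι) j g₀, map_mem_GO j M₀ hg₀⟩ * stdAut hτ1)) :
    stdAut h₀ = 1 := by
  apply MulEquiv.ext
  intro x
  obtain ⟨s₀, rfl⟩ := QuotientGroup.mk_surjective x
  rw [stdAut_mk, MulAut.one_apply, QuotientGroup.eq, ← fL_ker j M₀ G G₀, MonoidHom.mem_ker,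
    map_mul, map_inv, ← conj_fL j M₀ τ τ₀ hτ hg₀ hτ1 h₀ s₀, hcomm s₀]
  group

include G G₀ in
/-- **the elements of the centralizer of a standard field automorphism commuting with the image
of `Ω` over the fixed field are powers of the field automorphism** -/
theorem mem_zpowers_of_cent (σ : F ≃+* F) (hfix : ∀ x, σ x = x → ∃ a, j a = x)
    (hjfix : ∀ a, σ (j a) = j a)
    (hall : ∀ τ : F ≃+* F, Cfsg.IsSemisimilarityPair (⇑(matQ (M₀.map j))) (1 : GL ι F) τ)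
    (hall₀ : ∀ τ₀ : F₀ ≃+* F₀, Cfsg.IsSemisimilarityPair (⇑(matQ M₀)) (1 : GL ι F₀) τ₀)
    {r : ℕ} (hr : 0 < r) (hord : orderOf σ = r)
    (c : MulAut (Cfsg.POmega F (⇑(matQ (M₀.map j)))))
    (hc : c * stdAut (hall σ) = stdAut (hall σ) * c)
    (hcL : ∀ s₀ : ↥(Cfsg.Omega F₀ (⇑(matQ M₀))), c * fL j M₀ s₀ = fL j M₀ s₀ * c) :
    c ∈ Subgroup.zpowers (stdAut (hall σ)) := by
  obtain ⟨τ, g₀, hg₀, rfl⟩ := cent_decomp j M₀ G G₀ σ hfix hall hr hord c hc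
  obtain ⟨τ₀, hτ⟩ := exists_restrict j σ τ hfix hjfix
  have h₀ := isSemisim_of_GO hg₀ (hall₀ τ₀)
  have h1 := stdAut_eq_one_of_comm j M₀ G G₀ τ τ₀ hτ hg₀ (hall τ) h₀ hcL
  have h2 : stdAut (isSemisim_one (Q := matQ M₀)) = stdAut h₀ := by
    rw [stdAut_one, h1]
  obtain ⟨hτ₀, a, ha⟩ := G₀.stdAut_eq_imp isSemisim_one h₀ h2
  have hPhi : Phi (⇑(matQ (M₀.map j)))
      ⟨Matrix.GeneralLinearGroup.map (n := ι) j g₀, map_mem_GO j M₀ hg₀⟩ = 1 := by
    rw [Phi_eq_one_iff_good G]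
    show ∃ a' : F, ((Matrix.GeneralLinearGroup.map (n := ι) j g₀ : GL ι F) : Matrix ι ι F) =
      a' • 1
    rw [map_coe_GL, map_scalar_iff j]
    refine ⟨a, ?_⟩
    rw [ha, Units.val_one]
  rw [hPhi, one_mul]
  have hτmem : τ ∈ Subgroup.zpowers (σ : RingAut F) := by
    apply mem_zpowers_of_fixes_fixedField σ τ
    intro x hx
    obtain ⟨a₀, rfl⟩ := hfix x hx
    rw [hτ, ← hτ₀]
    rfl
  obtain ⟨n, hn⟩ := Subgroup.mem_zpowers_iff.1 hτmem
  have h3 : stdAut (hall τ) = fieldSec hall τ := rfl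
  have h4 : stdAut (hall σ) = fieldSec hall σ := rfl
  rw [h3, h4, ← hn, map_zpow]
  exact Subgroup.zpow_mem_zpowers _ n

end cent

end Cfsg.Agent.Helper17.OrthFA
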