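import Mathlib
import Cfsg.Agent.Lib.Helper17.OrthFA62

set_option autoImplicit false
set_option linter.unusedSectionVars false
set_option linter.unusedSimpArgs false
set_option linter.unusedVariables false

/-!
# The groups `PΩ` have even order in odd characteristic (helper17)
-/

namespace Cfsg.Agent.Helper17.OrthFA

open QuadraticMap Matrix Module Cfsg.Agent.Helper13 Cfsg.Agent.Helper17.OrthOut
  Cfsg.Agent.Helper17.Spinor Cfsg.Agent.Helper17.ConfAut Cfsg.Agent.Helper2.Orth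

section even

variable {F : Type*} [Field F] [Fintype F] {ι : Type} [Fintype ι] [DecidableEq ι]
  {Q : QuadraticForm F (ι → F)}

theorem two_dvd_card_POmega (G : Good Q) (h2 : (2 : F) ≠ 0) :
    2 ∣ Nat.card (Cfsg.POmega F (⇑Q)) := by
  obtain ⟨e, f, fr⟩ := G.frame
  obtain ⟨u, hu⟩ : ∃ u : ι → F, u = e 0 + f 0 := ⟨_, rfl⟩
  obtain ⟨v, hv⟩ : ∃ v : ι → F, v = e 1 + f 1 := ⟨_, rfl⟩
  have hQu : Q u = 1 := by
    rw [hu, Q_add, fr.qe, fr.qf, fr.ef]
    simp
  have hQv : Q v = 1 := by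
    rw [hv, Q_add, fr.qe, fr.qf, fr.ef]
    simp
  have h01 : (0 : Fin 3) ≠ 1 := by decide
  have h02 : (0 : Fin 3) ≠ 2 := by decide
  have h12 : (1 : Fin 3) ≠ 2 := by decide
  have huv : polar Q u v = 0 := by
    rw [hu, hv, polar_add_left, polar_add_right, polar_add_right, fr.ee, fr.ef, fr.fe, fr.ff]
    simp
  have hue : polar Q u (e 2) = 0 := by
    rw [hu, polar_add_left, fr.ee, fr.fe]
    simp
  have hve : polar Q v (e 2) = 0 := by
    rw [hv, polar_add_left, fr.ee, fr.fe]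
    simp
  have hu0 : Q u ≠ 0 := by
    rw [hQu]
    exact one_ne_zero
  have hv0 : Q v ≠ 0 := by
    rw [hQv]
    exact one_ne_zero
  have hune : u ≠ 0 := by
    rintro rfl
    apply hu0
    exact QuadraticMap.map_zero Q
  have hene : e 2 ≠ 0 := by
    intro h0
    have := fr.ef 2 2
    rw [h0, polar_zero_left, if_pos rfl] at this
    exact zero_ne_one this
  obtain ⟨s, hs⟩ : ∃ s : ↥(Cfsg.isometryGroup F (⇑Q)), s = tG Q u * tG Q v := ⟨_, rfl⟩
  have hsΩ : s ∈ Cfsg.Omega F (⇑Q) := by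
    rw [hs]
    exact Cfsg.Agent.Helper17.OmegaElts.tG_mul_tG_mem_Omega Q G.nondeg G.hex hu0
      (by rw [hQv, hQu])
  have hcomm : tG Q u * tG Q v = tG Q v * tG Q u := by
    have h1 := mul_tG Q (tG Q u) hv0
    rw [toEnd_tG Q hu0, refl_apply_of_polar_eq_zero Q u v huv] at h1
    exact h1
  have hss : s * s = 1 := by
    rw [hs]
    calc tG Q u * tG Q v * (tG Q u * tG Q v) = tG Q u * (tG Q v * tG Q u) * tG Q v := by group
      _ = tG Q u * (tG Q u * tG Q v) * tG Q v := by rw [hcomm]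
      _ = (tG Q u * tG Q u) * (tG Q v * tG Q v) := by group
      _ = 1 := by rw [tG_mul_self Q hu0, tG_mul_self Q hv0, one_mul]
  have hsu : toEnd Q s u = -u := by
    rw [hs, Cfsg.Agent.Helper17.OmegaElts.toEnd_tG_mul_tG Q hu0 hv0,
      refl_apply_of_polar_eq_zero Q v u (by rw [polar_comm]; exact huv), refl_apply, polar_self,
      hQu]
    have h3 : ((1 : F)⁻¹ * (2 • (1 : F))) = 2 := by simp
    rw [h3, two_smul]
    abel
  have hse : toEnd Q s (e 2) = e 2 := by
    rw [hs, Cfsg.Agent.Helper17.OmegaElts.toEnd_tG_mul_tG Q hu0 hv0,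
      refl_apply_of_polar_eq_zero Q v _ hve, refl_apply_of_polar_eq_zero Q u _ hue]
  obtain ⟨x, hx⟩ : ∃ x : Cfsg.POmega F (⇑Q), x = QuotientGroup.mk ⟨s, hsΩ⟩ := ⟨_, rfl⟩
  have hx2 : x ^ 2 = 1 := by
    rw [hx, ← QuotientGroup.mk_pow]
    have h3 : (⟨s, hsΩ⟩ : ↥(Cfsg.Omega F (⇑Q))) ^ 2 = 1 := by
      apply Subtype.ext
      rw [pow_two]
      exact hss
    rw [h3]
    rfl
  have hx1 : x ≠ 1 := by
    intro h1
    have h3 : Phi (⇑Q) (omegaToGO (⇑Q) ⟨s, hsΩ⟩) = 1 := by
      rw [Phi_omegaToGO, ← hx, h1, map_one]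
    obtain ⟨a, ha⟩ := (Phi_eq_one_iff_good G _).1 h3
    have ha' : ((s : GL ι F) : Matrix ι ι F) = a • 1 := ha
    have h4 : ∀ y, toEnd Q s y = a • y := by
      intro y
      rw [toEnd_apply, ha', Matrix.smul_mulVec, Matrix.one_mulVec]
    have h5 : a = 1 := by
      have h6 := h4 (e 2)
      rw [hse] at h6
      have h7 : (a - 1) • e 2 = 0 := by
        rw [sub_smul, one_smul, ← h6, sub_self]
      rcases smul_eq_zero.1 h7 with h8 | h8
      · exact sub_eq_zero.1 h8
      · exact absurd h8 hene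
    have h6 := h4 u
    rw [hsu, h5, one_smul] at h6
    have h7 : (2 : F) • u = 0 := by
      rw [two_smul]
      nth_rewrite 1 [← h6]
      exact neg_add_cancel u
    rcases smul_eq_zero.1 h7 with h8 | h8
    · exact h2 h8
    · exact hune h8
  have hord : orderOf x = 2 := orderOf_eq_prime hx2 hx1
  rw [← hord]
  exact orderOf_dvd_natCard x

end even

end Cfsg.Agent.Helper17.OrthFA
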