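import Mathlib
import Cfsg.Agent.Lib.Helper17.OrthFA63

set_option autoImplicit false
set_option linter.unusedSectionVars false
set_option linter.unusedSimpArgs false
set_option linter.unusedVariables false
set_option maxHeartbeats 1000000

/-!
# Local balance for the odd-dimensional orthogonal groups: the criterion for a standard field
automorphism (helper17)
-/

namespace Cfsg.Agent.Helper17.OrthFA

open QuadraticMap Matrix Module Cfsg.Agent.Helper13 Cfsg.Agent.Helper17.OrthOut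
  Cfsg.Agent.Helper17.Spinor Cfsg.Agent.Helper17.ConfAut Cfsg.Agent.Helper17.OrthAut
  Cfsg.Agent.Helper2.Orth

section aux

variable {F : Type*} [Field F] [Fintype F] {F₀ : Type*} [Field F₀] [Fintype F₀]

theorem odd_lb_aux (k : ℕ) (j : F₀ →+* F) (σ : F ≃+* F)
    (hfix : ∀ x, σ x = x → ∃ a, j a = x) (hjfix : ∀ a, σ (j a) = j a)
    (h2 : (2 : F) ≠ 0)
    (M : Matrix (Unit ⊕ (Fin (k + 3) ⊕ Fin (k + 3))) (Unit ⊕ (Fin (k + 3) ⊕ Fin (k + 3))) F)
    (hM : (oddMat (k + 3) F₀).map j = M) (G : Good (matQ M)) {p : ℕ} (hp : p.Prime)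
    (hord : orderOf σ = p)
    (hall : ∀ τ : F ≃+* F, Cfsg.IsSemisimilarityPair (⇑(matQ M))
      (1 : GL (Unit ⊕ (Fin (k + 3) ⊕ Fin (k + 3))) F) τ)
    (A : Subgroup (MulAut (Cfsg.POmega F (⇑(matQ M)))))
    (hinn : Cfsg.Inn (Cfsg.POmega F (⇑(matQ M))) ≤ A) :
    HasCore p A (stdAut (hall σ)) ↔
      Nat.Coprime p (Nat.card ↥(MonoidHom.eqLocus (stdAut (hall σ)).toMonoidHom
        (MonoidHom.id (Cfsg.POmega F (⇑(matQ M)))))) := by
  classical
  subst hM
  have h2₀ : (2 : F₀) ≠ 0 := by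
    intro h
    apply h2
    have := congrArg j h
    rwa [map_ofNat, map_zero] at this
  have G₀ := good_odd h2₀ k
  have hall₀ : ∀ τ₀ : F₀ ≃+* F₀, Cfsg.IsSemisimilarityPair (⇑(matQ (oddMat (k + 3) F₀)))
      (1 : GL (Unit ⊕ (Fin (k + 3) ⊕ Fin (k + 3))) F₀) τ₀ :=
    fun τ₀ => isSemisim_fixed (oddMat_map (k + 3) τ₀)
  obtain ⟨φ, hφ⟩ : ∃ φ : MulAut (Cfsg.POmega F (⇑(matQ ((oddMat (k + 3) F₀).map j)))),
      φ = stdAut (hall σ) := ⟨_, rfl⟩
  rw [← hφ]
  have hZ := conj_injective_of_good G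
  have hfinX : Finite (MulAut (Cfsg.POmega F (⇑(matQ ((oddMat (k + 3) F₀).map j))))) :=
    inferInstance
  obtain ⟨L, hL⟩ : ∃ L : Subgroup (MulAut (Cfsg.POmega F (⇑(matQ ((oddMat (k + 3) F₀).map j))))),
      L = (fL j (oddMat (k + 3) F₀)).range := ⟨_, rfl⟩
  have hLsimple : IsSimpleGroup ↥L := by
    rw [hL]
    exact fL_range_simple j _ G G₀
  have hLinn : L ≤ Cfsg.Inn (Cfsg.POmega F (⇑(matQ ((oddMat (k + 3) F₀).map j)))) := by
    rw [hL]
    rintro _ ⟨s₀, rfl⟩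
    exact fL_mem_inn j _ G G₀ s₀
  have hLcent : L ≤ Subgroup.centralizer {φ} := by
    rw [hL]
    rintro _ ⟨s₀, rfl⟩
    rw [Subgroup.mem_centralizer_singleton_iff, hφ]
    exact fL_comm j _ hjfix (hall σ) s₀
  have hcardL : Nat.card ↥L = Nat.card (Cfsg.POmega F₀ (⇑(matQ (oddMat (k + 3) F₀)))) := by
    rw [hL]
    exact card_fL_range j _ G G₀
  have hN₀ := inn_inf_centralizer hZ φ
  have hcardN₀ : Nat.card ↥(Cfsg.Inn (Cfsg.POmega F (⇑(matQ ((oddMat (k + 3) F₀).map j)))) ⊓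
      Subgroup.centralizer {φ}) = Nat.card ↥(MonoidHom.eqLocus φ.toMonoidHom
        (MonoidHom.id (Cfsg.POmega F (⇑(matQ ((oddMat (k + 3) F₀).map j)))))) := by
    rw [hN₀, Subgroup.card_map_of_injective hZ]
  constructor
  · rintro ⟨N, hNle, hne, hcop, hnorm⟩
    rw [hp.coprime_iff_not_dvd]
    intro hdvd
    apply hne
    have hpK₀ : p ∣ Nat.card (Cfsg.POmega F₀ (⇑(matQ (oddMat (k + 3) F₀)))) := by
      rw [← hcardN₀] at hdvd
      have hle : Cfsg.Inn (Cfsg.POmega F (⇑(matQ ((oddMat (k + 3) F₀).map j)))) ⊓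
          Subgroup.centralizer {φ} ≤
          ConfAut.PG (matQ ((oddMat (k + 3) F₀).map j)) ⊓ Subgroup.centralizer {φ} := by
        apply inf_le_inf_right
        rw [← G.ker_fieldHom]
        exact G.inn_le_ker
      have h3 := Subgroup.card_dvd_of_le hle
      obtain ⟨⟨e⟩, -, -⟩ := odd_cent_aux k j σ hfix hjfix h2 _ rfl G hp.pos hord (hall σ)
      rw [hφ, Nat.card_congr e.toEquiv] at h3
      rw [hφ] at hdvd
      have h4 : Nat.card ↥(ConfAut.PG (matQ (oddMat (k + 3) F₀))) =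
          Nat.card (Cfsg.POmega F₀ (⇑(matQ (oddMat (k + 3) F₀)))) * 2 := by
        have hT : TwoHyp (matQ (oddMat (k + 3) F₀)) (Sum.inr (Sum.inl 0)) (Sum.inr (Sum.inr 0))
            (Sum.inr (Sum.inl 1)) (Sum.inr (Sum.inr 1)) := twoHyp_odd (k + 1)
        have hcardo : Odd (Fintype.card (Unit ⊕ (Fin (k + 3) ⊕ Fin (k + 3)))) := by
          rw [card_oddIdx]
          exact ⟨k + 3, rfl⟩
        have h5 := relIndex_inn_PG_of_odd h2₀ G₀.nondeg hT hcardo
        have hle₀ : Cfsg.Inn (Cfsg.POmega F₀ (⇑(matQ (oddMat (k + 3) F₀)))) ≤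
            ConfAut.PG (matQ (oddMat (k + 3) F₀)) := by
          rw [← G₀.ker_fieldHom]
          exact G₀.inn_le_ker
        have h6 := Subgroup.relIndex_mul_relIndex ⊥
          (Cfsg.Inn (Cfsg.POmega F₀ (⇑(matQ (oddMat (k + 3) F₀)))))
          (ConfAut.PG (matQ (oddMat (k + 3) F₀))) bot_le hle₀
        rw [Subgroup.relIndex_bot_left, Subgroup.relIndex_bot_left, h5, G₀.card_inn] at h6
        exact h6.symm
      rw [h4] at h3
      have h7 : p ∣ Nat.card (Cfsg.POmega F₀ (⇑(matQ (oddMat (k + 3) F₀)))) * 2 := hdvd.trans h3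
      rcases (Nat.Prime.dvd_mul hp).1 h7 with h8 | h8
      · exact h8
      · have h9 : p = 2 := (Nat.prime_dvd_prime_iff_eq hp Nat.prime_two).1 h8
        rw [h9]
        exact two_dvd_card_POmega G₀ h2₀
    have hφp : φ ^ p = 1 := by
      have h3 : φ = fieldSec hall σ := hφ
      rw [h3, ← map_pow, ← hord, pow_orderOf_eq_one, map_one]
    have hNC : ∀ n ∈ N, n * stdAut (hall σ) = stdAut (hall σ) * n := by
      intro n hn
      have h3 := hNle hn
      rw [Subgroup.mem_inf, Subgroup.mem_centralizer_singleton_iff, hφ] at h3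
      exact h3.2
    apply core_abstract hp φ hφp L N hLsimple (by rw [hcardL]; exact hpK₀)
    · intro l hl n hn
      apply hnorm l _ n hn
      rw [Subgroup.mem_inf]
      exact ⟨hinn (hLinn hl), hLcent hl⟩
    · intro n hn l hl
      obtain ⟨τ, g₀, hg₀, rfl⟩ := cent_decomp j _ G G₀ σ hfix hall hp.pos hord n (hNC n hn)
      obtain ⟨τ₀, hτ⟩ := exists_restrict j σ τ hfix hjfix
      have h₀ := isSemisim_of_GO hg₀ (hall₀ τ₀)
      rw [hL] at hl ⊢
      obtain ⟨s₀, rfl⟩ := hl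
      rw [conj_fL j _ τ τ₀ hτ hg₀ (hall τ) h₀ s₀]
      exact ⟨_, rfl⟩
    · intro n hn hnl
      rw [hφ]
      apply mem_zpowers_of_cent j _ G G₀ σ hfix hjfix hall hall₀ hp.pos hord n (hNC n hn)
      intro s₀
      apply hnl
      rw [hL]
      exact ⟨s₀, rfl⟩
    · exact hcop
  · intro hcop
    refine ⟨Cfsg.Inn (Cfsg.POmega F (⇑(matQ ((oddMat (k + 3) F₀).map j)))) ⊓
      Subgroup.centralizer {φ}, ?_, ?_, ?_, ?_⟩
    · exact inf_le_inf_right _ hinn
    · intro hbot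
      have hLbot : L = ⊥ := by
        rw [eq_bot_iff, ← hbot]
        exact le_inf hLinn hLcent
      exact (Subgroup.nontrivial_iff_ne_bot L).1 hLsimple.toNontrivial hLbot
    · rw [hcardN₀]
      exact hcop.symm
    · intro h hh n hn
      rw [Subgroup.mem_inf] at hh hn ⊢
      refine ⟨(inn_normal _).conj_mem n hn.1 h, ?_⟩
      exact Subgroup.mul_mem _ (Subgroup.mul_mem _ hh.2 hn.2) (Subgroup.inv_mem _ hh.2)

end aux

end Cfsg.Agent.Helper17.OrthFA
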