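import Mathlib
import Cfsg.Agent.Lib.Helper17.OrthFA64

set_option autoImplicit false
set_option linter.unusedSectionVars false
set_option linter.unusedSimpArgs false
set_option linter.unusedVariables false
set_option maxHeartbeats 1000000

/-!
# Local balance for the odd-dimensional orthogonal groups: automorphisms of prime order which are
not inner-diagonal (helper17)
-/

namespace Cfsg.Agent.Helper17.OrthFA

open QuadraticMap Matrix Module Cfsg.Agent.Helper13 Cfsg.Agent.Helper17.OrthOut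
  Cfsg.Agent.Helper17.Spinor Cfsg.Agent.Helper17.ConfAut Cfsg.Agent.Helper17.OrthAut
  Cfsg.Agent.Helper2.Orth

universe u

theorem odd_lb_final {F : Type u} [Field F] [Fintype F] (h2 : (2 : F) ≠ 0) (k : ℕ)
    (Q' : (Unit ⊕ (Fin (k + 3) ⊕ Fin (k + 3)) → F) → F)
    (hQ' : Q' = ⇑(matQ (oddMat (k + 3) F)))
    (A : Subgroup (MulAut (Cfsg.POmega F Q')))
    (hinn : ∀ k' : Cfsg.POmega F Q', MulAut.conj k' ∈ A) {p : ℕ} (hp : p.Prime)
    (x : MulAut (Cfsg.POmega F Q')) (hord : orderOf x = p)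
    (hnot : ¬ Cfsg.IsSimilarityInducedAutPOmega Q' x) :
    Cfsg.pPrimeCore p ↥(A ⊓ Subgroup.centralizer {x}) ≠ ⊥ ↔
      (Cfsg.IsFieldAutClassPOmega Q' x ∧ Nat.Coprime p (Nat.card
        ↥(MonoidHom.eqLocus x.toMonoidHom (MonoidHom.id (Cfsg.POmega F Q'))))) := by
  classical
  subst hQ'
  have G := good_odd h2 k
  obtain ⟨σ, hσ⟩ : ∃ σ : F ≃+* F, σ = G.fieldHom x := ⟨_, rfl⟩
  have hall : ∀ τ : F ≃+* F, Cfsg.IsSemisimilarityPair (⇑(matQ (oddMat (k + 3) F)))
      (1 : GL (Unit ⊕ (Fin (k + 3) ⊕ Fin (k + 3))) F) τ :=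
    fun τ => isSemisim_fixed (oddMat_map (k + 3) τ)
  have hσ1 : σ ≠ RingEquiv.refl F := by
    intro h
    apply hnot
    have hker : x ∈ G.fieldHom.ker := by
      rw [MonoidHom.mem_ker, ← hσ, h]
      rfl
    rw [G.ker_fieldHom] at hker
    obtain ⟨g, rfl⟩ := hker
    exact ⟨g.1, g.2, (isInduced_iff _ g.2 _).2 rfl⟩
  have hσp : orderOf σ = p := by
    have h3 : orderOf σ ∣ p := by
      rw [hσ, ← hord]
      exact orderOf_map_dvd _ _
    rcases (Nat.dvd_prime hp).1 h3 with h4 | h4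
    · exact absurd (orderOf_eq_one_iff.1 h4) hσ1
    · exact h4
  obtain ⟨φ, hφ⟩ : ∃ φ : MulAut (Cfsg.POmega F (⇑(matQ (oddMat (k + 3) F)))),
      φ = stdAut (hall σ) := ⟨_, rfl⟩
  have hφp : orderOf φ = p := by
    have h3 : φ = fieldSec hall σ := hφ
    rw [h3, orderOf_injective (fieldSec hall) (fieldSec_injective G hall), hσp]
  obtain ⟨δ, hδ⟩ : ∃ δ : MulAut (Cfsg.POmega F (⇑(matQ (oddMat (k + 3) F)))),
      δ = x * φ⁻¹ := ⟨_, rfl⟩
  have hδker : δ ∈ Cfsg.pgoAut F (⇑(matQ (oddMat (k + 3) F))) := by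
    have hker : Cfsg.pgoAut F (⇑(matQ (oddMat (k + 3) F))) = G.fieldHom.ker := by
      rw [ConfAut.pgoAut_eq, G.ker_fieldHom]
    rw [hker, MonoidHom.mem_ker, hδ, map_mul, map_inv, hφ, G.fieldHom_stdAut, ← hσ]
    exact mul_inv_cancel _
  have hx' : δ * φ = x := by
    rw [hδ]
    group
  have hfaφ : Cfsg.IsFieldAutPOmegaOf (⇑(matQ (oddMat (k + 3) F))) σ φ := by
    rw [hφ]
    exact stdAut_isFieldAut (hall σ)
  have hfa : Cfsg.IsFieldAutClassPOmega (⇑(matQ (oddMat (k + 3) F))) φ :=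
    ⟨1, φ, σ, hσ1, hfaφ, by rw [one_mul, inv_one, mul_one]⟩
  have hconj := (odd_aux h2 k _ rfl φ δ hfa hp hφp hδker).1 (by rw [hx']; exact hord)
  obtain ⟨a, -, hax⟩ := hconj
  rw [hx'] at hax
  have hfield : Cfsg.IsFieldAutClassPOmega (⇑(matQ (oddMat (k + 3) F))) x := by
    refine ⟨a⁻¹, φ, σ, hσ1, hfaφ, ?_⟩
    rw [hax]
    group
  have h0 : Cfsg.pPrimeCore p ↥(A ⊓ Subgroup.centralizer {x}) ≠ ⊥ ↔ HasCore p A x :=
    pPrimeCore_ne_bot_iff p _
  have hcard : Nat.card ↥(MonoidHom.eqLocus x.toMonoidHom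
      (MonoidHom.id (Cfsg.POmega F (⇑(matQ (oddMat (k + 3) F)))))) =
      Nat.card ↥(MonoidHom.eqLocus φ.toMonoidHom
      (MonoidHom.id (Cfsg.POmega F (⇑(matQ (oddMat (k + 3) F)))))) := by
    rw [hax]
    exact card_eqLocus_conj a φ
  have hcrit : HasCore p A x ↔ Nat.Coprime p (Nat.card ↥(MonoidHom.eqLocus x.toMonoidHom
      (MonoidHom.id (Cfsg.POmega F (⇑(matQ (oddMat (k + 3) F))))))) := by
    obtain ⟨e, he⟩ : ∃ e : MulAut (Cfsg.POmega F (⇑(matQ (oddMat (k + 3) F)))) ≃*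
        MulAut (Cfsg.POmega F (⇑(matQ (oddMat (k + 3) F)))), e = MulAut.conj a⁻¹ := ⟨_, rfl⟩
    have hex : e x = φ := by
      rw [he, MulAut.conj_apply, hax]
      group
    have hinnA' : Cfsg.Inn (Cfsg.POmega F (⇑(matQ (oddMat (k + 3) F)))) ≤
        A.map e.toMonoidHom := by
      rintro _ ⟨k', rfl⟩
      refine ⟨MulAut.conj (a k'), hinn _, ?_⟩
      show e (MulAut.conj (a k')) = MulAut.conj k'
      rw [he, MulAut.conj_apply, inv_inv, ← aut_conj_conj]
      group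
    have hfinF₀ : Fintype ↥(FAut.fixedField σ) := Fintype.ofFinite _
    have key := odd_lb_aux k (FAut.fixedField σ).subtype σ
      (fun y hy => ⟨⟨y, (FAut.mem_fixedField σ y).2 hy⟩, rfl⟩)
      (fun a' => (FAut.mem_fixedField σ a'.1).1 a'.2) h2 (oddMat (k + 3) F)
      (oddMat_map_hom _ (k + 3)) G hp hσp hall (A.map e.toMonoidHom) hinnA'
    rw [← hφ] at key
    rw [hcard, ← key]
    constructor
    · intro h
      have h3 := h.map e
      rwa [hex] at h3
    · intro h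
      have h3 := h.map e.symm
      have h4 : (A.map e.toMonoidHom).map e.symm.toMonoidHom = A := by
        rw [Subgroup.map_map]
        have h5 : e.symm.toMonoidHom.comp e.toMonoidHom = MonoidHom.id _ := by
          ext y
          simp
        rw [h5, Subgroup.map_id]
      have h5 : e.symm φ = x := by
        rw [← hex, MulEquiv.symm_apply_apply]
      rwa [h4, h5] at h3
  rw [h0, hcrit]
  exact ⟨fun h => ⟨hfield, h⟩, fun h => h.2⟩

end Cfsg.Agent.Helper17.OrthFA
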