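import Mathlib
import Cfsg.Agent.Lib.Helper17.OrthFA65

set_option autoImplicit false
set_option linter.unusedSectionVars false
set_option linter.unusedSimpArgs false
set_option linter.unusedVariables false
set_option maxHeartbeats 1000000

/-!
# The centralizer of a standard field automorphism, without assuming that all field
automorphisms are standard (helper17)
-/

namespace Cfsg.Agent.Helper17.OrthFA

open QuadraticMap Matrix Module Cfsg.Agent.Helper13 Cfsg.Agent.Helper17.OrthOut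
  Cfsg.Agent.Helper17.Spinor Cfsg.Agent.Helper17.ConfAut Cfsg.Agent.Helper17.OrthAut
  Cfsg.Agent.Helper2.Orth
open Cfsg.Agent.Helper2.PN (hmin_of_orderOf)
open Cfsg.Agent.Helper13.FAut (pnorm pnorm_zero pnorm_succ hilbert90 pow_apply_eq)

section descend

variable {F : Type*} {F₀ : Type*} [Field F] [Field F₀] {ι : Type} [Fintype ι] [DecidableEq ι]
  (j : F₀ →+* F) (M₀ : Matrix ι ι F₀) (σ : F ≃+* F)

/-- a fixed semisimilarity descends to the fixed field -/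
theorem descend_semisim (hfix : ∀ x, σ x = x → ∃ a, j a = x)
    (hv₀ : ∃ w₀ : ι → F₀, matQ M₀ w₀ ≠ 0) (g : GL ι F) (τ : F ≃+* F) (τ₀ : F₀ ≃+* F₀)
    (hτ : ∀ a, τ (j a) = j (τ₀ a))
    (hc : Cfsg.IsSemisimilarityPair (⇑(matQ (M₀.map j))) g τ)
    (hg : (g : Matrix ι ι F).map σ = (g : Matrix ι ι F)) :
    ∃ g₀ : GL ι F₀, Matrix.GeneralLinearGroup.map (n := ι) j g₀ = g ∧
      Cfsg.IsSemisimilarityPair (⇑(matQ M₀)) g₀ τ₀ := by
  have hfix' : ∀ a b, σ ((g : Matrix ι ι F) a b) = (g : Matrix ι ι F) a b := by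
    intro a b
    exact congrFun (congrFun hg a) b
  choose e he using fun a b => hfix _ (hfix' a b)
  obtain ⟨A, hA⟩ : ∃ A : Matrix ι ι F₀, A = Matrix.of e := ⟨_, rfl⟩
  have hAmap : A.map j = (g : Matrix ι ι F) := by
    ext a b
    rw [hA, Matrix.map_apply, Matrix.of_apply, he]
  have hdet : A.det ≠ 0 := by
    intro h0
    have h1 : (A.map j).det = j A.det := (RingHom.map_det j A).symm
    rw [hAmap, h0, map_zero] at h1
    have hu : IsUnit (g : Matrix ι ι F).det := by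
      rw [← Matrix.isUnit_iff_isUnit_det]
      exact ⟨g, rfl⟩
    rw [h1] at hu
    exact not_isUnit_zero hu
  obtain ⟨g₀, hg₀⟩ : ∃ g₀ : GL ι F₀, (g₀ : Matrix ι ι F₀) = A :=
    ⟨Matrix.GeneralLinearGroup.mkOfDetNeZero A hdet, rfl⟩
  have hJ : Matrix.GeneralLinearGroup.map (n := ι) j g₀ = g := by
    apply Units.ext
    rw [map_coe_GL, hg₀, hAmap]
  obtain ⟨w₀, hw₀⟩ := hv₀
  obtain ⟨c, hc⟩ := hc
  have hval : ∀ w : ι → F₀, j (matQ M₀ (A *ᵥ (fun i => τ₀ (w i)))) =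
      (c : F) * j (τ₀ (matQ M₀ w)) := by
    intro w
    rw [← matQ_map_hom j M₀, ← map_mulVec_hom', hAmap, ← hτ, ← matQ_map_hom j M₀]
    have e1 : (fun i => j ((fun i => τ₀ (w i)) i)) = fun i => τ ((fun i => j (w i)) i) := by
      funext i
      exact (hτ _).symm
    rw [e1]
    exact hc _
  have hjw : j (τ₀ (matQ M₀ w₀)) ≠ 0 := by
    rw [Ne, map_eq_zero, map_eq_zero]
    exact hw₀
  obtain ⟨c₀, hc₀⟩ : ∃ c₀ : F₀, c₀ = matQ M₀ (A *ᵥ (fun i => τ₀ (w₀ i))) / τ₀ (matQ M₀ w₀) :=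
    ⟨_, rfl⟩
  have hjc : j c₀ = c := by
    rw [hc₀, map_div₀, hval w₀, mul_div_assoc, div_self hjw, mul_one]
  have hc₀0 : c₀ ≠ 0 := by
    rintro rfl
    rw [map_zero] at hjc
    exact c.ne_zero hjc.symm
  refine ⟨g₀, hJ, Units.mk0 c₀ hc₀0, ?_⟩
  intro w
  apply j.injective
  rw [hg₀, hval w, map_mul, Units.val_mk0, hjc]

end descend

section pow

variable {F : Type*} [Field F] [Fintype F] {ι : Type} [Fintype ι] [DecidableEq ι]
  {Q : QuadraticForm F (ι → F)}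

/-- the powers of a standard field automorphism -/
theorem stdAut_one_pow {σ : F ≃+* F} (h1 : Cfsg.IsSemisimilarityPair (⇑Q) (1 : GL ι F) σ)
    (n : ℕ) : ∃ hn : Cfsg.IsSemisimilarityPair (⇑Q) (1 : GL ι F)
      ((σ : RingAut F) ^ n : RingAut F), (stdAut h1) ^ n = stdAut hn := by
  induction n with
  | zero => exact ⟨by rw [pow_zero]; exact isSemisim_one, by rw [pow_zero, ← stdAut_one]; rfl⟩
  | succ n ih =>
    obtain ⟨hn, e⟩ := ih
    have h3 := isSemisim_mul hn h1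
    have h4 : (1 : GL ι F) * Matrix.GeneralLinearGroup.map (n := ι)
        (((σ : RingAut F) ^ n : RingAut F) : F →+* F) (1 : GL ι F) = 1 := by
      rw [map_one, mul_one]
    rw [h4, ← pow_succ] at h3
    refine ⟨h3, ?_⟩
    rw [pow_succ, e, stdAut_mul]
    exact stdAut_congr h4 (pow_succ _ _).symm _ _

theorem stdAut_one_pow_orderOf {σ : F ≃+* F}
    (h1 : Cfsg.IsSemisimilarityPair (⇑Q) (1 : GL ι F) σ) {r : ℕ} (hord : orderOf σ = r) :
    (stdAut h1) ^ r = 1 := by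
  obtain ⟨hn, e⟩ := stdAut_one_pow h1 r
  rw [e, ← stdAut_one]
  apply stdAut_congr rfl
  rw [← hord]
  exact pow_orderOf_eq_one (σ : RingAut F)

end pow

section cent

variable {F : Type*} {F₀ : Type*} [Field F] [Fintype F] [Field F₀] [Fintype F₀]
  {ι : Type} [Fintype ι] [DecidableEq ι] (j : F₀ →+* F) (M₀ : Matrix ι ι F₀)
  (G : Good (matQ (M₀.map j))) (G₀ : Good (matQ M₀))

include G G₀ in
/-- an automorphism commuting with a standard field automorphism is induced by a semisimilarity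
over the fixed field -/
theorem cent_decomp_gen (σ : F ≃+* F) (hfix : ∀ x, σ x = x → ∃ a, j a = x)
    (hjfix : ∀ a, σ (j a) = j a)
    (h1 : Cfsg.IsSemisimilarityPair (⇑(matQ (M₀.map j))) (1 : GL ι F) σ)
    {r : ℕ} (hr : 0 < r) (hord : orderOf σ = r)
    (c : MulAut (Cfsg.POmega F (⇑(matQ (M₀.map j)))))
    (hc : c * stdAut h1 = stdAut h1 * c) :
    ∃ (τ : F ≃+* F) (τ₀ : F₀ ≃+* F₀) (g₀ : GL ι F₀) (_ : ∀ a, τ (j a) = j (τ₀ a))
      (_ : Cfsg.IsSemisimilarityPair (⇑(matQ M₀)) g₀ τ₀)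
      (h : Cfsg.IsSemisimilarityPair (⇑(matQ (M₀.map j)))
        (Matrix.GeneralLinearGroup.map (n := ι) j g₀) τ), c = stdAut h := by
  obtain ⟨g, τ, hg, rfl⟩ := G.exists_stdAut c
  obtain ⟨τ₀, hτ⟩ := exists_restrict j σ τ hfix hjfix
  rw [stdAut_mul, stdAut_mul] at hc
  obtain ⟨-, a, ha⟩ := G.stdAut_eq_imp _ _ hc
  obtain ⟨Gm, hGm⟩ : ∃ Gm : Matrix ι ι F, Gm = (g : Matrix ι ι F) := ⟨_, rfl⟩
  have hc' : Gm.map σ = a • Gm := by
    have : (((1 : GL ι F) * Matrix.GeneralLinearGroup.map (n := ι) (σ : F →+* F) g :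
        GL ι F) : Matrix ι ι F) = a • ((g * Matrix.GeneralLinearGroup.map (n := ι)
          (τ : F →+* F) (1 : GL ι F) : GL ι F) : Matrix ι ι F) := ha
    rw [one_mul, map_one, mul_one] at this
    rw [hGm]
    exact this
  have hGu : IsUnit Gm := by
    rw [hGm]
    exact ⟨g, rfl⟩
  have hσr : (σ : RingAut F) ^ r = 1 := hord ▸ pow_orderOf_eq_one (σ : RingAut F)
  have hmin := hmin_of_orderOf σ r hord
  obtain ⟨i₀, k₀, hik⟩ : ∃ i₀ k₀, Gm i₀ k₀ ≠ 0 := by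
    by_contra hcon
    push Not at hcon
    have h0 : Gm = 0 := by
      ext i k
      exact hcon i k
    obtain ⟨w, hw⟩ := G.exists_Q_ne_zero
    apply hw
    obtain ⟨u, hu⟩ := hGu
    have h1' : w = ((u⁻¹ : (Matrix ι ι F)ˣ) : Matrix ι ι F) *ᵥ (Gm *ᵥ w) := by
      rw [Matrix.mulVec_mulVec, ← hu, Units.inv_mul, Matrix.one_mulVec]
    rw [h1', h0, Matrix.zero_mulVec, Matrix.mulVec_zero, map_zero]
  have hpn : pnorm σ a r = 1 := by
    have h3 := pow_apply_eq σ a (Set.range (fun p : ι × ι => Gm p.1 p.2)) (by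
      rintro _ ⟨p, rfl⟩
      have := congrFun (congrFun hc' p.1) p.2
      simpa using this) r (Gm i₀ k₀) ⟨(i₀, k₀), rfl⟩
    rw [hσr] at h3
    have h4 : (1 : F) * Gm i₀ k₀ = pnorm σ a r * Gm i₀ k₀ := by
      rw [one_mul]
      exact h3
    exact (mul_right_cancel₀ hik h4).symm
  obtain ⟨d, hd0, hd⟩ := hilbert90 σ r hr hσr hmin a hpn
  have hdG : (d • Gm).map σ = d • Gm := by
    rw [mapσ_smul, hc', smul_smul, mul_comm, hd]
  obtain ⟨g', hg'⟩ : ∃ g' : GL ι F, g' = scalarGL (Units.mk0 d hd0) * g := ⟨_, rfl⟩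
  have hg'coe : (g' : Matrix ι ι F) = d • Gm := by
    rw [hg', Units.val_mul, scalarGL_coe, Units.val_mk0, Matrix.smul_mul, Matrix.one_mul, hGm]
  have rS : Cfsg.IsSemisimilarityPair (⇑(matQ (M₀.map j)))
      (scalarGL (Units.mk0 d hd0) : GL ι F) (RingEquiv.refl F) :=
    (isSemisim_refl_iff _).2 (scalarGL_mem_GO _)
  obtain ⟨hg'S, e⟩ := stdAut_mul_refl rS hg
  rw [stdAut_scalar, one_mul] at e
  have hg'S' : Cfsg.IsSemisimilarityPair (⇑(matQ (M₀.map j))) g' τ := by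
    rw [hg']
    exact hg'S
  obtain ⟨g₀, hJ, h₀⟩ := descend_semisim j M₀ σ hfix G₀.exists_Q_ne_zero g' τ τ₀ hτ hg'S'
    (by rw [hg'coe]; exact hdG)
  have hfin : Cfsg.IsSemisimilarityPair (⇑(matQ (M₀.map j)))
      (Matrix.GeneralLinearGroup.map (n := ι) j g₀) τ := by
    rw [hJ]
    exact hg'S'
  refine ⟨τ, τ₀, g₀, hτ, h₀, hfin, ?_⟩
  rw [e]
  exact stdAut_congr (by rw [hJ, hg']) rfl _ _

/-- the action of the centralizer on the image of `Ω` over the fixed field -/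
theorem conj_fL_gen (τ : F ≃+* F) (τ₀ : F₀ ≃+* F₀) (hτ : ∀ a, τ (j a) = j (τ₀ a))
    {g₀ : GL ι F₀}
    (h : Cfsg.IsSemisimilarityPair (⇑(matQ (M₀.map j)))
      (Matrix.GeneralLinearGroup.map (n := ι) j g₀) τ)
    (h₀ : Cfsg.IsSemisimilarityPair (⇑(matQ M₀)) g₀ τ₀)
    (s₀ : ↥(Cfsg.Omega F₀ (⇑(matQ M₀)))) :
    stdAut h * fL j M₀ s₀ * (stdAut h)⁻¹ = fL j M₀ (semiΩ h₀ s₀) := by
  obtain ⟨hs', e2⟩ := stdAut_conj_Phi h (Jom j M₀ s₀)
  rw [fL_apply, e2, fL_apply]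
  congr 1
  apply Subtype.ext
  show semiHom (Matrix.GeneralLinearGroup.map (n := ι) j g₀) τ
      ((Jom j M₀ s₀ : ↥(GO (⇑(matQ (M₀.map j))))) : GL ι F) =
    ((Jom j M₀ (semiΩ h₀ s₀) : ↥(GO (⇑(matQ (M₀.map j))))) : GL ι F)
  rw [Jom_coe, Jom_coe, semiΩ_coe, semiO_coe, semiHom_apply, semiHom_apply,
    map_map_restrict j τ τ₀ hτ, map_mul, map_mul, map_inv]

include G G₀ in
/-- **the elements of the centralizer of a standard field automorphism commuting with the image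
of `Ω` over the fixed field are powers of the field automorphism** -/
theorem mem_zpowers_of_cent_gen (σ : F ≃+* F) (hfix : ∀ x, σ x = x → ∃ a, j a = x)
    (hjfix : ∀ a, σ (j a) = j a)
    (h1 : Cfsg.IsSemisimilarityPair (⇑(matQ (M₀.map j))) (1 : GL ι F) σ)
    {r : ℕ} (hr : 0 < r) (hord : orderOf σ = r)
    (c : MulAut (Cfsg.POmega F (⇑(matQ (M₀.map j)))))
    (hc : c * stdAut h1 = stdAut h1 * c)
    (hcL : ∀ s₀ : ↥(Cfsg.Omega F₀ (⇑(matQ M₀))), c * fL j M₀ s₀ = fL j M₀ s₀ * c) :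
    c ∈ Subgroup.zpowers (stdAut h1) := by
  obtain ⟨τ, τ₀, g₀, hτ, h₀, h, rfl⟩ := cent_decomp_gen j M₀ G G₀ σ hfix hjfix h1 hr hord c hc
  have h1' : stdAut h₀ = 1 := by
    apply MulEquiv.ext
    intro x
    obtain ⟨s₀, rfl⟩ := QuotientGroup.mk_surjective x
    rw [stdAut_mk, MulAut.one_apply, QuotientGroup.eq, ← fL_ker j M₀ G G₀, MonoidHom.mem_ker,
      map_mul, map_inv, ← conj_fL_gen j M₀ τ τ₀ hτ h h₀ s₀, hcL s₀]
    group
  have h2 : stdAut (isSemisim_one (Q := matQ M₀)) = stdAut h₀ := by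
    rw [stdAut_one, h1']
  obtain ⟨hτ₀, a, ha⟩ := G₀.stdAut_eq_imp isSemisim_one h₀ h2
  have hτmem : τ ∈ Subgroup.zpowers (σ : RingAut F) := by
    apply mem_zpowers_of_fixes_fixedField σ τ
    intro x hx
    obtain ⟨a₀, rfl⟩ := hfix x hx
    rw [hτ, ← hτ₀]
    rfl
  obtain ⟨n, hn⟩ := Subgroup.mem_zpowers_iff.1 hτmem
  -- the matrix is a scalar
  have ha0 : a ≠ 0 := by
    rintro rfl
    rw [zero_smul] at ha
    have hu : IsUnit ((g₀ : GL ι F₀) : Matrix ι ι F₀) := ⟨g₀, rfl⟩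
    rw [ha] at hu
    obtain ⟨w, hw⟩ := G₀.exists_Q_ne_zero
    apply hw
    obtain ⟨u, hu'⟩ := hu
    have : w = ((u⁻¹ : (Matrix ι ι F₀)ˣ) : Matrix ι ι F₀) *ᵥ ((0 : Matrix ι ι F₀) *ᵥ w) := by
      rw [Matrix.mulVec_mulVec, ← hu', Units.inv_mul, Matrix.one_mulVec]
    rw [this, Matrix.zero_mulVec, Matrix.mulVec_zero, map_zero]
  have hja0 : j a ≠ 0 := by
    rw [Ne, map_eq_zero]
    exact ha0
  have hgsc : Matrix.GeneralLinearGroup.map (n := ι) j g₀ = scalarGL (Units.mk0 (j a) hja0) := by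
    apply Units.ext
    rw [map_coe_GL, ha, Units.val_one, scalarGL_coe, Units.val_mk0]
    ext i k
    by_cases hik : i = k
    · subst hik
      simp [Matrix.map_apply, Matrix.smul_apply, Matrix.one_apply]
    · simp [Matrix.map_apply, Matrix.smul_apply, Matrix.one_apply, hik]
  have hpow := stdAut_one_pow h1
  have hfinR : Finite (F ≃+* F) :=
    Finite.of_injective (fun e : F ≃+* F => (e : F → F)) DFunLike.coe_injective
  have hτmem' : τ ∈ Submonoid.powers (σ : RingAut F) :=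
    mem_powers_iff_mem_zpowers.2 hτmem
  obtain ⟨k, hk⟩ := hτmem'
  obtain ⟨hkS, ek⟩ := hpow k
  have rS : Cfsg.IsSemisimilarityPair (⇑(matQ (M₀.map j)))
      (scalarGL (Units.mk0 (j a) hja0) : GL ι F) (RingEquiv.refl F) :=
    (isSemisim_refl_iff _).2 (scalarGL_mem_GO _)
  obtain ⟨h', e'⟩ := stdAut_mul_refl rS hkS
  rw [stdAut_scalar, one_mul] at e'
  have e3 : stdAut h = stdAut h' := stdAut_congr (by rw [hgsc, mul_one]) hk.symm _ _
  rw [e3, ← e', ← ek]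
  exact Subgroup.pow_mem _ (Subgroup.mem_zpowers _) k

end cent

end Cfsg.Agent.Helper17.OrthFA
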