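import Mathlib
import Cfsg.Agent.Lib.Helper17.OrthFA66

set_option autoImplicit false
set_option linter.unusedSectionVars false
set_option linter.unusedSimpArgs false
set_option linter.unusedVariables false
set_option maxHeartbeats 1000000

/-!
# Local balance for the minus type orthogonal groups: the criterion for a standard field
automorphism (helper17)
-/

namespace Cfsg.Agent.Helper17.OrthFA

open QuadraticMap Matrix Module Cfsg.Agent.Helper13 Cfsg.Agent.Helper17.OrthOut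
  Cfsg.Agent.Helper17.Spinor Cfsg.Agent.Helper17.ConfAut Cfsg.Agent.Helper17.OrthAut
  Cfsg.Agent.Helper2.Orth

section four

variable {F : Type*} [Field F] [Fintype F] {ι : Type} [Fintype ι] [DecidableEq ι]
  {Q : QuadraticForm F (ι → F)}

theorem Phi_mem_inn_of_mem_Omega' (o' : ↥(Cfsg.isometryGroup F (⇑Q)))
    (ho' : o' ∈ Cfsg.Omega F (⇑Q)) :
    Phi (⇑Q) (iO Q o') ∈ Cfsg.Inn (Cfsg.POmega F (⇑Q)) := by
  rw [inn_eq]
  refine ⟨iO Q o', Subgroup.mem_subgroupOf.2 ?_, rfl⟩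
  unfold Cfsg.Geo.omegaGL
  exact ⟨o', ho', rfl⟩

/-- fourth powers of automorphisms induced by similarities are inner -/
theorem Phi_pow_four_mem_inn (G : Good Q) (g : ↥(GO (⇑Q))) :
    Phi (⇑Q) g ^ 4 ∈ Cfsg.Inn (Cfsg.POmega F (⇑Q)) := by
  obtain ⟨c, hc⟩ := g.2
  have hc' : IsMult Q (g : GL ι F) c := hc
  obtain ⟨h, hh⟩ : ∃ h : GL ι F, h = scalarGL c⁻¹ * ((g : GL ι F) * (g : GL ι F)) := ⟨_, rfl⟩
  have hh1 : IsMult Q h 1 := by
    have h3 := (isMult_scalarGL (Q := Q) c⁻¹).mul (hc'.mul hc')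
    rw [← hh] at h3
    have e : ((c⁻¹ : Fˣ) : F) ^ 2 * ((c : F) * (c : F)) = 1 := by
      rw [Units.val_inv_eq_inv_val]
      have := c.ne_zero
      field_simp
    rwa [e] at h3
  have hiso : h ∈ Cfsg.isometryGroup F (⇑Q) :=
    (ConfAut.mem_isometryGroup_iff _ h).2 (fun v => by rw [hh1 v, one_mul])
  obtain ⟨vs, hvs, hprod⟩ := exists_prod_tG Q G.nondeg G.hex ⟨h, hiso⟩
  have hmem : ((⟨h, hiso⟩ : ↥(Cfsg.isometryGroup F (⇑Q))) * ⟨h, hiso⟩) ∈ Cfsg.Omega F (⇑Q) := by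
    rw [hprod, ← List.prod_append, ← List.map_append,
      prod_tG_mem_Omega_iff_all _ G.nondeg G.hex (vs ++ vs) (by
        intro v hv
        rcases List.mem_append.1 hv with h | h
        · exact hvs v h
        · exact hvs v h)]
    constructor
    · rw [List.length_append]
      exact Even.add_self _
    · rw [List.map_append, List.prod_append]
      exact IsSquare.mul_self _
  have h4 := Phi_mem_inn_of_mem_Omega' _ hmem
  have e1 : Phi (⇑Q) g ^ 4 = Phi (⇑Q) (iO Q ((⟨h, hiso⟩ : ↥(Cfsg.isometryGroup F (⇑Q))) *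
      ⟨h, hiso⟩)) := by
    have e2 : g ^ 4 = (⟨scalarGL c, scalarGL_mem_GO c⟩ : ↥(GO (⇑Q))) ^ 2 *
        iO Q ((⟨h, hiso⟩ : ↥(Cfsg.isometryGroup F (⇑Q))) * ⟨h, hiso⟩) := by
      apply Subtype.ext
      show (g : GL ι F) ^ 4 = (scalarGL c) ^ 2 * (h * h)
      rw [hh]
      apply Units.ext
      simp only [Units.val_pow_eq_pow_val, Units.val_mul, scalarGL_coe, Units.val_inv_eq_inv_val,
        pow_succ, pow_zero, one_mul, Matrix.smul_mul, Matrix.mul_smul, Matrix.one_mul, smul_smul,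
        Matrix.mul_assoc]
      have hc0 := c.ne_zero
      have e3 : (c : F)⁻¹ * (c : F)⁻¹ * ((c : F) * (c : F)) = 1 := by field_simp
      rw [e3, one_smul]
    rw [← map_pow, e2, map_mul, map_pow, Phi_of_scalar _ (scalarGL_mem c), one_pow, one_mul]
  rw [e1]
  exact h4

/-- an odd prime dividing the order of the image of the similarity group divides the order of
the simple group -/
theorem prime_dvd_card_of_dvd_PG (G : Good Q) {p : ℕ} (hp : p.Prime) (hp2 : p ≠ 2)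
    (hdvd : p ∣ Nat.card ↥(ConfAut.PG Q)) : p ∣ Nat.card (Cfsg.POmega F (⇑Q)) := by
  have hpf : Fact p.Prime := ⟨hp⟩
  obtain ⟨y, hy⟩ := exists_prime_orderOf_dvd_card' p hdvd
  obtain ⟨g, hg⟩ : ∃ g : ↥(GO (⇑Q)), Phi (⇑Q) g = (y : MulAut (Cfsg.POmega F (⇑Q))) := y.2
  have h4 := Phi_pow_four_mem_inn G g
  rw [hg] at h4
  have hyo : orderOf (y : MulAut (Cfsg.POmega F (⇑Q))) = p := by
    rw [Subgroup.orderOf_coe]
    exact hy
  have hcop : Nat.Coprime 4 p := by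
    have : Nat.Coprime 2 p := (Nat.coprime_primes Nat.prime_two hp).2 (Ne.symm hp2)
    exact Nat.Coprime.pow_left 2 this
  have hmem : (y : MulAut (Cfsg.POmega F (⇑Q))) ∈ Cfsg.Inn (Cfsg.POmega F (⇑Q)) := by
    obtain ⟨m, -, hm⟩ := Nat.exists_mul_mod_eq_one_of_coprime hcop hp.one_lt
    have e : ((y : MulAut (Cfsg.POmega F (⇑Q))) ^ 4) ^ m = y := by
      rw [← pow_mul, ← pow_mod_orderOf, hyo, hm, pow_one]
    rw [← e]
    exact Subgroup.pow_mem _ h4 m
  have h5 : p ∣ Nat.card ↥(Cfsg.Inn (Cfsg.POmega F (⇑Q))) := by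
    have := orderOf_dvd_natCard (⟨y, hmem⟩ : ↥(Cfsg.Inn (Cfsg.POmega F (⇑Q))))
    rwa [Subgroup.orderOf_mk, hyo] at this
  rwa [G.card_inn] at h5

end four

section aux

variable {F : Type*} [Field F] [Fintype F] {F₀ : Type*} [Field F₀] [Fintype F₀]

theorem minus_lb_aux (k : ℕ) (j : F₀ →+* F) (σ : F ≃+* F)
    (hfix : ∀ x, σ x = x → ∃ a, j a = x) (hjfix : ∀ a, σ (j a) = j a) (a₀ b₀ : F₀)
    (hab₀ : ∀ z₁ z₂ : F₀, z₁ ^ 2 + a₀ * z₁ * z₂ + b₀ * z₂ ^ 2 = 0 → z₁ = 0 ∧ z₂ = 0)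
    (M : Matrix ((Fin (k + 3) ⊕ Fin (k + 3)) ⊕ Fin 2) ((Fin (k + 3) ⊕ Fin (k + 3)) ⊕ Fin 2) F)
    (hM : (minusMat (k + 3) a₀ b₀).map j = M) (G : Good (matQ M)) {p : ℕ} (hp : p.Prime)
    (hp2 : p ≠ 2) (hord : orderOf σ = p)
    (h1 : Cfsg.IsSemisimilarityPair (⇑(matQ M))
      (1 : GL ((Fin (k + 3) ⊕ Fin (k + 3)) ⊕ Fin 2) F) σ)
    (A : Subgroup (MulAut (Cfsg.POmega F (⇑(matQ M)))))
    (hinn : Cfsg.Inn (Cfsg.POmega F (⇑(matQ M))) ≤ A) :
    HasCore p A (stdAut h1) ↔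
      Nat.Coprime p (Nat.card ↥(MonoidHom.eqLocus (stdAut h1).toMonoidHom
        (MonoidHom.id (Cfsg.POmega F (⇑(matQ M)))))) := by
  classical
  subst hM
  have G₀ := good_minus k a₀ b₀ hab₀
  obtain ⟨φ, hφ⟩ : ∃ φ : MulAut (Cfsg.POmega F (⇑(matQ ((minusMat (k + 3) a₀ b₀).map j)))),
      φ = stdAut h1 := ⟨_, rfl⟩
  rw [← hφ]
  have hZ := conj_injective_of_good G
  have hfinX : Finite (MulAut (Cfsg.POmega F (⇑(matQ ((minusMat (k + 3) a₀ b₀).map j))))) :=
    inferInstance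
  obtain ⟨L, hL⟩ : ∃ L : Subgroup (MulAut (Cfsg.POmega F
      (⇑(matQ ((minusMat (k + 3) a₀ b₀).map j))))),
      L = (fL j (minusMat (k + 3) a₀ b₀)).range := ⟨_, rfl⟩
  have hLsimple : IsSimpleGroup ↥L := by
    rw [hL]
    exact fL_range_simple j _ G G₀
  have hLinn : L ≤ Cfsg.Inn (Cfsg.POmega F (⇑(matQ ((minusMat (k + 3) a₀ b₀).map j)))) := by
    rw [hL]
    rintro _ ⟨s₀, rfl⟩
    exact fL_mem_inn j _ G G₀ s₀
  have hLcent : L ≤ Subgroup.centralizer {φ} := by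
    rw [hL]
    rintro _ ⟨s₀, rfl⟩
    rw [Subgroup.mem_centralizer_singleton_iff, hφ]
    exact fL_comm j _ hjfix h1 s₀
  have hcardL : Nat.card ↥L = Nat.card (Cfsg.POmega F₀ (⇑(matQ (minusMat (k + 3) a₀ b₀)))) := by
    rw [hL]
    exact card_fL_range j _ G G₀
  have hN₀ := inn_inf_centralizer hZ φ
  have hcardN₀ : Nat.card ↥(Cfsg.Inn (Cfsg.POmega F
      (⇑(matQ ((minusMat (k + 3) a₀ b₀).map j)))) ⊓
      Subgroup.centralizer {φ}) = Nat.card ↥(MonoidHom.eqLocus φ.toMonoidHom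
        (MonoidHom.id (Cfsg.POmega F (⇑(matQ ((minusMat (k + 3) a₀ b₀).map j)))))) := by
    rw [hN₀, Subgroup.card_map_of_injective hZ]
  constructor
  · rintro ⟨N, hNle, hne, hcop, hnorm⟩
    rw [hp.coprime_iff_not_dvd]
    intro hdvd
    apply hne
    have hpK₀ : p ∣ Nat.card (Cfsg.POmega F₀ (⇑(matQ (minusMat (k + 3) a₀ b₀)))) := by
      rw [← hcardN₀] at hdvd
      have hle : Cfsg.Inn (Cfsg.POmega F (⇑(matQ ((minusMat (k + 3) a₀ b₀).map j)))) ⊓
          Subgroup.centralizer {φ} ≤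
          ConfAut.PG (matQ ((minusMat (k + 3) a₀ b₀).map j)) ⊓ Subgroup.centralizer {φ} := by
        apply inf_le_inf_right
        rw [← G.ker_fieldHom]
        exact G.inn_le_ker
      have h3 := Subgroup.card_dvd_of_le hle
      have key := centralizer_equiv j (minusMat (k + 3) a₀ b₀) σ hjfix G G₀ hp.pos hord h1
        (GO (⇑(matQ (minusMat (k + 3) a₀ b₀))))
        (GO (⇑(matQ ((minusMat (k + 3) a₀ b₀).map j))))
        le_rfl le_rfl (fun a => scalarGL_mem_GO a) (hup_GO j _)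
        (hdown_GO j _ σ hfix G₀.exists_Q_ne_zero)
      rw [Subgroup.subgroupOf_self, Subgroup.subgroupOf_self, ← MonoidHom.range_eq_map,
        ← MonoidHom.range_eq_map] at key
      obtain ⟨e⟩ := key
      rw [hφ, Nat.card_congr e.toEquiv] at h3
      rw [hφ] at hdvd
      exact prime_dvd_card_of_dvd_PG G₀ hp hp2 (hdvd.trans h3)
    have hφp : φ ^ p = 1 := by
      rw [hφ]
      exact stdAut_one_pow_orderOf h1 hord
    have hNC : ∀ n ∈ N, n * stdAut h1 = stdAut h1 * n := by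
      intro n hn
      have h3 := hNle hn
      rw [Subgroup.mem_inf, Subgroup.mem_centralizer_singleton_iff, hφ] at h3
      exact h3.2
    apply core_abstract hp φ hφp L N hLsimple (by rw [hcardL]; exact hpK₀)
    · intro l hl n hn
      apply hnorm l _ n hn
      rw [Subgroup.mem_inf]
      exact ⟨hinn (hLinn hl), hLcent hl⟩
    · intro n hn l hl
      obtain ⟨τ, τ₀, g₀, hτ, h₀, h, rfl⟩ :=
        cent_decomp_gen j _ G G₀ σ hfix hjfix h1 hp.pos hord n (hNC n hn)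
      rw [hL] at hl ⊢
      obtain ⟨s₀, rfl⟩ := hl
      rw [conj_fL_gen j _ τ τ₀ hτ h h₀ s₀]
      exact ⟨_, rfl⟩
    · intro n hn hnl
      rw [hφ]
      apply mem_zpowers_of_cent_gen j _ G G₀ σ hfix hjfix h1 hp.pos hord n (hNC n hn)
      intro s₀
      apply hnl
      rw [hL]
      exact ⟨s₀, rfl⟩
    · exact hcop
  · intro hcop
    refine ⟨Cfsg.Inn (Cfsg.POmega F (⇑(matQ ((minusMat (k + 3) a₀ b₀).map j)))) ⊓
      Subgroup.centralizer {φ}, ?_, ?_, ?_, ?_⟩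
    · exact inf_le_inf_right _ hinn
    · intro hbot
      have hLbot : L = ⊥ := by
        rw [eq_bot_iff, ← hbot]
        exact le_inf hLinn hLcent
      exact (Subgroup.nontrivial_iff_ne_bot L).1 hLsimple.toNontrivial hLbot
    · rw [hcardN₀]
      exact hcop.symm
    · intro h hh n hn
      rw [Subgroup.mem_inf] at hh hn ⊢
      refine ⟨(inn_normal _).conj_mem n hn.1 h, ?_⟩
      exact Subgroup.mul_mem _ (Subgroup.mul_mem _ hh.2 hn.2) (Subgroup.inv_mem _ hh.2)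

end aux

end Cfsg.Agent.Helper17.OrthFA
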