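import Mathlib
import Cfsg.Agent.Lib.Helper17.OrthFA67

set_option autoImplicit false
set_option linter.unusedSectionVars false
set_option linter.unusedSimpArgs false
set_option linter.unusedVariables false
set_option maxHeartbeats 1000000

/-!
# Local balance for the minus type orthogonal groups: automorphisms with a field part of odd
prime order (helper17)
-/

namespace Cfsg.Agent.Helper17.OrthFA

open QuadraticMap Matrix Module Cfsg.Agent.Helper13 Cfsg.Agent.Helper17.OrthOut
  Cfsg.Agent.Helper17.Spinor Cfsg.Agent.Helper17.ConfAut Cfsg.Agent.Helper17.OrthAut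
  Cfsg.Agent.Helper2.Orth

section transport

variable {F : Type*} [Field F] [Fintype F] {ι ι' : Type} [Fintype ι] [DecidableEq ι] [Fintype ι']
  [DecidableEq ι'] {Q : QuadraticForm F (ι → F)} {Q' : QuadraticForm F (ι' → F)}
  (T : Matrix ι' ι F) (Ti : Matrix ι ι' F) (e1 : T * Ti = 1) (e2 : Ti * T = 1)
  (hT : ∀ v, Q' (T *ᵥ v) = Q v)

include e1 e2 hT in
/-- the transport of a standard automorphism is a standard automorphism with the same field
automorphism -/
theorem exists_congr_rT_stdAut {g : GL ι F} {σ : F ≃+* F}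
    (h : Cfsg.IsSemisimilarityPair (⇑Q) g σ) :
    ∃ (g' : GL ι' F) (h' : Cfsg.IsSemisimilarityPair (⇑Q') g' σ),
      MulAut.congr (rT T Ti e1 e2 hT) (stdAut h) = stdAut h' := by
  have hσ1 : T.map σ * Ti.map σ = 1 := by
    rw [← Matrix.map_mul, e1]
    ext a b
    simp [Matrix.one_apply, apply_ite]
  have hσ2 : Ti.map σ * T.map σ = 1 := by
    rw [← Matrix.map_mul, e2]
    ext a b
    simp [Matrix.one_apply, apply_ite]
  obtain ⟨g', hg'⟩ : ∃ g' : GL ι' F, (g' : Matrix ι' ι' F) = T * (g : Matrix ι ι F) * Ti.map σ :=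
    ⟨⟨T * (g : Matrix ι ι F) * Ti.map σ, T.map σ * ((g⁻¹ : GL ι F) : Matrix ι ι F) * Ti, by
      calc T * (g : Matrix ι ι F) * Ti.map σ * (T.map σ * ((g⁻¹ : GL ι F) : Matrix ι ι F) * Ti)
          = T * ((g : Matrix ι ι F) * (Ti.map σ * T.map σ) * ((g⁻¹ : GL ι F) : Matrix ι ι F)) *
              Ti := by simp only [Matrix.mul_assoc]
        _ = 1 := by
          rw [hσ2, Matrix.mul_one, ← Units.val_mul, mul_inv_cancel, Units.val_one, Matrix.mul_one,
            e1], by
      calc T.map σ * ((g⁻¹ : GL ι F) : Matrix ι ι F) * Ti * (T * (g : Matrix ι ι F) * Ti.map σ)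
          = T.map σ * (((g⁻¹ : GL ι F) : Matrix ι ι F) * (Ti * T) * (g : Matrix ι ι F)) *
              Ti.map σ := by simp only [Matrix.mul_assoc]
        _ = 1 := by
          rw [e2, Matrix.mul_one, ← Units.val_mul, inv_mul_cancel, Units.val_one, Matrix.mul_one,
            hσ1]⟩, rfl⟩
  obtain ⟨c, hc⟩ := h
  have h' : Cfsg.IsSemisimilarityPair (⇑Q') g' σ := by
    refine ⟨c, fun v => ?_⟩
    have e3 : Ti.map σ *ᵥ (fun i => σ (v i)) = fun i => σ ((Ti *ᵥ v) i) := by
      ext i
      exact (RingHom.map_mulVec (σ : F →+* F) Ti v i).symm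
    rw [hg', ← Matrix.mulVec_mulVec, ← Matrix.mulVec_mulVec, hT, e3, hc,
      hTi T Ti e1 hT]
  exact ⟨g', h', congr_rT_stdAut T Ti e1 e2 hT ⟨c, hc⟩ h' hg'⟩

end transport

section aniso

variable {F : Type*} [Field F] [Fintype F]

/-- a binary form with coefficients fixed by an automorphism of odd order which is anisotropic
over the fixed field and stays anisotropic -/
theorem exists_fixed_aniso (σ : F ≃+* F) {r : ℕ} (hr : Odd r) (hσr : (σ : RingAut F) ^ r = 1) :
    ∃ ζ : F, σ ζ = ζ ∧ ∀ t : F, t ^ 2 + t + ζ ≠ 0 := by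
  classical
  have hfin : Finite ↥(FAut.fixedField σ) := inferInstance
  obtain ⟨f, hf⟩ : ∃ f : ↥(FAut.fixedField σ) → ↥(FAut.fixedField σ), f = fun t => t ^ 2 + t :=
    ⟨_, rfl⟩
  have hninj : ¬ Function.Injective f := by
    intro hinj
    have h1 : f 0 = f (-1) := by
      rw [hf]
      ring
    have := hinj h1
    have h2 : (1 : ↥(FAut.fixedField σ)) = 0 := by linear_combination this
    exact one_ne_zero h2
  have hnsurj : ¬ Function.Surjective f := fun hs => hninj (Finite.injective_iff_surjective.2 hs)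
  obtain ⟨ζ', hζ'⟩ : ∃ ζ' : ↥(FAut.fixedField σ), ∀ t, f t ≠ ζ' := by
    by_contra hcon
    push Not at hcon
    exact hnsurj hcon
  refine ⟨-(ζ' : F), ?_, ?_⟩
  · rw [map_neg]
    congr 1
    exact (FAut.mem_fixedField σ _).1 ζ'.2
  · intro t ht
    have hroot : ∀ s : F, s ^ 2 + s + -(ζ' : F) = 0 → σ s = s → False := by
      intro s hs hσs
      have hsmem : s ∈ FAut.fixedField σ := (FAut.mem_fixedField σ s).2 hσs
      apply hζ' ⟨s, hsmem⟩
      rw [hf]
      apply Subtype.ext
      show s ^ 2 + s = (ζ' : F)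
      linear_combination hs
    have hσt : (σ t) ^ 2 + σ t + -(ζ' : F) = 0 := by
      have h1 := congrArg σ ht
      have h2 : σ (ζ' : F) = (ζ' : F) := (FAut.mem_fixedField σ _).1 ζ'.2
      rw [map_add, map_add, map_pow, map_neg, h2, map_zero] at h1
      exact h1
    have hprod : (σ t - t) * (σ t + t + 1) = 0 := by linear_combination hσt - ht
    rcases mul_eq_zero.1 hprod with h3 | h3
    · exact hroot t ht (sub_eq_zero.1 h3)
    · have h4 : σ t = -1 - t := by linear_combination h3
      have h5 : σ (σ t) = t := by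
        rw [h4, map_sub, map_neg, map_one, h4]
        ring
      obtain ⟨k, hk⟩ := hr
      have h6 : ∀ n : ℕ, ((σ : RingAut F) ^ (2 * n)) t = t := by
        intro n
        induction n with
        | zero => rfl
        | succ n ih =>
          have : 2 * (n + 1) = 2 * n + 2 := by ring
          rw [this, pow_add]
          show ((σ : RingAut F) ^ (2 * n)) (((σ : RingAut F) ^ 2) t) = t
          have h7 : ((σ : RingAut F) ^ 2) t = t := by
            rw [pow_two]
            exact h5
          rw [h7, ih]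
      have h8 : σ t = t := by
        have h9 : (σ : RingAut F) = (σ : RingAut F) ^ (2 * (k + 1)) := by
          have : 2 * (k + 1) = r + 1 := by omega
          rw [this, pow_succ, hσr, one_mul]
        calc σ t = ((σ : RingAut F) ^ (2 * (k + 1))) t := by rw [← h9]
          _ = t := h6 (k + 1)
      exact hroot t ht h8

end aniso

end Cfsg.Agent.Helper17.OrthFA
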