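import Mathlib
import Cfsg.Agent.Lib.Helper17.OrthFA68

set_option autoImplicit false
set_option linter.unusedSectionVars false
set_option linter.unusedSimpArgs false
set_option linter.unusedVariables false
set_option maxHeartbeats 1000000

/-!
# Local balance for the minus type orthogonal groups: automorphisms with a field part of odd
prime order, the theorem (helper17)
-/

namespace Cfsg.Agent.Helper17.OrthFA

open QuadraticMap Matrix Module Cfsg.Agent.Helper13 Cfsg.Agent.Helper17.OrthOut
  Cfsg.Agent.Helper17.Spinor Cfsg.Agent.Helper17.ConfAut Cfsg.Agent.Helper17.OrthAut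
  Cfsg.Agent.Helper2.Orth

universe u

section general

variable {X Y : Type*} [Group X] [Group Y]

theorem hasCore_congr {G G' : Type*} [Group G] [Group G'] (e : G ≃* G') {p : ℕ}
    {A : Subgroup G} {x : G} (h : HasCore p A x) :
    HasCore p (A.map e.toMonoidHom) (e x) := by
  obtain ⟨N, hNle, hne, hcop, hnorm⟩ := h
  refine ⟨N.map e.toMonoidHom, ?_, ?_, ?_, ?_⟩
  · rintro _ ⟨n, hn, rfl⟩
    have h1 := hNle hn
    rw [Subgroup.mem_inf, Subgroup.mem_centralizer_singleton_iff] at h1
    rw [Subgroup.mem_inf, Subgroup.mem_centralizer_singleton_iff]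
    refine ⟨⟨n, h1.1, rfl⟩, ?_⟩
    show e n * e x = e x * e n
    rw [← map_mul, ← map_mul, h1.2]
  · rw [Ne, Subgroup.map_eq_bot_iff_of_injective _ e.injective]
    exact hne
  · rw [Subgroup.card_map_of_injective e.injective]
    exact hcop
  · rintro h' hh' _ ⟨n, hn, rfl⟩
    rw [Subgroup.mem_inf, Subgroup.mem_centralizer_singleton_iff] at hh'
    obtain ⟨⟨h, hhA, rfl⟩, hcomm⟩ := hh'
    have hcomm' : h * x = x * h := by
      apply e.injective
      rw [map_mul, map_mul]
      exact hcomm
    have hmem : h ∈ A ⊓ Subgroup.centralizer {x} := by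
      rw [Subgroup.mem_inf, Subgroup.mem_centralizer_singleton_iff]
      exact ⟨hhA, hcomm'⟩
    refine ⟨h * n * h⁻¹, hnorm h hmem n hn, ?_⟩
    show e (h * n * h⁻¹) = e h * e n * (e h)⁻¹
    rw [map_mul, map_mul, map_inv]

theorem hasCore_congr_iff {G G' : Type*} [Group G] [Group G'] (e : G ≃* G') {p : ℕ}
    {A : Subgroup G} {x : G} :
    HasCore p A x ↔ HasCore p (A.map e.toMonoidHom) (e x) := by
  constructor
  · exact hasCore_congr e
  · intro h
    have h3 := hasCore_congr e.symm h
    have h4 : (A.map e.toMonoidHom).map e.symm.toMonoidHom = A := by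
      rw [Subgroup.map_map]
      have h5 : e.symm.toMonoidHom.comp e.toMonoidHom = MonoidHom.id _ := by
        ext y
        simp
      rw [h5, Subgroup.map_id]
    rwa [h4, MulEquiv.symm_apply_apply] at h3

/-- the fixed points of a transported automorphism -/
theorem card_eqLocus_congr (ψ : X ≃* Y) (x : MulAut X) :
    Nat.card ↥(MonoidHom.eqLocus (MulAut.congr ψ x).toMonoidHom (MonoidHom.id Y)) =
      Nat.card ↥(MonoidHom.eqLocus x.toMonoidHom (MonoidHom.id X)) := by
  have h1 : MonoidHom.eqLocus (MulAut.congr ψ x).toMonoidHom (MonoidHom.id Y) =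
      (MonoidHom.eqLocus x.toMonoidHom (MonoidHom.id X)).map ψ.toMonoidHom := by
    ext k
    constructor
    · intro hk
      have hk' : ψ (x (ψ.symm k)) = k := hk
      refine ⟨ψ.symm k, ?_, ψ.apply_symm_apply k⟩
      change x (ψ.symm k) = ψ.symm k
      apply ψ.injective
      rw [hk', ψ.apply_symm_apply]
    · rintro ⟨k₀, hk₀, rfl⟩
      have hk₀' : x k₀ = k₀ := hk₀
      change ψ (x (ψ.symm (ψ k₀))) = ψ k₀
      rw [ψ.symm_apply_apply, hk₀']
  rw [h1, Subgroup.card_map_of_injective ψ.injective]

theorem congr_trans_aut (ψ : X ≃* Y) (c : MulAut Y) (x : MulAut X) :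
    MulAut.congr (ψ.trans c) x = c * MulAut.congr ψ x * c⁻¹ := by
  ext z
  simp [MulAut.congr, MulEquiv.trans_apply, MulAut.mul_apply]

end general

end Cfsg.Agent.Helper17.OrthFA
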