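import Mathlib
import Cfsg.Agent.Lib.Helper17.OrthFA69

set_option autoImplicit false
set_option linter.unusedSectionVars false
set_option linter.unusedSimpArgs false
set_option linter.unusedVariables false
set_option maxHeartbeats 1000000

/-!
# Local balance for the minus type orthogonal groups: automorphisms with a field part of odd
prime order, the theorem (helper17)
-/

namespace Cfsg.Agent.Helper17.OrthFA

open QuadraticMap Matrix Module Cfsg.Agent.Helper13 Cfsg.Agent.Helper17.OrthOut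
  Cfsg.Agent.Helper17.Spinor Cfsg.Agent.Helper17.ConfAut Cfsg.Agent.Helper17.OrthAut
  Cfsg.Agent.Helper2.Orth

universe u

theorem minus_lb_field {F : Type u} [Field F] [Fintype F] (k : ℕ) (a b : F)
    (hab : ∀ z₁ z₂ : F, z₁ ^ 2 + a * z₁ * z₂ + b * z₂ ^ 2 = 0 → z₁ = 0 ∧ z₂ = 0)
    (A : Subgroup (MulAut (Cfsg.POmega F (⇑(minusQ (k + 3) a b)))))
    (hinn : ∀ k' : Cfsg.POmega F (⇑(minusQ (k + 3) a b)), MulAut.conj k' ∈ A) {p : ℕ}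
    (hp : p.Prime) (hp2 : p ≠ 2)
    (x : MulAut (Cfsg.POmega F (⇑(minusQ (k + 3) a b)))) (hord : orderOf x = p)
    (σ : F ≃+* F) (hσ : σ = (good_minus k a b hab).fieldHom x) (hσ1 : σ ≠ RingEquiv.refl F) :
    (∃ (a' b' : F) (ψ : Cfsg.POmega F (⇑(minusQ (k + 3) a b)) ≃*
        Cfsg.POmega F (⇑(minusQ (k + 3) a' b'))),
      (∀ z₁ z₂ : F, z₁ ^ 2 + a' * z₁ * z₂ + b' * z₂ ^ 2 = 0 → z₁ = 0 ∧ z₂ = 0) ∧
      σ a' = a' ∧ σ b' = b' ∧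
      Cfsg.IsFieldAutPOmegaOf (⇑(minusQ (k + 3) a' b')) σ ((ψ.symm.trans x).trans ψ)) ∧
    (HasCore p A x ↔ Nat.Coprime p (Nat.card ↥(MonoidHom.eqLocus x.toMonoidHom
      (MonoidHom.id (Cfsg.POmega F (⇑(minusQ (k + 3) a b))))))) := by
  classical
  have G := good_minus k a b hab
  have hσp : orderOf σ = p := by
    have h3 : orderOf σ ∣ p := by
      rw [hσ, ← hord]
      exact orderOf_map_dvd _ _
    rcases (Nat.dvd_prime hp).1 h3 with h4 | h4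
    · exact absurd (orderOf_eq_one_iff.1 h4) hσ1
    · exact h4
  have hσr : (σ : RingAut F) ^ p = 1 := by
    rw [← hσp]
    exact pow_orderOf_eq_one (σ : RingAut F)
  have hpodd : Odd p := hp.odd_of_ne_two hp2
  obtain ⟨ζ, hσζ, hζ⟩ := exists_fixed_aniso σ hpodd hσr
  have hab' := aniso_one_zeta ζ hζ
  have G' := good_minus k 1 ζ hab'
  obtain ⟨M₂, hM₂⟩ := exists_bin_iso 1 ζ a b hab' hab
  obtain ⟨T, hT⟩ : ∃ T : GL ((Fin (k + 3) ⊕ Fin (k + 3)) ⊕ Fin 2) F,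
      ∀ v, minusQ (k + 3) 1 ζ ((T : Matrix _ _ F).mulVec v) = minusQ (k + 3) a b v :=
    ⟨blockGL (k + 3) 1 M₂, fun v => minusQ_blockGL (k + 3) 1 ζ a b M₂ hM₂ v⟩
  have e1 : (T : Matrix ((Fin (k + 3) ⊕ Fin (k + 3)) ⊕ Fin 2)
      ((Fin (k + 3) ⊕ Fin (k + 3)) ⊕ Fin 2) F) *
      ((T⁻¹ : GL ((Fin (k + 3) ⊕ Fin (k + 3)) ⊕ Fin 2) F) :
      Matrix ((Fin (k + 3) ⊕ Fin (k + 3)) ⊕ Fin 2) ((Fin (k + 3) ⊕ Fin (k + 3)) ⊕ Fin 2) F) = 1 := by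
    rw [← Units.val_mul, mul_inv_cancel, Units.val_one]
  have e2 : ((T⁻¹ : GL ((Fin (k + 3) ⊕ Fin (k + 3)) ⊕ Fin 2) F) :
      Matrix ((Fin (k + 3) ⊕ Fin (k + 3)) ⊕ Fin 2) ((Fin (k + 3) ⊕ Fin (k + 3)) ⊕ Fin 2) F) *
      (T : Matrix ((Fin (k + 3) ⊕ Fin (k + 3)) ⊕ Fin 2)
      ((Fin (k + 3) ⊕ Fin (k + 3)) ⊕ Fin 2) F) = 1 := by
    rw [← Units.val_mul, inv_mul_cancel, Units.val_one]
  obtain ⟨ψ₀, hψ₀⟩ : ∃ ψ₀ : Cfsg.POmega F (⇑(minusQ (k + 3) a b)) ≃*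
      Cfsg.POmega F (⇑(minusQ (k + 3) 1 ζ)), ψ₀ = rT _ _ e1 e2 hT := ⟨_, rfl⟩
  obtain ⟨g, σ', hg, hx⟩ := G.exists_stdAut x
  have hσ' : σ' = σ := by
    rw [hσ, hx]
    exact (G.fieldHom_stdAut hg).symm
  subst hσ'
  obtain ⟨g', h', e⟩ := exists_congr_rT_stdAut _ _ e1 e2 hT hg
  rw [← hψ₀, ← hx] at e
  have hM' : (minusMat (k + 3) 1 ζ).map σ' = minusMat (k + 3) 1 ζ :=
    minusMat_map_sigma (k + 3) σ' 1 ζ (map_one σ') hσζ
  have h1' : Cfsg.IsSemisimilarityPair (⇑(minusQ (k + 3) 1 ζ))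
      (1 : GL ((Fin (k + 3) ⊕ Fin (k + 3)) ⊕ Fin 2) F) σ' := isSemisim_fixed hM'
  have hS : SigHypQ (minusMat (k + 3) 1 ζ) σ' p :=
    ⟨hp.pos, hσp, hdesc_minus (k + 3) σ' 1 ζ hab' (map_one σ') hσζ⟩
  have hpow : (stdAut h') ^ p = 1 := by
    rw [← e, ← map_pow, ← hord, pow_orderOf_eq_one, map_one]
  obtain ⟨y, hy, hconj⟩ := exists_conj_std G' hS h1' h' hpow
  obtain ⟨ψ, hψ⟩ : ∃ ψ : Cfsg.POmega F (⇑(minusQ (k + 3) a b)) ≃*
      Cfsg.POmega F (⇑(minusQ (k + 3) 1 ζ)), ψ = ψ₀.trans (stdAut hy)⁻¹ := ⟨_, rfl⟩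
  have hΨx : MulAut.congr ψ x = stdAut h1' := by
    rw [hψ, congr_trans_aut, e, hconj]
    group
  refine ⟨⟨1, ζ, ψ, hab', map_one σ', hσζ, ?_⟩, ?_⟩
  · have h3 : (ψ.symm.trans x).trans ψ = MulAut.congr ψ x := rfl
    rw [h3, hΨx]
    exact stdAut_isFieldAut h1'
  · have hfinF₀ : Fintype ↥(FAut.fixedField σ') := Fintype.ofFinite _
    obtain ⟨b₀, hb₀⟩ : ∃ b₀ : ↥(FAut.fixedField σ'), (b₀ : F) = ζ :=
      ⟨⟨ζ, (FAut.mem_fixedField σ' _).2 hσζ⟩, rfl⟩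
    have hab₀ : ∀ z₁ z₂ : ↥(FAut.fixedField σ'), z₁ ^ 2 + 1 * z₁ * z₂ + b₀ * z₂ ^ 2 = 0 →
        z₁ = 0 ∧ z₂ = 0 := by
      intro z₁ z₂ h
      have h1 := congrArg (FAut.fixedField σ').subtype h
      simp only [map_add, map_mul, map_pow, map_zero, map_one] at h1
      have h2 := hab' (z₁ : F) (z₂ : F) (by
        rw [← hb₀]
        exact h1)
      exact ⟨Subtype.ext h2.1, Subtype.ext h2.2⟩
    have hMmap : (minusMat (k + 3) (1 : ↥(FAut.fixedField σ')) b₀).map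
        (FAut.fixedField σ').subtype = minusMat (k + 3) 1 ζ := by
      rw [minusMat_map, map_one]
      congr 1
    have hinnA' : Cfsg.Inn (Cfsg.POmega F (⇑(matQ (minusMat (k + 3) 1 ζ)))) ≤
        A.map (MulAut.congr ψ).toMonoidHom := by
      rintro _ ⟨k', rfl⟩
      refine ⟨MulAut.conj (ψ.symm k'), hinn _, ?_⟩
      show MulAut.congr ψ (MulAut.conj (ψ.symm k')) = MulAut.conj k'
      ext z
      simp [MulAut.congr, MulAut.conj_apply]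
    have key := minus_lb_aux k (FAut.fixedField σ').subtype σ'
      (fun y hy => ⟨⟨y, (FAut.mem_fixedField σ' y).2 hy⟩, rfl⟩)
      (fun a' => (FAut.mem_fixedField σ' a'.1).1 a'.2) 1 b₀ hab₀ (minusMat (k + 3) 1 ζ) hMmap G' hp
      hp2 hσp h1' (A.map (MulAut.congr ψ).toMonoidHom) hinnA'
    rw [hasCore_congr_iff (MulAut.congr ψ), hΨx, key, ← hΨx, card_eqLocus_congr]

end Cfsg.Agent.Helper17.OrthFA
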