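import Mathlib
import Cfsg.Agent.Lib.Helper17.OrthFA70
import Cfsg.Agent.Lib.Helper2.Pgeo11
import Cfsg.Agent.Lib.Helper2.Plb7

set_option autoImplicit false
set_option linter.unusedSectionVars false
set_option linter.unusedSimpArgs false
set_option linter.unusedVariables false

/-!
# Similarities of order two modulo scalars: the concrete side, part 1 (helper17)

The bridge between invertible matrices and linear equivalences, the polar form as a form in the
sense of the polar geometry library, and unipotent isometries as elements of `Ω`.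
-/

namespace Cfsg.Agent.Helper17.GInvC

open QuadraticMap Matrix Cfsg.Agent.Helper17.OrthOut Cfsg.Agent.Helper17.ConfAut
  Cfsg.Agent.Helper17.Spinor Cfsg.Agent.Helper17.OrthFA Cfsg.Agent.Helper17.OrthAut

variable {F : Type*} [Field F] {ι : Type} [Fintype ι] [DecidableEq ι]
  {Q : QuadraticForm F (ι → F)}

/-- invertible matrices as linear equivalences -/
noncomputable def glE : GL ι F ≃* ((ι → F) ≃ₗ[F] (ι → F)) :=
  Matrix.GeneralLinearGroup.toLin.trans
    (LinearMap.GeneralLinearGroup.generalLinearEquiv F (ι → F))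

theorem glE_apply (h : GL ι F) (v : ι → F) : glE h v = (h : Matrix ι ι F) *ᵥ v := rfl

theorem glE_symm_mulVec (k : (ι → F) ≃ₗ[F] (ι → F)) (v : ι → F) :
    ((glE.symm k : GL ι F) : Matrix ι ι F) *ᵥ v = k v := by
  rw [← glE_apply, MulEquiv.apply_symm_apply]

/-- the polar form is a symmetric form in the sense of the polar geometry library -/
theorem isEps_polar (h2 : (2 : F) ≠ 0) (hQ : (polarBilin Q).Nondegenerate) :
    Cfsg.Agent.Helper2.PGeo.IsEpsForm (polarBilin Q) 1 := by
  refine ⟨h2, fun a => rfl, Or.inl rfl, ?_, ?_⟩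
  · intro x y
    rw [one_mul, RingHom.id_apply, polarBilin_apply_apply, polarBilin_apply_apply, polar_comm]
  · intro x hx
    exact hQ.1 x hx

theorem polar_mulVec_of_mult {g : Matrix ι ι F} {μ : F} (h : ∀ v, Q (g *ᵥ v) = μ * Q v)
    (u v : ι → F) : polarBilin Q (g *ᵥ u) (g *ᵥ v) = μ * polarBilin Q u v := by
  rw [polarBilin_apply_apply, polarBilin_apply_apply, polar, polar, ← Matrix.mulVec_add, h, h, h]
  ring

theorem Q_of_polar (h2 : (2 : F) ≠ 0) (k : (ι → F) → (ι → F))
    (h : ∀ u v, polarBilin Q (k u) (k v) = polarBilin Q u v) (v : ι → F) : Q (k v) = Q v := by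
  have h1 := h v v
  rw [polarBilin_apply_apply, polarBilin_apply_apply, polar_self, polar_self, two_smul,
    two_smul, ← two_mul, ← two_mul] at h1
  exact mul_left_cancel₀ h2 h1

theorem finrank_fun : Module.finrank F (ι → F) = Fintype.card ι :=
  Module.finrank_fintype_fun_eq_card F

end Cfsg.Agent.Helper17.GInvC
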