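import Mathlib
import Cfsg.Agent.Lib.Helper17.GInvC1

set_option autoImplicit false
set_option linter.unusedSectionVars false
set_option linter.unusedSimpArgs false
set_option linter.unusedVariables false
set_option maxHeartbeats 1000000

/-!
# Similarities of order two modulo scalars: the concrete side, part 2 (helper17)

The first hypothesis of the criterion for the triviality of the odd core: subgroups of odd order
of the inner automorphisms from the fixed points, normalised by the centralizer.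
-/

namespace Cfsg.Agent.Helper17.GInvC

open QuadraticMap Matrix Cfsg.Agent.Helper17.OrthOut Cfsg.Agent.Helper17.ConfAut
  Cfsg.Agent.Helper17.Spinor Cfsg.Agent.Helper17.OrthFA Cfsg.Agent.Helper17.OrthAut

variable {F : Type*} [Field F] [Fintype F] {ι : Type} [Fintype ι] [DecidableEq ι]
  {Q : QuadraticForm F (ι → F)}

/-- the matrix of a similarity -/
def cm (m : ↥(GO (⇑Q))) : Matrix ι ι F := ((m : GL ι F) : Matrix ι ι F)

theorem cm_mul (a b : ↥(GO (⇑Q))) : cm (a * b) = cm a * cm b := rfl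

theorem cm_one : cm (1 : ↥(GO (⇑Q))) = 1 := rfl

theorem cm_isUnit (a : ↥(GO (⇑Q))) : IsUnit (cm a) := GL_isUnit _

theorem cm_inv_mul (a : ↥(GO (⇑Q))) : cm a⁻¹ * cm a = 1 := by
  rw [← cm_mul, inv_mul_cancel, cm_one]

theorem cm_mul_inv (a : ↥(GO (⇑Q))) : cm a * cm a⁻¹ = 1 := by
  rw [← cm_mul, mul_inv_cancel, cm_one]

theorem cm_injective : Function.Injective (cm : ↥(GO (⇑Q)) → Matrix ι ι F) := by
  intro a b h
  apply Subtype.ext
  apply Units.ext
  exact h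

theorem cm_pow (a : ↥(GO (⇑Q))) (n : ℕ) : cm (a ^ n) = cm a ^ n := by
  induction n with
  | zero => rw [pow_zero, pow_zero, cm_one]
  | succ n ih => rw [pow_succ, pow_succ, cm_mul, ih]

/-- similarities with the same automorphism differ by a scalar -/
theorem scalar_of_Phi_eq (G : Good Q) (s t : ↥(GO (⇑Q))) (h : Phi (⇑Q) s = Phi (⇑Q) t) :
    ∃ z : F, cm s = z • cm t := by
  have h1 : Phi (⇑Q) (t⁻¹ * s) = 1 := by
    rw [map_mul, map_inv, h, inv_mul_cancel]
  obtain ⟨a, ha⟩ := (Phi_eq_one_iff_good G _).1 h1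
  refine ⟨a, ?_⟩
  have h2 : cm s = cm t * cm (t⁻¹ * s) := by
    rw [← cm_mul, mul_inv_cancel_left]
  rw [h2]
  have : cm (t⁻¹ * s) = a • 1 := ha
  rw [this, Matrix.mul_smul, Matrix.mul_one]

theorem Phi_eq_of_smul (G : Good Q) (s t : ↥(GO (⇑Q))) (z : F) (h : cm s = z • cm t) :
    Phi (⇑Q) s = Phi (⇑Q) t := by
  have h1 : Phi (⇑Q) (t⁻¹ * s) = 1 := by
    rw [Phi_eq_one_iff_good G]
    refine ⟨z, ?_⟩
    show cm (t⁻¹ * s) = z • 1
    rw [cm_mul, h, Matrix.mul_smul, cm_inv_mul]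
  rw [map_mul, map_inv, inv_mul_eq_one] at h1
  exact h1.symm

/-- a similarity whose automorphism commutes with that of `g`, where `g² = c`, commutes with `g`
up to a sign -/
theorem sign_of_Phi_comm [Nonempty ι] (G : Good Q) (g m : ↥(GO (⇑Q))) (c : F) (hc : c ≠ 0)
    (hg2 : cm g * cm g = c • 1)
    (h : Phi (⇑Q) m * Phi (⇑Q) g = Phi (⇑Q) g * Phi (⇑Q) m) :
    ∃ z : F, z * z = 1 ∧ cm m * cm g = z • (cm g * cm m) := by
  obtain ⟨z, hz⟩ := scalar_of_Phi_eq G (m * g) (g * m) (by rw [map_mul, map_mul, h])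
  rw [cm_mul, cm_mul] at hz
  refine ⟨z, ?_, hz⟩
  have e1 : cm m * cm g * cm g = c • cm m := by
    rw [Matrix.mul_assoc, hg2, Matrix.mul_smul, Matrix.mul_one]
  have e2 : cm m * cm g * cm g = (z * z * c) • cm m := by
    rw [hz, Matrix.smul_mul, Matrix.mul_assoc, hz, Matrix.mul_smul, ← Matrix.mul_assoc, hg2,
      Matrix.smul_mul, Matrix.one_mul, smul_smul, smul_smul]
  rw [e1] at e2
  have e3 := smul_cancel_of_unit (cm_isUnit m) e2
  have e4 : (1 : F) * c = z * z * c := by rw [one_mul]; exact e3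
  exact (mul_right_cancel₀ hc e4).symm

theorem sq_comm_of_sign (g m : ↥(GO (⇑Q))) (z : F) (hz : z * z = 1)
    (h : cm m * cm g = z • (cm g * cm m)) : (m * m) * g = g * (m * m) := by
  apply cm_injective
  rw [cm_mul, cm_mul, cm_mul, cm_mul, Matrix.mul_assoc, h, Matrix.mul_smul, ← Matrix.mul_assoc,
    h, Matrix.smul_mul, smul_smul, hz, one_smul, Matrix.mul_assoc]

/-- **the first hypothesis of the criterion** -/
theorem H1_conc [Nonempty ι] (G : Good Q) (h2 : (2 : F) ≠ 0) (g : ↥(GO (⇑Q)))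
    (hx2 : orderOf (Phi (⇑Q) g) = 2) (c : F) (hc : c ≠ 0) (hg2 : cm g * cm g = c • 1)
    (absH1 : ∀ M : Subgroup ((ι → F) ≃ₗ[F] (ι → F)),
      M ≤ Cfsg.Agent.Helper2.PGeo.sim (polarBilin Q) →
      (∀ f ∈ M, ∀ v, f (cm g *ᵥ v) = cm g *ᵥ (f v)) →
      (∀ k : (ι → F) ≃ₗ[F] (ι → F), (∀ u v, polarBilin Q (k u) (k v) = polarBilin Q u v) →
        (∀ v, k (cm g *ᵥ v) = cm g *ᵥ (k v)) → ∀ f ∈ M, k * f * k⁻¹ ∈ M) →
      (∀ f ∈ M, ∃ k : ℕ, Odd k ∧ ∃ s : F, ∀ v, (f ^ k) v = s • v) →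
      ∀ f ∈ M, ∃ s : F, (∀ v, f v = s • v) ∨ (∀ v, f v = s • (cm g *ᵥ v)))
    (R : Subgroup (MulAut (Cfsg.POmega F (⇑Q))))
    (hR : R ≤ (MonoidHom.eqLocus (Phi (⇑Q) g).toMonoidHom
      (MonoidHom.id (Cfsg.POmega F (⇑Q)))).map MulAut.conj)
    (hcop : (Nat.card R).Coprime 2)
    (hnorm : ∀ d ∈ Subgroup.centralizer {Phi (⇑Q) g}, ∀ y ∈ R, d * y * d⁻¹ ∈ R) : R = ⊥ := by
  classical
  obtain ⟨x, hx⟩ : ∃ x, x = Phi (⇑Q) g := ⟨_, rfl⟩
  rw [← hx] at hx2 hR hnorm
  -- the elements of `R` commute with `x` and have odd order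
  have hRx : ∀ y ∈ R, y * x = x * y := by
    intro y hy
    obtain ⟨k₀, hk₀, rfl⟩ := hR hy
    exact Subgroup.mem_centralizer_singleton_iff.1 (fix_conj_mem_centralizer x hk₀)
  have hRodd : ∀ y ∈ R, Odd (orderOf y) := by
    intro y hy
    have h1 : orderOf y ∣ Nat.card R := by
      have := orderOf_dvd_natCard (⟨y, hy⟩ : ↥R)
      rwa [Subgroup.orderOf_mk] at this
    have h3 : (orderOf y).Coprime 2 := Nat.Coprime.coprime_dvd_left h1 hcop
    exact Nat.Coprime.odd_of_right h3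
  -- the group of similarities
  obtain ⟨M, hMdef⟩ : ∃ M : Subgroup ((ι → F) ≃ₗ[F] (ι → F)),
      M = ((R.comap (Phi (⇑Q))) ⊓ Subgroup.centralizer {g}).map
        ((glE : GL ι F ≃* _).toMonoidHom.comp (GO (⇑Q)).subtype) := ⟨_, rfl⟩
  have hmemM : ∀ f, f ∈ M ↔ ∃ m : ↥(GO (⇑Q)), Phi (⇑Q) m ∈ R ∧ m * g = g * m ∧
      glE (m : GL ι F) = f := by
    intro f
    rw [hMdef, Subgroup.mem_map]
    constructor
    · rintro ⟨m, hm, rfl⟩
      exact ⟨m, hm.1, Subgroup.mem_centralizer_singleton_iff.1 hm.2, rfl⟩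
    · rintro ⟨m, hm1, hm2, rfl⟩
      exact ⟨m, ⟨hm1, Subgroup.mem_centralizer_singleton_iff.2 hm2⟩, rfl⟩
  have key := absH1 M ?_ ?_ ?_ ?_
  · -- conclusion
    rw [Subgroup.eq_bot_iff_forall]
    intro y hy
    obtain ⟨k₀, hk₀, hyk⟩ := hR hy
    obtain ⟨u, rfl⟩ := QuotientGroup.mk_surjective k₀
    rw [← Phi_omegaToGO] at hyk
    obtain ⟨m₀, hm₀⟩ : ∃ m₀, m₀ = omegaToGO (⇑Q) u := ⟨_, rfl⟩
    rw [← hm₀] at hyk
    obtain ⟨t, ht⟩ := hRodd y hy
    obtain ⟨m₁, hm₁⟩ : ∃ m₁, m₁ = m₀ ^ (t + 1) := ⟨_, rfl⟩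
    have hm₁R : Phi (⇑Q) m₁ ∈ R := by
      rw [hm₁, map_pow, hyk]
      exact Subgroup.pow_mem _ hy _
    have hyy : Phi (⇑Q) (m₁ * m₁) = y := by
      rw [map_mul, hm₁, map_pow, hyk, ← pow_add]
      have : t + 1 + (t + 1) = orderOf y + 1 := by omega
      rw [this, pow_succ, pow_orderOf_eq_one, one_mul]
    obtain ⟨z, hz1, hz⟩ := sign_of_Phi_comm G g m₁ c hc hg2 (by rw [← hx]; exact hRx _ hm₁R)
    have hcomm := sq_comm_of_sign g m₁ z hz1 hz
    obtain ⟨s, hs | hs⟩ := key (glE ((m₁ * m₁ : ↥(GO (⇑Q))) : GL ι F))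
      ((hmemM _).2 ⟨m₁ * m₁, by rw [hyy]; exact hy, hcomm, rfl⟩)
    · -- scalar
      rw [← hyy, Phi_eq_one_iff_good G]
      refine ⟨s, ?_⟩
      show cm (m₁ * m₁) = s • 1
      apply Matrix.toLin'.injective
      apply LinearMap.ext
      intro v
      rw [Matrix.toLin'_apply, Matrix.toLin'_apply, Matrix.smul_mulVec, Matrix.one_mulVec]
      exact hs v
    · -- a multiple of `g`: impossible
      exfalso
      have hyx : y = x := by
        rw [← hyy, hx]
        apply Phi_eq_of_smul G _ _ s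
        apply Matrix.toLin'.injective
        apply LinearMap.ext
        intro v
        rw [Matrix.toLin'_apply, Matrix.toLin'_apply, Matrix.smul_mulVec]
        exact hs v
      have := hRodd y hy
      rw [hyx, hx2] at this
      exact (by decide : ¬ Odd 2) this
  · -- similarities
    intro f hf
    obtain ⟨m, -, -, rfl⟩ := (hmemM f).1 hf
    obtain ⟨μ, hμ⟩ := m.2
    exact ⟨μ, μ.ne_zero, fun u v => polar_mulVec_of_mult hμ u v⟩
  · -- commuting with `g`
    intro f hf v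
    obtain ⟨m, -, hmg, rfl⟩ := (hmemM f).1 hf
    rw [glE_apply, glE_apply, Matrix.mulVec_mulVec, Matrix.mulVec_mulVec]
    have : cm m * cm g = cm g * cm m := by rw [← cm_mul, ← cm_mul, hmg]
    exact congrArg (fun A => A *ᵥ v) this
  · -- normalised
    intro k hk1 hk2 f hf
    obtain ⟨m, hmR, hmg, rfl⟩ := (hmemM f).1 hf
    have hkk : (glE.symm k : GL ι F) ∈ Cfsg.isometryGroup F (⇑Q) := by
      rw [ConfAut.mem_isometryGroup_iff]
      intro v
      rw [glE_symm_mulVec]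
      exact Q_of_polar h2 k hk1 v
    obtain ⟨kk, hkk'⟩ : ∃ kk : ↥(GO (⇑Q)), (kk : GL ι F) = glE.symm k :=
      ⟨⟨_, isometryGroup_le_GO _ hkk⟩, rfl⟩
    have hkkv : ∀ v, cm kk *ᵥ v = k v := by
      intro v
      show ((kk : GL ι F) : Matrix ι ι F) *ᵥ v = k v
      rw [hkk', glE_symm_mulVec]
    have hkg : kk * g = g * kk := by
      apply cm_injective
      rw [cm_mul, cm_mul]
      apply Matrix.toLin'.injective
      apply LinearMap.ext
      intro v
      rw [Matrix.toLin'_apply, Matrix.toLin'_apply, ← Matrix.mulVec_mulVec,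
        ← Matrix.mulVec_mulVec, hkkv, hkkv]
      exact hk2 v
    have hkx : Phi (⇑Q) kk ∈ Subgroup.centralizer {x} := by
      rw [Subgroup.mem_centralizer_singleton_iff, hx, ← map_mul, ← map_mul, hkg]
    refine (hmemM _).2 ⟨kk * m * kk⁻¹, ?_, ?_, ?_⟩
    · rw [map_mul, map_mul, map_inv]
      exact hnorm _ hkx _ hmR
    · calc kk * m * kk⁻¹ * g = kk * m * (kk⁻¹ * g * kk) * kk⁻¹ := by group
        _ = kk * m * g * kk⁻¹ := by
          have : kk⁻¹ * g * kk = g := by rw [mul_assoc, ← hkg, inv_mul_cancel_left]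
          rw [this]
        _ = kk * (g * m) * kk⁻¹ := by rw [mul_assoc kk m g, hmg]
        _ = (kk * g) * m * kk⁻¹ := by group
        _ = g * (kk * m * kk⁻¹) := by rw [hkg]; group
    · rw [Subgroup.coe_mul, Subgroup.coe_mul, map_mul, map_mul, Subgroup.coe_inv, map_inv, hkk',
        MulEquiv.apply_symm_apply]
  · -- odd order modulo scalars
    intro f hf
    obtain ⟨m, hmR, -, rfl⟩ := (hmemM f).1 hf
    refine ⟨orderOf (Phi (⇑Q) m), hRodd _ hmR, ?_⟩
    have h1 : Phi (⇑Q) (m ^ orderOf (Phi (⇑Q) m)) = 1 := by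
      rw [map_pow, pow_orderOf_eq_one]
    obtain ⟨a, ha⟩ := (Phi_eq_one_iff_good G _).1 h1
    refine ⟨a, fun v => ?_⟩
    rw [← map_pow, ← Subgroup.coe_pow, glE_apply, ha, Matrix.smul_mulVec, Matrix.one_mulVec]

end Cfsg.Agent.Helper17.GInvC
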