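import Mathlib
import Cfsg.Agent.Lib.Helper17.GInvC2
import Cfsg.Agent.Lib.Helper17.OmegaAll

set_option autoImplicit false
set_option linter.unusedSectionVars false
set_option linter.unusedSimpArgs false
set_option linter.unusedVariables false
set_option maxHeartbeats 1000000

/-!
# Similarities of order two modulo scalars: the concrete side, part 3 (helper17)

The second hypothesis of the criterion for the triviality of the odd core: automorphisms of odd
order commuting with `x` and fixing the fixed points of `x`.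
-/

namespace Cfsg.Agent.Helper17.GInvC

open QuadraticMap Matrix Cfsg.Agent.Helper17.OrthOut Cfsg.Agent.Helper17.ConfAut
  Cfsg.Agent.Helper17.Spinor Cfsg.Agent.Helper17.OrthFA Cfsg.Agent.Helper17.OrthAut

variable {F : Type*} [Field F] [Fintype F] {ι : Type} [Fintype ι] [DecidableEq ι]
  {Q : QuadraticForm F (ι → F)}

/-- the semilinear map attached to a matrix and a field automorphism -/
def semiT (h : Matrix ι ι F) (τ : F ≃+* F) : (ι → F) →+ (ι → F) where
  toFun v := h *ᵥ (fun i => τ (v i))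
  map_zero' := by
    have : (fun i => τ ((0 : ι → F) i)) = 0 := by funext i; simp
    rw [this, Matrix.mulVec_zero]
  map_add' u v := by
    have : (fun i => τ ((u + v) i)) = (fun i => τ (u i)) + fun i => τ (v i) := by
      funext i; simp
    rw [this, Matrix.mulVec_add]

theorem semiT_apply (h : Matrix ι ι F) (τ : F ≃+* F) (v : ι → F) :
    semiT h τ v = h *ᵥ (fun i => τ (v i)) := rfl

theorem semiT_smul (h : Matrix ι ι F) (τ : F ≃+* F) (a : F) (v : ι → F) :
    semiT h τ (a • v) = τ a • semiT h τ v := by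
  rw [semiT_apply, semiT_apply, ← Matrix.mulVec_smul]
  congr 1
  funext i
  simp

theorem semiT_injective {h : Matrix ι ι F} (hu : IsUnit h) (τ : F ≃+* F) :
    Function.Injective (semiT h τ) := by
  obtain ⟨u, rfl⟩ := hu
  intro v w hvw
  rw [semiT_apply, semiT_apply] at hvw
  have h1 := congrArg (fun y => ((u⁻¹ : (Matrix ι ι F)ˣ) : Matrix ι ι F) *ᵥ y) hvw
  simp only [Matrix.mulVec_mulVec, Units.inv_mul, Matrix.one_mulVec] at h1
  funext i
  exact τ.injective (congrFun h1 i)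

theorem semiT_mulVec (h : Matrix ι ι F) (τ : F ≃+* F) (A : Matrix ι ι F) (v : ι → F) :
    semiT h τ (A *ᵥ v) = (h * A.map τ) *ᵥ (fun i => τ (v i)) := by
  rw [semiT_apply, ← mulVec_map_sigma, Matrix.mulVec_mulVec]

theorem pow_fix {K : Type*} [Group K] (a : MulAut K) (k : K) (hk : a k = k) (n : ℕ) :
    (a ^ n) k = k := by
  induction n with
  | zero => rw [pow_zero, MulAut.one_apply]
  | succ n ih => rw [pow_succ, MulAut.mul_apply, hk, ih]

/-- the similarity commutes with the pair up to a scalar when the automorphisms commute -/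
theorem scalar_of_stdAut_comm [Nonempty ι] (G : Good Q) {h : GL ι F} {τ : F ≃+* F}
    (hb : Cfsg.IsSemisimilarityPair (⇑Q) h τ) (s : ↥(GO (⇑Q)))
    (hcomm : stdAut hb * Phi (⇑Q) s = Phi (⇑Q) s * stdAut hb) :
    ∃ z : F, (h : Matrix ι ι F) * (cm s).map τ = z • (cm s * (h : Matrix ι ι F)) := by
  obtain ⟨hs', e⟩ := stdAut_conj_Phi hb s
  have e1 : stdAut hb * Phi (⇑Q) s * (stdAut hb)⁻¹ = Phi (⇑Q) s := by
    rw [hcomm, mul_inv_cancel_right]
  rw [e1] at e
  obtain ⟨z, hz⟩ := scalar_of_Phi_eq G _ _ e.symm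
  refine ⟨z, ?_⟩
  have h3 : cm (⟨semiHom h τ (s : GL ι F), hs'⟩ : ↥(GO (⇑Q))) =
      (h : Matrix ι ι F) * (cm s).map τ * ((h⁻¹ : GL ι F) : Matrix ι ι F) := rfl
  rw [h3] at hz
  have h4 : ((h⁻¹ : GL ι F) : Matrix ι ι F) * (h : Matrix ι ι F) = 1 := by
    rw [← Units.val_mul, inv_mul_cancel, Units.val_one]
  calc (h : Matrix ι ι F) * (cm s).map τ
      = (h : Matrix ι ι F) * (cm s).map τ * (((h⁻¹ : GL ι F) : Matrix ι ι F) *
          (h : Matrix ι ι F)) := by rw [h4, Matrix.mul_one]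
    _ = ((h : Matrix ι ι F) * (cm s).map τ * ((h⁻¹ : GL ι F) : Matrix ι ι F)) *
          (h : Matrix ι ι F) := by rw [Matrix.mul_assoc, Matrix.mul_assoc, Matrix.mul_assoc]
    _ = z • (cm s * (h : Matrix ι ι F)) := by rw [hz, Matrix.smul_mul]

/-- a unipotent isometry commuting with `g` gives a fixed point of the automorphism of `g` -/
theorem exists_unip_fixed [Nonempty ι] (G : Good Q) (h2 : (2 : F) ≠ 0) (g : ↥(GO (⇑Q)))
    (N : (ι → F) →ₗ[F] (ι → F)) (hNg : ∀ v, N (cm g *ᵥ v) = cm g *ᵥ (N v))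
    (hNiso : ∀ u v, polarBilin Q (u + N u) (v + N v) = polarBilin Q u v)
    (hN3 : ∀ v, N (N (N v)) = 0) :
    ∃ m : ↥(GO (⇑Q)), cm m = 1 + LinearMap.toMatrix' N ∧
      ∃ k₀ : Cfsg.POmega F (⇑Q), Phi (⇑Q) m = MulAut.conj k₀ ∧ Phi (⇑Q) g k₀ = k₀ := by
  classical
  obtain ⟨Nm, hNm⟩ : ∃ Nm : Matrix ι ι F, Nm = LinearMap.toMatrix' N := ⟨_, rfl⟩
  have hNmv : ∀ v, Nm *ᵥ v = N v := by
    intro v
    rw [hNm, LinearMap.toMatrix'_mulVec]
  have hNm3 : Nm * Nm * Nm = 0 := by
    apply Matrix.toLin'.injective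
    apply LinearMap.ext
    intro v
    rw [Matrix.toLin'_apply, ← Matrix.mulVec_mulVec, ← Matrix.mulVec_mulVec, hNmv, hNmv, hNmv,
      hN3, map_zero]
    rfl
  obtain ⟨o, ho⟩ := exists_toEnd_eq Q G.nondeg G.hex (1 + N)
    (fun v => Q_of_polar h2 (fun w => w + N w) hNiso v)
  have hoc : ((o : GL ι F) : Matrix ι ι F) = 1 + Nm := by
    apply Matrix.toLin'.injective
    apply LinearMap.ext
    intro v
    have := congrArg (fun φ : Module.End F (ι → F) => φ v) ho
    simp only [toEnd_apply] at this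
    rw [Matrix.toLin'_apply, this, Matrix.toLin'_apply, Matrix.add_mulVec, Matrix.one_mulVec,
      hNmv]
    rfl
  -- the characteristic
  have hrp : (ringChar F).Prime := CharP.char_is_prime F (ringChar F)
  haveI : Fact (ringChar F).Prime := ⟨hrp⟩
  have hr2 : ringChar F ≠ 2 := by
    intro h
    apply h2
    have := CharP.cast_eq_zero F (ringChar F)
    rw [h] at this
    exact_mod_cast this
  have hr3 : 3 ≤ ringChar F := by
    have := hrp.two_le
    omega
  have hor : o ^ ringChar F = 1 := by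
    apply Subtype.ext
    apply Units.ext
    rw [Subgroup.coe_pow, Units.val_pow_eq_pow_val, hoc,
      add_pow_char_of_commute (ringChar F) (Commute.one_left Nm), one_pow]
    have : Nm ^ ringChar F = 0 := by
      have e : ringChar F = 3 + (ringChar F - 3) := by omega
      rw [e, pow_add, pow_succ, pow_two, hNm3, zero_mul]
    rw [this, add_zero]
    rfl
  obtain ⟨t, ht⟩ := hrp.odd_of_ne_two hr2
  have hoΩ : o ∈ Cfsg.Omega F (⇑Q) := by
    have h1 : o = o ^ (t + 1) * o ^ (t + 1) := by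
      rw [← pow_add]
      have : t + 1 + (t + 1) = ringChar F + 1 := by omega
      rw [this, pow_succ, hor, one_mul]
    rw [h1]
    exact sq_mem_Omega Q G.nondeg G.hex _
  obtain ⟨m, hm⟩ : ∃ m, m = omegaToGO (⇑Q) ⟨o, hoΩ⟩ := ⟨_, rfl⟩
  have hcm : cm m = 1 + Nm := by
    rw [hm]
    exact hoc
  refine ⟨m, hNm ▸ hcm, QuotientGroup.mk (⟨o, hoΩ⟩ : ↥(Cfsg.Omega F (⇑Q))), ?_, ?_⟩
  · rw [hm, Phi_omegaToGO]
  · apply fix_of_conj_mem_centralizer (conj_injective_of_good G)
    rw [← Phi_omegaToGO, ← hm, Subgroup.mem_centralizer_singleton_iff, ← map_mul, ← map_mul]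
    congr 1
    apply cm_injective
    rw [cm_mul, cm_mul, hcm]
    apply Matrix.toLin'.injective
    apply LinearMap.ext
    intro v
    rw [Matrix.toLin'_apply, Matrix.toLin'_apply, ← Matrix.mulVec_mulVec, ← Matrix.mulVec_mulVec,
      Matrix.add_mulVec, Matrix.add_mulVec, Matrix.one_mulVec, Matrix.one_mulVec, hNmv, hNmv,
      Matrix.mulVec_add, hNg]

/-- **the second hypothesis of the criterion** -/
theorem H2_conc [Nonempty ι] (G : Good Q) (h2 : (2 : F) ≠ 0) (g : ↥(GO (⇑Q)))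
    (hx2 : orderOf (Phi (⇑Q) g) = 2)
    (absH2 : ∀ (τ : F →+* F) (T : (ι → F) →+ (ι → F)),
      (∀ (a : F) (v : ι → F), T (a • v) = τ a • T v) → Function.Injective T →
      ∀ z : F, (∀ v, T (cm g *ᵥ v) = z • (cm g *ᵥ (T v))) →
      (∃ μ : F, ∀ u v, polarBilin Q (T u) (T v) = μ * τ (polarBilin Q u v)) →
      (∀ N : (ι → F) →ₗ[F] (ι → F), (∀ v, N (cm g *ᵥ v) = cm g *ᵥ (N v)) →
        (∀ u v, polarBilin Q (u + N u) (v + N v) = polarBilin Q u v) →
        (∀ v, N (N (N v)) = 0) → ∀ v, T (N v) = N (T v)) →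
      (∀ a, τ (τ a) = a) ∧
        ∃ s : F, (∀ v, T (T v) = s • v) ∨ (∀ v, T (T v) = s • (cm g *ᵥ v)))
    (a : MulAut (Cfsg.POmega F (⇑Q))) (hodd : (orderOf a).Coprime 2)
    (hac : a ∈ Subgroup.centralizer {Phi (⇑Q) g})
    (hfix : ∀ k, Phi (⇑Q) g k = k → a k = k) : a = 1 := by
  classical
  obtain ⟨x, hx⟩ : ∃ x, x = Phi (⇑Q) g := ⟨_, rfl⟩
  rw [← hx] at hx2 hac hfix
  have hao : Odd (orderOf a) := Nat.Coprime.odd_of_right hodd
  obtain ⟨t, ht⟩ := id hao
  obtain ⟨b, hb⟩ : ∃ b, b = a ^ (t + 1) := ⟨_, rfl⟩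
  have hbb : b * b = a := by
    rw [hb, ← pow_add]
    have : t + 1 + (t + 1) = orderOf a + 1 := by omega
    rw [this, pow_succ, pow_orderOf_eq_one, one_mul]
  have hax : a * x = x * a := Subgroup.mem_centralizer_singleton_iff.1 hac
  have hbx : b * x = x * b := by
    rw [hb]
    exact Commute.pow_left hax (t + 1)
  have hbfix : ∀ k, x k = k → b k = k := by
    intro k hk
    rw [hb]
    exact pow_fix a k (hfix k hk) _
  obtain ⟨h, τ, hb', hbe⟩ := G.exists_stdAut b
  obtain ⟨T, hT⟩ : ∃ T, T = semiT (h : Matrix ι ι F) τ := ⟨_, rfl⟩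
  -- `T g = z g T`
  obtain ⟨z, hz⟩ := scalar_of_stdAut_comm G hb' g (by rw [← hbe, ← hx]; exact hbx)
  have hTg : ∀ v, T (cm g *ᵥ v) = z • (cm g *ᵥ (T v)) := by
    intro v
    rw [hT, semiT_mulVec, hz, Matrix.smul_mulVec, ← Matrix.mulVec_mulVec, semiT_apply]
  -- semi-similitude
  have hTsim : ∃ μ : F, ∀ u v, polarBilin Q (T u) (T v) = μ * (τ : F →+* F) (polarBilin Q u v) := by
    obtain ⟨μ, hμ⟩ := hb'
    refine ⟨μ, fun u v => ?_⟩
    have hQT : ∀ w, Q (T w) = μ * τ (Q w) := by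
      intro w
      rw [hT, semiT_apply]
      exact hμ w
    rw [polarBilin_apply_apply, polarBilin_apply_apply, polar, polar, ← map_add, hQT, hQT, hQT]
    simp only [RingHom.coe_coe, map_sub]
    ring
  -- commuting with the unipotent isometries commuting with `g`
  have hTcomm : ∀ N : (ι → F) →ₗ[F] (ι → F), (∀ v, N (cm g *ᵥ v) = cm g *ᵥ (N v)) →
      (∀ u v, polarBilin Q (u + N u) (v + N v) = polarBilin Q u v) →
      (∀ v, N (N (N v)) = 0) → ∀ v, T (N v) = N (T v) := by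
    intro N hNg hNiso hN3 v
    obtain ⟨m, hcm, k₀, hmk, hxk⟩ := exists_unip_fixed G h2 g N hNg hNiso hN3
    obtain ⟨Nm, hNm⟩ : ∃ Nm : Matrix ι ι F, Nm = LinearMap.toMatrix' N := ⟨_, rfl⟩
    rw [← hNm] at hcm
    have hNmv : ∀ v, Nm *ᵥ v = N v := by
      intro v
      rw [hNm, LinearMap.toMatrix'_mulVec]
    have hNm3 : Nm * Nm * Nm = 0 := by
      apply Matrix.toLin'.injective
      apply LinearMap.ext
      intro v
      rw [Matrix.toLin'_apply, ← Matrix.mulVec_mulVec, ← Matrix.mulVec_mulVec, hNmv, hNmv, hNmv,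
        hN3, map_zero]
      rfl
    have hbk : b k₀ = k₀ := hbfix k₀ (by rw [hx]; exact hxk)
    have hbm : stdAut hb' * Phi (⇑Q) m = Phi (⇑Q) m * stdAut hb' := by
      rw [← hbe, hmk]
      have h1 := aut_conj_conj b k₀
      rw [hbk] at h1
      calc b * MulAut.conj k₀ = (b * MulAut.conj k₀ * b⁻¹) * b := by group
        _ = MulAut.conj k₀ * b := by rw [h1]
    obtain ⟨z', hz'⟩ := scalar_of_stdAut_comm G hb' m hbm
    rw [hcm] at hz'
    have hmap : (1 + Nm).map τ = 1 + Nm.map τ := by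
      rw [Matrix.map_add τ (map_add τ), Matrix.map_one τ (map_zero τ) (map_one τ)]
    rw [hmap] at hz'
    have hhi : (h : Matrix ι ι F) * ((h⁻¹ : GL ι F) : Matrix ι ι F) = 1 := by
      rw [← Units.val_mul, mul_inv_cancel, Units.val_one]
    have hA3 : Nm.map τ * Nm.map τ * Nm.map τ = 0 := by
      rw [← Matrix.map_mul, ← Matrix.map_mul, hNm3, Matrix.map_zero τ (map_zero τ)]
    have hz1 : z' = 1 := Cfsg.Agent.Helper2.PGeo.eq_one_of_conj_unipotent _ _ hhi (Nm.map τ) Nm
      hA3 hNm3 z' hz'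
    rw [hz1, one_smul, Matrix.mul_add, Matrix.mul_one, Matrix.add_mul, Matrix.one_mul] at hz'
    have hc1 : (h : Matrix ι ι F) * Nm.map τ = Nm * (h : Matrix ι ι F) := add_left_cancel hz'
    rw [← hNmv, ← hNmv, hT, semiT_mulVec, hc1, ← Matrix.mulVec_mulVec, semiT_apply]
  obtain ⟨hτ2, s, hs⟩ := absH2 (τ : F →+* F) T (by
      intro a v
      rw [hT]
      exact semiT_smul _ τ a v) (by
      rw [hT]
      exact semiT_injective (GL_isUnit h) τ) z hTg hTsim hTcomm
  -- `a = b * b`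
  have hττ : (τ * τ : RingAut F) = RingEquiv.refl F := by
    apply RingEquiv.ext
    intro c
    exact hτ2 c
  obtain ⟨H, hH⟩ : ∃ H : GL ι F, H = h * Matrix.GeneralLinearGroup.map (τ : F →+* F) h := ⟨_, rfl⟩
  have hHc : (H : Matrix ι ι F) = (h : Matrix ι ι F) * (h : Matrix ι ι F).map τ := by
    rw [hH]
    rfl
  have hTT : ∀ v, T (T v) = (H : Matrix ι ι F) *ᵥ v := by
    intro v
    rw [hT, semiT_apply (h : Matrix ι ι F) τ v, semiT_mulVec, ← hHc]
    congr 1
    funext i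
    exact hτ2 (v i)
  have hpair := isSemisim_mul hb' hb'
  rw [← hH] at hpair
  have hpair' : Cfsg.IsSemisimilarityPair (⇑Q) H (RingEquiv.refl F) := by
    rw [← hττ]
    exact hpair
  have ha : a = Phi (⇑Q) ⟨H, (isSemisim_refl_iff H).1 hpair'⟩ := by
    rw [← stdAut_refl_eq_Phi hpair', ← hbb, hbe, stdAut_mul]
    exact stdAut_congr hH.symm hττ _ _
  rcases hs with hs | hs
  · rw [ha, Phi_eq_one_iff_good G]
    refine ⟨s, ?_⟩
    show (H : Matrix ι ι F) = s • 1
    apply Matrix.toLin'.injective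
    apply LinearMap.ext
    intro v
    rw [Matrix.toLin'_apply, Matrix.toLin'_apply, Matrix.smul_mulVec, Matrix.one_mulVec, ← hTT]
    exact hs v
  · exfalso
    have hax' : a = x := by
      rw [ha, hx]
      apply Phi_eq_of_smul G _ _ s
      show (H : Matrix ι ι F) = s • cm g
      apply Matrix.toLin'.injective
      apply LinearMap.ext
      intro v
      rw [Matrix.toLin'_apply, Matrix.toLin'_apply, Matrix.smul_mulVec, ← hTT]
      exact hs v
    rw [hax', hx2] at hao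
    exact (by decide : ¬ Odd 2) hao

end Cfsg.Agent.Helper17.GInvC
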