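import Mathlib
import Cfsg.Agent.Lib.Helper17.GInvC3
import Cfsg.Agent.Lib.Helper19.GInvG1
import Cfsg.Agent.Lib.Helper2.GInvAbs

set_option autoImplicit false
set_option linter.unusedSectionVars false
set_option linter.unusedSimpArgs false
set_option linter.unusedVariables false
set_option maxHeartbeats 1000000

/-!
# Similarities of order two modulo scalars: the core of the centralizer is trivial (helper17)
-/

namespace Cfsg.Agent.Helper17.GInvC

open QuadraticMap Matrix Cfsg.Agent.Helper17.OrthOut Cfsg.Agent.Helper17.ConfAut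
  Cfsg.Agent.Helper17.Spinor Cfsg.Agent.Helper17.OrthFA Cfsg.Agent.Helper17.OrthAut
  Cfsg.Agent.Helper2.PLB Cfsg.Agent.Helper2.Orth

section criterion

variable {K : Type*} [Group K] [Finite K]

/-- the abstract criterion of helper2, with the second hypothesis only for automorphisms
commuting with `β` -/
theorem core_bot_of_fix' (ℓ : ℕ) (hinj : Function.Injective (MulAut.conj : K →* MulAut K))
    (A : Subgroup (MulAut K)) (hinn : ∀ k : K, MulAut.conj k ∈ A) (β : MulAut K)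
    (H1 : ∀ R : Subgroup (MulAut K),
      R ≤ (MonoidHom.eqLocus β.toMonoidHom (MonoidHom.id K)).map MulAut.conj →
      (Nat.card R).Coprime ℓ →
      (∀ d ∈ Subgroup.centralizer {β}, ∀ x ∈ R, d * x * d⁻¹ ∈ R) → R = ⊥)
    (H2 : ∀ a : MulAut K, (orderOf a).Coprime ℓ → a ∈ Subgroup.centralizer {β} →
      (∀ k, β k = k → a k = k) → a = 1)
    (N : Subgroup (MulAut K)) (hN : N ≤ A ⊓ Subgroup.centralizer {β})
    (hcard : (Nat.card N).Coprime ℓ)
    (hnorm : ∀ h ∈ A ⊓ Subgroup.centralizer {β}, ∀ x ∈ N, h * x * h⁻¹ ∈ N) : N = ⊥ := by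
  have hfin : Finite (MulAut K) := by
    have : Fintype K := Fintype.ofFinite K
    classical
    infer_instance
  obtain ⟨L, hL⟩ : ∃ L, L = MonoidHom.eqLocus β.toMonoidHom (MonoidHom.id K) := ⟨_, rfl⟩
  have hmemL : ∀ k, k ∈ L ↔ β k = k := fun k => by rw [hL]; exact Iff.rfl
  obtain ⟨C, hC⟩ : ∃ C, C = L.map (MulAut.conj : K →* MulAut K) := ⟨_, rfl⟩
  have hCH : C ≤ A ⊓ Subgroup.centralizer {β} := by
    rw [hC]
    rintro _ ⟨k, hk, rfl⟩
    exact ⟨hinn k, OrthFA.fix_conj_mem_centralizer β ((hmemL k).1 hk)⟩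
  have hCnorm : ∀ d ∈ Subgroup.centralizer {β}, ∀ c ∈ C, d * c * d⁻¹ ∈ C := by
    intro d hd c hc
    rw [hC] at hc ⊢
    obtain ⟨k, hk, rfl⟩ := hc
    refine ⟨d k, ?_, (OrthFA.aut_conj_conj d k).symm⟩
    have hk : β k = k := (hmemL k).1 hk
    apply (hmemL (d k)).2
    rw [Subgroup.mem_centralizer_singleton_iff] at hd
    have : (β * d) k = (d * β) k := by rw [hd]
    rw [MulAut.mul_apply, MulAut.mul_apply, hk] at this
    exact this
  have hR := H1 (oddCoreSub ℓ C) (by rw [← hL, ← hC]; exact oddCoreSub_le ℓ C)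
    (card_oddCoreSub ℓ C)
    (fun d hd x hx => conj_mem_oddCoreSub ℓ C d (hCnorm d hd)
      (fun c hc => by
        have := hCnorm d⁻¹ (Subgroup.inv_mem _ hd) c hc
        rwa [inv_inv] at this) hx)
  have hN0 : N ⊓ C = ⊥ := by
    rw [eq_bot_iff, ← hR]
    apply le_oddCoreSub ℓ C (N ⊓ C) inf_le_right
    · intro c hc x hx
      exact ⟨hnorm c (hCH hc) x hx.1, Subgroup.mul_mem _ (Subgroup.mul_mem _ hc hx.2)
        (Subgroup.inv_mem _ hc)⟩
    · exact Nat.Coprime.coprime_dvd_left (Subgroup.card_dvd_of_le inf_le_left) hcard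
  rw [eq_bot_iff]
  intro a ha
  rw [Subgroup.mem_bot]
  have hac : a ∈ Subgroup.centralizer {β} := (hN ha).2
  apply H2 a
  · have h1 : orderOf a ∣ Nat.card N := by
      have := orderOf_dvd_natCard (⟨a, ha⟩ : ↥N)
      rwa [Subgroup.orderOf_mk] at this
    exact Nat.Coprime.coprime_dvd_left h1 hcard
  · exact hac
  · intro k hk
    have hak : β (a k) = a k := by
      have hac' := hac
      rw [Subgroup.mem_centralizer_singleton_iff] at hac'
      have : (β * a) k = (a * β) k := by rw [hac']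
      rw [MulAut.mul_apply, MulAut.mul_apply, hk] at this
      exact this
    have hkC : MulAut.conj k ∈ A ⊓ Subgroup.centralizer {β} :=
      ⟨hinn k, OrthFA.fix_conj_mem_centralizer β hk⟩
    have h1 : MulAut.conj (a k * k⁻¹) ∈ N ⊓ C := by
      have e1 : MulAut.conj (a k * k⁻¹) = a * (MulAut.conj k * a⁻¹ * (MulAut.conj k)⁻¹) := by
        rw [map_mul, ← OrthFA.aut_conj_conj a k, map_inv]
        group
      constructor
      · rw [e1]
        exact Subgroup.mul_mem _ ha (hnorm _ hkC _ (Subgroup.inv_mem _ ha))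
      · rw [hC]
        refine ⟨a k * k⁻¹, ?_, rfl⟩
        exact Subgroup.mul_mem _ ((hmemL _).2 hak) (Subgroup.inv_mem _ ((hmemL _).2 hk))
    rw [hN0, Subgroup.mem_bot] at h1
    have h2 : a k * k⁻¹ = 1 := hinj (h1.trans (map_one _).symm)
    exact mul_inv_eq_one.1 h2

end criterion

section main

variable {F : Type*} [Field F] [Fintype F] {ι : Type} [Fintype ι] [DecidableEq ι]
  {Q : QuadraticForm F (ι → F)} {i₁ j₁ i₂ j₂ : ι}

/-- **the centralizer of a similarity of order two outside the inner-diagonal group has trivial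
odd core** -/
theorem no_core_of_notMem_PD [Nonempty ι] (G : Good Q) (h2 : (2 : F) ≠ 0)
    (hT : TwoHyp Q i₁ j₁ i₂ j₂) {m : ℕ} (hm : 3 ≤ m) (hcard : Fintype.card ι = 2 * (m + 1))
    (g : ↥(GO (⇑Q))) (hx2 : orderOf (Phi (⇑Q) g) = 2) (hnot : Phi (⇑Q) g ∉ PD Q (m + 1))
    (A : Subgroup (MulAut (Cfsg.POmega F (⇑Q))))
    (hinn : ∀ k : Cfsg.POmega F (⇑Q), MulAut.conj k ∈ A) :
    ¬ HasCore 2 A (Phi (⇑Q) g) := by
  classical
  have hB := isEps_polar h2 G.nondeg
  obtain ⟨μ, hμ0, hμ⟩ := exists_isMult g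
  have hv := ConfAut.exists_Q_ne_zero h2 G.nondeg hT
  have hdet : (cm g).det = -μ ^ (m + 1) := by
    apply det_eq_neg_of_notMem G.nondeg hcard hμ0 hμ
    intro hd
    apply hnot
    rw [Phi_mem_PD_iff h2 G.nondeg hT hcard, mem_dClassGO_iff hv hμ0 hμ]
    exact hd
  -- the square of `g` is a scalar
  have hgg : Phi (⇑Q) (g * g) = 1 := by
    rw [map_mul, ← pow_two, ← hx2, pow_orderOf_eq_one]
  obtain ⟨c, hc⟩ := (Phi_eq_one_iff_good G _).1 hgg
  have hg2 : cm g * cm g = c • 1 := hc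
  have hc0 : c ≠ 0 := by
    rintro rfl
    rw [zero_smul] at hg2
    have h1 : IsUnit (cm g * cm g) := (cm_isUnit g).mul (cm_isUnit g)
    rw [hg2] at h1
    exact not_isUnit_zero h1
  -- the abstract data
  obtain ⟨gl, hgl⟩ : ∃ gl : (ι → F) →ₗ[F] (ι → F), gl = Matrix.toLin' (cm g) := ⟨_, rfl⟩
  have hglv : ∀ v, gl v = cm g *ᵥ v := by
    intro v
    rw [hgl, Matrix.toLin'_apply]
  have hgl2 : ∀ v, gl (gl v) = c • v := by
    intro v
    rw [hglv, hglv, Matrix.mulVec_mulVec, hg2, Matrix.smul_mulVec, Matrix.one_mulVec]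
  have hglsim : ∀ u v, polarBilin Q (gl u) (gl v) = μ * polarBilin Q u v := by
    intro u v
    rw [hglv, hglv]
    exact polar_mulVec_of_mult hμ u v
  have hdim : Module.finrank F (ι → F) = 2 * (m + 1) := by rw [finrank_fun, hcard]
  have hgldet : LinearMap.det gl = -μ ^ (m + 1) := by
    rw [hgl, LinearMap.det_toLin', hdet]
  obtain ⟨hμc, hα, hβ⟩ := Cfsg.Agent.Helper19.GInvG1.g1 hB gl c μ hc0 hgl2 hglsim m hdim hgldet
  rw [hμc] at hglsim
  rintro ⟨N, hNle, hne, hcop, hnorm⟩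
  apply hne
  have hfinK : Finite (Cfsg.POmega F (⇑Q)) := inferInstance
  apply core_bot_of_fix' 2 (conj_injective_of_good G) A hinn (Phi (⇑Q) g) ?_ ?_ N hNle hcop hnorm
  · -- H1
    intro R hR hRc hRn
    apply H1_conc G h2 g hx2 c hc0 hg2 ?_ R hR hRc hRn
    intro M hM hcomm hnormM hoddM f hf
    have key := Cfsg.Agent.Helper2.GInvAbs.abs_H1 hB gl c hc0 hgl2 hglsim m hm hdim hα hβ M hM
      (fun f hf v => by rw [hglv, hglv]; exact hcomm f hf v)
      (fun k hk1 hk2 f hf => hnormM k hk1 (fun v => by rw [← hglv, ← hglv]; exact hk2 v) f hf)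
      hoddM f hf
    obtain ⟨s, hs | hs⟩ := key
    · exact ⟨s, Or.inl hs⟩
    · exact ⟨s, Or.inr fun v => by rw [hs, hglv]⟩
  · -- H2
    intro a hao hac hfix
    apply H2_conc G h2 g hx2 ?_ a hao hac hfix
    intro τ T hT hTinj z hTg hTsim hTcomm
    have key := Cfsg.Agent.Helper2.GInvAbs.abs_H2 hB gl c hc0 hgl2 hglsim m hm hdim hα hβ τ T hT
      hTinj z (fun v => by rw [hglv, hglv]; exact hTg v) hTsim
      (fun N hN1 hN2 hN3 v => hTcomm N (fun v => by rw [← hglv, ← hglv]; exact hN1 v) hN2 hN3 v)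
    obtain ⟨hτ, s, hs | hs⟩ := key
    · exact ⟨hτ, s, Or.inl hs⟩
    · exact ⟨hτ, s, Or.inr fun v => by rw [hs, hglv]⟩

end main

end Cfsg.Agent.Helper17.GInvC
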