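import Mathlib
import Cfsg.Agent.Lib.Helper17.GInvC4
import Cfsg.Agent.Lib.Helper17.GInvC5

set_option autoImplicit false
set_option linter.unusedSectionVars false
set_option linter.unusedSimpArgs false
set_option linter.unusedVariables false
set_option maxHeartbeats 1000000

/-!
# Local balance for the minus type: automorphisms outside the inner-diagonal group (helper17)
-/

namespace Cfsg.Agent.Helper17.GInvC

open QuadraticMap Matrix Cfsg.Agent.Helper17.OrthOut Cfsg.Agent.Helper17.ConfAut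
  Cfsg.Agent.Helper17.Spinor Cfsg.Agent.Helper17.OrthFA Cfsg.Agent.Helper17.OrthAut
  Cfsg.Agent.Helper2.Orth

universe u

/-- an involution of a group of even order has an even number of fixed points -/
theorem two_dvd_card_fix {K : Type*} [Group K] [Finite K] (x : MulAut K) (hx : x * x = 1)
    (hK : 2 ∣ Nat.card K) :
    2 ∣ Nat.card ↥(MonoidHom.eqLocus x.toMonoidHom (MonoidHom.id K)) := by
  classical
  have : Fintype K := Fintype.ofFinite K
  have : Fact (Nat.Prime 2) := ⟨Nat.prime_two⟩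
  let f : Function.End K := ⇑x
  have hf2 : f ^ 2 ^ 1 = 1 := by
    rw [pow_one, pow_two]
    funext k
    show x (x k) = k
    have := congrArg (fun φ : MulAut K => φ k) hx
    simpa using this
  have h1 := Equiv.Perm.card_fixedPoints_modEq hf2
  have h2 : Nat.card ↥(MonoidHom.eqLocus x.toMonoidHom (MonoidHom.id K)) =
      Fintype.card (Function.fixedPoints f) := by
    rw [Nat.card_eq_fintype_card]
    apply Fintype.card_congr
    exact ⟨fun k => ⟨k.1, k.2⟩, fun k => ⟨k.1, k.2⟩, fun k => rfl, fun k => rfl⟩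
  rw [h2]
  rw [Nat.card_eq_fintype_card] at hK
  exact (Nat.modEq_zero_iff_dvd.1 (h1.symm.trans (Nat.modEq_zero_iff_dvd.2 hK)))

/-- local balance for the minus type, automorphisms that are not inner-diagonal: the form as a
`QuadraticForm` -/
theorem minus_balance_core {F : Type u} [Field F] [Fintype F] {r : ℕ} [Fact r.Prime] [CharP F r]
    (k : ℕ) (a b : F)
    (hab : ∀ z₁ z₂ : F, z₁ ^ 2 + a * z₁ * z₂ + b * z₂ ^ 2 = 0 → z₁ = 0 ∧ z₂ = 0)
    (A : Subgroup (MulAut (Cfsg.POmega F (⇑(minusQ (k + 3) a b)))))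
    (hinn : ∀ k' : Cfsg.POmega F (⇑(minusQ (k + 3) a b)), MulAut.conj k' ∈ A) {p : ℕ}
    [Fact p.Prime] (hpr : p ≠ r) (x : MulAut (Cfsg.POmega F (⇑(minusQ (k + 3) a b))))
    (hord : orderOf x = p)
    (hnot : ¬ ∃ g : GL ((Fin (k + 3) ⊕ Fin (k + 3)) ⊕ Fin 2) F,
      g ∈ Cfsg.Geo.quadSimilarityGroup (F := F) (⇑(minusQ (k + 3) a b)) ∧
      Cfsg.PreservesSingularClassesMinus (k + 3) a b
        (g : Matrix ((Fin (k + 3) ⊕ Fin (k + 3)) ⊕ Fin 2)
          ((Fin (k + 3) ⊕ Fin (k + 3)) ⊕ Fin 2) F) ∧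
      Cfsg.IsInducedBySemilinearPOmega (⇑(minusQ (k + 3) a b)) g (RingEquiv.refl F) x) :
    Cfsg.pPrimeCore p ↥(A ⊓ Subgroup.centralizer {x}) ≠ ⊥ ↔
      ((∃ (a' b' : F) (ψ : Cfsg.POmega F (⇑(minusQ (k + 3) a b)) ≃*
          Cfsg.POmega F (⇑(minusQ (k + 3) a' b'))) (σ : F ≃+* F),
        (∀ z₁ z₂ : F, z₁ ^ 2 + a' * z₁ * z₂ + b' * z₂ ^ 2 = 0 → z₁ = 0 ∧ z₂ = 0) ∧
        σ ≠ RingEquiv.refl F ∧ σ a' = a' ∧ σ b' = b' ∧
        Cfsg.IsFieldAutPOmegaOf (⇑(minusQ (k + 3) a' b')) σ ((ψ.symm.trans x).trans ψ)) ∧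
      Nat.Coprime p (Nat.card ↥(MonoidHom.eqLocus x.toMonoidHom
        (MonoidHom.id (Cfsg.POmega F (⇑(minusQ (k + 3) a b))))))) := by
  classical
  have G := good_minus k a b hab
  have hp := (Fact.out : p.Prime)
  have hcore : Cfsg.pPrimeCore p ↥(A ⊓ Subgroup.centralizer {x}) ≠ ⊥ ↔ HasCore p A x :=
    pPrimeCore_ne_bot_iff p _
  rw [hcore]
  obtain ⟨σ, hσ⟩ : ∃ σ, σ = G.fieldHom x := ⟨_, rfl⟩
  by_cases hσ1 : σ = RingEquiv.refl F
  · -- `x` is induced by a similarity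
    have hxker : x ∈ G.fieldHom.ker := by
      rw [MonoidHom.mem_ker, ← hσ, hσ1]
      rfl
    rw [G.ker_fieldHom] at hxker
    obtain ⟨g, rfl⟩ := hxker
    have hcard : Fintype.card ((Fin (k + 3) ⊕ Fin (k + 3)) ⊕ Fin 2) = 2 * (k + 3 + 1) := by
      simp only [Fintype.card_sum, Fintype.card_fin]
      ring
    by_cases h2 : (2 : F) = 0
    · -- characteristic two: impossible
      exfalso
      haveI : CharP F 2 := Cfsg.Agent.Helper17.OrthFA.charP_two_of_two_eq_zero h2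
      have hr2 : r = 2 := CharP.eq F ‹CharP F r› ‹CharP F 2›
      have hpodd : Odd p := hp.odd_of_ne_two (by rw [← hr2]; exact hpr)
      have hxinn : Phi (⇑(minusQ (k + 3) a b)) g ∈
          Cfsg.Inn (Cfsg.POmega F (⇑(minusQ (k + 3) a b))) := by
        by_contra hcon
        have h1 := inn_hidx G _ ⟨g, rfl⟩ _ ⟨g, rfl⟩ hcon hcon
        obtain ⟨t, ht⟩ := hpodd
        have h4 : (Phi (⇑(minusQ (k + 3) a b)) g) ^ (2 * t + 1) = 1 := by
          rw [← ht, ← hord, pow_orderOf_eq_one]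
        rw [pow_succ, pow_mul, pow_two] at h4
        have h3 := eq_inv_of_mul_eq_one_right h4
        apply hcon
        rw [h3]
        exact inv_mem (pow_mem h1 t)
      apply hnot
      obtain ⟨k₀, hk₀⟩ := hxinn
      obtain ⟨u, rfl⟩ := QuotientGroup.mk_surjective k₀
      refine ⟨((u : ↥(Cfsg.isometryGroup F (⇑(minusQ (k + 3) a b)))) :
        GL ((Fin (k + 3) ⊕ Fin (k + 3)) ⊕ Fin 2) F), isometryGroup_le_GO _ u.1.2,
        (presMinus_iff_mem_Omega (k + 3) a b G.hex hab u.1).2 u.2, ?_⟩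
      rw [isInduced_iff _ (isometryGroup_le_GO _ u.1.2), ← hk₀]
      exact (Phi_omegaToGO _ u).symm
    · -- odd characteristic
      have hT := twoHyp_minus (F := F) (k + 1) a b
      have hm3 : 3 ≤ k + 3 := by omega
      have hxPD : Phi (⇑(minusQ (k + 3) a b)) g ∉ PD (minusQ (k + 3) a b) (k + 3 + 1) := by
        intro hmem
        apply hnot
        obtain ⟨c, hc, hdet⟩ := (Phi_mem_PD_iff h2 G.nondeg hT hcard g).1 hmem
        exact ⟨g, g.2,
          (preservesSingularClassesMinus_iff (k + 3) a b h2 hab c.ne_zero hc).2 hdet,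
          (isInduced_iff _ g.2 _).2 rfl⟩
      have hp2 : p = 2 := by
        by_contra hp2
        have hpodd : Odd p := hp.odd_of_ne_two hp2
        have h1 := PD_hidx h2 G.nondeg hT hcard _ ⟨g, rfl⟩ _ ⟨g, rfl⟩ hxPD hxPD
        obtain ⟨t, ht⟩ := hpodd
        have h4 : (Phi (⇑(minusQ (k + 3) a b)) g) ^ (2 * t + 1) = 1 := by
          rw [← ht, ← hord, pow_orderOf_eq_one]
        rw [pow_succ, pow_mul, pow_two] at h4
        have h3 := eq_inv_of_mul_eq_one_right h4
        apply hxPD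
        rw [h3]
        exact inv_mem (pow_mem h1 t)
      subst hp2
      haveI : Nonempty ((Fin (k + 3) ⊕ Fin (k + 3)) ⊕ Fin 2) := ⟨Sum.inr 0⟩
      have hno := no_core_of_notMem_PD G h2 hT hm3 hcard g hord hxPD A hinn
      constructor
      · intro h
        exact absurd h hno
      · rintro ⟨-, hcop⟩
        exfalso
        have hxx : Phi (⇑(minusQ (k + 3) a b)) g * Phi (⇑(minusQ (k + 3) a b)) g = 1 := by
          have h5 := pow_orderOf_eq_one (Phi (⇑(minusQ (k + 3) a b)) g)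
          rw [hord, pow_two] at h5
          exact h5
        have h1 := two_dvd_card_fix _ hxx (two_dvd_card_POmega G h2)
        have h3 : Nat.gcd 2 (Nat.card ↥(MonoidHom.eqLocus
            (Phi (⇑(minusQ (k + 3) a b)) g).toMonoidHom
            (MonoidHom.id (Cfsg.POmega F (⇑(minusQ (k + 3) a b)))))) = 2 :=
          Nat.gcd_eq_left h1
        rw [Nat.Coprime, h3] at hcop
        exact absurd hcop (by decide)
  · by_cases hp2 : p = 2
    · -- a field automorphism of order two: impossible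
      exfalso
      have h3 : orderOf (G.fieldHom x) ∣ p := by
        rw [← hord]
        exact orderOf_map_dvd _ _
      have h5 : x ^ p = 1 := by
        rw [← hord]
        exact pow_orderOf_eq_one x
      subst hp2
      have hσ2 : orderOf (G.fieldHom x) = 2 := by
        rcases (Nat.dvd_prime Nat.prime_two).1 h3 with h4 | h4
        · exfalso
          apply hσ1
          rw [hσ]
          exact orderOf_eq_one_iff.1 h4
        · exact h4
      exact no_invol_field k a b hab x h5 hσ2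
    · obtain ⟨⟨a', b', ψ, hab', ha', hb', hφ⟩, hiff⟩ :=
        minus_lb_field k a b hab A hinn hp hp2 x hord σ hσ hσ1
      constructor
      · intro hc
        exact ⟨⟨a', b', ψ, σ, hab', hσ1, ha', hb', hφ⟩, hiff.1 hc⟩
      · intro h
        exact hiff.2 h.2

/-- **local balance for the minus type, automorphisms that are not inner-diagonal** -/
theorem minus_balance_aux {F : Type u} [Field F] [Fintype F] {r : ℕ} [Fact r.Prime] [CharP F r]
    (k : ℕ) (a b : F)
    (hab : ∀ z₁ z₂ : F, z₁ ^ 2 + a * z₁ * z₂ + b * z₂ ^ 2 = 0 → z₁ = 0 ∧ z₂ = 0)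
    (Qf : F → F → (((Fin (k + 3) ⊕ Fin (k + 3)) ⊕ Fin 2) → F) → F)
    (hQf : ∀ a' b' : F, Qf a' b' = ⇑(minusQ (k + 3) a' b'))
    (A : Subgroup (MulAut (Cfsg.POmega F (Qf a b))))
    (hinn : ∀ k' : Cfsg.POmega F (Qf a b), MulAut.conj k' ∈ A) {p : ℕ} [Fact p.Prime]
    (hpr : p ≠ r) (x : MulAut (Cfsg.POmega F (Qf a b))) (hord : orderOf x = p)
    (hnot : ¬ ∃ g : GL ((Fin (k + 3) ⊕ Fin (k + 3)) ⊕ Fin 2) F,
      g ∈ Cfsg.Geo.quadSimilarityGroup (F := F) (Qf a b) ∧
      Cfsg.PreservesSingularClassesMinus (k + 3) a b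
        (g : Matrix ((Fin (k + 3) ⊕ Fin (k + 3)) ⊕ Fin 2)
          ((Fin (k + 3) ⊕ Fin (k + 3)) ⊕ Fin 2) F) ∧
      Cfsg.IsInducedBySemilinearPOmega (Qf a b) g (RingEquiv.refl F) x) :
    Cfsg.pPrimeCore p ↥(A ⊓ Subgroup.centralizer {x}) ≠ ⊥ ↔
      ((∃ (a' b' : F) (ψ : Cfsg.POmega F (Qf a b) ≃* Cfsg.POmega F (Qf a' b'))
          (σ : F ≃+* F),
        (∀ z₁ z₂ : F, z₁ ^ 2 + a' * z₁ * z₂ + b' * z₂ ^ 2 = 0 → z₁ = 0 ∧ z₂ = 0) ∧
        σ ≠ RingEquiv.refl F ∧ σ a' = a' ∧ σ b' = b' ∧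
        Cfsg.IsFieldAutPOmegaOf (Qf a' b') σ ((ψ.symm.trans x).trans ψ)) ∧
      Nat.Coprime p (Nat.card ↥(MonoidHom.eqLocus x.toMonoidHom
        (MonoidHom.id (Cfsg.POmega F (Qf a b)))))) := by
  obtain rfl : Qf = fun a' b' => ⇑(minusQ (k + 3) a' b') := by
    funext a' b'
    exact hQf a' b'
  exact minus_balance_core k a b hab A hinn hpr x hord hnot

end Cfsg.Agent.Helper17.GInvC
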