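import Mathlib
import Cfsg.Prelude.Def_HallClasses

/-!
# Hall subgroups in all finite groups: general lemmas (helper17)
-/

set_option autoImplicit false

namespace Cfsg.Agent.Helper17.HallAll

open Cfsg

/-- an element of `p`-power order is conjugate into every subgroup of index prime to `p` -/
theorem exists_conj_mem {G : Type*} [Group G] {p : ℕ} [Fact p.Prime] (H : Subgroup G)
    (hH : ¬ p ∣ H.index) (x : G) (hx : ∃ k, orderOf x = p ^ k) : ∃ g : G, g⁻¹ * x * g ∈ H := by
  obtain ⟨k, hk⟩ := hx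
  have hP : IsPGroup p (Subgroup.zpowers x) := IsPGroup.of_card (n := k) (by rw [Nat.card_zpowers, hk])
  have hcard : ¬ p ∣ Nat.card (G ⧸ H) := by rwa [← Subgroup.index_eq_card]
  obtain ⟨q, hq⟩ := hP.nonempty_fixed_point_of_prime_not_dvd_card (G ⧸ H) hcard
  obtain ⟨g, rfl⟩ := QuotientGroup.mk_surjective q
  refine ⟨g, ?_⟩
  have h1 := hq ⟨x, Subgroup.mem_zpowers x⟩
  have h2 : ((x * g : G) : G ⧸ H) = (g : G ⧸ H) := h1
  rw [QuotientGroup.eq] at h2
  have h3 := H.inv_mem h2
  have e : ((x * g)⁻¹ * g)⁻¹ = g⁻¹ * x * g := by group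
  rwa [e] at h3

/-- a Hall subgroup contains a conjugate of every element of `p`-power order, `p ∈ π` -/
theorem exists_conj_mem_of_hall {G : Type*} [Group G] {π : Set ℕ} {H : Subgroup G}
    (hH : IsPiHall π H) {p : ℕ} (hp : p.Prime) (hpπ : p ∈ π) (x : G) (hx : ∃ k, orderOf x = p ^ k) :
    ∃ g : G, g⁻¹ * x * g ∈ H := by
  haveI : Fact p.Prime := ⟨hp⟩
  exact exists_conj_mem H (hH.2 p hp hpπ) x hx

/-- primes dividing the order of a group with a Hall subgroup whose order they do not divide -/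
theorem prime_mem_of_dvd_card {G : Type*} [Group G] {π : Set ℕ} {H : Subgroup G}
    (hH : IsPiHall π H) {p : ℕ} (hp : p.Prime) (h : p ∣ Nat.card H) : p ∈ π := hH.1 p hp h

end Cfsg.Agent.Helper17.HallAll
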