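import Mathlib
import Cfsg.Agent.Lib.Helper17.HallAll1

/-!
# Symmetric groups without Hall subgroups (helper17)
-/

set_option autoImplicit false

namespace Cfsg.Agent.Helper17.HallAll

open Cfsg

/-- an element interchanging two points has even order -/
theorem two_dvd_card_of_interchange {G α : Type*} [Group G] [Finite G] [MulAction G α] (h : G)
    {a b : α} (hab : a ≠ b) (h1 : h • a = b) (h2 : h • b = a) : 2 ∣ Nat.card G := by
  by_contra hodd
  have ho : ¬ 2 ∣ orderOf h := fun hd => hodd (hd.trans (orderOf_dvd_natCard h))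
  obtain ⟨j, hj⟩ : Odd (orderOf h) := Nat.odd_iff.2 (by omega)
  have hsq : ∀ k : ℕ, (h ^ (2 * k)) • a = a := by
    intro k
    induction k with
    | zero => simp
    | succ k ih =>
      rw [Nat.mul_succ, pow_add, mul_smul, pow_two, mul_smul, h1, h2, ih]
  have h3 : h ^ (2 * j + 1) = 1 := by rw [← hj]; exact pow_orderOf_eq_one h
  have h4 : (h ^ (2 * j + 1)) • a = b := by
    rw [pow_succ', mul_smul, hsq, h1]
  rw [h3, one_smul] at h4
  exact hab h4

/-- a subgroup containing a cycle with full support is transitive -/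
theorem isPretransitive_of_full_cycle {α : Type*} [Fintype α] [DecidableEq α]
    {H : Subgroup (Equiv.Perm α)} {σ : Equiv.Perm α} (hσ : σ ∈ H) (hc : σ.IsCycle)
    (hs : σ.support = Finset.univ) : MulAction.IsPretransitive H α := by
  refine ⟨fun a b => ?_⟩
  have ha : σ a ≠ a := Equiv.Perm.mem_support.1 (hs ▸ Finset.mem_univ a)
  have hb : σ b ≠ b := Equiv.Perm.mem_support.1 (hs ▸ Finset.mem_univ b)
  obtain ⟨i, hi⟩ := hc.exists_zpow_eq ha hb
  exact ⟨⟨σ ^ i, H.zpow_mem hσ i⟩, hi⟩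

/-- a Hall subgroup of `Perm (Fin q)`, `q ∈ π` prime, contains a cycle with full support -/
theorem exists_full_cycle {π : Set ℕ} {q : ℕ} (hq : q.Prime) (hqπ : q ∈ π)
    {H : Subgroup (Equiv.Perm (Fin q))} (hH : IsPiHall π H) :
    ∃ σ ∈ H, σ.IsCycle ∧ σ.support = Finset.univ := by
  have h2 : 2 ≤ q := hq.two_le
  have hc := isCycle_finRotate_of_le h2
  have hs := support_finRotate_of_le h2
  have ho : orderOf (finRotate q) = q ^ 1 := by
    rw [hc.orderOf, hs, Finset.card_univ, Fintype.card_fin, pow_one]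
  obtain ⟨g, hg⟩ := exists_conj_mem_of_hall hH hq hqπ (finRotate q) ⟨1, ho⟩
  refine ⟨g⁻¹ * finRotate q * g, hg, ?_, ?_⟩
  · have := hc.conj (g := g⁻¹)
    rwa [inv_inv] at this
  · rw [← Finset.card_eq_iff_eq_univ]
    have := Equiv.Perm.card_support_conj (σ := g⁻¹) (τ := finRotate q)
    rw [inv_inv] at this
    rw [this, hs, Finset.card_univ]

/-- case `2 ∉ π`: two odd primes `p < q` of `π` -/
theorem not_hall_caseA {π : Set ℕ} (h2 : 2 ∉ π) {p q : ℕ} (hp : p.Prime) (hq : q.Prime)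
    (hpq : p < q) (hpπ : p ∈ π) (hqπ : q ∈ π) : ¬ IsEPiGroup π (Equiv.Perm (Fin q)) := by
  rintro ⟨H, hH⟩
  obtain ⟨σ, hσH, hσc, hσs⟩ := exists_full_cycle hq hqπ hH
  haveI := isPretransitive_of_full_cycle hσH hσc hσs
  have hprim : MulAction.IsPreprimitive H (Fin q) :=
    MulAction.IsPreprimitive.of_prime_card (by
      rw [Nat.card_eq_fintype_card, Fintype.card_fin]; exact hq)
  have hp2 := hp.two_le
  haveI : NeZero q := ⟨hq.ne_zero⟩
  obtain ⟨i, hi⟩ : ∃ i : Fin q, (i : ℕ) = p - 1 := ⟨⟨p - 1, by omega⟩, rfl⟩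
  have hi0 : i ≠ 0 := by
    intro h
    rw [h] at hi
    simp at hi
    omega
  have hτc := Fin.isCycle_cycleRange hi0
  have hτt := Fin.cycleType_cycleRange hi0
  have hip : (i : ℕ) + 1 = p := by omega
  rw [hip] at hτt
  have hτo : orderOf (Fin.cycleRange i) = p ^ 1 := by
    rw [← Equiv.Perm.lcm_cycleType, hτt, Multiset.lcm_singleton, pow_one]
    simp
  have hτs : (Fin.cycleRange i).support.card = p := by
    rw [← Equiv.Perm.sum_cycleType, hτt, Multiset.sum_singleton]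
  obtain ⟨g, hg⟩ := exists_conj_mem_of_hall hH hp hpπ _ ⟨1, hτo⟩
  obtain ⟨τ, hτ⟩ : ∃ τ, τ = g⁻¹ * Fin.cycleRange i * g := ⟨_, rfl⟩
  rw [← hτ] at hg
  have hτc' : τ.IsCycle := by
    have := hτc.conj (g := g⁻¹)
    rwa [inv_inv, ← hτ] at this
  have hτcard : τ.support.card = p := by
    have := Equiv.Perm.card_support_conj (σ := g⁻¹) (τ := Fin.cycleRange i)
    rw [inv_inv, ← hτ] at this
    rw [this, hτs]
  have htrans := Equiv.Perm.isPretransitive_of_isCycle_mem hτc' hg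
  have h2t : MulAction.IsMultiplyPretransitive H (Fin q) 2 :=
    hprim.is_two_pretransitive (s := (↑τ.support : Set (Fin q))ᶜ) (n := q - p - 1) (by
      rw [Set.ncard_compl, Set.ncard_coe_finset, hτcard, Nat.card_eq_fintype_card,
        Fintype.card_fin]
      omega) (by
      rw [Nat.card_eq_fintype_card, Fintype.card_fin]
      omega) htrans
  rw [MulAction.is_two_pretransitive_iff] at h2t
  obtain ⟨a, b, hab⟩ : ∃ a b : Fin q, a ≠ b :=
    ⟨⟨0, by omega⟩, ⟨1, by omega⟩, by simp [Fin.ext_iff]⟩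
  obtain ⟨h, h1, h2'⟩ := h2t hab hab.symm
  have heven := two_dvd_card_of_interchange h hab h1 h2'
  exact h2 (hH.1 2 Nat.prime_two heven)

/-- case `2 ∈ π`, `3 ∉ π`: a prime `q ≥ 5` of `π` -/
theorem not_hall_caseB {π : Set ℕ} (h2 : 2 ∈ π) (h3 : 3 ∉ π) {q : ℕ} (hq : q.Prime)
    (hq5 : 5 ≤ q) (hqπ : q ∈ π) : ¬ IsEPiGroup π (Equiv.Perm (Fin q)) := by
  rintro ⟨H, hH⟩
  obtain ⟨σ, hσH, hσc, hσs⟩ := exists_full_cycle hq hqπ hH
  obtain ⟨a, b, hab⟩ : ∃ a b : Fin q, a ≠ b :=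
    ⟨⟨0, by omega⟩, ⟨1, by omega⟩, by simp [Fin.ext_iff]⟩
  have hsw : (Equiv.swap a b).IsSwap := ⟨a, b, hab, rfl⟩
  have ho : orderOf (Equiv.swap a b) = 2 ^ 1 := by rw [hsw.orderOf, pow_one]
  obtain ⟨g, hg⟩ := exists_conj_mem_of_hall hH Nat.prime_two h2 _ ⟨1, ho⟩
  have hτ : (g⁻¹ * Equiv.swap a b * g).IsSwap := by
    refine ⟨g⁻¹ a, g⁻¹ b, fun h => hab (g⁻¹.injective h), ?_⟩
    rw [Equiv.mul_swap_eq_swap_mul, mul_assoc, inv_mul_cancel, mul_one]
  have hcl := Equiv.Perm.closure_prime_cycle_swap (by rw [Fintype.card_fin]; exact hq) hσc hσs hτ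
  have htop : H = ⊤ := by
    rw [eq_top_iff, ← hcl, Subgroup.closure_le]
    intro x hx
    rcases hx with rfl | rfl
    · exact hσH
    · exact hg
  have hcard : Nat.card H = q.factorial := by
    rw [htop, Subgroup.card_top, Nat.card_perm, Nat.card_eq_fintype_card, Fintype.card_fin]
  have h3d : 3 ∣ Nat.card H := by
    rw [hcard]
    exact Nat.dvd_factorial (by norm_num) (by omega)
  exact h3 (hH.1 3 Nat.prime_three h3d)

end Cfsg.Agent.Helper17.HallAll
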