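import Mathlib
import Cfsg.Agent.Lib.Helper17.HallAll2

/-!
# Symmetric groups without Hall subgroups: the case of a least missing prime `≥ 5` (helper17)
-/

set_option autoImplicit false

namespace Cfsg.Agent.Helper17.HallAll

open Cfsg

/-- the symmetric group of degree `r + 1 ≥ 6` has no subgroup of index `r` -/
theorem no_index_r {r : ℕ} (hr5 : 5 ≤ r) (H : Subgroup (Equiv.Perm (Fin (r + 1))))
    (hidx : H.index = r) : False := by
  have hcardα : Nat.card (Fin (r + 1)) = r + 1 := by
    rw [Nat.card_eq_fintype_card, Fintype.card_fin]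
  by_cases hK : Nontrivial H.normalCore
  · have hle : alternatingGroup (Fin (r + 1)) ≤ H :=
      (Equiv.Perm.alternatingGroup_le_of_normal (by rw [hcardα]; omega) hK).trans
        (Subgroup.normalCore_le H)
    have hd := Subgroup.index_dvd_of_le hle
    haveI : Nontrivial (Fin (r + 1)) := Fin.nontrivial_iff_two_le.2 (by omega)
    rw [alternatingGroup.index_eq_two, hidx] at hd
    have := Nat.le_of_dvd (by norm_num) hd
    omega
  · rw [Subgroup.nontrivial_iff_ne_bot, not_not, Subgroup.normalCore_eq_ker] at hK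
    have hinj : Function.Injective (MulAction.toPermHom (Equiv.Perm (Fin (r + 1)))
        (Equiv.Perm (Fin (r + 1)) ⧸ H)) := (MonoidHom.ker_eq_bot_iff _).1 hK
    have hfin : Finite (Equiv.Perm (Fin (r + 1)) ⧸ H) := by
      apply Nat.finite_of_card_ne_zero
      rw [← Subgroup.index_eq_card, hidx]
      omega
    have h1 := Nat.card_le_card_of_injective _ hinj
    rw [Nat.card_perm, Nat.card_perm, hcardα, ← Subgroup.index_eq_card, hidx,
      Nat.factorial_succ] at h1
    have hpos : 0 < r.factorial := Nat.factorial_pos r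
    nlinarith

/-- case: the least prime `r ∉ π` is at least `5` -/
theorem not_hall_caseC {π : Set ℕ} {r : ℕ} (hr : r.Prime) (hr5 : 5 ≤ r) (hrπ : r ∉ π)
    (hlt : ∀ s : ℕ, s.Prime → s < r → s ∈ π) : ¬ IsEPiGroup π (Equiv.Perm (Fin (r + 1))) := by
  rintro ⟨H, hH⟩
  have hcardG : Nat.card (Equiv.Perm (Fin (r + 1))) = (r + 1).factorial := by
    rw [Nat.card_perm, Nat.card_eq_fintype_card, Fintype.card_fin]
  have hmul : Nat.card H * H.index = (r + 1).factorial := by
    rw [← hcardG]; exact Subgroup.card_mul_index H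
  have hfpos : 0 < (r + 1).factorial := Nat.factorial_pos _
  have hidx0 : H.index ≠ 0 := by
    intro h0
    rw [h0, mul_zero] at hmul
    omega
  -- `r` does not divide the order of `H`
  have hrH : ¬ r ∣ Nat.card H := fun h => hrπ (hH.1 r hr h)
  -- every prime divisor of the index is `r`
  have hprime : ∀ {d : ℕ}, d.Prime → d ∣ H.index → d = r := by
    intro d hd hdi
    have hdf : d ∣ (r + 1).factorial := by
      rw [← hmul]; exact Dvd.dvd.mul_left hdi _
    have hle : d ≤ r + 1 := (hd.dvd_factorial).1 hdf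
    by_contra hne
    have hodd : ¬ 2 ∣ r := by
      intro h2
      have := (Nat.prime_dvd_prime_iff_eq Nat.prime_two hr).1 h2
      omega
    have hdne : d ≠ r + 1 := by
      intro h
      rw [h] at hd
      have h2 : 2 ∣ r + 1 := by omega
      have := (Nat.prime_dvd_prime_iff_eq Nat.prime_two hd).1 h2
      omega
    have hdlt : d < r := by omega
    exact hH.2 d hd (hlt d hd hdlt) hdi
  have hpow := Nat.eq_prime_pow_of_unique_prime_dvd hidx0 hprime
  obtain ⟨j, hj⟩ : ∃ j, H.index = r ^ j := ⟨_, hpow⟩
  -- `r ^ 2` does not divide `(r + 1)!`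
  have hsq : ¬ r ^ 2 ∣ (r + 1).factorial := by
    intro h
    have hr1 : r - 1 + 1 = r := by omega
    have e : (r + 1).factorial = r * ((r + 1) * (r - 1).factorial) := by
      rw [Nat.factorial_succ, ← hr1, Nat.factorial_succ, hr1]
      ring
    rw [e, pow_two] at h
    have h2 := Nat.dvd_of_mul_dvd_mul_left hr.pos h
    rcases (Nat.Prime.dvd_mul hr).1 h2 with h3 | h3
    · have := (Nat.dvd_add_right (dvd_refl r)).1 h3
      have := Nat.le_of_dvd (by norm_num) this
      omega
    · have := (hr.dvd_factorial).1 h3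
      omega
  have hj1 : j ≤ 1 := by
    by_contra hj2
    apply hsq
    have : r ^ 2 ∣ r ^ j := pow_dvd_pow r (by omega)
    rw [← hj] at this
    rw [← hmul]
    exact Dvd.dvd.mul_left this _
  have hrdvd : r ∣ (r + 1).factorial := (hr.dvd_factorial).2 (by omega)
  rcases Nat.eq_zero_or_pos j with h0 | h0
  · rw [h0, pow_zero] at hj
    rw [hj, mul_one] at hmul
    rw [← hmul] at hrdvd
    exact hrH hrdvd
  · have hj' : j = 1 := by omega
    rw [hj', pow_one] at hj
    exact no_index_r hr5 H hj

end Cfsg.Agent.Helper17.HallAll
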