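import Mathlib
import Cfsg.Agent.Lib.Helper17.HallAll3

/-!
# Hall properties in all finite groups (helper17)
-/

set_option autoImplicit false

namespace Cfsg.Agent.Helper17.HallAll

open Cfsg
open scoped Pointwise

/-- the condition on `π` -/
def Small (π : Set ℕ) : Prop :=
  (∀ p q : ℕ, p.Prime → q.Prime → p ∈ π → q ∈ π → p = q) ∨ ∀ p : ℕ, p.Prime → p ∈ π

theorem isPiSubgroup_iff_isPGroup {π : Set ℕ}
    (h : ∀ p q : ℕ, p.Prime → q.Prime → p ∈ π → q ∈ π → p = q) {p : ℕ} (hp : p.Prime) (hpπ : p ∈ π)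
    {G : Type*} [Group G] [Finite G] (L : Subgroup G) : IsPiSubgroup π L ↔ IsPGroup p L := by
  haveI : Fact p.Prime := ⟨hp⟩
  constructor
  · intro hL
    have hne : Nat.card L ≠ 0 := Nat.card_pos.ne'
    have := Nat.eq_prime_pow_of_unique_prime_dvd hne
      (fun {d} hd hdd => h d p hd hp (hL d hd hdd) hpπ)
    exact IsPGroup.of_card this
  · intro hL d hd hdd
    obtain ⟨k, hk⟩ := IsPGroup.exists_card_eq hL
    rw [hk] at hdd
    have := (Nat.prime_dvd_prime_iff_eq hd hp).1 (hd.dvd_of_dvd_pow hdd)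
    rw [this]
    exact hpπ

theorem conj_smul_eq_map {G : Type*} [Group G] (g : G) (H : Subgroup G) :
    MulAut.conj g • H = H.map (MulAut.conj g).toMonoidHom := rfl

theorem epi_of_small {π : Set ℕ} (h : Small π) (G : Type*) [Group G] [Finite G] :
    IsEPiGroup π G := by
  rcases h with h | h
  · by_cases hex : ∃ p, p.Prime ∧ p ∈ π
    · obtain ⟨p, hp, hpπ⟩ := hex
      haveI : Fact p.Prime := ⟨hp⟩
      obtain ⟨P⟩ : Nonempty (Sylow p G) := inferInstance
      refine ⟨P, ?_, ?_⟩
      · exact (isPiSubgroup_iff_isPGroup h hp hpπ (P : Subgroup G)).2 P.isPGroup'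
      · intro d hd hdπ
        rw [h d p hd hp hdπ hpπ]
        exact P.not_dvd_index
    · refine ⟨⊥, ?_, ?_⟩
      · intro d hd hdd
        rw [Subgroup.card_bot] at hdd
        exact absurd (Nat.dvd_one.1 hdd) hd.one_lt.ne'
      · intro d hd hdπ
        exact absurd ⟨d, hd, hdπ⟩ hex
  · refine ⟨⊤, fun d hd _ => h d hd, ?_⟩
    intro d hd _ hdd
    rw [Subgroup.index_top] at hdd
    exact absurd (Nat.dvd_one.1 hdd) hd.one_lt.ne'

theorem dpi_of_small {π : Set ℕ} (h : Small π) (G : Type*) [Group G] [Finite G] :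
    IsDPiGroup π G := by
  intro H K hH hK
  rcases h with h | h
  · by_cases hex : ∃ p, p.Prime ∧ p ∈ π
    · obtain ⟨p, hp, hpπ⟩ := hex
      haveI : Fact p.Prime := ⟨hp⟩
      have syl : ∀ L : Subgroup G, Maximal (IsPiSubgroup π) L →
          ∃ P : Sylow p G, (P : Subgroup G) = L := by
        intro L hL
        have hLp : IsPGroup p L := (isPiSubgroup_iff_isPGroup h hp hpπ L).1 hL.prop
        obtain ⟨P, hP⟩ := hLp.exists_le_sylow
        have hle : (P : Subgroup G) ≤ L :=
          hL.le_of_ge ((isPiSubgroup_iff_isPGroup h hp hpπ (P : Subgroup G)).2 P.isPGroup') hP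
        exact ⟨P, le_antisymm hle hP⟩
      obtain ⟨P, rfl⟩ := syl H hH
      obtain ⟨Q, rfl⟩ := syl K hK
      obtain ⟨g, hg⟩ := MulAction.exists_smul_eq G P Q
      refine ⟨g, ?_⟩
      rw [← hg, Sylow.coe_subgroup_smul, conj_smul_eq_map]
    · have triv : ∀ L : Subgroup G, IsPiSubgroup π L → L = ⊥ := by
        intro L hL
        rw [← Subgroup.card_eq_one]
        by_contra hne
        obtain ⟨p, hp, hpd⟩ := Nat.exists_prime_and_dvd hne
        exact hex ⟨p, hp, hL p hp hpd⟩
      rw [triv H hH.prop, triv K hK.prop]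
      exact ⟨1, (Subgroup.map_bot _).symm⟩
  · have top : ∀ L : Subgroup G, Maximal (IsPiSubgroup π) L → L = ⊤ :=
      fun L hL => top_le_iff.1 (hL.le_of_ge (fun p hp _ => h p hp) le_top)
    rw [top H hH, top K hK]
    refine ⟨1, ?_⟩
    rw [map_one]
    exact (Subgroup.map_id _).symm

theorem epi_of_dpi {π : Set ℕ} {G : Type*} [Group G] [Finite G] (h : IsDPiGroup π G) :
    IsEPiGroup π G := by
  have hbot : IsPiSubgroup π (⊥ : Subgroup G) := by
    intro p hp hd
    rw [Subgroup.card_bot] at hd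
    exact absurd (Nat.dvd_one.1 hd) hp.one_lt.ne'
  obtain ⟨M, -, hM⟩ := Finite.exists_le_maximal hbot
  refine ⟨M, hM.prop, ?_⟩
  intro p hp hpπ hd
  haveI : Fact p.Prime := ⟨hp⟩
  obtain ⟨P⟩ : Nonempty (Sylow p G) := inferInstance
  have hPπ : IsPiSubgroup π (P : Subgroup G) := by
    intro d hdp hdd
    obtain ⟨k, hk⟩ := IsPGroup.exists_card_eq P.isPGroup'
    rw [hk] at hdd
    have := (Nat.prime_dvd_prime_iff_eq hdp hp).1 (hdp.dvd_of_dvd_pow hdd)
    rw [this]
    exact hpπ
  obtain ⟨N, hPN, hN⟩ := Finite.exists_le_maximal hPπ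
  obtain ⟨g, hg⟩ := h M N hM hN
  have hcard : Nat.card N = Nat.card M := by
    rw [hg]
    exact Subgroup.card_map_of_injective (MulAut.conj g).injective
  have h1 : Nat.card (P : Subgroup G) ∣ Nat.card M := by
    rw [← hcard]
    exact Subgroup.card_dvd_of_le hPN
  rw [P.card_eq_multiplicity] at h1
  have h2 : p ^ ((Nat.card G).factorization p + 1) ∣ Nat.card M * M.index := by
    rw [pow_succ]
    exact Nat.mul_dvd_mul h1 hd
  rw [Subgroup.card_mul_index] at h2
  exact Nat.pow_succ_factorization_not_dvd Nat.card_pos.ne' hp h2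

/-- the main direction: Hall subgroups in all symmetric groups force `π` to be small -/
theorem small_of_epi {π : Set ℕ}
    (hE : ∀ (G : Type) [Group G] [Finite G], IsEPiGroup π G) : Small π := by
  classical
  by_contra hne
  unfold Small at hne
  rw [not_or] at hne
  obtain ⟨h1, h2⟩ := hne
  push Not at h1 h2
  obtain ⟨p, q, hp, hq, hpπ, hqπ, hpq⟩ := h1
  have hex : ∃ r, r.Prime ∧ r ∉ π := h2
  obtain ⟨r, hr⟩ : ∃ r, r = Nat.find hex := ⟨_, rfl⟩
  have hrspec : r.Prime ∧ r ∉ π := hr ▸ Nat.find_spec hex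
  have hrmin : ∀ s : ℕ, s.Prime → s < r → s ∈ π := by
    intro s hs hsr
    by_contra hsπ
    exact Nat.find_min hex (hr ▸ hsr) ⟨hs, hsπ⟩
  by_cases hr2 : r = 2
  · -- both primes are odd
    rw [hr2] at hrspec
    rcases Nat.lt_or_gt_of_ne hpq with hlt | hlt
    · exact not_hall_caseA hrspec.2 hp hq hlt hpπ hqπ (hE _)
    · exact not_hall_caseA hrspec.2 hq hp hlt hqπ hpπ (hE _)
  · have h2π : 2 ∈ π := hrmin 2 Nat.prime_two (by have := hrspec.1.two_le; omega)
    by_cases hr3 : r = 3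
    · rw [hr3] at hrspec
      -- one of the two primes is at least 5
      obtain ⟨q', hq', hq'π, hq'2⟩ : ∃ q', q'.Prime ∧ q' ∈ π ∧ q' ≠ 2 := by
        by_cases hp2 : p = 2
        · exact ⟨q, hq, hqπ, fun h => hpq (by rw [hp2, h])⟩
        · exact ⟨p, hp, hpπ, hp2⟩
      have hq'3 : q' ≠ 3 := fun h => hrspec.2 (h ▸ hq'π)
      have hq'5 : 5 ≤ q' := by
        have h2le := hq'.two_le
        by_contra hlt
        have : q' = 4 := by omega
        rw [this] at hq'
        norm_num at hq'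
      exact not_hall_caseB h2π hrspec.2 hq' hq'5 hq'π (hE _)
    · have hr5 : 5 ≤ r := by
        have h2le := hrspec.1.two_le
        by_contra hlt
        have : r = 4 := by omega
        rw [this] at hrspec
        exact absurd hrspec.1 (by norm_num)
      exact not_hall_caseC hrspec.1 hr5 hrspec.2 hrmin (hE _)

end Cfsg.Agent.Helper17.HallAll
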