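import Mathlib

/-!
# Quadratic equations over the fixed field of an involution (helper17)

`F` is a finite field of characteristic two, `φ` an involutive endomorphism, `K = Fix φ`.
For a map `g` which is an involutive automorphism of `K`, different from the identity, every
quadratic `X² + βX + γ` with `β, γ ∈ Fix g` has a root in `K`.
-/

set_option autoImplicit false

namespace Cfsg.Agent.Helper17.HeisAut

section Field

variable {F : Type*} [Field F] [CharP F 2] (φ : F →+* F)

theorem add_self' (x : F) : x + x = 0 := CharTwo.add_self_eq_zero x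

theorem eq_of_add_eq_zero' {x y : F} (h : x + y = 0) : x = y := by
  have := add_self' y
  linear_combination h - this

theorem sq_inj' {x y : F} (h : x * x = y * y) : x = y := by
  have h1 : (x + y) * (x + y) = 0 := by
    have := add_self' (x * y)
    linear_combination h + this + add_self' (y * y)
  have h2 : x + y = 0 := by
    rcases mul_eq_zero.1 h1 with h2 | h2 <;> exact h2
  exact eq_of_add_eq_zero' h2

/-- the fixed field as an additive subgroup -/
def fixK : AddSubgroup F where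
  carrier := {x | φ x = x}
  zero_mem' := map_zero φ
  add_mem' := by
    intro a b ha hb
    show φ (a + b) = a + b
    rw [map_add, ha, hb]
  neg_mem' := by
    intro a ha
    show φ (-a) = -a
    rw [map_neg, ha]

theorem mem_fixK {x : F} : x ∈ fixK φ ↔ φ x = x := Iff.rfl

/-- the Artin-Schreier map on the fixed field -/
def wp : fixK φ →+ fixK φ where
  toFun x := ⟨x.1 * x.1 + x.1, by
    have := x.2
    rw [mem_fixK] at this ⊢
    rw [map_add, map_mul, this]⟩
  map_zero' := by
    apply Subtype.ext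
    simp
  map_add' x y := by
    apply Subtype.ext
    show (x.1 + y.1) * (x.1 + y.1) + (x.1 + y.1) = x.1 * x.1 + x.1 + (y.1 * y.1 + y.1)
    have := add_self' (x.1 * y.1)
    linear_combination this

theorem wp_apply (x : fixK φ) : ((wp φ x : fixK φ) : F) = x.1 * x.1 + x.1 := rfl

theorem card_ker_wp [Finite F] : Nat.card (wp φ).ker = 2 := by
  rw [Nat.card_eq_two_iff]
  have h0 : (0 : fixK φ) ∈ (wp φ).ker := (wp φ).ker.zero_mem
  have h1 : (⟨1, by rw [mem_fixK, map_one]⟩ : fixK φ) ∈ (wp φ).ker := by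
    rw [AddMonoidHom.mem_ker]
    apply Subtype.ext
    rw [wp_apply]
    show (1 : F) * 1 + 1 = 0
    rw [mul_one]; exact add_self' 1
  refine ⟨⟨0, h0⟩, ⟨_, h1⟩, ?_, ?_⟩
  · intro h
    have h2 := congrArg (fun t : (wp φ).ker => ((t : fixK φ) : F)) h
    simp at h2
  · ext x
    simp only [Set.mem_insert_iff, Set.mem_singleton_iff, Set.mem_univ, iff_true]
    have hx := x.2
    rw [AddMonoidHom.mem_ker] at hx
    have h2 := congrArg (fun t : fixK φ => (t : F)) hx
    simp only [wp_apply] at h2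
    have h3 : (x.1.1) * (x.1.1 + 1) = 0 := by
      have : ((0 : fixK φ) : F) = 0 := rfl
      rw [this] at h2
      linear_combination h2
    rcases mul_eq_zero.1 h3 with h4 | h4
    · left
      apply Subtype.ext
      apply Subtype.ext
      exact h4
    · right
      apply Subtype.ext
      apply Subtype.ext
      exact eq_of_add_eq_zero' h4

theorem index_range_wp [Finite F] : (wp φ).range.index = 2 := by
  have h1 := AddSubgroup.card_mul_index (wp φ).ker
  rw [AddSubgroup.index_ker, card_ker_wp] at h1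
  have h2 := AddSubgroup.card_mul_index (wp φ).range
  have h3 : Nat.card (wp φ).range ≠ 0 := Nat.card_pos.ne'
  have h4 : Nat.card (wp φ).range * (wp φ).range.index = Nat.card (wp φ).range * 2 := by
    rw [h2, ← h1, mul_comm]
  exact Nat.eq_of_mul_eq_mul_left (Nat.pos_of_ne_zero h3) h4

variable (g : F → F) (hgadd : ∀ s t, φ s = s → φ t = t → g (s + t) = g s + g t)
  (hgmul : ∀ s t, φ s = s → φ t = t → g (s * t) = g s * g t)
  (hgK : ∀ s, φ s = s → φ (g s) = g s) (hgg : ∀ s, φ s = s → g (g s) = s)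

include hgadd hgmul hgK hgg in
/-- `ν + g ν` is in the image of the Artin-Schreier map of `K` -/
theorem exists_wp_of_trace [Finite F] {ν : F} (hν : φ ν = ν) :
    ∃ η : F, φ η = η ∧ η * η + η = ν + g ν := by
  have hidx := index_range_wp φ
  have key : ∀ x : F, φ x = x → (∃ η : F, φ η = η ∧ η * η + η = x) →
      ∃ η : F, φ η = η ∧ η * η + η = g x := by
    rintro x hx ⟨η, hη, rfl⟩
    refine ⟨g η, hgK η hη, ?_⟩
    rw [hgadd _ _ (by rw [map_mul, hη]) hη, hgmul _ _ hη hη]
  have mem_iff : ∀ x : F, ∀ hx : φ x = x, (⟨x, hx⟩ : fixK φ) ∈ (wp φ).range ↔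
      ∃ η : F, φ η = η ∧ η * η + η = x := by
    intro x hx
    rw [AddMonoidHom.mem_range]
    constructor
    · rintro ⟨y, hy⟩
      refine ⟨y.1, y.2, ?_⟩
      have := congrArg (fun t : fixK φ => (t : F)) hy
      simpa [wp_apply] using this
    · rintro ⟨η, hη, h⟩
      refine ⟨⟨η, hη⟩, ?_⟩
      apply Subtype.ext
      rw [wp_apply]
      exact h
  have hgν := hgK ν hν
  have hsK : φ (ν + g ν) = ν + g ν := by rw [map_add, hν, hgν]
  have hsum : (⟨ν + g ν, hsK⟩ : fixK φ)
      = (⟨ν, hν⟩ : fixK φ) + ⟨g ν, hgν⟩ := rfl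
  rw [← mem_iff (ν + g ν) hsK, hsum,
    AddSubgroup.add_mem_iff_of_index_two hidx, mem_iff, mem_iff]
  constructor
  · exact key ν hν
  · intro h
    have := key (g ν) hgν h
    rwa [hgg ν hν] at this

include hgadd hgmul hgK hgg in
/-- quadratics with coefficients fixed by `g` have a root in `K` -/
theorem exists_root [Finite F] (hg1 : g 1 = 1) {θ : F} (hθ : φ θ = θ) (hθg : g θ ≠ θ)
    {β γ : F} (hβ : φ β = β) (hβg : g β = β) (hγ : φ γ = γ) (hγg : g γ = γ) :
    ∃ ξ : F, φ ξ = ξ ∧ ξ * ξ + β * ξ + γ = 0 := by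
  classical
  by_cases hβ0 : β = 0
  · -- a square root
    have hsurj : Function.Surjective (fun x : F => x * x) :=
      Finite.surjective_of_injective (fun x y h => sq_inj' h)
    obtain ⟨ξ, hξ⟩ := hsurj γ
    simp only at hξ
    refine ⟨ξ, ?_, ?_⟩
    · apply sq_inj'
      rw [← map_mul, hξ, hγ]
    · rw [hβ0, hξ, zero_mul, add_zero]
      exact add_self' γ
  · -- Artin-Schreier
    have hinv : ∀ x : F, φ x = x → g x = x → x ≠ 0 → g x⁻¹ = x⁻¹ := by
      intro x hx hgx hx0
      have hxi : φ x⁻¹ = x⁻¹ := by rw [map_inv₀, hx]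
      have h1 := hgmul x x⁻¹ hx hxi
      rw [mul_inv_cancel₀ hx0, hg1, hgx] at h1
      exact eq_inv_of_mul_eq_one_right h1.symm
    -- an element with trace one
    obtain ⟨ρ, hρ⟩ : ∃ ρ : F, ρ = θ + g θ := ⟨_, rfl⟩
    have hgθ := hgK θ hθ
    have hρK : φ ρ = ρ := by rw [hρ, map_add, hθ, hgθ]
    have hρg : g ρ = ρ := by
      rw [hρ, hgadd _ _ hθ hgθ, hgg θ hθ, add_comm]
    have hρ0 : ρ ≠ 0 := by
      intro h
      rw [hρ] at h
      exact hθg (eq_of_add_eq_zero' h).symm
    have hρi := hinv ρ hρK hρg hρ0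
    have hρiK : φ ρ⁻¹ = ρ⁻¹ := by rw [map_inv₀, hρK]
    -- δ = γ / β²
    obtain ⟨δ, hδ⟩ : ∃ δ : F, δ = γ * (β⁻¹ * β⁻¹) := ⟨_, rfl⟩
    have hβi := hinv β hβ hβg hβ0
    have hβiK : φ β⁻¹ = β⁻¹ := by rw [map_inv₀, hβ]
    have hδK : φ δ = δ := by rw [hδ, map_mul, map_mul, hγ, hβiK]
    have hδg : g δ = δ := by
      rw [hδ, hgmul _ _ hγ (by rw [map_mul, hβiK]), hgmul _ _ hβiK hβiK, hγg, hβi]
    -- ν = δ θ / ρ has ν + g ν = δ
    obtain ⟨ν, hν⟩ : ∃ ν : F, ν = δ * (θ * ρ⁻¹) := ⟨_, rfl⟩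
    have hνK : φ ν = ν := by rw [hν, map_mul, map_mul, hδK, hθ, hρiK]
    have hgν : g ν = δ * (g θ * ρ⁻¹) := by
      rw [hν, hgmul _ _ hδK (by rw [map_mul, hθ, hρiK]), hgmul _ _ hθ hρiK, hδg, hρi]
    obtain ⟨η, hη, h⟩ := exists_wp_of_trace φ g hgadd hgmul hgK hgg hνK
    have h2 : ν + g ν = δ := by
      rw [hgν, hν]
      have : δ * (θ * ρ⁻¹) + δ * (g θ * ρ⁻¹) = δ * (ρ * ρ⁻¹) := by rw [hρ]; ring
      rw [this, mul_inv_cancel₀ hρ0, mul_one]
    rw [h2] at h
    refine ⟨β * η, by rw [map_mul, hβ, hη], ?_⟩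
    have h3 : β * η * (β * η) + β * (β * η) + γ = β * β * (η * η + η) + γ := by ring
    rw [h3, h, hδ]
    have h4 : β * β * (γ * (β⁻¹ * β⁻¹)) = γ := by field_simp
    rw [h4]
    exact add_self' γ

end Field

end Cfsg.Agent.Helper17.HeisAut
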