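import Mathlib
import Cfsg.Agent.Lib.Helper17.HeisAut1
import Cfsg.Agent.Lib.Helper11.UnitaryHeis

/-!
# Involutory semisimilarities of the norm form of a quadratic extension in characteristic two
(helper17)

`A : F →+ F` and `C : K → K` additive involutions with `C (N a) = N (A a)`, `N a = a φ a`:
then `C` is the identity.
-/

set_option autoImplicit false

namespace Cfsg.Agent.Helper17.HeisAut

open Cfsg.Agent.Helper11.Herm

section Main

variable {F : Type*} [Field F] [Fintype F] [CharP F 2] {q : ℕ}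
  (hF : Fintype.card F = q ^ 2) (φ : F →+* F) (hφ : ∀ x, φ x = x ^ q)
  (A : F →+ F) (C : F → F)
  (hA2 : ∀ a, A (A a) = a)
  (hCadd : ∀ s t, φ s = s → φ t = t → C (s + t) = C s + C t)
  (hCK : ∀ s, φ s = s → φ (C s) = C s)
  (hC2 : ∀ s, φ s = s → C (C s) = s)
  (hN : ∀ a, C (a * φ a) = A a * φ (A a))

include hA2 in
theorem A_eq_zero {a : F} (h : A a = 0) : a = 0 := by
  rw [← hA2 a, h, map_zero]

include hCadd in
theorem C_zero : C 0 = 0 := by
  have h := hCadd 0 0 (map_zero φ) (map_zero φ)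
  rw [add_zero] at h
  have h2 := add_self' (C 0)
  rw [← h] at h2
  exact h2

include hCadd hC2 in
theorem C_eq_zero {s : F} (hs : φ s = s) (h : C s = 0) : s = 0 := by
  rw [← hC2 s hs, h, C_zero φ C hCadd]

include hF hφ in
theorem nm_fix (a : F) : φ (a * φ a) = a * φ a := by
  rw [map_mul, frob_frob hF φ hφ, mul_comm]

include hF hφ in
theorem tr_fix (a b : F) : φ (a * φ b + b * φ a) = a * φ b + b * φ a := by
  rw [map_add, map_mul, map_mul, frob_frob hF φ hφ, frob_frob hF φ hφ]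
  ring

include hF hφ in
theorem nm_eq_zero {a : F} (h : a * φ a = 0) : a = 0 := by
  rcases mul_eq_zero.1 h with h | h
  · exact h
  · rw [← frob_frob hF φ hφ a, h, map_zero]

include hF hφ hCadd hN in
/-- compatibility with the polar form -/
theorem tr_compat (a b : F) :
    C (a * φ b + b * φ a) = A a * φ (A b) + A b * φ (A a) := by
  have h1 := hN (a + b)
  have e1 : (a + b) * φ (a + b) = (a * φ a + b * φ b) + (a * φ b + b * φ a) := by
    rw [map_add]; ring
  rw [e1, hCadd _ _ (by rw [map_add, nm_fix hF φ hφ, nm_fix hF φ hφ]) (tr_fix hF φ hφ a b),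
    hCadd _ _ (nm_fix hF φ hφ a) (nm_fix hF φ hφ b), hN a, hN b, map_add, map_add] at h1
  linear_combination h1

include hF hφ in
/-- the lines `a K` are the radicals of the polar form -/
theorem line_iff {a : F} (ha : a ≠ 0) (b : F) :
    a * φ b + b * φ a = 0 ↔ ∃ l : F, φ l = l ∧ b = a * l := by
  constructor
  · intro h
    refine ⟨b * a⁻¹, ?_, by field_simp⟩
    have hφa : φ a ≠ 0 := fun h0 => ha (by rw [← frob_frob hF φ hφ a, h0, map_zero])
    rw [map_mul, map_inv₀]
    have h1 : a * φ b = b * φ a := eq_of_add_eq_zero' h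
    field_simp
    linear_combination h1
  · rintro ⟨l, hl, rfl⟩
    rw [map_mul, hl]
    have := add_self' (a * (φ a * l))
    linear_combination this

include hF hφ hA2 hCadd hC2 hN in
theorem A_line {a : F} (ha : a ≠ 0) (b : F) :
    (∃ l : F, φ l = l ∧ b = a * l) ↔ (∃ m : F, φ m = m ∧ A b = A a * m) := by
  have hAa : A a ≠ 0 := fun h => ha (A_eq_zero A hA2 h)
  rw [← line_iff hF φ hφ ha, ← line_iff hF φ hφ hAa, ← tr_compat hF φ hφ A C hCadd hN]
  constructor
  · intro h
    rw [h, C_zero φ C hCadd]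
  · intro h
    exact C_eq_zero φ C hCadd hC2 (tr_fix hF φ hφ a b) h

/-- the scalar factor -/
noncomputable def G (a l : F) : F := A (a * l) * (A a)⁻¹

include hF hφ hA2 hCadd hC2 hN in
theorem G_spec {a : F} (ha : a ≠ 0) {l : F} (hl : φ l = l) :
    φ (G A a l) = G A a l ∧ A (a * l) = A a * G A a l := by
  have hAa : A a ≠ 0 := fun h => ha (A_eq_zero A hA2 h)
  obtain ⟨m, hm, h⟩ := (A_line hF φ hφ A C hA2 hCadd hC2 hN ha (a * l)).1 ⟨l, hl, rfl⟩
  have : G A a l = m := by
    unfold G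
    rw [h]
    field_simp
  rw [this]
  exact ⟨hm, h⟩

include hF hφ hA2 hCadd hC2 hN in
theorem G_indep {a b : F} (ha : a ≠ 0) (hb : b ≠ 0) (hab : ¬ ∃ l : F, φ l = l ∧ b = a * l)
    {l : F} (hl : φ l = l) : G A a l = G A b l := by
  have hAa : A a ≠ 0 := fun h => ha (A_eq_zero A hA2 h)
  have hAb : A b ≠ 0 := fun h => hb (A_eq_zero A hA2 h)
  have hs : a + b ≠ 0 := by
    intro h
    apply hab
    refine ⟨1, map_one φ, ?_⟩
    rw [mul_one]
    exact (eq_of_add_eq_zero' h).symm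
  obtain ⟨ha1, ha2⟩ := G_spec hF φ hφ A C hA2 hCadd hC2 hN ha hl
  obtain ⟨hb1, hb2⟩ := G_spec hF φ hφ A C hA2 hCadd hC2 hN hb hl
  obtain ⟨hs1, hs2⟩ := G_spec hF φ hφ A C hA2 hCadd hC2 hN hs hl
  rw [add_mul, map_add, map_add, ha2, hb2] at hs2
  -- A a * x = A b * y
  have key : A a * (G A a l + G A (a + b) l) = A b * (G A b l + G A (a + b) l) := by
    have h1 := add_self' (A a * G A (a + b) l)
    have h2 := add_self' (A b * G A b l)
    linear_combination hs2 + h1 - h2
  by_cases hy : G A b l + G A (a + b) l = 0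
  · rw [hy, mul_zero] at key
    rcases mul_eq_zero.1 key with h | h
    · exact absurd h hAa
    · rw [eq_of_add_eq_zero' h, eq_of_add_eq_zero' hy]
  · exfalso
    apply hab
    rw [A_line hF φ hφ A C hA2 hCadd hC2 hN ha b]
    refine ⟨(G A a l + G A (a + b) l) * (G A b l + G A (a + b) l)⁻¹, ?_, ?_⟩
    · rw [map_mul, map_inv₀, map_add, map_add, ha1, hb1, hs1]
    · field_simp
      linear_combination -key

include hF hφ hA2 hCadd hC2 hN in
theorem G_const {a : F} (ha : a ≠ 0) {l : F} (hl : φ l = l) : G A a l = G A 1 l := by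
  -- an element outside the fixed field
  obtain ⟨w, hw⟩ : ∃ w : F, φ w ≠ w := by
    by_contra h
    push Not at h
    exact frob_ne_id hF φ hφ (RingHom.ext h)
  have hw0 : w ≠ 0 := by
    rintro rfl
    exact hw (map_zero φ)
  have h1w : ¬ ∃ l : F, φ l = l ∧ w = 1 * l := by
    rintro ⟨l, hl, h⟩
    rw [one_mul] at h
    rw [h] at hw
    exact hw hl
  by_cases hak : ∃ l : F, φ l = l ∧ a = 1 * l
  · obtain ⟨k, hk, rfl⟩ := hak
    rw [one_mul] at ha ⊢
    have hkw : ¬ ∃ l : F, φ l = l ∧ w = k * l := by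
      rintro ⟨l, hl, h⟩
      apply hw
      rw [h, map_mul, hk, hl]
    rw [G_indep hF φ hφ A C hA2 hCadd hC2 hN ha hw0 hkw hl,
      ← G_indep hF φ hφ A C hA2 hCadd hC2 hN one_ne_zero hw0 h1w hl]
  · exact (G_indep hF φ hφ A C hA2 hCadd hC2 hN one_ne_zero ha hak hl).symm

include hF hφ hA2 hCadd hC2 hN in
/-- semilinearity -/
theorem semilin (a : F) {l : F} (hl : φ l = l) : A (a * l) = A a * G A 1 l := by
  by_cases ha : a = 0
  · rw [ha, zero_mul, map_zero, zero_mul]
  · rw [← G_const hF φ hφ A C hA2 hCadd hC2 hN ha hl]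
    exact (G_spec hF φ hφ A C hA2 hCadd hC2 hN ha hl).2

include hF hφ hA2 hCadd hC2 hN in
theorem g_fix {l : F} (hl : φ l = l) : φ (G A 1 l) = G A 1 l :=
  (G_spec hF φ hφ A C hA2 hCadd hC2 hN one_ne_zero hl).1

include hA2 in
theorem A_one_ne_zero : A 1 ≠ 0 := fun h => one_ne_zero (A_eq_zero A hA2 h)

include hA2 in
theorem g_add (s t : F) : G A 1 (s + t) = G A 1 s + G A 1 t := by
  unfold G
  rw [mul_add, map_add, add_mul]

include hF hφ hA2 hCadd hC2 hN in
theorem g_mul {s t : F} (hs : φ s = s) (ht : φ t = t) : G A 1 (s * t) = G A 1 s * G A 1 t := by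
  have h1 := semilin hF φ hφ A C hA2 hCadd hC2 hN (1 * s) ht
  have h2 := semilin hF φ hφ A C hA2 hCadd hC2 hN 1 hs
  have h3 := semilin hF φ hφ A C hA2 hCadd hC2 hN 1 (show φ (s * t) = s * t by rw [map_mul, hs, ht])
  rw [h2, mul_assoc, h3] at h1
  have := A_one_ne_zero A hA2
  apply mul_left_cancel₀ this
  rw [h1, mul_assoc]

include hA2 in
theorem g_one : G A 1 1 = 1 := by
  unfold G
  rw [mul_one, mul_inv_cancel₀ (A_one_ne_zero A hA2)]

include hF hφ hA2 hCadd hC2 hN in
theorem g_g {l : F} (hl : φ l = l) : G A 1 (G A 1 l) = l := by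
  have h1 := semilin hF φ hφ A C hA2 hCadd hC2 hN 1 hl
  have h2 := semilin hF φ hφ A C hA2 hCadd hC2 hN (A 1) (g_fix hF φ hφ A C hA2 hCadd hC2 hN hl)
  rw [← h1, hA2, hA2, one_mul, one_mul] at h2
  exact h2.symm

include hF hφ hA2 hCadd hC2 hN in
/-- `C` is `g` up to the constant `C 1` -/
theorem C_eq {m : F} (hm : φ m = m) : C m = C 1 * G A 1 m := by
  have hsurj : Function.Surjective (fun x : F => x * x) :=
    Finite.surjective_of_injective (fun x y h => sq_inj' h)
  obtain ⟨l, hl⟩ := hsurj m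
  simp only at hl
  have hlK : φ l = l := by
    apply sq_inj'
    rw [← map_mul, hl, hm]
  have h1 := hN l
  have h2 := semilin hF φ hφ A C hA2 hCadd hC2 hN 1 hlK
  rw [one_mul] at h2
  have h3 := hN 1
  rw [map_one, mul_one] at h3
  rw [hlK, hl, h2, map_mul, g_fix hF φ hφ A C hA2 hCadd hC2 hN hlK] at h1
  rw [h1, h3, ← hl, g_mul hF φ hφ A C hA2 hCadd hC2 hN hlK hlK]
  ring

end Main

end Cfsg.Agent.Helper17.HeisAut
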