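import Mathlib
import Cfsg.Agent.Lib.Helper17.HeisAut2

/-!
# Involutory semisimilarities of the norm form: `C` is the identity (helper17)
-/

set_option autoImplicit false

namespace Cfsg.Agent.Helper17.HeisAut

open Cfsg.Agent.Helper11.Herm

section Main

variable {F : Type*} [Field F] [Fintype F] [CharP F 2] {q : ℕ}
  (hF : Fintype.card F = q ^ 2) (φ : F →+* F) (hφ : ∀ x, φ x = x ^ q)
  (A : F →+ F) (C : F → F)
  (hA2 : ∀ a, A (A a) = a)
  (hCadd : ∀ s t, φ s = s → φ t = t → C (s + t) = C s + C t)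
  (hCK : ∀ s, φ s = s → φ (C s) = C s)
  (hC2 : ∀ s, φ s = s → C (C s) = s)
  (hN : ∀ a, C (a * φ a) = A a * φ (A a))

include hF hA2 in
/-- an additive involution in characteristic two has many fixed points -/
theorem card_fixed_ge : q ≤ Nat.card (A + AddMonoidHom.id F).ker := by
  set B : F →+ F := A + AddMonoidHom.id F with hB
  have hBB : ∀ x, B (B x) = 0 := by
    intro x
    simp only [hB, AddMonoidHom.add_apply, AddMonoidHom.id_apply, map_add, hA2]
    have := add_self' (A x + x)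
    linear_combination this
  have hle : B.range ≤ B.ker := by
    rintro _ ⟨x, rfl⟩
    exact hBB x
  have h1 := AddSubgroup.card_mul_index B.ker
  rw [AddSubgroup.index_ker] at h1
  have h2 : Nat.card B.range ≤ Nat.card B.ker := AddSubgroup.card_le_of_le hle
  have h3 : Nat.card F = q ^ 2 := by rw [Nat.card_eq_fintype_card, hF]
  rw [h3] at h1
  have h4 : q ^ 2 ≤ Nat.card B.ker ^ 2 := by
    rw [← h1, sq]
    exact Nat.mul_le_mul_left _ h2
  exact (Nat.pow_le_pow_iff_left (by norm_num)).1 h4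

include hF hφ hA2 hCadd hCK hC2 hN in
/-- the companion automorphism is trivial -/
theorem g_eq_id {t : F} (ht : φ t = t) : G A 1 t = t := by
  classical
  by_contra hgt
  have hφφ := frob_frob hF φ hφ
  -- a nonzero fixed vector
  have hcard := card_fixed_ge hF A hA2
  have hq := two_le_q hF
  obtain ⟨u, hu, hu0⟩ : ∃ u : F, A u = u ∧ u ≠ 0 := by
    by_contra h
    push Not at h
    have hbot : (A + AddMonoidHom.id F).ker = ⊥ := by
      rw [AddSubgroup.eq_bot_iff_forall]
      intro x hx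
      rw [AddMonoidHom.mem_ker, AddMonoidHom.add_apply, AddMonoidHom.id_apply] at hx
      exact h x (eq_of_add_eq_zero' hx)
    rw [hbot, AddSubgroup.card_bot] at hcard
    omega
  have hc0 : C 1 ≠ 0 := fun h => one_ne_zero (C_eq_zero φ C hCadd hC2 (map_one φ) h)
  have hCfix : ∀ w : F, φ w = w → C w = w → G A 1 w = (C 1)⁻¹ * w := by
    intro w hw hCw
    have := C_eq hF φ hφ A C hA2 hCadd hC2 hN hw
    rw [hCw] at this
    rw [eq_inv_mul_iff_mul_eq₀ hc0]
    exact this.symm
  have hw1 : u * φ u ≠ 0 := fun h => hu0 (nm_eq_zero hF φ hφ h)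
  have hw1K := nm_fix hF φ hφ u
  have hCw1 : C (u * φ u) = u * φ u := by rw [hN, hu]
  have hgw1 := hCfix _ hw1K hCw1
  have hginv : G A 1 (u * φ u)⁻¹ = C 1 * (u * φ u)⁻¹ := by
    have hK : φ (u * φ u)⁻¹ = (u * φ u)⁻¹ := by rw [map_inv₀, hw1K]
    have h1 := g_mul hF φ hφ A C hA2 hCadd hC2 hN hw1K hK
    rw [mul_inv_cancel₀ hw1, g_one A hA2, hgw1] at h1
    have h2 : G A 1 (u * φ u)⁻¹ = ((C 1)⁻¹ * (u * φ u))⁻¹ :=
      eq_inv_of_mul_eq_one_right h1.symm
    rw [h2, mul_inv, inv_inv]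
  -- every fixed vector is `u` times an element fixed by `φ` and `g`
  have key : ∀ v : F, A v = v → ∃ k : F, (φ k = k ∧ G A 1 k = k) ∧ v = u * k := by
    intro v hv
    have hK : φ (u * φ u)⁻¹ = (u * φ u)⁻¹ := by rw [map_inv₀, hw1K]
    have htK := tr_fix hF φ hφ u v
    have hCt : C (u * φ v + v * φ u) = u * φ v + v * φ u := by
      rw [tr_compat hF φ hφ A C hCadd hN, hu, hv]
    have hnK := nm_fix hF φ hφ v
    have hCn : C (v * φ v) = v * φ v := by rw [hN, hv]
    have hβK : φ ((u * φ v + v * φ u) * (u * φ u)⁻¹) = (u * φ v + v * φ u) * (u * φ u)⁻¹ := by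
      rw [map_mul, htK, hK]
    have hγK : φ ((v * φ v) * (u * φ u)⁻¹) = (v * φ v) * (u * φ u)⁻¹ := by
      rw [map_mul, hnK, hK]
    have hβg : G A 1 ((u * φ v + v * φ u) * (u * φ u)⁻¹) = (u * φ v + v * φ u) * (u * φ u)⁻¹ := by
      rw [g_mul hF φ hφ A C hA2 hCadd hC2 hN htK hK, hCfix _ htK hCt, hginv]
      field_simp
    have hγg : G A 1 ((v * φ v) * (u * φ u)⁻¹) = (v * φ v) * (u * φ u)⁻¹ := by
      rw [g_mul hF φ hφ A C hA2 hCadd hC2 hN hnK hK, hCfix _ hnK hCn, hginv]
      field_simp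
    obtain ⟨x, hxK, hx⟩ := exists_root φ (G A 1)
      (fun s t _ _ => g_add A hA2 s t)
      (fun s t hs ht => g_mul hF φ hφ A C hA2 hCadd hC2 hN hs ht)
      (fun s hs => g_fix hF φ hφ A C hA2 hCadd hC2 hN hs)
      (fun s hs => g_g hF φ hφ A C hA2 hCadd hC2 hN hs)
      (g_one A hA2) ht hgt hβK hβg hγK hγg
    have hnorm : (u * x + v) * φ (u * x + v) = 0 := by
      rw [map_add, map_mul, hxK]
      have e : (u * x + v) * (φ u * x + φ v) = (u * φ u) * (x * x
          + (u * φ v + v * φ u) * (u * φ u)⁻¹ * x + v * φ v * (u * φ u)⁻¹) := by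
        have hcancel : (u * φ u) * (u * φ u)⁻¹ = 1 := mul_inv_cancel₀ hw1
        linear_combination (-((u * φ v + v * φ u) * x) - v * φ v) * hcancel
      rw [e, hx, mul_zero]
    have hv' : v = u * x := (eq_of_add_eq_zero' (nm_eq_zero hF φ hφ hnorm)).symm
    refine ⟨x, ⟨hxK, ?_⟩, hv'⟩
    have h1 := semilin hF φ hφ A C hA2 hCadd hC2 hN u hxK
    rw [← hv', hv, hu, hv'] at h1
    exact (mul_left_cancel₀ hu0 h1).symm
  -- counting
  have h1 : Nat.card (A + AddMonoidHom.id F).ker ≤ Nat.card {k : F // φ k = k ∧ G A 1 k = k} := by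
    apply Nat.card_le_card_of_injective
      (fun v : (A + AddMonoidHom.id F).ker => (⟨v.1 * u⁻¹, by
        have hv : A v.1 = v.1 := by
          have := v.2
          rw [AddMonoidHom.mem_ker, AddMonoidHom.add_apply, AddMonoidHom.id_apply] at this
          exact eq_of_add_eq_zero' this
        obtain ⟨k, hk, hvk⟩ := key v.1 hv
        have : v.1 * u⁻¹ = k := by rw [hvk]; field_simp
        rw [this]; exact hk⟩ : {k : F // φ k = k ∧ G A 1 k = k}))
    intro v w hvw
    have := congrArg Subtype.val hvw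
    simp only at this
    apply Subtype.ext
    have h2 := congrArg (fun z => z * u) this
    simpa [hu0] using h2
  have h2 : Nat.card {k : F // φ k = k ∧ G A 1 k = k} < Nat.card {k : F // φ k = k} := by
    show Nat.card ↥{k : F | φ k = k ∧ G A 1 k = k} < Nat.card ↥{k : F | φ k = k}
    rw [Nat.card_coe_set_eq, Nat.card_coe_set_eq]
    apply Set.ncard_lt_ncard _ (Set.toFinite _)
    exact ⟨fun k hk => hk.1, fun h => hgt (h ht).2⟩
  have h3 : Nat.card {k : F // φ k = k} = q := by
    rw [← card_fixed hF]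
    apply Nat.card_congr
    exact Equiv.subtypeEquivRight (fun c => by rw [hφ])
  omega

end Main

end Cfsg.Agent.Helper17.HeisAut
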