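import Mathlib
import Cfsg.Agent.Lib.Helper17.HeisAut3

/-!
# Automorphisms of the Heisenberg-type group with central square (helper17)

An automorphism `τ` of `Hs φ` (the Sylow 2-subgroup of `SU_3(q)`, `q` even) whose square acts
trivially on the centre and on the central quotient acts trivially on the centre.
-/

set_option autoImplicit false

namespace Cfsg.Agent.Helper17.HeisAut

open Cfsg.Agent.Helper11.Herm

section Main

variable {F : Type*} [Field F] [Fintype F] [CharP F 2] {q : ℕ}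
  (hF : Fintype.card F = q ^ 2) (φ : F →+* F) (hφ : ∀ x, φ x = x ^ q)
  (A : F →+ F) (C : F → F)
  (hA2 : ∀ a, A (A a) = a)
  (hCadd : ∀ s t, φ s = s → φ t = t → C (s + t) = C s + C t)
  (hCK : ∀ s, φ s = s → φ (C s) = C s)
  (hC2 : ∀ s, φ s = s → C (C s) = s)
  (hN : ∀ a, C (a * φ a) = A a * φ (A a))

include hF hφ hA2 hCadd hCK hC2 hN in
theorem C_eq_id {s : F} (hs : φ s = s) : C s = s := by
  have h1 : ∀ m, φ m = m → C m = C 1 * m := by
    intro m hm
    rw [C_eq hF φ hφ A C hA2 hCadd hC2 hN hm, g_eq_id hF φ hφ A C hA2 hCadd hCK hC2 hN hm]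
  have hφ1 : φ (1 : F) = 1 := map_one φ
  have h2 := h1 (C 1) (hCK 1 hφ1)
  rw [hC2 1 hφ1] at h2
  have h3 : C 1 = 1 := sq_inj' (by rw [← h2, one_mul])
  rw [h1 s hs, h3, one_mul]

end Main

section HsLevel

variable {F : Type*} [Field F] [Fintype F] [CharP F 2] {q : ℕ}
  (hF : Fintype.card F = q ^ 2) (φ : F →+* F) (hφ : ∀ x, φ x = x ^ q)
  [hφφ : Fact (∀ x : F, φ (φ x) = x)]

/-- the central element with second coordinate `s` -/
def zK (s : F) (hs : φ s = s) : Hs φ := ⟨0, s, by rw [hs, add_self', map_zero, mul_zero, add_zero]⟩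

omit [Fintype F] hφφ in
theorem zK_a (s : F) (hs : φ s = s) : (zK φ s hs).a = 0 := rfl

omit [Fintype F] hφφ in
theorem zK_s (s : F) (hs : φ s = s) : (zK φ s hs).s = s := rfl

omit [Fintype F] hφφ in
theorem eq_zK (x : Hs φ) (h : x.a = 0) : x = zK φ x.s (Hs.fixed_of_a_eq_zero φ x h) := by
  ext
  · rw [h, zK_a]
  · rw [zK_s]

include hF hφ in
theorem aut_fix_center (τ : Hs φ ≃* Hs φ)
    (H1 : ∀ x, (τ (τ x)).a = x.a) (H2 : ∀ x, x.a = 0 → τ (τ x) = x) :
    ∀ x : Hs φ, x.a = 0 → τ x = x := by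
  classical
  have hne : φ ≠ RingHom.id F := frob_ne_id hF φ hφ
  -- the centre is preserved
  have hcen : ∀ x : Hs φ, x.a = 0 → (τ x).a = 0 := by
    intro x hx
    rw [← Hs.mem_center_iff φ hne] at hx ⊢
    rw [Subgroup.mem_center_iff] at hx ⊢
    intro y
    have h := hx (τ.symm y)
    have h2 := congrArg τ h
    rw [map_mul, map_mul, MulEquiv.apply_symm_apply] at h2
    exact h2
  have hcompat : ∀ x y : Hs φ, x.a = y.a → (τ x).a = (τ y).a := by
    intro x y hxy
    have h1 : (y⁻¹ * x).a = 0 := by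
      rw [Hs.mul_a, Hs.inv_a, hxy]; ring
    have h2 := hcen _ h1
    rw [map_mul, map_inv, Hs.mul_a, Hs.inv_a] at h2
    linear_combination h2
  -- lifts
  have hlift : ∀ a : F, ∃ x : Hs φ, x.a = a := Hs.exists_a φ hne
  choose lift lift_a using hlift
  let A : F →+ F := AddMonoidHom.mk' (fun a => (τ (lift a)).a) (by
    intro a b
    show (τ (lift (a + b))).a = (τ (lift a)).a + (τ (lift b)).a
    rw [hcompat (lift (a + b)) (lift a * lift b) (by rw [Hs.mul_a, lift_a, lift_a, lift_a]),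
      map_mul, Hs.mul_a])
  have A_spec : ∀ x : Hs φ, (τ x).a = A x.a := by
    intro x
    exact hcompat x (lift x.a) (lift_a x.a).symm
  let C : F → F := fun s => if h : φ s = s then (τ (zK φ s h)).s else 0
  have C_def : ∀ s (h : φ s = s), C s = (τ (zK φ s h)).s := by
    intro s h
    show (if h : φ s = s then (τ (zK φ s h)).s else 0) = _
    rw [dif_pos h]
  have C_spec : ∀ x : Hs φ, x.a = 0 → (τ x).s = C x.s := by
    intro x hx
    rw [C_def _ (Hs.fixed_of_a_eq_zero φ x hx), ← eq_zK φ x hx]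
  have hCK : ∀ s, φ s = s → φ (C s) = C s := by
    intro s hs
    rw [C_def s hs]
    exact Hs.fixed_of_a_eq_zero φ _ (hcen _ (zK_a φ s hs))
  have hτz : ∀ s (hs : φ s = s), τ (zK φ s hs) = zK φ (C s) (hCK s hs) := by
    intro s hs
    have h := eq_zK φ (τ (zK φ s hs)) (hcen _ (zK_a φ s hs))
    rw [h]
    congr 1
    exact (C_def s hs).symm
  have hCadd : ∀ s t, φ s = s → φ t = t → C (s + t) = C s + C t := by
    intro s t hs ht
    have hst : φ (s + t) = s + t := by rw [map_add, hs, ht]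
    have hmul : zK φ (s + t) hst = zK φ s hs * zK φ t ht := by
      ext
      · rw [Hs.mul_a, zK_a, zK_a, zK_a, add_zero]
      · rw [Hs.mul_s, zK_s, zK_s, zK_s, zK_a, zero_mul, sub_zero]
    rw [C_def _ hst, hmul, map_mul, Hs.mul_s, hcen _ (zK_a φ t ht), zero_mul, sub_zero,
      ← C_def s hs, ← C_def t ht]
  have hC2 : ∀ s, φ s = s → C (C s) = s := by
    intro s hs
    rw [C_def (C s) (hCK s hs), ← hτz s hs, H2 _ (zK_a φ s hs), zK_s]
  have hA2 : ∀ a, A (A a) = a := by
    intro a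
    have h1 : A a = (τ (lift a)).a := rfl
    rw [h1, ← A_spec, H1, lift_a]
  have hN : ∀ a, C (a * φ a) = A a * φ (A a) := by
    intro a
    have h1 : (lift a * lift a).a = 0 := by
      rw [Hs.mul_a, lift_a, add_self']
    have h2 : (lift a * lift a).s = a * φ a := by
      rw [Hs.mul_s, lift_a, add_self', zero_sub]
      have := add_self' (a * φ a)
      linear_combination -this
    have h3 := C_spec _ h1
    rw [h2, map_mul, Hs.mul_s, add_self', zero_sub, A_spec, lift_a] at h3
    rw [← h3]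
    have := add_self' (A a * φ (A a))
    linear_combination -this
  intro x hx
  ext
  · rw [hcen x hx, hx]
  · rw [C_spec x hx]
    exact C_eq_id hF φ hφ A C hA2 hCadd hCK hC2 hN (Hs.fixed_of_a_eq_zero φ x hx)

end HsLevel

end Cfsg.Agent.Helper17.HeisAut
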