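import Mathlib
import Cfsg.Agent.Lib.Helper17.HeisAut4

/-!
# Index two overgroups of the Sylow 2-subgroup of `SU_3(2^n)` (helper17)
-/

set_option autoImplicit false

namespace Cfsg.Agent.Helper17.HeisAut

open Cfsg.Agent.Helper11.Herm

section sylowSU

variable {F : Type*} [Field F] [Fintype F] {q : ℕ} (hF : Fintype.card F = q ^ 2) (φ : F →+* F)
  (hφ : ∀ x, φ x = x ^ q) [hφφ : Fact (∀ x : F, φ (φ x) = x)] [CharP F 2]

theorem toSU_injective : Function.Injective (Hs.toSU hF φ hφ) := by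
  intro x y h
  apply Hs.mat_injective φ
  rw [← Hs.coe_toSU hF φ hφ x, ← Hs.coe_toSU hF φ hφ y, h]

omit [CharP F 2] in
include hF in
theorem card_SU_three_dvd :
    Nat.card (Cfsg.SU 3 F q) ∣ q ^ 3 * ((q + 1) * (q ^ 2 - 1) * (q ^ 3 + 1)) := by
  have h1 := card_GU_eq_SU hF 3 (by norm_num)
  rw [card_GU hF, guOrder_three] at h1
  exact Dvd.intro_left (q + 1) h1

include hF hφ in
/-- every Sylow 2-subgroup of `SU_3(2^n)` is isomorphic to the Heisenberg-type group -/
theorem exists_sylow_equiv_SU (hq2 : ∃ n, q = 2 ^ n) (S : Sylow 2 (Cfsg.SU 3 F q)) :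
    Nonempty ((S : Subgroup (Cfsg.SU 3 F q)) ≃* Hs φ) := by
  obtain ⟨n, hn⟩ := hq2
  have hq := two_le_q hF
  have hn1 : 1 ≤ n := by
    rcases Nat.eq_zero_or_pos n with h | h
    · rw [h] at hn; omega
    · exact h
  have : Fact (Nat.Prime 2) := ⟨Nat.prime_two⟩
  have hcardH : Nat.card (Hs φ) = 2 ^ (3 * n) := by
    rw [card_Hs hF φ hφ, hn, ← pow_mul, mul_comm]
  let Q : Subgroup (Cfsg.SU 3 F q) := (Hs.toSU hF φ hφ).range
  let eQ : Hs φ ≃* Q := MonoidHom.ofInjective (toSU_injective hF φ hφ)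
  have hQcard : Nat.card Q = 2 ^ (3 * n) := by rw [← Nat.card_congr eQ.toEquiv, hcardH]
  have hQp : IsPGroup 2 Q := IsPGroup.of_card hQcard
  obtain ⟨S₀, hS₀⟩ := hQp.exists_le_sylow
  obtain ⟨k, hk⟩ := IsPGroup.exists_card_eq S₀.isPGroup'
  have hdvd : 2 ^ k ∣ 2 ^ (3 * n) := by
    have h1 : Nat.card (S₀ : Subgroup (Cfsg.SU 3 F q)) ∣ Nat.card (Cfsg.SU 3 F q) :=
      Subgroup.card_subgroup_dvd_card _
    have h2 := h1.trans (card_SU_three_dvd hF)
    rw [hk, hn] at h2
    have h3 : (2 ^ n) ^ 3 = 2 ^ (3 * n) := by rw [← pow_mul, mul_comm]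
    rw [← h3]
    apply Nat.Coprime.dvd_of_dvd_mul_right _ h2
    apply Nat.Coprime.pow_left
    rw [Nat.coprime_two_left]
    have he : Even (2 ^ n) := Nat.even_pow.2 ⟨even_two, by omega⟩
    have h1le : 1 ≤ (2 ^ n) ^ 2 := Nat.one_le_pow _ _ (by positivity)
    apply Odd.mul
    · apply Odd.mul
      · exact Even.add_one he
      · apply Nat.Even.sub_odd h1le (Nat.even_pow.2 ⟨he, by norm_num⟩) odd_one
    · exact Even.add_one (Nat.even_pow.2 ⟨he, by norm_num⟩)
  have hQS : Q = (S₀ : Subgroup (Cfsg.SU 3 F q)) := by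
    apply Subgroup.eq_of_le_of_card_ge hS₀
    rw [hQcard, hk]
    exact Nat.le_of_dvd (by positivity) hdvd
  exact ⟨(Sylow.equiv S S₀).trans ((MulEquiv.subgroupCongr hQS.symm).trans eQ.symm)⟩

end sylowSU

section overgroup

variable {F : Type*} [Field F] [Fintype F] [CharP F 2] {q : ℕ}
  (hF : Fintype.card F = q ^ 2) (φ : F →+* F) (hφ : ∀ x, φ x = x ^ q)
  [hφφ : Fact (∀ x : F, φ (φ x) = x)]

include hF hφ in
/-- an index two overgroup centralises the centre of the Heisenberg-type group -/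
theorem center_le_center_of_index_two {R : Type*} [Group R] (S' : Subgroup R)
    (hidx : S'.index = 2) (ψ : S' ≃* Hs φ) :
    (Subgroup.center S').map S'.subtype ≤ Subgroup.center R := by
  have hne : φ ≠ RingHom.id F := frob_ne_id hF φ hφ
  haveI hnorm : S'.Normal := Subgroup.normal_of_index_eq_two hidx
  obtain ⟨t, ht⟩ : ∃ t : R, t ∉ S' := by
    by_contra h
    push Not at h
    have : S' = ⊤ := by
      rw [eq_top_iff]
      intro x _
      exact h x
    rw [this, Subgroup.index_top] at hidx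
    omega
  have htt : t * t ∈ S' := (Subgroup.mul_mem_iff_of_index_two hidx).2 Iff.rfl
  let c : S' ≃* S' := MulAut.conjNormal t
  have hc : ∀ h : S', ((c h : S') : R) = t * h * t⁻¹ := fun h => MulAut.conjNormal_apply t h
  let τ : Hs φ ≃* Hs φ := ψ.symm.trans (c.trans ψ)
  have hτ : ∀ x, τ x = ψ (c (ψ.symm x)) := fun x => rfl
  obtain ⟨w, hw⟩ : ∃ w : Hs φ, w = ψ ⟨t * t, htt⟩ := ⟨_, rfl⟩
  have hττ : ∀ x, τ (τ x) = w * x * w⁻¹ := by
    intro x
    rw [hτ, hτ, MulEquiv.symm_apply_apply]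
    have h1 : c (c (ψ.symm x)) = ⟨t * t, htt⟩ * ψ.symm x * (⟨t * t, htt⟩ : S')⁻¹ := by
      apply Subtype.ext
      rw [hc, hc]
      push_cast
      group
    rw [h1, map_mul, map_mul, map_inv, MulEquiv.apply_symm_apply, ← hw]
  have H1 : ∀ x, (τ (τ x)).a = x.a := by
    intro x
    rw [hττ, Hs.mul_a, Hs.mul_a, Hs.inv_a]
    ring
  have H2 : ∀ x : Hs φ, x.a = 0 → τ (τ x) = x := by
    intro x hx
    rw [hττ]
    rw [← Hs.mem_center_iff φ hne, Subgroup.mem_center_iff] at hx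
    rw [hx w, mul_inv_cancel_right]
  have hfix := aut_fix_center hF φ hφ τ H1 H2
  -- `t` centralises the centre
  have htz : ∀ z : S', z ∈ Subgroup.center S' → t * (z : R) = (z : R) * t := by
    intro z hz
    rw [mem_center_iff_of_mulEquiv ψ, Hs.mem_center_iff φ hne] at hz
    have h1 := hfix _ hz
    rw [hτ, MulEquiv.symm_apply_apply] at h1
    have h2 := ψ.injective h1
    have h3 := congrArg (Subtype.val) h2
    rw [hc] at h3
    calc t * (z : R) = (t * (z : R) * t⁻¹) * t := by group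
      _ = (z : R) * t := by rw [h3]
  rintro _ ⟨z, hz, rfl⟩
  rw [Subgroup.mem_center_iff]
  intro r
  show r * (z : R) = (z : R) * r
  have hzS : ∀ s : R, s ∈ S' → s * (z : R) = (z : R) * s := by
    intro s hs
    have := (Subgroup.mem_center_iff.1 hz) ⟨s, hs⟩
    exact congrArg Subtype.val this
  by_cases hr : r ∈ S'
  · exact hzS r hr
  · have hrt : r * t ∈ S' :=
      (Subgroup.mul_mem_iff_of_index_two hidx).2 ⟨fun h => absurd h hr, fun h => absurd h ht⟩
    have h1 := hzS _ hrt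
    have h2 := htz z hz
    have e : r = (r * t) * t⁻¹ := by group
    have h3 : t⁻¹ * (z : R) = (z : R) * t⁻¹ := by
      have : (z : R) = t⁻¹ * ((z : R) * t) := by rw [← h2]; group
      calc t⁻¹ * (z : R) = t⁻¹ * ((z : R) * t) * t⁻¹ := by group
        _ = (z : R) * t⁻¹ := by rw [← this]
    calc r * (z : R) = (r * t) * (t⁻¹ * (z : R)) := by group
      _ = (r * t) * ((z : R) * t⁻¹) := by rw [h3]
      _ = ((r * t) * (z : R)) * t⁻¹ := by group
      _ = ((z : R) * (r * t)) * t⁻¹ := by rw [h1]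
      _ = (z : R) * r := by group

end overgroup

end Cfsg.Agent.Helper17.HeisAut
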