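import Mathlib

/-!
# Counting subgroups of index two (helper17)

* `card_subgroup_index_two_klein`: a group of order 4 and exponent 2 has exactly three subgroups of
  index 2.
* `card_subgroup_index_two_quotient`: subgroups of index two of `G` correspond to those of `G ⧸ N`
  when `N` lies in all of them.
* `commutator_le_of_index_two`: the commutator subgroup lies in every subgroup of index 2.
-/

set_option autoImplicit false

namespace Cfsg.Agent.Helper17

theorem card_subgroup_index_two_klein {A : Type*} [Group A] (hA : Nat.card A = 4)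
    (hexp : ∀ x : A, x * x = 1) : Nat.card {K : Subgroup A // K.index = 2} = 3 := by
  classical
  have : Finite A := Nat.finite_of_card_ne_zero (by omega)
  have : Fintype A := Fintype.ofFinite A
  have h3 : Nat.card {x : A // x ≠ 1} = 3 := by
    rw [Nat.card_eq_fintype_card, Fintype.card_subtype_compl, Fintype.card_subtype_eq,
      ← Nat.card_eq_fintype_card, hA]
  rw [← h3]
  symm
  have hord : ∀ x : A, x ≠ 1 → orderOf x = 2 := by
    intro x hx
    exact orderOf_eq_prime (by rw [pow_two]; exact hexp x) hx
  have hcardz : ∀ x : A, x ≠ 1 → Nat.card (Subgroup.zpowers x) = 2 := by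
    intro x hx
    rw [Nat.card_zpowers, hord x hx]
  have hidx : ∀ x : A, x ≠ 1 → (Subgroup.zpowers x).index = 2 := by
    intro x hx
    have := Subgroup.card_mul_index (Subgroup.zpowers x)
    rw [hcardz x hx, hA] at this
    omega
  apply Nat.card_congr
  refine Equiv.ofBijective (fun x => ⟨Subgroup.zpowers x.1, hidx x.1 x.2⟩) ⟨?_, ?_⟩
  · rintro ⟨x, hx⟩ ⟨y, hy⟩ h
    simp only [Subtype.mk.injEq] at h
    have hy' : y ∈ Subgroup.zpowers x := by rw [h]; exact Subgroup.mem_zpowers y
    rw [Subgroup.mem_zpowers_iff] at hy'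
    obtain ⟨k, hk⟩ := hy'
    have hx2 : x ^ (2 : ℤ) = 1 := by
      rw [zpow_two]; exact hexp x
    apply Subtype.ext
    show x = y
    rcases Int.even_or_odd k with ⟨j, hj⟩ | ⟨j, hj⟩
    · exfalso
      apply hy
      rw [← hk, hj, ← two_mul, zpow_mul, hx2, one_zpow]
    · rw [← hk, hj, zpow_add, zpow_mul, hx2, one_zpow, one_mul, zpow_one]
  · rintro ⟨K, hK⟩
    have hKc : Nat.card K = 2 := by
      have := Subgroup.card_mul_index K
      rw [hK, hA] at this
      omega
    have hKne : K ≠ ⊥ := by
      intro h
      rw [h, Subgroup.card_bot] at hKc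
      omega
    obtain ⟨⟨x, hx⟩, hx1⟩ := (Subgroup.ne_bot_iff_exists_ne_one).1 hKne
    have hx1' : x ≠ 1 := by
      intro h
      apply hx1
      exact Subtype.ext h
    refine ⟨⟨x, hx1'⟩, ?_⟩
    apply Subtype.ext
    show Subgroup.zpowers x = K
    apply Subgroup.eq_of_le_of_card_ge
    · rw [Subgroup.zpowers_le]; exact hx
    · rw [hKc, hcardz x hx1']

theorem card_subgroup_index_two_quotient {G : Type*} [Group G] (N : Subgroup G) [N.Normal]
    (hN : ∀ H : Subgroup G, H.index = 2 → N ≤ H) :
    Nat.card {H : Subgroup G // H.index = 2} = Nat.card {K : Subgroup (G ⧸ N) // K.index = 2} := by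
  have hsurj : Function.Surjective (QuotientGroup.mk' N) := QuotientGroup.mk'_surjective N
  apply Nat.card_congr
  refine ⟨fun H => ⟨H.1.map (QuotientGroup.mk' N), ?_⟩,
    fun K => ⟨K.1.comap (QuotientGroup.mk' N), ?_⟩, ?_, ?_⟩
  · rw [Subgroup.index_map_eq _ hsurj (by rw [QuotientGroup.ker_mk']; exact hN H.1 H.2)]
    exact H.2
  · rw [Subgroup.index_comap_of_surjective _ hsurj]
    exact K.2
  · rintro ⟨H, hH⟩
    apply Subtype.ext
    exact Subgroup.comap_map_eq_self (by rw [QuotientGroup.ker_mk']; exact hN H hH)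
  · rintro ⟨K, hK⟩
    apply Subtype.ext
    exact Subgroup.map_comap_eq_self_of_surjective hsurj K

theorem commutator_le_of_index_two {G : Type*} [Group G] (H : Subgroup G) (hH : H.index = 2) :
    commutator G ≤ H := by
  have : H.Normal := Subgroup.normal_of_index_eq_two hH
  have hcard : Nat.card (G ⧸ H) = 2 := hH
  have hcyc : IsCyclic (G ⧸ H) := isCyclic_of_prime_card (p := 2) hcard
  let inst : CommGroup (G ⧸ H) := IsCyclic.commGroup
  have := Abelianization.commutator_subset_ker (QuotientGroup.mk' H)
  rwa [QuotientGroup.ker_mk'] at this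

end Cfsg.Agent.Helper17
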