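import Mathlib

/-!
# A counting criterion for sharp triple transitivity (helper17)

If a finite group acts faithfully and 3-transitively on `n ≥ 3` points and has a set `S` of
fixed-point-free elements with `(n - 1) |G| ≤ 2 n |S|`, then only the identity fixes three points.
-/

set_option autoImplicit false

namespace Cfsg.Agent.Helper17.Ito

open MulAction

variable {G Ω : Type*} [Group G] [Fintype G] [Fintype Ω] [DecidableEq Ω] [MulAction G Ω]

/-- the number of fixed points of `g` -/
noncomputable def fixN (g : G) : ℕ := Fintype.card (fixedBy Ω g)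

theorem fixN_le (g : G) : fixN (Ω := Ω) g ≤ Fintype.card Ω :=
  Fintype.card_subtype_le _

/-- Burnside's lemma for a transitive action. -/
theorem sum_card_fixedBy_of_pretransitive (X : Type*) [Fintype X] [DecidableEq X] [Nonempty X]
    [MulAction G X] [IsPretransitive G X] :
    ∑ g : G, Fintype.card (fixedBy X g) = Fintype.card G := by
  classical
  have h := sum_card_fixedBy_eq_card_orbits_mul_card_group G X
  have h1 : Fintype.card (Quotient (orbitRel G X)) = 1 := by
    rw [Fintype.card_eq_one_iff]
    obtain ⟨x⟩ := ‹Nonempty X›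
    refine ⟨Quotient.mk'' x, fun y => ?_⟩
    induction y using Quotient.inductionOn' with
    | h y =>
      apply Quotient.sound'
      obtain ⟨g, hg⟩ := exists_smul_eq G x y
      exact ⟨g, hg⟩
  rw [h1, one_mul] at h
  exact h

/-- fixed embeddings are embeddings into the fixed points -/
def fixedEmbEquiv (k : ℕ) (g : G) : fixedBy (Fin k ↪ Ω) g ≃ (Fin k ↪ fixedBy Ω g) where
  toFun x := ⟨fun i => ⟨x.1 i, by
      have h := x.2
      rw [mem_fixedBy] at h
      have h2 := DFunLike.congr_fun h i
      rw [Function.Embedding.smul_apply] at h2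
      exact h2⟩, fun i j hij => x.1.injective (by simpa using congrArg Subtype.val hij)⟩
  invFun y := ⟨⟨fun i => (y i).1, fun i j hij => y.injective (Subtype.ext hij)⟩, by
      rw [mem_fixedBy]
      ext i
      rw [Function.Embedding.smul_apply]
      exact (y i).2⟩
  left_inv x := by ext i; rfl
  right_inv y := by ext i; rfl

theorem card_fixedBy_emb (k : ℕ) (g : G) :
    Fintype.card (fixedBy (Fin k ↪ Ω) g) = (fixN (Ω := Ω) g).descFactorial k := by
  rw [Fintype.card_congr (fixedEmbEquiv k g), Fintype.card_embedding_eq, Fintype.card_fin]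
  rfl

theorem sum_descFactorial (k : ℕ) (hk : k ≤ Fintype.card Ω)
    [IsMultiplyPretransitive G Ω k] :
    ∑ g : G, (fixN (Ω := Ω) g).descFactorial k = Fintype.card G := by
  classical
  haveI : Nonempty (Fin k ↪ Ω) := by
    rw [Function.Embedding.nonempty_iff_card_le, Fintype.card_fin]
    exact hk
  have h := sum_card_fixedBy_of_pretransitive (G := G) (Fin k ↪ Ω)
  rw [← h]
  refine Finset.sum_congr rfl fun g _ => ?_
  rw [← card_fixedBy_emb k g]

theorem descFactorial_two_cast (m : ℕ) : ((m.descFactorial 2 : ℕ) : ℤ) = (m : ℤ) * ((m : ℤ) - 1) := by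
  rcases m with _ | m
  · simp
  · simp [Nat.descFactorial]
    ring

theorem descFactorial_three_cast (m : ℕ) :
    ((m.descFactorial 3 : ℕ) : ℤ) = (m : ℤ) * ((m : ℤ) - 1) * ((m : ℤ) - 2) := by
  rcases m with _ | _ | m
  · simp
  · simp [Nat.descFactorial]
  · simp [Nat.descFactorial]
    ring

/-- The counting criterion. -/
theorem eq_one_of_three_le_fixN [FaithfulSMul G Ω] (h3 : IsMultiplyPretransitive G Ω 3)
    (hn : 3 ≤ Fintype.card Ω) (S : Finset G) (hS : ∀ g ∈ S, fixN (Ω := Ω) g = 0)
    (hcount : (Fintype.card Ω - 1) * Fintype.card G ≤ 2 * Fintype.card Ω * S.card)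
    (g : G) (hg : 3 ≤ fixN (Ω := Ω) g) : g = 1 := by
  classical
  haveI := h3
  have hcardΩ : Nat.card Ω = Fintype.card Ω := Nat.card_eq_fintype_card
  haveI h2 : IsMultiplyPretransitive G Ω 2 :=
    isMultiplyPretransitive_of_le (n := 3) (by norm_num) (by rw [hcardΩ]; exact hn)
  haveI h1 : IsMultiplyPretransitive G Ω 1 :=
    isMultiplyPretransitive_of_le (n := 3) (by norm_num) (by rw [hcardΩ]; exact hn)
  set n : ℤ := (Fintype.card Ω : ℤ) with hndef
  set N : ℤ := (Fintype.card G : ℤ) with hNdef
  let φ : G → ℤ := fun g => (fixN (Ω := Ω) g : ℤ)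
  have hs1 : ∑ g : G, φ g = N := by
    have h := sum_descFactorial (G := G) (Ω := Ω) 1 (by omega)
    simp only [Nat.descFactorial_one] at h
    have := congrArg (fun m : ℕ => (m : ℤ)) h
    simpa [φ] using this
  have hs2 : ∑ g : G, φ g * (φ g - 1) = N := by
    have h := sum_descFactorial (G := G) (Ω := Ω) 2 (by omega)
    have := congrArg (fun m : ℕ => (m : ℤ)) h
    simp only [Nat.cast_sum, descFactorial_two_cast] at this
    exact this
  have hs3 : ∑ g : G, φ g * (φ g - 1) * (φ g - 2) = N := by
    have h := sum_descFactorial (G := G) (Ω := Ω) 3 hn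
    have := congrArg (fun m : ℕ => (m : ℤ)) h
    simp only [Nat.cast_sum, descFactorial_three_cast] at this
    exact this
  let F : G → ℤ := fun g => (n - φ g) * (φ g - 1) * (φ g - 2)
  have hF : ∑ g : G, F g = (n - 1) * N := by
    have hexp : ∀ g : G, F g = n * (φ g * (φ g - 1)) - 2 * n * φ g + 2 * n
        - φ g * (φ g - 1) * (φ g - 2) := by
      intro g; simp only [F]; ring
    rw [Finset.sum_congr rfl (fun g _ => hexp g)]
    rw [Finset.sum_sub_distrib, Finset.sum_add_distrib, Finset.sum_sub_distrib,
      ← Finset.mul_sum, ← Finset.mul_sum, hs1, hs2, hs3]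
    simp only [Finset.sum_const, Finset.card_univ, nsmul_eq_mul]
    rw [← hNdef]
    ring
  have hφ0 : ∀ g : G, 0 ≤ φ g := fun g => Int.natCast_nonneg _
  have hφn : ∀ g : G, φ g ≤ n := fun g => by
    simp only [φ, hndef]
    exact_mod_cast fixN_le g
  have hFnn : ∀ g : G, 0 ≤ F g := by
    intro g
    have h1 : 0 ≤ n - φ g := by linarith [hφn g]
    have h2 : 0 ≤ (φ g - 1) * (φ g - 2) := by
      rcases le_or_gt (φ g) 1 with h | h
      · exact mul_nonneg_of_nonpos_of_nonpos (by linarith) (by linarith)
      · have : 2 ≤ φ g := h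
        exact mul_nonneg (by linarith) (by linarith)
    simp only [F]
    rw [mul_assoc]
    exact mul_nonneg h1 h2
  have hFS : ∀ g ∈ S, F g = 2 * n := by
    intro g hg
    have : φ g = 0 := by simp only [φ]; exact_mod_cast hS g hg
    simp only [F, this]; ring
  -- split the sum
  have hsplit : ∑ g ∈ S, F g + ∑ g ∈ Finset.univ \ S, F g = (n - 1) * N := by
    rw [← hF]
    rw [add_comm]
    exact Finset.sum_sdiff (Finset.subset_univ S)
  have hSsum : ∑ g ∈ S, F g = 2 * n * (S.card : ℤ) := by
    rw [Finset.sum_congr rfl hFS]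
    simp only [Finset.sum_const, nsmul_eq_mul]
    ring
  have hcountZ : (n - 1) * N ≤ 2 * n * (S.card : ℤ) := by
    have h1 : ((Fintype.card Ω - 1 : ℕ) : ℤ) = n - 1 := by
      rw [Nat.cast_sub (by omega)]; simp [hndef]
    have := Int.ofNat_le.mpr hcount
    push_cast at this
    rw [h1] at this
    simpa [hndef, hNdef] using this
  have hrest : ∑ g ∈ Finset.univ \ S, F g ≤ 0 := by linarith
  have hgS : g ∉ S := fun hmem => by
    have := hS g hmem
    omega
  have hFg : F g = 0 := by
    have hmem : g ∈ Finset.univ \ S := by simp [hgS]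
    have hle : F g ≤ ∑ g ∈ Finset.univ \ S, F g :=
      Finset.single_le_sum (fun x _ => hFnn x) hmem
    exact le_antisymm (by linarith) (hFnn g)
  have hφg : (3 : ℤ) ≤ φ g := by simp only [φ]; exact_mod_cast hg
  have hφeq : φ g = n := by
    simp only [F] at hFg
    have h12 : (φ g - 1) * (φ g - 2) ≠ 0 :=
      mul_ne_zero (by linarith) (by linarith)
    rw [mul_assoc] at hFg
    rcases mul_eq_zero.mp hFg with h | h
    · linarith
    · exact absurd h h12
  have hfixall : fixN (Ω := Ω) g = Fintype.card Ω := by
    simp only [φ, hndef] at hφeq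
    exact_mod_cast hφeq
  -- `g` fixes every point
  have hall : ∀ x : Ω, g • x = x := by
    intro x
    have hsub : (Finset.univ.filter fun x : Ω => g • x = x) = Finset.univ := by
      apply Finset.eq_univ_of_card
      rw [← hfixall]
      simp only [fixN]
      rw [Fintype.card_subtype]
      rfl
    have : x ∈ (Finset.univ.filter fun x : Ω => g • x = x) := by rw [hsub]; exact Finset.mem_univ x
    exact (Finset.mem_filter.mp this).2
  exact FaithfulSMul.eq_of_smul_eq_smul (α := Ω) (fun x => by rw [hall x, one_smul])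

end Cfsg.Agent.Helper17.Ito
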