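import Mathlib

/-!
# `SL₂(F) ≃* PGL₂(F)` for a finite field of characteristic two (helper17)
-/

set_option autoImplicit false
set_option linter.style.haveILetI false

namespace Cfsg.Agent.Helper17.Ito

open Matrix

variable {F : Type*} [Field F] [Fintype F]

theorem toPGL_injective_of_even (heven : Fintype.card F % 2 = 0) :
    Function.Injective (Matrix.SpecialLinearGroup.toPGL (n := Fin 2) (R := F)) := by
  have hchar : ringChar F = 2 := FiniteField.even_card_iff_char_two.2 heven
  haveI : CharP F 2 := by rw [← hchar]; exact ringChar.charP F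
  rw [← MonoidHom.ker_eq_bot_iff, Matrix.SpecialLinearGroup.toPGL_ker, Subgroup.eq_bot_iff_forall]
  intro A hA
  rw [Matrix.SpecialLinearGroup.mem_center_iff] at hA
  obtain ⟨r, hr, hA⟩ := hA
  rw [Fintype.card_fin] at hr
  have hr1 : r = 1 := by
    have h1 : (r + 1) ^ 2 = 0 := by
      rw [CharTwo.add_sq, hr, one_pow, CharTwo.add_self_eq_zero]
    have h2 : r + 1 = 0 := by simpa using h1
    have : r = -1 := eq_neg_of_add_eq_zero_left h2
    rw [this, CharTwo.neg_eq]
  apply Subtype.ext
  rw [← hA, hr1]
  simp

theorem toPGL_surjective_of_even (heven : Fintype.card F % 2 = 0) :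
    Function.Surjective (Matrix.SpecialLinearGroup.toPGL (n := Fin 2) (R := F)) := by
  have hchar : ringChar F = 2 := FiniteField.even_card_iff_char_two.2 heven
  have hsurj : Function.Surjective
      (Matrix.ProjectiveSpecialLinearGroup.toPGL (n := Fin 2) (R := F)) := by
    apply Matrix.ProjectiveSpecialLinearGroup.toPGL_surj_of_roots
    intro r
    obtain ⟨k, hk⟩ := FiniteField.isSquare_of_char_two hchar (r : F)
    have hk0 : k ≠ 0 := by
      intro h0
      rw [h0, mul_zero] at hk
      exact r.ne_zero hk
    refine ⟨Units.mk0 k hk0, Units.ext ?_⟩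
    rw [Fintype.card_fin, Units.val_pow_eq_pow_val, Units.val_mk0, hk, sq]
  intro y
  obtain ⟨x, rfl⟩ := hsurj y
  induction x using QuotientGroup.induction_on with
  | H X => exact ⟨X, rfl⟩

/-- `SL₂(F) ≃* PGL₂(F)` in characteristic two. -/
noncomputable def slEquivPGL (heven : Fintype.card F % 2 = 0) :
    Matrix.SpecialLinearGroup (Fin 2) F ≃* Matrix.ProjGenLinGroup (Fin 2) F :=
  MulEquiv.ofBijective (Matrix.SpecialLinearGroup.toPGL (n := Fin 2) (R := F))
    ⟨toPGL_injective_of_even heven, toPGL_surjective_of_even heven⟩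

end Cfsg.Agent.Helper17.Ito
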