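import Mathlib

/-!
# Solvable transitive groups of prime degree have a normal Sylow `p`-subgroup (helper17)
-/

set_option autoImplicit false
set_option linter.style.haveILetI false

namespace Cfsg.Agent.Helper17.Ito

open MulAction Equiv

variable {α : Type*} [Fintype α] [DecidableEq α] {p : ℕ} [hp : Fact p.Prime]

/-- A nontrivial abelian normal subgroup of a transitive group of prime degree `p` has order `p`. -/
theorem card_of_normal_comm (hα : Fintype.card α = p) (G : Subgroup (Perm α))
    [IsPretransitive G α] (A : Subgroup G) [A.Normal] (hA1 : A ≠ ⊥)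
    (hcomm : ∀ a ∈ A, ∀ b ∈ A, a * b = b * a) : Nat.card A = p := by
  classical
  haveI : IsPreprimitive G α :=
    IsPreprimitive.of_prime_card (by rw [Nat.card_eq_fintype_card, hα]; exact hp.1)
  -- `A` is transitive
  obtain ⟨a, haA, ha1⟩ : ∃ a ∈ A, a ≠ 1 := by
    obtain ⟨a, ha⟩ := Subgroup.ne_bot_iff_exists_ne_one.mp hA1
    exact ⟨a.1, a.2, fun h => ha (Subtype.ext h)⟩
  have hmove : ∃ x : α, a • x ≠ x := by
    by_contra hno
    push Not at hno
    apply ha1
    apply Subtype.ext
    ext x
    exact hno x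
  obtain ⟨x, hx⟩ := hmove
  have hfix : fixedPoints A α ≠ ⊤ := by
    intro htop
    have : x ∈ fixedPoints A α := by rw [htop]; trivial
    exact hx (this ⟨a, haA⟩)
  haveI : IsPretransitive A α := IsQuasiPreprimitive.isPretransitive_of_normal hfix
  -- stabilizers are trivial
  have hstab : stabilizer A x = ⊥ := by
    rw [Subgroup.eq_bot_iff_forall]
    intro b hb
    rw [mem_stabilizer_iff] at hb
    apply Subtype.ext
    apply Subtype.ext
    ext y
    obtain ⟨c, hc⟩ := exists_smul_eq A x y
    have hbc : b * c = c * b := Subtype.ext (hcomm b.1 b.2 c.1 c.2)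
    show (b • y) = y
    rw [← hc, smul_smul, hbc, ← smul_smul, hb]
  have h := MulAction.index_stabilizer_of_transitive (G := A) (X := α) (x := x)
  rw [hstab, Subgroup.index_bot, Nat.card_eq_fintype_card (α := α), hα] at h
  exact h

/-- A solvable transitive group of prime degree `p` with Sylow `p`-subgroups of order `p` has a
normal Sylow `p`-subgroup. -/
theorem normal_of_solvable (hα : Fintype.card α = p) (G : Subgroup (Perm α))
    [IsPretransitive G α] (hsol : Group.IsSolvable G) (P : Sylow p G)
    (hP : Nat.card (P : Subgroup G) = p) : (P : Subgroup G).Normal := by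
  classical
  obtain ⟨n, hn⟩ := hsol.solvable
  -- the least `n`
  have hex : ∃ n, derivedSeries G n = ⊥ := ⟨n, hn⟩
  set m := Nat.find hex with hm
  have hmbot : derivedSeries G m = ⊥ := Nat.find_spec hex
  have hGnt : (⊤ : Subgroup G) ≠ ⊥ := by
    intro h
    have h1 : Nat.card (P : Subgroup G) = 1 := by
      have : (P : Subgroup G) = ⊥ := by rw [eq_bot_iff, ← h]; exact le_top
      rw [this]; exact Subgroup.card_bot
    rw [hP] at h1
    exact hp.1.one_lt.ne' h1
  have hm0 : m ≠ 0 := by
    intro h0
    rw [h0, derivedSeries_zero] at hmbot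
    exact hGnt hmbot
  obtain ⟨k, hk⟩ : ∃ k, m = k + 1 := ⟨m - 1, by omega⟩
  set A := derivedSeries G k with hAdef
  have hA1 : A ≠ ⊥ := by
    intro h
    have : m ≤ k := Nat.find_min' hex h
    omega
  have hAA : ⁅A, A⁆ = ⊥ := by
    rw [hAdef, ← derivedSeries_succ, ← hk]; exact hmbot
  have hcomm : ∀ a ∈ A, ∀ b ∈ A, a * b = b * a := by
    intro a ha b hb
    have h1 : a * b * a⁻¹ * b⁻¹ ∈ ⁅A, A⁆ := by
      have := Subgroup.commutator_mem_commutator (H₁ := A) (H₂ := A) ha hb
      rwa [commutatorElement_def] at this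
    rw [hAA, Subgroup.mem_bot] at h1
    calc a * b = (a * b * a⁻¹ * b⁻¹) * (b * a) := by group
      _ = b * a := by rw [h1, one_mul]
  haveI : A.Normal := by rw [hAdef]; infer_instance
  have hAcard : Nat.card A = p := card_of_normal_comm hα G A hA1 hcomm
  have hApg : IsPGroup p A := IsPGroup.of_card (n := 1) (by rw [hAcard, pow_one])
  obtain ⟨Q, hQ⟩ := hApg.exists_le_sylow
  have hQcard : Nat.card (Q : Subgroup G) = p := by
    rw [Sylow.card_eq_multiplicity, ← P.card_eq_multiplicity, hP]
  have hAQ : A = (Q : Subgroup G) :=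
    Subgroup.eq_of_le_of_card_ge hQ (by rw [hQcard, hAcard])
  have hQn : (Q : Subgroup G).Normal := hAQ ▸ inferInstance
  haveI := Sylow.unique_of_normal Q hQn
  have : P = Q := Subsingleton.elim _ _
  rw [this]
  exact hQn

end Cfsg.Agent.Helper17.Ito
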