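import Mathlib
import Cfsg.Agent.Lib.Helper26.L33Defs
import Cfsg.Agent.Lib.Helper15.GL23Defs
import Cfsg.Agent.Lib.Helper15.L33_A3

/-!
# S2916 PIECE A4 (helper17): a nontrivial normal subgroup contains `C(t)`.
-/

set_option autoImplicit false

namespace Cfsg.Agent.Helper26.L33

open Cfsg Cfsg.Agent.Helper15.GL23

universe u

variable {G : Type u} [Group G] [Finite G]

/-- PIECE A4 -/
theorem cent_le_normal (t : G) (ht : orderOf t = 2)
    (hL : Like (Subgroup.centralizer ({t} : Set G)) (tC t))
    (hF : HFacts (Subgroup.centralizer ({t} : Set G)))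
    (h1 : ∀ x : G, orderOf x = 2 → IsConj t x) (N : Subgroup G) (hN : N.Normal) (hne : N ≠ ⊥) :
    Subgroup.centralizer ({t} : Set G) ≤ N := by
  -- `|N|` is even
  have heven : Even (Nat.card N) := by
    by_contra h
    exact hne (odd_normal_eq_bot t ht hL hF h1 N hN (Nat.not_even_iff_odd.mp h))
  have h2 : 2 ∣ Nat.card N := even_iff_two_dvd.mp heven
  have : Fact (Nat.Prime 2) := ⟨Nat.prime_two⟩
  obtain ⟨x, hx⟩ := exists_prime_orderOf_dvd_card' (G := N) 2 h2
  have hx' : orderOf (x : G) = 2 := by rw [Subgroup.orderOf_coe]; exact hx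
  -- `t ∈ N`
  have htN : t ∈ N := by
    obtain ⟨c, hc⟩ := isConj_iff.mp (h1 x hx')
    have h3 : t = c⁻¹ * x * c⁻¹⁻¹ := by rw [← hc]; group
    rw [h3]
    exact hN.conj_mem x x.2 c⁻¹
  -- all involutions lie in `N`
  have hall : ∀ y : G, orderOf y = 2 → y ∈ N := by
    intro y hy
    obtain ⟨c, hc⟩ := isConj_iff.mp (h1 y hy)
    rw [← hc]
    exact hN.conj_mem t htN c
  -- `C(t)` is generated by involutions
  intro g hg
  have hmem : (⟨g, hg⟩ : Subgroup.centralizer ({t} : Set G)) ∈
      Subgroup.closure {x : Subgroup.centralizer ({t} : Set G) | orderOf x = 2} := by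
    rw [hF.gen_invol]; trivial
  have key : ∀ y ∈ Subgroup.closure {x : Subgroup.centralizer ({t} : Set G) | orderOf x = 2},
      (y : G) ∈ N := by
    intro y hy
    induction hy using Subgroup.closure_induction with
    | mem y hy => exact hall y (by rw [Subgroup.orderOf_coe]; exact hy)
    | one => exact N.one_mem
    | mul a b _ _ ha hb => exact N.mul_mem ha hb
    | inv a _ ha => exact N.inv_mem ha
  exact key _ hmem

end Cfsg.Agent.Helper26.L33
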