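import Mathlib
import Cfsg.Agent.Lib.Helper26.L33Defs
import Cfsg.Agent.Lib.Helper15.GL23Defs
import Cfsg.Agent.Lib.Helper15.GL23SYL
import Cfsg.Agent.Lib.Helper7.Basic
import Cfsg.Prelude.Def_Transfer

/-!
# S2916 PIECE A5 (helper17): a normal subgroup containing `C(t)` is everything.
-/

set_option autoImplicit false

namespace Cfsg.Agent.Helper26.L33

open Cfsg Cfsg.Agent.Helper15.GL23

universe u

variable {G : Type u} [Group G] [Finite G]

omit [Finite G] in
/-- conjugation preserves the order -/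
theorem a5_orderOf_conj (n x : G) : orderOf (n * x * n⁻¹) = orderOf x := by
  rw [← MulAut.conj_apply]
  exact MulEquiv.orderOf_eq _ _

/-- PIECE A5 -/
theorem normal_eq_top (hO : Cfsg.pResidual 2 G = ⊤) (t : G) (ht : orderOf t = 2)
    (hL : Like (Subgroup.centralizer ({t} : Set G)) (tC t))
    (h1 : ∀ x : G, orderOf x = 2 → IsConj t x) (N : Subgroup G) (hN : N.Normal)
    (hC : Subgroup.centralizer ({t} : Set G) ≤ N) : N = ⊤ := by
  classical
  have : Fact (Nat.Prime 2) := ⟨Nat.prime_two⟩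
  have hc48 : Nat.card (Subgroup.centralizer ({t} : Set G)) = 48 := hL.card
  obtain ⟨h16, h32⟩ := sylow_two t ht hc48 h1
  -- a Sylow 2-subgroup `S` of `G` inside `C(t)`
  obtain ⟨K0, hK0⟩ := Sylow.exists_subgroup_card_pow_prime
    (G := Subgroup.centralizer ({t} : Set G)) 2 (n := 4) (by rw [hc48]; norm_num)
  have hKcard : Nat.card (K0.map (Subgroup.centralizer ({t} : Set G)).subtype) = 16 := by
    rw [Subgroup.card_map_of_injective (Subgroup.subtype_injective _), hK0]; norm_num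
  have hKC : K0.map (Subgroup.centralizer ({t} : Set G)).subtype ≤ Subgroup.centralizer ({t} : Set G) := by
    rintro _ ⟨y, _, rfl⟩; exact y.2
  have hG0 : Nat.card G ≠ 0 := Nat.card_pos.ne'
  have hfac : (Nat.card G).factorization 2 = 4 := by
    have h4 : 4 ≤ (Nat.card G).factorization 2 :=
      (Nat.Prime.pow_dvd_iff_le_factorization Nat.prime_two hG0).mp (by norm_num; exact h16)
    have h5 : ¬ 5 ≤ (Nat.card G).factorization 2 := fun h =>
      h32 (by have := (Nat.Prime.pow_dvd_iff_le_factorization Nat.prime_two hG0).mpr h; norm_num at this; exact this)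
    omega
  let S : Sylow 2 G := Sylow.ofCard (K0.map (Subgroup.centralizer ({t} : Set G)).subtype)
    (by rw [hKcard, hfac]; norm_num)
  have hSK : (S : Subgroup G) = K0.map (Subgroup.centralizer ({t} : Set G)).subtype :=
    Sylow.coe_ofCard _ _
  have hSC : (S : Subgroup G) ≤ Subgroup.centralizer ({t} : Set G) := hSK ▸ hKC
  have hSN : (S : Subgroup G) ≤ N := hSC.trans hC
  obtain ⟨b, hb2, hbt⟩ := hL.ex_invol
  have htC : t ∈ Subgroup.centralizer ({t} : Set G) := Subgroup.mem_centralizer_singleton_iff.mpr rfl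
  have htN : t ∈ N := hC htC
  -- every involution of `N` is `N`-conjugate to `t` or to `b`
  have step4 : ∀ x ∈ N, orderOf x = 2 →
      (∃ n ∈ N, n * x * n⁻¹ = t) ∨ (∃ n ∈ N, n * x * n⁻¹ = (b : G)) := by
    intro x hx hx2
    have hp : IsPGroup 2 (Subgroup.zpowers x) := by
      apply IsPGroup.of_card (n := 1); rw [Nat.card_zpowers, hx2]; norm_num
    obtain ⟨n, hn, hmem⟩ := Cfsg.Agent.Helper7.exists_conj_mem_sylow_of_le S N hSN x hp hx
    have hyC : n * x * n⁻¹ ∈ Subgroup.centralizer ({t} : Set G) := hSC hmem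
    have hy2 : orderOf (n * x * n⁻¹) = 2 := by rw [a5_orderOf_conj]; exact hx2
    by_cases hyt : n * x * n⁻¹ = t
    · exact Or.inl ⟨n, hn, hyt⟩
    · right
      have hy2' : orderOf (⟨n * x * n⁻¹, hyC⟩ : Subgroup.centralizer ({t} : Set G)) = 2 := by
        rw [← Subgroup.orderOf_coe]; exact hy2
      have hyne : (⟨n * x * n⁻¹, hyC⟩ : Subgroup.centralizer ({t} : Set G)) ≠ tC t :=
        fun h => hyt (congrArg Subtype.val h)
      obtain ⟨c, hc⟩ := isConj_iff.mp (hL.invol _ b hy2' hb2 hyne hbt)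
      refine ⟨(c : G) * n, N.mul_mem (hC c.2) hn, ?_⟩
      have h3 := congrArg Subtype.val hc
      simp only [Subgroup.coe_mul, Subgroup.coe_inv] at h3
      rw [← h3]; group
  -- for `g ∉ N` the involution `g t g⁻¹` is `N`-conjugate to `b`
  have step5 : ∀ g : G, g ∉ N → ∃ n ∈ N, n * (g * t * g⁻¹) * n⁻¹ = (b : G) := by
    intro g hg
    have hgt : g * t * g⁻¹ ∈ N := hN.conj_mem t htN g
    rcases step4 _ hgt (by rw [a5_orderOf_conj]; exact ht) with ⟨n, hn, h⟩ | h
    · exfalso
      have hcen : n * g ∈ Subgroup.centralizer ({t} : Set G) := by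
        rw [Subgroup.mem_centralizer_singleton_iff]
        have h3 : n * g * t = t * (n * g) := by
          calc n * g * t = (n * (g * t * g⁻¹) * n⁻¹) * (n * g) := by group
            _ = t * (n * g) := by rw [h]
        exact h3
      have h4 : n * g ∈ N := hC hcen
      have h5 : g = n⁻¹ * (n * g) := by group
      rw [h5] at hg
      exact hg (N.mul_mem (N.inv_mem hn) h4)
    · exact h
  -- two elements outside `N` lie in the same coset
  have step6 : ∀ g g' : G, g ∉ N → g' ∉ N → g'⁻¹ * g ∈ N := by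
    intro g g' hg hg'
    obtain ⟨n, hn, h⟩ := step5 g hg
    obtain ⟨n', hn', h'⟩ := step5 g' hg'
    have hcen : (n' * g')⁻¹ * (n * g) ∈ Subgroup.centralizer ({t} : Set G) := by
      rw [Subgroup.mem_centralizer_singleton_iff]
      have e1 : g * t * g⁻¹ = n⁻¹ * (b : G) * n := by rw [← h]; group
      have e2 : g' * t * g'⁻¹ = n'⁻¹ * (b : G) * n' := by rw [← h']; group
      have e3 : t = g'⁻¹ * (n'⁻¹ * (b : G) * n') * g' := by rw [← e2]; group
      have e4 : (b : G) = n * (g * t * g⁻¹) * n⁻¹ := h.symm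
      calc (n' * g')⁻¹ * (n * g) * t
          = g'⁻¹ * (n'⁻¹ * (n * (g * t * g⁻¹) * n⁻¹) * n') * g' * ((n' * g')⁻¹ * (n * g)) := by group
        _ = g'⁻¹ * (n'⁻¹ * (b : G) * n') * g' * ((n' * g')⁻¹ * (n * g)) := by rw [← e4]
        _ = t * ((n' * g')⁻¹ * (n * g)) := by rw [← e3]
    have h4 : (n' * g')⁻¹ * (n * g) ∈ N := hC hcen
    have h5 : g'⁻¹ * g = ((n' * g')⁻¹ * (n * g)) * (g⁻¹ * (n'⁻¹ * n)⁻¹ * g⁻¹⁻¹) := by group
    rw [h5]
    exact N.mul_mem h4 (hN.conj_mem _ (N.inv_mem (N.mul_mem (N.inv_mem hn') hn)) g⁻¹)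
  -- every element of odd order lies in `N`
  have step7 : ∀ h : G, Nat.Coprime (orderOf h) 2 → h ∈ N := by
    intro h hcop
    by_contra hh
    have hh' : h⁻¹ ∉ N := fun h' => hh (by simpa using N.inv_mem h')
    have h2 : h⁻¹⁻¹ * h ∈ N := step6 h h⁻¹ hh hh'
    rw [inv_inv] at h2
    obtain ⟨m, hm⟩ := exists_pow_eq_self_of_coprime (x := h) (n := 2) hcop.symm
    apply hh
    rw [← hm, pow_two]
    exact N.pow_mem h2 m
  rw [eq_top_iff, ← hO]
  unfold Cfsg.pResidual
  rw [Subgroup.closure_le]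
  intro h hh
  exact step7 h hh

end Cfsg.Agent.Helper26.L33
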