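import Mathlib

/-!
# Extending a linear isomorphism between subspaces to the whole (finite-dimensional) space
-/

set_option autoImplicit false

namespace Cfsg.Agent.Helper17

/-- A linear isomorphism between two subspaces of a finite-dimensional space extends to a linear
automorphism of the whole space. -/
theorem exists_linearEquiv_extend {K V : Type*} [Field K] [AddCommGroup V] [Module K V]
    [FiniteDimensional K V] (U W : Submodule K V) (φ : U ≃ₗ[K] W) :
    ∃ A : V ≃ₗ[K] V, ∀ u : U, A (u : V) = (φ u : V) := by
  obtain ⟨U', hU⟩ := Submodule.exists_isCompl U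
  obtain ⟨W', hW⟩ := Submodule.exists_isCompl W
  have h1 := Submodule.finrank_add_eq_of_isCompl hU
  have h2 := Submodule.finrank_add_eq_of_isCompl hW
  have h3 : Module.finrank K U = Module.finrank K W := φ.finrank_eq
  have h4 : Module.finrank K U' = Module.finrank K W' := by omega
  let ψ : U' ≃ₗ[K] W' := LinearEquiv.ofFinrankEq U' W' h4
  refine ⟨(U.prodEquivOfIsCompl U' hU).symm ≪≫ₗ (φ.prodCongr ψ) ≪≫ₗ
    (W.prodEquivOfIsCompl W' hW), fun u => ?_⟩
  simp [Submodule.prodEquivOfIsCompl_symm_apply_left]

/-- Two finite families with the same linear relations are related by a linear automorphism. -/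
theorem exists_linearEquiv_of_relations {K V ι : Type*} [Field K] [AddCommGroup V] [Module K V]
    [FiniteDimensional K V] [Fintype ι] [DecidableEq ι] (u w : ι → V)
    (h : ∀ c : ι → K, ∑ i, c i • u i = 0 ↔ ∑ i, c i • w i = 0) :
    ∃ A : V ≃ₗ[K] V, ∀ i, A (u i) = w i := by
  have hker : LinearMap.ker (Fintype.linearCombination K u)
      = LinearMap.ker (Fintype.linearCombination K w) := by
    ext c
    simp only [LinearMap.mem_ker, Fintype.linearCombination_apply]
    exact h c
  let φ : LinearMap.range (Fintype.linearCombination K u) ≃ₗ[K]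
      LinearMap.range (Fintype.linearCombination K w) :=
    (LinearMap.quotKerEquivRange (Fintype.linearCombination K u)).symm ≪≫ₗ
      Submodule.quotEquivOfEq _ _ hker ≪≫ₗ
      LinearMap.quotKerEquivRange (Fintype.linearCombination K w)
  obtain ⟨A, hA⟩ := exists_linearEquiv_extend _ _ φ
  refine ⟨A, fun i => ?_⟩
  have hu : Fintype.linearCombination K u (Pi.single i 1) = u i := by
    simp [Fintype.linearCombination_apply, Pi.single_apply]
  have hw : Fintype.linearCombination K w (Pi.single i 1) = w i := by
    simp [Fintype.linearCombination_apply, Pi.single_apply]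
  have := hA ⟨Fintype.linearCombination K u (Pi.single i 1), LinearMap.mem_range_self _ _⟩
  rw [← hu, ← hw]
  rw [this]
  simp only [φ, LinearEquiv.trans_apply]
  rw [LinearMap.quotKerEquivRange_symm_apply_image, Submodule.mkQ_apply,
    Submodule.quotEquivOfEq_mk, LinearMap.quotKerEquivRange_apply_mk]

end Cfsg.Agent.Helper17
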