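import Mathlib

/-!
# Monomial `2 × 2` groups: forms and generic automorphism lemmas (helper17)

`DF f a b` : `f (x, y) = (a x, b y)`; `WF f a b` : `f (x, y) = (b y, a x)`.
-/

set_option autoImplicit false

namespace Cfsg.Agent.Helper17.MonoAut

section Generic

variable {X : Type*} [Group X]

theorem pow_apply_of_fixed (ψ : MulAut X) {y c : X} (hy : ψ y = y * c) (hc : ψ c = c) (t : ℕ) :
    (ψ ^ t) y = y * c ^ t := by
  induction t with
  | zero => simp
  | succ t ih =>
    rw [pow_succ', MulAut.mul_apply, ih, map_mul, map_pow, hy, hc, pow_succ', mul_assoc]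

/-- an automorphism of odd order moving `x` by a fixed `2`-element fixes `x` -/
theorem fix_of_mul_fixed (ψ : MulAut X) {r : ℕ} (hr : Odd r) (hψ : ψ ^ r = 1)
    {x c : X} (hx : ψ x = x * c) (hc : ψ c = c) {k : ℕ} (hck : c ^ (2 ^ k) = 1) : ψ x = x := by
  have h3 := pow_apply_of_fixed ψ hx hc r
  rw [hψ, MulAut.one_apply] at h3
  have h4 : c ^ r = 1 := by
    have : x * 1 = x * c ^ r := by rw [mul_one]; exact h3
    exact (mul_left_cancel this).symm
  have h1 : c ^ Nat.gcd r (2 ^ k) = 1 := pow_gcd_eq_one.mpr ⟨h4, hck⟩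
  have h2 : Nat.gcd r (2 ^ k) = 1 := by
    apply Nat.Coprime.pow_right
    exact (Nat.coprime_two_right.mpr hr)
  rw [h2, pow_one] at h1
  rw [hx, h1, mul_one]

/-- if `ψ` fixes `y` and the conjugate `x y x⁻¹`, then `x⁻¹ ψ(x)` commutes with `y` -/
theorem comm_of_fixed_conj (ψ : MulAut X) {x y : X} (hy : ψ y = y)
    (hxy : ψ (x * y * x⁻¹) = x * y * x⁻¹) : (x⁻¹ * ψ x) * y = y * (x⁻¹ * ψ x) := by
  rw [map_mul, map_mul, map_inv, hy] at hxy
  have := congrArg (fun t => x⁻¹ * t * ψ x) hxy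
  simp only [mul_assoc, inv_mul_cancel, mul_one, inv_mul_cancel_left] at this
  rw [mul_assoc]
  exact this

/-- the final assembly: if odd-order automorphisms are trivial, the automorphism group is a
`2`-group -/
theorem isPGroup_two_of_odd_trivial [Finite X]
    (h : ∀ (ψ : MulAut X) (r : ℕ), Odd r → ψ ^ r = 1 → ψ = 1) : IsPGroup 2 (MulAut X) := by
  haveI : Finite (MulAut X) := Finite.of_injective (fun ψ : MulAut X => (ψ : X → X))
    (fun a b hab => MulEquiv.ext (congrFun hab))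
  intro ψ
  obtain ⟨k, r, hr, hn⟩ := Nat.exists_eq_two_pow_mul_odd (orderOf_pos ψ).ne'
  refine ⟨k, h (ψ ^ (2 ^ k)) r hr ?_⟩
  rw [← pow_mul, ← hn, pow_orderOf_eq_one]

end Generic

section Forms

variable {F : Type*} [Field F]

/-- diagonal form -/
def DF (f : (Fin 2 → F) ≃ₗ[F] (Fin 2 → F)) (a b : F) : Prop :=
  ∀ v, f v = ![a * v 0, b * v 1]

/-- antidiagonal form -/
def WF (f : (Fin 2 → F) ≃ₗ[F] (Fin 2 → F)) (a b : F) : Prop :=
  ∀ v, f v = ![b * v 1, a * v 0]

variable {f g : (Fin 2 → F) ≃ₗ[F] (Fin 2 → F)} {a b c d : F}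

theorem DF.mul_DF (hf : DF f a b) (hg : DF g c d) : DF (f * g) (a * c) (b * d) := by
  intro v
  rw [LinearEquiv.mul_apply, hf, hg]
  simp [mul_assoc]

theorem WF.mul_DF (hf : WF f a b) (hg : DF g c d) : WF (f * g) (a * c) (b * d) := by
  intro v
  rw [LinearEquiv.mul_apply, hf, hg]
  simp [mul_assoc]

theorem DF.mul_WF (hf : DF f a b) (hg : WF g c d) : WF (f * g) (b * c) (a * d) := by
  intro v
  rw [LinearEquiv.mul_apply, hf, hg]
  simp [mul_assoc]

theorem WF.mul_WF (hf : WF f a b) (hg : WF g c d) : DF (f * g) (b * c) (a * d) := by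
  intro v
  rw [LinearEquiv.mul_apply, hf, hg]
  simp [mul_assoc]

theorem DF.ext (hf : DF f a b) (hg : DF g a b) : f = g :=
  LinearEquiv.ext fun v => (hf v).trans (hg v).symm

theorem WF.ext (hf : WF f a b) (hg : WF g a b) : f = g :=
  LinearEquiv.ext fun v => (hf v).trans (hg v).symm

theorem DF.inj (hf : DF f a b) (hg : DF f c d) : a = c ∧ b = d := by
  have h := (hf ![1, 1]).symm.trans (hg ![1, 1])
  have h0 := congrFun h 0
  have h1 := congrFun h 1
  simp at h0 h1
  exact ⟨h0, h1⟩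

theorem WF.inj (hf : WF f a b) (hg : WF f c d) : a = c ∧ b = d := by
  have h := (hf ![1, 1]).symm.trans (hg ![1, 1])
  have h0 := congrFun h 0
  have h1 := congrFun h 1
  simp at h0 h1
  exact ⟨h1, h0⟩

theorem DF.not_WF (hf : DF f a b) (hg : WF f c d) (hc : c ≠ 0) : False := by
  have h := (hf ![1, 0]).symm.trans (hg ![1, 0])
  have h1 := congrFun h 1
  simp at h1
  exact hc h1.symm

theorem DF_one : DF (1 : (Fin 2 → F) ≃ₗ[F] (Fin 2 → F)) 1 1 := by
  intro v
  ext i
  fin_cases i <;> simp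

theorem DF.pow (hf : DF f a b) (n : ℕ) : DF (f ^ n) (a ^ n) (b ^ n) := by
  induction n with
  | zero => simpa using DF_one
  | succ n ih =>
    rw [pow_succ, pow_succ, pow_succ]
    exact ih.mul_DF hf

theorem DF.eq_one (hf : DF f 1 1) : f = 1 := hf.ext DF_one

/-- the diagonal map -/
def mkD (a b : F) (ha : a ≠ 0) (hb : b ≠ 0) : (Fin 2 → F) ≃ₗ[F] (Fin 2 → F) where
  toFun v := ![a * v 0, b * v 1]
  invFun v := ![a⁻¹ * v 0, b⁻¹ * v 1]
  map_add' v w := by
    ext i; fin_cases i <;> simp [mul_add]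
  map_smul' c v := by
    ext i; fin_cases i <;> simp [mul_left_comm]
  left_inv v := by
    ext i; fin_cases i <;> simp [ha, hb]
  right_inv v := by
    ext i; fin_cases i <;> simp [ha, hb]

theorem DF_mkD (ha : a ≠ 0) (hb : b ≠ 0) : DF (mkD a b ha hb) a b := fun _ => rfl

/-- the coordinate swap -/
def sw : (Fin 2 → F) ≃ₗ[F] (Fin 2 → F) where
  toFun v := ![v 1, v 0]
  invFun v := ![v 1, v 0]
  map_add' v w := by
    ext i; fin_cases i <;> simp
  map_smul' c v := by
    ext i; fin_cases i <;> simp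
  left_inv v := by
    ext i; fin_cases i <;> simp
  right_inv v := by
    ext i; fin_cases i <;> simp

theorem WF_sw : WF (sw : (Fin 2 → F) ≃ₗ[F] (Fin 2 → F)) 1 1 := by
  intro v
  show ![v 1, v 0] = _
  simp

theorem nz_of_mul (h : a * b = 1 ∨ a * b = -1) : a ≠ 0 ∧ b ≠ 0 := by
  constructor
  · rintro rfl
    rw [zero_mul] at h
    rcases h with h | h
    · exact zero_ne_one h
    · exact one_ne_zero (neg_eq_zero.mp h.symm)
  · rintro rfl
    rw [mul_zero] at h
    rcases h with h | h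
    · exact zero_ne_one h
    · exact one_ne_zero (neg_eq_zero.mp h.symm)

theorem sq_of_mul (h : a * b = 1 ∨ a * b = -1) : (a * b) * (a * b) = 1 := by
  rcases h with h | h <;> rw [h] <;> ring

end Forms

end Cfsg.Agent.Helper17.MonoAut
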