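import Mathlib
import Cfsg.Agent.Lib.Helper17.MonoAut1

/-!
# Monomial `2 × 2` groups: odd-order automorphisms are trivial (helper17)
-/

set_option autoImplicit false

namespace Cfsg.Agent.Helper17.MonoAut

section Main

variable {F : Type*} [Field F] {T : Subgroup ((Fin 2 → F) ≃ₗ[F] (Fin 2 → F))}

/-- the defining property of the monomial group -/
def IsMono (T : Subgroup ((Fin 2 → F) ≃ₗ[F] (Fin 2 → F))) : Prop :=
  ∀ f, f ∈ T ↔ ∃ a b : F, (a * b = 1 ∨ a * b = -1) ∧ (DF f a b ∨ WF f a b)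

theorem IsMono.cases (hT : IsMono T) (x : T) :
    (∃ a b : F, (a * b = 1 ∨ a * b = -1) ∧ DF (x : (Fin 2 → F) ≃ₗ[F] (Fin 2 → F)) a b) ∨
    (∃ a b : F, (a * b = 1 ∨ a * b = -1) ∧ WF (x : (Fin 2 → F) ≃ₗ[F] (Fin 2 → F)) a b) := by
  obtain ⟨a, b, h, h' | h'⟩ := (hT x).1 x.2
  · exact Or.inl ⟨a, b, h, h'⟩
  · exact Or.inr ⟨a, b, h, h'⟩

/-- diagonal elements of `T` -/
noncomputable def IsMono.mk (hT : IsMono T) (a b : F) (h : a * b = 1 ∨ a * b = -1) : T :=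
  ⟨mkD a b (nz_of_mul h).1 (nz_of_mul h).2,
    (hT _).2 ⟨a, b, h, Or.inl (DF_mkD (nz_of_mul h).1 (nz_of_mul h).2)⟩⟩

theorem IsMono.DF_mk (hT : IsMono T) (a b : F) (h : a * b = 1 ∨ a * b = -1) :
    DF (hT.mk a b h : (Fin 2 → F) ≃ₗ[F] (Fin 2 → F)) a b :=
  DF_mkD (nz_of_mul h).1 (nz_of_mul h).2

theorem DF.extT {x y : T} {a b : F} (hx : DF (x : (Fin 2 → F) ≃ₗ[F] (Fin 2 → F)) a b)
    (hy : DF (y : (Fin 2 → F) ≃ₗ[F] (Fin 2 → F)) a b) : x = y := Subtype.ext (hx.ext hy)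

theorem WF.extT {x y : T} {a b : F} (hx : WF (x : (Fin 2 → F) ≃ₗ[F] (Fin 2 → F)) a b)
    (hy : WF (y : (Fin 2 → F) ≃ₗ[F] (Fin 2 → F)) a b) : x = y := Subtype.ext (hx.ext hy)

theorem DF.eq_oneT {x : T} (hx : DF (x : (Fin 2 → F) ≃ₗ[F] (Fin 2 → F)) 1 1) : x = 1 :=
  Subtype.ext hx.eq_one

theorem DF.mulT {x y : T} {a b c d : F} (hx : DF (x : (Fin 2 → F) ≃ₗ[F] (Fin 2 → F)) a b)
    (hy : DF (y : (Fin 2 → F) ≃ₗ[F] (Fin 2 → F)) c d) :
    DF ((x * y : T) : (Fin 2 → F) ≃ₗ[F] (Fin 2 → F)) (a * c) (b * d) := hx.mul_DF hy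

theorem WF.mulDT {x y : T} {a b c d : F} (hx : WF (x : (Fin 2 → F) ≃ₗ[F] (Fin 2 → F)) a b)
    (hy : DF (y : (Fin 2 → F) ≃ₗ[F] (Fin 2 → F)) c d) :
    WF ((x * y : T) : (Fin 2 → F) ≃ₗ[F] (Fin 2 → F)) (a * c) (b * d) := hx.mul_DF hy

theorem DF.mulWT {x y : T} {a b c d : F} (hx : DF (x : (Fin 2 → F) ≃ₗ[F] (Fin 2 → F)) a b)
    (hy : WF (y : (Fin 2 → F) ≃ₗ[F] (Fin 2 → F)) c d) :
    WF ((x * y : T) : (Fin 2 → F) ≃ₗ[F] (Fin 2 → F)) (b * c) (a * d) := hx.mul_WF hy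

theorem WF.mulT {x y : T} {a b c d : F} (hx : WF (x : (Fin 2 → F) ≃ₗ[F] (Fin 2 → F)) a b)
    (hy : WF (y : (Fin 2 → F) ≃ₗ[F] (Fin 2 → F)) c d) :
    DF ((x * y : T) : (Fin 2 → F) ≃ₗ[F] (Fin 2 → F)) (b * c) (a * d) := hx.mul_WF hy

theorem DF.powT {x : T} {a b : F} (hx : DF (x : (Fin 2 → F) ≃ₗ[F] (Fin 2 → F)) a b) (n : ℕ) :
    DF ((x ^ n : T) : (Fin 2 → F) ≃ₗ[F] (Fin 2 → F)) (a ^ n) (b ^ n) := by
  rw [Subgroup.coe_pow]
  exact hx.pow n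

theorem DF_oneT : DF ((1 : T) : (Fin 2 → F) ≃ₗ[F] (Fin 2 → F)) 1 1 := DF_one

/-- squares have the form `(c, c⁻¹)` -/
theorem IsMono.sqform (hT : IsMono T) (x : T) :
    ∃ c : F, c ≠ 0 ∧ DF ((x * x : T) : (Fin 2 → F) ≃ₗ[F] (Fin 2 → F)) c c⁻¹ := by
  rcases hT.cases x with ⟨a, b, h, hx⟩ | ⟨a, b, h, hx⟩
  · refine ⟨a * a, mul_ne_zero (nz_of_mul h).1 (nz_of_mul h).1, ?_⟩
    have h1 := hx.mulT hx
    have h2 : b * b = (a * a)⁻¹ := by
      apply eq_inv_of_mul_eq_one_right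
      rw [← sq_of_mul h]; ring
    rwa [h2] at h1
  · refine ⟨b * a, mul_ne_zero (nz_of_mul h).2 (nz_of_mul h).1, ?_⟩
    have h1 := hx.mulT hx
    have h2 : a * b = (b * a)⁻¹ := by
      apply eq_inv_of_mul_eq_one_right
      rw [← sq_of_mul h]; ring
    rwa [h2] at h1

/-- the central involution `-1` -/
noncomputable def IsMono.z (hT : IsMono T) : T := hT.mk (-1) (-1) (Or.inl (by ring))

theorem IsMono.DF_z (hT : IsMono T) : DF (hT.z : (Fin 2 → F) ≃ₗ[F] (Fin 2 → F)) (-1) (-1) :=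
  hT.DF_mk _ _ _

/-- the element `(x, y) ↦ (-y, x)` -/
noncomputable def IsMono.w (hT : IsMono T) : T :=
  ⟨mkD (-1 : F) 1 (neg_ne_zero.mpr one_ne_zero) one_ne_zero * sw,
    (hT _).2 ⟨1 * 1, -1 * 1, Or.inr (by ring), Or.inr ((DF_mkD _ _).mul_WF WF_sw)⟩⟩

theorem IsMono.WF_w (hT : IsMono T) : WF (hT.w : (Fin 2 → F) ≃ₗ[F] (Fin 2 → F)) 1 (-1) := by
  have h : WF (hT.w : (Fin 2 → F) ≃ₗ[F] (Fin 2 → F)) (1 * 1) (-1 * 1) :=
    (DF_mkD _ _).mul_WF WF_sw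
  rwa [mul_one, mul_one] at h

theorem IsMono.w_mul_w (hT : IsMono T) : hT.w * hT.w = hT.z := by
  have h := hT.WF_w.mulT hT.WF_w
  rw [mul_one, one_mul] at h
  exact h.extT hT.DF_z

theorem IsMono.z_mul_z (hT : IsMono T) : hT.z * hT.z = 1 := by
  have h := hT.DF_z.mulT hT.DF_z
  rw [neg_mul_neg, one_mul] at h
  exact h.eq_oneT

theorem IsMono.z_pow (hT : IsMono T) : hT.z ^ (2 ^ 1) = 1 := by
  rw [pow_one, pow_two]; exact hT.z_mul_z

theorem IsMono.z_ne_one (hT : IsMono T) (h2 : (2 : F) ≠ 0) : hT.z ≠ 1 := by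
  intro h
  have h1 := hT.DF_z
  rw [h] at h1
  have h3 := (h1.inj DF_oneT).1
  apply h2
  linear_combination -h3

theorem IsMono.z_comm (hT : IsMono T) (x : T) : x * hT.z = hT.z * x := by
  rcases hT.cases x with ⟨a, b, h, hx⟩ | ⟨a, b, h, hx⟩
  · have h1 := hx.mulT hT.DF_z
    have h2 := hT.DF_z.mulT hx
    rw [mul_comm (-1) a, mul_comm (-1) b] at h2
    exact h1.extT h2
  · have h1 := hx.mulDT hT.DF_z
    have h2 := hT.DF_z.mulWT hx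
    rw [mul_comm (-1) a, mul_comm (-1) b] at h2
    exact h1.extT h2

variable (α : MulAut T)

/-- step (a): `z` is fixed by every automorphism -/
theorem IsMono.map_z (hT : IsMono T) (h2 : (2 : F) ≠ 0) : α hT.z = hT.z := by
  obtain ⟨c, hc0, hc⟩ := hT.sqform (α hT.w)
  have e1 : α hT.w * α hT.w = α hT.z := by rw [← map_mul, hT.w_mul_w]
  rw [e1] at hc
  have e2 : α hT.z * α hT.z = 1 := by rw [← map_mul, hT.z_mul_z, map_one]
  have h3 := hc.mulT hc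
  rw [e2] at h3
  have h4 := (h3.inj DF_oneT).1
  rcases mul_self_eq_one_iff.mp h4 with h5 | h5
  · exfalso
    rw [h5, inv_one] at hc
    have h6 : α hT.z = 1 := hc.eq_oneT
    exact hT.z_ne_one h2 ((map_eq_one_iff α α.injective).mp h6)
  · rw [h5, inv_neg_one] at hc
    exact hc.extT hT.DF_z

variable {α} {r : ℕ} (hr : Odd r) (hα : α ^ r = 1)
include hr hα

/-- step (b): squares are fixed -/
theorem IsMono.map_sq (hT : IsMono T) (h2 : (2 : F) ≠ 0) :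
    ∀ (k : ℕ) (x : T), (x * x) ^ (2 ^ k) = 1 → α (x * x) = x * x := by
  intro k
  induction k with
  | zero =>
    intro x hx
    rw [pow_zero, pow_one] at hx
    rw [hx, map_one]
  | succ k ih =>
    intro x hx
    have h1 : α ((x * x) * (x * x)) = (x * x) * (x * x) := by
      apply ih
      rw [← pow_two, ← pow_mul, ← pow_succ']
      exact hx
    obtain ⟨c, hc0, hc⟩ := hT.sqform x
    obtain ⟨c', hc0', hc'⟩ := hT.sqform (α x)
    rw [← map_mul] at hc'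
    have h3 := hc'.mulT hc'
    rw [← map_mul, h1] at h3
    have h4 := (h3.inj (hc.mulT hc)).1
    rcases mul_self_eq_mul_self_iff.mp h4 with h5 | h5
    · rw [h5] at hc'
      exact hc'.extT hc
    · have h6 := hc.mulT hT.DF_z
      rw [h5, inv_neg, ← mul_neg_one c, ← mul_neg_one c⁻¹] at hc'
      have h7 : α (x * x) = (x * x) * hT.z := hc'.extT h6
      exact fix_of_mul_fixed α hr hα h7 (hT.map_z α h2) hT.z_pow

end Main

end Cfsg.Agent.Helper17.MonoAut
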