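import Mathlib
import Cfsg.Agent.Lib.Helper17.MonoAut2

/-!
# Monomial `2 × 2` groups: odd-order automorphisms are trivial, the three cases (helper17)
-/

set_option autoImplicit false

namespace Cfsg.Agent.Helper17.MonoAut

section Big

variable {F : Type*} [Field F] {T : Subgroup ((Fin 2 → F) ≃ₗ[F] (Fin 2 → F))}

/-- the element `diag(2, 1/2)` -/
noncomputable def IsMono.t (hT : IsMono T) (h2 : (2 : F) ≠ 0) : T :=
  hT.mk 2 2⁻¹ (Or.inl (mul_inv_cancel₀ h2))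

theorem IsMono.DF_t (hT : IsMono T) (h2 : (2 : F) ≠ 0) :
    DF (hT.t h2 : (Fin 2 → F) ≃ₗ[F] (Fin 2 → F)) 2 2⁻¹ := hT.DF_mk _ _ _

/-- the element `diag(1, -1)` -/
noncomputable def IsMono.u (hT : IsMono T) : T := hT.mk 1 (-1) (Or.inr (by ring))

theorem IsMono.DF_u (hT : IsMono T) : DF (hT.u : (Fin 2 → F) ≃ₗ[F] (Fin 2 → F)) 1 (-1) :=
  hT.DF_mk _ _ _

theorem IsMono.u_mul_u (hT : IsMono T) : hT.u * hT.u = 1 := by
  have h := hT.DF_u.mulT hT.DF_u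
  rw [neg_mul_neg, one_mul] at h
  exact h.eq_oneT

/-- diagonal elements are `2`-elements -/
theorem IsMono.pow_eq_one_of_DF (hT : IsMono T) {m : ℕ} (hF : ∀ a : F, a ≠ 0 → a ^ (2 ^ m) = 1)
    {x : T} {a b : F} (ha : a ≠ 0) (hb : b ≠ 0)
    (hx : DF (x : (Fin 2 → F) ≃ₗ[F] (Fin 2 → F)) a b) : x ^ (2 ^ m) = 1 := by
  have h := hx.powT (2 ^ m)
  rw [hF a ha, hF b hb] at h
  exact h.eq_oneT

variable {α : MulAut T} {r : ℕ} (hr : Odd r) (hα : α ^ r = 1)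
include hr hα

/-- step (c): `x⁻¹ α(x)` is diagonal -/
theorem IsMono.diag_of_big (hT : IsMono T) (h2 : (2 : F) ≠ 0) (h15 : (15 : F) ≠ 0) {m : ℕ}
    (hF : ∀ a : F, a ≠ 0 → a ^ (2 ^ m) = 1) (x : T) :
    ∃ a b : F, (a * b = 1 ∨ a * b = -1) ∧
      DF ((x⁻¹ * α x : T) : (Fin 2 → F) ≃ₗ[F] (Fin 2 → F)) a b := by
  have h2i : (2 : F)⁻¹ ≠ 0 := inv_ne_zero h2
  have ht := hT.DF_t h2
  have hy := ht.mulT ht
  have hypow : (hT.t h2 * hT.t h2) ^ (2 ^ m) = 1 :=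
    hT.pow_eq_one_of_DF hF (mul_ne_zero h2 h2) (mul_ne_zero h2i h2i) hy
  have e1 : α (hT.t h2 * hT.t h2) = hT.t h2 * hT.t h2 := hT.map_sq hr hα h2 m _ hypow
  have e2 : x * (hT.t h2 * hT.t h2) * x⁻¹ = (x * hT.t h2 * x⁻¹) * (x * hT.t h2 * x⁻¹) := by
    group
  have e3 : α (x * (hT.t h2 * hT.t h2) * x⁻¹) = x * (hT.t h2 * hT.t h2) * x⁻¹ := by
    rw [e2]
    apply hT.map_sq hr hα h2 m
    rw [← e2, conj_pow, hypow, mul_one, mul_inv_cancel]
  have e4 := comm_of_fixed_conj α e1 e3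
  rcases hT.cases (x⁻¹ * α x) with h | ⟨a, b, h, hc⟩
  · exact h
  · exfalso
    have h5 := hc.mulDT hy
    have h6 := hy.mulWT hc
    rw [e4] at h5
    have h7 := (h5.inj h6).1
    have ha := (nz_of_mul h).1
    have h8 : (2 : F) * 2 = 2⁻¹ * 2⁻¹ := by
      apply mul_left_cancel₀ ha
      rw [h7]; ring
    apply h15
    have h9 : ((2 : F) * 2) * (2 * 2) = 1 := by
      nth_rewrite 1 [h8]
      field_simp
    linear_combination h9

/-- step (d): `u` is fixed -/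
theorem IsMono.map_u (hT : IsMono T) (h2 : (2 : F) ≠ 0) (h15 : (15 : F) ≠ 0) {m : ℕ}
    (hF : ∀ a : F, a ≠ 0 → a ^ (2 ^ m) = 1) : α hT.u = hT.u := by
  obtain ⟨a, b, h, hc⟩ := hT.diag_of_big hr hα h2 h15 hF hT.u
  have e1 : α hT.u = hT.u * (hT.u⁻¹ * α hT.u) := by group
  have h1 := hT.DF_u.mulT hc
  rw [← e1, one_mul] at h1
  have e2 : α hT.u * α hT.u = 1 := by rw [← map_mul, hT.u_mul_u, map_one]
  have h3 := h1.mulT h1
  rw [e2] at h3
  obtain ⟨h4, h5⟩ := h3.inj DF_oneT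
  have hne : (-1 : F) ≠ 1 := by
    intro h; apply h2; linear_combination -h
  rcases mul_self_eq_one_iff.mp h4 with h6 | h6 <;> rcases mul_self_eq_one_iff.mp h5 with h7 | h7
  · exfalso
    rw [h6, h7] at h1
    have h8 : hT.u = 1 := (map_eq_one_iff α α.injective).mp h1.eq_oneT
    have h9 := hT.DF_u
    rw [h8] at h9
    exact hne (h9.inj DF_oneT).2
  · rw [h6, h7] at h1
    exact h1.extT hT.DF_u
  · have h8 := hT.DF_u.mulT hT.DF_z
    rw [one_mul, neg_mul_neg, one_mul] at h8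
    rw [h6, h7] at h1
    have h9 : α hT.u = hT.u * hT.z := h1.extT h8
    exact fix_of_mul_fixed α hr hα h9 (hT.map_z α h2) hT.z_pow
  · exfalso
    rw [h6, h7] at h1
    have h8 : α hT.u = hT.z := h1.extT hT.DF_z
    rw [← hT.map_z α h2] at h8
    have h9 := hT.DF_u
    rw [α.injective h8] at h9
    exact hne (h9.inj hT.DF_z).1.symm

/-- step (e): diagonal elements are fixed -/
theorem IsMono.map_diag (hT : IsMono T) (h2 : (2 : F) ≠ 0) (h15 : (15 : F) ≠ 0) {m : ℕ}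
    (hF : ∀ a : F, a ≠ 0 → a ^ (2 ^ m) = 1) {x : T} {a b : F} (h : a * b = 1 ∨ a * b = -1)
    (hx : DF (x : (Fin 2 → F) ≃ₗ[F] (Fin 2 → F)) a b) : α x = x := by
  obtain ⟨ha, hb⟩ := nz_of_mul h
  obtain ⟨e, f, hef, hc⟩ := hT.diag_of_big hr hα h2 h15 hF x
  have e1 : α x = x * (x⁻¹ * α x) := by group
  have h1 := hx.mulT hc
  rw [← e1] at h1
  have hxx := hx.mulT hx
  have e2 : α (x * x) = x * x :=
    hT.map_sq hr hα h2 m x (hT.pow_eq_one_of_DF hF (mul_ne_zero ha ha) (mul_ne_zero hb hb) hxx)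
  have h3 := h1.mulT h1
  rw [← map_mul, e2] at h3
  obtain ⟨h4, h5⟩ := h3.inj hxx
  have h6 : e * e = 1 := by
    apply mul_left_cancel₀ (mul_ne_zero ha ha)
    linear_combination h4
  have h7 : f * f = 1 := by
    apply mul_left_cancel₀ (mul_ne_zero hb hb)
    linear_combination h5
  have hcc : (x⁻¹ * α x) ^ (2 ^ 1) = 1 := by
    rw [pow_one, pow_two]
    have h8 := hc.mulT hc
    rw [h6, h7] at h8
    exact h8.eq_oneT
  have hfix : α (x⁻¹ * α x) = x⁻¹ * α x := by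
    rcases mul_self_eq_one_iff.mp h6 with h8 | h8 <;>
      rcases mul_self_eq_one_iff.mp h7 with h9 | h9
    · rw [h8, h9] at hc
      rw [hc.eq_oneT, map_one]
    · rw [h8, h9] at hc
      rw [hc.extT hT.DF_u]
      exact hT.map_u hr hα h2 h15 hF
    · have h10 := hT.DF_u.mulT hT.DF_z
      rw [one_mul, neg_mul_neg, one_mul] at h10
      rw [h8, h9] at hc
      rw [hc.extT h10, map_mul, hT.map_u hr hα h2 h15 hF, hT.map_z α h2]
    · rw [h8, h9] at hc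
      rw [hc.extT hT.DF_z]
      exact hT.map_z α h2
  exact fix_of_mul_fixed α hr hα e1 hfix hcc

/-- the large case: odd-order automorphisms are trivial -/
theorem IsMono.eq_one_of_big (hT : IsMono T) (h2 : (2 : F) ≠ 0) (h15 : (15 : F) ≠ 0) {m : ℕ}
    (hF : ∀ a : F, a ≠ 0 → a ^ (2 ^ m) = 1) : α = 1 := by
  ext x
  rw [MulAut.one_apply]
  obtain ⟨e, f, hef, hc⟩ := hT.diag_of_big hr hα h2 h15 hF x
  have e1 : α x = x * (x⁻¹ * α x) := by group
  have h1 : α x = x := fix_of_mul_fixed α hr hα e1 (hT.map_diag hr hα h2 h15 hF hef hc)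
    (hT.pow_eq_one_of_DF hF (nz_of_mul hef).1 (nz_of_mul hef).2 hc)
  rw [h1]

end Big

end Cfsg.Agent.Helper17.MonoAut
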