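import Mathlib
import Cfsg.Agent.Lib.Helper17.MonoAut2

/-!
# Monomial `2 × 2` groups: the small fields (helper17)
-/

set_option autoImplicit false

namespace Cfsg.Agent.Helper17.MonoAut

section Small

theorem pow_four_eq {X : Type*} [Monoid X] (x : X) : x ^ (2 ^ 2) = (x * x) * (x * x) := by
  simp [pow_succ, mul_assoc]

variable {F : Type*} [Field F] {T : Subgroup ((Fin 2 → F) ≃ₗ[F] (Fin 2 → F))}

/-- the field with two elements: the group has order two -/
theorem IsMono.eq_one_of_two (hT : IsMono T) (h1 : ∀ a : F, a ≠ 0 → a = 1) (α : MulAut T) :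
    α = 1 := by
  ext x
  rw [MulAut.one_apply]
  have key : ∀ y : T, (∃ a b : F, (a * b = 1 ∨ a * b = -1) ∧
      DF (y : (Fin 2 → F) ≃ₗ[F] (Fin 2 → F)) a b) → y = 1 := by
    rintro y ⟨a, b, h, hy⟩
    rw [h1 a (nz_of_mul h).1, h1 b (nz_of_mul h).2] at hy
    exact hy.eq_oneT
  have key2 : ∀ y : T, (∃ a b : F, (a * b = 1 ∨ a * b = -1) ∧
      WF (y : (Fin 2 → F) ≃ₗ[F] (Fin 2 → F)) a b) →
      WF (y : (Fin 2 → F) ≃ₗ[F] (Fin 2 → F)) 1 1 := by
    rintro y ⟨a, b, h, hy⟩
    rw [h1 a (nz_of_mul h).1, h1 b (nz_of_mul h).2] at hy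
    exact hy
  rcases hT.cases x with h | h
  · rw [key x h, map_one]
  · have hx := key2 x h
    rcases hT.cases (α x) with h' | h'
    · exfalso
      have h3 : x = 1 := (map_eq_one_iff α α.injective).mp (key _ h')
      rw [h3] at hx
      exact DF_oneT.not_WF hx one_ne_zero
    · rw [(key2 _ h').extT hx]

theorem IsMono.w_pow (hT : IsMono T) : hT.w ^ (2 ^ 2) = 1 := by
  rw [pow_four_eq, hT.w_mul_w, hT.z_mul_z]

variable {α : MulAut T} {r : ℕ} (hr : Odd r) (hα : α ^ r = 1)
include hr hα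

/-- the field with three elements: the group is dihedral of order eight -/
theorem IsMono.eq_one_of_three (hT : IsMono T) (h2 : (2 : F) ≠ 0)
    (h3 : ∀ a : F, a ≠ 0 → a = 1 ∨ a = -1) : α = 1 := by
  have hne : (1 : F) ≠ -1 := by
    intro h; apply h2; linear_combination h
  have hwz := hT.WF_w.mulDT hT.DF_z
  rw [one_mul, neg_mul_neg, one_mul] at hwz
  -- elements squaring to `z`
  have sqz : ∀ y : T, y * y = hT.z → y = hT.w ∨ y = hT.w * hT.z := by
    intro y hy
    rcases hT.cases y with ⟨a, b, h, hf⟩ | ⟨a, b, h, hf⟩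
    · exfalso
      have h4 := hf.mulT hf
      rw [hy] at h4
      have h5 := (h4.inj hT.DF_z).1
      rcases h3 a (nz_of_mul h).1 with h6 | h6 <;> rw [h6] at h5
      · rw [one_mul] at h5; exact hne h5
      · rw [neg_mul_neg, one_mul] at h5; exact hne h5
    · have h4 := hf.mulT hf
      rw [hy] at h4
      have h5 := (h4.inj hT.DF_z).2
      rcases h3 a (nz_of_mul h).1 with h6 | h6
      · left
        rw [h6, one_mul] at h5
        rw [h6, h5] at hf
        exact hf.extT hT.WF_w
      · right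
        rw [h6] at h5
        have h7 : b = 1 := by linear_combination -h5
        rw [h6, h7] at hf
        exact hf.extT hwz
  have mz := hT.map_z α h2
  -- `w` is fixed
  have mw : α hT.w = hT.w := by
    have e1 : α hT.w * α hT.w = hT.z := by rw [← map_mul, hT.w_mul_w, mz]
    rcases sqz _ e1 with h | h
    · exact h
    · exact fix_of_mul_fixed α hr hα h mz hT.z_pow
  -- conjugates of `w` are fixed
  have mconj : ∀ x : T, α (x * hT.w * x⁻¹) = x * hT.w * x⁻¹ := by
    intro x
    have e1 : (x * hT.w * x⁻¹) * (x * hT.w * x⁻¹) = hT.z := by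
      have : (x * hT.w * x⁻¹) * (x * hT.w * x⁻¹) = x * (hT.w * hT.w) * x⁻¹ := by group
      rw [this, hT.w_mul_w, hT.z_comm, mul_assoc, mul_inv_cancel, mul_one]
    rcases sqz _ e1 with h | h
    · rw [h, mw]
    · rw [h, map_mul, mw, mz]
  -- the centralizer of `w`
  have cent : ∀ c : T, c * hT.w = hT.w * c → α c = c ∧ c ^ (2 ^ 2) = 1 := by
    intro c hc
    rcases hT.cases c with ⟨a, b, h, hf⟩ | ⟨a, b, h, hf⟩
    · have h4 := hf.mulWT hT.WF_w
      have h5 := hT.WF_w.mulDT hf
      rw [hc] at h4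
      have h6 := (h4.inj h5).1
      rw [mul_one, one_mul] at h6
      rw [h6] at hf
      rcases h3 a (nz_of_mul h).1 with h7 | h7 <;> rw [h7] at hf
      · rw [hf.eq_oneT, map_one, one_pow]
        exact ⟨rfl, rfl⟩
      · rw [hf.extT hT.DF_z]
        refine ⟨mz, ?_⟩
        rw [pow_four_eq, hT.z_mul_z, one_mul]
    · have h4 := hf.mulT hT.WF_w
      have h5 := hT.WF_w.mulT hf
      rw [hc] at h4
      have h6 := (h4.inj h5).1
      rw [mul_one] at h6
      rw [h6] at hf
      rcases h3 a (nz_of_mul h).1 with h7 | h7 <;> rw [h7] at hf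
      · rw [neg_one_mul] at hf
        rw [hf.extT hT.WF_w]
        exact ⟨mw, hT.w_pow⟩
      · rw [neg_mul_neg, one_mul] at hf
        rw [hf.extT hwz]
        refine ⟨by rw [map_mul, mw, mz], ?_⟩
        have e : hT.w * hT.z * (hT.w * hT.z) = hT.z := by
          rw [hT.z_comm hT.w, mul_assoc, ← hT.z_comm hT.w, ← mul_assoc hT.w, hT.w_mul_w,
            hT.z_mul_z, mul_one]
        rw [pow_four_eq, e, hT.z_mul_z]
  ext x
  rw [MulAut.one_apply]
  have e4 := comm_of_fixed_conj α mw (mconj x)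
  obtain ⟨hfix, hpow⟩ := cent _ e4
  have e1 : α x = x * (x⁻¹ * α x) := by group
  rw [fix_of_mul_fixed α hr hα e1 hfix hpow]

end Small

end Cfsg.Agent.Helper17.MonoAut
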