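import Mathlib
import Cfsg.Agent.Lib.Helper21.N9KDefs

/-!
# S3702 GROUP piece KINA (helper17 for helper21): each of the nine representatives has a power in `J0 ∖ 1`.
-/

set_option autoImplicit false
set_option linter.unusedSectionVars false
set_option linter.unusedVariables false

namespace Cfsg.Agent.Helper21.N9

open Cfsg Cfsg.Agent.Helper16

universe u

/-- PIECE S3702-GR-KINA: the nine representatives lie in `A` (exponents `1,1,1,2,2,4,4,3,3`) -/
theorem inA_K0 : ∀ a : Fin 9, ∃ k : ℕ, CK.z a ^ k ∈ J0 ∧ CK.z a ^ k ≠ 1 := by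
  intro a
  fin_cases a
  · exact ⟨1, by decide +kernel⟩
  · exact ⟨1, by decide +kernel⟩
  · exact ⟨1, by decide +kernel⟩
  · exact ⟨2, by decide +kernel⟩
  · exact ⟨2, by decide +kernel⟩
  · exact ⟨4, by decide +kernel⟩
  · exact ⟨4, by decide +kernel⟩
  · exact ⟨3, by decide +kernel⟩
  · exact ⟨3, by decide +kernel⟩

end Cfsg.Agent.Helper21.N9
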