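import Cfsg.Agent.Lib.Helper17.NCDefs

/-! # S3894: a few basic facts used by several pieces -/

set_option autoImplicit false

namespace Cfsg.Agent.Helper17.NC

open Matrix

variable {F : Type*} [Field F] [Fintype F] {n : ℕ}

/-- in the finite group `GL_n(F)` the inverse is a power. -/
theorem inv_eq_pow (g : GL (Fin n) F) : g⁻¹ = g ^ (orderOf g - 1) := by
  have hpos : 0 < orderOf g := orderOf_pos g
  apply inv_eq_of_mul_eq_one_right
  rw [← pow_succ', Nat.sub_add_cancel hpos, pow_orderOf_eq_one]

/-- an invertible matrix of a subalgebra lies in `torSub`. -/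
theorem mem_torSub_of_mem (K : Subalgebra F (Matrix (Fin n) (Fin n) F)) (g : GL (Fin n) F)
    (hg : (g : Matrix (Fin n) (Fin n) F) ∈ K) : g ∈ torSub K := by
  refine ⟨hg, ?_⟩
  rw [inv_eq_pow, Units.val_pow_eq_pow_val]
  exact K.pow_mem hg _

instance : Finite (Tor n F) := by
  haveI : Finite (Subalgebra F (Matrix (Fin n) (Fin n) F)) :=
    Finite.of_injective (fun K => (K : Set (Matrix (Fin n) (Fin n) F))) SetLike.coe_injective
  exact Subtype.finite

instance : Finite (Sub n F) := by
  haveI : Finite (Submodule F (Fin n → F)) :=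
    Finite.of_injective (fun W => (W : Set (Fin n → F))) SetLike.coe_injective
  exact Subtype.finite

end Cfsg.Agent.Helper17.NC
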