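import Cfsg.Agent.Lib.Helper17.NCBasic
import Cfsg.Agent.Lib.NC.NCTRANS
import Cfsg.Agent.Lib.NC.NCCOVER3
import Cfsg.Agent.Lib.NC.NCTORP
import Cfsg.Agent.Lib.NC.NCSTABP
import Cfsg.Agent.Lib.NC.NCEXGEN
import Cfsg.Agent.Lib.NC.NCGEN3
import Cfsg.Agent.Lib.NC.NCTT3
import Cfsg.Agent.Lib.NC.NCTU
import Cfsg.Agent.Lib.NC.NCUU
import Cfsg.Agent.Lib.NC.NCCOUNT
import Cfsg.Agent.Lib.NC.NCU0POW

/-! # S3894: assembly of the `GL_n`-level data and the final statement -/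

set_option autoImplicit false

namespace Cfsg.Agent.Helper17.NC

open Matrix

variable {F : Type*} [Field F] [Fintype F] {n : ℕ}

/-- the chosen Singer element of the field `K`. -/
noncomputable def tK (hn : 1 ≤ n) (K : Tor n F) : GL (Fin n) F :=
  Classical.choose (exists_tor_elt hn K)

theorem tK_mem (hn : 1 ≤ n) (K : Tor n F) : tK hn K ∈ torSub K.1 :=
  (Classical.choose_spec (exists_tor_elt hn K)).1

theorem tK_det (hn : 1 ≤ n) (K : Tor n F) : Matrix.GeneralLinearGroup.det (tK hn K) = 1 :=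
  (Classical.choose_spec (exists_tor_elt hn K)).2.1

theorem tK_order (hn : 1 ≤ n) (K : Tor n F) :
    orderOf (tK hn K) = (Fintype.card F ^ n - 1) / (Fintype.card F - 1) :=
  (Classical.choose_spec (exists_tor_elt hn K)).2.2

/-- the cover: Singer tori and subspace stabilisers. -/
def covB : Tor n F ⊕ Sub n F → Subgroup (GL (Fin n) F) :=
  Sum.elim (fun K => torSub K.1) (fun W => stab W.1)

theorem covB_center (i : Tor n F ⊕ Sub n F) : Subgroup.center (GL (Fin n) F) ≤ covB i := by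
  rcases i with K | W
  · exact center_le_torSub K.1
  · exact center_le_stab W.1

theorem covB_proper (hn : 2 ≤ n) (i : Tor n F ⊕ Sub n F) :
    ¬ (Matrix.SpecialLinearGroup.toGL :
        Matrix.SpecialLinearGroup (Fin n) F →* GL (Fin n) F).range ≤ covB i := by
  rcases i with K | W
  · exact torSub_proper hn K
  · exact stab_proper hn W

theorem covB_cover (hn : 1 ≤ n) (g : GL (Fin n) F) : ∃ i : Tor n F ⊕ Sub n F, g ∈ covB i := by
  rcases cover hn g with ⟨W, hW⟩ | ⟨K, hK⟩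
  · exact ⟨Sum.inr W, hW⟩
  · exact ⟨Sum.inl K, hK⟩

theorem main_ge3 (hn : 3 ≤ n)
    (G : Subgroup (GL (Fin n) F ⧸ Subgroup.center (GL (Fin n) F)))
    (hG : ((Matrix.SpecialLinearGroup.toGL :
        Matrix.SpecialLinearGroup (Fin n) F →* GL (Fin n) F).range).map
      (QuotientGroup.mk' (Subgroup.center (GL (Fin n) F))) ≤ G) :
    ¬ ∃ 𝓐 : Finset (Subgroup ↥G), ((∀ A ∈ 𝓐, A ≠ ⊤) ∧ (∀ g : ↥G, ∃ A ∈ 𝓐, g ∈ A)) ∧
      (∀ 𝓑 : Finset (Subgroup ↥G), (∀ A ∈ 𝓑, A ≠ ⊤) ∧ (∀ g : ↥G, ∃ A ∈ 𝓑, g ∈ A) →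
        𝓐.card ≤ 𝓑.card) ∧
      (∀ A ∈ 𝓐, Group.IsNilpotent ↥A) := by
  have hn1 : 1 ≤ n := by omega
  have hn2 : 2 ≤ n := by omega
  have hgen : ∀ K : Tor n F,
      Algebra.adjoin F {((tK hn1 K : GL (Fin n) F) : Matrix (Fin n) (Fin n) F)} = K.1 :=
    fun K => adjoin_eq_ge3 hn K _ (tK_mem hn1 K) (tK_order hn1 K)
  refine transfer G hG (I := Tor n F ⊕ Sub n F) (J := Tor n F ⊕ Flag n F) covB covB_center
    (covB_proper hn2) (covB_cover hn1) (Sum.elim (tK hn1) uj) ?_ ?_ ?_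
  · rintro (K | j)
    · exact tK_det hn1 K
    · exact det_uj j
  · intro A hA
    rintro (K | j) (K' | j') h h'
    · exact congrArg Sum.inl
        (tt_ge3 hn K K' _ _ (hgen K) (hgen K') (tK_order hn1 K) A hA h h')
    · exact (tu_false hn2 K _ (tK_mem hn1 K) (hgen K) A hA h j' h').elim
    · exact (tu_false hn2 K' _ (tK_mem hn1 K') (hgen K') A hA h' j h).elim
    · exact congrArg Sum.inr (uu A hA j j' h h')
  · rw [Nat.card_sum, Nat.card_sum]
    exact Nat.add_lt_add_left (count_lt hn) _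

end Cfsg.Agent.Helper17.NC
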