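import Mathlib
import Cfsg.Prelude.Def_ParabolicCharacters

/-!
# S3894 (no nilpotent minimal cover between PSL_n(q) and PGL_n(q)): definitions

`torSub K`  : the invertible matrices lying (with their inverse) in the subalgebra `K`;
`stab W`    : the stabiliser of the subspace `W` of `F^n`;
`Tor n F`   : the subfields of the matrix algebra of degree `n` (Singer fields);
`Sub n F`   : the proper nonzero subspaces;
`Flag n F`  : `GL_n / B` (B the upper triangular Borel subgroup);
`u0 n F`    : the regular unipotent `1 + sum E_{i,i+1}`; `uj j = out j * u0 * (out j)⁻¹`;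
`sMat a`    : `diag(a, a⁻¹)` in `GL_2`.
-/

set_option autoImplicit false

namespace Cfsg.Agent.Helper17.NC

open Matrix

variable {F : Type*} [Field F] {n : ℕ}

/-- `T_K`: invertible matrices lying in `K` together with their inverses. -/
def torSub (K : Subalgebra F (Matrix (Fin n) (Fin n) F)) : Subgroup (GL (Fin n) F) where
  carrier := {g | (g : Matrix (Fin n) (Fin n) F) ∈ K ∧
    ((g⁻¹ : GL (Fin n) F) : Matrix (Fin n) (Fin n) F) ∈ K}
  mul_mem' := by
    rintro a b ⟨ha, ha'⟩ ⟨hb, hb'⟩
    refine ⟨?_, ?_⟩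
    · rw [Units.val_mul]; exact K.mul_mem ha hb
    · rw [_root_.mul_inv_rev, Units.val_mul]; exact K.mul_mem hb' ha'
  one_mem' := by
    refine ⟨?_, ?_⟩
    · rw [Units.val_one]; exact K.one_mem
    · rw [inv_one, Units.val_one]; exact K.one_mem
  inv_mem' := by
    rintro a ⟨ha, ha'⟩
    exact ⟨ha', by rw [inv_inv]; exact ha⟩

theorem mem_torSub {K : Subalgebra F (Matrix (Fin n) (Fin n) F)} {g : GL (Fin n) F} :
    g ∈ torSub K ↔ (g : Matrix (Fin n) (Fin n) F) ∈ K ∧
      ((g⁻¹ : GL (Fin n) F) : Matrix (Fin n) (Fin n) F) ∈ K := Iff.rfl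

/-- the stabiliser of a subspace of `F^n`. -/
def stab (W : Submodule F (Fin n → F)) : Subgroup (GL (Fin n) F) where
  carrier := {g | ∀ w ∈ W, (g : Matrix (Fin n) (Fin n) F).mulVec w ∈ W ∧
    ((g⁻¹ : GL (Fin n) F) : Matrix (Fin n) (Fin n) F).mulVec w ∈ W}
  mul_mem' := by
    intro a b ha hb w hw
    refine ⟨?_, ?_⟩
    · rw [Units.val_mul, ← Matrix.mulVec_mulVec]
      exact (ha _ (hb w hw).1).1
    · rw [_root_.mul_inv_rev, Units.val_mul, ← Matrix.mulVec_mulVec]
      exact (hb _ (ha w hw).2).2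
  one_mem' := by
    intro w hw
    refine ⟨?_, ?_⟩
    · rw [Units.val_one, Matrix.one_mulVec]; exact hw
    · rw [inv_one, Units.val_one, Matrix.one_mulVec]; exact hw
  inv_mem' := by
    intro a ha w hw
    exact ⟨(ha w hw).2, by rw [inv_inv]; exact (ha w hw).1⟩

theorem mem_stab {W : Submodule F (Fin n → F)} {g : GL (Fin n) F} :
    g ∈ stab W ↔ ∀ w ∈ W, (g : Matrix (Fin n) (Fin n) F).mulVec w ∈ W ∧
      ((g⁻¹ : GL (Fin n) F) : Matrix (Fin n) (Fin n) F).mulVec w ∈ W := Iff.rfl

end Cfsg.Agent.Helper17.NC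

namespace Cfsg.Agent.Helper17.NC

open Matrix

section defs2

variable (n : ℕ) (F : Type*) [Field F]

/-- Singer fields: subalgebras of the matrix algebra which are fields of degree `n`. -/
abbrev Tor := {K : Subalgebra F (Matrix (Fin n) (Fin n) F) // IsField K ∧ Module.finrank F K = n}

/-- proper nonzero subspaces. -/
abbrev Sub := {W : Submodule F (Fin n → F) // W ≠ ⊥ ∧ W ≠ ⊤}

/-- `GL_n / B`. -/
abbrev Flag := GL (Fin n) F ⧸ Cfsg.upperTriangularGL n F

/-- the matrix of the regular unipotent element `1 + sum E_{i,i+1}`. -/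
def u0mat : Matrix (Fin n) (Fin n) F :=
  Matrix.of fun i j => if i = j ∨ i.val + 1 = j.val then 1 else 0

theorem u0mat_apply (i j : Fin n) :
    u0mat n F i j = if i = j ∨ i.val + 1 = j.val then 1 else 0 := rfl

theorem u0mat_blockTriangular : (u0mat n F).BlockTriangular id := by
  intro i j hij
  have hij' : j < i := hij
  rw [u0mat_apply, if_neg]
  rintro (h | h)
  · exact absurd h (ne_of_gt hij')
  · have : j.val < i.val := hij'
    omega

theorem det_u0mat : (u0mat n F).det = 1 := by
  rw [Matrix.det_of_isUpperTriangular (u0mat_blockTriangular n F)]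
  apply Finset.prod_eq_one
  intro i _
  rw [u0mat_apply, if_pos (Or.inl rfl)]

/-- the regular unipotent element of `GL_n`. -/
noncomputable def u0 : GL (Fin n) F :=
  Matrix.GeneralLinearGroup.mkOfDetNeZero (u0mat n F) (by rw [det_u0mat]; exact one_ne_zero)

theorem coe_u0 : ((u0 n F : GL (Fin n) F) : Matrix (Fin n) (Fin n) F) = u0mat n F := rfl

end defs2

variable {F : Type*} [Field F] {n : ℕ}

/-- the conjugate of the regular unipotent attached to the coset `j` of the Borel subgroup. -/
noncomputable def uj (j : Flag n F) : GL (Fin n) F := j.out * u0 n F * j.out⁻¹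

/-- `diag(a, a⁻¹)` in `GL_2`. -/
noncomputable def sMat (a : Fˣ) : GL (Fin 2) F :=
  ⟨Matrix.diagonal ![(a : F), ((a⁻¹ : Fˣ) : F)], Matrix.diagonal ![((a⁻¹ : Fˣ) : F), (a : F)],
    by
      rw [Matrix.diagonal_mul_diagonal, ← Matrix.diagonal_one]
      congr 1
      funext i
      fin_cases i <;> simp,
    by
      rw [Matrix.diagonal_mul_diagonal, ← Matrix.diagonal_one]
      congr 1
      funext i
      fin_cases i <;> simp⟩

theorem coe_sMat (a : Fˣ) :
    ((sMat a : GL (Fin 2) F) : Matrix (Fin 2) (Fin 2) F) =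
      Matrix.diagonal ![(a : F), ((a⁻¹ : Fˣ) : F)] := rfl

end Cfsg.Agent.Helper17.NC
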