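import Mathlib
import Cfsg.Agent.Lib.Helper1.NMDefs
import Cfsg.Agent.Lib.Helper21.ClassSize
import Cfsg.Agent.Lib.Helper17.NMCLSPROD

/-!
# S4146, piece STAB: `[G, M]` right-stabilizes `cls a`
-/

namespace Cfsg.Agent.Helper1.NM

open Subgroup

variable {G : Type*} [Group G] [Finite G] {n m : ℕ}

/-- the right stabilizer of `cls a`, as a subgroup -/
def stabRight (a : G) : Subgroup G where
  carrier := {t | ∀ x ∈ Helper21.ClassSize.cls a, x * t ∈ Helper21.ClassSize.cls a}
  one_mem' := fun x hx => by simpa using hx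
  mul_mem' := fun {s t} hs ht x hx => by
    have := ht _ (hs x hx)
    simpa [mul_assoc] using this
  inv_mem' := fun {t} ht => by
    -- `t⁻¹ = t ^ (orderOf t - 1)`
    have hpow : ∀ k : ℕ, ∀ x ∈ Helper21.ClassSize.cls a, x * t ^ k ∈ Helper21.ClassSize.cls a := by
      intro k
      induction k with
      | zero => intro x hx; simpa using hx
      | succ k ih =>
        intro x hx
        have := ht _ (ih x hx)
        rw [pow_succ, ← mul_assoc]
        exact this
    have hpos : 0 < orderOf t := orderOf_pos t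
    have hinv : t⁻¹ = t ^ (orderOf t - 1) := by
      apply inv_eq_of_mul_eq_one_right
      rw [← pow_succ']
      have : orderOf t - 1 + 1 = orderOf t := by omega
      rw [this, pow_orderOf_eq_one]
    intro x hx
    show x * t⁻¹ ∈ _
    rw [hinv]
    exact hpow _ x hx

theorem mem_stabRight {a t : G} :
    t ∈ stabRight a ↔ ∀ x ∈ Helper21.ClassSize.cls a, x * t ∈ Helper21.ClassSize.cls a :=
  Iff.rfl

/-- STAB. -/
theorem Cfg.comm_stab (c : Cfg G n m) (hlt : m < n) (M : Subgroup G) [hMn : M.Normal]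
    (hM : ∀ g : G, g ∈ M ↔ (ix g = 1 ∨ ix g = m)) (hMc : ∀ x ∈ M, ∀ y ∈ M, x * y = y * x)
    {a : G} (ha : ix a = n) (hnc : ∃ b ∈ M, a * b ≠ b * a) :
    ∀ t ∈ TM M, ∃ k : G, a * t = k * a * k⁻¹ := by
  -- Case 1: generators from non-commuting `b`
  have hcase1 : ∀ b ∈ M, a * b ≠ b * a → ∀ h : G, h * b * h⁻¹ * b⁻¹ ∈ stabRight a := by
    intro b hbM hb h
    have hbm : ix b = m := by
      rcases (hM b).1 hbM with h1 | h1
      · exfalso
        apply hb
        have hz : b ∈ center G := Helper21.ClassSize.idx_eq_one_iff.1 h1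
        exact (Subgroup.mem_center_iff.1 hz a)
      · exact h1
    rw [mem_stabRight]
    rintro x ⟨g, rfl⟩
    obtain ⟨k, hk⟩ := c.cls_mul hlt ha hbm hb g h
    exact ⟨k, hk.symm⟩
  have hle : TM M ≤ stabRight a := by
    rw [Subgroup.commutator_le]
    intro h _ b hbM
    rw [commutatorElement_def]
    by_cases hb : a * b = b * a
    · obtain ⟨b1, hb1M, hb1⟩ := hnc
      have hbb1M : b * b1 ∈ M := M.mul_mem hbM hb1M
      have hbb1 : a * (b * b1) ≠ b * b1 * a := by
        intro hcon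
        apply hb1
        have : b * (a * b1) = b * (b1 * a) := by
          calc b * (a * b1) = (b * a) * b1 := by group
            _ = (a * b) * b1 := by rw [hb]
            _ = a * (b * b1) := by group
            _ = b * b1 * a := hcon
            _ = b * (b1 * a) := by group
        exact mul_left_cancel this
      have h1 := hcase1 (b * b1) hbb1M hbb1 h
      have h2 := hcase1 b1 hb1M hb1 h
      -- `⁅h, b b1⁆ = ⁅h, b⁆ ⁅h, b1⁆` in the abelian normal subgroup `M`
      have hbh : h * b * h⁻¹ ∈ M := hMn.conj_mem b hbM h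
      have hb1h : h * b1 * h⁻¹ ∈ M := hMn.conj_mem b1 hb1M h
      have hbinv : b⁻¹ ∈ M := M.inv_mem hbM
      have hb1inv : b1⁻¹ ∈ M := M.inv_mem hb1M
      have hX : h * b1 * h⁻¹ * b1⁻¹ ∈ M := M.mul_mem hb1h hb1inv
      have hcomm : (h * b1 * h⁻¹ * b1⁻¹) * b⁻¹ = b⁻¹ * (h * b1 * h⁻¹ * b1⁻¹) :=
        hMc _ hX _ hbinv
      have hmul : h * (b * b1) * h⁻¹ * (b * b1)⁻¹
          = (h * b * h⁻¹ * b⁻¹) * (h * b1 * h⁻¹ * b1⁻¹) := by
        calc h * (b * b1) * h⁻¹ * (b * b1)⁻¹
            = (h * b * h⁻¹) * ((h * b1 * h⁻¹ * b1⁻¹) * b⁻¹) := by group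
          _ = (h * b * h⁻¹) * (b⁻¹ * (h * b1 * h⁻¹ * b1⁻¹)) := by rw [hcomm]
          _ = (h * b * h⁻¹ * b⁻¹) * (h * b1 * h⁻¹ * b1⁻¹) := by group
      have h3 : h * b * h⁻¹ * b⁻¹
          = (h * (b * b1) * h⁻¹ * (b * b1)⁻¹) * (h * b1 * h⁻¹ * b1⁻¹)⁻¹ := by
        rw [hmul]; group
      rw [h3]
      exact (stabRight a).mul_mem h1 ((stabRight a).inv_mem h2)
    · exact hcase1 b hbM hb h
  intro t ht
  have := hle ht
  rw [mem_stabRight] at this
  obtain ⟨k, hk⟩ := this a (Helper21.ClassSize.mem_cls_self a)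
  exact ⟨k, hk.symm⟩

end Cfsg.Agent.Helper1.NM
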