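import Mathlib

/-!
# Counting elements of order divisible by `p` when the Sylow `p`-subgroups have order `p` (helper17)

Generic tools for order sieves (used for S4274).
-/

set_option autoImplicit false
set_option linter.unusedSectionVars false
set_option linter.unusedVariables false

namespace Cfsg.Agent.Helper17.O175

variable {G : Type*} [Group G] [Finite G]

namespace CNT

/-- the element `g ^ (o(g)/p)` of order `p` -/
theorem orderOf_pow_div (p : ℕ) [Fact p.Prime] {g : G} (hg : p ∣ orderOf g) :
    orderOf (g ^ (orderOf g / p)) = p :=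
  orderOf_pow_orderOf_div (orderOf_pos g).ne' hg

/-- an element of order `p` centralizing a Sylow `p`-subgroup lies in it -/
theorem mem_sylow_of_centralizes (p : ℕ) [Fact p.Prime] (P : Sylow p G) {h : G}
    (ho : orderOf h = p) (hc : h ∈ Subgroup.centralizer ((P : Subgroup G) : Set G)) :
    h ∈ (P : Subgroup G) := by
  have hpg : IsPGroup p (Subgroup.zpowers h) := by
    apply IsPGroup.of_card (n := 1)
    rw [Nat.card_zpowers, ho, pow_one]
  have h1 := hpg.inf_normalizer_sylow P
  have h2 : h ∈ Subgroup.zpowers h ⊓ Subgroup.normalizer ((P : Subgroup G) : Set G) :=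
    ⟨Subgroup.mem_zpowers h, (Subgroup.centralizer_le_normalizer (s := ((P : Subgroup G) : Set G))) hc⟩
  have h3 : h ∈ Subgroup.zpowers h ⊓ (P : Subgroup G) := by
    rw [← h1]; exact h2
  exact h3.2

/-- a Sylow subgroup of order `p` is generated by each of its elements of order `p` -/
theorem eq_zpowers (p : ℕ) [Fact p.Prime] (P : Sylow p G)
    (hP : Nat.card (P : Subgroup G) = p) {h : G} (ho : orderOf h = p)
    (hh : h ∈ (P : Subgroup G)) : (P : Subgroup G) = Subgroup.zpowers h := by
  symm
  apply Subgroup.eq_of_le_of_card_ge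
  · rw [Subgroup.zpowers_le]; exact hh
  · rw [hP, Nat.card_zpowers, ho]

end CNT

/-- PIECE CENT. -/
theorem exists_sylow_mem_centralizer (p : ℕ) [Fact p.Prime]
    (hP : ∀ P : Sylow p G, Nat.card (P : Subgroup G) = p) {g : G} (hg : p ∣ orderOf g) :
    ∃ P : Sylow p G, g ∈ Subgroup.centralizer ((P : Subgroup G) : Set G) := by
  set h := g ^ (orderOf g / p) with hh
  have ho : orderOf h = p := CNT.orderOf_pow_div p hg
  have hpg : IsPGroup p (Subgroup.zpowers h) := by
    apply IsPGroup.of_card (n := 1)
    rw [Nat.card_zpowers, ho, pow_one]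
  obtain ⟨Q, hQ⟩ := hpg.exists_le_sylow
  have hQe : (Q : Subgroup G) = Subgroup.zpowers h :=
    CNT.eq_zpowers p Q (hP Q) ho (hQ (Subgroup.mem_zpowers h))
  refine ⟨Q, ?_⟩
  rw [hQe, Subgroup.mem_centralizer_iff]
  intro y hy
  obtain ⟨k, rfl⟩ := Subgroup.mem_zpowers_iff.1 hy
  have : Commute g h := (Commute.refl g).pow_right _
  exact ((this.zpow_right k).eq).symm

namespace CNT

/-- the elements of `C(P)` of order divisible by `p` -/
def E (p : ℕ) (P : Subgroup G) : Set G :=
  {g : G | g ∈ Subgroup.centralizer (P : Set G) ∧ p ∣ orderOf g}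

/-- the elements of `C(P)` of order prime to `p` -/
def D (p : ℕ) (P : Subgroup G) : Set G :=
  {g : G | g ∈ Subgroup.centralizer (P : Set G) ∧ ¬ p ∣ orderOf g}

theorem E_disjoint (p : ℕ) [Fact p.Prime]
    (hP : ∀ P : Sylow p G, Nat.card (P : Subgroup G) = p) {P Q : Sylow p G} {g : G}
    (h1 : g ∈ E p (P : Subgroup G)) (h2 : g ∈ E p (Q : Subgroup G)) : P = Q := by
  set h := g ^ (orderOf g / p) with hh
  have ho : orderOf h = p := orderOf_pow_div p h1.2
  have hc1 : h ∈ Subgroup.centralizer ((P : Subgroup G) : Set G) := Subgroup.pow_mem _ h1.1 _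
  have hc2 : h ∈ Subgroup.centralizer ((Q : Subgroup G) : Set G) := Subgroup.pow_mem _ h2.1 _
  have e1 := eq_zpowers p P (hP P) ho (mem_sylow_of_centralizes p P ho hc1)
  have e2 := eq_zpowers p Q (hP Q) ho (mem_sylow_of_centralizes p Q ho hc2)
  exact Sylow.ext (e1.trans e2.symm)

/-- the `p'`-elements of `C(P)` times `P` embed into `C(P)` -/
theorem card_D_mul_le (p : ℕ) [Fact p.Prime] (P : Sylow p G)
    (hP : Nat.card (P : Subgroup G) = p) :
    Nat.card (D p (P : Subgroup G)) * p ≤
      Nat.card (Subgroup.centralizer ((P : Subgroup G) : Set G)) := by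
  classical
  have hp : p.Prime := Fact.out
  have hPC : (P : Subgroup G) ≤ Subgroup.centralizer ((P : Subgroup G) : Set G) := by
    haveI : IsCyclic (P : Subgroup G) := isCyclic_of_prime_card hP
    letI : CommGroup (P : Subgroup G) := IsCyclic.commGroup
    intro x hx
    rw [Subgroup.mem_centralizer_iff]
    intro y hy
    have h := mul_comm (⟨y, hy⟩ : (P : Subgroup G)) ⟨x, hx⟩
    exact congrArg Subtype.val h
  let f : D p (P : Subgroup G) × (P : Subgroup G) →
      Subgroup.centralizer ((P : Subgroup G) : Set G) :=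
    fun cx => ⟨(cx.1 : G) * (cx.2 : G), Subgroup.mul_mem _ cx.1.2.1 (hPC cx.2.2)⟩
  have hf : Function.Injective f := by
    rintro ⟨⟨c, hc, hcp⟩, ⟨x, hx⟩⟩ ⟨⟨c', hc', hcp'⟩, ⟨x', hx'⟩⟩ hEq
    have hEq' : c * x = c' * x' := congrArg Subtype.val hEq
    -- `y := x * x'⁻¹ ∈ P` and `c' = c * y`
    set y := x * x'⁻¹ with hy
    have hyP : y ∈ (P : Subgroup G) := Subgroup.mul_mem _ hx (Subgroup.inv_mem _ hx')
    have hc'y : c' = c * y := by
      rw [hy, ← mul_assoc, hEq']; group
    have hcomm : Commute c y := ((Subgroup.mem_centralizer_iff.1 hc) y hyP).symm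
    have hy1 : y = 1 := by
      by_contra hne
      have hoy : orderOf y = p := by
        have h1 : orderOf y ∣ p := by
          have := orderOf_dvd_natCard (⟨y, hyP⟩ : (P : Subgroup G))
          rw [hP] at this
          rwa [Subgroup.orderOf_mk] at this
        rcases (Nat.dvd_prime hp).1 h1 with h | h
        · exact absurd (orderOf_eq_one_iff.1 h) hne
        · exact h
      -- `c' ^ o(c) = y ^ o(c)` has order `p`
      have hpow : c' ^ orderOf c = y ^ orderOf c := by
        rw [hc'y, hcomm.mul_pow, pow_orderOf_eq_one, one_mul]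
      have hcop : Nat.Coprime (orderOf y) (orderOf c) := by
        rw [hoy]; exact (Nat.Prime.coprime_iff_not_dvd hp).2 hcp
      have hoy' : orderOf (y ^ orderOf c) = p := by
        rw [Nat.Coprime.orderOf_pow hcop, hoy]
      have : p ∣ orderOf c' := by
        rw [← hoy', ← hpow]
        exact orderOf_pow_dvd _
      exact hcp' this
    have hcc : c = c' := by rw [hc'y, hy1, mul_one]
    have hxx : x = x' := by
      have : x * x'⁻¹ = 1 := hy1
      exact mul_inv_eq_one.1 this
    subst hcc; subst hxx; rfl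
  have := Nat.card_le_card_of_injective f hf
  rw [Nat.card_prod] at this
  have hP' : Nat.card ((P : Subgroup G)) = p := hP
  rwa [hP'] at this

theorem card_E_ge (p : ℕ) [Fact p.Prime] (P : Sylow p G)
    (hP : Nat.card (P : Subgroup G) = p) (v : ℕ)
    (hv : Nat.card (Subgroup.centralizer ((P : Subgroup G) : Set G)) = p * v) :
    (p - 1) * v ≤ Nat.card (E p (P : Subgroup G)) := by
  classical
  have hp : p.Prime := Fact.out
  have h1 := card_D_mul_le p P hP
  rw [hv] at h1
  have hD : Nat.card (D p (P : Subgroup G)) ≤ v := by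
    have : Nat.card (D p (P : Subgroup G)) * p ≤ v * p := by rw [mul_comm v p]; exact h1
    exact Nat.le_of_mul_le_mul_right this hp.pos
  -- `C(P)` is the disjoint union of `E` and `D`
  have hsplit : Nat.card (Subgroup.centralizer ((P : Subgroup G) : Set G)) =
      Nat.card (E p (P : Subgroup G)) + Nat.card (D p (P : Subgroup G)) := by
    have hu : ((Subgroup.centralizer ((P : Subgroup G) : Set G) : Subgroup G) : Set G) =
        E p (P : Subgroup G) ∪ D p (P : Subgroup G) := by
      ext g
      simp only [E, D, Set.mem_union, Set.mem_setOf_eq, SetLike.mem_coe]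
      constructor
      · intro hg
        by_cases h : p ∣ orderOf g
        · exact Or.inl ⟨hg, h⟩
        · exact Or.inr ⟨hg, h⟩
      · rintro (h | h) <;> exact h.1
    have hdis : Disjoint (E p (P : Subgroup G)) (D p (P : Subgroup G)) := by
      rw [Set.disjoint_left]
      intro g h1 h2
      exact h2.2 h1.2
    have : Nat.card ((Subgroup.centralizer ((P : Subgroup G) : Set G) : Subgroup G) : Set G) =
        Nat.card (E p (P : Subgroup G)) + Nat.card (D p (P : Subgroup G)) := by
      rw [hu, Nat.card_coe_set_eq, Nat.card_coe_set_eq, Nat.card_coe_set_eq]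
      exact Set.ncard_union_eq hdis (Set.toFinite _) (Set.toFinite _)
    exact this
  rw [hv] at hsplit
  have : p * v = (p - 1) * v + v := by
    have hp1 : 1 ≤ p := hp.pos
    have : p = (p - 1) + 1 := by omega
    calc p * v = ((p - 1) + 1) * v := by rw [← this]
      _ = (p - 1) * v + v := by ring
  omega

end CNT

/-- PIECE CNT. -/
theorem card_dvd_orderOf_ge (p : ℕ) [Fact p.Prime]
    (hP : ∀ P : Sylow p G, Nat.card (P : Subgroup G) = p) (v : ℕ)
    (hv : ∀ P : Sylow p G,
      Nat.card (Subgroup.centralizer ((P : Subgroup G) : Set G)) = p * v) :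
    Nat.card (Sylow p G) * ((p - 1) * v) ≤ Nat.card {g : G // p ∣ orderOf g} := by
  classical
  haveI : Fintype (Sylow p G) := Fintype.ofFinite _
  let f : (Σ P : Sylow p G, CNT.E p (P : Subgroup G)) → {g : G // p ∣ orderOf g} :=
    fun x => ⟨(x.2 : G), x.2.2.2⟩
  have hf : Function.Injective f := by
    rintro ⟨P, g, hg⟩ ⟨Q, g', hg'⟩ hEq
    have hgg : g = g' := congrArg Subtype.val hEq
    subst hgg
    have hPQ : P = Q := CNT.E_disjoint p hP hg hg'
    subst hPQ
    rfl
  have h1 := Nat.card_le_card_of_injective f hf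
  rw [Nat.card_sigma] at h1
  calc Nat.card (Sylow p G) * ((p - 1) * v)
      = ∑ _P : Sylow p G, (p - 1) * v := by
        rw [Finset.sum_const, Finset.card_univ, Nat.card_eq_fintype_card, smul_eq_mul]
    _ ≤ ∑ P : Sylow p G, Nat.card (CNT.E p (P : Subgroup G)) :=
        Finset.sum_le_sum (fun P _ => CNT.card_E_ge p P (hP P) v (hv P))
    _ ≤ _ := h1

end Cfsg.Agent.Helper17.O175
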