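import Mathlib
import Cfsg.Agent.Lib.Helper17.OrthDiag3
import Cfsg.Agent.Lib.Helper17.OrthPairs
import Cfsg.Agent.S2235

/-!
# A large elementary abelian 2-subgroup of `PΩ` (helper17)

When a non-degenerate quadratic space of odd dimension `d ≥ 3` over a finite field of odd order has
an orthogonal basis of vectors of equal norm, the signed diagonal matrices of determinant `1`
lie in `Ω`, meet its centre trivially, and so give an elementary abelian 2-subgroup of order
`2 ^ (d - 1)` of `PΩ`. This applies to `PΩ_{2m+1}(q)`.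
-/

set_option autoImplicit false

namespace Cfsg.Agent.Helper17.OrthDiag
open Cfsg QuadraticMap Module Cfsg.Agent.Helper17.Spinor Cfsg.Agent.Helper17.OmegaElts

section const

variable {ι : Type} [Fintype ι] [DecidableEq ι] {F : Type*} [Field F] [Fintype F]
  {Q : QuadraticForm F (ι → F)} {κ : Type} [Fintype κ] [DecidableEq κ] {b : κ → ι → F}

/-- if all members of the orthogonal basis have the same norm, `SO ⊓ 𝔇 ≤ Ω` -/
theorem special_inf_diag_le_Omega_of_const (hspan : Submodule.span F (Set.range b) = ⊤)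
    (hb : IsOrthoFamily Q b) (h2 : (2 : F) ≠ 0) (hQ : (polarBilin Q).Nondegenerate)
    (hex : Fintype.card F ≠ 2 ∨ Fintype.card ι ≠ 4) {c : F} (hc : ∀ i, Q (b i) = c) :
    Cfsg.specialIsometryGroup F (⇑Q) ⊓ diagGroup Q b ≤ Cfsg.Omega F (⇑Q) := by
  rintro g ⟨hg1, hg2⟩
  obtain ⟨S, rfl⟩ := eq_dprod_of_mem hspan hb h2 hg2
  rw [dprod_mem_Omega_iff hb hQ hex]
  have he := (dprod_mem_special_iff hb h2 S).1 hg1
  refine ⟨he, ?_⟩
  obtain ⟨k, hk⟩ := he
  rw [Finset.prod_congr rfl (fun i _ => hc i), Finset.prod_const, hk]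
  exact ⟨c ^ k, by rw [pow_add]⟩

/-- a diagonal member of `Ω` commuting with `Ω` is trivial -/
theorem eq_one_of_forall_commute (hspan : Submodule.span F (Set.range b) = ⊤)
    (hb : IsOrthoFamily Q b) (h2 : (2 : F) ≠ 0) (hQ : (polarBilin Q).Nondegenerate)
    (hex : Fintype.card F ≠ 2 ∨ Fintype.card ι ≠ 4) {c : F} (hc : ∀ i, Q (b i) = c)
    (hodd : Odd (Fintype.card κ)) (h3 : 3 ≤ Fintype.card κ)
    {g : ↥(Cfsg.isometryGroup F (⇑Q))} (hgΩ : g ∈ Cfsg.Omega F (⇑Q)) (hgD : g ∈ diagGroup Q b)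
    (hcen : ∀ h ∈ Cfsg.Omega F (⇑Q), h * g = g * h) : g = 1 := by
  obtain ⟨S, rfl⟩ := eq_dprod_of_mem hspan hb h2 hgD
  have he : Even S.card := (dprod_mem_special_iff hb h2 S).1 (Omega_le_special Q hgΩ)
  by_cases hS : S = ∅
  · apply eq_of_forall_apply_eq hspan
    intro j
    rw [toEnd_dprod_apply hb h2, hS, if_neg (Finset.notMem_empty j), map_one]
    rfl
  exfalso
  obtain ⟨i, hi⟩ := Finset.nonempty_iff_ne_empty.2 hS
  have hSu : S ≠ Finset.univ := by
    intro h
    rw [h, Finset.card_univ] at he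
    exact (Nat.not_even_iff_odd.2 hodd) he
  obtain ⟨j, hj⟩ : ∃ j, j ∉ S := by
    by_contra hcon
    push Not at hcon
    exact hSu (Finset.eq_univ_iff_forall.2 hcon)
  have hij : i ≠ j := fun h => hj (h ▸ hi)
  obtain ⟨k, -, hk⟩ : ∃ k ∈ (Finset.univ : Finset κ), k ∉ ({i, j} : Finset κ) := by
    apply Finset.exists_mem_notMem_of_card_lt_card
    rw [Finset.card_univ]
    have := Finset.card_le_two (a := i) (b := j)
    omega
  have hki : k ≠ i := fun h => hk (by rw [h]; simp)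
  have hkj : k ≠ j := fun h => hk (by rw [h]; simp)
  have hc0 : c ≠ 0 := by
    rw [← hc i]
    exact hb.ne_zero i
  have hQsub : ∀ x y : κ, x ≠ y → Q (b x - b y) = 2 * c := by
    intro x y hxy
    rw [Q_sub, hc, hc, hb.ortho x y hxy]
    ring
  have h2c : (2 : F) * c ≠ 0 := mul_ne_zero h2 hc0
  have ha : Q (b k - b j) ≠ 0 := by rw [hQsub k j hkj]; exact h2c
  have hb' : Q (b i - b k) ≠ 0 := by rw [hQsub i k hki.symm]; exact h2c
  have hmem : tG Q (b k - b j) * tG Q (b i - b k) ∈ Cfsg.Omega F (⇑Q) :=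
    tG_mul_tG_mem_Omega Q hQ hex ha (by rw [hQsub i k hki.symm, hQsub k j hkj])
  have hact : toEnd Q (tG Q (b k - b j) * tG Q (b i - b k)) (b i) = b j := by
    rw [toEnd_tG_mul_tG Q ha hb', refl_sub_apply_of_eq Q (by rw [hc, hc]) hb',
      refl_sub_apply_of_eq Q (by rw [hc, hc]) ha]
  have hcomm := hcen _ hmem
  have h5 := congrArg (fun x => toEnd Q x (b i)) hcomm
  simp only [map_mul, Module.End.mul_apply] at h5
  rw [toEnd_dprod_apply hb h2, if_pos hi, map_neg, map_neg] at h5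
  have hact' : toEnd Q (tG Q (b k - b j)) (toEnd Q (tG Q (b i - b k)) (b i)) = b j := by
    rw [← Module.End.mul_apply, ← map_mul]
    exact hact
  rw [hact', toEnd_dprod_apply hb h2, if_neg hj] at h5
  exact hb.ne_neg h2 j h5.symm

/-- the elementary abelian 2-subgroup of `PΩ` -/
theorem pRankAtLeast_POmega_of_const (hb : IsOrthoFamily Q b) (h2 : (2 : F) ≠ 0)
    (hQ : (polarBilin Q).Nondegenerate) (hcard : Fintype.card κ = Fintype.card ι)
    {c : F} (hc : ∀ i, Q (b i) = c) (hodd : Odd (Fintype.card ι)) (h3 : 3 ≤ Fintype.card ι)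
    {r : ℕ} (hr : Fintype.card ι = r + 1) :
    Cfsg.PRankAtLeast 2 r (Cfsg.POmega F (⇑Q)) := by
  have hspan := hb.span_eq_top h2 hcard
  have hex : Fintype.card F ≠ 2 ∨ Fintype.card ι ≠ 4 := Or.inl (card_ne_two_of_ne h2)
  have hκ : Nonempty κ := by
    rw [← Fintype.card_pos_iff, hcard]
    omega
  set H₀ : Subgroup ↥(Cfsg.Omega F (⇑Q)) :=
    (Cfsg.Omega F (⇑Q) ⊓ diagGroup Q b).subgroupOf (Cfsg.Omega F (⇑Q)) with hH₀
  have hH₀mem : ∀ x : ↥(Cfsg.Omega F (⇑Q)), x ∈ H₀ →
      (x : ↥(Cfsg.isometryGroup F (⇑Q))) ∈ diagGroup Q b := fun x hx =>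
    (Subgroup.mem_subgroupOf.1 hx).2
  have hcomm : IsMulCommutative H₀ := by
    apply IsMulCommutative.of_setLike_mul_comm
    intro x hx y hy
    apply Subtype.ext
    exact diagGroup_comm hspan (hH₀mem x hx) (hH₀mem y hy)
  have hsq : ∀ a ∈ H₀, a * a = 1 := by
    intro a ha
    apply Subtype.ext
    exact diagGroup_mul_self hspan (hH₀mem a ha)
  let π : ↥(Cfsg.Omega F (⇑Q)) →* Cfsg.POmega F (⇑Q) := QuotientGroup.mk' _
  refine ⟨H₀.map π, Subgroup.map_isMulCommutative _ π, ?_, ?_⟩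
  · rintro _ ⟨a, ha, rfl⟩
    rw [← map_pow, pow_two, hsq a ha, map_one]
  · have hinj : Function.Injective
        (fun a : H₀ => (⟨π a.1, Subgroup.mem_map_of_mem π a.2⟩ : ↥(H₀.map π))) := by
      intro a a' haa
      have h1 : π a.1 = π a'.1 := congrArg Subtype.val haa
      have h4 : (a.1)⁻¹ * a'.1 ∈ Subgroup.center ↥(Cfsg.Omega F (⇑Q)) :=
        QuotientGroup.eq.1 h1
      have h5 : (a.1)⁻¹ * a'.1 ∈ H₀ := mul_mem (inv_mem a.2) a'.2
      have h6 : (((a.1)⁻¹ * a'.1 : ↥(Cfsg.Omega F (⇑Q))) : ↥(Cfsg.isometryGroup F (⇑Q))) = 1 := by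
        apply eq_one_of_forall_commute hspan hb h2 hQ hex hc (hcard ▸ hodd) (hcard ▸ h3)
          ((a.1)⁻¹ * a'.1).2 (hH₀mem _ h5)
        intro h hh
        have := (Subgroup.mem_center_iff.1 h4) ⟨h, hh⟩
        exact congrArg Subtype.val this
      have h7 : (a.1)⁻¹ * a'.1 = 1 := Subtype.ext h6
      apply Subtype.ext
      exact inv_mul_eq_one.1 h7
    have h1 := Nat.card_le_card_of_injective _ hinj
    refine le_trans ?_ h1
    have h3' : Nat.card ↥H₀ = Nat.card ↥(Cfsg.Omega F (⇑Q) ⊓ diagGroup Q b) :=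
      Nat.card_congr (Subgroup.subgroupOfEquivOfLe
        (inf_le_left : Cfsg.Omega F (⇑Q) ⊓ diagGroup Q b ≤ Cfsg.Omega F (⇑Q))).toEquiv
    rw [h3']
    have h4 := le_card_special_inf_diag hb h2 hQ
    have hle : Cfsg.specialIsometryGroup F (⇑Q) ⊓ diagGroup Q b ≤
        Cfsg.Omega F (⇑Q) ⊓ diagGroup Q b :=
      le_inf (special_inf_diag_le_Omega_of_const hspan hb h2 hQ hex hc) inf_le_right
    have h5 := Subgroup.card_le_of_le hle
    rw [hcard, hr, pow_succ] at h4
    omega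

end const

section odd

open Cfsg.Agent.Helper13 Cfsg.Agent.Helper11 Cfsg.Agent.S2235 Matrix

variable {F : Type*} [Field F] [Fintype F]

omit [Fintype F] in
theorem sqSum_single {ι : Type} [Fintype ι] [DecidableEq ι] (k : ι) :
    sqSum F (Pi.single k (1 : F)) = 1 := by
  unfold sqSum
  have : ∀ j, (Pi.single k (1 : F) : ι → F) j ^ 2 = (Pi.single k (1 : F) : ι → F) j := by
    intro j
    by_cases h : j = k
    · subst h
      simp
    · simp [h]
  rw [Finset.sum_congr rfl (fun j _ => this j), Finset.sum_pi_single']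
  simp

omit [Fintype F] in
theorem sqSum_single_add_single {ι : Type} [Fintype ι] [DecidableEq ι] {k l : ι} (hkl : k ≠ l) :
    sqSum F (Pi.single k (1 : F) + Pi.single l (1 : F)) = 2 := by
  unfold sqSum
  have : ∀ j, (Pi.single k (1 : F) + Pi.single l (1 : F) : ι → F) j ^ 2 =
      (Pi.single k (1 : F) : ι → F) j + (Pi.single l (1 : F) : ι → F) j := by
    intro j
    by_cases h : j = k
    · subst h
      simp [hkl]
    · by_cases h' : j = l
      · subst h'
        simp [h]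
      · simp [h, h']
  rw [Finset.sum_congr rfl (fun j _ => this j), Finset.sum_add_distrib, Finset.sum_pi_single',
    Finset.sum_pi_single']
  simp
  norm_num

/-- `PΩ_{2m+1}(q)`, `q` odd, has an elementary abelian 2-subgroup of order `2 ^ (2m)` -/
theorem pRankAtLeast_POmega_odd (h2 : (2 : F) ≠ 0) (m : ℕ) (hm : 1 ≤ m) :
    Cfsg.PRankAtLeast 2 (2 * m) (Cfsg.POmega F (Cfsg.quadFormOdd m F)) := by
  obtain ⟨T, c, hT⟩ := exists_T h2 m (F := F)
  set Q : QuadraticForm F (Idx m → F) := matQ (oddMat m F) with hQdef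
  have hQeq : (⇑Q : (Idx m → F) → F) = Cfsg.quadFormOdd m F := funext (matQ_oddMat m)
  have hQ : (polarBilin Q).Nondegenerate := oddMat_nondeg h2 m
  let b : Idx m → Idx m → F := fun k => (T : Matrix (Idx m) (Idx m) F) *ᵥ Pi.single k 1
  have hQT : ∀ z, Q ((T : Matrix (Idx m) (Idx m) F) *ᵥ z) = c * sqSum F z := by
    intro z
    rw [hQdef, matQ_oddMat, hT]
  have hQb : ∀ k, Q (b k) = c := by
    intro k
    show Q ((T : Matrix (Idx m) (Idx m) F) *ᵥ Pi.single k 1) = c
    rw [hQT, sqSum_single, mul_one]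
  have hc0 : c ≠ 0 := by
    intro hc
    have hzero : ∀ z, Cfsg.quadFormOdd m F ((T : Matrix (Idx m) (Idx m) F) *ᵥ z) = 0 := by
      intro z
      rw [hT, hc, zero_mul]
    have h1 := hzero ((((T⁻¹ : Matrix.GeneralLinearGroup (Idx m) F)) : Matrix (Idx m) (Idx m) F) *ᵥ
      Pi.single (Sum.inl ()) 1)
    rw [Matrix.mulVec_mulVec, ← Units.val_mul, mul_inv_cancel, Units.val_one,
      Matrix.one_mulVec] at h1
    simp [Cfsg.quadFormOdd] at h1
  have hb : IsOrthoFamily Q b := by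
    refine ⟨fun i => by rw [hQb]; exact hc0, fun i j hij => ?_⟩
    unfold QuadraticMap.polar
    have : b i + b j = (T : Matrix (Idx m) (Idx m) F) *ᵥ (Pi.single i 1 + Pi.single j 1) := by
      rw [Matrix.mulVec_add]
    rw [this, hQT, sqSum_single_add_single hij, hQb, hQb]
    ring
  have hcardI : Fintype.card (Idx m) = 2 * m + 1 := by
    simp only [Fintype.card_sum, Fintype.card_unit, Fintype.card_fin]
    omega
  have h := pRankAtLeast_POmega_of_const hb h2 hQ rfl hQb (by rw [hcardI]; exact ⟨m, rfl⟩)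
    (by rw [hcardI]; omega) hcardI
  rw [hQeq] at h
  exact h

end odd

end Cfsg.Agent.Helper17.OrthDiag
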