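import Mathlib
import Cfsg.Prelude.Def_Classical
import Cfsg.Prelude.Def_ClassicalGeometry
import Cfsg.Prelude.Def_SporadicB
import Cfsg.Agent.Lib.Helper17.OmegaAll
import Cfsg.Agent.Lib.Helper17.OrthRank

/-!
# Isometries with `g - 1` of rank one are reflections; 3-transpositions over `𝔽₂` (helper17)
-/

set_option autoImplicit false

namespace Cfsg.Agent.Helper17.Spinor
open Cfsg QuadraticMap Module

section Generic

variable {F : Type*} [Field F] {V : Type*} [AddCommGroup V] [Module F V] [FiniteDimensional F V]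
  (Q : QuadraticForm F V)

theorem finrank_range_one_sub_refl (hQ : (polarBilin Q).Nondegenerate) {v : V} (hv : Q v ≠ 0) :
    finrank F ↥(LinearMap.range (1 - refl Q v)) = 1 := by
  have h := finrank_range_one_sub_refl_mul Q hQ 1 (fun x => rfl) hv
  rw [mul_one, sub_self, LinearMap.range_zero, finrank_bot] at h
  rcases h with h | h
  · omega
  · exact h

theorem top_inf_orthogonal_top' (hQ : (polarBilin Q).Nondegenerate) :
    (⊤ : Submodule F V) ⊓ LinearMap.BilinForm.orthogonal (polarBilin Q) ⊤ = ⊥ := by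
  rw [eq_bot_iff]
  intro x hx
  have hx2 := hx.2
  rw [SetLike.mem_coe, mem_orthogonal_iff'] at hx2
  have : x = 0 := hQ.2 x (fun y => hx2 y Submodule.mem_top)
  rw [this]; exact Submodule.zero_mem _

/-- an isometry `T` with `1 - T` of rank one is a reflection -/
theorem eq_refl_of_finrank_range_eq_one (hQ : (polarBilin Q).Nondegenerate) (T : Module.End F V)
    (hT : ∀ x, Q (T x) = Q x) (h : finrank F ↥(LinearMap.range (1 - T)) = 1) :
    ∃ a, Q a ≠ 0 ∧ T = refl Q a := by
  obtain ⟨a', ha'0, ha'⟩ := finrank_eq_one_iff'.1 h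
  have ha0 : (a' : V) ≠ 0 := fun h0 => ha'0 (Subtype.ext h0)
  set a : V := (a' : V) with ha
  have hspan : ∀ x, ∃ c : F, c • a = (1 - T) x := by
    intro x
    obtain ⟨c, hc⟩ := ha' ⟨(1 - T) x, LinearMap.mem_range_self _ x⟩
    exact ⟨c, by rw [ha, ← Submodule.coe_smul, hc]⟩
  obtain ⟨b, -, hb⟩ := exists_polar_eq_one Q ⊤ (top_inf_orthogonal_top' Q hQ)
    (Submodule.mem_top : a ∈ ⊤) ha0
  set φ : V →ₗ[F] F := (polarBilin Q b).comp (1 - T) with hφ
  have hφa : ∀ x, (1 - T) x = φ x • a := by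
    intro x
    obtain ⟨c, hc⟩ := hspan x
    rw [hφ, LinearMap.comp_apply, ← hc, polarBilin_apply_apply, polar_smul_right,
      polar_comm Q b a, hb, smul_eq_mul, mul_one]
  have hTx : ∀ x, T x = x - φ x • a := by
    intro x
    have := hφa x
    rw [LinearMap.sub_apply, Module.End.one_apply] at this
    rw [← this]; abel
  have hkey : ∀ x, φ x * (φ x * Q a - polar Q x a) = 0 := by
    intro x
    have h1 := hT x
    rw [hTx x, Q_sub_smul] at h1
    linear_combination h1
  obtain ⟨x₀, hx₀⟩ : ∃ x₀, φ x₀ ≠ 0 := by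
    by_contra hcon
    push Not at hcon
    apply ha'0
    have : LinearMap.range (1 - T) = ⊥ := by
      rw [eq_bot_iff]
      rintro y ⟨x, rfl⟩
      rw [hφa x, hcon x, zero_smul]
      exact Submodule.zero_mem _
    have h0 : finrank F ↥(LinearMap.range (1 - T)) = 0 := by rw [this, finrank_bot]
    omega
  have hψ : ∀ x, φ x * Q a - polar Q x a = 0 := by
    intro x
    have h0 : φ x₀ * Q a - polar Q x₀ a = 0 := by
      rcases mul_eq_zero.1 (hkey x₀) with h | h
      · exact absurd h hx₀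
      · exact h
    by_cases hx : φ x = 0
    · have h1 : φ (x₀ + x) ≠ 0 := by rw [map_add, hx, add_zero]; exact hx₀
      have h2 : φ (x₀ + x) * Q a - polar Q (x₀ + x) a = 0 := by
        rcases mul_eq_zero.1 (hkey (x₀ + x)) with h | h
        · exact absurd h h1
        · exact h
      rw [map_add, polar_add_left] at h2
      linear_combination h2 - h0
    · rcases mul_eq_zero.1 (hkey x) with h | h
      · exact absurd h hx
      · exact h
  have hQa : Q a ≠ 0 := by
    intro h0
    apply ha0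
    apply hQ.2 a
    intro y
    have := hψ y
    rw [h0, mul_zero, zero_sub, neg_eq_zero] at this
    rw [polarBilin_apply_apply]
    exact this
  refine ⟨a, hQa, ?_⟩
  apply LinearMap.ext
  intro x
  rw [hTx x, refl_apply]
  congr 2
  have := hψ x
  rw [polar_comm Q a x]
  field_simp
  linear_combination this

end Generic

section Coord

variable {F : Type*} [Field F] {ι : Type} [Fintype ι] [DecidableEq ι] (Q : QuadraticForm F (ι → F))

theorem rank_coe_sub_one (g : ↥(Cfsg.isometryGroup F (⇑Q))) :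
    (((g : Matrix.GeneralLinearGroup ι F) : Matrix ι ι F) - 1).rank
      = finrank F ↥(LinearMap.range (1 - toEnd Q g)) := by
  rw [Matrix.rank]
  have h2 : (((g : Matrix.GeneralLinearGroup ι F) : Matrix ι ι F) - 1).mulVecLin
      = -(1 - toEnd Q g) := by
    rw [neg_sub]
    apply LinearMap.ext
    intro x
    rw [Matrix.mulVecLin_apply, Matrix.sub_mulVec, Matrix.one_mulVec, LinearMap.sub_apply,
      toEnd_apply, Module.End.one_apply]
  rw [h2, LinearMap.range_neg]

/-- the isometries with `g - 1` of rank one are the reflections -/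
theorem rank_sub_one_eq_one_iff (hQ : (polarBilin Q).Nondegenerate)
    (g : ↥(Cfsg.isometryGroup F (⇑Q))) :
    (((g : Matrix.GeneralLinearGroup ι F) : Matrix ι ι F) - 1).rank = 1 ↔
      ∃ v : ι → F, Q v ≠ 0 ∧ g = tG Q v := by
  rw [rank_coe_sub_one]
  constructor
  · intro h
    obtain ⟨a, ha, hTa⟩ := eq_refl_of_finrank_range_eq_one Q hQ (toEnd Q g) (toEnd_isometry Q g) h
    refine ⟨a, ha, ?_⟩
    apply toEnd_injective
    rw [hTa, toEnd_tG Q ha]
  · rintro ⟨v, hv, rfl⟩
    rw [toEnd_tG Q hv]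
    exact finrank_range_one_sub_refl Q hQ hv

end Coord

section F2

variable {F : Type*} [Field F] [Fintype F] [CharP F 2] {ι : Type} [Fintype ι] [DecidableEq ι]
  (Q : QuadraticForm F (ι → F))

omit [Fintype F] [CharP F 2] in
theorem tG_ne_one (hQ : (polarBilin Q).Nondegenerate) {v : ι → F} (hv : Q v ≠ 0) :
    tG Q v ≠ 1 := by
  intro h
  have h1 := (rank_sub_one_eq_one_iff Q hQ (tG Q v)).2 ⟨v, hv, rfl⟩
  rw [h] at h1
  simp at h1

omit [Fintype F] [CharP F 2] in
theorem orderOf_tG (hQ : (polarBilin Q).Nondegenerate) {v : ι → F} (hv : Q v ≠ 0) :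
    orderOf (tG Q v) = 2 :=
  orderOf_eq_prime (by rw [pow_two]; exact tG_mul_self Q hv) (tG_ne_one Q hQ hv)

omit [Fintype F] [CharP F 2] in
theorem tG_mul_self' (w : ι → F) : tG Q w * tG Q w = 1 := by
  by_cases hw : Q w ≠ 0
  · exact tG_mul_self Q hw
  · unfold tG
    rw [dif_neg hw, one_mul]

omit [Fintype F] in
/-- over the field with two elements, two orthogonal transvections commute or generate `S₃` -/
theorem tG_mul_tG_pow (hF : ∀ x : F, x = 0 ∨ x = 1) {u v : ι → F} (hu : Q u ≠ 0)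
    (hv : Q v ≠ 0) : (tG Q u * tG Q v) ^ 2 = 1 ∨ (tG Q u * tG Q v) ^ 3 = 1 := by
  have hQu : Q u = 1 := (hF (Q u)).resolve_left hu
  have hQv : Q v = 1 := (hF (Q v)).resolve_left hv
  have haa := tG_mul_self Q hu
  have hbb := tG_mul_self Q hv
  rcases hF (polar Q u v) with hp | hp
  · left
    have hcomm : tG Q u * tG Q v = tG Q v * tG Q u := by
      have h1 := mul_tG Q (tG Q u) hv
      rw [toEnd_tG Q hu, refl_apply_of_polar_eq_zero Q u v hp] at h1
      exact h1
    rw [pow_two]
    calc tG Q u * tG Q v * (tG Q u * tG Q v)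
        = tG Q u * (tG Q v * tG Q u) * tG Q v := by group
      _ = tG Q u * (tG Q u * tG Q v) * tG Q v := by rw [hcomm]
      _ = (tG Q u * tG Q u) * (tG Q v * tG Q v) := by group
      _ = 1 := by rw [haa, hbb, one_mul]
  · right
    have hneg : ∀ x : ι → F, -x = x := by
      intro x
      have h2 : (2 : F) = 0 := CharTwo.two_eq_zero
      have : x + x = 0 := by
        rw [← two_smul F x, h2, zero_smul]
      exact neg_eq_of_add_eq_zero_left this
    have h1 : refl Q u v = u + v := by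
      rw [refl_apply, hp, hQu]
      simp only [inv_one, mul_one, one_smul]
      rw [sub_eq_add_neg, hneg, add_comm]
    have h2 : refl Q v u = u + v := by
      rw [refl_apply, polar_comm Q v u, hp, hQv]
      simp only [inv_one, mul_one, one_smul]
      rw [sub_eq_add_neg, hneg]
    have hab : tG Q u * tG Q v = tG Q (u + v) * tG Q u := by
      have := mul_tG Q (tG Q u) hv
      rw [toEnd_tG Q hu, h1] at this
      exact this
    have hba : tG Q v * tG Q u = tG Q (u + v) * tG Q v := by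
      have := mul_tG Q (tG Q v) hu
      rw [toEnd_tG Q hv, h2] at this
      exact this
    have haba : tG Q u * tG Q v * tG Q u = tG Q (u + v) := by
      rw [hab, mul_assoc, haa, mul_one]
    have hbab : tG Q v * tG Q u * tG Q v = tG Q (u + v) := by
      rw [hba, mul_assoc, hbb, mul_one]
    calc (tG Q u * tG Q v) ^ 3
        = (tG Q u * tG Q v * tG Q u) * (tG Q v * tG Q u * tG Q v) := by
          rw [show (3 : ℕ) = 2 + 1 from rfl, pow_succ, pow_two]
          simp only [mul_assoc]
      _ = 1 := by rw [haba, hbab, tG_mul_self']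

theorem setOf_tG_eq_conjugatesOf (hQ : (polarBilin Q).Nondegenerate)
    (hex : Fintype.card F ≠ 2 ∨ Fintype.card ι ≠ 4) {v₀ : ι → F} (hv₀ : Q v₀ ≠ 0) :
    {g : ↥(Cfsg.isometryGroup F (⇑Q)) | ∃ v : ι → F, Q v ≠ 0 ∧ g = tG Q v}
      = conjugatesOf (tG Q v₀) := by
  ext g
  show (∃ v : ι → F, Q v ≠ 0 ∧ g = tG Q v) ↔ IsConj (tG Q v₀) g
  rw [isConj_iff]
  constructor
  · rintro ⟨v, hv, rfl⟩
    obtain ⟨h, hh⟩ := exists_conj_tG Q hQ hex hv hv₀
    exact ⟨h, by rw [hh, mul_assoc, mul_inv_cancel, mul_one]⟩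
  · rintro ⟨c, rfl⟩
    refine ⟨toEnd Q c v₀, by rw [toEnd_isometry]; exact hv₀, ?_⟩
    rw [mul_tG Q c hv₀, mul_assoc, mul_inv_cancel, mul_one]

/-- over the field with two elements the orthogonal transvections are a generating class of
3-transpositions -/
theorem isThreeTranspositionClass_rank_one (hF : ∀ x : F, x = 0 ∨ x = 1)
    (hQ : (polarBilin Q).Nondegenerate) (hex : Fintype.card F ≠ 2 ∨ Fintype.card ι ≠ 4)
    [Nonempty ι] :
    Cfsg.IsThreeTranspositionClass {g : ↥(Cfsg.isometryGroup F (⇑Q)) |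
      (((g : Matrix.GeneralLinearGroup ι F) : Matrix ι ι F) - 1).rank = 1} := by
  have hset : {g : ↥(Cfsg.isometryGroup F (⇑Q)) |
      (((g : Matrix.GeneralLinearGroup ι F) : Matrix ι ι F) - 1).rank = 1}
      = {g | ∃ v : ι → F, Q v ≠ 0 ∧ g = tG Q v} := by
    ext g
    exact rank_sub_one_eq_one_iff Q hQ g
  rw [hset]
  obtain ⟨v₀, hv₀⟩ := exists_nonsingular Q hQ
  refine ⟨⟨?_, ?_⟩, ⟨tG Q v₀, ⟨v₀, hv₀, rfl⟩, setOf_tG_eq_conjugatesOf Q hQ hex hv₀⟩, ?_⟩
  · rintro d ⟨v, hv, rfl⟩
    exact orderOf_tG Q hQ hv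
  · rintro d ⟨u, hu, rfl⟩ e ⟨v, hv, rfl⟩
    exact tG_mul_tG_pow Q hF hu hv
  · rw [eq_top_iff]
    intro g _
    obtain ⟨vs, hvs, rfl⟩ := exists_prod_tG Q hQ hex g
    apply Subgroup.list_prod_mem
    intro x hx
    rw [List.mem_map] at hx
    obtain ⟨v, hv, rfl⟩ := hx
    exact Subgroup.subset_closure ⟨v, hvs v hv, rfl⟩

end F2

end Cfsg.Agent.Helper17.Spinor
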