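import Mathlib
import Cfsg.Prelude.Def_Classical
import Cfsg.Prelude.Def_ClassicalGeometry
import Cfsg.Prelude.Def_SporadicB
import Cfsg.Prelude.Def_FischerSpaces
import Cfsg.Agent.Lib.Helper17.OmegaTrans
import Cfsg.Agent.Lib.Helper17.OrthTransv

/-!
# Reflections of one norm over the field with three elements (helper17)

The reflections in the vectors of a fixed non-zero norm `c` of a non-degenerate quadratic space
over `ZMod 3`: they are a class of 3-transpositions of the subgroup they generate (dimension at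
least 4), and that subgroup has index two in the isometry group (dimension at least 5).
-/

set_option autoImplicit false

namespace Cfsg.Agent.Helper17.Spinor
open Cfsg QuadraticMap Module

section generic

variable {F : Type*} [Field F] [Fintype F] {ι : Type} [Fintype ι] [DecidableEq ι]
  (Q : QuadraticForm F (ι → F))

omit [Fintype F] in
theorem tG_neg (v : ι → F) : tG Q (-v) = tG Q v := by
  by_cases hv : Q v ≠ 0
  · have hv' : Q (-v) ≠ 0 := by rw [QuadraticMap.map_neg]; exact hv
    apply toEnd_injective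
    rw [toEnd_tG Q hv, toEnd_tG Q hv']
    apply LinearMap.ext
    intro w
    rw [refl_apply, refl_apply, QuadraticMap.map_neg, polar_neg_left, smul_neg, mul_neg, neg_smul,
      neg_neg]
  · have hv' : ¬ Q (-v) ≠ 0 := by rw [QuadraticMap.map_neg]; exact hv
    unfold tG
    rw [dif_neg hv, dif_neg hv']

/-- the orthogonal complement of a small non-degenerate subspace represents every non-zero
scalar -/
theorem exists_orth_Q_eq (hQ : (polarBilin Q).Nondegenerate) (h2 : (2 : F) ≠ 0)
    (X : Submodule F (ι → F))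
    (hX : X ⊓ LinearMap.BilinForm.orthogonal (polarBilin Q) X = ⊥)
    (hdim : finrank F ↥X + 2 ≤ Fintype.card ι) {t : F} (ht : t ≠ 0) :
    ∃ y : ι → F, (∀ x ∈ X, polar Q x y = 0) ∧ Q y = t := by
  have hfr := LinearMap.BilinForm.finrank_orthogonal hQ X
  rw [Module.finrank_fintype_fun_eq_card] at hfr
  have hdim' : 2 ≤ finrank F ↥(LinearMap.BilinForm.orthogonal (polarBilin Q) X) := by omega
  have hX' := orthogonal_inf_orthogonal_orthogonal Q hQ X hX
  obtain ⟨y, hyX, hy⟩ := exists_mem_Q_eq Q h2 _ hX' hdim' ht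
  exact ⟨y, fun x hx => (mem_orthogonal_iff' Q X y).1 hyX x hx, hy⟩

theorem mem_reflectionsOfNorm_iff {c : F} (hc : c ≠ 0) (g : ↥(Cfsg.isometryGroup F (⇑Q))) :
    g ∈ Cfsg.reflectionsOfNorm (⇑Q) c ↔ ∃ v : ι → F, Q v = c ∧ g = tG Q v := by
  constructor
  · rintro ⟨v, hv, hg⟩
    refine ⟨v, hv, eq_of_coe_eq Q ?_⟩
    rw [hg, tG_coe Q (by rw [hv]; exact hc)]
  · rintro ⟨v, hv, rfl⟩
    exact ⟨v, hv, tG_coe Q (by rw [hv]; exact hc)⟩

theorem tG_mem_reflectionSubgroup {c : F} (hc : c ≠ 0) {v : ι → F} (hv : Q v = c) :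
    tG Q v ∈ Cfsg.reflectionSubgroup (⇑Q) c :=
  Subgroup.subset_closure ((mem_reflectionsOfNorm_iff Q hc _).2 ⟨v, hv, rfl⟩)

omit [Fintype F] in
/-- two reflections in orthogonal vectors commute -/
theorem tG_comm_of_polar_eq_zero {u v : ι → F} (hu : Q u ≠ 0) (hv : Q v ≠ 0)
    (hp : polar Q u v = 0) : tG Q u * tG Q v = tG Q v * tG Q u := by
  have h1 := mul_tG Q (tG Q u) hv
  rw [toEnd_tG Q hu, refl_apply_of_polar_eq_zero Q u v hp] at h1
  exact h1

omit [Fintype F] in
/-- in odd characteristic, the product of the reflections in two orthogonal vectors of the same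
norm `d` is the product of the reflections in their sum and difference, of norm `2 d` -/
theorem tG_mul_tG_eq_add_sub (h2 : (2 : F) ≠ 0) {w w' : ι → F} {d : F} (hd : d ≠ 0)
    (hw : Q w = d) (hw' : Q w' = d) (hp : polar Q w w' = 0) :
    tG Q w * tG Q w' = tG Q (w + w') * tG Q (w - w') := by
  have hw0 : Q w ≠ 0 := by rw [hw]; exact hd
  have hw'0 : Q w' ≠ 0 := by rw [hw']; exact hd
  have hadd : Q (w + w') = 2 * d := by rw [Q_add Q, hw, hw', hp]; ring
  have hsub : Q (w - w') = 2 * d := by rw [Q_sub Q, hw, hw', hp]; ring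
  have hadd0 : Q (w + w') ≠ 0 := by rw [hadd]; exact mul_ne_zero h2 hd
  have hsub0 : Q (w - w') ≠ 0 := by rw [hsub]; exact mul_ne_zero h2 hd
  apply toEnd_injective
  rw [map_mul, map_mul, toEnd_tG Q hw0, toEnd_tG Q hw'0, toEnd_tG Q hadd0, toEnd_tG Q hsub0]
  apply LinearMap.ext
  intro x
  rw [Module.End.mul_apply, Module.End.mul_apply, refl_apply Q w' x, refl_apply Q w,
    refl_apply Q (w - w') x, refl_apply Q (w + w'), hw, hw', hadd, hsub]
  have hp' : polar Q w' w = 0 := by rw [polar_comm]; exact hp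
  simp only [polar_sub_right, polar_smul_right, polar_add_left, polar_sub_left, polar_self, hp,
    hp', hw, hw', smul_eq_mul]
  have hinv : (2 * d)⁻¹ = 2⁻¹ * d⁻¹ := mul_inv _ _
  rw [hinv]
  set e := d⁻¹
  set h := (2 : F)⁻¹ with hh
  have H : 2 * h = 1 := mul_inv_cancel₀ h2
  set p := polar Q w x
  set p' := polar Q w' x
  have H1 : e * p * (2 * h) = e * p := by rw [H, mul_one]
  have H2 : e * p' * (2 * h) = e * p' := by rw [H, mul_one]
  linear_combination (norm := module) H1 • w + H2 • w'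

theorem reflectionSubgroup_normal {c : F} (hc : c ≠ 0) :
    (Cfsg.reflectionSubgroup (⇑Q) c).Normal := by
  constructor
  intro n hn g
  unfold Cfsg.reflectionSubgroup at hn ⊢
  induction hn using Subgroup.closure_induction with
  | mem x hx =>
    obtain ⟨v, hv, rfl⟩ := (mem_reflectionsOfNorm_iff Q hc x).1 hx
    apply Subgroup.subset_closure
    rw [mem_reflectionsOfNorm_iff Q hc]
    refine ⟨toEnd Q g v, by rw [toEnd_isometry]; exact hv, ?_⟩
    rw [mul_tG Q g (by rw [hv]; exact hc), mul_assoc, mul_inv_cancel, mul_one]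
  | one => rw [mul_one, mul_inv_cancel]; exact one_mem _
  | mul x y _ _ hx hy =>
    have : g * (x * y) * g⁻¹ = (g * x * g⁻¹) * (g * y * g⁻¹) := by group
    rw [this]; exact mul_mem hx hy
  | inv x _ hx =>
    have : g * x⁻¹ * g⁻¹ = (g * x * g⁻¹)⁻¹ := by group
    rw [this]; exact inv_mem hx

theorem exists_list_of_mem_reflectionSubgroup {c : F} (hc : c ≠ 0)
    {k : ↥(Cfsg.isometryGroup F (⇑Q))} (hk : k ∈ Cfsg.reflectionSubgroup (⇑Q) c) :
    ∃ vs : List (ι → F), (∀ v ∈ vs, Q v = c) ∧ k = (vs.map (tG Q)).prod := by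
  unfold Cfsg.reflectionSubgroup at hk
  induction hk using Subgroup.closure_induction with
  | mem x hx =>
    obtain ⟨v, hv, rfl⟩ := (mem_reflectionsOfNorm_iff Q hc x).1 hx
    exact ⟨[v], by simpa using hv, by simp⟩
  | one => exact ⟨[], by simp, by simp⟩
  | mul x y _ _ hx hy =>
    obtain ⟨vs, hvs, rfl⟩ := hx
    obtain ⟨ws, hws, rfl⟩ := hy
    refine ⟨vs ++ ws, ?_, by rw [List.map_append, List.prod_append]⟩
    intro v hv
    rcases List.mem_append.1 hv with h | h
    · exact hvs v h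
    · exact hws v h
  | inv x _ hx =>
    obtain ⟨vs, hvs, rfl⟩ := hx
    refine ⟨vs.reverse, fun v hv => hvs v (List.mem_reverse.1 hv), ?_⟩
    exact prod_tG_inv Q vs (fun v hv => by rw [hvs v hv]; exact hc)

end generic

section three

variable {ι : Type} [Fintype ι] [DecidableEq ι] (Q : QuadraticForm (ZMod 3) (ι → ZMod 3))

theorem zmod_three_cases (x : ZMod 3) : x = 0 ∨ x = 1 ∨ x = -1 := by revert x; decide

theorem zmod_three_mul_self {x : ZMod 3} (hx : x ≠ 0) : x * x = 1 := by revert x; decide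

theorem zmod_three_inv {x : ZMod 3} (hx : x ≠ 0) : x⁻¹ = x :=
  inv_eq_of_mul_eq_one_left (zmod_three_mul_self hx)

theorem zmod_three_two_ne_zero : (2 : ZMod 3) ≠ 0 := by decide

theorem zmod_three_two_nsmul_ne_zero {x : ZMod 3} (hx : x ≠ 0) : 2 • x ≠ 0 := by
  revert x; decide

/-- two reflections of the same norm in non-orthogonal vectors satisfy the braid relation -/
theorem tG_braid {c : ZMod 3} (hc : c ≠ 0) {u v : ι → ZMod 3} (hu : Q u = c) (hv : Q v = c)
    (hp : polar Q u v ≠ 0) : tG Q u * tG Q v * tG Q u = tG Q v * tG Q u * tG Q v := by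
  have hu0 : Q u ≠ 0 := by rw [hu]; exact hc
  have hv0 : Q v ≠ 0 := by rw [hv]; exact hc
  have h1 : tG Q u * tG Q v * tG Q u = tG Q (refl Q u v) := by
    have := mul_tG Q (tG Q u) hv0
    rw [toEnd_tG Q hu0] at this
    rw [this, mul_assoc, tG_mul_self Q hu0, mul_one]
  have h2 : tG Q v * tG Q u * tG Q v = tG Q (refl Q v u) := by
    have := mul_tG Q (tG Q v) hu0
    rw [toEnd_tG Q hv0] at this
    rw [this, mul_assoc, tG_mul_self Q hv0, mul_one]
  rw [h1, h2, refl_apply, refl_apply, hu, hv, polar_comm Q v u]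
  rcases zmod_three_cases (c⁻¹ * polar Q u v) with h | h | h
  · exfalso
    rcases mul_eq_zero.1 h with h | h
    · exact inv_ne_zero hc h
    · exact hp h
  · rw [h, one_smul, one_smul, ← neg_sub u v, tG_neg]
  · rw [h, neg_smul, neg_smul, one_smul, one_smul, sub_neg_eq_add, sub_neg_eq_add, add_comm]

theorem tG_mul_tG_pow_of_eq {c : ZMod 3} (hc : c ≠ 0) {u v : ι → ZMod 3} (hu : Q u = c)
    (hv : Q v = c) : (tG Q u * tG Q v) ^ 2 = 1 ∨ (tG Q u * tG Q v) ^ 3 = 1 := by
  have hu0 : Q u ≠ 0 := by rw [hu]; exact hc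
  have hv0 : Q v ≠ 0 := by rw [hv]; exact hc
  have haa := tG_mul_self Q hu0
  have hbb := tG_mul_self Q hv0
  by_cases hp : polar Q u v = 0
  · left
    have hcomm := tG_comm_of_polar_eq_zero Q hu0 hv0 hp
    rw [pow_two]
    calc tG Q u * tG Q v * (tG Q u * tG Q v)
        = tG Q u * (tG Q v * tG Q u) * tG Q v := by simp only [mul_assoc]
      _ = tG Q u * (tG Q u * tG Q v) * tG Q v := by rw [hcomm]
      _ = (tG Q u * tG Q u) * (tG Q v * tG Q v) := by simp only [mul_assoc]
      _ = 1 := by rw [haa, hbb, one_mul]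
  · right
    have hb := tG_braid Q hc hu hv hp
    calc (tG Q u * tG Q v) ^ 3
        = (tG Q u * tG Q v * tG Q u) * (tG Q v * tG Q u * tG Q v) := by
          rw [pow_three']
          simp only [mul_assoc]
      _ = (tG Q v * tG Q u * tG Q v) * (tG Q v * tG Q u * tG Q v) := by rw [hb]
      _ = tG Q v * (tG Q u * ((tG Q v * tG Q v) * (tG Q u * tG Q v))) := by
          simp only [mul_assoc]
      _ = 1 := by rw [hbb, one_mul, ← mul_assoc (tG Q u), haa, one_mul, hbb]

/-- non-commuting reflections of the same norm are conjugate under their product -/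
theorem tG_conj_of_polar_ne_zero {c : ZMod 3} (hc : c ≠ 0) {u v : ι → ZMod 3} (hu : Q u = c)
    (hv : Q v = c) (hp : polar Q u v ≠ 0) :
    (tG Q u * tG Q v) * tG Q u * (tG Q u * tG Q v)⁻¹ = tG Q v := by
  have hu0 : Q u ≠ 0 := by rw [hu]; exact hc
  have hv0 : Q v ≠ 0 := by rw [hv]; exact hc
  have haa := tG_mul_self Q hu0
  have hbb := tG_mul_self Q hv0
  have hb := tG_braid Q hc hu hv hp
  rw [mul_inv_rev, tG_inv Q hv0, tG_inv Q hu0, hb]
  calc tG Q v * tG Q u * tG Q v * (tG Q v * tG Q u)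
      = tG Q v * (tG Q u * ((tG Q v * tG Q v) * tG Q u)) := by simp only [mul_assoc]
    _ = tG Q v := by rw [hbb, one_mul, haa, mul_one]

theorem finrank_span_pair_le (u v : ι → ZMod 3) :
    finrank (ZMod 3) ↥(Submodule.span (ZMod 3) ({u, v} : Set (ι → ZMod 3))) ≤ 2 := by
  have := finrank_span_finset_le_card (R := ZMod 3) ({u, v} : Finset (ι → ZMod 3))
  rw [Finset.coe_pair] at this
  exact this.trans Finset.card_le_two

/-- two reflections of the same norm are conjugate in the group generated by the reflections of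
that norm -/
theorem exists_conj_mem_reflectionSubgroup (hQ : (polarBilin Q).Nondegenerate)
    (hn : 4 ≤ Fintype.card ι) {c : ZMod 3} (hc : c ≠ 0) {u v : ι → ZMod 3} (hu : Q u = c)
    (hv : Q v = c) :
    ∃ k ∈ Cfsg.reflectionSubgroup (⇑Q) c, k * tG Q u * k⁻¹ = tG Q v := by
  by_cases hp : polar Q u v = 0
  · set X : Submodule (ZMod 3) (ι → ZMod 3) := Submodule.span (ZMod 3) {u, v} with hXdef
    have huX : u ∈ X := Submodule.subset_span (by simp)
    have hvX : v ∈ X := Submodule.subset_span (by simp)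
    have hX : X ⊓ LinearMap.BilinForm.orthogonal (polarBilin Q) X = ⊥ := by
      rw [eq_bot_iff]
      rintro x ⟨hx1, hx2⟩
      rw [SetLike.mem_coe, hXdef, Submodule.mem_span_pair] at hx1
      obtain ⟨a, b, rfl⟩ := hx1
      rw [SetLike.mem_coe, mem_orthogonal_iff'] at hx2
      have h1 := hx2 u huX
      have h2 := hx2 v hvX
      rw [polar_add_right, polar_smul_right, polar_smul_right, polar_self, hu, hp] at h1
      rw [polar_add_right, polar_smul_right, polar_smul_right, polar_self, hv, polar_comm Q v u,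
        hp] at h2
      simp only [smul_eq_mul, mul_zero, add_zero, zero_add] at h1 h2
      have ha : a = 0 := by
        rcases mul_eq_zero.1 h1 with h | h
        · exact h
        · exact absurd h (zmod_three_two_nsmul_ne_zero hc)
      have hb : b = 0 := by
        rcases mul_eq_zero.1 h2 with h | h
        · exact h
        · exact absurd h (zmod_three_two_nsmul_ne_zero hc)
      rw [ha, hb, zero_smul, zero_smul, add_zero]
      exact Submodule.zero_mem _
    have hdim : finrank (ZMod 3) ↥X + 2 ≤ Fintype.card ι := by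
      have : finrank (ZMod 3) ↥X ≤ 2 := finrank_span_pair_le u v
      omega
    obtain ⟨z, hzX, hz⟩ := exists_orth_Q_eq Q hQ zmod_three_two_ne_zero X hX hdim
      (neg_ne_zero.2 hc)
    have huz : polar Q u z = 0 := hzX u huX
    have hvz : polar Q v z = 0 := hzX v hvX
    have hw : Q (u + v + z) = c := by
      rw [Q_add Q, Q_add Q, hu, hv, hz, hp, polar_add_left, huz, hvz]
      ring
    have huw : polar Q u (u + v + z) ≠ 0 := by
      rw [polar_add_right, polar_add_right, polar_self, hu, hp, huz, add_zero, add_zero]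
      exact zmod_three_two_nsmul_ne_zero hc
    have hwv : polar Q (u + v + z) v ≠ 0 := by
      rw [polar_add_left, polar_add_left, polar_self, hv, hp, polar_comm Q z v, hvz, add_zero,
        zero_add]
      exact zmod_three_two_nsmul_ne_zero hc
    have h1 := tG_conj_of_polar_ne_zero Q hc hu hw huw
    have h2 := tG_conj_of_polar_ne_zero Q hc hw hv hwv
    refine ⟨(tG Q (u + v + z) * tG Q v) * (tG Q u * tG Q (u + v + z)),
      mul_mem (mul_mem (tG_mem_reflectionSubgroup Q hc hw) (tG_mem_reflectionSubgroup Q hc hv))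
        (mul_mem (tG_mem_reflectionSubgroup Q hc hu) (tG_mem_reflectionSubgroup Q hc hw)), ?_⟩
    rw [mul_inv_rev (tG Q (u + v + z) * tG Q v)]
    calc tG Q (u + v + z) * tG Q v * (tG Q u * tG Q (u + v + z)) * tG Q u *
          ((tG Q u * tG Q (u + v + z))⁻¹ * (tG Q (u + v + z) * tG Q v)⁻¹)
        = tG Q (u + v + z) * tG Q v * ((tG Q u * tG Q (u + v + z)) * tG Q u *
          (tG Q u * tG Q (u + v + z))⁻¹) * (tG Q (u + v + z) * tG Q v)⁻¹ := by
          simp only [mul_assoc]
      _ = tG Q v := by rw [h1, h2]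
  · exact ⟨tG Q u * tG Q v,
      mul_mem (tG_mem_reflectionSubgroup Q hc hu) (tG_mem_reflectionSubgroup Q hc hv),
      tG_conj_of_polar_ne_zero Q hc hu hv hp⟩

/-- every non-zero scalar is a norm -/
theorem exists_Q_eq (hQ : (polarBilin Q).Nondegenerate) (hn : 2 ≤ Fintype.card ι) {c : ZMod 3}
    (hc : c ≠ 0) : ∃ v : ι → ZMod 3, Q v = c := by
  obtain ⟨y, -, hy⟩ := exists_orth_Q_eq Q hQ zmod_three_two_ne_zero ⊥ (bot_inf_eq _)
    (by rw [finrank_bot]; omega) hc
  exact ⟨y, hy⟩

/-- the reflections of one norm are a class of 3-transpositions of the group they generate -/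
theorem isThreeTranspositionClass_reflectionsOfNorm (hQ : (polarBilin Q).Nondegenerate)
    (hn : 4 ≤ Fintype.card ι) {c : ZMod 3} (hc : c ≠ 0) :
    Cfsg.IsThreeTranspositionClass {g : ↥(Cfsg.reflectionSubgroup (⇑Q) c) |
      (g : ↥(Cfsg.isometryGroup (ZMod 3) (⇑Q))) ∈ Cfsg.reflectionsOfNorm (⇑Q) c} := by
  have : Nonempty ι := by
    rw [← Fintype.card_pos_iff]; omega
  obtain ⟨v₀, hv₀⟩ := exists_Q_eq Q hQ (by omega) hc
  refine ⟨⟨?_, ?_⟩, ⟨⟨tG Q v₀, tG_mem_reflectionSubgroup Q hc hv₀⟩,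
    (mem_reflectionsOfNorm_iff Q hc _).2 ⟨v₀, hv₀, rfl⟩, ?_⟩, ?_⟩
  · intro d hd
    obtain ⟨v, hv, hdv⟩ := (mem_reflectionsOfNorm_iff Q hc _).1 hd
    rw [← Subgroup.orderOf_coe, hdv]
    exact orderOf_tG Q hQ (by rw [hv]; exact hc)
  · intro d hd e he
    obtain ⟨u, hu, hdu⟩ := (mem_reflectionsOfNorm_iff Q hc _).1 hd
    obtain ⟨v, hv, hev⟩ := (mem_reflectionsOfNorm_iff Q hc _).1 he
    rcases tG_mul_tG_pow_of_eq Q hc hu hv with h | h
    · left
      apply Subtype.ext
      rw [Subgroup.coe_pow, Subgroup.coe_mul, hdu, hev, h]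
      rfl
    · right
      apply Subtype.ext
      rw [Subgroup.coe_pow, Subgroup.coe_mul, hdu, hev, h]
      rfl
  · ext g
    show (g : ↥(Cfsg.isometryGroup (ZMod 3) (⇑Q))) ∈ Cfsg.reflectionsOfNorm (⇑Q) c ↔
      IsConj (⟨tG Q v₀, tG_mem_reflectionSubgroup Q hc hv₀⟩ :
        ↥(Cfsg.reflectionSubgroup (⇑Q) c)) g
    rw [isConj_iff, mem_reflectionsOfNorm_iff Q hc]
    constructor
    · rintro ⟨v, hv, hgv⟩
      obtain ⟨k, hk, hkc⟩ := exists_conj_mem_reflectionSubgroup Q hQ hn hc hv₀ hv
      refine ⟨⟨k, hk⟩, Subtype.ext ?_⟩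
      rw [Subgroup.coe_mul, Subgroup.coe_mul, Subgroup.coe_inv, hgv]
      exact hkc
    · rintro ⟨k, rfl⟩
      refine ⟨toEnd Q (k : ↥(Cfsg.isometryGroup (ZMod 3) (⇑Q))) v₀, ?_, ?_⟩
      · rw [toEnd_isometry]; exact hv₀
      · rw [Subgroup.coe_mul, Subgroup.coe_mul, Subgroup.coe_inv]
        show (k : ↥(Cfsg.isometryGroup (ZMod 3) (⇑Q))) * tG Q v₀ * _ = _
        rw [mul_tG Q _ (by rw [hv₀]; exact hc), mul_assoc, mul_inv_cancel, mul_one]
  · exact Subgroup.closure_closure_coe_preimage

theorem zmod_three_eq_or_eq_neg {x c : ZMod 3} (hx : x ≠ 0) (hc : c ≠ 0) : x = c ∨ x = -c := by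
  revert x c; decide

theorem zmod_three_three : (3 : ZMod 3) = 0 := by decide

theorem not_isSquare_neg_one : ¬ IsSquare (-1 : ZMod 3) := by
  rintro ⟨r, hr⟩
  revert r
  decide

/-- a reflection of norm `-c` is not a product of reflections of norm `c` -/
theorem tG_not_mem_reflectionSubgroup (hQ : (polarBilin Q).Nondegenerate) {c : ZMod 3}
    (hc : c ≠ 0) {w : ι → ZMod 3} (hw : Q w = -c) :
    tG Q w ∉ Cfsg.reflectionSubgroup (⇑Q) c := by
  intro hmem
  obtain ⟨vs, hvs, hk⟩ := exists_list_of_mem_reflectionSubgroup Q hc hmem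
  have hw0 : Q w ≠ 0 := by rw [hw]; exact neg_ne_zero.2 hc
  have hex : Fintype.card (ZMod 3) ≠ 2 ∨ Fintype.card ι ≠ 4 := Or.inl (by rw [ZMod.card]; decide)
  have h1 : ((w :: vs).map (tG Q)).prod = 1 := by
    rw [List.map_cons, List.prod_cons, ← hk, tG_mul_self Q hw0]
  have hne : ∀ v ∈ w :: vs, Q v ≠ 0 := by
    intro v hv
    rcases List.mem_cons.1 hv with rfl | h
    · exact hw0
    · rw [hvs v h]; exact hc
  obtain ⟨heven, hsq⟩ := (prod_tG_mem_Omega_iff_all Q hQ hex (w :: vs) hne).1
    (by rw [h1]; exact one_mem _)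
  rw [List.map_cons, List.prod_cons, hw] at hsq
  have hprod : (vs.map (fun v => Q v)).prod = c ^ vs.length := by
    rw [List.prod_eq_pow_card _ c, List.length_map]
    intro x hx
    obtain ⟨v, hv, rfl⟩ := List.mem_map.1 hx
    exact hvs v hv
  rw [List.length_cons] at heven
  obtain ⟨m, hm⟩ := heven
  have hval : -c * (vs.map (fun v => Q v)).prod = -1 := by
    rw [hprod, neg_mul, ← pow_succ', hm, ← two_mul, pow_mul', pow_two,
      zmod_three_mul_self (pow_ne_zero m hc)]
  rw [hval] at hsq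
  exact not_isSquare_neg_one hsq

/-- the product of two reflections of norm `-c` in orthogonal vectors is a product of two
reflections of norm `c` -/
theorem tG_mul_tG_mem_of_orth {c : ZMod 3} (hc : c ≠ 0) {w w' : ι → ZMod 3} (hw : Q w = -c)
    (hw' : Q w' = -c) (hp : polar Q w w' = 0) :
    tG Q w * tG Q w' ∈ Cfsg.reflectionSubgroup (⇑Q) c := by
  rw [tG_mul_tG_eq_add_sub Q zmod_three_two_ne_zero (neg_ne_zero.2 hc) hw hw' hp]
  have hadd : Q (w + w') = c := by
    rw [Q_add Q, hw, hw', hp]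
    linear_combination (-c) * zmod_three_three
  have hsub : Q (w - w') = c := by
    rw [Q_sub Q, hw, hw', hp]
    linear_combination (-c) * zmod_three_three
  exact mul_mem (tG_mem_reflectionSubgroup Q hc hadd) (tG_mem_reflectionSubgroup Q hc hsub)

theorem finrank_span_triple_le (u v w : ι → ZMod 3) :
    finrank (ZMod 3) ↥(Submodule.span (ZMod 3) ({u, v, w} : Set (ι → ZMod 3))) ≤ 3 := by
  have := finrank_span_finset_le_card (R := ZMod 3) ({u, v, w} : Finset (ι → ZMod 3))
  rw [Finset.coe_insert, Finset.coe_pair] at this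
  exact this.trans Finset.card_le_three

/-- the product of two reflections of norm `-c` is a product of reflections of norm `c` -/
theorem tG_mul_tG_mem_of_neg (hQ : (polarBilin Q).Nondegenerate) (hn : 5 ≤ Fintype.card ι)
    {c : ZMod 3} (hc : c ≠ 0) {w w' : ι → ZMod 3} (hw : Q w = -c) (hw' : Q w' = -c) :
    tG Q w * tG Q w' ∈ Cfsg.reflectionSubgroup (⇑Q) c := by
  by_cases hp : polar Q w w' = 0
  · exact tG_mul_tG_mem_of_orth Q hc hw hw' hp
  · obtain ⟨d, hd⟩ : ∃ d : ZMod 3, d = -c := ⟨_, rfl⟩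
    have hd0 : d ≠ 0 := by rw [hd]; exact neg_ne_zero.2 hc
    rw [← hd] at hw hw'
    have hw0 : Q w ≠ 0 := by rw [hw]; exact hd0
    have hdd := zmod_three_mul_self hd0
    obtain ⟨ε, hε⟩ : ∃ ε : ZMod 3, ε = polar Q w w' := ⟨_, rfl⟩
    rw [← hε] at hp
    have hεε := zmod_three_mul_self hp
    obtain ⟨t, ht⟩ : ∃ t : ZMod 3, t = -(ε * d) := ⟨_, rfl⟩
    obtain ⟨z, hz⟩ : ∃ z : ι → ZMod 3, z = w' - t • w := ⟨_, rfl⟩
    have hw'z : w' = z + t • w := by rw [hz]; abel
    have hQz : Q z = 0 := by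
      rw [hz, Q_sub_smul, hw, hw', polar_comm Q w' w, ← hε, ht]
      linear_combination (d * d * d + d) * hεε + d * hdd + d * zmod_three_three
    have hwz : polar Q w z = 0 := by
      rw [hz, polar_sub_right, polar_smul_right, polar_self, hw, ← hε, ht]
      simp only [smul_eq_mul, nsmul_eq_mul, Nat.cast_ofNat]
      linear_combination 2 * ε * hdd + ε * zmod_three_three
    by_cases hz0 : z = 0
    · have ht0 : t ≠ 0 := by rw [ht]; exact neg_ne_zero.2 (mul_ne_zero hp hd0)
      rw [hz0, zero_add] at hw'z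
      rcases zmod_three_cases t with h | h | h
      · exact absurd h ht0
      · rw [hw'z, h, one_smul, tG_mul_self Q hw0]; exact one_mem _
      · rw [hw'z, h, neg_smul, one_smul, tG_neg, tG_mul_self Q hw0]; exact one_mem _
    · set X₁ : Submodule (ZMod 3) (ι → ZMod 3) := Submodule.span (ZMod 3) {w} with hX₁
      have hwX₁ : w ∈ X₁ := Submodule.mem_span_singleton_self w
      have hX₁nd : X₁ ⊓ LinearMap.BilinForm.orthogonal (polarBilin Q) X₁ = ⊥ := by
        rw [eq_bot_iff]
        rintro x ⟨hx1, hx2⟩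
        rw [SetLike.mem_coe, hX₁, Submodule.mem_span_singleton] at hx1
        obtain ⟨a, rfl⟩ := hx1
        rw [SetLike.mem_coe, mem_orthogonal_iff'] at hx2
        have h1 := hx2 w hwX₁
        rw [polar_smul_right, polar_self, hw, smul_eq_mul] at h1
        rcases mul_eq_zero.1 h1 with h | h
        · rw [h, zero_smul]; exact Submodule.zero_mem _
        · exact absurd h (zmod_three_two_nsmul_ne_zero hd0)
      have hW := orthogonal_inf_orthogonal_orthogonal Q hQ X₁ hX₁nd
      have hzW : z ∈ LinearMap.BilinForm.orthogonal (polarBilin Q) X₁ := by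
        rw [mem_orthogonal_iff']
        intro x hx
        rw [hX₁, Submodule.mem_span_singleton] at hx
        obtain ⟨a, rfl⟩ := hx
        rw [polar_smul_left, hwz, smul_zero]
      obtain ⟨z', hz'W, hQz', hzz'⟩ := exists_partner Q _ hW hzW hz0 hQz
      have hwz' : polar Q w z' = 0 := (mem_orthogonal_iff' Q X₁ z').1 hz'W w hwX₁
      set X : Submodule (ZMod 3) (ι → ZMod 3) := Submodule.span (ZMod 3) {w, z, z'} with hXdef
      have hwX : w ∈ X := Submodule.subset_span (by simp)
      have hzX : z ∈ X := Submodule.subset_span (by simp)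
      have hz'X : z' ∈ X := Submodule.subset_span (by simp)
      have hX : X ⊓ LinearMap.BilinForm.orthogonal (polarBilin Q) X = ⊥ := by
        rw [eq_bot_iff]
        rintro x ⟨hx1, hx2⟩
        rw [SetLike.mem_coe, hXdef, Submodule.mem_span_triple] at hx1
        obtain ⟨a, b, b', rfl⟩ := hx1
        rw [SetLike.mem_coe, mem_orthogonal_iff'] at hx2
        have h1 := hx2 w hwX
        have h2 := hx2 z hzX
        have h3 := hx2 z' hz'X
        rw [polar_add_right, polar_add_right, polar_smul_right, polar_smul_right,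
          polar_smul_right, polar_self, hw, hwz, hwz'] at h1
        rw [polar_add_right, polar_add_right, polar_smul_right, polar_smul_right,
          polar_smul_right, polar_self, hQz, polar_comm Q z w, hwz, hzz'] at h2
        rw [polar_add_right, polar_add_right, polar_smul_right, polar_smul_right,
          polar_smul_right, polar_self, hQz', polar_comm Q z' w, hwz', polar_comm Q z' z,
          hzz'] at h3
        simp only [smul_eq_mul, mul_zero, add_zero, zero_add, mul_one, smul_zero] at h1 h2 h3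
        have ha : a = 0 := by
          rcases mul_eq_zero.1 h1 with h | h
          · exact h
          · exact absurd h (zmod_three_two_nsmul_ne_zero hd0)
        rw [ha, h2, h3, zero_smul, zero_smul, zero_smul, add_zero, add_zero]
        exact Submodule.zero_mem _
      have hdim : finrank (ZMod 3) ↥X + 2 ≤ Fintype.card ι := by
        have : finrank (ZMod 3) ↥X ≤ 3 := finrank_span_triple_le w z z'
        omega
      obtain ⟨y, hyX, hy⟩ := exists_orth_Q_eq Q hQ zmod_three_two_ne_zero X hX hdim hd0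
      have hy0 : Q y ≠ 0 := by rw [hy]; exact hd0
      have hwy : polar Q w y = 0 := hyX w hwX
      have hzy : polar Q z y = 0 := hyX z hzX
      have hw'y : polar Q w' y = 0 := by
        rw [hw'z, polar_add_left, polar_smul_left, hwy, hzy, smul_zero, add_zero]
      have hsplit : tG Q w * tG Q w' = (tG Q w * tG Q y) * (tG Q y * tG Q w') := by
        rw [mul_assoc, ← mul_assoc (tG Q y), tG_mul_self Q hy0, one_mul]
      rw [hsplit]
      rw [hd] at hw hw' hy
      refine mul_mem (tG_mul_tG_mem_of_orth Q hc hw hy hwy)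
        (tG_mul_tG_mem_of_orth Q hc hy hw' ?_)
      rw [polar_comm]; exact hw'y

/-- the reflections of one norm generate a subgroup of index two of the isometry group -/
theorem index_reflectionSubgroup (hQ : (polarBilin Q).Nondegenerate)
    (hn : 5 ≤ Fintype.card ι) {c : ZMod 3} (hc : c ≠ 0) :
    (Cfsg.reflectionSubgroup (⇑Q) c).index = 2 := by
  have hnorm := reflectionSubgroup_normal Q hc
  have hex : Fintype.card (ZMod 3) ≠ 2 ∨ Fintype.card ι ≠ 4 := Or.inl (by rw [ZMod.card]; decide)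
  obtain ⟨w, hw⟩ := exists_Q_eq Q hQ (by omega) (neg_ne_zero.2 hc)
  have hw0 : Q w ≠ 0 := by rw [hw]; exact neg_ne_zero.2 hc
  have ha := tG_not_mem_reflectionSubgroup Q hQ hc hw
  obtain ⟨φ, hφ⟩ : ∃ φ : ↥(Cfsg.isometryGroup (ZMod 3) (⇑Q)) →*
      ↥(Cfsg.isometryGroup (ZMod 3) (⇑Q)) ⧸ Cfsg.reflectionSubgroup (⇑Q) c,
      ∀ x, φ x = 1 ↔ x ∈ Cfsg.reflectionSubgroup (⇑Q) c :=
    ⟨QuotientGroup.mk' _, fun x => QuotientGroup.eq_one_iff x⟩
  have hφ1 : ∀ v, Q v = c → φ (tG Q v) = 1 := fun v hv =>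
    (hφ _).2 (tG_mem_reflectionSubgroup Q hc hv)
  have hφaa : φ (tG Q w) * φ (tG Q w) = 1 := by rw [← map_mul, tG_mul_self Q hw0, map_one]
  have hφa : ∀ v, Q v = -c → φ (tG Q v) = φ (tG Q w) := by
    intro v hv
    have h1 := (hφ _).2 (tG_mul_tG_mem_of_neg Q hQ hn hc hw hv)
    rw [map_mul] at h1
    calc φ (tG Q v) = (φ (tG Q w) * φ (tG Q w)) * φ (tG Q v) := by rw [hφaa, one_mul]
      _ = φ (tG Q w) := by rw [mul_assoc, h1, mul_one]
  have hφa1 : φ (tG Q w) ≠ 1 := fun h => ha ((hφ _).1 h)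
  have hall : ∀ b, φ b = 1 ∨ φ b = φ (tG Q w) := by
    intro b
    obtain ⟨vs, hvs, rfl⟩ := exists_prod_tG Q hQ hex b
    induction vs with
    | nil => left; simp
    | cons v vs ih =>
      rw [List.map_cons, List.prod_cons, map_mul]
      have hv := zmod_three_eq_or_eq_neg (hvs v List.mem_cons_self) hc
      rcases ih (fun u hu => hvs u (List.mem_cons_of_mem _ hu)) with h | h <;>
        rcases hv with hv | hv
      · left; rw [hφ1 v hv, h, one_mul]
      · right; rw [hφa v hv, h, mul_one]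
      · right; rw [hφ1 v hv, h, one_mul]
      · left; rw [hφa v hv, h, hφaa]
  rw [Subgroup.index_eq_two_iff]
  refine ⟨tG Q w, fun b => ?_⟩
  have e1 : b * tG Q w ∈ Cfsg.reflectionSubgroup (⇑Q) c ↔ φ b = φ (tG Q w) := by
    rw [← hφ, map_mul]
    constructor
    · intro h
      calc φ b = φ b * (φ (tG Q w) * φ (tG Q w)) := by rw [hφaa, mul_one]
        _ = φ (tG Q w) := by rw [← mul_assoc, h, one_mul]
    · intro h
      rw [h, hφaa]
  have e2 : b ∈ Cfsg.reflectionSubgroup (⇑Q) c ↔ φ b = 1 := (hφ b).symm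
  rcases hall b with h | h
  · exact Or.inr ⟨e2.2 h, fun h' => hφa1 ((e1.1 h').symm.trans h)⟩
  · exact Or.inl ⟨e1.2 h, fun h' => hφa1 (h.symm.trans (e2.1 h'))⟩

end three

end Cfsg.Agent.Helper17.Spinor
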