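import Mathlib
import Cfsg.Prelude.Def_Classical
import Cfsg.Prelude.Def_ClassicalGeometry
import Cfsg.Agent.Lib.Helper17.ReflThree

/-!
# Reflections with norms in one square class (helper17)

Over a finite field of odd order, the reflections in the vectors whose norm lies in a fixed
square class `c (Fˣ)²` generate a subgroup of index two of the isometry group of a non-degenerate
quadratic space of even dimension, except in dimension four over the field with three elements.
-/

set_option autoImplicit false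

namespace Cfsg.Agent.Helper17.Spinor
open Cfsg QuadraticMap Module

section classes

variable {F : Type*} [Field F] [Fintype F] {ι : Type} [Fintype ι] [DecidableEq ι]
  (Q : QuadraticForm F (ι → F))

omit [Fintype F] in
theorem pair_solve {A B p s t : F} (hd : 4 * A * B - p ^ 2 ≠ 0) (h1 : 2 * s * A + t * p = 0)
    (h2 : s * p + 2 * t * B = 0) : s = 0 ∧ t = 0 := by
  constructor
  · have : s * (4 * A * B - p ^ 2) = 0 := by linear_combination 2 * B * h1 - p * h2
    exact (mul_eq_zero.1 this).resolve_right hd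
  · have : t * (4 * A * B - p ^ 2) = 0 := by linear_combination 2 * A * h2 - p * h1
    exact (mul_eq_zero.1 this).resolve_right hd

omit [Fintype F] in
theorem pair_coeff_eq_zero {a b : ι → F} (hdisc : 4 * Q a * Q b - polar Q a b ^ 2 ≠ 0) {s t : F}
    (h1 : polar Q a (s • a + t • b) = 0) (h2 : polar Q b (s • a + t • b) = 0) :
    s = 0 ∧ t = 0 := by
  rw [polar_add_right, polar_smul_right, polar_smul_right, polar_self] at h1
  rw [polar_add_right, polar_smul_right, polar_smul_right, polar_self, polar_comm Q b a] at h2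
  simp only [smul_eq_mul, nsmul_eq_mul, Nat.cast_ofNat] at h1 h2
  exact pair_solve hdisc (by linear_combination h1) (by linear_combination h2)

omit [Fintype F] in
theorem span_pair_nondeg {a b : ι → F} (hdisc : 4 * Q a * Q b - polar Q a b ^ 2 ≠ 0) :
    Submodule.span F {a, b} ⊓
      LinearMap.BilinForm.orthogonal (polarBilin Q) (Submodule.span F {a, b}) = ⊥ := by
  rw [eq_bot_iff]
  rintro x ⟨hx1, hx2⟩
  rw [SetLike.mem_coe, Submodule.mem_span_pair] at hx1
  obtain ⟨s, t, rfl⟩ := hx1
  rw [SetLike.mem_coe, mem_orthogonal_iff'] at hx2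
  have h1 := hx2 a (Submodule.subset_span (by simp))
  have h2 := hx2 b (Submodule.subset_span (by simp))
  obtain ⟨hs, ht⟩ := pair_coeff_eq_zero Q hdisc h1 h2
  rw [hs, ht, zero_smul, zero_smul, add_zero]
  exact Submodule.zero_mem _

omit [Fintype F] in
theorem finrank_span_pair_eq {a b : ι → F} (hdisc : 4 * Q a * Q b - polar Q a b ^ 2 ≠ 0) :
    finrank F ↥(Submodule.span F ({a, b} : Set (ι → F))) = 2 := by
  have hli : LinearIndependent F ![a, b] := by
    rw [LinearIndependent.pair_iff]
    intro s t hst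
    refine pair_coeff_eq_zero Q hdisc ?_ ?_
    · rw [hst, polar_zero_right]
    · rw [hst, polar_zero_right]
  have := finrank_span_eq_card hli
  rw [Matrix.range_cons_cons_empty] at this
  simpa using this

omit [Fintype F] in
theorem sub_refl_mem_span (v w : ι → F) : w - refl Q v w ∈ Submodule.span F {v} := by
  rw [refl_apply, sub_sub_cancel]
  exact Submodule.smul_mem _ _ (Submodule.mem_span_singleton_self v)

theorem card_ne_two_of_two_ne_zero (h2 : (2 : F) ≠ 0) : Fintype.card F ≠ 2 := by
  intro h
  apply h2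
  have := Nat.cast_card_eq_zero F
  rw [h] at this
  exact_mod_cast this

/-- the product of the reflections in two vectors spanning a non-degenerate plane is the product
of a reflection in a vector of any prescribed norm of that plane and another reflection -/
theorem exists_tG_mul_tG_eq (hQ : (polarBilin Q).Nondegenerate) (h2 : (2 : F) ≠ 0)
    {a b : ι → F} (ha : Q a ≠ 0) (hb : Q b ≠ 0)
    (hdisc : 4 * Q a * Q b - polar Q a b ^ 2 ≠ 0) {c : F} (hc : c ≠ 0) :
    ∃ x y : ι → F, Q x = c ∧ Q y ≠ 0 ∧ IsSquare (Q y * (Q b * (Q a * Q x))) ∧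
      tG Q a * tG Q b = tG Q x * tG Q y := by
  set P : Submodule F (ι → F) := Submodule.span F {a, b} with hP
  have haP : a ∈ P := Submodule.subset_span (by simp)
  have hbP : b ∈ P := Submodule.subset_span (by simp)
  have hPnd := span_pair_nondeg Q hdisc
  have hPdim := finrank_span_pair_eq Q hdisc
  obtain ⟨x, hxP, hx⟩ := exists_mem_Q_eq Q h2 P hPnd (by rw [hPdim]) hc
  have hx0 : Q x ≠ 0 := by rw [hx]; exact hc
  have hlist : ∀ v ∈ [x, a, b], Q v ≠ 0 := by
    intro v hv
    simp only [List.mem_cons, List.not_mem_nil, or_false] at hv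
    rcases hv with rfl | rfl | rfl
    · exact hx0
    · exact ha
    · exact hb
  set T : Module.End F (ι → F) := ([x, a, b].map (refl Q)).prod with hT
  have hTiso : ∀ w, Q (T w) = Q w := isometry_prod_refl Q _ hlist
  have hrange : LinearMap.range (1 - T) ≤ P := by
    rintro _ ⟨w, rfl⟩
    have hTw : T w = refl Q x (refl Q a (refl Q b w)) := by
      rw [hT]; simp [Module.End.mul_apply]
    have h1 := sub_refl_mem_span Q b w
    have h2' := sub_refl_mem_span Q a (refl Q b w)
    have h3 := sub_refl_mem_span Q x (refl Q a (refl Q b w))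
    have e : (1 - T) w = (w - refl Q b w) + (refl Q b w - refl Q a (refl Q b w)) +
        (refl Q a (refl Q b w) - refl Q x (refl Q a (refl Q b w))) := by
      rw [LinearMap.sub_apply, Module.End.one_apply, hTw]; abel
    rw [e]
    refine P.add_mem (P.add_mem ?_ ?_) ?_
    · exact Submodule.span_mono (by simp) h1
    · exact Submodule.span_mono (by simp) h2'
    · exact (Submodule.span_le.2 (by simpa using hxP)) h3
  have hle : finrank F ↥(LinearMap.range (1 - T)) ≤ 2 := by
    rw [← hPdim]; exact Submodule.finrank_mono hrange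
  have hpar := finrank_range_one_sub_prod_refl Q hQ [x, a, b] hlist
  rw [← hT] at hpar
  have hone : finrank F ↥(LinearMap.range (1 - T)) = 1 := by
    simp only [List.length_cons, List.length_nil] at hpar
    omega
  obtain ⟨y, hy0, hTy⟩ := eq_refl_of_finrank_range_eq_one Q hQ T hTiso hone
  have hg : tG Q x * tG Q a * tG Q b = tG Q y := by
    apply toEnd_injective
    rw [map_mul, map_mul, toEnd_tG Q hx0, toEnd_tG Q ha, toEnd_tG Q hb, toEnd_tG Q hy0, ← hTy, hT]
    simp [mul_assoc]
  have hxx := tG_mul_self Q hx0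
  have hyy := tG_mul_self Q hy0
  have haa := tG_mul_self Q ha
  have hbb := tG_mul_self Q hb
  have hab : tG Q a * tG Q b = tG Q x * tG Q y := by
    rw [← hg, ← mul_assoc, ← mul_assoc, hxx, one_mul]
  refine ⟨x, y, hx, hy0, ?_, hab⟩
  have hex : Fintype.card F ≠ 2 ∨ Fintype.card ι ≠ 4 := Or.inl (card_ne_two_of_two_ne_zero h2)
  have hlist4 : ∀ v ∈ [y, b, a, x], Q v ≠ 0 := by
    intro v hv
    simp only [List.mem_cons, List.not_mem_nil, or_false] at hv
    rcases hv with rfl | rfl | rfl | rfl
    · exact hy0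
    · exact hb
    · exact ha
    · exact hx0
  have h1 : ([y, b, a, x].map (tG Q)).prod = 1 := by
    simp only [List.map_cons, List.map_nil, List.prod_cons, List.prod_nil, mul_one]
    rw [← hg]
    calc tG Q x * tG Q a * tG Q b * (tG Q b * (tG Q a * tG Q x))
        = tG Q x * (tG Q a * ((tG Q b * tG Q b) * (tG Q a * tG Q x))) := by
          simp only [mul_assoc]
      _ = 1 := by rw [hbb, one_mul, ← mul_assoc (tG Q a), haa, one_mul, hxx]
  obtain ⟨-, hsq⟩ := (prod_tG_mem_Omega_iff_all Q hQ hex [y, b, a, x] hlist4).1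
    (by rw [h1]; exact one_mem _)
  simpa using hsq

end classes

section char

variable {F : Type*} [Field F] [Fintype F] [DecidableEq F] {ι : Type} [Fintype ι] [DecidableEq ι]
  (Q : QuadraticForm F (ι → F))

theorem exists_sq_iff {x c : F} (hx : x ≠ 0) (hc : c ≠ 0) :
    (∃ t : F, t ≠ 0 ∧ x = c * t ^ 2) ↔ quadraticChar F x = quadraticChar F c := by
  constructor
  · rintro ⟨t, ht, rfl⟩
    rw [map_mul, quadraticChar_sq_one' ht, mul_one]
  · intro h
    have h1 : quadraticChar F (x * c) = 1 := by
      rw [map_mul, h, ← pow_two, quadraticChar_sq_one hc]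
    obtain ⟨r, hr⟩ := (quadraticChar_one_iff_isSquare (mul_ne_zero hx hc)).1 h1
    have hr0 : r ≠ 0 := by
      rintro rfl
      rw [mul_zero] at hr
      exact mul_ne_zero hx hc hr
    refine ⟨r / c, div_ne_zero hr0 hc, ?_⟩
    field_simp
    linear_combination hr

/-- the reflections in the vectors whose norm lies in the square class of `c` -/
def reflClassSet (c : F) : Set ↥(Cfsg.isometryGroup F (⇑Q)) :=
  {g | ∃ (v : ι → F) (t : F), t ≠ 0 ∧ Q v = c * t ^ 2 ∧
    ((g : Matrix.GeneralLinearGroup ι F) : Matrix ι ι F) = Cfsg.reflectionMatrix (⇑Q) v}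

/-- the subgroup generated by the reflections of one square class -/
def reflClassSubgroup (c : F) : Subgroup ↥(Cfsg.isometryGroup F (⇑Q)) :=
  Subgroup.closure (reflClassSet Q c)

theorem mem_reflClassSet_iff {c : F} (hc : c ≠ 0) (g : ↥(Cfsg.isometryGroup F (⇑Q))) :
    g ∈ reflClassSet Q c ↔
      ∃ v : ι → F, Q v ≠ 0 ∧ quadraticChar F (Q v) = quadraticChar F c ∧ g = tG Q v := by
  constructor
  · rintro ⟨v, t, ht, hv, hg⟩
    have hv0 : Q v ≠ 0 := by rw [hv]; exact mul_ne_zero hc (pow_ne_zero 2 ht)
    refine ⟨v, hv0, (exists_sq_iff hv0 hc).1 ⟨t, ht, hv⟩, eq_of_coe_eq Q ?_⟩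
    rw [hg, tG_coe Q hv0]
  · rintro ⟨v, hv0, hv, rfl⟩
    obtain ⟨t, ht, hvt⟩ := (exists_sq_iff hv0 hc).2 hv
    exact ⟨v, t, ht, hvt, tG_coe Q hv0⟩

theorem tG_mem_reflClassSubgroup {c : F} (hc : c ≠ 0) {v : ι → F} (hv0 : Q v ≠ 0)
    (hv : quadraticChar F (Q v) = quadraticChar F c) : tG Q v ∈ reflClassSubgroup Q c :=
  Subgroup.subset_closure ((mem_reflClassSet_iff Q hc _).2 ⟨v, hv0, hv, rfl⟩)

theorem reflClassSubgroup_normal {c : F} (hc : c ≠ 0) : (reflClassSubgroup Q c).Normal := by
  constructor
  intro n hn g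
  unfold reflClassSubgroup at hn ⊢
  induction hn using Subgroup.closure_induction with
  | mem x hx =>
    obtain ⟨v, hv0, hv, rfl⟩ := (mem_reflClassSet_iff Q hc x).1 hx
    apply Subgroup.subset_closure
    rw [mem_reflClassSet_iff Q hc]
    refine ⟨toEnd Q g v, by rw [toEnd_isometry]; exact hv0, by rw [toEnd_isometry]; exact hv, ?_⟩
    rw [mul_tG Q g hv0, mul_assoc, mul_inv_cancel, mul_one]
  | one => rw [mul_one, mul_inv_cancel]; exact one_mem _
  | mul x y _ _ hx hy =>
    have : g * (x * y) * g⁻¹ = (g * x * g⁻¹) * (g * y * g⁻¹) := by group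
    rw [this]; exact mul_mem hx hy
  | inv x _ hx =>
    have : g * x⁻¹ * g⁻¹ = (g * x * g⁻¹)⁻¹ := by group
    rw [this]; exact inv_mem hx

theorem exists_list_of_mem_reflClassSubgroup {c : F} (hc : c ≠ 0)
    {k : ↥(Cfsg.isometryGroup F (⇑Q))} (hk : k ∈ reflClassSubgroup Q c) :
    ∃ vs : List (ι → F),
      (∀ v ∈ vs, Q v ≠ 0 ∧ quadraticChar F (Q v) = quadraticChar F c) ∧
        k = (vs.map (tG Q)).prod := by
  unfold reflClassSubgroup at hk
  induction hk using Subgroup.closure_induction with
  | mem x hx =>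
    obtain ⟨v, hv0, hv, rfl⟩ := (mem_reflClassSet_iff Q hc x).1 hx
    exact ⟨[v], by simpa using ⟨hv0, hv⟩, by simp⟩
  | one => exact ⟨[], by simp, by simp⟩
  | mul x y _ _ hx hy =>
    obtain ⟨vs, hvs, rfl⟩ := hx
    obtain ⟨ws, hws, rfl⟩ := hy
    refine ⟨vs ++ ws, ?_, by rw [List.map_append, List.prod_append]⟩
    intro v hv
    rcases List.mem_append.1 hv with h | h
    · exact hvs v h
    · exact hws v h
  | inv x _ hx =>
    obtain ⟨vs, hvs, rfl⟩ := hx
    refine ⟨vs.reverse, fun v hv => hvs v (List.mem_reverse.1 hv), ?_⟩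
    exact prod_tG_inv Q vs (fun v hv => (hvs v hv).1)

/-- the product of two reflections of the same square class in vectors spanning a non-degenerate
plane lies in the group generated by the reflections of any one class -/
theorem tG_mul_tG_mem_of_disc (hQ : (polarBilin Q).Nondegenerate) (h2 : (2 : F) ≠ 0)
    {c : F} (hc : c ≠ 0) {a b : ι → F} (ha : Q a ≠ 0) (hb : Q b ≠ 0)
    (hab : quadraticChar F (Q a) = quadraticChar F (Q b))
    (hdisc : 4 * Q a * Q b - polar Q a b ^ 2 ≠ 0) :
    tG Q a * tG Q b ∈ reflClassSubgroup Q c := by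
  obtain ⟨x, y, hx, hy0, hsq, hprod⟩ := exists_tG_mul_tG_eq Q hQ h2 ha hb hdisc hc
  have hx0 : Q x ≠ 0 := by rw [hx]; exact hc
  have h1 : quadraticChar F (Q y * (Q b * (Q a * Q x))) = 1 :=
    (quadraticChar_one_iff_isSquare
      (mul_ne_zero hy0 (mul_ne_zero hb (mul_ne_zero ha hx0)))).2 hsq
  rw [map_mul, map_mul, map_mul, hx, ← hab] at h1
  have hy : quadraticChar F (Q y) = quadraticChar F c := by
    rcases quadraticChar_dichotomy ha with h | h <;>
      rcases quadraticChar_dichotomy hc with h' | h' <;>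
      rcases quadraticChar_dichotomy hy0 with h'' | h'' <;>
      rw [h, h', h''] at h1 <;> rw [h', h''] <;> revert h1 <;> decide
  rw [hprod]
  exact mul_mem (tG_mem_reflClassSubgroup Q hc hx0 (by rw [hx]))
    (tG_mem_reflClassSubgroup Q hc hy0 hy)

omit [DecidableEq F] in
theorem exists_ne_zero_one_neg_one (h2 : (2 : F) ≠ 0) (h3 : Fintype.card F ≠ 3) :
    ∃ u : F, u ≠ 0 ∧ u ≠ 1 ∧ u ≠ -1 := by
  classical
  have h1 : 1 < Fintype.card F := Fintype.one_lt_card
  have h2' := card_ne_two_of_two_ne_zero h2
  have hlt : ({0, 1, -1} : Finset F).card < (Finset.univ : Finset F).card := by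
    have : ({0, 1, -1} : Finset F).card ≤ 3 := Finset.card_le_three
    rw [Finset.card_univ]
    omega
  obtain ⟨u, -, hu⟩ := Finset.exists_mem_notMem_of_card_lt_card hlt
  simp only [Finset.mem_insert, Finset.mem_singleton, not_or] at hu
  exact ⟨u, hu.1, hu.2.1, hu.2.2⟩

omit [Fintype F] [DecidableEq F] in
theorem tG_smul {k : F} (hk : k ≠ 0) {v : ι → F} (hv : Q v ≠ 0) : tG Q (k • v) = tG Q v := by
  have hv' : Q (k • v) ≠ 0 := by
    rw [QuadraticMap.map_smul]
    exact mul_ne_zero (mul_ne_zero hk hk) hv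
  apply toEnd_injective
  rw [toEnd_tG Q hv, toEnd_tG Q hv', refl_smul Q hk]

omit [Fintype F] [DecidableEq F] in
theorem finrank_span_triple_le' (u v w : ι → F) :
    finrank F ↥(Submodule.span F ({u, v, w} : Set (ι → F))) ≤ 3 := by
  classical
  have := finrank_span_finset_le_card (R := F) ({u, v, w} : Finset (ι → F))
  rw [Finset.coe_insert, Finset.coe_pair] at this
  exact this.trans Finset.card_le_three

omit [Fintype F] [DecidableEq F] in
theorem span_singleton_nondeg (h2 : (2 : F) ≠ 0) {a : ι → F} (ha : Q a ≠ 0) :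
    Submodule.span F {a} ⊓
      LinearMap.BilinForm.orthogonal (polarBilin Q) (Submodule.span F {a}) = ⊥ := by
  rw [eq_bot_iff]
  rintro x ⟨hx1, hx2⟩
  rw [SetLike.mem_coe, Submodule.mem_span_singleton] at hx1
  obtain ⟨k, rfl⟩ := hx1
  rw [SetLike.mem_coe, mem_orthogonal_iff'] at hx2
  have h1 := hx2 a (Submodule.mem_span_singleton_self a)
  rw [polar_smul_right, polar_self] at h1
  simp only [smul_eq_mul, nsmul_eq_mul, Nat.cast_ofNat] at h1
  rcases mul_eq_zero.1 h1 with h | h
  · rw [h, zero_smul]; exact Submodule.zero_mem _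
  · exact absurd h (mul_ne_zero h2 ha)

omit [Fintype F] [DecidableEq F] in
/-- the span of a non-singular vector and a hyperbolic pair orthogonal to it is non-degenerate -/
theorem span_triple_nondeg (h2 : (2 : F) ≠ 0) {a z z' : ι → F} (ha : Q a ≠ 0) (hz : Q z = 0)
    (hz' : Q z' = 0) (hzz' : polar Q z z' = 1) (haz : polar Q a z = 0)
    (haz' : polar Q a z' = 0) :
    Submodule.span F {a, z, z'} ⊓
      LinearMap.BilinForm.orthogonal (polarBilin Q) (Submodule.span F {a, z, z'}) = ⊥ := by
  rw [eq_bot_iff]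
  rintro x ⟨hx1, hx2⟩
  rw [SetLike.mem_coe, Submodule.mem_span_triple] at hx1
  obtain ⟨k, l, l', rfl⟩ := hx1
  rw [SetLike.mem_coe, mem_orthogonal_iff'] at hx2
  have h1 := hx2 a (Submodule.subset_span (by simp))
  have h2' := hx2 z (Submodule.subset_span (by simp))
  have h3 := hx2 z' (Submodule.subset_span (by simp))
  rw [polar_add_right, polar_add_right, polar_smul_right, polar_smul_right,
    polar_smul_right, polar_self, haz, haz'] at h1
  rw [polar_add_right, polar_add_right, polar_smul_right, polar_smul_right,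
    polar_smul_right, polar_self, hz, polar_comm Q z a, haz, hzz'] at h2'
  rw [polar_add_right, polar_add_right, polar_smul_right, polar_smul_right,
    polar_smul_right, polar_self, hz', polar_comm Q z' a, haz', polar_comm Q z' z,
    hzz'] at h3
  simp only [smul_eq_mul, mul_zero, add_zero, zero_add, mul_one, smul_zero, nsmul_eq_mul,
    Nat.cast_ofNat] at h1 h2' h3
  have hk : k = 0 := by
    rcases mul_eq_zero.1 h1 with h | h
    · exact h
    · exact absurd h (mul_ne_zero h2 ha)
  rw [hk, h2', h3, zero_smul, zero_smul, zero_smul, add_zero, add_zero]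
  exact Submodule.zero_mem _

/-- a vector of the class of `a` spanning non-degenerate planes with both `a` and `b`, where `a`
and `b` span a degenerate plane -/
theorem exists_mid (hQ : (polarBilin Q).Nondegenerate) (h2 : (2 : F) ≠ 0)
    (h43 : ¬ (Fintype.card ι = 4 ∧ Fintype.card F = 3)) (heven : Even (Fintype.card ι))
    {a z z' b : ι → F} {β : F} (ha : Q a ≠ 0) (hβ : β ≠ 0) (hz0 : z ≠ 0) (hz : Q z = 0)
    (hz' : Q z' = 0) (hzz' : polar Q z z' = 1) (haz : polar Q a z = 0)
    (haz' : polar Q a z' = 0) (hb : b = β • a + z) :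
    ∃ d : ι → F, Q d ≠ 0 ∧ quadraticChar F (Q d) = quadraticChar F (Q a) ∧
      4 * Q a * Q d - polar Q a d ^ 2 ≠ 0 ∧ 4 * Q d * Q b - polar Q d b ^ 2 ≠ 0 := by
  have h4 : (4 : F) ≠ 0 := by
    have : (4 : F) = 2 * 2 := by norm_num
    rw [this]; exact mul_ne_zero h2 h2
  have hQb : Q b = β * β * Q a := by
    rw [hb, Q_add Q, QuadraticMap.map_smul, polar_smul_left, haz, hz, smul_eq_mul, smul_eq_mul]
    ring
  have hzz : polar Q z z = 0 := by rw [polar_self, hz, smul_zero]
  by_cases hF3 : Fintype.card F = 3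
  · -- the field with three elements: the dimension is 2 or at least 6
    have hι4 : Fintype.card ι ≠ 4 := fun h => h43 ⟨h, hF3⟩
    by_cases hι5 : 5 ≤ Fintype.card ι
    · have hX := span_triple_nondeg Q h2 ha hz hz' hzz' haz haz'
      have hdim : finrank F ↥(Submodule.span F ({a, z, z'} : Set (ι → F))) + 2
          ≤ Fintype.card ι := by
        have := finrank_span_triple_le' a z z'
        omega
      obtain ⟨y, hyX, hy⟩ := exists_orth_Q_eq Q hQ h2 _ hX hdim ha
      have hay : polar Q a y = 0 := hyX a (Submodule.subset_span (by simp))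
      have hzy : polar Q z y = 0 := hyX z (Submodule.subset_span (by simp))
      have hyb : polar Q y b = 0 := by
        rw [hb, polar_add_right, polar_smul_right, polar_comm Q y a, hay, polar_comm Q y z, hzy,
          smul_zero, add_zero]
      refine ⟨y, by rw [hy]; exact ha, by rw [hy], ?_, ?_⟩
      · rw [hay, hy]
        have : 4 * Q a * Q a - 0 ^ 2 = 4 * Q a * Q a := by ring
        rw [this]
        exact mul_ne_zero (mul_ne_zero h4 ha) ha
      · rw [hyb, hy, hQb]
        have : 4 * Q a * (β * β * Q a) - 0 ^ 2 = 4 * Q a * (β * β * Q a) := by ring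
        rw [this]
        exact mul_ne_zero (mul_ne_zero h4 ha) (mul_ne_zero (mul_ne_zero hβ hβ) ha)
    · -- dimension two: impossible
      exfalso
      have hι2 : Fintype.card ι = 2 := by
        obtain ⟨m, hm⟩ := heven
        have hpos : 0 < Fintype.card ι := by
          rw [Fintype.card_pos_iff]
          by_contra hne
          rw [not_nonempty_iff] at hne
          exact hz0 (Subsingleton.elim _ _)
        omega
      have hli : LinearIndependent F ![a, z] := by
        rw [LinearIndependent.pair_iff]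
        intro s t hst
        have h1 : polar Q a (s • a + t • z) = 0 := by rw [hst, polar_zero_right]
        rw [polar_add_right, polar_smul_right, polar_smul_right, polar_self, haz] at h1
        simp only [smul_eq_mul, nsmul_eq_mul, Nat.cast_ofNat, mul_zero, add_zero] at h1
        have hs : s = 0 := by
          rcases mul_eq_zero.1 h1 with h | h
          · exact h
          · exact absurd h (mul_ne_zero h2 ha)
        rw [hs, zero_smul, zero_add] at hst
        rcases smul_eq_zero.1 hst with h | h
        · exact ⟨hs, h⟩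
        · exact absurd h hz0
      have hfr := finrank_span_eq_card hli
      rw [Matrix.range_cons_cons_empty] at hfr
      have htop : Submodule.span F ({a, z} : Set (ι → F)) = ⊤ := by
        apply Submodule.eq_top_of_finrank_eq
        rw [hfr, Module.finrank_fintype_fun_eq_card, hι2]
        simp
      have hz'mem : z' ∈ Submodule.span F ({a, z} : Set (ι → F)) := by rw [htop]; trivial
      rw [Submodule.mem_span_pair] at hz'mem
      obtain ⟨s, t, hst⟩ := hz'mem
      rw [← hst, polar_add_right, polar_smul_right, polar_smul_right, polar_comm Q z a, haz, hzz,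
        smul_zero, smul_zero, add_zero] at hzz'
      exact zero_ne_one hzz'
  · -- more than three elements
    obtain ⟨u, hu0, hu1, hu2⟩ := exists_ne_zero_one_neg_one h2 hF3
    set p : F := 2 * β * Q a with hp
    have hp0 : p ≠ 0 := mul_ne_zero (mul_ne_zero h2 hβ) ha
    set t : F := u / p with ht
    have ht0 : t ≠ 0 := div_ne_zero hu0 hp0
    have htp : t * p = u := by rw [ht]; field_simp
    set s : F := Q a * t ^ 2 with hs
    have hs0 : s ≠ 0 := mul_ne_zero ha (pow_ne_zero 2 ht0)
    have hQd : Q (s • z + z') = s := by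
      rw [Q_add Q, QuadraticMap.map_smul, polar_smul_left, hz, hz', hzz', smul_eq_mul, smul_eq_mul]
      ring
    have had : polar Q a (s • z + z') = 0 := by
      rw [polar_add_right, polar_smul_right, haz, haz', smul_zero, add_zero]
    have hdb : polar Q (s • z + z') b = 1 := by
      rw [hb, polar_add_left, polar_add_right, polar_add_right, polar_smul_left, polar_smul_left,
        polar_smul_right, polar_smul_right, polar_comm Q z a, haz, hzz, polar_comm Q z' a, haz',
        polar_comm Q z' z, hzz']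
      simp
    refine ⟨s • z + z', by rw [hQd]; exact hs0, ?_, ?_, ?_⟩
    · rw [hQd, hs, map_mul, quadraticChar_sq_one' ht0, mul_one]
    · rw [had, hQd]
      have : 4 * Q a * s - 0 ^ 2 = 4 * Q a * s := by ring
      rw [this]
      exact mul_ne_zero (mul_ne_zero h4 ha) hs0
    · rw [hdb, hQd, hQb]
      have : 4 * s * (β * β * Q a) - 1 ^ 2 = (u - 1) * (u + 1) := by
        rw [hs, ← htp, hp]; ring
      rw [this]
      refine mul_ne_zero (sub_ne_zero.2 hu1) ?_
      intro h
      exact hu2 (eq_neg_of_add_eq_zero_left h)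

/-- the product of two reflections of the same square class lies in the group generated by the
reflections of any one class -/
theorem tG_mul_tG_mem_of_same_class (hQ : (polarBilin Q).Nondegenerate) (h2 : (2 : F) ≠ 0)
    (h43 : ¬ (Fintype.card ι = 4 ∧ Fintype.card F = 3)) (heven : Even (Fintype.card ι))
    {c : F} (hc : c ≠ 0) {a b : ι → F} (ha : Q a ≠ 0) (hb : Q b ≠ 0)
    (hab : quadraticChar F (Q a) = quadraticChar F (Q b)) :
    tG Q a * tG Q b ∈ reflClassSubgroup Q c := by
  by_cases hdisc : 4 * Q a * Q b - polar Q a b ^ 2 ≠ 0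
  · exact tG_mul_tG_mem_of_disc Q hQ h2 hc ha hb hab hdisc
  · rw [not_not] at hdisc
    have h2a : 2 * Q a ≠ 0 := mul_ne_zero h2 ha
    set p : F := polar Q a b with hp
    have hp0 : p ≠ 0 := by
      intro h0
      rw [h0] at hdisc
      have h4 : (4 : F) ≠ 0 := by
        have : (4 : F) = 2 * 2 := by norm_num
        rw [this]; exact mul_ne_zero h2 h2
      have : 4 * Q a * Q b = 0 := by linear_combination hdisc
      exact mul_ne_zero (mul_ne_zero h4 ha) hb this
    set β : F := p * (2 * Q a)⁻¹ with hβdef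
    have hβ : β * (2 * Q a) = p := by rw [hβdef]; field_simp
    have hβ0 : β ≠ 0 := mul_ne_zero hp0 (inv_ne_zero h2a)
    obtain ⟨z, hzdef⟩ : ∃ z : ι → F, z = b - β • a := ⟨_, rfl⟩
    have hbz : b = β • a + z := by rw [hzdef]; abel
    have hQz : Q z = 0 := by
      have h1 : Q z * (4 * Q a) = 0 := by
        rw [hzdef, Q_sub_smul, polar_comm Q b a, ← hp]
        linear_combination hdisc + (β * (2 * Q a) - p) * hβ
      rcases mul_eq_zero.1 h1 with h | h
      · exact h
      · exfalso
        have : (4 : F) * Q a = 2 * (2 * Q a) := by ring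
        rw [this] at h
        exact mul_ne_zero h2 h2a h
    have haz : polar Q a z = 0 := by
      rw [hzdef, polar_sub_right, polar_smul_right, polar_self, ← hp]
      simp only [smul_eq_mul, nsmul_eq_mul, Nat.cast_ofNat]
      linear_combination -hβ
    by_cases hz0 : z = 0
    · rw [hz0, add_zero] at hbz
      rw [hbz, tG_smul Q hβ0 ha, tG_mul_self Q ha]
      exact one_mem _
    · have hX₁nd := span_singleton_nondeg Q h2 ha
      have hW := orthogonal_inf_orthogonal_orthogonal Q hQ _ hX₁nd
      have hzW : z ∈ LinearMap.BilinForm.orthogonal (polarBilin Q) (Submodule.span F {a}) := by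
        rw [mem_orthogonal_iff']
        intro x hx
        rw [Submodule.mem_span_singleton] at hx
        obtain ⟨k, rfl⟩ := hx
        rw [polar_smul_left, haz, smul_zero]
      obtain ⟨z', hz'W, hQz', hzz'⟩ := exists_partner Q _ hW hzW hz0 hQz
      have haz' : polar Q a z' = 0 :=
        (mem_orthogonal_iff' Q _ z').1 hz'W a (Submodule.mem_span_singleton_self a)
      obtain ⟨d, hd0, hdχ, hd1, hd2⟩ :=
        exists_mid Q hQ h2 h43 heven ha hβ0 hz0 hQz hQz' hzz' haz haz' hbz
      have hsplit : tG Q a * tG Q b = (tG Q a * tG Q d) * (tG Q d * tG Q b) := by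
        rw [mul_assoc, ← mul_assoc (tG Q d), tG_mul_self Q hd0, one_mul]
      rw [hsplit]
      exact mul_mem (tG_mul_tG_mem_of_disc Q hQ h2 hc ha hd0 hdχ.symm hd1)
        (tG_mul_tG_mem_of_disc Q hQ h2 hc hd0 hb (hdχ.trans hab) hd2)

/-- a reflection of the other square class is not a product of reflections of the class of `c` -/
theorem tG_not_mem_reflClassSubgroup (hQ : (polarBilin Q).Nondegenerate) (h2 : (2 : F) ≠ 0)
    {c : F} (hc : c ≠ 0) {w : ι → F} (hw0 : Q w ≠ 0)
    (hw : quadraticChar F (Q w) = -quadraticChar F c) :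
    tG Q w ∉ reflClassSubgroup Q c := by
  intro hmem
  obtain ⟨vs, hvs, hk⟩ := exists_list_of_mem_reflClassSubgroup Q hc hmem
  have hex : Fintype.card F ≠ 2 ∨ Fintype.card ι ≠ 4 := Or.inl (card_ne_two_of_two_ne_zero h2)
  have h1 : ((w :: vs).map (tG Q)).prod = 1 := by
    rw [List.map_cons, List.prod_cons, ← hk, tG_mul_self Q hw0]
  have hne : ∀ v ∈ w :: vs, Q v ≠ 0 := by
    intro v hv
    rcases List.mem_cons.1 hv with rfl | h
    · exact hw0
    · exact (hvs v h).1
  obtain ⟨heven, hsq⟩ := (prod_tG_mem_Omega_iff_all Q hQ hex (w :: vs) hne).1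
    (by rw [h1]; exact one_mem _)
  have hχ : quadraticChar F ((w :: vs).map (fun v => Q v)).prod = 1 :=
    (quadraticChar_one_iff_isSquare
      (prod_Q_ne_zero Q (w :: vs) hne)).2 hsq
  rw [List.map_cons, List.prod_cons, map_mul, hw] at hχ
  have hprod := quadraticChar_prod_const Q (quadraticChar F c) vs (fun v hv => (hvs v hv).2)
  have hprod' : quadraticChar F (vs.map (fun v => Q v)).prod
      = quadraticChar F c ^ vs.length := hprod
  rw [hprod'] at hχ
  rw [List.length_cons] at heven
  obtain ⟨m, hm⟩ := heven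
  have hlen : vs.length = 2 * m - 1 := by omega
  have hm1 : 1 ≤ m := by omega
  rcases quadraticChar_dichotomy hc with h | h
  · rw [h, one_pow] at hχ
    norm_num at hχ
  · rw [h] at hχ
    have hodd : Odd vs.length := ⟨m - 1, by omega⟩
    rw [hodd.neg_one_pow] at hχ
    norm_num at hχ

/-- the reflections of one square class generate a subgroup of index two of the isometry group -/
theorem index_reflClassSubgroup (hQ : (polarBilin Q).Nondegenerate) (h2 : (2 : F) ≠ 0)
    (hn : 2 ≤ Fintype.card ι) (heven : Even (Fintype.card ι))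
    (h43 : ¬ (Fintype.card ι = 4 ∧ Fintype.card F = 3)) {c : F} (hc : c ≠ 0) :
    (reflClassSubgroup Q c).index = 2 := by
  have hnorm := reflClassSubgroup_normal Q hc
  have hex : Fintype.card F ≠ 2 ∨ Fintype.card ι ≠ 4 := Or.inl (card_ne_two_of_two_ne_zero h2)
  have hchar : ringChar F ≠ 2 := by
    intro h
    apply h2
    have := ringChar.Nat.cast_ringChar (R := F)
    rw [h] at this
    exact_mod_cast this
  obtain ⟨ns, hns⟩ := FiniteField.exists_nonsquare hchar
  have hns0 : ns ≠ 0 := by
    rintro rfl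
    exact hns ⟨0, by simp⟩
  have hcns : c * ns ≠ 0 := mul_ne_zero hc hns0
  obtain ⟨w, -, hw⟩ := exists_orth_Q_eq Q hQ h2 ⊥ (bot_inf_eq _)
    (by rw [finrank_bot]; omega) hcns
  have hw0 : Q w ≠ 0 := by rw [hw]; exact hcns
  have hwχ : quadraticChar F (Q w) = -quadraticChar F c := by
    rw [hw, map_mul, quadraticChar_neg_one_iff_not_isSquare.2 hns]
    ring
  have ha := tG_not_mem_reflClassSubgroup Q hQ h2 hc hw0 hwχ
  obtain ⟨φ, hφ⟩ : ∃ φ : ↥(Cfsg.isometryGroup F (⇑Q)) →*
      ↥(Cfsg.isometryGroup F (⇑Q)) ⧸ reflClassSubgroup Q c,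
      ∀ x, φ x = 1 ↔ x ∈ reflClassSubgroup Q c :=
    ⟨QuotientGroup.mk' _, fun x => QuotientGroup.eq_one_iff x⟩
  have hφ1 : ∀ v, Q v ≠ 0 → quadraticChar F (Q v) = quadraticChar F c → φ (tG Q v) = 1 :=
    fun v hv0 hv => (hφ _).2 (tG_mem_reflClassSubgroup Q hc hv0 hv)
  have hφaa : φ (tG Q w) * φ (tG Q w) = 1 := by rw [← map_mul, tG_mul_self Q hw0, map_one]
  have hφa : ∀ v, Q v ≠ 0 → quadraticChar F (Q v) = -quadraticChar F c →
      φ (tG Q v) = φ (tG Q w) := by
    intro v hv0 hv
    have h1 := (hφ _).2 (tG_mul_tG_mem_of_same_class Q hQ h2 h43 heven hc hw0 hv0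
      (hwχ.trans hv.symm))
    rw [map_mul] at h1
    calc φ (tG Q v) = (φ (tG Q w) * φ (tG Q w)) * φ (tG Q v) := by rw [hφaa, one_mul]
      _ = φ (tG Q w) := by rw [mul_assoc, h1, mul_one]
  have hφa1 : φ (tG Q w) ≠ 1 := fun h => ha ((hφ _).1 h)
  have hcls : ∀ v, Q v ≠ 0 → quadraticChar F (Q v) = quadraticChar F c ∨
      quadraticChar F (Q v) = -quadraticChar F c := by
    intro v hv0
    rcases quadraticChar_dichotomy hv0 with h | h <;>
      rcases quadraticChar_dichotomy hc with h' | h' <;> rw [h, h'] <;> simp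
  have hall : ∀ b, φ b = 1 ∨ φ b = φ (tG Q w) := by
    intro b
    obtain ⟨vs, hvs, rfl⟩ := exists_prod_tG Q hQ hex b
    induction vs with
    | nil => left; simp
    | cons v vs ih =>
      rw [List.map_cons, List.prod_cons, map_mul]
      have hv0 := hvs v List.mem_cons_self
      have hv := hcls v hv0
      rcases ih (fun u hu => hvs u (List.mem_cons_of_mem _ hu)) with h | h <;>
        rcases hv with hv | hv
      · left; rw [hφ1 v hv0 hv, h, one_mul]
      · right; rw [hφa v hv0 hv, h, mul_one]
      · right; rw [hφ1 v hv0 hv, h, one_mul]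
      · left; rw [hφa v hv0 hv, h, hφaa]
  rw [Subgroup.index_eq_two_iff]
  refine ⟨tG Q w, fun b => ?_⟩
  have e1 : b * tG Q w ∈ reflClassSubgroup Q c ↔ φ b = φ (tG Q w) := by
    rw [← hφ, map_mul]
    constructor
    · intro h
      calc φ b = φ b * (φ (tG Q w) * φ (tG Q w)) := by rw [hφaa, mul_one]
        _ = φ (tG Q w) := by rw [← mul_assoc, h, one_mul]
    · intro h
      rw [h, hφaa]
  have e2 : b ∈ reflClassSubgroup Q c ↔ φ b = 1 := (hφ b).symm
  rcases hall b with h | h
  · exact Or.inr ⟨e2.2 h, fun h' => hφa1 ((e1.1 h').symm.trans h)⟩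
  · exact Or.inl ⟨e1.2 h, fun h' => hφa1 (h.symm.trans (e2.1 h'))⟩

end char

end Cfsg.Agent.Helper17.Spinor
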