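import Mathlib
import Cfsg.Agent.S0762
import Cfsg.Agent.Lib.Helper17.OmegaNonMax
import Cfsg.Agent.Lib.Helper17.ReflClass

/-!
# The stabiliser of a hyperbolic plane over a field with at most three elements (helper17)

Over a field in which every non-zero element squares to one, the stabiliser in `Ω` of a
non-degenerate plane containing a singular vector stabilises the line spanned by the sum of a
hyperbolic pair of the plane; hence it is not maximal in `Ω`.
-/

set_option autoImplicit false

namespace Cfsg.Agent.Helper17.OmegaElts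
open Cfsg QuadraticMap Module Cfsg.Agent.Helper17.Spinor

section hyp_plane

variable {ι : Type} [Fintype ι] [DecidableEq ι] {F : Type*} [Field F] [Fintype F]
  (Q : QuadraticForm F (ι → F))

/-- vectors orthogonal to a hyperbolic pair: one of norm `-1` and a non-zero singular one -/
theorem exists_orth_plane_vectors (hQ : (polarBilin Q).Nondegenerate)
    (hn : 5 ≤ Fintype.card ι) (hq : ∀ α : F, α ≠ 0 → α * α = 1) {e f : ι → F}
    (hQe : Q e = 0) (hQf : Q f = 0) (hef : polar Q e f = 1) :
    ∃ a c : ι → F, polar Q e a = 0 ∧ polar Q f a = 0 ∧ Q a = -1 ∧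
      polar Q e c = 0 ∧ polar Q f c = 0 ∧ c ≠ 0 ∧ Q c = 0 := by
  have hdisc : 4 * Q e * Q f - polar Q e f ^ 2 ≠ 0 := by
    rw [hQe, hef]; simp
  obtain ⟨W, hW⟩ : ∃ W : Submodule F (ι → F), W = Submodule.span F {e, f} := ⟨_, rfl⟩
  have hWnd : W ⊓ LinearMap.BilinForm.orthogonal (polarBilin Q) W = ⊥ := by
    rw [hW]; exact span_pair_nondeg Q hdisc
  have hW2 : finrank F ↥W = 2 := by rw [hW]; exact finrank_span_pair_eq Q hdisc
  have heW : e ∈ W := by rw [hW]; exact Submodule.subset_span (by simp)
  have hfW : f ∈ W := by rw [hW]; exact Submodule.subset_span (by simp)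
  by_cases h2 : (2 : F) = 0
  · -- characteristic two
    haveI : CharP F 2 := CharTwo.of_one_ne_zero_of_two_eq_zero one_ne_zero h2
    obtain ⟨N, hN⟩ : ∃ N : Submodule F (ι → F),
        N = LinearMap.BilinForm.orthogonal (polarBilin Q) W := ⟨_, rfl⟩
    have hNnd : N ⊓ LinearMap.BilinForm.orthogonal (polarBilin Q) N = ⊥ := by
      rw [hN]; exact orthogonal_inf_orthogonal_orthogonal Q hQ W hWnd
    have hfr := LinearMap.BilinForm.finrank_orthogonal hQ W
    rw [Module.finrank_fintype_fun_eq_card, ← hN] at hfr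
    have hN3 : 3 ≤ finrank F ↥N := by omega
    obtain ⟨c', hc'0, hc'⟩ := Cfsg.Agent.S0762.result (Q.comp N.subtype) hN3
    have hN0 : N ≠ ⊥ := by
      intro h
      rw [h, finrank_bot] at hN3
      omega
    obtain ⟨a, haN, ha⟩ := exists_nonsingular_of_ne_bot Q N hNnd hN0
    have ha1 : Q a = -1 := by
      have h1 := hq (Q a) ha
      have h3 : (Q a - 1) * (Q a - 1) = 0 := by
        linear_combination h1 + (1 - Q a) * h2
      have h4 : Q a - 1 = 0 := by
        rcases mul_eq_zero.1 h3 with h | h <;> exact h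
      rw [CharTwo.neg_eq]
      exact sub_eq_zero.1 h4
    obtain ⟨c, hcN, hcc'⟩ : ∃ c : ι → F, c ∈ N ∧ c = (c' : ι → F) := ⟨_, c'.2, rfl⟩
    rw [hN, mem_orthogonal_iff'] at haN hcN
    refine ⟨a, c, haN e heW, haN f hfW, ha1, hcN e heW, hcN f hfW, ?_, ?_⟩
    · intro h
      apply hc'0
      apply Subtype.ext
      rw [← hcc', h]
      rfl
    · rw [hcc']
      exact hc'
  · obtain ⟨a, haW, ha⟩ := exists_orth_Q_eq Q hQ h2 W hWnd (by omega)
      (neg_ne_zero.2 (one_ne_zero (α := F)))
    obtain ⟨a₁, ha₁W, ha₁⟩ := exists_orth_Q_eq Q hQ h2 W hWnd (by omega) (one_ne_zero (α := F))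
    have ha₁0 : Q a₁ ≠ 0 := by rw [ha₁]; exact one_ne_zero
    have hX := span_triple_nondeg Q h2 ha₁0 hQe hQf hef
      (by rw [polar_comm]; exact ha₁W e heW) (by rw [polar_comm]; exact ha₁W f hfW)
    obtain ⟨y, hyX, hy⟩ := exists_orth_Q_eq Q hQ h2 _ hX
      (by have := finrank_span_triple_le' a₁ e f; omega) (neg_ne_zero.2 (one_ne_zero (α := F)))
    have hya : polar Q a₁ y = 0 := hyX a₁ (Submodule.subset_span (by simp))
    have hye : polar Q e y = 0 := hyX e (Submodule.subset_span (by simp))
    have hyf : polar Q f y = 0 := hyX f (Submodule.subset_span (by simp))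
    refine ⟨a, a₁ + y, haW e heW, haW f hfW, ha, ?_, ?_, ?_, ?_⟩
    · rw [polar_add_right, ha₁W e heW, hye, add_zero]
    · rw [polar_add_right, ha₁W f hfW, hyf, add_zero]
    · intro h
      have hy' : y = -a₁ := eq_neg_of_add_eq_zero_right h
      rw [hy', QuadraticMap.map_neg, ha₁] at hy
      apply h2
      linear_combination hy
    · rw [Q_add Q, ha₁, hy, hya]; ring

/-- the stabiliser in `Ω` of a non-degenerate plane containing a singular vector, over a field in
which every non-zero element squares to one, is not maximal -/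
theorem exists_between_hyp_plane (hQ : (polarBilin Q).Nondegenerate)
    (hn : 5 ≤ Fintype.card ι) (hq : ∀ α : F, α ≠ 0 → α * α = 1)
    {W : Submodule F (ι → F)} (hW2 : finrank F ↥W = 2)
    (hWnd : W ⊓ LinearMap.BilinForm.orthogonal (polarBilin Q) W = ⊥) {e : ι → F} (heW : e ∈ W)
    (he0 : e ≠ 0) (hQe : Q e = 0) :
    ∃ K : Subgroup (Matrix.GeneralLinearGroup ι F),
      Geo.subspaceStabilizer W ⊓ Geo.omegaGL (⇑Q) < K ∧ K < Geo.omegaGL (⇑Q) := by
  have hex : Fintype.card F ≠ 2 ∨ Fintype.card ι ≠ 4 := Or.inr (by omega)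
  obtain ⟨f, hfW, hQf, hef⟩ := exists_partner Q W hWnd heW he0 hQe
  have hdisc : 4 * Q e * Q f - polar Q e f ^ 2 ≠ 0 := by
    rw [hQe, hef]; simp
  have hWspan : W = Submodule.span F {e, f} := by
    symm
    apply Submodule.eq_of_le_of_finrank_eq
    · rw [Submodule.span_le]
      intro x hx
      simp only [Set.mem_insert_iff, Set.mem_singleton_iff] at hx
      rcases hx with rfl | rfl
      · exact heW
      · exact hfW
    · rw [hW2]; exact finrank_span_pair_eq Q hdisc
  obtain ⟨a, c, hea, hfa, hQa, hec, hfc, hc0, hQc⟩ :=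
    exists_orth_plane_vectors Q hQ hn hq hQe hQf hef
  have hfe : polar Q f e = 1 := by rw [polar_comm]; exact hef
  -- vectors orthogonal to `e` and `f` are orthogonal to `W`
  have horth : ∀ x : ι → F, polar Q e x = 0 → polar Q f x = 0 →
      x ∈ LinearMap.BilinForm.orthogonal (polarBilin Q) W := by
    intro x hex' hfx
    rw [mem_orthogonal_iff']
    intro w hw
    rw [hWspan, Submodule.mem_span_pair] at hw
    obtain ⟨s, t, rfl⟩ := hw
    rw [polar_add_left, polar_smul_left, polar_smul_left, hex', hfx]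
    simp
  have hWorth : ∀ x : ι → F, x ∈ W → polar Q e x = 0 → polar Q f x = 0 → x = 0 := by
    intro x hxW h1 h2
    have : x ∈ W ⊓ LinearMap.BilinForm.orthogonal (polarBilin Q) W := ⟨hxW, horth x h1 h2⟩
    rw [hWnd, Submodule.mem_bot] at this
    exact this
  obtain ⟨v, hv⟩ : ∃ v : ι → F, v = e + f := ⟨_, rfl⟩
  have hvW : v ∈ W := by rw [hv]; exact W.add_mem heW hfW
  have hQv : Q v = 1 := by rw [hv, Q_add Q, hQe, hQf, hef]; ring
  have hv0 : v ≠ 0 := by
    intro h
    rw [h, QuadraticMap.map_zero] at hQv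
    exact zero_ne_one hQv
  have hQa0 : Q a ≠ 0 := by rw [hQa]; exact neg_ne_zero.2 one_ne_zero
  refine exists_between (Geo.subspaceStabilizer W)
    (Geo.subspaceStabilizer (Submodule.span F {v})) _ ?_ ?_ ?_
  · -- the stabiliser of `W` stabilises the line of `v`
    intro g hg hgW
    obtain ⟨h, hh, rfl⟩ := (mem_omegaGL_iff Q g).1 hg
    rw [coe_mem_subspaceStabilizer_iff] at hgW ⊢
    apply map_toEnd_eq_of_le
    rw [Submodule.map_span_le]
    intro x hx
    rw [Set.mem_singleton_iff] at hx
    rw [hx]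
    have hTW : toEnd Q h v ∈ W := by
      rw [← hgW]; exact ⟨v, hvW, rfl⟩
    have hTQ : Q (toEnd Q h v) = 1 := by rw [toEnd_isometry, hQv]
    rw [hWspan, Submodule.mem_span_pair] at hTW
    obtain ⟨α, β, hαβ⟩ := hTW
    rw [← hαβ, Q_add Q, QuadraticMap.map_smul, QuadraticMap.map_smul, hQe, hQf, polar_smul_left,
      polar_smul_right, hef] at hTQ
    simp only [smul_eq_mul, mul_zero, zero_add, mul_one] at hTQ
    have hα0 : α ≠ 0 := by
      rintro rfl
      rw [zero_mul] at hTQ
      exact zero_ne_one hTQ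
    have hαα := hq α hα0
    have hβ : β = α := by
      have : α * β = α * α := by rw [hαα, hTQ]
      exact (mul_left_cancel₀ hα0 this)
    rw [Submodule.mem_span_singleton]
    refine ⟨α, ?_⟩
    rw [← hαβ, hβ, hv, smul_add]
  · -- an element fixing `v` but not stabilising `W`
    obtain ⟨b, hb⟩ : ∃ b : ι → F, b = c + (e - f) := ⟨_, rfl⟩
    have hQz : Q (e - f) = -1 := by rw [Q_sub Q, hQe, hQf, hef]; ring
    have hcz : polar Q c (e - f) = 0 := by
      rw [polar_sub_right, polar_comm Q c e, polar_comm Q c f, hec, hfc, sub_zero]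
    have hQb : Q b = Q a := by
      rw [hb, Q_add Q, hQc, hQz, hcz, hQa]; ring
    have hQb0 : Q b ≠ 0 := by rw [hQb]; exact hQa0
    have hav : polar Q a v = 0 := by
      rw [hv, polar_add_right, polar_comm Q a e, polar_comm Q a f, hea, hfa, add_zero]
    have hbv : polar Q b v = 0 := by
      rw [hb, hv]
      simp only [polar_add_left, polar_add_right, polar_sub_left, polar_self, hQe, hQf, hef, hfe,
        polar_comm Q c e, polar_comm Q c f, hec, hfc]
      simp
    have hbe : polar Q b e = -1 := by
      rw [hb]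
      simp only [polar_add_left, polar_sub_left, polar_self, hQe, hfe, polar_comm Q c e, hec]
      simp
    have hge : toEnd Q (tG Q a * tG Q b) e = f - c - polar Q a c • a := by
      rw [toEnd_tG_mul_tG Q hQa0 hQb0, refl_apply Q b e, hbe, hQb, hQa]
      have h1 : e - ((-1 : F)⁻¹ * -1) • b = f - c := by
        rw [hb]
        have : ((-1 : F)⁻¹ * -1) = 1 := by
          rw [inv_neg, inv_one]; ring
        rw [this, one_smul]; abel
      rw [h1, refl_apply Q a, hQa, polar_sub_right, polar_comm Q a f, hfa, zero_sub]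
      have : ((-1 : F)⁻¹ * -polar Q a c) = polar Q a c := by
        rw [inv_neg, inv_one]; ring
      rw [this]
    refine ⟨_, coe_mem_omegaGL Q (tG_mul_tG_mem_Omega Q hQ hex hQa0 hQb), ?_, ?_⟩
    · rw [coe_mem_subspaceStabilizer_iff]
      apply map_toEnd_eq_of_le
      rw [Submodule.map_span_le]
      intro x hx
      rw [Set.mem_singleton_iff] at hx
      rw [hx]
      rw [toEnd_tG_mul_tG Q hQa0 hQb0, refl_apply_of_polar_eq_zero Q b v hbv,
        refl_apply_of_polar_eq_zero Q a v hav]
      exact Submodule.mem_span_singleton_self v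
    · rw [coe_mem_subspaceStabilizer_iff]
      intro hmap
      have hmem : toEnd Q (tG Q a * tG Q b) e ∈ W := by
        rw [← hmap]; exact ⟨e, heW, rfl⟩
      rw [hge] at hmem
      obtain ⟨d, hd⟩ : ∃ d : ι → F, d = c + polar Q a c • a := ⟨_, rfl⟩
      have hdW : d ∈ W := by
        have : d = f - (f - c - polar Q a c • a) := by rw [hd]; abel
        rw [this]
        exact W.sub_mem hfW hmem
      have hed : polar Q e d = 0 := by
        rw [hd, polar_add_right, polar_smul_right, hec, hea]; simp
      have hfd : polar Q f d = 0 := by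
        rw [hd, polar_add_right, polar_smul_right, hfc, hfa]; simp
      have hd0 := hWorth d hdW hed hfd
      have hsum : c + polar Q a c • a = 0 := by rw [← hd]; exact hd0
      have hc' : c = -(polar Q a c • a) := eq_neg_of_add_eq_zero_left hsum
      have hQc' : Q c = polar Q a c * polar Q a c * Q a := by
        conv_lhs => rw [hc']
        rw [QuadraticMap.map_neg, QuadraticMap.map_smul, smul_eq_mul]
      rw [hQc, hQa] at hQc'
      have hp : polar Q a c = 0 := by
        have : polar Q a c * polar Q a c = 0 := by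
          linear_combination hQc'
        rcases mul_eq_zero.1 this with h | h <;> exact h
      rw [hp, zero_smul, add_zero] at hsum
      exact hc0 hsum
  · -- an element not stabilising the line of `v`
    have hae : polar Q a e = 0 := by rw [polar_comm]; exact hea
    have hQae : Q (a + e) = Q a := Q_add_singular Q hQe hae
    have hQae0 : Q (a + e) ≠ 0 := by rw [hQae]; exact hQa0
    refine ⟨_, coe_mem_omegaGL Q (tG_mul_tG_mem_Omega Q hQ hex hQa0 hQae), ?_⟩
    rw [coe_mem_subspaceStabilizer_iff]
    intro hmap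
    have hmem : toEnd Q (tG Q a * tG Q (a + e)) v ∈ Submodule.span F {v} := by
      rw [← hmap]; exact ⟨v, Submodule.mem_span_singleton_self v, rfl⟩
    have hev : polar Q e v = 1 := by
      rw [hv, polar_add_right, polar_self, hQe, hef]; simp
    have hav : polar Q a v = 0 := by
      rw [hv, polar_add_right, polar_comm Q a e, polar_comm Q a f, hea, hfa, add_zero]
    rw [toEnd_tG_mul_tG Q hQa0 hQae0, refl_refl_add_apply Q hQa0 hQe hae, hev, hav, hQa,
      Submodule.mem_span_singleton] at hmem
    obtain ⟨μ, hμ⟩ := hmem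
    have hk : ((-1 : F)⁻¹ * 1) = -1 := by rw [inv_neg, inv_one]; ring
    have hk' : ((-1 : F)⁻¹ * (0 + 1)) = -1 := by rw [inv_neg, inv_one]; ring
    rw [hk, hk'] at hμ
    -- `a = (1 - μ) • v + e ∈ W`
    have haW : a ∈ W := by
      have : a = (1 - μ) • v + e := by
        have h1 : μ • v = v + (-1 : F) • a - (-1 : F) • e := hμ
        rw [sub_smul, one_smul, h1]
        module
      rw [this]
      exact W.add_mem (W.smul_mem _ hvW) heW
    have ha0 := hWorth a haW hea hfa
    rw [ha0, QuadraticMap.map_zero] at hQa0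
    exact hQa0 rfl

end hyp_plane

end Cfsg.Agent.Helper17.OmegaElts
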