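import Mathlib
import Cfsg.Agent.Lib.Helper28.BGS2
import Cfsg.Agent.Lib.Helper28.BGU3

/-!
# Self-adjoint field subalgebras for a symmetric form: the symmetric form over the field
(helper17)
-/

set_option autoImplicit false
set_option linter.style.haveILetI false
set_option linter.unusedSectionVars false

namespace Cfsg.Agent.Helper17.OrthC3

open Matrix Module Cfsg.Agent.Helper28.BGS

section formL

variable {F : Type*} [Field F] {ι : Type} [Fintype ι] [DecidableEq ι]
variable {K : Subalgebra F (Matrix ι ι F)}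

/-- the hypotheses on the form: the subalgebra is self-adjoint, the form is symmetric and
non-degenerate -/
structure SymForm (K : Subalgebra F (Matrix ι ι F)) (B : LinearMap.BilinForm F (ι → F)) :
    Prop where
  sa : ∀ a ∈ K, ∀ u v, B (a *ᵥ u) v = B u (a *ᵥ v)
  symm : ∀ u v, B u v = B v u
  nd : ∀ u, (∀ v, B u v = 0) → u = 0

variable [IsFld K]

/-- the symmetric form over the field -/
noncomputable def BLs {B : LinearMap.BilinForm F (ι → F)} (h : SymForm K B) (φ : ↥K →ₗ[F] F)
    (hφ : φ ≠ 0) : LinearMap.BilinForm ↥K (ι → F) :=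
  LinearMap.mk₂ ↥K (BLfun B φ hφ)
    (by
      intro u u' v
      symm
      apply BLfun_unique
      intro a
      rw [mul_add, map_add, BLfun_spec, BLfun_spec, smul_add, map_add, LinearMap.add_apply])
    (by
      intro b u v
      symm
      apply BLfun_unique
      intro a
      rw [smul_eq_mul, ← mul_assoc, BLfun_spec, mul_smul])
    (by
      intro u v v'
      symm
      apply BLfun_unique
      intro a
      rw [mul_add, map_add, BLfun_spec, BLfun_spec, map_add])
    (by
      intro b u v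
      symm
      apply BLfun_unique
      intro a
      rw [smul_eq_mul, ← mul_assoc, BLfun_spec, mul_comm a b, mul_smul, fld_smul_def b,
        h.sa b b.2]
      rfl)

theorem BLs_apply {B : LinearMap.BilinForm F (ι → F)} (h : SymForm K B) (φ : ↥K →ₗ[F] F)
    (hφ : φ ≠ 0) (u v : ι → F) : BLs h φ hφ u v = BLfun B φ hφ u v := rfl

theorem phi_mul_BLs {B : LinearMap.BilinForm F (ι → F)} (h : SymForm K B) (φ : ↥K →ₗ[F] F)
    (hφ : φ ≠ 0) (u v : ι → F) (a : ↥K) : φ (a * BLs h φ hφ u v) = B (a • u) v := by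
  rw [BLs_apply, BLfun_spec]

theorem phi_BLs {B : LinearMap.BilinForm F (ι → F)} (h : SymForm K B) (φ : ↥K →ₗ[F] F)
    (hφ : φ ≠ 0) (u v : ι → F) : φ (BLs h φ hφ u v) = B u v := by
  have := phi_mul_BLs h φ hφ u v 1
  rwa [one_mul, one_smul] at this

theorem BLs_unique {B : LinearMap.BilinForm F (ι → F)} (h : SymForm K B) (φ : ↥K →ₗ[F] F)
    (hφ : φ ≠ 0) (u v : ι → F) (y : ↥K) (hy : ∀ a : ↥K, φ (a * y) = B (a • u) v) :
    y = BLs h φ hφ u v := by
  rw [BLs_apply]
  exact BLfun_unique B φ hφ u v y hy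

theorem BLs_symm {B : LinearMap.BilinForm F (ι → F)} (h : SymForm K B) (φ : ↥K →ₗ[F] F)
    (hφ : φ ≠ 0) (u v : ι → F) : BLs h φ hφ u v = BLs h φ hφ v u := by
  apply BLs_unique
  intro a
  rw [phi_mul_BLs, fld_smul_def, fld_smul_def, h.sa a a.2, h.symm]

theorem BLs_nd {B : LinearMap.BilinForm F (ι → F)} (h : SymForm K B) (φ : ↥K →ₗ[F] F)
    (hφ : φ ≠ 0) (u : ι → F) (hu : ∀ v, BLs h φ hφ u v = 0) : u = 0 := by
  apply h.nd
  intro v
  rw [← phi_BLs h φ hφ, hu, map_zero]

theorem BLs_nondegenerate {B : LinearMap.BilinForm F (ι → F)} (h : SymForm K B)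
    (φ : ↥K →ₗ[F] F) (hφ : φ ≠ 0) : (BLs h φ hφ).Nondegenerate := by
  refine ⟨BLs_nd h φ hφ, ?_⟩
  intro v hv
  apply BLs_nd h φ hφ
  intro u
  rw [BLs_symm, hv]

/-- maps commuting with the field and preserving the form preserve the form over the field -/
theorem BLs_map {B : LinearMap.BilinForm F (ι → F)} (h : SymForm K B) (φ : ↥K →ₗ[F] F)
    (hφ : φ ≠ 0) (y : (ι → F) →ₗ[F] (ι → F)) (hyB : ∀ u v, B (y u) (y v) = B u v)
    (hyK : ∀ (a : ↥K) (u : ι → F), y (a • u) = a • y u) (u v : ι → F) :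
    BLs h φ hφ (y u) (y v) = BLs h φ hφ u v := by
  symm
  apply BLs_unique
  intro a
  rw [phi_mul_BLs, ← hyK, hyB]

end formL

end Cfsg.Agent.Helper17.OrthC3
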