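import Mathlib
import Cfsg.Agent.Lib.Helper17.OrthC3A
import Cfsg.Agent.Lib.Helper28.BGS12

/-!
# The quadratic field subalgebra generated by a square root of a non-square (helper17)
-/

set_option autoImplicit false
set_option linter.style.haveILetI false
set_option linter.unusedSectionVars false

namespace Cfsg.Agent.Helper17.OrthC3

open Matrix Module Cfsg.Agent.Helper28.BGS Cfsg.Agent.Helper28.BGU

section alg

variable {F : Type*} [Field F] {ι : Type} [Fintype ι] [DecidableEq ι]

theorem pair_mul_pair (α : Matrix ι ι F) (δ : F) (hα : α * α = δ • (1 : Matrix ι ι F))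
    (a b a' b' : F) :
    (a • (1 : Matrix ι ι F) + b • α) * (a' • (1 : Matrix ι ι F) + b' • α) =
      (a * a' + b * b' * δ) • (1 : Matrix ι ι F) + (a * b' + b * a') • α := by
  rw [add_mul, mul_add, mul_add, smul_mul_assoc, mul_smul_comm, smul_mul_assoc, mul_smul_comm,
    smul_mul_assoc, mul_smul_comm, smul_mul_assoc, mul_smul_comm, one_mul, mul_one, one_mul, hα]
  module

/-- the subalgebra `F + F α` for `α ^ 2 = δ` -/
def rootAlg (α : Matrix ι ι F) (δ : F) (hα : α * α = δ • (1 : Matrix ι ι F)) :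
    Subalgebra F (Matrix ι ι F) where
  carrier := {k | ∃ a b : F, k = a • (1 : Matrix ι ι F) + b • α}
  mul_mem' := by
    rintro _ _ ⟨a, b, rfl⟩ ⟨a', b', rfl⟩
    exact ⟨a * a' + b * b' * δ, a * b' + b * a', pair_mul_pair α δ hα a b a' b'⟩
  add_mem' := by
    rintro _ _ ⟨a, b, rfl⟩ ⟨a', b', rfl⟩
    refine ⟨a + a', b + b', ?_⟩
    rw [add_smul, add_smul]
    abel
  algebraMap_mem' r := ⟨r, 0, by rw [zero_smul, add_zero, Algebra.algebraMap_eq_smul_one]⟩

theorem mem_rootAlg {α : Matrix ι ι F} {δ : F} (hα : α * α = δ • (1 : Matrix ι ι F))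
    (k : Matrix ι ι F) : k ∈ rootAlg α δ hα ↔ ∃ a b : F, k = a • (1 : Matrix ι ι F) + b • α :=
  Iff.rfl

theorem self_mem_rootAlg {α : Matrix ι ι F} {δ : F} (hα : α * α = δ • (1 : Matrix ι ι F)) :
    α ∈ rootAlg α δ hα := ⟨0, 1, by rw [zero_smul, zero_add, one_smul]⟩

variable [Nonempty ι]

theorem one_ne_zero_mat : (1 : Matrix ι ι F) ≠ 0 := by
  intro h
  obtain ⟨i⟩ := ‹Nonempty ι›
  have := congrFun (congrFun h i) i
  rw [Matrix.one_apply_eq, Matrix.zero_apply] at this
  exact one_ne_zero this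

theorem root_not_scalar {α : Matrix ι ι F} {δ : F} (hα : α * α = δ • (1 : Matrix ι ι F))
    (hδ : ¬ IsSquare δ) (t : F) : α ≠ t • (1 : Matrix ι ι F) := by
  intro h
  apply hδ
  refine ⟨t, ?_⟩
  have h1 : (t * t) • (1 : Matrix ι ι F) = δ • (1 : Matrix ι ι F) := by
    rw [← hα, h, smul_mul_assoc, mul_smul_comm, one_mul, smul_smul]
  have h3 : (t * t - δ) • (1 : Matrix ι ι F) = 0 := by rw [sub_smul, h1, sub_self]
  rcases smul_eq_zero.1 h3 with h4 | h4
  · exact (sub_eq_zero.1 h4).symm
  · exact absurd h4 one_ne_zero_mat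

/-- the generator data of the root algebra -/
theorem isQuadGen_rootAlg {α : Matrix ι ι F} {δ : F} (hα : α * α = δ • (1 : Matrix ι ι F))
    (hδ : ¬ IsSquare δ) : IsQuadGen (rootAlg α δ hα) δ α :=
  ⟨self_mem_rootAlg hα, hα, root_not_scalar hα hδ, fun _ hk => hk, hδ, one_ne_zero_mat⟩

/-- a subalgebra with generator data is the root algebra -/
theorem eq_rootAlg {K : Subalgebra F (Matrix ι ι F)} {α : Matrix ι ι F} {δ : F}
    (h : IsQuadGen K δ α) : K = rootAlg α δ h.sq := by
  ext k
  constructor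
  · intro hk
    exact h.gen k hk
  · rintro ⟨a, b, rfl⟩
    exact K.add_mem (K.smul_mem K.one_mem a) (K.smul_mem h.mem b)

end alg

section quadgen

variable {F : Type*} [Field F] {ι : Type} [Fintype ι] [DecidableEq ι]
variable {K : Subalgebra F (Matrix ι ι F)} {δ : F} {α : Matrix ι ι F}

/-- the norm form is anisotropic -/
theorem norm_ne_zero (hδ : ¬ IsSquare δ) {a b : F} (hab : a ≠ 0 ∨ b ≠ 0) :
    a * a - δ * (b * b) ≠ 0 := by
  intro h
  by_cases hb : b = 0
  · subst hb
    rcases hab with ha | hb'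
    · apply ha
      have : a * a = 0 := by linear_combination h
      exact mul_self_eq_zero.1 this
    · exact hb' rfl
  · apply hδ
    refine ⟨a / b, ?_⟩
    field_simp
    linear_combination -h

/-- a subalgebra with generator data is a field subalgebra of degree two -/
theorem isFieldSubalgebra_of_quadGen (h : IsQuadGen K δ α) : Cfsg.Geo.IsFieldSubalgebra 2 K := by
  refine ⟨?_, ?_, ?_⟩
  · intro x hx y hy
    obtain ⟨a, b, rfl⟩ := h.gen x hx
    obtain ⟨a', b', rfl⟩ := h.gen y hy
    rw [pair_mul_pair α δ h.sq, pair_mul_pair α δ h.sq]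
    congr 2 <;> ring
  · intro x hx hx0
    obtain ⟨a, b, rfl⟩ := h.gen x hx
    have hab : a ≠ 0 ∨ b ≠ 0 := by
      by_contra hcon
      push Not at hcon
      apply hx0
      rw [hcon.1, hcon.2, zero_smul, zero_smul, add_zero]
    have hn := norm_ne_zero h.nonsq hab
    set n := a * a - δ * (b * b) with hnd
    refine ⟨(a / n) • (1 : Matrix ι ι F) + (-(b / n)) • α,
      K.add_mem (K.smul_mem K.one_mem _) (K.smul_mem h.mem _), ?_⟩
    rw [pair_mul_pair α δ h.sq]
    have e1 : a * (a / n) + b * -(b / n) * δ = 1 := by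
      field_simp
      rw [hnd]; ring
    have e2 : a * -(b / n) + b * (a / n) = 0 := by
      field_simp
      ring
    rw [e1, e2, one_smul, zero_smul, add_zero]
  · -- dimension two
    have hli : LinearIndependent F ![(⟨1, K.one_mem⟩ : ↥K), ⟨α, h.mem⟩] := by
      rw [LinearIndependent.pair_iff]
      intro s t hst
      have h1 : s • (1 : Matrix ι ι F) + t • α = 0 := by
        have := congrArg Subtype.val hst
        simpa using this
      exact h.li s t h1
    have hsp : ⊤ ≤ Submodule.span F (Set.range ![(⟨1, K.one_mem⟩ : ↥K), ⟨α, h.mem⟩]) := by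
      rintro ⟨k, hk⟩ -
      obtain ⟨a, b, rfl⟩ := h.gen k hk
      have : (⟨a • (1 : Matrix ι ι F) + b • α, hk⟩ : ↥K) =
          a • (⟨1, K.one_mem⟩ : ↥K) + b • (⟨α, h.mem⟩ : ↥K) := by
        apply Subtype.ext
        simp
      rw [this]
      apply Submodule.add_mem
      · exact Submodule.smul_mem _ _ (Submodule.subset_span ⟨0, rfl⟩)
      · exact Submodule.smul_mem _ _ (Submodule.subset_span ⟨1, rfl⟩)
    have hb := Module.Basis.mk hli hsp
    rw [Module.finrank_eq_card_basis hb, Fintype.card_fin]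

/-- the basis `1, α` of the field over the ground field -/
noncomputable def qgBasis (h : IsQuadGen K δ α) : Module.Basis (Fin 2) F ↥K :=
  Module.Basis.mk (v := ![(⟨1, K.one_mem⟩ : ↥K), ⟨α, h.mem⟩])
    (by
      rw [LinearIndependent.pair_iff]
      intro s t hst
      have h1 : s • (1 : Matrix ι ι F) + t • α = 0 := by
        have := congrArg Subtype.val hst
        simpa using this
      exact h.li s t h1)
    (by
      rintro ⟨k, hk⟩ -
      obtain ⟨a, b, rfl⟩ := h.gen k hk
      have : (⟨a • (1 : Matrix ι ι F) + b • α, hk⟩ : ↥K) =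
          a • (⟨1, K.one_mem⟩ : ↥K) + b • (⟨α, h.mem⟩ : ↥K) := by
        apply Subtype.ext
        simp
      rw [this]
      apply Submodule.add_mem
      · exact Submodule.smul_mem _ _ (Submodule.subset_span ⟨0, rfl⟩)
      · exact Submodule.smul_mem _ _ (Submodule.subset_span ⟨1, rfl⟩))

theorem qgBasis_zero (h : IsQuadGen K δ α) : qgBasis h 0 = ⟨1, K.one_mem⟩ := by
  unfold qgBasis
  rw [Module.Basis.mk_apply]
  rfl

theorem qgBasis_one (h : IsQuadGen K δ α) : qgBasis h 1 = ⟨α, h.mem⟩ := by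
  unfold qgBasis
  rw [Module.Basis.mk_apply]
  rfl

/-- the coordinate functional of `1` -/
noncomputable def qgPhi (h : IsQuadGen K δ α) : ↥K →ₗ[F] F := (qgBasis h).coord 0

theorem qgPhi_apply (h : IsQuadGen K δ α) (a b : F) (k : ↥K)
    (hk : (k : Matrix ι ι F) = a • (1 : Matrix ι ι F) + b • α) : qgPhi h k = a := by
  have hk' : k = a • qgBasis h 0 + b • qgBasis h 1 := by
    apply Subtype.ext
    rw [qgBasis_zero, qgBasis_one, hk]
    simp
  unfold qgPhi
  rw [hk', map_add, map_smul, map_smul, Module.Basis.coord_apply, Module.Basis.coord_apply,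
    Module.Basis.repr_self, Module.Basis.repr_self]
  simp

theorem qgPhi_ne_zero (h : IsQuadGen K δ α) : qgPhi h ≠ 0 := by
  intro h0
  have h1 := qgPhi_apply h 1 0 ⟨1, K.one_mem⟩ (by simp)
  rw [h0] at h1
  exact zero_ne_one h1

end quadgen

end Cfsg.Agent.Helper17.OrthC3
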