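import Mathlib
import Cfsg.Agent.Lib.Helper17.OrthC3B
import Cfsg.Agent.Lib.Helper13.QuadFinite

/-!
# Normal bases over the quadratic field and the Gram matrix over the ground field (helper17)
-/

set_option autoImplicit false
set_option linter.style.haveILetI false
set_option linter.unusedSectionVars false

namespace Cfsg.Agent.Helper17.OrthC3

open Matrix Module QuadraticMap Cfsg.Agent.Helper28.BGS Cfsg.Agent.Helper28.BGU

section qk

variable {F : Type*} [Field F] {ι : Type} [Fintype ι] [DecidableEq ι]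
variable {K : Subalgebra F (Matrix ι ι F)} [IsFld K]
variable {B : LinearMap.BilinForm F (ι → F)}

/-- the quadratic form over the field -/
noncomputable def QK (hS : SymForm K B) (φ : ↥K →ₗ[F] F) (hφ : φ ≠ 0) :
    QuadraticForm ↥K (ι → F) :=
  LinearMap.BilinMap.toQuadraticMap (BLs hS φ hφ)

theorem QK_apply (hS : SymForm K B) (φ : ↥K →ₗ[F] F) (hφ : φ ≠ 0) (v : ι → F) :
    QK hS φ hφ v = BLs hS φ hφ v v := rfl

theorem polar_QK (hS : SymForm K B) (φ : ↥K →ₗ[F] F) (hφ : φ ≠ 0) (u v : ι → F) :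
    polar (QK hS φ hφ) u v = 2 * BLs hS φ hφ u v := by
  unfold QK
  rw [LinearMap.BilinMap.polar_toQuadraticMap, BLs_symm hS φ hφ v u, two_mul]

theorem two_ne_zero_fld (h2 : (2 : F) ≠ 0) : (2 : ↥K) ≠ 0 := by
  intro h
  apply h2
  have h1 : algebraMap F ↥K 2 = 0 := by rw [map_ofNat]; exact h
  exact (map_eq_zero_iff _ (algebraMap F ↥K).injective).1 h1

theorem QK_nondeg (h2 : (2 : F) ≠ 0) (hS : SymForm K B) (φ : ↥K →ₗ[F] F) (hφ : φ ≠ 0) :
    (polarBilin (QK hS φ hφ)).Nondegenerate := by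
  have h2K := two_ne_zero_fld (K := K) h2
  refine ⟨?_, ?_⟩
  · intro u hu
    apply BLs_nd hS φ hφ
    intro v
    have := hu v
    rw [polarBilin_apply_apply, polar_QK] at this
    exact (mul_eq_zero.1 this).resolve_left h2K
  · intro v hv
    apply BLs_nd hS φ hφ
    intro u
    have := hv u
    rw [polarBilin_apply_apply, polar_QK, BLs_symm] at this
    exact (mul_eq_zero.1 this).resolve_left h2K

end qk

section norm

variable {F : Type*} [Field F] {ι : Type} [Fintype ι] [DecidableEq ι]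
variable {K : Subalgebra F (Matrix ι ι F)} [IsFld K] {δ : F} {α : Matrix ι ι F}

/-- an element whose norm is not a square is not a square -/
theorem not_isSquare_pair (h : IsQuadGen K δ α) (s₀ t₀ : F)
    (hν : ¬ IsSquare (s₀ * s₀ - δ * (t₀ * t₀))) (c₀ : ↥K)
    (hc₀ : (c₀ : Matrix ι ι F) = s₀ • (1 : Matrix ι ι F) + t₀ • α) : ¬ IsSquare c₀ := by
  rintro ⟨z, hz⟩
  apply hν
  obtain ⟨x, y, hxy⟩ := h.gen z z.2
  have h1 : (c₀ : Matrix ι ι F) = (z : Matrix ι ι F) * (z : Matrix ι ι F) := by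
    rw [hz]; rfl
  rw [hc₀, hxy, pair_mul_pair α δ h.sq] at h1
  have h3 : (s₀ - (x * x + y * y * δ)) • (1 : Matrix ι ι F) + (t₀ - (x * y + y * x)) • α = 0 := by
    rw [sub_smul, sub_smul]
    have : s₀ • (1 : Matrix ι ι F) - (x * x + y * y * δ) • (1 : Matrix ι ι F) +
        (t₀ • α - (x * y + y * x) • α) = (s₀ • (1 : Matrix ι ι F) + t₀ • α) -
          ((x * x + y * y * δ) • (1 : Matrix ι ι F) + (x * y + y * x) • α) := by abel
    rw [this, h1, sub_self]
  obtain ⟨h4, h5⟩ := h.li _ _ h3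
  refine ⟨x * x - δ * (y * y), ?_⟩
  have e1 : s₀ = x * x + y * y * δ := sub_eq_zero.1 h4
  have e2 : t₀ = x * y + y * x := sub_eq_zero.1 h5
  rw [e1, e2]
  ring

end norm

section gramblock

variable {F : Type*} [Field F]

/-- the Gram block of a vector with value `s + t α` -/
def gblock (δ s t : F) : Matrix (Fin 2) (Fin 2) F := !![s, t * δ; t * δ, δ * s]

theorem det_gblock (δ s t : F) : (gblock δ s t).det = δ * (s * s - δ * (t * t)) := by
  unfold gblock
  rw [Matrix.det_fin_two_of]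
  ring

end gramblock

section phi

variable {F : Type*} [Field F] {ι : Type} [Fintype ι] [DecidableEq ι]
variable {K : Subalgebra F (Matrix ι ι F)} [IsFld K] {δ : F} {α : Matrix ι ι F}

/-- the values of the coordinate functional on products with the basis -/
theorem qgPhi_basis_mul (h : IsQuadGen K δ α) (c : ↥K) (s t : F)
    (hc : (c : Matrix ι ι F) = s • (1 : Matrix ι ι F) + t • α) (i i' : Fin 2) :
    qgPhi h (qgBasis h i * (qgBasis h i' * c)) = gblock δ s t i i' := by
  have hα1 : α = (0 : F) • (1 : Matrix ι ι F) + (1 : F) • α := by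
    rw [zero_smul, zero_add, one_smul]
  have h1 : (1 : Matrix ι ι F) = (1 : F) • (1 : Matrix ι ι F) + (0 : F) • α := by
    rw [zero_smul, add_zero, one_smul]
  have hαc : α * (c : Matrix ι ι F) = (t * δ) • (1 : Matrix ι ι F) + s • α := by
    rw [hc]
    nth_rewrite 1 [hα1]
    rw [pair_mul_pair α δ h.sq]
    congr 1
    · congr 1; ring
    · congr 1; ring
  have hααc : α * (α * (c : Matrix ι ι F)) = (δ * s) • (1 : Matrix ι ι F) + (t * δ) • α := by
    rw [hαc]
    nth_rewrite 1 [hα1]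
    rw [pair_mul_pair α δ h.sq]
    congr 1
    · congr 1; ring
    · congr 1; ring
  fin_cases i <;> fin_cases i'
  · apply qgPhi_apply h s t
    show ((qgBasis h 0 : ↥K) : Matrix ι ι F) * (((qgBasis h 0 : ↥K) : Matrix ι ι F) * c) = _
    rw [qgBasis_zero, one_mul, one_mul, hc]
  · apply qgPhi_apply h (t * δ) s
    show ((qgBasis h 0 : ↥K) : Matrix ι ι F) * (((qgBasis h 1 : ↥K) : Matrix ι ι F) * c) = _
    rw [qgBasis_zero, qgBasis_one, one_mul, hαc]
  · apply qgPhi_apply h (t * δ) s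
    show ((qgBasis h 1 : ↥K) : Matrix ι ι F) * (((qgBasis h 0 : ↥K) : Matrix ι ι F) * c) = _
    rw [qgBasis_zero, qgBasis_one, one_mul, hαc]
  · apply qgPhi_apply h (δ * s) (t * δ)
    show ((qgBasis h 1 : ↥K) : Matrix ι ι F) * (((qgBasis h 1 : ↥K) : Matrix ι ι F) * c) = _
    rw [qgBasis_one, hααc]

variable {B : LinearMap.BilinForm F (ι → F)}

/-- the form on multiples -/
theorem B_smul_smul (hS : SymForm K B) (φ : ↥K →ₗ[F] F) (hφ : φ ≠ 0) (k k' : ↥K)
    (u v : ι → F) : B (k • u) (k' • v) = φ (k * (k' * BLs hS φ hφ u v)) := by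
  rw [← phi_mul_BLs hS φ hφ u (k' • v) k, map_smul, smul_eq_mul]

end phi

end Cfsg.Agent.Helper17.OrthC3
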