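import Mathlib
import Cfsg.Agent.Lib.Helper17.OrthC3C

/-!
# Standard bases for a self-adjoint root and the Gram matrix (helper17)
-/

set_option autoImplicit false
set_option linter.style.haveILetI false
set_option linter.unusedSectionVars false
set_option maxHeartbeats 800000

namespace Cfsg.Agent.Helper17.OrthC3

open Matrix Module QuadraticMap Cfsg.Agent.Helper28.BGS Cfsg.Agent.Helper28.BGU

section std

variable {F : Type*} [Field F] [Fintype F] {ι : Type} [Fintype ι] [DecidableEq ι]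
variable {K : Subalgebra F (Matrix ι ι F)} [IsFld K] {δ : F} {α : Matrix ι ι F}
variable {B : LinearMap.BilinForm F (ι → F)}

/-- rescaling a basis -/
theorem exists_rescale (hS : SymForm K B) (φ : ↥K →ₗ[F] F) (hφ : φ ≠ 0) (m : ℕ)
    (b₀ : Basis (Fin (m + 1)) ↥K (ι → F))
    (horth : ∀ i j, i ≠ j → BLs hS φ hφ (b₀ i) (b₀ j) = 0)
    (hone : ∀ i : Fin (m + 1), (i : ℕ) + 1 < m + 1 → BLs hS φ hφ (b₀ i) (b₀ i) = 1)
    (e : ↥K) (he : e ≠ 0) :
    ∃ b : Basis (Fin (m + 1)) ↥K (ι → F),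
      (∀ i j, i ≠ j → BLs hS φ hφ (b i) (b j) = 0) ∧
      (∀ i : Fin (m + 1), (i : ℕ) + 1 < m + 1 → BLs hS φ hφ (b i) (b i) = 1) ∧
      BLs hS φ hφ (b (Fin.last m)) (b (Fin.last m)) =
        e * e * BLs hS φ hφ (b₀ (Fin.last m)) (b₀ (Fin.last m)) := by
  classical
  set w : Fin (m + 1) → ↥K := fun i => if i = Fin.last m then e else 1 with hw
  have hwu : ∀ i, IsUnit (w i) := by
    intro i
    rw [hw]
    by_cases hi : i = Fin.last m
    · simp only [if_pos hi]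
      exact isUnit_iff_ne_zero.2 he
    · simp only [if_neg hi]
      exact isUnit_one
  refine ⟨b₀.isUnitSMul hwu, ?_, ?_, ?_⟩
  · intro i j hij
    rw [Basis.isUnitSMul_apply, Basis.isUnitSMul_apply, map_smul, LinearMap.map_smul₂,
      horth i j hij, smul_zero, smul_zero]
  · intro i hi
    have hil : i ≠ Fin.last m := by
      intro h
      rw [h, Fin.val_last] at hi
      omega
    rw [Basis.isUnitSMul_apply]
    have : w i = 1 := by rw [hw]; simp only [if_neg hil]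
    rw [this, one_smul, hone i hi]
  · rw [Basis.isUnitSMul_apply]
    have : w (Fin.last m) = e := by rw [hw]; simp
    rw [this, map_smul, LinearMap.map_smul₂, smul_eq_mul, smul_eq_mul, mul_assoc]

/-- a standard basis over the field -/
theorem exists_std_basis (h2 : (2 : F) ≠ 0) (h : IsQuadGen K δ α) (hS : SymForm K B)
    (s₀ t₀ : F) (hν : ¬ IsSquare (s₀ * s₀ - δ * (t₀ * t₀))) (m : ℕ)
    (hfin : finrank ↥K (ι → F) = m + 1) :
    ∃ (b : Basis (Fin (m + 1)) ↥K (ι → F)) (s t : F),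
      ((s = 1 ∧ t = 0) ∨ (s = s₀ ∧ t = t₀)) ∧
      (∀ i j, i ≠ j → BLs hS (qgPhi h) (qgPhi_ne_zero h) (b i) (b j) = 0) ∧
      (∀ i : Fin (m + 1), (i : ℕ) + 1 < m + 1 →
        BLs hS (qgPhi h) (qgPhi_ne_zero h) (b i) (b i) = 1) ∧
      ((BLs hS (qgPhi h) (qgPhi_ne_zero h) (b (Fin.last m)) (b (Fin.last m)) : ↥K) :
        Matrix ι ι F) = s • (1 : Matrix ι ι F) + t • α := by
  classical
  haveI : Fintype ↥K := Fintype.ofFinite ↥K
  haveI : FiniteDimensional ↥K (ι → F) := FiniteDimensional.right F ↥K (ι → F)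
  set φ := qgPhi h with hφd
  have hφ : φ ≠ 0 := qgPhi_ne_zero h
  have h2K : (2 : ↥K) ≠ 0 := two_ne_zero_fld (K := K) h2
  obtain ⟨b₀, horth₀, hone₀⟩ := Cfsg.Agent.Helper13.exists_normal_basis h2K (m + 1) (ι → F)
    (QK hS φ hφ) (QK_nondeg h2 hS φ hφ) hfin
  have horth : ∀ i j, i ≠ j → BLs hS φ hφ (b₀ i) (b₀ j) = 0 := by
    intro i j hij
    have := horth₀ i j hij
    rw [polar_QK] at this
    exact (mul_eq_zero.1 this).resolve_left h2K
  have hone : ∀ i : Fin (m + 1), (i : ℕ) + 1 < m + 1 → BLs hS φ hφ (b₀ i) (b₀ i) = 1 := by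
    intro i hi
    have := hone₀ i hi
    rwa [QK_apply] at this
  set c := BLs hS φ hφ (b₀ (Fin.last m)) (b₀ (Fin.last m)) with hc
  have hc0 : c ≠ 0 := by
    intro h0
    apply b₀.ne_zero (Fin.last m)
    apply BLs_nd hS φ hφ
    intro v
    have hz : BLs hS φ hφ (b₀ (Fin.last m)) = 0 := by
      apply b₀.ext
      intro j
      rw [LinearMap.zero_apply]
      by_cases hj : Fin.last m = j
      · rw [← hj]
        exact h0
      · exact horth _ _ hj
    rw [hz, LinearMap.zero_apply]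
  have hoddK : Odd (Fintype.card ↥K) :=
    Nat.odd_iff.2 (Cfsg.Agent.Helper13.card_odd_of_two_ne_zero h2K)
  by_cases hsq : IsSquare c
  · obtain ⟨z, hz⟩ := hsq
    have hz0 : z ≠ 0 := by
      rintro rfl
      rw [mul_zero] at hz
      exact hc0 hz
    obtain ⟨b, hb1, hb2, hb3⟩ := exists_rescale hS φ hφ m b₀ horth hone z⁻¹ (inv_ne_zero hz0)
    refine ⟨b, 1, 0, Or.inl ⟨rfl, rfl⟩, hb1, hb2, ?_⟩
    rw [hb3, ← hc, hz, one_smul, zero_smul, add_zero]
    have : z⁻¹ * z⁻¹ * (z * z) = 1 := by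
      field_simp
    rw [this]
    rfl
  · set c₀ : ↥K := ⟨s₀ • (1 : Matrix ι ι F) + t₀ • α,
      K.add_mem (K.smul_mem K.one_mem s₀) (K.smul_mem h.mem t₀)⟩ with hc₀
    have hc₀ns : ¬ IsSquare c₀ := not_isSquare_pair h s₀ t₀ hν c₀ rfl
    obtain ⟨e, he0, he⟩ := exists_sq_mul_of_not_isSquare hoddK hsq hc₀ns
    obtain ⟨b, hb1, hb2, hb3⟩ := exists_rescale hS φ hφ m b₀ horth hone e⁻¹ (inv_ne_zero he0)
    refine ⟨b, s₀, t₀, Or.inr ⟨rfl, rfl⟩, hb1, hb2, ?_⟩
    rw [hb3, ← hc, he]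
    have : e⁻¹ * e⁻¹ * (e * e * c₀) = c₀ := by
      field_simp
    rw [this]

/-- the Gram matrix over the ground field in the basis attached to an orthogonal basis over the
field -/
theorem gram_smulTower (h : IsQuadGen K δ α) (hS : SymForm K B) (m : ℕ)
    (b : Basis (Fin (m + 1)) ↥K (ι → F)) (sv tv : Fin (m + 1) → F)
    (horth : ∀ i j, i ≠ j → BLs hS (qgPhi h) (qgPhi_ne_zero h) (b i) (b j) = 0)
    (hval : ∀ j, ((BLs hS (qgPhi h) (qgPhi_ne_zero h) (b j) (b j) : ↥K) : Matrix ι ι F) =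
      sv j • (1 : Matrix ι ι F) + tv j • α)
    (x y : Fin 2 × Fin (m + 1)) :
    B (((qgBasis h).smulTower b) x) (((qgBasis h).smulTower b) y) =
      Matrix.blockDiagonal (fun j => gblock δ (sv j) (tv j)) x y := by
  obtain ⟨i, j⟩ := x
  obtain ⟨i', j'⟩ := y
  rw [Basis.smulTower_apply, Basis.smulTower_apply,
    B_smul_smul hS (qgPhi h) (qgPhi_ne_zero h)]
  by_cases hj : j = j'
  · subst hj
    rw [Matrix.blockDiagonal_apply_eq]
    exact qgPhi_basis_mul h _ (sv j) (tv j) (hval j) i i'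
  · rw [Matrix.blockDiagonal_apply_ne _ _ _ hj, horth j j' hj, mul_zero, mul_zero, map_zero]

end std

end Cfsg.Agent.Helper17.OrthC3
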