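import Mathlib
import Cfsg.Agent.Lib.Helper17.OrthC3D
import Cfsg.Agent.Lib.Helper13.QuadBasis

/-!
# Transitivity of the isometry group on self-adjoint square roots of a non-square (helper17)
-/

set_option autoImplicit false
set_option linter.style.haveILetI false
set_option linter.unusedSectionVars false
set_option maxHeartbeats 800000

namespace Cfsg.Agent.Helper17.OrthC3

open Matrix Module QuadraticMap Cfsg.Agent.Helper28.BGS Cfsg.Agent.Helper28.BGU

section trans

variable {F : Type*} [Field F] [Fintype F] {ι : Type} [Fintype ι] [DecidableEq ι]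

/-- the form hypotheses for a self-adjoint root -/
theorem symForm_rootAlg (Q : QuadraticForm F (ι → F)) (hQ : (polarBilin Q).Nondegenerate)
    {δ : F} {α : Matrix ι ι F} (hα : IsSARoot (polarBilin Q) δ α) :
    SymForm (rootAlg α δ hα.sq) (polarBilin Q) := by
  refine ⟨?_, ?_, ?_⟩
  · rintro _ ⟨a, b, rfl⟩ u v
    rw [Matrix.add_mulVec, Matrix.add_mulVec, Matrix.smul_mulVec, Matrix.smul_mulVec,
      Matrix.smul_mulVec, Matrix.smul_mulVec, Matrix.one_mulVec, Matrix.one_mulVec, map_add,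
      map_add, LinearMap.add_apply, map_smul, map_smul, LinearMap.smul_apply,
      LinearMap.smul_apply, map_smul, map_smul, hα.sa]
  · intro u v
    exact polar_comm Q u v
  · intro u hu
    exact hQ.1 u hu

/-- a basis over the ground field adapted to a self-adjoint root, with its Gram matrix -/
theorem exists_gram_basis [Nonempty ι] (h2 : (2 : F) ≠ 0) (Q : QuadraticForm F (ι → F))
    (hQ : (polarBilin Q).Nondegenerate) (δ : F) (hδ : ¬ IsSquare δ) (s₀ t₀ : F)
    (hν : ¬ IsSquare (s₀ * s₀ - δ * (t₀ * t₀))) (α : Matrix ι ι F)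
    (hα : IsSARoot (polarBilin Q) δ α) (m : ℕ) (hcard : Fintype.card ι = 2 * (m + 1)) :
    ∃ (𝔅 : Basis (Fin 2 × Fin (m + 1)) F (ι → F)) (s t : F),
      ((s = 1 ∧ t = 0) ∨ (s = s₀ ∧ t = t₀)) ∧
      (∀ x y, polar Q (𝔅 x) (𝔅 y) = Matrix.blockDiagonal
        (fun j => gblock δ (if j = Fin.last m then s else 1) (if j = Fin.last m then t else 0))
          x y) ∧
      (∀ j, α *ᵥ 𝔅 (0, j) = 𝔅 (1, j)) ∧ (∀ j, α *ᵥ 𝔅 (1, j) = δ • 𝔅 (0, j)) := by
  classical
  have hQG := isQuadGen_rootAlg hα.sq hδ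
  have hK := isFieldSubalgebra_of_quadGen hQG
  haveI := isFld_of (by norm_num) hK
  have hS := symForm_rootAlg Q hQ hα
  have hfin : finrank ↥(rootAlg α δ hα.sq) (ι → F) = m + 1 := by
    have h1 := finrank_mul hK
    rw [hcard] at h1
    omega
  obtain ⟨b, s, t, hst, horth, hone, hlast⟩ := exists_std_basis h2 hQG hS s₀ t₀ hν m hfin
  refine ⟨(qgBasis hQG).smulTower b, s, t, hst, ?_, ?_, ?_⟩
  · intro x y
    have h := gram_smulTower hQG hS m b (fun j => if j = Fin.last m then s else 1)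
      (fun j => if j = Fin.last m then t else 0) horth ?_ x y
    · exact h
    · intro j
      by_cases hj : j = Fin.last m
      · subst hj
        simp only [if_true]
        exact hlast
      · simp only [if_neg hj]
        have hj' : (j : ℕ) + 1 < m + 1 := by
          have := j.2
          have hne : (j : ℕ) ≠ m := fun h => hj (Fin.ext (by rw [h, Fin.val_last]))
          omega
        rw [hone j hj', one_smul, zero_smul, add_zero]
        rfl
  · intro j
    rw [Basis.smulTower_apply, Basis.smulTower_apply, qgBasis_zero, qgBasis_one]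
    show α *ᵥ ((⟨1, _⟩ : ↥(rootAlg α δ hα.sq)) • b j) = (⟨α, _⟩ : ↥(rootAlg α δ hα.sq)) • b j
    rw [fld_smul_def, fld_smul_def, Matrix.one_mulVec]
  · intro j
    rw [Basis.smulTower_apply, Basis.smulTower_apply, qgBasis_zero, qgBasis_one]
    show α *ᵥ ((⟨α, _⟩ : ↥(rootAlg α δ hα.sq)) • b j) =
      δ • ((⟨1, _⟩ : ↥(rootAlg α δ hα.sq)) • b j)
    rw [fld_smul_def, fld_smul_def, Matrix.one_mulVec, Matrix.mulVec_mulVec, hα.sq,
      Matrix.smul_mulVec, Matrix.one_mulVec]

/-- the determinant of the Gram matrix -/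
theorem det_gramBlocks (δ s t : F) (m : ℕ) :
    (Matrix.blockDiagonal (fun j : Fin (m + 1) =>
      gblock δ (if j = Fin.last m then s else 1) (if j = Fin.last m then t else 0))).det =
      δ ^ (m + 1) * (s * s - δ * (t * t)) := by
  rw [Matrix.det_blockDiagonal]
  simp only [det_gblock]
  rw [Fin.prod_univ_castSucc]
  have h1 : ∀ i : Fin m, (Fin.castSucc i = Fin.last m) = False := by
    intro i
    exact eq_false (Fin.castSucc_lt_last i).ne
  simp only [h1, if_false, if_true]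
  rw [Finset.prod_const, Finset.card_univ, Fintype.card_fin]
  ring

/-- bilinear extension of the invariance of the polar form -/
theorem polar_equiv_of_basis {κ : Type*} [Fintype κ] [DecidableEq κ]
    (Q : QuadraticForm F (ι → F)) (𝔅 𝔅' : Basis κ F (ι → F))
    (h : ∀ x y, polar Q (𝔅 x) (𝔅 y) = polar Q (𝔅' x) (𝔅' y)) (u v : ι → F) :
    polar Q (𝔅.equiv 𝔅' (Equiv.refl κ) u) (𝔅.equiv 𝔅' (Equiv.refl κ) v) = polar Q u v := by
  set g := 𝔅.equiv 𝔅' (Equiv.refl κ) with hg
  have hgb : ∀ x, g (𝔅 x) = 𝔅' x := by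
    intro x
    rw [hg, Basis.equiv_apply]
    rfl
  have key : (polarBilin Q).compl₁₂ (g : (ι → F) →ₗ[F] (ι → F)) (g : (ι → F) →ₗ[F] (ι → F)) =
      polarBilin Q := by
    apply 𝔅.ext
    intro x
    apply 𝔅.ext
    intro y
    rw [LinearMap.compl₁₂_apply]
    show polar Q (g (𝔅 x)) (g (𝔅 y)) = polar Q (𝔅 x) (𝔅 y)
    rw [hgb, hgb, h]
  have := congrArg (fun B : LinearMap.BilinForm F (ι → F) => B u v) key
  simpa using this

/-- **transitivity**: two self-adjoint square roots of a non-square are conjugate under the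
isometry group -/
theorem exists_isometry_conj [Nonempty ι] (h2 : (2 : F) ≠ 0) (Q : QuadraticForm F (ι → F))
    (hQ : (polarBilin Q).Nondegenerate) (δ : F) (hδ : ¬ IsSquare δ) (α α' : Matrix ι ι F)
    (hα : IsSARoot (polarBilin Q) δ α) (hα' : IsSARoot (polarBilin Q) δ α') :
    ∃ g : (ι → F) ≃ₗ[F] (ι → F), (∀ v, Q (g v) = Q v) ∧ ∀ v, g (α *ᵥ v) = α' *ᵥ g v := by
  classical
  have hδ0 : δ ≠ 0 := by
    rintro rfl
    exact hδ ⟨0, by simp⟩
  -- the dimension is even
  obtain ⟨m, hm⟩ : ∃ m, Fintype.card ι = 2 * (m + 1) := by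
    have hQG := isQuadGen_rootAlg hα.sq hδ
    have hK := isFieldSubalgebra_of_quadGen hQG
    haveI := isFld_of (by norm_num) hK
    have h1 := finrank_mul hK
    have hpos : 0 < Fintype.card ι := Fintype.card_pos
    refine ⟨finrank ↥(rootAlg α δ hα.sq) (ι → F) - 1, ?_⟩
    omega
  -- a non-square norm
  obtain ⟨s₀, t₀, hst⟩ := Cfsg.Agent.Helper13.exists_binary_one h2 δ⁻¹ (-1)
    (inv_ne_zero hδ0) (neg_ne_zero.2 one_ne_zero)
  have hν : s₀ * s₀ - δ * (t₀ * t₀) = δ := by
    field_simp at hst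
    linear_combination hst
  have hνns : ¬ IsSquare (s₀ * s₀ - δ * (t₀ * t₀)) := by rw [hν]; exact hδ
  obtain ⟨𝔅, s, t, hcase, hgram, hα0, hα1⟩ :=
    exists_gram_basis h2 Q hQ δ hδ s₀ t₀ hνns α hα m hm
  obtain ⟨𝔅', s', t', hcase', hgram', hα'0, hα'1⟩ :=
    exists_gram_basis h2 Q hQ δ hδ s₀ t₀ hνns α' hα' m hm
  -- comparison of the discriminants
  have hdet := Cfsg.Agent.Helper13.gram_det_basis Q 𝔅 𝔅'
  have hM : (Matrix.of fun i j => polar Q (𝔅 i) (𝔅 j)) = Matrix.blockDiagonal (fun j : Fin (m + 1) =>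
      gblock δ (if j = Fin.last m then s else 1) (if j = Fin.last m then t else 0)) := by
    ext x y
    rw [Matrix.of_apply, hgram]
  have hM' : (Matrix.of fun i j => polar Q (𝔅' i) (𝔅' j)) = Matrix.blockDiagonal
      (fun j : Fin (m + 1) =>
      gblock δ (if j = Fin.last m then s' else 1) (if j = Fin.last m then t' else 0)) := by
    ext x y
    rw [Matrix.of_apply, hgram']
  rw [hM, hM', det_gramBlocks, det_gramBlocks] at hdet
  set c := (𝔅.toMatrix 𝔅').det with hc
  have hpow : δ ^ (m + 1) ≠ 0 := pow_ne_zero _ hδ0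
  have hrel : s' * s' - δ * (t' * t') = c ^ 2 * (s * s - δ * (t * t)) := by
    apply mul_left_cancel₀ hpow
    linear_combination hdet
  have hst' : s = s' ∧ t = t' := by
    rcases hcase with ⟨rfl, rfl⟩ | ⟨rfl, rfl⟩ <;> rcases hcase' with ⟨rfl, rfl⟩ | ⟨rfl, rfl⟩
    · exact ⟨rfl, rfl⟩
    · exfalso
      apply hνns
      refine ⟨c, ?_⟩
      rw [hrel]
      ring
    · exfalso
      apply hνns
      have hc0 : c ≠ 0 := by
        rintro h0
        rw [h0] at hrel
        simp at hrel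
      refine ⟨c⁻¹, ?_⟩
      field_simp
      linear_combination -hrel
    · exact ⟨rfl, rfl⟩
  obtain ⟨rfl, rfl⟩ := hst'
  set g := 𝔅.equiv 𝔅' (Equiv.refl _) with hg
  have hgb : ∀ x, g (𝔅 x) = 𝔅' x := by
    intro x
    rw [hg, Basis.equiv_apply]
    rfl
  have hpol : ∀ u v, polar Q (g u) (g v) = polar Q u v :=
    polar_equiv_of_basis Q 𝔅 𝔅' (fun x y => by rw [hgram, hgram'])
  refine ⟨g, ?_, ?_⟩
  · intro v
    have h1 := hpol v v
    rw [polar_self, polar_self, two_smul, two_smul, ← two_mul, ← two_mul] at h1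
    exact mul_left_cancel₀ h2 h1
  · have key : (g : (ι → F) →ₗ[F] (ι → F)).comp (Matrix.mulVecLin α) =
        (Matrix.mulVecLin α').comp (g : (ι → F) →ₗ[F] (ι → F)) := by
      apply 𝔅.ext
      rintro ⟨i, j⟩
      rw [LinearMap.comp_apply, LinearMap.comp_apply, Matrix.mulVecLin_apply,
        Matrix.mulVecLin_apply]
      show g (α *ᵥ 𝔅 (i, j)) = α' *ᵥ g (𝔅 (i, j))
      rw [hgb]
      fin_cases i
      · show g (α *ᵥ 𝔅 (0, j)) = α' *ᵥ 𝔅' (0, j)
        rw [hα0, hα'0, hgb]
      · show g (α *ᵥ 𝔅 (1, j)) = α' *ᵥ 𝔅' (1, j)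
        rw [hα1, hα'1, map_smul, hgb]
    intro v
    have := congrArg (fun L : (ι → F) →ₗ[F] (ι → F) => L v) key
    simpa using this

end trans

end Cfsg.Agent.Helper17.OrthC3
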