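import Mathlib
import Cfsg.Agent.Lib.Helper13.QuadFinite
import Cfsg.Agent.Lib.Helper13.OrthTs8

/-!
# Self-adjoint square roots of a scalar on quadratic spaces, built from orthogonal planes
(helper17)
-/

set_option autoImplicit false
set_option linter.style.haveILetI false
set_option linter.unusedSectionVars false
set_option maxHeartbeats 800000

namespace Cfsg.Agent.Helper17.OrthC3

open Module QuadraticMap

section planes

variable {F : Type*} [Field F] {W : Type*} [AddCommGroup W] [Module F W]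

/-- an endomorphism which is a self-adjoint square root of the scalar `δ` -/
structure IsSAEnd (Q : QuadraticForm F W) (δ : F) (a : W →ₗ[F] W) : Prop where
  sq : ∀ w, a (a w) = δ • w
  sa : ∀ u v, polar Q (a u) v = polar Q u (a v)

/-- a self-adjoint square root from an orthogonal basis grouped in pairs -/
theorem exists_saEnd_of_planes (Q : QuadraticForm F W) {J : Type*} [Fintype J] [DecidableEq J]
    (𝔅 : Basis (J ⊕ J) F W) (horth : ∀ x y, x ≠ y → polar Q (𝔅 x) (𝔅 y) = 0) (δ : F)
    (s t t' : J → F) (h1 : ∀ j, s j * s j + t j * t' j = δ)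
    (h2 : ∀ j, t' j * Q (𝔅 (Sum.inl j)) = t j * Q (𝔅 (Sum.inr j))) :
    ∃ a : W →ₗ[F] W, IsSAEnd Q δ a ∧
      (∀ j, a (𝔅 (Sum.inl j)) = s j • 𝔅 (Sum.inl j) + t j • 𝔅 (Sum.inr j)) ∧
      (∀ j, a (𝔅 (Sum.inr j)) = t' j • 𝔅 (Sum.inl j) - s j • 𝔅 (Sum.inr j)) := by
  classical
  set a : W →ₗ[F] W := 𝔅.constr F (Sum.elim
    (fun j => s j • 𝔅 (Sum.inl j) + t j • 𝔅 (Sum.inr j))
    (fun j => t' j • 𝔅 (Sum.inl j) - s j • 𝔅 (Sum.inr j))) with ha
  have hal : ∀ j, a (𝔅 (Sum.inl j)) = s j • 𝔅 (Sum.inl j) + t j • 𝔅 (Sum.inr j) := by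
    intro j
    rw [ha, Basis.constr_basis]
    rfl
  have har : ∀ j, a (𝔅 (Sum.inr j)) = t' j • 𝔅 (Sum.inl j) - s j • 𝔅 (Sum.inr j) := by
    intro j
    rw [ha, Basis.constr_basis]
    rfl
  refine ⟨a, ⟨?_, ?_⟩, hal, har⟩
  · have key : a.comp a = δ • LinearMap.id := by
      apply 𝔅.ext
      rintro (j | j)
      · rw [LinearMap.comp_apply, hal, map_add, map_smul, map_smul, hal, har, LinearMap.smul_apply,
          LinearMap.id_apply, ← h1 j]
        module
      · rw [LinearMap.comp_apply, har, map_sub, map_smul, map_smul, hal, har, LinearMap.smul_apply,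
          LinearMap.id_apply, ← h1 j]
        module
    intro w
    have := congrArg (fun L : W →ₗ[F] W => L w) key
    simpa using this
  · have hio : ∀ j k, polar Q (𝔅 (Sum.inl j)) (𝔅 (Sum.inr k)) = 0 :=
      fun j k => horth _ _ Sum.inl_ne_inr
    have hoi : ∀ j k, polar Q (𝔅 (Sum.inr j)) (𝔅 (Sum.inl k)) = 0 :=
      fun j k => horth _ _ Sum.inr_ne_inl
    have hii : ∀ j k, j ≠ k → polar Q (𝔅 (Sum.inl j)) (𝔅 (Sum.inl k)) = 0 :=
      fun j k hjk => horth _ _ (fun h => hjk (Sum.inl_injective h))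
    have hoo : ∀ j k, j ≠ k → polar Q (𝔅 (Sum.inr j)) (𝔅 (Sum.inr k)) = 0 :=
      fun j k hjk => horth _ _ (fun h => hjk (Sum.inr_injective h))
    have key : (polarBilin Q).compl₁₂ a LinearMap.id = (polarBilin Q).compl₁₂ LinearMap.id a := by
      apply 𝔅.ext
      intro x
      apply 𝔅.ext
      intro y
      rw [LinearMap.compl₁₂_apply, LinearMap.compl₁₂_apply, LinearMap.id_apply,
        LinearMap.id_apply]
      show polar Q (a (𝔅 x)) (𝔅 y) = polar Q (𝔅 x) (a (𝔅 y))
      rcases x with j | j <;> rcases y with k | k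
      · rw [hal, hal, polar_add_left, polar_smul_left, polar_smul_left, polar_add_right,
          polar_smul_right, polar_smul_right, hio, hoi, smul_zero, smul_zero, add_zero, add_zero]
        by_cases hjk : j = k
        · subst hjk; rfl
        · rw [hii j k hjk, smul_zero, smul_zero]
      · rw [hal, har, polar_add_left, polar_smul_left, polar_smul_left, polar_sub_right,
          polar_smul_right, polar_smul_right, hio, smul_zero, smul_zero, zero_add, sub_zero]
        by_cases hjk : j = k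
        · subst hjk
          rw [polar_self, polar_self, smul_eq_mul, smul_eq_mul, nsmul_eq_mul, nsmul_eq_mul]
          have := h2 j
          push_cast
          linear_combination (-2 : F) * this
        · rw [hoo j k hjk, hii j k hjk, smul_zero, smul_zero]
      · rw [har, hal, polar_sub_left, polar_smul_left, polar_smul_left, polar_add_right,
          polar_smul_right, polar_smul_right, hoi, smul_zero, smul_zero, sub_zero, zero_add]
        by_cases hjk : j = k
        · subst hjk
          rw [polar_self, polar_self, smul_eq_mul, smul_eq_mul, nsmul_eq_mul, nsmul_eq_mul]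
          have := h2 j
          push_cast
          linear_combination (2 : F) * this
        · rw [hoo j k hjk, hii j k hjk, smul_zero, smul_zero]
      · rw [har, har, polar_sub_left, polar_smul_left, polar_smul_left, polar_sub_right,
          polar_smul_right, polar_smul_right, hio, hoi, smul_zero, smul_zero, zero_sub, zero_sub]
        by_cases hjk : j = k
        · subst hjk; rfl
        · rw [hoo j k hjk, smul_zero, smul_zero]
    intro u v
    have := congrArg (fun B : LinearMap.BilinForm F W => B u v) key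
    simpa using this

end planes

section exist

variable {F : Type*} [Field F] [Fintype F] {W : Type*} [AddCommGroup W] [Module F W]

omit [Fintype F] in
/-- the vectors of an orthogonal basis of a non-degenerate space are non-singular -/
theorem Q_ne_zero_of_orth (h2 : (2 : F) ≠ 0) (Q : QuadraticForm F W)
    (hQ : (polarBilin Q).Nondegenerate) {κ : Type*} (c : Basis κ F W)
    (horth : ∀ i j, i ≠ j → polar Q (c i) (c j) = 0) (i : κ) : Q (c i) ≠ 0 := by
  classical
  intro h0
  apply c.ne_zero i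
  apply hQ.1
  intro v
  have hz : polarBilin Q (c i) = 0 := by
    apply c.ext
    intro j
    rw [LinearMap.zero_apply]
    show polar Q (c i) (c j) = 0
    by_cases hj : i = j
    · rw [← hj, polar_self, h0, smul_zero]
    · exact horth i j hj
  rw [hz, LinearMap.zero_apply]

/-- a non-degenerate quadratic space of even dimension over a finite field of odd order has a
self-adjoint square root of every non-zero scalar -/
theorem exists_saEnd (h2 : (2 : F) ≠ 0) [FiniteDimensional F W] (Q : QuadraticForm F W)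
    (hQ : (polarBilin Q).Nondegenerate) (n : ℕ) (hfin : finrank F W = n + n) (δ : F)
    (hδ0 : δ ≠ 0) : ∃ a : W →ₗ[F] W, IsSAEnd Q δ a := by
  classical
  obtain ⟨c, horth, -⟩ := Cfsg.Agent.Helper13.exists_normal_basis h2 (n + n) W Q hQ hfin
  set 𝔅 : Basis (Fin n ⊕ Fin n) F W := c.reindex finSumFinEquiv.symm with h𝔅d
  have h𝔅 : ∀ x, 𝔅 x = c (finSumFinEquiv x) := by
    intro x
    rw [h𝔅d, Basis.reindex_apply, Equiv.symm_symm]
  have horth' : ∀ x y, x ≠ y → polar Q (𝔅 x) (𝔅 y) = 0 := by
    intro x y hxy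
    rw [h𝔅, h𝔅]
    exact horth _ _ (fun h => hxy (finSumFinEquiv.injective h))
  have hne : ∀ x, Q (𝔅 x) ≠ 0 := Q_ne_zero_of_orth h2 Q hQ 𝔅 horth'
  have hsol : ∀ j : Fin n, ∃ s t : F,
      s * s + t * (t * Q (𝔅 (Sum.inr j)) / Q (𝔅 (Sum.inl j))) = δ := by
    intro j
    obtain ⟨x, y, hxy⟩ := Cfsg.Agent.Helper13.exists_binary_one h2 δ⁻¹
      (Q (𝔅 (Sum.inr j)) / (Q (𝔅 (Sum.inl j)) * δ)) (inv_ne_zero hδ0)
      (div_ne_zero (hne _) (mul_ne_zero (hne _) hδ0))
    refine ⟨x, y, ?_⟩
    have h1 := hne (Sum.inl j)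
    field_simp at hxy ⊢
    linear_combination hxy
  choose s t hst using hsol
  obtain ⟨a, ha, -, -⟩ := exists_saEnd_of_planes Q 𝔅 horth' δ s t
    (fun j => t j * Q (𝔅 (Sum.inr j)) / Q (𝔅 (Sum.inl j))) hst (by
      intro j
      have h1 := hne (Sum.inl j)
      field_simp)
  exact ⟨a, ha⟩

end exist

section invol

open Cfsg.Agent.Helper13.OrthTs

variable {F : Type*} [Field F] [Fintype F] {V : Type*} [AddCommGroup V] [Module F V]
  [FiniteDimensional F V]

/-- an involutive isometry whose eigenspaces have even dimension commutes with a self-adjoint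
square root of any non-zero scalar -/
theorem exists_saEnd_comm_of_invol (h2 : (2 : F) ≠ 0) (Q : QuadraticForm F V)
    (hQ : (polarBilin Q).Nondegenerate) (A : Module.End F V) (hA : A * A = 1)
    (hAQ : ∀ v, Q (A v) = Q v) (np nm : ℕ) (hp : finrank F (Vp A) = np + np)
    (hm : finrank F (Vm A) = nm + nm) (δ : F) (hδ0 : δ ≠ 0) :
    ∃ a : V →ₗ[F] V, IsSAEnd Q δ a ∧ ∀ v, a (A v) = A (a v) := by
  classical
  have hndp := nondeg_Vp h2 hA hAQ hQ
  have hndm := nondeg_Vm h2 hA hAQ hQ
  obtain ⟨ap, hap⟩ := exists_saEnd h2 (Q.comp (Vp A).subtype) hndp np hp δ hδ0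
  obtain ⟨am, ham⟩ := exists_saEnd h2 (Q.comp (Vm A).subtype) hndm nm hm δ hδ0
  have hAA : ∀ v, A (A v) = v := by
    intro v
    rw [← Module.End.mul_apply, hA, Module.End.one_apply]
  set πp : V →ₗ[F] ↥(Vp A) := LinearMap.codRestrict (Vp A) ((2 : F)⁻¹ • (LinearMap.id + A))
    (fun w => by
      have := half_add_mem (A := A) h2 hA w
      simpa using this) with hπp
  set πm : V →ₗ[F] ↥(Vm A) := LinearMap.codRestrict (Vm A) ((2 : F)⁻¹ • (LinearMap.id - A))
    (fun w => by
      have := half_sub_mem (A := A) h2 hA w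
      simpa using this) with hπm
  have hπpc : ∀ w, ((πp w : ↥(Vp A)) : V) = (2 : F)⁻¹ • (w + A w) := by
    intro w
    rw [hπp]
    simp
  have hπmc : ∀ w, ((πm w : ↥(Vm A)) : V) = (2 : F)⁻¹ • (w - A w) := by
    intro w
    rw [hπm]
    simp
  have hsum : ∀ w, ((πp w : ↥(Vp A)) : V) + ((πm w : ↥(Vm A)) : V) = w := by
    intro w
    rw [hπpc, hπmc]
    exact half_add_half h2 w
  have h22 : (2 : F)⁻¹ + (2 : F)⁻¹ = 1 := by
    field_simp
    norm_num
  have hpp : ∀ u : ↥(Vp A), πp (u : V) = u := by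
    intro u
    apply Subtype.ext
    rw [hπpc, mem_Vp.1 u.2, ← two_smul F (u : V), smul_smul, inv_mul_cancel₀ h2, one_smul]
  have hmp : ∀ u : ↥(Vp A), πm (u : V) = 0 := by
    intro u
    apply Subtype.ext
    rw [hπmc, mem_Vp.1 u.2, sub_self, smul_zero]
    rfl
  have hmm : ∀ u : ↥(Vm A), πm (u : V) = u := by
    intro u
    apply Subtype.ext
    rw [hπmc, mem_Vm.1 u.2, sub_neg_eq_add, ← two_smul F (u : V), smul_smul, inv_mul_cancel₀ h2,
      one_smul]
  have hpm : ∀ u : ↥(Vm A), πp (u : V) = 0 := by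
    intro u
    apply Subtype.ext
    rw [hπpc, mem_Vm.1 u.2, add_neg_cancel, smul_zero]
    rfl
  set a : V →ₗ[F] V := (Vp A).subtype ∘ₗ ap ∘ₗ πp + (Vm A).subtype ∘ₗ am ∘ₗ πm with ha
  have hav : ∀ w, a w = ((ap (πp w) : ↥(Vp A)) : V) + ((am (πm w) : ↥(Vm A)) : V) := by
    intro w
    rw [ha]
    rfl
  have hπpa : ∀ w, πp (a w) = ap (πp w) := by
    intro w
    rw [hav, map_add, hpp, hpm, add_zero]
  have hπma : ∀ w, πm (a w) = am (πm w) := by
    intro w
    rw [hav, map_add, hmp, hmm, zero_add]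
  have hcross : ∀ (x : ↥(Vp A)) (y : ↥(Vm A)), polar Q (x : V) (y : V) = 0 :=
    fun x y => polar_Vp_Vm h2 hAQ x.2 y.2
  have hcross' : ∀ (y : ↥(Vm A)) (x : ↥(Vp A)), polar Q (y : V) (x : V) = 0 := by
    intro y x
    rw [polar_comm]
    exact hcross x y
  have hpolp : ∀ x y : ↥(Vp A), polar (Q.comp (Vp A).subtype) x y = polar Q (x : V) (y : V) :=
    fun x y => polar_comp Q _ x y
  have hpolm : ∀ x y : ↥(Vm A), polar (Q.comp (Vm A).subtype) x y = polar Q (x : V) (y : V) :=
    fun x y => polar_comp Q _ x y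
  refine ⟨a, ⟨?_, ?_⟩, ?_⟩
  · intro w
    rw [hav (a w), hπpa, hπma, hap.sq, ham.sq]
    show δ • ((πp w : ↥(Vp A)) : V) + δ • ((πm w : ↥(Vm A)) : V) = δ • w
    rw [← smul_add, hsum]
  · intro u v
    have e1 : polar Q (a u) v = polar Q ((ap (πp u) : ↥(Vp A)) : V) ((πp v : ↥(Vp A)) : V) +
        polar Q ((am (πm u) : ↥(Vm A)) : V) ((πm v : ↥(Vm A)) : V) := by
      rw [hav]
      nth_rewrite 1 [← hsum v]
      rw [polar_add_left, polar_add_right, polar_add_right, hcross, hcross', add_zero, zero_add]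
    have e2 : polar Q u (a v) = polar Q ((πp u : ↥(Vp A)) : V) ((ap (πp v) : ↥(Vp A)) : V) +
        polar Q ((πm u : ↥(Vm A)) : V) ((am (πm v) : ↥(Vm A)) : V) := by
      rw [hav]
      nth_rewrite 1 [← hsum u]
      rw [polar_add_left, polar_add_right, polar_add_right, hcross, hcross', add_zero, zero_add]
    rw [e1, e2, ← hpolp, ← hpolp, ← hpolm, ← hpolm, hap.sa, ham.sa]
  · intro v
    have e1 : πp (A v) = πp v := by
      apply Subtype.ext
      rw [hπpc, hπpc, hAA, add_comm]
    have e2 : πm (A v) = -πm v := by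
      apply Subtype.ext
      rw [Submodule.coe_neg, hπmc, hπmc, hAA, ← smul_neg, neg_sub]
    rw [hav, hav, e1, e2, map_neg, Submodule.coe_neg, map_add, mem_Vp.1 (ap (πp v)).2,
      mem_Vm.1 (am (πm v)).2]

end invol

end Cfsg.Agent.Helper17.OrthC3
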