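import Mathlib
import Cfsg.Agent.Lib.Helper17.OrthC3F
import Cfsg.Agent.Lib.Helper13.OrthTy9

/-!
# Isometries of square `-1` anticommute with self-adjoint square roots (helper17)
-/

set_option autoImplicit false
set_option linter.style.haveILetI false
set_option linter.unusedSectionVars false
set_option maxHeartbeats 800000

namespace Cfsg.Agent.Helper17.OrthC3

open Module QuadraticMap Cfsg.Agent.Helper13.OrthTy Cfsg.Agent.Helper17.Spinor

section cplx

variable {F : Type*} [Field F] [Fintype F] {V : Type*} [AddCommGroup V] [Module F V]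
  [FiniteDimensional F V]

/-- an isometry of square `-1` anticommutes with two self-adjoint square roots of any non-zero
scalar, which are exchanged by a reflection -/
theorem exists_saEnd_anti_of_cplx (h2 : (2 : F) ≠ 0) (Q : QuadraticForm F V)
    (hQ : (polarBilin Q).Nondegenerate) (A : Module.End F V) (hA : A * A = -1)
    (hAQ : ∀ v, Q (A v) = Q v) (δ : F) (hδ0 : δ ≠ 0) (hpos : 0 < finrank F V) :
    ∃ (a a' : V →ₗ[F] V) (e : V), IsSAEnd Q δ a ∧ IsSAEnd Q δ a' ∧
      (∀ v, a (A v) = -A (a v)) ∧ (∀ v, a' (A v) = -A (a' v)) ∧ Q e = 1 ∧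
      (∀ v, refl Q e (a v) = a' (refl Q e v)) := by
  classical
  obtain ⟨n, fam, hfam, hfin⟩ := exists_cbasis h2 hQ hA hAQ
  have hn : 0 < n := by omega
  set c := basisOfLinearIndependentOfCardEqFinrank' (cvec A fam n) (cvec_li h2 hA hAQ hfam)
    (by rw [Fintype.card_sum, Fintype.card_fin, hfin]; ring) with hc
  have hcc : ∀ i, c i = cvec A fam n i := fun i => by
    rw [hc, coe_basisOfLinearIndependentOfCardEqFinrank']
  have hcl : ∀ j : Fin n, c (Sum.inl j) = fam j := fun j => by rw [hcc]; rfl
  have hcr : ∀ j : Fin n, c (Sum.inr j) = A (fam j) := fun j => by rw [hcc]; rfl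
  have horth : ∀ i j, i ≠ j → polar Q (c i) (c j) = 0 := by
    intro i j hij
    rw [hcc, hcc]
    exact cvec_orth h2 hA hAQ hfam i j hij
  have hone : ∀ i, Q (c i) = 1 := by
    intro i
    rw [hcc]
    exact cvec_one hAQ hfam i
  have hAl : ∀ j : Fin n, A (c (Sum.inl j)) = c (Sum.inr j) := fun j => by rw [hcl, hcr]
  have hAr : ∀ j : Fin n, A (c (Sum.inr j)) = -c (Sum.inl j) := fun j => by
    rw [hcl, hcr, cplx_apply hA]
  obtain ⟨s₀, t₀, hst⟩ := Cfsg.Agent.Helper13.exists_binary_one h2 δ⁻¹ δ⁻¹
    (inv_ne_zero hδ0) (inv_ne_zero hδ0)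
  have hst' : s₀ * s₀ + t₀ * t₀ = δ := by
    field_simp at hst
    linear_combination hst
  set j₀ : Fin n := ⟨0, hn⟩ with hj₀
  -- the general construction
  have hgen : ∀ t : Fin n → F, (∀ j, s₀ * s₀ + t j * t j = δ) →
      ∃ a : V →ₗ[F] V, IsSAEnd Q δ a ∧ (∀ v, a (A v) = -A (a v)) ∧
        (∀ j, a (c (Sum.inl j)) = s₀ • c (Sum.inl j) + t j • c (Sum.inr j)) ∧
        (∀ j, a (c (Sum.inr j)) = t j • c (Sum.inl j) - s₀ • c (Sum.inr j)) := by
    intro t ht
    obtain ⟨a, ha, hal, har⟩ := exists_saEnd_of_planes Q c horth δ (fun _ => s₀) t t ht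
      (by intro j; rw [hone, hone])
    refine ⟨a, ha, ?_, hal, har⟩
    have key : a.comp A = -(A.comp a) := by
      apply c.ext
      rintro (j | j)
      · rw [LinearMap.comp_apply, LinearMap.neg_apply, LinearMap.comp_apply, hAl, har, hal,
          map_add, map_smul, map_smul, hAl, hAr]
        module
      · rw [LinearMap.comp_apply, LinearMap.neg_apply, LinearMap.comp_apply, hAr, map_neg, har,
          hal, map_sub, map_smul, map_smul, hAl, hAr]
        module
    intro v
    have := congrArg (fun L : V →ₗ[F] V => L v) key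
    simpa using this
  obtain ⟨a, ha, haA, hal, har⟩ := hgen (fun _ => t₀) (fun _ => hst')
  obtain ⟨a', ha', ha'A, ha'l, ha'r⟩ := hgen (fun j => if j = j₀ then -t₀ else t₀) (by
    intro j
    by_cases hj : j = j₀
    · simp only [if_pos hj]
      linear_combination hst'
    · simp only [if_neg hj]
      exact hst')
  refine ⟨a, a', c (Sum.inl j₀), ha, ha', haA, ha'A, hone _, ?_⟩
  set e := c (Sum.inl j₀) with he
  have hre : refl Q e e = -e := by
    rw [refl_apply, polar_self, he, hone, nsmul_eq_mul, mul_one, inv_one, one_mul]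
    push_cast
    rw [two_smul]
    abel
  have hrx : ∀ x, x ≠ Sum.inl j₀ → refl Q e (c x) = c x := by
    intro x hx
    apply refl_apply_of_polar_eq_zero
    rw [he]
    exact horth _ _ (Ne.symm hx)
  have key : (refl Q e).comp a = a'.comp (refl Q e) := by
    apply c.ext
    rintro (j | j)
    · rw [LinearMap.comp_apply, LinearMap.comp_apply, hal]
      by_cases hj : j = j₀
      · subst hj
        rw [← he, hre, map_neg, he, ha'l, map_add, map_smul, map_smul, ← he, hre,
          hrx (Sum.inr j₀) Sum.inr_ne_inl]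
        simp only [if_true]
        module
      · have hx : (Sum.inl j : Fin n ⊕ Fin n) ≠ Sum.inl j₀ := fun h => hj (Sum.inl_injective h)
        rw [hrx _ hx, ha'l, map_add, map_smul, map_smul, hrx _ hx, hrx (Sum.inr j) Sum.inr_ne_inl]
        simp only [if_neg hj]
    · rw [LinearMap.comp_apply, LinearMap.comp_apply, har, hrx (Sum.inr j) Sum.inr_ne_inl, ha'r,
        map_sub, map_smul, map_smul, hrx (Sum.inr j) Sum.inr_ne_inl]
      by_cases hj : j = j₀
      · subst hj
        rw [← he, hre]
        simp only [if_true]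
        module
      · have hx : (Sum.inl j : Fin n ⊕ Fin n) ≠ Sum.inl j₀ := fun h => hj (Sum.inl_injective h)
        rw [hrx _ hx]
        simp only [if_neg hj]
  intro v
  have := congrArg (fun L : V →ₗ[F] V => L v) key
  simpa using this

/-- rotations of the plane of `e` and `A e` commute with `A`, and have every spinor norm -/
theorem exists_pair_comm_cplx (h2 : (2 : F) ≠ 0) (Q : QuadraticForm F V)
    (A : Module.End F V) (hA : A * A = -1) (hAQ : ∀ v, Q (A v) = Q v) (e : V) (he : Q e = 1)
    (c : F) (hc : c ≠ 0) :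
    ∃ w : V, Q w = c ∧ ∀ v, refl Q e (refl Q w (A v)) = A (refl Q e (refl Q w v)) := by
  obtain ⟨s, t, hst⟩ := Cfsg.Agent.Helper13.exists_binary_one h2 c⁻¹ c⁻¹
    (inv_ne_zero hc) (inv_ne_zero hc)
  have hst' : s ^ 2 + t ^ 2 = c := by
    field_simp at hst
    linear_combination hst
  have heAe : polar Q e (A e) = 0 := polar_cplx_self h2 hA hAQ e
  have hAee : polar Q (A e) e = 0 := by rw [polar_comm]; exact heAe
  have hQAe : Q (A e) = 1 := by rw [hAQ, he]
  set w : V := s • e + t • A e with hw
  have hQw : Q w = c := by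
    rw [hw, Q_add, QuadraticMap.map_smul, QuadraticMap.map_smul, polar_smul_left,
      polar_smul_right, heAe, he, hQAe, smul_eq_mul, smul_eq_mul, smul_eq_mul, smul_eq_mul,
      mul_zero, mul_zero, add_zero, mul_one, mul_one, ← hst']
    ring
  have hR : ∀ v, refl Q e (refl Q w v) = v + (t / c) •
      ((s * polar Q (A e) v - t * polar Q e v) • e -
        (s * polar Q e v + t * polar Q (A e) v) • A e) := by
    intro v
    have hwv : polar Q w v = s * polar Q e v + t * polar Q (A e) v := by
      rw [hw, polar_add_left, polar_smul_left, polar_smul_left, smul_eq_mul, smul_eq_mul]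
    have hew : polar Q e w = 2 * s := by
      rw [hw, polar_add_right, polar_smul_right, polar_smul_right, heAe, polar_self, he,
        smul_eq_mul, smul_eq_mul, nsmul_eq_mul, mul_zero, add_zero, mul_one]
      push_cast
      ring
    rw [refl_apply Q w v, refl_apply Q e, polar_sub_right, polar_smul_right, hew, hQw, he, hwv,
      hw, smul_eq_mul]
    generalize polar Q e v = β₁
    generalize polar Q (A e) v = β₂
    subst hst'
    match_scalars <;> field_simp <;> ring
  refine ⟨w, hQw, ?_⟩
  intro v
  rw [hR, hR, polar_cplx_right hA hAQ e v, Cfsg.Agent.Helper28.WittQuad.polar_of_isom hAQ, map_add, map_smul, map_sub,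
    map_smul, map_smul, cplx_apply hA]
  module

end cplx

end Cfsg.Agent.Helper17.OrthC3
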