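import Mathlib
import Cfsg.Agent.Lib.Helper17.OrthC3E
import Cfsg.Agent.Lib.Helper17.OrthC3G
import Cfsg.Agent.Lib.Helper17.OmegaTrans
import Cfsg.Agent.Lib.Helper13.OrthTy11

/-!
# Elements with scalar square are conjugate into the normalizer of the quadratic field subalgebra
(helper17)
-/

set_option autoImplicit false
set_option linter.style.haveILetI false
set_option linter.unusedSectionVars false
set_option maxHeartbeats 800000

namespace Cfsg.Agent.Helper17.OrthC3

open Matrix Module QuadraticMap Cfsg.Agent.Helper28.BGS Cfsg.Agent.Helper28.BGU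
  Cfsg.Agent.Helper17.Spinor Cfsg.Agent.Helper13.OrthTs Cfsg.Agent.Helper13.OrthTy

section suff

variable {F : Type*} [Field F] [Fintype F] {ι : Type} [Fintype ι] [DecidableEq ι]
  (Q : QuadraticForm F (ι → F))

theorem toEnd_inv_apply (g : ↥(Cfsg.isometryGroup F (⇑Q))) (v : ι → F) :
    toEnd Q g⁻¹ (toEnd Q g v) = v := by
  rw [← Module.End.mul_apply, ← map_mul, inv_mul_cancel, map_one, Module.End.one_apply]

theorem toEnd_apply_inv (g : ↥(Cfsg.isometryGroup F (⇑Q))) (v : ι → F) :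
    toEnd Q g (toEnd Q g⁻¹ v) = v := by
  rw [← Module.End.mul_apply, ← map_mul, mul_inv_cancel, map_one, Module.End.one_apply]

/-- a conjugate of `h` normalizes the field subalgebra if `h` commutes or anticommutes with the
transported generator -/
theorem conj_mem_normalizer {K : Subalgebra F (Matrix ι ι F)} {δ : F} {α : Matrix ι ι F}
    (hQG : IsQuadGen K δ α) (h H : ↥(Cfsg.isometryGroup F (⇑Q)))
    (a : Module.End F (ι → F)) (ε : F) (hε : ε = 1 ∨ ε = -1)
    (hHα : ∀ v, toEnd Q H (α *ᵥ v) = a (toEnd Q H v))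
    (haA : ∀ v, a (toEnd Q h v) = ε • toEnd Q h (a v)) :
    ((H⁻¹ * h * H : ↥(Cfsg.isometryGroup F (⇑Q))) : GL ι F) ∈
      Cfsg.Geo.subalgebraNormalizer K := by
  apply hQG.mem_normalizer
  rw [comm_or_anti_iff]
  refine ⟨ε, hε, ?_⟩
  apply matrix_eq_of_mulVec
  intro v
  have hεε : ε * ε = 1 := by rcases hε with rfl | rfl <;> ring
  have e1 : ∀ w, (((H⁻¹ * h * H : ↥(Cfsg.isometryGroup F (⇑Q))) : GL ι F) : Matrix ι ι F) *ᵥ w =
      toEnd Q H⁻¹ (toEnd Q h (toEnd Q H w)) := by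
    intro w
    rw [← toEnd_apply, map_mul, map_mul]
    rfl
  have hinj : ∀ u u', toEnd Q H u = toEnd Q H u' → u = u' := by
    intro u u' huu
    rw [← toEnd_inv_apply Q H u, huu, toEnd_inv_apply]
  rw [← Matrix.mulVec_mulVec, e1, Matrix.smul_mulVec, ← Matrix.mulVec_mulVec, e1]
  apply hinj
  rw [toEnd_apply_inv, map_smul, hHα, hHα, toEnd_apply_inv, haA, smul_smul, hεε, one_smul]

end suff

section reflcomm

variable {F : Type*} [Field F] {V : Type*} [AddCommGroup V] [Module F V]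

/-- reflections in eigenvectors of an isometry commute with it -/
theorem refl_comm_of_eigen (Q : QuadraticForm F V) (A : Module.End F V)
    (hAQ : ∀ v, Q (A v) = Q v) (η : F) (hη : η * η = 1) (v : V) (hv : A v = η • v) (w : V) :
    refl Q v (A w) = A (refl Q v w) := by
  have h1 := Cfsg.Agent.Helper28.WittQuad.polar_of_isom (Q := Q) hAQ v w
  rw [hv, polar_smul_left, smul_eq_mul] at h1
  have h3 : polar Q v (A w) = η * polar Q v w := by
    calc polar Q v (A w) = (η * η) * polar Q v (A w) := by rw [hη, one_mul]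
      _ = η * polar Q v w := by rw [mul_assoc, h1]
  rw [refl_apply, refl_apply, map_sub, map_smul, hv, h3, smul_smul]
  congr 2
  ring

end reflcomm

section adjust

variable {F : Type*} [Field F] [Fintype F] {ι : Type} [Fintype ι] [DecidableEq ι]
  (Q : QuadraticForm F (ι → F))

/-- commuting at the level of endomorphisms gives commuting group elements -/
theorem comm_of_toEnd (s h : ↥(Cfsg.isometryGroup F (⇑Q)))
    (hc : ∀ w, toEnd Q s (toEnd Q h w) = toEnd Q h (toEnd Q s w)) : s * h = h * s := by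
  apply toEnd_injective
  rw [map_mul, map_mul]
  apply LinearMap.ext
  intro w
  exact hc w

/-- the centralizer of an isometry with a large non-degenerate eigenspace covers the quotient of
the isometry group by `Ω` -/
theorem exists_adjust_eigen (h2 : (2 : F) ≠ 0) (hQ : (polarBilin Q).Nondegenerate)
    (hex : Fintype.card F ≠ 2 ∨ Fintype.card ι ≠ 4) (h : ↥(Cfsg.isometryGroup F (⇑Q)))
    (U : Submodule F (ι → F)) (η : F) (hη : η * η = 1) (hU : ∀ u ∈ U, toEnd Q h u = η • u)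
    (hUnd : (polarBilin (Q.comp U.subtype)).Nondegenerate) (hUdim : 2 ≤ finrank F U)
    (H : ↥(Cfsg.isometryGroup F (⇑Q))) :
    ∃ s : ↥(Cfsg.isometryGroup F (⇑Q)), s * h = h * s ∧ s * H ∈ Cfsg.Omega F (⇑Q) := by
  have hAQ : ∀ v, Q (toEnd Q h v) = Q v := toEnd_isometry Q h
  have hrefl : ∀ v ∈ U, Q v ≠ 0 → tG Q v * h = h * tG Q v := by
    intro v hv hv0
    apply comm_of_toEnd
    intro w
    rw [toEnd_tG Q hv0]
    exact refl_comm_of_eigen Q (toEnd Q h) hAQ η hη v (hU v hv) w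
  have hval : ∀ t : F, t ≠ 0 → ∃ v ∈ U, Q v = t := by
    intro t ht
    obtain ⟨v, hv⟩ := exists_repr (Q.comp U.subtype) h2 hUnd hUdim ht
    exact ⟨(v : ι → F), v.2, hv⟩
  apply exists_mul_mem_Omega Q hQ hex (fun s => s * h = h * s) (by rw [one_mul, mul_one])
  · intro a b ha hb
    show a * b * h = h * (a * b)
    rw [mul_assoc, hb, ← mul_assoc, ha, mul_assoc]
  · obtain ⟨v, hvU, hv⟩ := hval 1 one_ne_zero
    have hv0 : Q v ≠ 0 := by rw [hv]; exact one_ne_zero
    exact ⟨v, hv0, hrefl v hvU hv0⟩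
  · intro _ c hc
    obtain ⟨a, haU, ha⟩ := hval 1 one_ne_zero
    obtain ⟨b, hbU, hb⟩ := hval c hc
    have ha0 : Q a ≠ 0 := by rw [ha]; exact one_ne_zero
    have hb0 : Q b ≠ 0 := by rw [hb]; exact hc
    refine ⟨a, b, ha0, hb0, ?_, ?_⟩
    · show tG Q a * tG Q b * h = h * (tG Q a * tG Q b)
      rw [mul_assoc, hrefl b hbU hb0, ← mul_assoc, hrefl a haU ha0, mul_assoc]
    · rw [ha, hb]
      exact ⟨c, by ring⟩

end adjust

section main

variable {F : Type*} [Field F] [Fintype F] {ι : Type} [Fintype ι] [DecidableEq ι]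
  (Q : QuadraticForm F (ι → F))

omit [Fintype F] in
theorem toMatrix'_mulVec (a : Module.End F (ι → F)) (v : ι → F) :
    LinearMap.toMatrix' a *ᵥ v = a v := by
  rw [← Matrix.toLin'_apply, Matrix.toLin'_toMatrix']

omit [Fintype F] in
/-- the matrix of a self-adjoint square root -/
theorem isSARoot_toMatrix' (a : Module.End F (ι → F)) (δ : F) (ha : IsSAEnd Q δ a) :
    IsSARoot (polarBilin Q) δ (LinearMap.toMatrix' a) := by
  refine ⟨?_, ?_⟩
  · apply matrix_eq_of_mulVec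
    intro v
    rw [← Matrix.mulVec_mulVec, toMatrix'_mulVec, toMatrix'_mulVec, ha.sq, Matrix.smul_mulVec,
      Matrix.one_mulVec]
  · intro u v
    rw [toMatrix'_mulVec, toMatrix'_mulVec]
    exact ha.sa u v

/-- an element of the isometry group carrying the generator to a given self-adjoint root -/
theorem exists_transport [Nonempty ι] (h2 : (2 : F) ≠ 0) (hQ : (polarBilin Q).Nondegenerate)
    (hex : Fintype.card F ≠ 2 ∨ Fintype.card ι ≠ 4) (δ : F) (hδ : ¬ IsSquare δ)
    (α : Matrix ι ι F) (hα : IsSARoot (polarBilin Q) δ α) (a : Module.End F (ι → F))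
    (ha : IsSAEnd Q δ a) :
    ∃ H : ↥(Cfsg.isometryGroup F (⇑Q)), ∀ v, toEnd Q H (α *ᵥ v) = a (toEnd Q H v) := by
  obtain ⟨g, hgQ, hg⟩ := exists_isometry_conj h2 Q hQ δ hδ α (LinearMap.toMatrix' a) hα
    (isSARoot_toMatrix' Q a δ ha)
  obtain ⟨H, hH⟩ := exists_toEnd_eq Q hQ hex (g : (ι → F) →ₗ[F] (ι → F)) hgQ
  refine ⟨H, fun v => ?_⟩
  rw [hH]
  show g (α *ᵥ v) = a (g v)
  rw [hg, toMatrix'_mulVec]

/-- the final step -/
theorem finish {K : Subalgebra F (Matrix ι ι F)} {δ : F} {α : Matrix ι ι F}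
    (hQG : IsQuadGen K δ α) (h H s : ↥(Cfsg.isometryGroup F (⇑Q))) (hs : s * h = h * s)
    (hsH : s * H ∈ Cfsg.Omega F (⇑Q)) (a : Module.End F (ι → F)) (ε : F)
    (hε : ε = 1 ∨ ε = -1) (hHα : ∀ v, toEnd Q H (α *ᵥ v) = a (toEnd Q H v))
    (haA : ∀ v, a (toEnd Q h v) = ε • toEnd Q h (a v)) :
    ∃ g ∈ Cfsg.Geo.omegaGL (⇑Q), g⁻¹ * (h : GL ι F) * g ∈ Cfsg.Geo.subalgebraNormalizer K := by
  refine ⟨((s * H : ↥(Cfsg.isometryGroup F (⇑Q))) : GL ι F),
    Cfsg.Agent.Helper17.OmegaElts.coe_mem_omegaGL Q hsH, ?_⟩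
  have e : (s * H)⁻¹ * h * (s * H) = H⁻¹ * h * H := by
    calc (s * H)⁻¹ * h * (s * H) = H⁻¹ * (s⁻¹ * (h * s)) * H := by group
      _ = H⁻¹ * (s⁻¹ * (s * h)) * H := by rw [hs]
      _ = H⁻¹ * h * H := by group
  have h1 := conj_mem_normalizer Q hQG h H a ε hε hHα haA
  rw [← e] at h1
  exact h1

/-- **sufficiency**: every non-scalar element of `Ω` with scalar square is conjugate under `Ω`
into the normalizer of the quadratic field subalgebra -/
theorem sufficient [Nonempty ι] (h2 : (2 : F) ≠ 0) (hQ : (polarBilin Q).Nondegenerate)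
    (hex : Fintype.card F ≠ 2 ∨ Fintype.card ι ≠ 4) {K : Subalgebra F (Matrix ι ι F)} {δ : F}
    {α : Matrix ι ι F} (hQG : IsQuadGen K δ α) (hα : IsSARoot (polarBilin Q) δ α)
    (x : GL ι F) (hx : x ∈ Cfsg.Geo.omegaGL (⇑Q))
    (hsq : ∃ z : F, ((x ^ 2 : GL ι F) : Matrix ι ι F) = z • (1 : Matrix ι ι F)) :
    ∃ g ∈ Cfsg.Geo.omegaGL (⇑Q), g⁻¹ * x * g ∈ Cfsg.Geo.subalgebraNormalizer K := by
  classical
  obtain ⟨h, hhΩ, rfl⟩ := (Cfsg.Agent.Helper17.OmegaElts.mem_omegaGL_iff Q x).1 hx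
  obtain ⟨z, hz⟩ := hsq
  have hz' := (toEnd_sq_eq_iff Q h z).1 hz
  have hκ0 : 0 < Fintype.card ι := Fintype.card_pos
  have hAQ : ∀ v, Q (toEnd Q h v) = Q v := toEnd_isometry Q h
  have hAAQ : ∀ v, Q ((toEnd Q h * toEnd Q h) v) = Q v := by
    intro v
    rw [Module.End.mul_apply, hAQ, hAQ]
  have hzz := scalar_sq_of_isom Q hQ hκ0 _ hAAQ z hz'
  have hδ : ¬ IsSquare δ := hQG.nonsq
  have hδ0 : δ ≠ 0 := hQG.delta_ne_zero
  -- the dimension is even
  obtain ⟨m, hm⟩ : ∃ m, Fintype.card ι = 2 * m := by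
    have hK := isFieldSubalgebra_of_quadGen hQG
    haveI := isFld_of (by norm_num) hK
    exact ⟨_, (finrank_mul hK).symm⟩
  have hfin : finrank F (ι → F) = 2 * m := by rw [Module.finrank_fintype_fun_eq_card, hm]
  have h4 : (z - 1) * (z + 1) = 0 := by linear_combination hzz
  rcases mul_eq_zero.1 h4 with h5 | h5
  · -- involutions
    have hsq1 : toEnd Q h * toEnd Q h = 1 := by
      rw [hz', sub_eq_zero.1 h5, one_smul]
    obtain ⟨k, hk, -⟩ := type_Vm_of_mem_Omega Q h2 hQ h hhΩ hsq1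
    have hsum := finrank_Vp_add (A := toEnd Q h) h2 hsq1
    rw [hfin] at hsum
    obtain ⟨a, ha, hcomm⟩ := exists_saEnd_comm_of_invol h2 Q hQ (toEnd Q h) hsq1 hAQ (m - k) k
      (by omega) (by omega) δ hδ0
    obtain ⟨H, hH⟩ := exists_transport Q h2 hQ hex δ hδ α hα a ha
    have hadj : ∃ s : ↥(Cfsg.isometryGroup F (⇑Q)), s * h = h * s ∧
        s * H ∈ Cfsg.Omega F (⇑Q) := by
      by_cases hk0 : k = 0
      · apply exists_adjust_eigen Q h2 hQ hex h (Vp (toEnd Q h)) 1 (one_mul 1) _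
          (nondeg_Vp h2 hsq1 hAQ hQ) (by omega)
        intro u hu
        rw [mem_Vp.1 hu, one_smul]
      · apply exists_adjust_eigen Q h2 hQ hex h (Vm (toEnd Q h)) (-1) (by ring) _
          (nondeg_Vm h2 hsq1 hAQ hQ) (by omega)
        intro u hu
        rw [mem_Vm.1 hu, neg_one_smul]
    obtain ⟨s, hs, hsH⟩ := hadj
    exact finish Q hQG h H s hs hsH a 1 (Or.inl rfl) hH (fun v => by rw [one_smul, hcomm])
  · -- square `-1`
    have hsqm : toEnd Q h * toEnd Q h = -1 := by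
      rw [hz', eq_neg_of_add_eq_zero_left h5]
      exact neg_one_smul_one_end
    obtain ⟨a, a', e, ha, ha', haA, ha'A, he, hrefl⟩ := exists_saEnd_anti_of_cplx h2 Q hQ
      (toEnd Q h) hsqm hAQ δ hδ0 (by rw [hfin]; omega)
    have he0 : Q e ≠ 0 := by rw [he]; exact one_ne_zero
    obtain ⟨H, hH⟩ := exists_transport Q h2 hQ hex δ hδ α hα a ha
    obtain ⟨vs, hvs, hHvs⟩ := exists_prod_tG Q hQ hex H
    have hP1 : (1 : ↥(Cfsg.isometryGroup F (⇑Q))) * h = h * 1 := by rw [one_mul, mul_one]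
    have hpairs : (2 : F) ≠ 0 → ∀ c : F, c ≠ 0 → ∃ u w : ι → F, Q u ≠ 0 ∧ Q w ≠ 0 ∧
        (tG Q u * tG Q w) * h = h * (tG Q u * tG Q w) ∧ IsSquare (Q u * Q w * c) := by
      intro _ c hc
      obtain ⟨w, hw, hwc⟩ := exists_pair_comm_cplx h2 Q (toEnd Q h) hsqm hAQ e he c hc
      have hw0 : Q w ≠ 0 := by rw [hw]; exact hc
      refine ⟨e, w, he0, hw0, ?_, ?_⟩
      · apply comm_of_toEnd
        intro v
        rw [Cfsg.Agent.Helper17.OmegaElts.toEnd_tG_mul_tG Q he0 hw0,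
          Cfsg.Agent.Helper17.OmegaElts.toEnd_tG_mul_tG Q he0 hw0]
        exact hwc v
      · rw [he, hw]
        exact ⟨c, by ring⟩
    rcases Nat.even_or_odd vs.length with hev | hod
    · obtain ⟨s, hs, hsH⟩ := exists_mul_mem_Omega_of_even Q hQ hex (fun s => s * h = h * s) hP1
        hpairs vs hvs hev
      rw [← hHvs] at hsH
      exact finish Q hQG h H s hs hsH a (-1) (Or.inr rfl) hH
        (fun v => by rw [neg_one_smul, haA])
    · have hvs' : ∀ v ∈ e :: vs, Q v ≠ 0 := by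
        intro v hv
        rcases List.mem_cons.1 hv with rfl | hv
        · exact he0
        · exact hvs v hv
      have hev' : Even (e :: vs).length := by
        rw [List.length_cons]
        exact Nat.even_add_one.2 (Nat.not_even_iff_odd.2 hod)
      obtain ⟨s, hs, hsH⟩ := exists_mul_mem_Omega_of_even Q hQ hex (fun s => s * h = h * s) hP1
        hpairs (e :: vs) hvs' hev'
      rw [List.map_cons, List.prod_cons, ← hHvs] at hsH
      refine finish Q hQG h (tG Q e * H) s hs hsH a' (-1) (Or.inr rfl) ?_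
        (fun v => by rw [neg_one_smul, ha'A])
      intro v
      rw [map_mul, Module.End.mul_apply, Module.End.mul_apply, hH, toEnd_tG Q he0, hrefl]

end main

end Cfsg.Agent.Helper17.OrthC3
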