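import Mathlib
import Cfsg.Agent.Lib.Helper17.OrthC3D
import Cfsg.Agent.Lib.Helper17.SpinorIndex
import Cfsg.Agent.Lib.Helper13.IsomTransfer
import Cfsg.Agent.Lib.Helper28.BGS5

/-!
# The orthogonal group over the quadratic field inside the normalizer of the field subalgebra
(helper17)
-/

set_option autoImplicit false
set_option linter.style.haveILetI false
set_option linter.unusedSectionVars false
set_option maxHeartbeats 1600000

namespace Cfsg.Agent.Helper17.OrthC3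

open Matrix Module QuadraticMap Cfsg.Agent.Helper28.BGS Cfsg.Agent.Helper28.BGU
  Cfsg.Agent.Helper17.Spinor

section embed

variable {F : Type*} [Field F] [Fintype F] {ι : Type} [Fintype ι] [DecidableEq ι]
variable {K : Subalgebra F (Matrix ι ι F)} [IsFld K]
variable {B : LinearMap.BilinForm F (ι → F)}

/-- the quadratic form over the field in the coordinates of a basis -/
noncomputable def QKc (hS : SymForm K B) (φ : ↥K →ₗ[F] F) (hφ : φ ≠ 0) {d : ℕ}
    (b : Basis (Fin d) ↥K (ι → F)) : QuadraticForm ↥K (Fin d → ↥K) :=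
  (QK hS φ hφ).comp (b.equivFun.symm : (Fin d → ↥K) →ₗ[↥K] (ι → F))

theorem QKc_apply (hS : SymForm K B) (φ : ↥K →ₗ[F] F) (hφ : φ ≠ 0) {d : ℕ}
    (b : Basis (Fin d) ↥K (ι → F)) (w : Fin d → ↥K) :
    QKc hS φ hφ b w = BLs hS φ hφ (b.equivFun.symm w) (b.equivFun.symm w) := rfl

/-- the value of the form over the ground field from the form over the field -/
theorem Q_eq_phi (h2 : (2 : F) ≠ 0) (Q : QuadraticForm F (ι → F))
    (hS : SymForm K (polarBilin Q)) (φ : ↥K →ₗ[F] F) (hφ : φ ≠ 0) (u : ι → F) :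
    Q u = (2 : F)⁻¹ * φ (BLs hS φ hφ u u) := by
  rw [phi_BLs]
  show Q u = (2 : F)⁻¹ * polar Q u u
  rw [polar_self, nsmul_eq_mul]
  push_cast
  field_simp

/-- the orthogonal group over the field embeds into the isometry group over the ground field,
with image in the normalizer of the field subalgebra -/
theorem exists_embedding (h2 : (2 : F) ≠ 0) (Q : QuadraticForm F (ι → F))
    (hS : SymForm K (polarBilin Q)) (φ : ↥K →ₗ[F] F) (hφ : φ ≠ 0) {d : ℕ}
    (b : Basis (Fin d) ↥K (ι → F)) :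
    ∃ Φ : ↥(Cfsg.isometryGroup ↥K ⇑(QKc hS φ hφ b)) →* ↥(Cfsg.isometryGroup F ⇑Q),
      Function.Injective Φ ∧
      ∀ g, ((Φ g : ↥(Cfsg.isometryGroup F ⇑Q)) : GL ι F) ∈ Cfsg.Geo.subalgebraNormalizer K := by
  classical
  set e : (Fin d → ↥K) ≃ₗ[F] (ι → F) := b.equivFun.symm.restrictScalars F with he
  set ρ : ↥(Cfsg.isometryGroup ↥K ⇑(QKc hS φ hφ b)) →
      (Fin d → ↥K) →ₗ[F] (Fin d → ↥K) :=
    fun g => (Matrix.toLin' ((g : GL (Fin d) ↥K) : Matrix (Fin d) (Fin d) ↥K)).restrictScalars F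
    with hρ
  have hρa : ∀ g v, ρ g v = ((g : GL (Fin d) ↥K) : Matrix (Fin d) (Fin d) ↥K) *ᵥ v := by
    intro g v
    rfl
  have hea : ∀ w, e w = b.equivFun.symm w := fun w => rfl
  have hesa : ∀ u, e.symm u = b.equivFun u := fun u => rfl
  obtain ⟨Φ, hΦ⟩ := Cfsg.Agent.Helper13.exists_hom_isometry
    (G := ↥(Cfsg.isometryGroup ↥K ⇑(QKc hS φ hφ b))) (V := Fin d → ↥K) ρ
    (by
      intro v
      rw [hρa]
      simp)
    (by
      intro g h v
      rw [hρa, hρa, hρa, Matrix.mulVec_mulVec]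
      rfl)
    e ⇑Q
    (by
      intro g v
      rw [Q_eq_phi h2 Q hS φ hφ, Q_eq_phi h2 Q hS φ hφ, hea, hea, ← QKc_apply, ← QKc_apply, hρa]
      congr 2
      exact (Cfsg.Agent.Helper13.mem_isometryGroup_iff _ _).1 g.2 v)
  refine ⟨Φ, ?_, ?_⟩
  · rw [injective_iff_map_eq_one]
    intro g hg
    apply Subtype.ext
    apply Units.ext
    apply Matrix.toLin'.injective
    apply LinearMap.ext
    intro v
    have h1 := hΦ g (e v)
    rw [hg, LinearEquiv.symm_apply_apply] at h1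
    have h3 : e v = e (ρ g v) := by
      rw [← h1]
      simp
    have h4 := e.injective h3
    rw [hρa] at h4
    rw [Matrix.toLin'_apply, ← h4]
    simp
  · intro g
    apply mem_normalizer_of_comm
    intro a ha
    apply matrix_eq_of_mulVec
    intro v
    rw [← Matrix.mulVec_mulVec, ← Matrix.mulVec_mulVec, hΦ, hΦ, hesa, hesa, hea, hea]
    have e1 : a *ᵥ v = (⟨a, ha⟩ : ↥K) • v := rfl
    have e2 : ∀ u : ι → F, a *ᵥ u = (⟨a, ha⟩ : ↥K) • u := fun u => rfl
    rw [e1, e2, map_smul, hρa, hρa, Matrix.mulVec_smul, map_smul]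

/-- a divisor of the index of the normalizer in `Ω` times the order of the orthogonal group over
the field divides the order of the orthogonal group -/
theorem mul_card_dvd_card (h2 : (2 : F) ≠ 0) (Q : QuadraticForm F (ι → F))
    (hQ : (polarBilin Q).Nondegenerate)
    (hS : SymForm K (polarBilin Q)) (φ : ↥K →ₗ[F] F) (hφ : φ ≠ 0) {d : ℕ}
    (b : Basis (Fin d) ↥K (ι → F)) (hn : 2 ≤ Fintype.card ι) (r : ℕ)
    (hr : r ∣ (Cfsg.Geo.subalgebraNormalizer K).relIndex (Cfsg.Geo.omegaGL ⇑Q)) :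
    r * Nat.card ↥(Cfsg.isometryGroup ↥K ⇑(QKc hS φ hφ b)) ∣
      Nat.card ↥(Cfsg.isometryGroup F ⇑Q) := by
  classical
  obtain ⟨Φ, hinj, hN⟩ := exists_embedding h2 Q hS φ hφ b
  set Ω' : Subgroup ↥(Cfsg.isometryGroup F ⇑Q) := Cfsg.Omega F ⇑Q with hΩ'
  set N' : Subgroup ↥(Cfsg.isometryGroup F ⇑Q) :=
    (Cfsg.Geo.subalgebraNormalizer K).comap (Cfsg.isometryGroup F ⇑Q).subtype with hN'
  set C' : Subgroup ↥(Cfsg.isometryGroup F ⇑Q) := Φ.range with hC'
  have hCN : C' ≤ N' := by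
    rintro _ ⟨g, rfl⟩
    exact hN g
  have hcardC : Nat.card ↥C' = Nat.card ↥(Cfsg.isometryGroup ↥K ⇑(QKc hS φ hφ b)) :=
    (Nat.card_congr (MonoidHom.ofInjective hinj).toEquiv).symm
  have hrel : N'.relIndex Ω' =
      (Cfsg.Geo.subalgebraNormalizer K).relIndex (Cfsg.Geo.omegaGL ⇑Q) := by
    rw [hN', Subgroup.relIndex_comap]
    rfl
  have hΩ4 : Ω'.index = 4 := index_Omega Q h2 hQ hn
  have E1 : Nat.card ↥Ω' * 4 = Nat.card ↥(Cfsg.isometryGroup F ⇑Q) := by
    rw [← hΩ4]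
    exact Subgroup.card_mul_index Ω'
  have E2 : Nat.card ↥(N' ⊓ Ω') * N'.relIndex Ω' = Nat.card ↥Ω' := by
    rw [← Subgroup.inf_relIndex_right, ← Subgroup.relIndex_bot_left (H := N' ⊓ Ω'),
      Subgroup.relIndex_mul_relIndex _ _ _ bot_le inf_le_right, Subgroup.relIndex_bot_left]
  have E3 : Nat.card ↥(C' ⊓ Ω') ∣ Nat.card ↥(N' ⊓ Ω') :=
    Subgroup.card_dvd_of_le (inf_le_inf_right _ hCN)
  have E4 : Nat.card ↥(Ω' ⊓ C') * Ω'.relIndex C' = Nat.card ↥C' := by
    rw [← Subgroup.inf_relIndex_right, ← Subgroup.relIndex_bot_left (H := Ω' ⊓ C'),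
      Subgroup.relIndex_mul_relIndex _ _ _ bot_le inf_le_right, Subgroup.relIndex_bot_left]
  have E5 : Ω'.relIndex C' ∣ 4 := by
    rw [← hΩ4]
    exact Subgroup.relIndex_dvd_index_of_normal Ω' C'
  rw [hrel] at E2
  obtain ⟨r', hr'⟩ := hr
  obtain ⟨t', ht'⟩ := E5
  obtain ⟨u, hu⟩ := E3
  rw [inf_comm] at E4
  refine ⟨t' * r' * u, ?_⟩
  rw [← hcardC, ← E4, ← E1, ← E2, hu, hr', ht']
  ring

end embed

end Cfsg.Agent.Helper17.OrthC3
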