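import Mathlib
import Cfsg.Agent.Lib.Helper17.OrthC3E
import Cfsg.Agent.Lib.Helper13.OrthTy8

/-!
# The type of the quadratic space over the quadratic field (helper17)
-/

set_option autoImplicit false
set_option linter.style.haveILetI false
set_option linter.unusedSectionVars false
set_option maxHeartbeats 1600000

namespace Cfsg.Agent.Helper17.OrthC3

open Matrix Module QuadraticMap Cfsg.Agent.Helper28.BGS Cfsg.Agent.Helper28.BGU
  Cfsg.Agent.Helper13.OrthSS Cfsg.Agent.Helper13.OrthTy

section transfer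

variable {F : Type*} [Field F] [Fintype F] {ι : Type} [Fintype ι] [DecidableEq ι]
variable {K : Subalgebra F (Matrix ι ι F)} [IsFld K] {δ : F} {α : Matrix ι ι F}

/-- the elements of the ground field are squares in the quadratic field -/
theorem isSquare_algebraMap (hodd : Odd (Fintype.card F)) (h : IsQuadGen K δ α) (x : F) :
    IsSquare (algebraMap F ↥K x) := by
  by_cases hx : IsSquare x
  · obtain ⟨y, rfl⟩ := hx
    exact ⟨algebraMap F ↥K y, map_mul _ _ _⟩
  · obtain ⟨e, -, he⟩ := exists_sq_mul_of_not_isSquare hodd hx h.nonsq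
    refine ⟨e • (⟨α, h.mem⟩ : ↥K), ?_⟩
    apply Subtype.ext
    show (algebraMap F (Matrix ι ι F) x) = (e • α) * (e • α)
    rw [smul_mul_assoc, mul_smul_comm, h.sq, smul_smul, smul_smul,
      Algebra.algebraMap_eq_smul_one, he]

theorem isSquare_sq_mul_iff {L : Type*} [Field L] (w c : L) (hw : w ≠ 0) :
    IsSquare (w * w * c) ↔ IsSquare c := by
  constructor
  · rintro ⟨z, hz⟩
    refine ⟨z / w, ?_⟩
    field_simp
    linear_combination hz
  · rintro ⟨z, rfl⟩
    exact ⟨w * z, by ring⟩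

/-- in even dimension over the quadratic field, the types over the field and over the ground
field agree -/
theorem isHyp_QK_iff (hodd : Odd (Fintype.card F)) (h2 : (2 : F) ≠ 0) (hQG : IsQuadGen K δ α)
    (Q : QuadraticForm F (ι → F)) (hQ : (polarBilin Q).Nondegenerate)
    (hS : SymForm K (polarBilin Q)) (e : ℕ) (hcard : Fintype.card ι = 2 * (2 * (e + 1))) :
    IsHyp (QK hS (qgPhi hQG) (qgPhi_ne_zero hQG)) ↔ IsHyp Q := by
  classical
  haveI : Fintype ↥K := Fintype.ofFinite ↥K
  haveI : FiniteDimensional ↥K (ι → F) := FiniteDimensional.right F ↥K (ι → F)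
  have hK := isFieldSubalgebra_of_quadGen hQG
  have hδ0 : δ ≠ 0 := hQG.delta_ne_zero
  have hfin : finrank ↥K (ι → F) = (2 * e + 1) + 1 := by
    have := finrank_mul hK
    omega
  obtain ⟨s₀, t₀, hst⟩ := Cfsg.Agent.Helper13.exists_binary_one h2 δ⁻¹ (-1)
    (inv_ne_zero hδ0) (neg_ne_zero.2 one_ne_zero)
  have hν : s₀ * s₀ - δ * (t₀ * t₀) = δ := by
    field_simp at hst
    linear_combination hst
  have hνns : ¬ IsSquare (s₀ * s₀ - δ * (t₀ * t₀)) := by rw [hν]; exact hQG.nonsq
  obtain ⟨b, s, t, hcase, horth, hone, hlast⟩ :=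
    exists_std_basis h2 hQG hS s₀ t₀ hνns (2 * e + 1) hfin
  have h2K := two_ne_zero_fld (K := K) h2
  set φ := qgPhi hQG with hφd
  have hφ : φ ≠ 0 := qgPhi_ne_zero hQG
  -- the side of the field
  have hK1 := isHyp_iff_gram h2K (QK hS φ hφ) (QK_nondeg h2 hS φ hφ) b (e + 1)
    (by rw [Fintype.card_fin]; ring)
  set c := BLs hS φ hφ (b (Fin.last (2 * e + 1))) (b (Fin.last (2 * e + 1))) with hc
  have horth' : ∀ i j, i ≠ j → polar (QK hS φ hφ) (b i) (b j) = 0 := by
    intro i j hij
    rw [polar_QK, horth i j hij, mul_zero]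
  have hdetK : (Matrix.of fun i j => polar (QK hS φ hφ) (b i) (b j)).det =
      2 ^ (2 * e + 1 + 1) * c := by
    rw [Cfsg.Agent.Helper13.gram_det_orth (QK hS φ hφ) b horth', Fin.prod_univ_castSucc]
    have h1 : ∀ i : Fin (2 * e + 1), 2 * QK hS φ hφ (b (Fin.castSucc i)) = 2 := by
      intro i
      rw [QK_apply, hone _ (by have := i.2; simp; omega), mul_one]
    simp only [h1]
    rw [Finset.prod_const, Finset.card_univ, Fintype.card_fin, QK_apply, ← hc]
    ring
  obtain ⟨w, hw⟩ := isSquare_algebraMap hodd hQG ((-1) ^ (e + 1) * 2 ^ (2 * e + 1 + 1))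
  have hw0 : w ≠ 0 := by
    rintro rfl
    rw [mul_zero] at hw
    have h3 : ((-1 : F) ^ (e + 1) * 2 ^ (2 * e + 1 + 1)) = 0 :=
      (map_eq_zero_iff _ (algebraMap F ↥K).injective).1 hw
    exact (mul_ne_zero (pow_ne_zero _ (neg_ne_zero.2 one_ne_zero)) (pow_ne_zero _ h2)) h3
  have hKside : IsHyp (QK hS φ hφ) ↔ IsSquare c := by
    rw [hK1, hdetK, ← isSquare_sq_mul_iff w c hw0, ← hw]
    simp only [map_mul, map_pow, map_neg, map_one, map_ofNat]
    rw [mul_assoc]
  -- the side of the ground field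
  set 𝔅 := (qgBasis hQG).smulTower b with h𝔅
  have hF1 := isHyp_iff_gram h2 Q hQ 𝔅 (2 * e + 1 + 1)
    (by rw [Fintype.card_prod, Fintype.card_fin, Fintype.card_fin])
  have hgram : (Matrix.of fun x y => polar Q (𝔅 x) (𝔅 y)) = Matrix.blockDiagonal
      (fun j : Fin (2 * e + 1 + 1) => gblock δ (if j = Fin.last (2 * e + 1) then s else 1)
        (if j = Fin.last (2 * e + 1) then t else 0)) := by
    ext x y
    rw [Matrix.of_apply]
    refine gram_smulTower hQG hS (2 * e + 1) b (fun j => if j = Fin.last (2 * e + 1) then s else 1)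
      (fun j => if j = Fin.last (2 * e + 1) then t else 0) horth ?_ x y
    intro j
    by_cases hj : j = Fin.last (2 * e + 1)
    · subst hj
      simp only [if_true]
      exact hlast
    · simp only [if_neg hj]
      have hj' : (j : ℕ) + 1 < 2 * e + 1 + 1 := by
        have := j.2
        have hne : (j : ℕ) ≠ 2 * e + 1 := fun h => hj (Fin.ext (by rw [h, Fin.val_last]))
        omega
      rw [hone j hj', one_smul, zero_smul, add_zero]
      rfl
  have hFside : IsHyp Q ↔ IsSquare (s * s - δ * (t * t)) := by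
    have hev : Even (2 * e + 1 + 1) := ⟨e + 1, by ring⟩
    have : δ ^ (2 * e + 1 + 1) = δ ^ (e + 1) * δ ^ (e + 1) := by rw [← pow_add]; congr 1; ring
    rw [hF1, hgram, det_gramBlocks, hev.neg_one_pow, one_mul, this]
    exact isSquare_sq_mul_iff (δ ^ (e + 1)) _ (pow_ne_zero _ hδ0)
  rw [hKside, hFside]
  rcases hcase with ⟨hs, ht⟩ | ⟨hs, ht⟩
  · rw [hs, ht] at hlast ⊢
    have hc1 : c = 1 := by
      apply Subtype.ext
      rw [hlast, one_smul, zero_smul, add_zero]
      rfl
    rw [hc1]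
    have : (1 : F) * 1 - δ * (0 * 0) = 1 := by ring
    rw [this]
    exact iff_of_true ⟨1, (mul_one 1).symm⟩ ⟨1, (mul_one 1).symm⟩
  · rw [hs, ht] at hlast ⊢
    exact iff_of_false (not_isSquare_pair hQG s₀ t₀ hνns c hlast) hνns

end transfer

end Cfsg.Agent.Helper17.OrthC3
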