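import Mathlib
import Cfsg.Agent.Lib.Helper17.OrthC3I
import Cfsg.Agent.Lib.Helper17.OrthC3J
import Cfsg.Agent.Lib.Helper28.BGO9

/-!
# The primes dividing the index of the normalizer of the quadratic field subalgebra in `Ω`
(helper17)
-/

set_option autoImplicit false
set_option linter.style.haveILetI false
set_option linter.unusedSectionVars false
set_option maxHeartbeats 1600000

namespace Cfsg.Agent.Helper17.OrthC3

open Matrix Module QuadraticMap Cfsg.Agent.Helper28.BGS Cfsg.Agent.Helper28.BGU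
  Cfsg.Agent.Helper28.BGO Cfsg.Agent.Helper13.OrthSS Cfsg.Agent.Helper17.Spinor

section arith

theorem evProd_two_mul (q e : ℕ) :
    evProd q (2 * e) = evProd (q ^ 2) e * oddProd (q ^ 2) e ∧
    evProd q (2 * e + 1) = evProd (q ^ 2) e * oddProd (q ^ 2) (e + 1) := by
  induction e with
  | zero =>
    constructor
    · simp [evProd, oddProd]
    · simp [evProd, oddProd]
  | succ e ih =>
    have h1 : 2 * (e + 1) = 2 * e + 1 + 1 := by ring
    have e1 : (q ^ 2) ^ (2 * (e + 1)) = q ^ (2 * (2 * e + 1 + 1)) := by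
      ring
    have e2 : (q ^ 2) ^ (2 * e + 1) = q ^ (2 * (2 * e + 1)) := by
      rw [← pow_mul]
    have e3 : (q ^ 2) ^ (2 * (e + 1) + 1) = q ^ (2 * (2 * e + 1 + 1 + 1)) := by
      ring
    have hA : evProd q (2 * (e + 1)) = evProd (q ^ 2) (e + 1) * oddProd (q ^ 2) (e + 1) := by
      rw [h1, evProd_succ, ih.2, evProd_succ (q ^ 2), e1]
      ring
    refine ⟨hA, ?_⟩
    have h2 : 2 * (e + 1) + 1 = 2 * (e + 1) + 1 := rfl
    rw [evProd_succ, hA, oddProd_succ (q ^ 2) (e + 1), e3]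
    have : 2 * (2 * (e + 1) + 1) = 2 * (2 * e + 1 + 1 + 1) := by ring
    rw [this]
    ring

theorem dvd_oddProd_lt (q m r : ℕ) (hr : r.Prime) (h : r ∣ oddProd q m) :
    ∃ j, j < m ∧ r ∣ q ^ (2 * j + 1) - 1 := by
  unfold oddProd at h
  obtain ⟨j, hj1, hj⟩ := (Prime.dvd_finsetProd_iff hr.prime _).1 h
  exact ⟨j, Finset.mem_range.1 hj1, hj⟩

end arith

section orders

variable {F : Type*} [Field F] [Fintype F] {ι : Type} [Fintype ι] [DecidableEq ι]

/-- the order of the isometry group of an even-dimensional non-degenerate quadratic space -/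
theorem card_isom_gen (Q : QuadraticForm F (ι → F)) (hQ : (polarBilin Q).Nondegenerate)
    (k : ℕ) (hcard : Fintype.card ι = 2 * (k + 1)) :
    (IsHyp Q → Nat.card ↥(Cfsg.isometryGroup F ⇑Q) =
      2 * Fintype.card F ^ ((k + 1) * k) * (Fintype.card F ^ (k + 1) - 1) *
        evProd (Fintype.card F) k) ∧
    (¬ IsHyp Q → Nat.card ↥(Cfsg.isometryGroup F ⇑Q) =
      2 * Fintype.card F ^ ((k + 1) * k) * (Fintype.card F ^ (k + 1) + 1) *
        evProd (Fintype.card F) k) := by
  classical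
  have hcard' : Fintype.card ι = Fintype.card (Fin (2 * (k + 1))) := by
    rw [Fintype.card_fin, hcard]
  set σ : ι ≃ Fin (2 * (k + 1)) := Fintype.equivOfCardEq hcard' with hσ
  set g : (ι → F) ≃ₗ[F] (Fin (2 * (k + 1)) → F) := LinearEquiv.funCongrLeft F F σ.symm with hg
  set Q₂ : QuadraticForm F (Fin (2 * (k + 1)) → F) :=
    Q.comp (g.symm : (Fin (2 * (k + 1)) → F) →ₗ[F] (ι → F)) with hQ₂d
  have he : ∀ v, Q₂ (g v) = Q v := by
    intro v
    rw [hQ₂d, QuadraticMap.comp_apply]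
    simp
  have hQ₂ : (polarBilin Q₂).Nondegenerate :=
    Cfsg.Agent.Helper13.OrthTs.nondeg_comp_equiv Q hQ g.symm
  have hiff : IsHyp Q ↔ IsHyp Q₂ := isHyp_iff_of_equiv g he
  obtain ⟨ψ⟩ := Cfsg.Agent.Helper23.Orth.nonempty_iso_of_equiv (⇑Q) (⇑Q₂) g he
  rw [Nat.card_congr ψ.toEquiv]
  constructor
  · intro hh
    exact card_isom_plus Q₂ hQ₂ k rfl (hiff.1 hh)
  · intro hh
    exact card_isom_minus Q₂ hQ₂ k rfl (fun h => hh (hiff.2 h))

end orders

section index

variable {F : Type*} [Field F] [Fintype F] {ι : Type} [Fintype ι] [DecidableEq ι]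
variable {K : Subalgebra F (Matrix ι ι F)} {δ : F} {α : Matrix ι ι F}

omit [Fintype F] in
/-- the form hypotheses from the generator data -/
theorem symForm_of_quadGen (Q : QuadraticForm F (ι → F)) (hQ : (polarBilin Q).Nondegenerate)
    (hQG : IsQuadGen K δ α) (hα : IsSARoot (polarBilin Q) δ α) :
    SymForm K (polarBilin Q) := by
  refine ⟨?_, ?_, ?_⟩
  · intro k hk u v
    obtain ⟨a, b, rfl⟩ := hQG.gen k hk
    rw [Matrix.add_mulVec, Matrix.add_mulVec, Matrix.smul_mulVec, Matrix.smul_mulVec,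
      Matrix.smul_mulVec, Matrix.smul_mulVec, Matrix.one_mulVec, Matrix.one_mulVec, map_add,
      map_add, LinearMap.add_apply, map_smul, map_smul, LinearMap.smul_apply,
      LinearMap.smul_apply, map_smul, map_smul, hα.sa]
  · intro u v
    exact polar_comm Q u v
  · intro u hu
    exact hQ.1 u hu

/-- the common part of the computation: the quotient of the orders -/
theorem dvd_of_card_eq (r M N Y : ℕ) (hM : 0 < M) (hdiv : r * M ∣ N) (hN : N = M * Y) : r ∣ Y := by
  rw [hN, mul_comm r M] at hdiv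
  exact Nat.dvd_of_mul_dvd_mul_left hM hdiv

/-- the odd primes dividing the index of the normalizer of the field subalgebra in `Ω` -/
theorem prime_dvd_relIndex (hodd : Odd (Fintype.card F)) (Q : QuadraticForm F (ι → F))
    (hQ : (polarBilin Q).Nondegenerate) (hQG : IsQuadGen K δ α)
    (hα : IsSARoot (polarBilin Q) δ α) (d : ℕ) (hd : 2 ≤ d) (hcard : Fintype.card ι = 2 * d)
    (r : ℕ) (hr : r.Prime)
    (hΩ : r ∣ (Cfsg.Geo.subalgebraNormalizer K).relIndex (Cfsg.Geo.omegaGL ⇑Q)) :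
    r ∣ Fintype.card F ∨
      (∃ j, 2 * j + 1 < d ∧ r ∣ (Fintype.card F ^ 2) ^ (2 * j + 1) - 1) ∨
      (Odd d ∧ IsHyp Q ∧ r ∣ Fintype.card F ^ d - 1) ∨
      (Odd d ∧ ¬ IsHyp Q ∧ r ∣ Fintype.card F ^ d + 1) := by
  classical
  have h2 : (2 : F) ≠ 0 := two_ne_zero_of_odd hodd
  have hK := isFieldSubalgebra_of_quadGen hQG
  haveI := isFld_of (by norm_num) hK
  haveI : Fintype ↥K := Fintype.ofFinite ↥K
  haveI : FiniteDimensional ↥K (ι → F) := FiniteDimensional.right F ↥K (ι → F)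
  have hS := symForm_of_quadGen Q hQ hQG hα
  have h2K := two_ne_zero_fld (K := K) h2
  have hcardK : Fintype.card ↥K = Fintype.card F ^ 2 := by
    rw [Module.card_eq_pow_finrank (K := F) (V := ↥K), hK.finrank_eq]
  have hφ : qgPhi hQG ≠ 0 := qgPhi_ne_zero hQG
  have hfm := finrank_mul hK
  rcases Nat.even_or_odd' d with ⟨e, rfl | rfl⟩
  · -- even `d`
    obtain ⟨e', rfl⟩ : ∃ e', e = e' + 1 := ⟨e - 1, by omega⟩
    have hfin : finrank ↥K (ι → F) = 2 * (e' + 1) := by omega
    set b : Basis (Fin (2 * (e' + 1))) ↥K (ι → F) :=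
      Module.finBasisOfFinrankEq ↥K (ι → F) hfin with hb
    have hQ' : (polarBilin (QKc hS (qgPhi hQG) hφ b)).Nondegenerate :=
      Cfsg.Agent.Helper13.OrthTs.nondeg_comp_equiv (QK hS (qgPhi hQG) hφ)
        (QK_nondeg h2 hS (qgPhi hQG) hφ) b.equivFun.symm
    have hQ'hyp : IsHyp (QKc hS (qgPhi hQG) hφ b) ↔ IsHyp (QK hS (qgPhi hQG) hφ) :=
      isHyp_iff_of_equiv b.equivFun.symm (fun v => rfl)
    have htrans := isHyp_QK_iff hodd h2 hQG Q hQ hS e' hcard
    have hdiv := mul_card_dvd_card h2 Q hQ hS (qgPhi hQG) hφ b (by omega) r hΩ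
    have hpos : 0 < Nat.card ↥(Cfsg.isometryGroup ↥K ⇑(QKc hS (qgPhi hQG) hφ b)) := Nat.card_pos
    obtain ⟨hFp, hFm⟩ := card_isom_gen Q hQ (2 * e' + 1) (by rw [hcard]; ring)
    have e1 : Fintype.card F ^ (2 * e' + 1 + 1) = (Fintype.card F ^ 2) ^ (e' + 1) := by ring
    have e2 : Fintype.card F ^ ((2 * e' + 1 + 1) * (2 * e' + 1)) =
        (Fintype.card F ^ 2) ^ ((e' + 1) * e') * Fintype.card F ^ (2 * (e' + 1) * (e' + 1)) := by
      ring
    have hY : r ∣ Fintype.card F ^ (2 * (e' + 1) * (e' + 1)) *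
        oddProd (Fintype.card F ^ 2) (e' + 1) := by
      by_cases hh : IsHyp Q
      · have hK' := card_isom_plus (QKc hS (qgPhi hQG) hφ b) hQ' e' rfl
          (hQ'hyp.2 (htrans.2 hh))
        apply dvd_of_card_eq r _ _ _ hpos hdiv
        rw [hFp hh, hK', hcardK, (evProd_two_mul (Fintype.card F) e').2, e1, e2]
        ring
      · have hK' := card_isom_minus (QKc hS (qgPhi hQG) hφ b) hQ' e' rfl
          (fun h => hh (htrans.1 (hQ'hyp.1 h)))
        apply dvd_of_card_eq r _ _ _ hpos hdiv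
        rw [hFm hh, hK', hcardK, (evProd_two_mul (Fintype.card F) e').2, e1, e2]
        ring
    rcases hr.dvd_mul.1 hY with h5 | h5
    · left
      exact hr.dvd_of_dvd_pow h5
    · right; left
      obtain ⟨j, hj, hjr⟩ := dvd_oddProd_lt _ _ r hr h5
      exact ⟨j, by omega, hjr⟩
  · -- odd `d`
    have hfin : finrank ↥K (ι → F) = 2 * e + 1 := by omega
    set b : Basis (Fin (2 * e + 1)) ↥K (ι → F) :=
      Module.finBasisOfFinrankEq ↥K (ι → F) hfin with hb
    have hQ' : (polarBilin (QKc hS (qgPhi hQG) hφ b)).Nondegenerate :=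
      Cfsg.Agent.Helper13.OrthTs.nondeg_comp_equiv (QK hS (qgPhi hQG) hφ)
        (QK_nondeg h2 hS (qgPhi hQG) hφ) b.equivFun.symm
    have hdiv := mul_card_dvd_card h2 Q hQ hS (qgPhi hQG) hφ b (by omega) r hΩ
    have hpos : 0 < Nat.card ↥(Cfsg.isometryGroup ↥K ⇑(QKc hS (qgPhi hQG) hφ b)) := Nat.card_pos
    have hK' := card_isom_odd (QKc hS (qgPhi hQG) hφ b) h2K hQ' e rfl
    obtain ⟨hFp, hFm⟩ := card_isom_gen Q hQ (2 * e) (by rw [hcard])
    have e2 : Fintype.card F ^ ((2 * e + 1) * (2 * e)) =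
        (Fintype.card F ^ 2) ^ (e ^ 2) * Fintype.card F ^ (2 * e * e + 2 * e) := by
      ring
    have hodd' : Odd (2 * e + 1) := ⟨e, rfl⟩
    by_cases hh : IsHyp Q
    · have hY : r ∣ Fintype.card F ^ (2 * e * e + 2 * e) * (Fintype.card F ^ (2 * e + 1) - 1) *
          oddProd (Fintype.card F ^ 2) e := by
        apply dvd_of_card_eq r _ _ _ hpos hdiv
        rw [hFp hh, hK', hcardK, (evProd_two_mul (Fintype.card F) e).1, e2]
        ring
      rcases hr.dvd_mul.1 hY with h5 | h5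
      · rcases hr.dvd_mul.1 h5 with h6 | h6
        · left
          exact hr.dvd_of_dvd_pow h6
        · right; right; left
          exact ⟨hodd', hh, h6⟩
      · right; left
        obtain ⟨j, hj, hjr⟩ := dvd_oddProd_lt _ _ r hr h5
        exact ⟨j, by omega, hjr⟩
    · have hY : r ∣ Fintype.card F ^ (2 * e * e + 2 * e) * (Fintype.card F ^ (2 * e + 1) + 1) *
          oddProd (Fintype.card F ^ 2) e := by
        apply dvd_of_card_eq r _ _ _ hpos hdiv
        rw [hFm hh, hK', hcardK, (evProd_two_mul (Fintype.card F) e).1, e2]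
        ring
      rcases hr.dvd_mul.1 hY with h5 | h5
      · rcases hr.dvd_mul.1 h5 with h6 | h6
        · left
          exact hr.dvd_of_dvd_pow h6
        · right; right; right
          exact ⟨hodd', hh, h6⟩
      · right; left
        obtain ⟨j, hj, hjr⟩ := dvd_oddProd_lt _ _ r hr h5
        exact ⟨j, by omega, hjr⟩

end index

end Cfsg.Agent.Helper17.OrthC3
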