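import Mathlib
import Cfsg.Agent.Lib.Helper17.OrthC3K
import Cfsg.Agent.Lib.Helper13.OrthNe4
import Cfsg.Agent.Lib.Helper13.OrthJp7
import Cfsg.Agent.Lib.Helper28.BGS7

/-!
# Elements of odd prime order without conjugates in the normalizer of the quadratic field
subalgebra (helper17)
-/

set_option autoImplicit false
set_option linter.style.haveILetI false
set_option linter.unusedSectionVars false
set_option maxHeartbeats 1600000

namespace Cfsg.Agent.Helper17.OrthC3

open Matrix Module QuadraticMap Polynomial Cfsg.Agent.Helper28.BGS Cfsg.Agent.Helper28.BGU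
  Cfsg.Agent.Helper13.SS Cfsg.Agent.Helper13.OrthSS Cfsg.Agent.Helper13.OrthNd
  Cfsg.Agent.Helper13.OrthJp

section nec

variable {F : Type*} [Field F] [Fintype F] {ι : Type} [Fintype ι] [DecidableEq ι]
variable {K : Subalgebra F (Matrix ι ι F)} {δ : F} {α : Matrix ι ι F}

omit [Fintype F] in
/-- the linear map over the field of a matrix commuting with the field -/
noncomputable def linK [IsFld K] (Y : Matrix ι ι F) (hY : ∀ a ∈ K, Y * a = a * Y) :
    (ι → F) →ₗ[↥K] (ι → F) where
  toFun v := Y *ᵥ v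
  map_add' u v := Matrix.mulVec_add Y u v
  map_smul' a v := by
    show Y *ᵥ ((a : Matrix ι ι F) *ᵥ v) = (a : Matrix ι ι F) *ᵥ (Y *ᵥ v)
    rw [Matrix.mulVec_mulVec, Matrix.mulVec_mulVec, hY a a.2]

omit [Fintype F] in
theorem linK_apply [IsFld K] (Y : Matrix ι ι F) (hY : ∀ a ∈ K, Y * a = a * Y) (v : ι → F) :
    linK Y hY v = Y *ᵥ v := rfl

omit [Fintype F] in
theorem linK_pow [IsFld K] (Y : Matrix ι ι F) (hY : ∀ a ∈ K, Y * a = a * Y) (n : ℕ)
    (v : ι → F) : (linK Y hY ^ n) v = (Y ^ n) *ᵥ v := by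
  induction n generalizing v with
  | zero => simp
  | succ n ih =>
    rw [pow_succ, Module.End.mul_apply, ih, linK_apply, Matrix.mulVec_mulVec, ← pow_succ]

omit [Fintype F] in
/-- a conjugate of an element of odd order modulo scalars in the normalizer commutes with the
field -/
theorem comm_of_conj_mem (h2 : (2 : F) ≠ 0) (hQG : IsQuadGen K δ α) (y : GL ι F)
    (hy : y ∈ Cfsg.Geo.subalgebraNormalizer K) (r : ℕ) (hr : Odd r) (hyr : y ^ r = 1) :
    ∀ a ∈ K, (y : Matrix ι ι F) * a = a * (y : Matrix ι ι F) := by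
  have hyM : (y : Matrix ι ι F) ^ r = (1 : F) • (1 : Matrix ι ι F) := by
    rw [← Units.val_pow_eq_pow_val, hyr, one_smul]
    rfl
  have hcomm := hQG.comm_of_odd h2 y hy r hr 1 hyM
  intro a ha
  obtain ⟨s, t, rfl⟩ := hQG.gen a ha
  rw [mul_add, add_mul, mul_smul_comm, smul_mul_assoc, mul_one, one_mul, mul_smul_comm,
    smul_mul_assoc, hcomm]

omit [Fintype F] in
theorem conj_pow_eq_one (x g : GL ι F) (n : ℕ) (hx : x ^ n = 1) : (g⁻¹ * x * g) ^ n = 1 := by
  have h : g⁻¹ * x * g = g⁻¹ * x * (g⁻¹)⁻¹ := by rw [inv_inv]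
  rw [h, conj_pow, hx, mul_one, mul_inv_cancel]

omit [Fintype F] in
/-- a unipotent element whose square of the nilpotent part has rank one has no conjugate in the
normalizer -/
theorem no_conj_unipotent (h2 : (2 : F) ≠ 0) (hQG : IsQuadGen K δ α) (x g : GL ι F) (p : ℕ)
    (hp : Odd p) (hxp : x ^ p = 1) (μ : Multiset ℕ)
    (hμ : HasType (Matrix.toLin' (x : Matrix ι ι F) - 1) μ)
    (hrank : (μ.map (fun a => a - 2)).sum = 1)
    (hy : g⁻¹ * x * g ∈ Cfsg.Geo.subalgebraNormalizer K) : False := by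
  have hK := isFieldSubalgebra_of_quadGen hQG
  have hyp := conj_pow_eq_one x g p hxp
  have hcommK := comm_of_conj_mem h2 hQG _ hy p hp hyp
  set Y := ((g⁻¹ * x * g : GL ι F) : Matrix ι ι F) with hY
  have hμ' : HasType (Matrix.toLin' Y - 1) μ := by
    apply hasType_of_equiv (glEquiv g).symm _ hμ
    intro v
    rw [LinearMap.sub_apply, LinearMap.sub_apply, Module.End.one_apply, Module.End.one_apply,
      map_sub, glEquiv_symm_apply, glEquiv_symm_apply, Matrix.toLin'_apply, Matrix.toLin'_apply,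
      hY, conj_val, Matrix.mulVec_mulVec, Matrix.mulVec_mulVec]
    congr 2
    calc ((g⁻¹ : GL ι F) : Matrix ι ι F) * (x : Matrix ι ι F) =
        ((g⁻¹ : GL ι F) : Matrix ι ι F) * (x : Matrix ι ι F) *
          ((g : Matrix ι ι F) * ((g⁻¹ : GL ι F) : Matrix ι ι F)) := by
          rw [gl_mul_inv, mul_one]
      _ = _ := by simp only [mul_assoc]
  have h1 : finrank F (LinearMap.range ((Matrix.toLin' Y - 1) ^ 2)) = 1 := by
    rw [hμ'.2 2, hrank]
  have hstab : ∀ a ∈ K, ∀ w ∈ LinearMap.range ((Matrix.toLin' Y - 1) ^ 2),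
      a *ᵥ w ∈ LinearMap.range ((Matrix.toLin' Y - 1) ^ 2) := by
    rintro a ha _ ⟨u, rfl⟩
    refine ⟨a *ᵥ u, ?_⟩
    have hc : Commute (Matrix.toLin' a) (Matrix.toLin' Y - 1) := by
      apply Commute.sub_right
      · show (Matrix.toLin' a).comp (Matrix.toLin' Y) = (Matrix.toLin' Y).comp (Matrix.toLin' a)
        rw [← Matrix.toLin'_mul, ← Matrix.toLin'_mul, hcommK a ha]
      · exact Commute.one_right _
    have hc2 := (hc.pow_right 2).eq
    have := congrArg (fun L : Module.End F (ι → F) => L u) hc2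
    simp only [Module.End.mul_apply, Matrix.toLin'_apply] at this
    exact this.symm
  have := dvd_finrank_of_stable (by norm_num) hK _ hstab
  rw [h1] at this
  omega

/-- a semisimple element of odd prime order `r` whose fixed space has codimension twice the
(odd) order of `q ^ 2` modulo `r` has no conjugate in the normalizer -/
theorem no_conj_of_small_fixed {p : ℕ} [Fact p.Prime] [CharP F p]
    (hodd : Odd (Fintype.card F)) (Q : QuadraticForm F (ι → F))
    (hQ : (polarBilin Q).Nondegenerate) (hQG : IsQuadGen K δ α)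
    (hα : IsSARoot (polarBilin Q) δ α) (d : ℕ) (hcard : Fintype.card ι = 2 * d)
    (r : ℕ) (hr : r.Prime) (hr2 : r ≠ 2) (hrp : r ≠ p)
    (hi' : Odd (orderOf (((Fintype.card F ^ 2 : ℕ)) : ZMod r)))
    (x : GL ι F) (hxr : x ^ r = 1)
    (hfix : kdim (Matrix.toLin' (x : Matrix ι ι F)) (X - 1) +
      2 * orderOf (((Fintype.card F ^ 2 : ℕ)) : ZMod r) = 2 * d)
    (g : GL ι F)
    (hyQ : ∀ v, Q (((g⁻¹ * x * g : GL ι F) : Matrix ι ι F) *ᵥ v) = Q v)
    (hy : g⁻¹ * x * g ∈ Cfsg.Geo.subalgebraNormalizer K) : False := by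
  classical
  have h2 : (2 : F) ≠ 0 := two_ne_zero_of_odd hodd
  have hK := isFieldSubalgebra_of_quadGen hQG
  haveI := isFld_of (by norm_num) hK
  haveI : Fintype ↥K := Fintype.ofFinite ↥K
  haveI : FiniteDimensional ↥K (ι → F) := FiniteDimensional.right F ↥K (ι → F)
  haveI : CharP ↥K p := charP_of_injective_algebraMap (algebraMap F ↥K).injective p
  have hS := symForm_of_quadGen Q hQ hQG hα
  have hφ : qgPhi hQG ≠ 0 := qgPhi_ne_zero hQG
  have hcardK : Fintype.card ↥K = Fintype.card F ^ 2 := by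
    rw [Module.card_eq_pow_finrank (K := F) (V := ↥K), hK.finrank_eq]
  have hrodd : Odd r := hr.odd_of_ne_two hr2
  have hyr := conj_pow_eq_one x g r hxr
  have hcommK := comm_of_conj_mem h2 hQG _ hy r hrodd hyr
  set Y := ((g⁻¹ * x * g : GL ι F) : Matrix ι ι F) with hY
  set yK := linK Y hcommK with hyK
  have hyKQ : ∀ v, QK hS (qgPhi hQG) hφ (yK v) = QK hS (qgPhi hQG) hφ v := by
    intro v
    rw [QK_apply, QK_apply]
    apply BLs_map hS (qgPhi hQG) hφ (Matrix.toLin' Y)
    · intro u w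
      have hiso : ∀ v, Q (Matrix.toLin' Y v) = Q v := by
        intro v
        rw [Matrix.toLin'_apply]
        exact hyQ v
      exact Cfsg.Agent.Helper28.WittQuad.polar_of_isom (Q := Q) hiso u w
    · intro a u
      exact (linK Y hcommK).map_smul a u
  have hYr : Y ^ r = 1 := by
    rw [hY, ← Units.val_pow_eq_pow_val, hyr]
    rfl
  have hyKr : yK ^ r = 1 := by
    apply LinearMap.ext
    intro v
    rw [hyK, linK_pow, hYr, Matrix.one_mulVec]
    rfl
  obtain ⟨k, hk, hfin, -⟩ := struct_orth hcardK hr hr2 hrp (QK hS (qgPhi hQG) hφ)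
    (QK_nondeg h2 hS (qgPhi hQG) hφ) yK hyKQ hyKr
  have hev := even_mul_sum hcardK hr hr2 hrp k hk
  have hdimK : finrank ↥K (ι → F) = d := by
    have := finrank_mul hK
    omega
  have hker : kdim (Matrix.toLin' Y) (X - 1) = 2 * kdim yK (X - 1) := by
    have h := finrank_restrictScalars hK (LinearMap.ker (aeval yK (X - 1 : (↥K)[X])))
    have hsub : (LinearMap.ker (aeval yK (X - 1 : (↥K)[X]))).restrictScalars F =
        LinearMap.ker (aeval (Matrix.toLin' Y) (X - 1 : F[X])) := by
      ext v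
      simp only [Submodule.restrictScalars_mem, LinearMap.mem_ker, map_sub, aeval_X, map_one,
        LinearMap.sub_apply, Module.End.one_apply, Matrix.toLin'_apply]
      rfl
    unfold kdim
    rw [← hsub, h]
  have hconj := kdim_conj x g (X - 1 : F[X])
  rw [← hY] at hconj
  rw [hdimK] at hfin
  have h1 : orderOf (((Fintype.card F ^ 2 : ℕ)) : ZMod r) * ∑ a, k a =
      orderOf (((Fintype.card F ^ 2 : ℕ)) : ZMod r) := by
    omega
  rw [h1] at hev
  exact (Nat.not_even_iff_odd.2 hi') hev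

end nec

end Cfsg.Agent.Helper17.OrthC3
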