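import Mathlib
import Cfsg.Agent.Lib.Helper17.OrthC3H
import Cfsg.Agent.Lib.Helper17.OrthC3L
import Cfsg.Agent.Lib.Helper13.OrthNi5
import Cfsg.Agent.Lib.Helper28.BGS15

/-!
# Elements of prime order of the orthogonal groups and the subgroups of orthogonal type over the
quadratic extension field (helper17)
-/

set_option autoImplicit false
set_option linter.style.haveILetI false
set_option linter.unusedSectionVars false
set_option maxHeartbeats 1600000

namespace Cfsg.Agent.Helper17.OrthC3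

open Matrix Module QuadraticMap Polynomial Cfsg.Agent.Helper28.BGS Cfsg.Agent.Helper28.BGU
  Cfsg.Agent.Helper13.SS Cfsg.Agent.Helper13.OrthSS Cfsg.Agent.Helper13.OrthNd
  Cfsg.Agent.Helper13.OrthJp Cfsg.Agent.Helper13.OrthNe

section numth

theorem c_eq_two_mul (i i' : ℕ) (h : i' = i / Nat.gcd i 2) :
    (if Even i then i else 2 * i) = 2 * i' := by
  by_cases hi : Even i
  · rw [if_pos hi]
    obtain ⟨m, rfl⟩ := hi
    have h2 : Nat.gcd (m + m) 2 = 2 := by
      apply Nat.gcd_eq_right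
      exact ⟨m, by ring⟩
    rw [h2] at h
    omega
  · rw [if_neg hi]
    have hodd : Odd i := Nat.not_even_iff_odd.1 hi
    have h2 : Nat.gcd i 2 = 1 := by
      rw [Nat.gcd_comm]
      exact (Nat.coprime_two_left).2 hodd
    rw [h2, Nat.div_one] at h
    omega

theorem cast_eq_one_of_dvd_sub_one (r a : ℕ) (ha : 1 ≤ a) (h : r ∣ a - 1) :
    ((a : ℕ) : ZMod r) = 1 := by
  have h1 : (((a - 1 : ℕ)) : ZMod r) = 0 := (ZMod.natCast_eq_zero_iff _ _).2 h
  rw [Nat.cast_sub ha, Nat.cast_one, sub_eq_zero] at h1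
  exact h1

theorem not_dvd_of_dvd_pow_sub_one (r q k : ℕ) (hr : r.Prime) (hq : 1 ≤ q) (hk : 1 ≤ k)
    (h : r ∣ q ^ k - 1) : ¬ r ∣ q := by
  intro hrq
  have h1 : r ∣ q ^ k := dvd_pow hrq (by omega)
  have hpos : 1 ≤ q ^ k := Nat.one_le_pow _ _ hq
  have h3 : r ∣ 1 := by
    have := Nat.dvd_sub h1 h
    rwa [Nat.sub_sub_self hpos] at this
  exact hr.one_lt.ne' (Nat.dvd_one.1 h3)

theorem orderOf_sq_cast (r q : ℕ) :
    orderOf (((q ^ 2 : ℕ)) : ZMod r) =
      orderOf ((q : ℕ) : ZMod r) / Nat.gcd (orderOf ((q : ℕ) : ZMod r)) 2 := by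
  rw [Nat.cast_pow, orderOf_pow' _ two_ne_zero]

/-- the arithmetic of the three cases -/
theorem arith_cases (r : ℕ) [Fact r.Prime] (hr2 : r ≠ 2) (q : ℕ) (hq : 1 ≤ q) (d : ℕ)
    (hd : 1 ≤ d) (hyp : Prop)
    (h : (∃ j, 2 * j + 1 < d ∧ r ∣ (q ^ 2) ^ (2 * j + 1) - 1) ∨
      (Odd d ∧ hyp ∧ r ∣ q ^ d - 1) ∨ (Odd d ∧ ¬ hyp ∧ r ∣ q ^ d + 1)) :
    Odd (orderOf (((q ^ 2 : ℕ)) : ZMod r)) ∧
      (if Even (orderOf ((q : ℕ) : ZMod r)) then orderOf ((q : ℕ) : ZMod r)
        else 2 * orderOf ((q : ℕ) : ZMod r)) = 2 * orderOf (((q ^ 2 : ℕ)) : ZMod r) ∧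
      2 * orderOf (((q ^ 2 : ℕ)) : ZMod r) ≤ 2 * d ∧
      (2 * orderOf (((q ^ 2 : ℕ)) : ZMod r) = 2 * d →
        (bt (orderOf ((q : ℕ) : ZMod r)) 1 ↔ hyp)) ∧ ¬ r ∣ q := by
  have hr : r.Prime := Fact.out
  have hrel := orderOf_sq_cast r q
  have hc := c_eq_two_mul _ _ hrel
  refine ⟨?_, hc, ?_⟩
  · -- oddness
    rcases h with ⟨j, hj, hjr⟩ | ⟨hdo, -, hdr⟩ | ⟨hdo, -, hdr⟩
    · have h1 := cast_eq_one_of_dvd_sub_one r _ (Nat.one_le_pow _ _ (Nat.one_le_pow _ _ hq)) hjr
      rw [Nat.cast_pow] at h1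
      exact Odd.of_dvd_nat ⟨j, rfl⟩ (orderOf_dvd_of_pow_eq_one h1)
    · have h1 := cast_eq_one_of_dvd_sub_one r _ (Nat.one_le_pow _ _ hq) hdr
      rw [Nat.cast_pow] at h1
      have hi : Odd (orderOf ((q : ℕ) : ZMod r)) :=
        Odd.of_dvd_nat hdo (orderOf_dvd_of_pow_eq_one h1)
      have h2 : Nat.gcd (orderOf ((q : ℕ) : ZMod r)) 2 = 1 := by
        rw [Nat.gcd_comm]
        exact (Nat.coprime_two_left).2 hi
      rw [hrel, h2, Nat.div_one]
      exact hi
    · have h1 : (((q ^ d + 1 : ℕ)) : ZMod r) = 0 := (ZMod.natCast_eq_zero_iff _ _).2 hdr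
      rw [Nat.cast_add, Nat.cast_pow, Nat.cast_one] at h1
      have h3 : ((q : ℕ) : ZMod r) ^ d = -1 := eq_neg_of_add_eq_zero_left h1
      have h4 : ((q : ℕ) : ZMod r) ^ (2 * d) = 1 := by
        rw [mul_comm, pow_mul, h3]
        norm_num
      have hdvd := orderOf_dvd_of_pow_eq_one h4
      have hnd : ¬ orderOf ((q : ℕ) : ZMod r) ∣ d := by
        intro hcon
        have h5 := orderOf_dvd_iff_pow_eq_one.1 hcon
        rw [h3] at h5
        have h6 : ((2 : ℕ) : ZMod r) = 0 := by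
          push_cast
          have : (2 : ZMod r) = 1 - (-1) := by ring
          rw [this, h5, sub_self]
        have h7 := (ZMod.natCast_eq_zero_iff _ _).1 h6
        exact hr2 ((Nat.prime_dvd_prime_iff_eq hr Nat.prime_two).1 h7)
      have hev : Even (orderOf ((q : ℕ) : ZMod r)) := by
        by_contra hne
        have hodd : Odd (orderOf ((q : ℕ) : ZMod r)) := Nat.not_even_iff_odd.1 hne
        have hcop : Nat.Coprime (orderOf ((q : ℕ) : ZMod r)) 2 :=
          Nat.Coprime.symm ((Nat.coprime_two_left).2 hodd)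
        exact hnd (hcop.dvd_of_dvd_mul_left hdvd)
      obtain ⟨m, hm⟩ := hev
      have h2 : Nat.gcd (orderOf ((q : ℕ) : ZMod r)) 2 = 2 := by
        apply Nat.gcd_eq_right
        exact ⟨m, by omega⟩
      have hi' : orderOf (((q ^ 2 : ℕ)) : ZMod r) = m := by
        rw [hrel, h2, hm]
        omega
      rw [hi']
      have hmd : m ∣ d := by
        rw [hm] at hdvd
        have : 2 * m ∣ 2 * d := by
          have e : m + m = 2 * m := by ring
          rw [e] at hdvd
          exact hdvd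
        exact Nat.dvd_of_mul_dvd_mul_left (by norm_num) this
      exact Odd.of_dvd_nat hdo hmd
  · rcases h with ⟨j, hj, hjr⟩ | ⟨hdo, hh, hdr⟩ | ⟨hdo, hh, hdr⟩
    · have h1 := cast_eq_one_of_dvd_sub_one r _ (Nat.one_le_pow _ _ (Nat.one_le_pow _ _ hq)) hjr
      rw [Nat.cast_pow] at h1
      have hle := Nat.le_of_dvd (by omega) (orderOf_dvd_of_pow_eq_one h1)
      refine ⟨by omega, fun hcon => by omega, ?_⟩
      have hjr' : r ∣ q ^ (2 * (2 * j + 1)) - 1 := by rwa [← pow_mul] at hjr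
      exact not_dvd_of_dvd_pow_sub_one r q _ hr hq (by omega) hjr'
    · have h1 := cast_eq_one_of_dvd_sub_one r _ (Nat.one_le_pow _ _ hq) hdr
      rw [Nat.cast_pow] at h1
      have hdvd := orderOf_dvd_of_pow_eq_one h1
      have hi : Odd (orderOf ((q : ℕ) : ZMod r)) := Odd.of_dvd_nat hdo hdvd
      have hle := Nat.le_of_dvd (by omega) hdvd
      rw [← hc, if_neg (Nat.not_even_iff_odd.2 hi)]
      refine ⟨by omega, fun _ => iff_of_true (Or.inl hi) hh, ?_⟩
      exact not_dvd_of_dvd_pow_sub_one r q _ hr hq hd hdr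
    · have h1 : (((q ^ d + 1 : ℕ)) : ZMod r) = 0 := (ZMod.natCast_eq_zero_iff _ _).2 hdr
      rw [Nat.cast_add, Nat.cast_pow, Nat.cast_one] at h1
      have h3 : ((q : ℕ) : ZMod r) ^ d = -1 := eq_neg_of_add_eq_zero_left h1
      have h4 : ((q : ℕ) : ZMod r) ^ (2 * d) = 1 := by
        rw [mul_comm, pow_mul, h3]
        norm_num
      have hdvd := orderOf_dvd_of_pow_eq_one h4
      have hle := Nat.le_of_dvd (by omega) hdvd
      have hnd : ¬ orderOf ((q : ℕ) : ZMod r) ∣ d := by
        intro hcon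
        have h5 := orderOf_dvd_iff_pow_eq_one.1 hcon
        rw [h3] at h5
        have h6 : ((2 : ℕ) : ZMod r) = 0 := by
          push_cast
          have : (2 : ZMod r) = 1 - (-1) := by ring
          rw [this, h5, sub_self]
        have h7 := (ZMod.natCast_eq_zero_iff _ _).1 h6
        exact hr2 ((Nat.prime_dvd_prime_iff_eq hr Nat.prime_two).1 h7)
      have hev : Even (orderOf ((q : ℕ) : ZMod r)) := by
        by_contra hne
        have hodd : Odd (orderOf ((q : ℕ) : ZMod r)) := Nat.not_even_iff_odd.1 hne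
        have hcop : Nat.Coprime (orderOf ((q : ℕ) : ZMod r)) 2 :=
          Nat.Coprime.symm ((Nat.coprime_two_left).2 hodd)
        exact hnd (hcop.dvd_of_dvd_mul_left hdvd)
      rw [← hc, if_pos hev]
      refine ⟨hle, fun _ => iff_of_false ?_ hh, ?_⟩
      · rintro (h5 | h5)
        · exact (Nat.not_even_iff_odd.2 h5) hev
        · exact Nat.not_even_one h5
      · intro hrq
        have h5 : r ∣ q ^ d := dvd_pow hrq (by omega)
        have h6 : r ∣ 1 := by
          have := Nat.dvd_sub hdr h5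
          rwa [Nat.add_sub_cancel_left] at this
        exact hr.one_lt.ne' (Nat.dvd_one.1 h6)

end numth

section main

variable {F : Type*} [Field F] [Fintype F] {ι : Type} [Fintype ι] [DecidableEq ι]

/-- conjugates of elements of `Ω` by elements of `Ω` are isometries -/
theorem conj_isometry (Q : QuadraticForm F (ι → F)) (x g : GL ι F)
    (hx : x ∈ Cfsg.Geo.omegaGL ⇑Q) (hg : g ∈ Cfsg.Geo.omegaGL ⇑Q) (v : ι → F) :
    Q (((g⁻¹ * x * g : GL ι F) : Matrix ι ι F) *ᵥ v) = Q v := by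
  obtain ⟨hx', -, rfl⟩ := (Cfsg.Agent.Helper17.OmegaElts.mem_omegaGL_iff Q x).1 hx
  obtain ⟨hg', -, rfl⟩ := (Cfsg.Agent.Helper17.OmegaElts.mem_omegaGL_iff Q g).1 hg
  exact (hg'⁻¹ * hx' * hg').2 v v

/-- **main theorem**: the elements of prime order of `Ω` and the normalizer of a self-adjoint
quadratic field subalgebra -/
theorem orth_field_main {p : ℕ} [Fact p.Prime] [CharP F p] (hodd : Odd (Fintype.card F))
    (Q : QuadraticForm F (ι → F))
    (hQ : (polarBilin Q).Nondegenerate) (d : ℕ) (hd : 4 ≤ d)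
    (hcard : Fintype.card ι = 2 * d) (K : Subalgebra F (Matrix ι ι F))
    (hK : Cfsg.Geo.IsFieldSubalgebra 2 K)
    (hKf : Cfsg.Geo.IsSelfAdjointFor (QuadraticMap.polar ⇑Q) K) (r : ℕ) [Fact r.Prime]
    (hΩ : r ∣ (Cfsg.Geo.subalgebraNormalizer K).relIndex (Cfsg.Geo.omegaGL ⇑Q)) :
    (∀ x ∈ Cfsg.Geo.omegaGL ⇑Q,
      (∃ z : F, ((x ^ r : GL ι F) : Matrix ι ι F) = z • (1 : Matrix ι ι F)) →
      (∀ z : F, (x : Matrix ι ι F) ≠ z • (1 : Matrix ι ι F)) →
      ∃ g ∈ Cfsg.Geo.omegaGL ⇑Q, g⁻¹ * x * g ∈ Cfsg.Geo.subalgebraNormalizer K) ↔ r = 2 := by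
  classical
  have hrP : r.Prime := Fact.out
  have hpP : p.Prime := Fact.out
  have h2 : (2 : F) ≠ 0 := two_ne_zero_of_odd hodd
  haveI : Nonempty ι := by
    rw [← Fintype.card_pos_iff, hcard]
    omega
  have hex : Fintype.card F ≠ 2 ∨ Fintype.card ι ≠ 4 := Or.inr (by omega)
  obtain ⟨δ, hδ⟩ := FiniteField.exists_nonsquare (ringChar_ne_two_of_odd hodd)
  obtain ⟨α, hQG⟩ := exists_quadGen hodd K hK δ hδ
  have hα : IsSARoot (polarBilin Q) δ α := ⟨hQG.sq, fun u v => hKf α hQG.mem u v⟩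
  constructor
  · intro hall
    by_contra hr2
    have hrodd : Odd r := hrP.odd_of_ne_two hr2
    have hq1 : 1 ≤ Fintype.card F := Fintype.card_pos
    obtain ⟨n, hn, hqn⟩ := Cfsg.Agent.Helper13.SS.exists_card_pow (p := p)
      (rfl : Fintype.card F = Fintype.card F)
    have hp2 : p ≠ 2 := by
      rintro rfl
      rw [hqn] at hodd
      exact (Nat.not_even_iff_odd.2 hodd) ((Nat.even_pow' (by omega)).2 even_two)
    rcases prime_dvd_relIndex hodd Q hQ hQG hα d (by omega) hcard r hrP hΩ with hrq | hcases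
    · -- the characteristic
      have hrp : r = p := by
        rw [hqn] at hrq
        exact (Nat.prime_dvd_prime_iff_eq hrP hpP).1 (hrP.dvd_of_dvd_pow hrq)
      subst hrp
      set μ : Multiset ℕ := 3 ::ₘ Multiset.replicate (2 * d - 3) 1 with hμ
      have hpos : ∀ a ∈ μ, 0 < a := by
        intro a ha
        rw [hμ, Multiset.mem_cons] at ha
        rcases ha with rfl | ha
        · norm_num
        · rw [Multiset.eq_of_mem_replicate ha]
          norm_num
      have hpar : ∀ e, Even e → Even (μ.count e) := by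
        intro e he
        have h3 : e ≠ 3 := by
          rintro rfl
          exact absurd he (by decide)
        have h1 : e ≠ 1 := by
          rintro rfl
          exact absurd he (by decide)
        rw [hμ, Multiset.count_cons_of_ne h3, Multiset.count_replicate, if_neg (Ne.symm h1)]
        exact Even.zero
      have hsum : μ.sum = 2 * d := by
        rw [hμ, Multiset.sum_cons, Multiset.sum_replicate, smul_eq_mul, mul_one]
        omega
      have h3mem : 3 ∈ μ := by rw [hμ]; exact Multiset.mem_cons_self _ _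
      obtain ⟨Y, hY, hYμ⟩ := exists_unip_odd_part h2 d Q hQ hcard μ hpos hpar hsum
        ⟨3, h3mem, by decide⟩
      have hp3 : 3 ≤ r := by
        have := hrP.two_le
        omega
      have hle : ∀ a ∈ μ, a ≤ r := by
        intro a ha
        rw [hμ, Multiset.mem_cons] at ha
        rcases ha with rfl | ha
        · exact hp3
        · rw [Multiset.eq_of_mem_replicate ha]
          omega
      obtain ⟨x, hxΩ, hxp, hxQ, hxμ⟩ := exists_gl_of_unip Q hQ hex hp2 Y hY hYμ hle
      have hns : ∀ z : F, (x : Matrix ι ι F) ≠ z • (1 : Matrix ι ι F) := by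
        intro z hz
        apply not_smul_of_hasType hxμ 3 h3mem (by norm_num) (z - 1)
        rw [hz, map_smul, Matrix.toLin'_one]
        apply LinearMap.ext
        intro v
        simp [sub_smul]
      obtain ⟨g, hgΩ, hgN⟩ := hall x hxΩ ⟨1, by rw [hxp, one_smul]; rfl⟩ hns
      have hrank : (μ.map (fun a => a - 2)).sum = 1 := by
        rw [hμ, Multiset.map_cons, Multiset.map_replicate, Multiset.sum_cons,
          Multiset.sum_replicate]
        simp
      exact no_conj_unipotent h2 hQG x g r hrodd hxp μ hxμ hrank hgN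
    · -- semisimple elements
      obtain ⟨hi', hc, hcle, hvalid, hnrq⟩ := arith_cases r hr2 (Fintype.card F) hq1 d
        (by omega) (IsHyp Q) hcases
      have hrp : r ≠ p := by
        rintro rfl
        apply hnrq
        rw [hqn]
        exact dvd_pow_self r (by omega)
      obtain ⟨x, k, hxΩ, hxr, hns, hxQ, hks, hcp, hsumk⟩ := exists_elt_of_blocks (p := p)
        (rfl : Fintype.card F = Fintype.card F) hrP hr2 hrp Q hQ d hcard (by omega)
        (2 * orderOf (((Fintype.card F ^ 2 : ℕ)) : ZMod r)) hc.symm 1 le_rfl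
        (by rw [mul_one]; exact hcle) (by rw [mul_one]; exact hvalid)
      have hLr : (LG x) ^ r = 1 := by rw [← LG_pow, hxr, LG_one]
      obtain ⟨hfix, -⟩ := Cfsg.Agent.Helper13.SpTi.kdim_of_gPoly (p := p)
        (rfl : Fintype.card F = Fintype.card F) hrP hrp (LG x) hLr _ k hcp
      obtain ⟨g, hgΩ, hgN⟩ := hall x hxΩ ⟨1, by rw [hxr, one_smul]; rfl⟩ hns
      refine no_conj_of_small_fixed (p := p) hodd Q hQ hQG hα d hcard r hrP hr2 hrp hi' x hxr ?_
        g (conj_isometry Q x g hxΩ hgΩ) hgN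
      have e : Matrix.toLin' (x : Matrix ι ι F) = LG x := rfl
      rw [e, hfix, mul_one]
      omega
  · intro hr2 x hx hxr _
    subst hr2
    exact sufficient Q h2 hQ hex hQG hα x hx hxr

end main

end Cfsg.Agent.Helper17.OrthC3
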