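import Mathlib
import Cfsg.Agent.Lib.Helper17.OrthOut8
import Cfsg.Agent.Lib.Helper2.OutCongr
import Cfsg.Agent.Lib.Helper2.PslAut7

set_option autoImplicit false
set_option linter.unusedSectionVars false
set_option linter.unusedSimpArgs false

/-!
# The outer automorphism group in odd dimension (helper17)
-/

namespace Cfsg.Agent.Helper17.OrthOut

open QuadraticMap Matrix Cfsg.Agent.Helper2.Orth Cfsg.Agent.Helper17.OrthAut
  Cfsg.Agent.Helper17.Spinor Cfsg.Agent.Helper13

/-- a group with a split surjection whose kernel has order two is a direct product -/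
theorem split_of_section {G C : Type*} [Group G] [Group C] (π : G →* C) (s : C →* G)
    (hπs : ∀ c, π (s c) = c) (hK : Nat.card π.ker = 2) :
    Nonempty (G ≃* Multiplicative (ZMod 2) × C) := by
  obtain ⟨e₂⟩ := ConfAut.zmod2_of_card hK
  have huniq := (Nat.card_eq_two_iff' (1 : π.ker)).1 hK
  have hcentral : ∀ (k : G), k ∈ π.ker → ∀ g : G, g * k = k * g := by
    intro k hk g
    by_cases hk1 : k = 1
    · rw [hk1, mul_one, one_mul]
    have hn : g * k * g⁻¹ ∈ π.ker := (inferInstance : π.ker.Normal).conj_mem k hk g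
    have h1 : (⟨g * k * g⁻¹, hn⟩ : π.ker) ≠ 1 := by
      intro h
      apply hk1
      have h2 : g * k * g⁻¹ = 1 := congrArg Subtype.val h
      have h3 : g * k = g := by
        have := congrArg (fun x => x * g) h2
        simpa using this
      exact mul_left_cancel (h3.trans (mul_one g).symm)
    have h2 : (⟨k, hk⟩ : π.ker) ≠ 1 := by
      intro h
      exact hk1 (congrArg Subtype.val h)
    have h3 : (⟨g * k * g⁻¹, hn⟩ : π.ker) = ⟨k, hk⟩ := huniq.unique h1 h2
    have h4 : g * k * g⁻¹ = k := congrArg Subtype.val h3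
    calc g * k = (g * k * g⁻¹) * g := by group
      _ = k * g := by rw [h4]
  let Ψ : π.ker × C →* G :=
    { toFun := fun p => (p.1 : G) * s p.2
      map_one' := by simp
      map_mul' := by
        intro p p'
        simp only [Prod.fst_mul, Prod.snd_mul, Subgroup.coe_mul, map_mul]
        have h1 := hcentral _ p'.1.2 (s p.2)
        calc (p.1 : G) * (p'.1 : G) * (s p.2 * s p'.2)
            = (p.1 : G) * ((p'.1 : G) * s p.2) * s p'.2 := by group
          _ = (p.1 : G) * (s p.2 * (p'.1 : G)) * s p'.2 := by rw [h1]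
          _ = _ := by group }
  have hΨ : ∀ p : π.ker × C, Ψ p = (p.1 : G) * s p.2 := fun _ => rfl
  have hinj : Function.Injective Ψ := by
    intro p p' hpp'
    rw [hΨ, hΨ] at hpp'
    have h1 := congrArg π hpp'
    rw [map_mul, map_mul, hπs, hπs, MonoidHom.mem_ker.1 p.1.2, MonoidHom.mem_ker.1 p'.1.2,
      one_mul, one_mul] at h1
    have h2 : (p.1 : G) = p'.1 := by
      rw [h1] at hpp'
      exact mul_right_cancel hpp'
    exact Prod.ext (Subtype.ext h2) h1
  have hsurj : Function.Surjective Ψ := by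
    intro g
    have hk : g * (s (π g))⁻¹ ∈ π.ker := by
      rw [MonoidHom.mem_ker, map_mul, map_inv, hπs, mul_inv_cancel]
    refine ⟨(⟨g * (s (π g))⁻¹, hk⟩, π g), ?_⟩
    rw [hΨ]
    simp
  exact ⟨((MulEquiv.ofBijective Ψ ⟨hinj, hsurj⟩).symm).trans
    (e₂.prodCongr (MulEquiv.refl C))⟩

variable {F : Type*} [Field F] [Fintype F] {ι : Type} [Fintype ι] [DecidableEq ι]
  {Q : QuadraticForm F (ι → F)}

section odd
variable {i₁ j₁ i₂ j₂ : ι} (h2 : (2 : F) ≠ 0) (hQ : (polarBilin Q).Nondegenerate)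
  (h : TwoHyp Q i₁ j₁ i₂ j₂) {m : ℕ} (hn : Fintype.card ι = 2 * m + 1)
include h2 hQ h hn

/-- subgroups of the special orthogonal group act faithfully, in odd dimension -/
theorem card_map_Phi_of_odd (H : Subgroup (GL ι F)) (hH : H ≤ Cfsg.specialIsometryGL F (⇑Q)) :
    Nat.card ((H.subgroupOf (ConfAut.GO (⇑Q))).map (ConfAut.Phi (⇑Q))) = Nat.card H := by
  have hHG : H ≤ ConfAut.GO (⇑Q) := le_trans hH (ConfAut.specialIsometryGL_le_GO (⇑Q))
  let f' : ↥H →* MulAut (Cfsg.POmega F (⇑Q)) :=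
    (ConfAut.Phi (⇑Q)).comp (Subgroup.inclusion hHG)
  have hrange : f'.range = (H.subgroupOf (ConfAut.GO (⇑Q))).map (ConfAut.Phi (⇑Q)) := by
    ext α
    constructor
    · rintro ⟨x, rfl⟩
      exact ⟨Subgroup.inclusion hHG x, x.2, rfl⟩
    · rintro ⟨k, hk, rfl⟩
      exact ⟨⟨k.1, hk⟩, rfl⟩
  have hinj : Function.Injective f' := by
    intro x y hxy
    have h1 : ConfAut.Phi (⇑Q) (Subgroup.inclusion hHG x) =
        ConfAut.Phi (⇑Q) (Subgroup.inclusion hHG y) := hxy
    rw [ConfAut.Phi_eq_iff h2 hQ h, ConfAut.mem_scalars_iff'] at h1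
    obtain ⟨a, ha⟩ := h1
    have ha' : (x : GL ι F)⁻¹ * (y : GL ι F) = ConfAut.scalarGL a := ha
    have hz : (x : GL ι F)⁻¹ * (y : GL ι F) ∈ Cfsg.specialIsometryGL F (⇑Q) :=
      Subgroup.mul_mem _ (Subgroup.inv_mem _ (hH x.2)) (hH y.2)
    rw [ha'] at hz
    unfold Cfsg.specialIsometryGL at hz
    rw [Subgroup.mem_inf] at hz
    obtain ⟨hz1, hz2⟩ := hz
    have hv := ConfAut.exists_Q_ne_zero h2 hQ h
    have h3 : (1 : F) = (a : F) ^ 2 :=
      ConfAut.IsMult.unique hv (ConfAut.isMult_one_iff.2 hz1) (ConfAut.isMult_scalarGL a)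
    have h4 : (a : F) ^ Fintype.card ι = 1 := by
      rw [← ConfAut.det_scalarGL]
      have h5 : Matrix.GeneralLinearGroup.det (ConfAut.scalarGL a : GL ι F) = 1 := hz2
      have := congrArg Units.val h5
      simpa using this
    rw [hn, pow_succ, pow_mul, ← h3, one_pow, one_mul] at h4
    have ha1 : a = 1 := Units.ext h4
    rw [ha1] at ha'
    have h6 : (ConfAut.scalarGL (1 : Fˣ) : GL ι F) = 1 := map_one _
    rw [h6, inv_mul_eq_one] at ha'
    exact Subtype.ext ha'
  rw [← hrange]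
  exact (Nat.card_congr (MonoidHom.ofInjective hinj).toEquiv).symm

theorem card_inn_of_odd :
    Nat.card (Cfsg.Inn (Cfsg.POmega F (⇑Q))) = Nat.card (Cfsg.Omega F (⇑Q)) := by
  rw [ConfAut.inn_eq, card_map_Phi_of_odd h2 hQ h hn _ (ConfAut.omegaGL_le_special Q)]
  unfold Cfsg.Geo.omegaGL
  exact Subgroup.card_map_of_injective (Subgroup.subtype_injective _)

end odd

end Cfsg.Agent.Helper17.OrthOut
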