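import Mathlib
import Cfsg.Agent.Lib.Helper17.OrthOut9

set_option autoImplicit false
set_option linter.unusedSectionVars false
set_option linter.unusedSimpArgs false

/-!
# `Out(Ω_{2m+1}(q)) ≅ C₂ × C_f` (helper17)
-/

namespace Cfsg.Agent.Helper17.OrthOut

open QuadraticMap Matrix Cfsg.Agent.Helper2.Orth Cfsg.Agent.Helper17.OrthAut
  Cfsg.Agent.Helper17.Spinor Cfsg.Agent.Helper13

variable {F : Type*} [Field F] [Fintype F]

/-- the field automorphisms as automorphisms of `PΩ` of the standard odd form -/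
noncomputable def fieldSecOdd (m : ℕ) :
    RingAut F →* MulAut (Cfsg.POmega F (⇑(matQ (oddMat m F)))) where
  toFun σ := stdAut (isSemisim_odd m σ)
  map_one' := by
    rw [← stdAut_one]
  map_mul' σ σ' := by
    rw [stdAut_mul]
    exact stdAut_congr (by simp) rfl _ _

theorem fieldSecOdd_apply (m : ℕ) (σ : RingAut F) :
    fieldSecOdd m σ = stdAut (isSemisim_odd m σ) := rfl

theorem card_omega_odd (h2 : (2 : F) ≠ 0) (k : ℕ) :
    Nat.card (Cfsg.Omega F (⇑(matQ (oddMat (k + 3) F)))) =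
      Nat.card (Cfsg.POmega F (⇑(matQ (oddMat (k + 3) F)))) := by
  have hQ := nondeg_odd (F := F) (k + 3) h2
  have hT : TwoHyp (matQ (oddMat (k + 3) F)) (Sum.inr (Sum.inl 0)) (Sum.inr (Sum.inr 0))
      (Sum.inr (Sum.inl 1)) (Sum.inr (Sum.inr 1)) := twoHyp_odd (k + 1)
  have hn := card_oddIdx (k + 3)
  have hno : (∃ g : Cfsg.isometryGroup F (⇑(matQ (oddMat (k + 3) F))),
      g ∈ Cfsg.Omega F (⇑(matQ (oddMat (k + 3) F))) ∧ g.1.1 = -1) ↔ False := by
    rw [iff_false]
    rintro ⟨g, hg, hg1⟩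
    have hs := Cfsg.Agent.Helper17.Spinor.Omega_le_special _ hg
    have hdet : Matrix.GeneralLinearGroup.det g.1 = 1 := hs
    have hdet' : (g.1.1).det = 1 := by
      have := congrArg Units.val hdet
      simpa using this
    rw [hg1, Matrix.det_neg, Matrix.det_one, mul_one, hn] at hdet'
    have : (-1 : F) ^ (2 * (k + 3) + 1) = -1 := by
      rw [pow_succ, pow_mul]
      simp
    rw [this] at hdet'
    apply h2
    linear_combination -hdet'
  have : Nonempty (Unit ⊕ (Fin (k + 3) ⊕ Fin (k + 3))) := ⟨Sum.inl ()⟩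
  have key := card_POmega_of_odd hQ hT h2 (by rw [hn]; omega) False hno
  rw [if_neg not_false] at key
  have h1 := card_POmega_mul (Q := matQ (oddMat (k + 3) F))
  rw [index_Omega _ h2 hQ (by rw [hn]; omega)] at h1
  have h3 := Subgroup.card_eq_card_quotient_mul_card_subgroup
    (Subgroup.center (Cfsg.Omega F (⇑(matQ (oddMat (k + 3) F)))))
  have hpos : 0 < Nat.card (Cfsg.POmega F (⇑(matQ (oddMat (k + 3) F)))) := Nat.card_pos
  have hZ : Nat.card (Subgroup.center (Cfsg.Omega F (⇑(matQ (oddMat (k + 3) F))))) = 1 := by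
    have h4 : Nat.card (Cfsg.POmega F (⇑(matQ (oddMat (k + 3) F)))) *
        Nat.card (Subgroup.center (Cfsg.Omega F (⇑(matQ (oddMat (k + 3) F))))) =
        Nat.card (Cfsg.POmega F (⇑(matQ (oddMat (k + 3) F)))) * 1 := by
      omega
    exact Nat.eq_of_mul_eq_mul_left hpos h4
  rw [h3, hZ, mul_one]

/-- the outer automorphism group of the odd-dimensional orthogonal group -/
theorem out_odd (h2 : (2 : F) ≠ 0) (k : ℕ) {f : ℕ} (hf : Nat.card (RingAut F) = f) :
    Nonempty (Cfsg.Out (Cfsg.POmega F (⇑(matQ (oddMat (k + 3) F)))) ≃*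
      Multiplicative (ZMod 2 × ZMod f)) := by
  have hp : Fact (ringChar F).Prime := ⟨CharP.char_is_prime F (ringChar F)⟩
  have G := good_odd (F := F) h2 k
  have hQ := nondeg_odd (F := F) (k + 3) h2
  have hT : TwoHyp (matQ (oddMat (k + 3) F)) (Sum.inr (Sum.inl 0)) (Sum.inr (Sum.inr 0))
      (Sum.inr (Sum.inl 1)) (Sum.inr (Sum.inr 1)) := twoHyp_odd (k + 1)
  have hn := card_oddIdx (k + 3)
  let πb : Cfsg.Out (Cfsg.POmega F (⇑(matQ (oddMat (k + 3) F)))) →* RingAut F :=
    QuotientGroup.lift (Cfsg.Inn _) G.fieldHom G.inn_le_ker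
  let sb : RingAut F →* Cfsg.Out (Cfsg.POmega F (⇑(matQ (oddMat (k + 3) F)))) :=
    (QuotientGroup.mk' (Cfsg.Inn _)).comp (fieldSecOdd (k + 3))
  have hπs : ∀ σ, πb (sb σ) = σ := by
    intro σ
    show G.fieldHom (fieldSecOdd (k + 3) σ) = σ
    rw [fieldSecOdd_apply, G.fieldHom_stdAut]
  have hsurj : Function.Surjective πb := fun σ => ⟨sb σ, hπs σ⟩
  have hfin : Finite (RingAut F) :=
    Finite.of_injective (fun σ : RingAut F => (σ : F → F)) DFunLike.coe_injective
  have hfpos : 0 < Nat.card (RingAut F) := Nat.card_pos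
  have hK : Nat.card πb.ker = 2 := by
    have h1 := Subgroup.card_eq_card_quotient_mul_card_subgroup πb.ker
    rw [Nat.card_congr (QuotientGroup.quotientKerEquivOfSurjective _ hsurj).toEquiv] at h1
    have h3 : Nat.card (Cfsg.Out (Cfsg.POmega F (⇑(matQ (oddMat (k + 3) F))))) =
        (Cfsg.Inn (Cfsg.POmega F (⇑(matQ (oddMat (k + 3) F))))).index := rfl
    have h4 := (Cfsg.Inn (Cfsg.POmega F (⇑(matQ (oddMat (k + 3) F))))).index_mul_card
    rw [card_inn_of_odd h2 hQ hT hn, card_omega_odd h2 k, card_mulAut_odd h2 k, ← h3, h1] at h4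
    have hpos : 0 < Nat.card (Cfsg.POmega F (⇑(matQ (oddMat (k + 3) F)))) := Nat.card_pos
    have h5 : Nat.card (RingAut F) * Nat.card πb.ker = Nat.card (RingAut F) * 2 := by
      apply Nat.eq_of_mul_eq_mul_right hpos
      rw [h4]
      ring
    exact Nat.eq_of_mul_eq_mul_left hfpos h5
  obtain ⟨e⟩ := split_of_section πb sb hπs hK
  have hcyc : IsCyclic (RingAut F) := Cfsg.Agent.Helper2.PA.isCyclic_ringAut (ringChar F)
  have eC : RingAut F ≃* Multiplicative (ZMod f) := by
    have e' := (zmodCyclicMulEquiv hcyc).symm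
    rw [hf] at e'
    exact e'
  exact ⟨(e.trans ((MulEquiv.refl _).prodCongr eC)).trans (MulEquiv.prodMultiplicative (ZMod 2) (ZMod f)).symm⟩

end Cfsg.Agent.Helper17.OrthOut
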