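import Mathlib
import Cfsg.Prelude.Def_Classical
import Cfsg.Prelude.Def_ClassicalGeometry
import Cfsg.Agent.Lib.Helper17.OmegaAll

/-!
# Orthogonal direct sums (helper17)

`sumForm Q₁ Q₂` on `F^(ι ⊕ κ)`; reflections in vectors of the first summand are block matrices;
an isometry of `Q₁` extended by the identity lies in `Ω(Q₁ ⊕ Q₂)` iff it lies in `Ω(Q₁)`.
-/

set_option autoImplicit false

namespace Cfsg.Agent.Helper17.Spinor
open Cfsg QuadraticMap Module

variable {F : Type*} [Field F] {ι κ : Type} [Fintype ι] [DecidableEq ι] [Fintype κ] [DecidableEq κ]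
  (Q₁ : QuadraticForm F (ι → F)) (Q₂ : QuadraticForm F (κ → F))

/-- the orthogonal direct sum of two quadratic forms on coordinate spaces -/
noncomputable def sumForm : QuadraticForm F (ι ⊕ κ → F) :=
  Q₁.comp (LinearMap.funLeft F F Sum.inl) + Q₂.comp (LinearMap.funLeft F F Sum.inr)

theorem sumForm_apply (v : ι ⊕ κ → F) :
    sumForm Q₁ Q₂ v = Q₁ (v ∘ Sum.inl) + Q₂ (v ∘ Sum.inr) := rfl

theorem coe_sumForm :
    ⇑(sumForm Q₁ Q₂) = fun v : ι ⊕ κ → F => Q₁ (v ∘ Sum.inl) + Q₂ (v ∘ Sum.inr) := rfl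

theorem polar_sumForm (v w : ι ⊕ κ → F) :
    polar (sumForm Q₁ Q₂) v w
      = polar Q₁ (v ∘ Sum.inl) (w ∘ Sum.inl) + polar Q₂ (v ∘ Sum.inr) (w ∘ Sum.inr) := by
  unfold polar
  simp only [sumForm_apply]
  have e1 : (v + w) ∘ (Sum.inl : ι → ι ⊕ κ) = v ∘ Sum.inl + w ∘ Sum.inl := rfl
  have e2 : (v + w) ∘ (Sum.inr : κ → ι ⊕ κ) = v ∘ Sum.inr + w ∘ Sum.inr := rfl
  rw [e1, e2]
  ring

theorem sumForm_elim (v : ι → F) (w : κ → F) :
    sumForm Q₁ Q₂ (Sum.elim v w) = Q₁ v + Q₂ w := by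
  rw [sumForm_apply, Sum.elim_comp_inl, Sum.elim_comp_inr]

theorem sumForm_elim_zero (v : ι → F) : sumForm Q₁ Q₂ (Sum.elim v 0) = Q₁ v := by
  rw [sumForm_elim, map_zero, add_zero]

theorem sumForm_zero_elim (w : κ → F) : sumForm Q₁ Q₂ (Sum.elim 0 w) = Q₂ w := by
  rw [sumForm_elim, map_zero, zero_add]

theorem nondegenerate_sumForm (h₁ : (polarBilin Q₁).Nondegenerate)
    (h₂ : (polarBilin Q₂).Nondegenerate) : (polarBilin (sumForm Q₁ Q₂)).Nondegenerate := by
  have hrefl : ∀ x y, polarBilin (sumForm Q₁ Q₂) x y = polarBilin (sumForm Q₁ Q₂) y x := by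
    intro x y
    simp only [polarBilin_apply_apply]
    exact polar_comm _ x y
  have hleft : ∀ x, (∀ y, polarBilin (sumForm Q₁ Q₂) x y = 0) → x = 0 := by
    intro x hx
    have hl : x ∘ Sum.inl = 0 := by
      apply h₁.1
      intro y
      have := hx (Sum.elim y 0)
      rw [polarBilin_apply_apply, polar_sumForm, Sum.elim_comp_inl, Sum.elim_comp_inr] at this
      rw [polarBilin_apply_apply]
      have hz : polar Q₂ (x ∘ Sum.inr) 0 = 0 := by
        have := polar_smul_right Q₂ (0 : F) (x ∘ Sum.inr) 0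
        simpa using this
      rw [hz, add_zero] at this
      exact this
    have hr : x ∘ Sum.inr = 0 := by
      apply h₂.1
      intro y
      have := hx (Sum.elim 0 y)
      rw [polarBilin_apply_apply, polar_sumForm, Sum.elim_comp_inl, Sum.elim_comp_inr] at this
      rw [polarBilin_apply_apply]
      have hz : polar Q₁ (x ∘ Sum.inl) 0 = 0 := by
        have := polar_smul_right Q₁ (0 : F) (x ∘ Sum.inl) 0
        simpa using this
      rw [hz, zero_add] at this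
      exact this
    funext i
    rcases i with i | i
    · exact congrFun hl i
    · exact congrFun hr i
  constructor
  · exact hleft
  · intro x hx
    apply hleft
    intro y
    rw [hrefl]
    exact hx y

theorem refl_sumForm_inl (v : ι → F) (x : ι ⊕ κ → F) :
    refl (sumForm Q₁ Q₂) (Sum.elim v 0) x = Sum.elim (refl Q₁ v (x ∘ Sum.inl)) (x ∘ Sum.inr) := by
  rw [refl_apply, refl_apply, sumForm_elim_zero, polar_sumForm, Sum.elim_comp_inl,
    Sum.elim_comp_inr]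
  have hz : polar Q₂ 0 (x ∘ Sum.inr) = 0 := by
    have := polar_smul_left Q₂ (0 : F) 0 (x ∘ Sum.inr)
    simpa using this
  rw [hz, add_zero]
  funext i
  rcases i with i | i
  · simp
  · simp

theorem reflectionMatrix_sumForm_inl (v : ι → F) :
    Cfsg.reflectionMatrix (⇑(sumForm Q₁ Q₂)) (Sum.elim v 0)
      = Matrix.fromBlocks (Cfsg.reflectionMatrix (⇑Q₁) v) 0 0 1 := by
  apply Matrix.toLin'.injective
  apply LinearMap.ext
  intro x
  rw [Matrix.toLin'_apply, Matrix.toLin'_apply, reflectionMatrix_mulVec, refl_sumForm_inl,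
    Matrix.fromBlocks_mulVec, reflectionMatrix_mulVec]
  simp

theorem prod_reflectionMatrix_sumForm_inl (vs : List (ι → F)) :
    ((vs.map (fun v => (Sum.elim v 0 : ι ⊕ κ → F))).map
        (fun w => Cfsg.reflectionMatrix (⇑(sumForm Q₁ Q₂)) w)).prod
      = Matrix.fromBlocks (vs.map (fun v => Cfsg.reflectionMatrix (⇑Q₁) v)).prod 0 0 1 := by
  induction vs with
  | nil => simp [Matrix.fromBlocks_one]
  | cons v vs ih =>
    rw [List.map_cons, List.map_cons, List.prod_cons, ih, List.map_cons, List.prod_cons,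
      reflectionMatrix_sumForm_inl, Matrix.fromBlocks_multiply]
    simp

/-- an isometry of `Q₁`, extended by the identity on the second summand, lies in `Ω(Q₁ ⊕ Q₂)` iff
it lies in `Ω(Q₁)` -/
theorem exists_mem_Omega_sumForm_iff [Fintype F] (h₁ : (polarBilin Q₁).Nondegenerate)
    (h₂ : (polarBilin Q₂).Nondegenerate) (hex₁ : Fintype.card F ≠ 2 ∨ Fintype.card ι ≠ 4)
    (hex : Fintype.card F ≠ 2 ∨ Fintype.card (ι ⊕ κ) ≠ 4)
    (g₁ : ↥(Cfsg.isometryGroup F (⇑Q₁))) :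
    (∃ g : ↥(Cfsg.isometryGroup F (⇑(sumForm Q₁ Q₂))), g ∈ Cfsg.Omega F (⇑(sumForm Q₁ Q₂)) ∧
      ((g : Matrix.GeneralLinearGroup (ι ⊕ κ) F) : Matrix (ι ⊕ κ) (ι ⊕ κ) F)
        = Matrix.fromBlocks ((g₁ : Matrix.GeneralLinearGroup ι F) : Matrix ι ι F) 0 0 1)
      ↔ g₁ ∈ Cfsg.Omega F (⇑Q₁) := by
  obtain ⟨vs, hvs, rfl⟩ := exists_prod_tG Q₁ h₁ hex₁ g₁
  set ws : List (ι ⊕ κ → F) := vs.map (fun v => (Sum.elim v 0 : ι ⊕ κ → F)) with hws
  have hwsQ : ∀ w ∈ ws, sumForm Q₁ Q₂ w ≠ 0 := by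
    intro w hw
    rw [hws, List.mem_map] at hw
    obtain ⟨v, hv, rfl⟩ := hw
    rw [sumForm_elim_zero]
    exact hvs v hv
  have hnd := nondegenerate_sumForm Q₁ Q₂ h₁ h₂
  have hcoe : ((((ws.map (tG (sumForm Q₁ Q₂))).prod :
      ↥(Cfsg.isometryGroup F (⇑(sumForm Q₁ Q₂)))) : Matrix.GeneralLinearGroup (ι ⊕ κ) F) :
        Matrix (ι ⊕ κ) (ι ⊕ κ) F)
      = Matrix.fromBlocks ((((vs.map (tG Q₁)).prod : ↥(Cfsg.isometryGroup F (⇑Q₁))) :
          Matrix.GeneralLinearGroup ι F) : Matrix ι ι F) 0 0 1 := by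
    rw [coe_prod_tG _ ws hwsQ, coe_prod_tG _ vs hvs, hws, prod_reflectionMatrix_sumForm_inl]
  have hbig := prod_tG_mem_Omega_iff_all (sumForm Q₁ Q₂) hnd hex ws hwsQ
  have hsmall := prod_tG_mem_Omega_iff_all Q₁ h₁ hex₁ vs hvs
  have hlen : ws.length = vs.length := by rw [hws, List.length_map]
  have hprod : (ws.map (fun w => sumForm Q₁ Q₂ w)).prod = (vs.map (fun v => Q₁ v)).prod := by
    rw [hws, List.map_map]
    congr 1
    apply List.map_congr_left
    intro v _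
    exact sumForm_elim_zero Q₁ Q₂ v
  rw [hlen, hprod] at hbig
  rw [hsmall, ← hbig]
  constructor
  · rintro ⟨g, hg, hgc⟩
    have : g = (ws.map (tG (sumForm Q₁ Q₂))).prod := by
      apply eq_of_coe_eq
      rw [hgc, hcoe]
    rw [← this]
    exact hg
  · intro hmem
    exact ⟨_, hmem, hcoe⟩

section swap

variable (Q : QuadraticForm F (ι → F))

theorem mulVec_isometry (g : ↥(Cfsg.isometryGroup F (⇑Q))) (u : ι → F) :
    Q (((g : Matrix.GeneralLinearGroup ι F) : Matrix ι ι F).mulVec u) = Q u := g.2 u u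

/-- the isometry `(x, y) ↦ (g y, x)` of `Q ⊕ Q` -/
noncomputable def swapG (g : ↥(Cfsg.isometryGroup F (⇑Q))) :
    ↥(Cfsg.isometryGroup F (⇑(sumForm Q Q))) :=
  ⟨⟨Matrix.fromBlocks 0 ((g : Matrix.GeneralLinearGroup ι F) : Matrix ι ι F) 1 0,
    Matrix.fromBlocks 0 1 (((g : Matrix.GeneralLinearGroup ι F)⁻¹ :
      Matrix.GeneralLinearGroup ι F) : Matrix ι ι F) 0,
    by
      rw [Matrix.fromBlocks_multiply]
      have h : ((g : Matrix.GeneralLinearGroup ι F) : Matrix ι ι F)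
          * (((g : Matrix.GeneralLinearGroup ι F)⁻¹ : Matrix.GeneralLinearGroup ι F) :
            Matrix ι ι F) = 1 := Units.mul_inv _
      simp [h, Matrix.fromBlocks_one],
    by
      rw [Matrix.fromBlocks_multiply]
      have h : (((g : Matrix.GeneralLinearGroup ι F)⁻¹ : Matrix.GeneralLinearGroup ι F) :
            Matrix ι ι F) * ((g : Matrix.GeneralLinearGroup ι F) : Matrix ι ι F) = 1 :=
        Units.inv_mul _
      simp [h, Matrix.fromBlocks_one]⟩, by
    intro u _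
    show sumForm Q Q ((Matrix.fromBlocks 0 ((g : Matrix.GeneralLinearGroup ι F) : Matrix ι ι F)
      1 0).mulVec u) = sumForm Q Q u
    rw [Matrix.fromBlocks_mulVec, sumForm_elim, Matrix.zero_mulVec, Matrix.zero_mulVec, zero_add,
      add_zero, Matrix.one_mulVec, mulVec_isometry, sumForm_apply, add_comm]⟩

theorem swapG_coe (g : ↥(Cfsg.isometryGroup F (⇑Q))) :
    (((swapG Q g : ↥(Cfsg.isometryGroup F (⇑(sumForm Q Q)))) :
      Matrix.GeneralLinearGroup (ι ⊕ ι) F) : Matrix (ι ⊕ ι) (ι ⊕ ι) F)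
      = Matrix.fromBlocks 0 ((g : Matrix.GeneralLinearGroup ι F) : Matrix ι ι F) 1 0 := rfl

theorem swapG_mul_self_coe (g : ↥(Cfsg.isometryGroup F (⇑Q))) :
    (((swapG Q g * swapG Q g : ↥(Cfsg.isometryGroup F (⇑(sumForm Q Q)))) :
      Matrix.GeneralLinearGroup (ι ⊕ ι) F) : Matrix (ι ⊕ ι) (ι ⊕ ι) F)
      = Matrix.fromBlocks ((g : Matrix.GeneralLinearGroup ι F) : Matrix ι ι F) 0 0
          ((g : Matrix.GeneralLinearGroup ι F) : Matrix ι ι F) := by
  rw [Subgroup.coe_mul, Units.val_mul, swapG_coe, Matrix.fromBlocks_multiply]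
  simp

/-- `diag(g, g)` lies in `Ω(Q ⊕ Q)` -/
theorem exists_mem_Omega_diag [Fintype F] (hQ : (polarBilin Q).Nondegenerate)
    (hex : Fintype.card F ≠ 2 ∨ Fintype.card (ι ⊕ ι) ≠ 4)
    (g : ↥(Cfsg.isometryGroup F (⇑Q))) :
    ∃ x : ↥(Cfsg.isometryGroup F (⇑(sumForm Q Q))), x ∈ Cfsg.Omega F (⇑(sumForm Q Q)) ∧
      ((x : Matrix.GeneralLinearGroup (ι ⊕ ι) F) : Matrix (ι ⊕ ι) (ι ⊕ ι) F)
        = Matrix.fromBlocks ((g : Matrix.GeneralLinearGroup ι F) : Matrix ι ι F) 0 0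
          ((g : Matrix.GeneralLinearGroup ι F) : Matrix ι ι F) :=
  ⟨swapG Q g * swapG Q g,
    sq_mem_Omega (sumForm Q Q) (nondegenerate_sumForm Q Q hQ hQ) hex (swapG Q g),
    swapG_mul_self_coe Q g⟩

end swap

end Cfsg.Agent.Helper17.Spinor
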