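import Mathlib

/-!
# S4427 (three primes, few `p`-regular elements ⇒ normal `p`-complement): shared definitions
(helper17)

Group-algebra elements of `ℂ[G]` given by coefficient functions, the sum of a subgroup, the
element `W = Q̂ R̂ Q̂`, and the left ideal `ℂ[G] f` as a representation.
-/

set_option autoImplicit false

namespace Cfsg.Agent.Helper17.PC

universe u

variable {G : Type u} [Group G] [Fintype G]

/-- the element of the group algebra with the given coefficient function -/
noncomputable def ofFn (a : G → ℂ) : MonoidAlgebra ℂ G :=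
  ∑ g : G, MonoidAlgebra.single g (a g)

open Classical in
/-- the sum of the elements of a subgroup -/
noncomputable def sumOf (H : Subgroup G) : MonoidAlgebra ℂ G :=
  ofFn (fun g => if g ∈ H then (1 : ℂ) else 0)

/-- `W = Q̂ R̂ Q̂` -/
noncomputable def WW (Q R : Subgroup G) : MonoidAlgebra ℂ G :=
  sumOf Q * sumOf R * sumOf Q

/-- the corner `f ℂ[G] f`, as the range of `z ↦ f z f` -/
noncomputable def corner (f : MonoidAlgebra ℂ G) : Submodule ℂ (MonoidAlgebra ℂ G) :=
  LinearMap.range ((LinearMap.mulLeft ℂ f).comp (LinearMap.mulRight ℂ f))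

/-- the left ideal `ℂ[G] f`, as the range of `z ↦ z f` -/
noncomputable def leftIdeal (f : MonoidAlgebra ℂ G) : Submodule ℂ (MonoidAlgebra ℂ G) :=
  LinearMap.range (LinearMap.mulRight ℂ f)

theorem single_mul_mem_leftIdeal (f : MonoidAlgebra ℂ G) (g : G) (z : MonoidAlgebra ℂ G)
    (hz : z ∈ leftIdeal f) : MonoidAlgebra.single g (1 : ℂ) * z ∈ leftIdeal f := by
  obtain ⟨y, rfl⟩ := hz
  exact ⟨MonoidAlgebra.single g (1 : ℂ) * y, by simp [mul_assoc]⟩

/-- left multiplication by group elements on the left ideal `ℂ[G] f` -/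
noncomputable def leftIdealRep (f : MonoidAlgebra ℂ G) : Representation ℂ G (leftIdeal f) where
  toFun g := (LinearMap.mulLeft ℂ (MonoidAlgebra.single g (1 : ℂ))).restrict
    (fun z hz => single_mul_mem_leftIdeal f g z hz)
  map_one' := by
    apply LinearMap.ext
    intro z
    apply Subtype.ext
    show MonoidAlgebra.single (1 : G) (1 : ℂ) * (z : MonoidAlgebra ℂ G) = z
    rw [← MonoidAlgebra.one_def, one_mul]
  map_mul' a b := by
    apply LinearMap.ext
    intro z
    apply Subtype.ext
    show MonoidAlgebra.single (a * b) (1 : ℂ) * (z : MonoidAlgebra ℂ G) =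
      MonoidAlgebra.single a (1 : ℂ) * (MonoidAlgebra.single b (1 : ℂ) * (z : MonoidAlgebra ℂ G))
    rw [← mul_assoc, MonoidAlgebra.single_mul_single, one_mul]

theorem leftIdealRep_apply (f : MonoidAlgebra ℂ G) (g : G) (z : leftIdeal f) :
    ((leftIdealRep f g z : leftIdeal f) : MonoidAlgebra ℂ G) =
      MonoidAlgebra.single g (1 : ℂ) * (z : MonoidAlgebra ℂ G) := rfl

end Cfsg.Agent.Helper17.PC
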