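import Mathlib
import Cfsg.Agent.Lib.Helper17.PCDefs
import Cfsg.Agent.Lib.Helper23.BlockLocal

/-!
# S4427 piece SPEC (helper17): the spectral idempotent of an integral element of `ℂ[G]` attached
to the eigenvalues that are units at `M`
-/

set_option autoImplicit false

namespace Cfsg.Agent.Helper17.PC

open Cfsg Cfsg.Agent.Helper23.Blk Polynomial

universe u

section LocRing

variable {M : Ideal AlgInt} [hMp : M.IsPrime]

/-- the local ring at `M`, as a subring of `ℂ` -/
def locRing (M : Ideal AlgInt) [M.IsPrime] : Subring ℂ where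
  carrier := {z | MemLocalRing M z}
  mul_mem' := fun hx hy => memLocalRing_mul hx hy
  one_mem' := memLocalRing_one ne_top
  add_mem' := fun hx hy => memLocalRing_add hx hy
  zero_mem' := memLocalRing_zero ne_top
  neg_mem' := fun hx => memLocalRing_neg hx

theorem mem_locRing {z : ℂ} : z ∈ locRing M ↔ MemLocalRing M z := Iff.rfl

theorem isCoprime_X_sub_C (a b : locRing M) (h : ¬ MemLocalIdeal M ((a : ℂ) - (b : ℂ))) :
    IsCoprime (X - C a) (X - C b) := by
  have hab : MemLocalRing M ((a : ℂ) - (b : ℂ)) := memLocalRing_sub a.2 b.2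
  let u : locRing M := ⟨((a : ℂ) - (b : ℂ))⁻¹, memLocalRing_inv hab h⟩
  have h0 : (a : ℂ) - (b : ℂ) ≠ 0 := by
    intro h0
    apply h
    rw [h0]
    exact memLocalIdeal_zero ne_top
  have hu : u * (a - b) = 1 := by
    apply Subtype.ext
    show ((a : ℂ) - (b : ℂ))⁻¹ * ((a : ℂ) - (b : ℂ)) = 1
    exact inv_mul_cancel₀ h0
  refine ⟨-C u, C u, ?_⟩
  have : -C u * (X - C a) + C u * (X - C b) = C (u * (a - b)) := by
    rw [C_mul, C_sub]; ring
  rw [this, hu, C_1]

theorem isCoprime_X_X_sub_C (b : locRing M) (h : ¬ MemLocalIdeal M ((b : locRing M) : ℂ)) :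
    IsCoprime (X : (locRing M)[X]) (X - C b) := by
  have h1 : ¬ MemLocalIdeal M (((0 : locRing M) : ℂ) - (b : ℂ)) := by
    intro h2
    apply h
    have h3 := memLocalIdeal_neg h2
    have hz : (((0 : locRing M) : locRing M) : ℂ) = 0 := rfl
    rw [hz, zero_sub, neg_neg] at h3
    exact h3
  have := isCoprime_X_sub_C 0 b h1
  rwa [C_0, sub_zero] at this

theorem isCoprime_prod_right (x : (locRing M)[X]) (s : Multiset (locRing M)[X])
    (h : ∀ y ∈ s, IsCoprime x y) : IsCoprime x s.prod := by
  induction s using Multiset.induction_on with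
  | empty => simpa using isCoprime_one_right
  | cons a s ih =>
    rw [Multiset.prod_cons]
    exact IsCoprime.mul_right (h a (Multiset.mem_cons_self a s))
      (ih fun y hy => h y (Multiset.mem_cons_of_mem hy))

theorem isCoprime_prod_left (x : (locRing M)[X]) (s : Multiset (locRing M)[X])
    (h : ∀ y ∈ s, IsCoprime y x) : IsCoprime s.prod x :=
  (isCoprime_prod_right x s fun y hy => (h y hy).symm).symm

end LocRing

section Main

variable {G : Type u} [Group G] [Fintype G]

/-- the augmentation of `ℂ[G]` -/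
noncomputable def aug : MonoidAlgebra ℂ G →ₐ[ℂ] ℂ := MonoidAlgebra.lift ℂ ℂ G 1

theorem aug_apply (x : MonoidAlgebra ℂ G) : aug x = ∑ g, x.coeff g := by
  unfold aug
  rw [MonoidAlgebra.lift_apply, Finsupp.sum_fintype]
  · simp
  · intro i; simp

variable {M : Ideal AlgInt} [hMp : M.IsPrime]

/-- evaluation at `W` of polynomials over the local ring -/
noncomputable def evW (M : Ideal AlgInt) [M.IsPrime] (W : MonoidAlgebra ℂ G) :
    (locRing M)[X] →+* MonoidAlgebra ℂ G :=
  ((aeval W : ℂ[X] →ₐ[ℂ] MonoidAlgebra ℂ G) : ℂ[X] →+* MonoidAlgebra ℂ G).comp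
    (mapRingHom (locRing M).subtype)

theorem evW_X (W : MonoidAlgebra ℂ G) : evW M W X = W := by
  simp [evW]

theorem evW_C (W : MonoidAlgebra ℂ G) (a : locRing M) :
    evW M W (C a) = algebraMap ℂ (MonoidAlgebra ℂ G) (a : ℂ) := by
  simp [evW]

theorem coeff_evW (W : MonoidAlgebra ℂ G)
    (hcoef : ∀ (j : ℕ) (g : G), MemLocalRing M ((W ^ j).coeff g)) (F : (locRing M)[X]) (g : G) :
    MemLocalRing M ((evW M W F).coeff g) := by
  induction F using Polynomial.induction_on' with
  | add p q hp hq =>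
    rw [map_add, MonoidAlgebra.coeff_add, Finsupp.add_apply]
    exact memLocalRing_add hp hq
  | monomial n a =>
    have h1 : evW M W (monomial n a) = (a : ℂ) • W ^ n := by
      rw [← C_mul_X_pow_eq_monomial, map_mul, map_pow, evW_X, evW_C, Algebra.smul_def]
    rw [h1, MonoidAlgebra.coeff_smul, Finsupp.smul_apply, smul_eq_mul]
    exact memLocalRing_mul a.2 (hcoef n g)

theorem aug_evW (W : MonoidAlgebra ℂ G) (F : (locRing M)[X]) :
    aug (evW M W F) = (F.map (locRing M).subtype).eval (aug W) := by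
  unfold evW
  simp only [RingHom.coe_comp, Function.comp_apply, coe_mapRingHom, RingHom.coe_coe]
  rw [← Polynomial.aeval_algHom_apply, Polynomial.aeval_def, Polynomial.eval₂_eq_eval_map]
  simp

/-- Bezout identity separating the roots in the local ideal (together with `0`) from the unit
roots (together with the unit `nn`). -/
theorem exists_bezout (rts : Multiset (locRing M)) (nn : locRing M)
    (hnn : ¬ MemLocalIdeal M ((nn : locRing M) : ℂ)) :
    ∃ U V P' Q' : (locRing M)[X], U * (X * P') + V * ((X - C nn) * Q') = 1 ∧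
      P' * Q' = (rts.map fun a => X - C a).prod := by
  classical
  obtain ⟨A, hAdef⟩ : ∃ A : Multiset (locRing M),
      A = rts.filter fun a => MemLocalIdeal M ((a : locRing M) : ℂ) := ⟨_, rfl⟩
  obtain ⟨B, hBdef⟩ : ∃ B : Multiset (locRing M),
      B = rts.filter fun a => ¬ MemLocalIdeal M ((a : locRing M) : ℂ) := ⟨_, rfl⟩
  have hAB : A + B = rts := by rw [hAdef, hBdef]; exact Multiset.filter_add_not _ _
  have hA : ∀ a ∈ A, MemLocalIdeal M ((a : locRing M) : ℂ) := fun a ha => by
    rw [hAdef] at ha; exact (Multiset.mem_filter.1 ha).2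
  have hB : ∀ b ∈ B, ¬ MemLocalIdeal M ((b : locRing M) : ℂ) := fun b hb => by
    rw [hBdef] at hb; exact (Multiset.mem_filter.1 hb).2
  obtain ⟨P', hP'⟩ : ∃ P' : (locRing M)[X], P' = (A.map fun a => X - C a).prod := ⟨_, rfl⟩
  obtain ⟨Q', hQ'⟩ : ∃ Q' : (locRing M)[X], Q' = (B.map fun a => X - C a).prod := ⟨_, rfl⟩
  have c1 : IsCoprime (X : (locRing M)[X]) (X - C nn) := isCoprime_X_X_sub_C nn hnn
  have c2 : IsCoprime (X : (locRing M)[X]) Q' := by
    rw [hQ']
    apply isCoprime_prod_right
    intro y hy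
    obtain ⟨b, hb, rfl⟩ := Multiset.mem_map.1 hy
    exact isCoprime_X_X_sub_C b (hB b hb)
  have c3 : IsCoprime P' (X - C nn) := by
    rw [hP']
    apply isCoprime_prod_left
    intro y hy
    obtain ⟨a, ha, rfl⟩ := Multiset.mem_map.1 hy
    apply isCoprime_X_sub_C
    intro h
    apply hnn
    have := memLocalIdeal_sub (hA a ha) h
    rw [sub_sub_cancel] at this
    exact this
  have c4 : IsCoprime P' Q' := by
    rw [hP', hQ']
    apply isCoprime_prod_left
    intro y hy
    obtain ⟨a, ha, rfl⟩ := Multiset.mem_map.1 hy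
    apply isCoprime_prod_right
    intro y' hy'
    obtain ⟨b, hb, rfl⟩ := Multiset.mem_map.1 hy'
    apply isCoprime_X_sub_C
    intro h
    apply hB b hb
    have := memLocalIdeal_sub (hA a ha) h
    rw [sub_sub_cancel] at this
    exact this
  have hcop : IsCoprime (X * P') ((X - C nn) * Q') :=
    IsCoprime.mul_left (IsCoprime.mul_right c1 c2) (IsCoprime.mul_right c3 c4)
  obtain ⟨U, V, hUV⟩ := hcop
  refine ⟨U, V, P', Q', hUV, ?_⟩
  rw [hP', hQ', ← hAB, Multiset.map_add, Multiset.prod_add]

/-- **PIECE SPEC**: the spectral idempotent attached to the eigenvalues of `W` that are units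
at `M`. -/
theorem exists_spectral_idem {p : ℕ} {M : Ideal AlgInt} (hM : IsPModular p M)
    (W : MonoidAlgebra ℂ G)
    (hint : ∃ m : Polynomial ℤ, m.Monic ∧ Polynomial.aeval W m = 0)
    (hcoef : ∀ (j : ℕ) (g : G), MemLocalRing M ((W ^ j).coeff g))
    (n₀ : ℕ) (hn₀ : ¬ p ∣ n₀) (haug : ∑ g, W.coeff g = (n₀ : ℂ)) :
    ∃ f s : MonoidAlgebra ℂ G, f * f = f ∧ f = W * s ∧ W * s = s * W ∧
      (∀ g, MemLocalRing M (f.coeff g)) ∧ ∑ g, f.coeff g = 1 := by
  classical
  haveI hMp : M.IsPrime := isPrime_of_isPModular hM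
  obtain ⟨m, hmon, hm0⟩ := hint
  -- the complex polynomial and its roots
  obtain ⟨mC, hmC⟩ : ∃ mC : ℂ[X], mC = m.map (Int.castRingHom ℂ) := ⟨_, rfl⟩
  have hmonC : mC.Monic := by rw [hmC]; exact hmon.map _
  have hsplit : mC.Splits := IsAlgClosed.splits mC
  have hprod : mC = (mC.roots.map fun a => X - C a).prod := by
    have := hsplit.eq_prod_roots
    rw [hmonC.leadingCoeff, C_1, one_mul] at this
    exact this
  have hroot_int : ∀ z ∈ mC.roots, z ∈ locRing M := by
    intro z hz
    apply memLocalRing_of_isIntegral _ ne_top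
    refine ⟨m, hmon, ?_⟩
    have h1 := (mem_roots hmonC.ne_zero).1 hz
    rw [IsRoot.def, hmC, eval_map] at h1
    exact h1
  -- the roots inside the local ring
  obtain ⟨rts, hrts⟩ : ∃ rts : Multiset (locRing M),
      rts.map (fun a => ((a : locRing M) : ℂ)) = mC.roots := by
    refine ⟨mC.roots.attach.map fun z => ⟨z.1, hroot_int z.1 z.2⟩, ?_⟩
    rw [Multiset.map_map]
    exact Multiset.attach_map_val _
  obtain ⟨nn, hnnv⟩ : ∃ nn : locRing M, ((nn : locRing M) : ℂ) = (n₀ : ℂ) :=
    ⟨⟨(n₀ : ℂ), memLocalRing_natCast n₀⟩, rfl⟩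
  have hnn : ¬ MemLocalIdeal M ((nn : locRing M) : ℂ) := by
    rw [hnnv, memLocalIdeal_natCast_iff hM]
    exact hn₀
  obtain ⟨U, V, P', Q', hUV, hP'Q'⟩ := exists_bezout rts nn hnn
  -- the product `P' * Q'` maps to `mC`
  have hPQ' : (P' * Q').map (locRing M).subtype = mC := by
    rw [hP'Q', Polynomial.map_multiset_prod, Multiset.map_map]
    conv_rhs => rw [hprod, ← hrts, Multiset.map_map]
    congr 1
    apply Multiset.map_congr rfl
    intro a _
    simp
  have hkill : evW M W (P' * Q') = 0 := by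
    unfold evW
    simp only [RingHom.coe_comp, Function.comp_apply, coe_mapRingHom, RingHom.coe_coe]
    rw [hPQ', hmC, ← algebraMap_int_eq, Polynomial.aeval_map_algebraMap]
    exact hm0
  have hkill2 : evW M W (X * P' * ((X - C nn) * Q')) = 0 := by
    have : X * P' * ((X - C nn) * Q') = X * (X - C nn) * (P' * Q') := by ring
    rw [this, map_mul, hkill, mul_zero]
  -- the idempotent
  refine ⟨evW M W (U * (X * P')), evW M W (U * P'), ?_, ?_, ?_, ?_, ?_⟩
  · have h1 : U * (X * P') * (U * (X * P')) - U * (X * P') =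
        -(U * V) * (X * P' * ((X - C nn) * Q')) := by
      have h2 : U * (X * P') - 1 = -(V * ((X - C nn) * Q')) := by rw [← hUV]; ring
      calc U * (X * P') * (U * (X * P')) - U * (X * P')
          = U * (X * P') * (U * (X * P') - 1) := by ring
        _ = U * (X * P') * (-(V * ((X - C nn) * Q'))) := by rw [h2]
        _ = -(U * V) * (X * P' * ((X - C nn) * Q')) := by ring
    have h3 : evW M W (U * (X * P')) * evW M W (U * (X * P')) - evW M W (U * (X * P')) = 0 := by
      rw [← map_mul, ← map_sub, h1, map_mul, hkill2, mul_zero]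
    exact sub_eq_zero.1 h3
  · have : U * (X * P') = X * (U * P') := by ring
    rw [this, map_mul, evW_X]
  · calc W * evW M W (U * P') = evW M W X * evW M W (U * P') := by rw [evW_X]
      _ = evW M W (X * (U * P')) := (map_mul _ _ _).symm
      _ = evW M W (U * P' * X) := by rw [mul_comm]
      _ = evW M W (U * P') * evW M W X := map_mul _ _ _
      _ = evW M W (U * P') * W := by rw [evW_X]
  · intro g
    exact coeff_evW W hcoef _ g
  · rw [← aug_apply, aug_evW]
    have haugW : aug W = (n₀ : ℂ) := by rw [aug_apply, haug]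
    rw [haugW]
    have h1 : (U * (X * P')).map (locRing M).subtype =
        1 - (V * ((X - C nn) * Q')).map (locRing M).subtype := by
      rw [← Polynomial.map_one (locRing M).subtype, ← hUV, Polynomial.map_add]
      ring
    rw [h1, eval_sub, eval_one, Polynomial.map_mul, eval_mul]
    have h2 : (((X - C nn) * Q').map (locRing M).subtype).eval (n₀ : ℂ) = 0 := by
      rw [Polynomial.map_mul, eval_mul, Polynomial.map_sub, map_X, map_C, eval_sub, eval_X,
        eval_C]
      have : ((locRing M).subtype nn : ℂ) = (n₀ : ℂ) := hnnv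
      rw [this, sub_self, zero_mul]
    rw [h2, mul_zero, sub_zero]

end Main

end Cfsg.Agent.Helper17.PC
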