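import Mathlib
import Cfsg.Agent.Lib.Helper10.Sims1

/-!
# S4751, piece D (helper17): `S₄ × Z(G)` from the local data

`exists_s4_aux` is the piece with the input of piece DK as an explicit hypothesis.
-/

set_option autoImplicit false

namespace Cfsg.Agent.Helper17.RUD

universe u

theorem card_comap_mk'' {X : Type*} [Group X] [Finite X] (N : Subgroup X) [N.Normal]
    (H : Subgroup (X ⧸ N)) :
    Nat.card (H.comap (QuotientGroup.mk' N)) = Nat.card H * Nat.card N := by
  have h1 : (H.comap (QuotientGroup.mk' N)).index = H.index :=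
    Subgroup.index_comap_of_surjective _ (QuotientGroup.mk'_surjective N)
  have h2 := (H.comap (QuotientGroup.mk' N)).card_mul_index
  have h3 := H.card_mul_index
  have h4 := N.card_eq_card_quotient_mul_card_subgroup
  have h5 : H.index ≠ 0 := Subgroup.index_ne_zero_of_finite
  rw [h1, h4, ← h3] at h2
  have h6 : Nat.card ↥(H.comap (QuotientGroup.mk' N)) * H.index =
      (Nat.card ↥H * Nat.card ↥N) * H.index := by rw [h2]; ring
  exact Nat.eq_of_mul_eq_mul_right (Nat.pos_of_ne_zero h5) h6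

variable {G : Type u} [Group G] [Finite G]

theorem exists_s4_aux
    (hDK : ∀ {X : Type u} [Group X] [Finite X] (Z₀ : Subgroup X), Z₀ ≤ Subgroup.center X →
      Odd (Nat.card Z₀) → Z₀.index = 6 → (¬ ∀ a b : X, a * b = b * a) →
      ∃ K : Subgroup X, Nat.card K = 6 ∧ K ⊓ Z₀ = ⊥)
    (P : Subgroup G) [P.Normal] (hcard : Nat.card P = 4)
    (hC : Subgroup.centralizer (P : Set G) = P ⊔ Subgroup.center G)
    (hPZ : P ⊓ Subgroup.center G = ⊥) (hodd : Odd (Nat.card (Subgroup.center G)))
    (hidx : (Subgroup.centralizer (P : Set G)).index = 6)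
    (hnab : ¬ ∀ a b : G ⧸ P, a * b = b * a) :
    ∃ H : Subgroup G, Nonempty (H ≃* Equiv.Perm (Fin 4)) ∧ H ⊓ Subgroup.center G = ⊥ ∧
      H ⊔ Subgroup.center G = ⊤ := by
  classical
  set Z : Subgroup G := Subgroup.center G with hZ
  set Z₀ : Subgroup (G ⧸ P) := Z.map (QuotientGroup.mk' P) with hZ₀
  -- the preimage of `Z₀` is the centralizer of `P`
  have hpre : Z₀.comap (QuotientGroup.mk' P) = Subgroup.centralizer (P : Set G) := by
    rw [hZ₀, Subgroup.comap_map_eq, QuotientGroup.ker_mk', hC, sup_comm]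
  have hZ₀idx : Z₀.index = 6 := by
    rw [← Subgroup.index_comap_of_surjective Z₀ (QuotientGroup.mk'_surjective P), hpre, hidx]
  have hZ₀cen : Z₀ ≤ Subgroup.center (G ⧸ P) := by
    rintro _ ⟨z, hz, rfl⟩
    rw [Subgroup.mem_center_iff]
    intro x
    induction x using QuotientGroup.induction_on with
    | H g =>
      have h1 := Subgroup.mem_center_iff.1 hz g
      show (QuotientGroup.mk' P) g * (QuotientGroup.mk' P) z =
        (QuotientGroup.mk' P) z * (QuotientGroup.mk' P) g
      rw [← map_mul, ← map_mul, h1]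
  -- `Z₀` has the order of the centre
  have hZ₀card : Nat.card Z₀ = Nat.card Z := by
    have hbij : Function.Bijective
        (fun z : Z => (⟨QuotientGroup.mk' P (z : G), Subgroup.mem_map_of_mem _ z.2⟩ : Z₀)) := by
      constructor
      · intro z z' hzz
        have h1 : QuotientGroup.mk' P (z : G) = QuotientGroup.mk' P (z' : G) :=
          congrArg Subtype.val hzz
        have h2 : (z : G)⁻¹ * (z' : G) ∈ P := by
          rw [← QuotientGroup.eq]; exact h1
        have h3 : (z : G)⁻¹ * (z' : G) ∈ P ⊓ Z :=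
          Subgroup.mem_inf.2 ⟨h2, Z.mul_mem (Z.inv_mem z.2) z'.2⟩
        rw [hPZ, Subgroup.mem_bot] at h3
        apply Subtype.ext
        have : (z' : G) = (z : G) * ((z : G)⁻¹ * (z' : G)) := by group
        rw [this, h3, mul_one]
      · rintro ⟨_, z, hz, rfl⟩
        exact ⟨⟨z, hz⟩, rfl⟩
    exact (Nat.card_congr (Equiv.ofBijective _ hbij)).symm
  have hZ₀odd : Odd (Nat.card Z₀) := by rw [hZ₀card]; exact hodd
  obtain ⟨K, hK6, hKZ⟩ := hDK Z₀ hZ₀cen hZ₀odd hZ₀idx hnab
  set H : Subgroup G := K.comap (QuotientGroup.mk' P) with hH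
  have hHcard : Nat.card H = 24 := by
    rw [hH, card_comap_mk'', hK6, hcard]
  have hPH : P ≤ H := by
    intro x hx
    rw [hH, Subgroup.mem_comap]
    have : QuotientGroup.mk' P x = 1 := (QuotientGroup.eq_one_iff x).2 hx
    rw [this]
    exact K.one_mem
  have hHC : ∀ x ∈ H, x ∈ Subgroup.centralizer (P : Set G) → x ∈ P := by
    intro x hxH hxC
    rw [← hpre, Subgroup.mem_comap] at hxC
    rw [hH, Subgroup.mem_comap] at hxH
    have h1 : QuotientGroup.mk' P x ∈ K ⊓ Z₀ := Subgroup.mem_inf.2 ⟨hxH, hxC⟩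
    rw [hKZ, Subgroup.mem_bot] at h1
    exact (QuotientGroup.eq_one_iff x).1 h1
  have hZC : Z ≤ Subgroup.centralizer (P : Set G) := by
    rw [hC]; exact le_sup_right
  have hHZ : H ⊓ Z = ⊥ := by
    rw [Subgroup.eq_bot_iff_forall]
    intro x hx
    obtain ⟨hxH, hxZ⟩ := Subgroup.mem_inf.1 hx
    have h1 : x ∈ P := hHC x hxH (hZC hxZ)
    have h2 : x ∈ P ⊓ Z := Subgroup.mem_inf.2 ⟨h1, hxZ⟩
    rw [hPZ, Subgroup.mem_bot] at h2
    exact h2
  -- recognition of `S₄`
  have hVn : (P.subgroupOf H).Normal := Subgroup.normal_subgroupOf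
  have hVcard : Nat.card (P.subgroupOf H) = 4 := by
    rw [Nat.card_congr (Subgroup.subgroupOfEquivOfLe hPH).toEquiv, hcard]
  have hVC : Subgroup.centralizer ((P.subgroupOf H : Subgroup ↥H) : Set ↥H) ≤ P.subgroupOf H := by
    intro x hx
    rw [Subgroup.mem_subgroupOf]
    apply hHC (x : G) x.2
    rw [Subgroup.mem_centralizer_iff]
    intro y hy
    rw [Subgroup.mem_centralizer_iff] at hx
    have h1 := hx ⟨y, hPH hy⟩ (by
      rw [SetLike.mem_coe, Subgroup.mem_subgroupOf]; exact hy)
    exact congrArg Subtype.val h1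
  have hiso := Cfsg.Agent.Helper10.Sims.s4_recog (M := ↥H) hHcard (P.subgroupOf H) hVcard hVC
  refine ⟨H, hiso, hHZ, ?_⟩
  -- `H Z = G` by counting
  have hCcard : Nat.card (Subgroup.centralizer (P : Set G)) = Nat.card Z * 4 := by
    rw [← hpre, card_comap_mk'', hZ₀card, hcard]
  have hGcard : Nat.card G = 24 * Nat.card Z := by
    have := (Subgroup.centralizer (P : Set G)).card_mul_index
    rw [hidx, hCcard] at this
    omega
  have hcomp : Subgroup.IsComplement' H Z := by
    apply Subgroup.isComplement'_of_card_mul_and_disjoint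
    · rw [hHcard, hGcard]
    · exact disjoint_iff.2 hHZ
  exact hcomp.sup_eq_top

end Cfsg.Agent.Helper17.RUD
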