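import Mathlib
import Cfsg.Agent.Lib.Helper15.RUDK
import Cfsg.Agent.Lib.Helper17.RUDAux

/-!
# S4751, piece D (helper17 for helper24): `G = S₄ × Z(G)` from the local data
-/

set_option autoImplicit false

namespace Cfsg.Agent.Helper24.RU

universe u

variable {G : Type u} [Group G] [Fintype G]

/-- PIECE D. -/
theorem exists_s4 (P : Subgroup G) [P.Normal] (hcard : Nat.card P = 4)
    (hC : Subgroup.centralizer (P : Set G) = P ⊔ Subgroup.center G)
    (hPZ : P ⊓ Subgroup.center G = ⊥) (hodd : Odd (Nat.card (Subgroup.center G)))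
    (hidx : (Subgroup.centralizer (P : Set G)).index = 6)
    (hnab : ¬ ∀ a b : G ⧸ P, a * b = b * a) :
    ∃ H : Subgroup G, Nonempty (H ≃* Equiv.Perm (Fin 4)) ∧ H ⊓ Subgroup.center G = ⊥ ∧
      H ⊔ Subgroup.center G = ⊤ :=
  Cfsg.Agent.Helper17.RUD.exists_s4_aux
    (fun Z₀ h1 h2 h3 h4 => exists_compl_six Z₀ h1 h2 h3 h4) P hcard hC hPZ hodd hidx hnab

end Cfsg.Agent.Helper24.RU
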