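import Mathlib
import Cfsg.Agent.Lib.Helper17.RegNil2
import Cfsg.Agent.Lib.Helper17.TruncPoly

/-!
# Existence of a regular unipotent element in `Sp_2m(F)`, `2 ≠ 0` (helper17)

The regular representation of `F[X]/(X^(2m))` in the basis `X^i`, `(-1)^i X^(2m-1-i)`; the form
`(x, y) ↦ coeff_(2m-1) (x * y(-X))` has Gram matrix `J` in this basis.
-/

set_option autoImplicit false
set_option linter.unusedSectionVars false

namespace Cfsg.Agent.Helper17.RegUnipEx

open Matrix Polynomial Cfsg.Agent.Helper17.Trunc Cfsg.Agent.Helper17 Cfsg.Agent.Helper17.Cayley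

variable (F : Type*) [Field F] (m : ℕ)

/-- exponent of the basis vector -/
def pw : Fin m ⊕ Fin m → ℕ := Sum.elim (fun i => (i : ℕ)) (fun i => 2 * m - 1 - (i : ℕ))

theorem pw_lt (x : Fin m ⊕ Fin m) : pw m x < 2 * m := by
  rcases x with i | i
  · have := i.2
    simp only [pw, Sum.elim_inl]
    omega
  · have := i.2
    simp only [pw, Sum.elim_inr]
    omega

/-- the index map -/
def idx (x : Fin m ⊕ Fin m) : Fin (2 * m) := ⟨pw m x, pw_lt m x⟩

theorem idx_bijective : Function.Bijective (idx m) := by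
  rw [Fintype.bijective_iff_injective_and_card]
  constructor
  · intro x y hxy
    have h := congrArg Fin.val hxy
    simp only [idx] at h
    rcases x with i | i <;> rcases y with j | j <;> simp only [pw, Sum.elim_inl, Sum.elim_inr] at h
    · exact congrArg Sum.inl (Fin.ext h)
    · have := i.2
      have := j.2
      omega
    · have := i.2
      have := j.2
      omega
    · have := i.2
      have := j.2
      exact congrArg Sum.inr (Fin.ext (by omega))
  · rw [Fintype.card_sum, Fintype.card_fin, Fintype.card_fin, two_mul]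

/-- the index equivalence -/
noncomputable def eqv : Fin m ⊕ Fin m ≃ Fin (2 * m) := Equiv.ofBijective (idx m) (idx_bijective m)

/-- the signs -/
def sgu : Fin m ⊕ Fin m → Fˣ := Sum.elim (fun _ => 1) (fun i => (-1) ^ (i : ℕ))

/-- the adapted basis -/
noncomputable def beta : Module.Basis (Fin m ⊕ Fin m) F (TP F (2 * m)) :=
  ((pbasis F (2 * m)).reindex (eqv m).symm).unitsSMul (sgu F m)

theorem beta_apply (x : Fin m ⊕ Fin m) :
    beta F m x = ((sgu F m x : Fˣ) : F) • (rt F (2 * m)) ^ (pw m x) := by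
  unfold beta
  rw [Module.Basis.unitsSMul_apply, Module.Basis.reindex_apply, Equiv.symm_symm, pbasis_apply,
    Units.smul_def]
  rfl

/-- the top coefficient -/
noncomputable def ell : TP F (2 * m) →ₗ[F] F :=
  if h : 0 < m then (pbasis F (2 * m)).coord ⟨2 * m - 1, by omega⟩ else 0

theorem ell_rt_pow (hm : 0 < m) (k : ℕ) :
    ell F m ((rt F (2 * m)) ^ k) = if k = 2 * m - 1 then 1 else 0 := by
  unfold ell
  rw [dif_pos hm]
  by_cases hk : k < 2 * m
  · have : (rt F (2 * m)) ^ k = pbasis F (2 * m) ⟨k, hk⟩ := (pbasis_apply F _ ⟨k, hk⟩).symm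
    rw [this, Module.Basis.coord_apply, Module.Basis.repr_self, Finsupp.single_apply]
    by_cases hk2 : k = 2 * m - 1
    · rw [if_pos hk2, if_pos (Fin.ext hk2)]
    · rw [if_neg hk2, if_neg (fun h => hk2 (congrArg Fin.val h))]
  · obtain ⟨e, he⟩ := Nat.exists_eq_add_of_le (not_lt.1 hk)
    rw [he, pow_add, rt_pow, zero_mul, map_zero, if_neg (by omega)]

/-- the form `(x, y) ↦ top coefficient of x * σ y` -/
noncomputable def form : LinearMap.BilinForm F (TP F (2 * m)) :=
  ((LinearMap.mul F (TP F (2 * m))).compl₂ (sigma F (2 * m)).toLinearMap).compr₂ (ell F m)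

theorem form_apply (x y : TP F (2 * m)) : form F m x y = ell F m (x * sigma F (2 * m) y) := rfl

theorem form_rt_pow (hm : 0 < m) (a b : ℕ) :
    form F m ((rt F (2 * m)) ^ a) ((rt F (2 * m)) ^ b) =
      if a + b = 2 * m - 1 then (-1) ^ b else 0 := by
  rw [form_apply, map_pow, sigma_rt, neg_pow, mul_left_comm, ← pow_add]
  have : (-1 : TP F (2 * m)) ^ b = algebraMap F _ ((-1) ^ b) := by
    rw [map_pow, map_neg, map_one]
  rw [this, ← Algebra.smul_def, map_smul, ell_rt_pow F m hm]
  by_cases hab : a + b = 2 * m - 1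
  · rw [if_pos hab, if_pos hab, smul_eq_mul, mul_one]
  · rw [if_neg hab, if_neg hab, smul_zero]

theorem beta_inl (i : Fin m) : beta F m (Sum.inl i) = (rt F (2 * m)) ^ (i : ℕ) := by
  rw [beta_apply]
  simp [sgu, pw]

theorem beta_inr (i : Fin m) :
    beta F m (Sum.inr i) = ((-1 : F) ^ (i : ℕ)) • (rt F (2 * m)) ^ (2 * m - 1 - (i : ℕ)) := by
  rw [beta_apply]
  simp [sgu, pw]

theorem form_beta (hm : 0 < m) (x y : Fin m ⊕ Fin m) :
    form F m (beta F m x) (beta F m y) = Matrix.J (Fin m) F x y := by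
  rw [Matrix.J]
  rcases x with i | i <;> rcases y with j | j
  · have hi := i.2
    have hj := j.2
    rw [beta_inl, beta_inl, form_rt_pow F m hm, if_neg (by omega), Matrix.fromBlocks_apply₁₁,
      Matrix.zero_apply]
  · have hi := i.2
    have hj := j.2
    rw [beta_inl, beta_inr, map_smul, form_rt_pow F m hm, Matrix.fromBlocks_apply₁₂,
      Matrix.neg_apply, Matrix.one_apply]
    by_cases hij : i = j
    · subst hij
      rw [if_pos (by omega), if_pos rfl, smul_eq_mul, ← pow_add]
      have : (i : ℕ) + (2 * m - 1 - (i : ℕ)) = 2 * (m - 1) + 1 := by omega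
      rw [this, pow_succ, pow_mul]
      simp
    · rw [if_neg (by intro h; apply hij; apply Fin.ext; omega), if_neg hij]
      simp
  · have hi := i.2
    have hj := j.2
    rw [beta_inr, beta_inl, map_smul, LinearMap.smul_apply, form_rt_pow F m hm,
      Matrix.fromBlocks_apply₂₁, Matrix.one_apply]
    by_cases hij : i = j
    · subst hij
      rw [if_pos (by omega), if_pos rfl, smul_eq_mul, ← pow_add, ← two_mul, pow_mul]
      simp
    · rw [if_neg (by intro h; apply hij; apply Fin.ext; omega), if_neg hij]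
      simp
  · have hi := i.2
    have hj := j.2
    rw [beta_inr, beta_inr, map_smul, map_smul, LinearMap.smul_apply, form_rt_pow F m hm,
      if_neg (by omega), Matrix.fromBlocks_apply₂₂, Matrix.zero_apply]
    simp

theorem toMatrix_form (hm : 0 < m) :
    LinearMap.BilinForm.toMatrix (beta F m) (form F m) = Matrix.J (Fin m) F := by
  ext x y
  rw [LinearMap.BilinForm.toMatrix_apply, form_beta F m hm]

theorem form_mul (x y z : TP F (2 * m)) :
    form F m (x * y) z = form F m y (sigma F (2 * m) x * z) := by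
  rw [form_apply, form_apply, map_mul (sigma F (2 * m)), sigma_sigma]
  congr 1
  ring

/-- the regular representation in the adapted basis -/
noncomputable def Lrep : TP F (2 * m) →ₐ[F] Matrix (Fin m ⊕ Fin m) (Fin m ⊕ Fin m) F :=
  Algebra.leftMulMatrix (beta F m)

theorem Lrep_transpose_mul (hm : 0 < m) (x : TP F (2 * m)) :
    (Lrep F m x)ᵀ * Matrix.J (Fin m) F = Matrix.J (Fin m) F * Lrep F m (sigma F (2 * m) x) := by
  have h1 : (form F m).compLeft (Algebra.lmul F (TP F (2 * m)) x) =
      (form F m).compRight (Algebra.lmul F (TP F (2 * m)) (sigma F (2 * m) x)) := by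
    ext y z
    rw [LinearMap.BilinForm.compLeft_apply, LinearMap.BilinForm.compRight_apply]
    simp only [Algebra.coe_lmul_eq_mul, LinearMap.mul_apply']
    exact form_mul F m x y z
  have h2 := congrArg (LinearMap.BilinForm.toMatrix (beta F m)) h1
  rw [LinearMap.BilinForm.toMatrix_compLeft, LinearMap.BilinForm.toMatrix_compRight,
    toMatrix_form F m hm] at h2
  exact h2

theorem Lrep_mem (hm : 0 < m) {x : TP F (2 * m)} (hx : sigma F (2 * m) x * x = 1) :
    Lrep F m x ∈ Matrix.symplecticGroup (Fin m) F := by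
  rw [SymplecticGroup.mem_iff', Lrep_transpose_mul F m hm, mul_assoc, ← map_mul, hx, map_one,
    mul_one]

theorem exists_regular_unipotent (h2 : (2 : F) ≠ 0) (hm : 0 < m) :
    ∃ u : Matrix.symplecticGroup (Fin m) F,
      ((u : Matrix (Fin m ⊕ Fin m) (Fin m ⊕ Fin m) F) - 1) ^ (2 * m) = 0 ∧
      ((u : Matrix (Fin m ⊕ Fin m) (Fin m ⊕ Fin m) F) - 1).rank = 2 * m - 1 := by
  have hnt : Nontrivial (TP F (2 * m)) := nontrivial_TP F _ (by omega)
  have hloc := isLocInv F (2 * m) h2
  have hsk : (sigma F (2 * m) : TP F (2 * m) →+* TP F (2 * m)) (rt F (2 * m)) = -rt F (2 * m) :=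
    sigma_rt F _
  have hrn : rt F (2 * m) ∈ nilradical (TP F (2 * m)) := hloc.mem_nilradical_of_skew hsk
  have hun := hloc.yac_unitary hsk
  have hmul := IsLocInv.yac_mul hrn
  have hu1 := (mem_nilradical.1 hrn).isUnit_one_sub
  -- `e₀ - 1 = rt * w`
  set e0 := IsLocInv.yac (rt F (2 * m)) with he0
  set w := algebraMap F (TP F (2 * m)) 2 * Ring.inverse (1 - rt F (2 * m)) with hw
  have hwu : IsUnit w :=
    ((IsUnit.mk0 (2 : F) h2).map (algebraMap F (TP F (2 * m)))).mul hu1.ringInverse
  have hew : e0 - 1 = rt F (2 * m) * w := by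
    have h3 : (e0 - 1) * (1 - rt F (2 * m)) = algebraMap F (TP F (2 * m)) 2 * rt F (2 * m) := by
      rw [sub_mul, hmul, map_ofNat]
      ring
    have h4 : e0 - 1 = algebraMap F (TP F (2 * m)) 2 * rt F (2 * m) *
        Ring.inverse (1 - rt F (2 * m)) := by
      rw [← h3, mul_assoc, Ring.mul_inverse_cancel _ hu1, mul_one]
    rw [h4, hw]
    ring
  refine ⟨⟨Lrep F m e0, Lrep_mem F m hm hun⟩, ?_, ?_⟩
  · show (Lrep F m e0 - 1) ^ (2 * m) = 0
    rw [← map_one (Lrep F m), ← map_sub, ← map_pow, hew, mul_pow, rt_pow, zero_mul, map_zero]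
  · show (Lrep F m e0 - 1).rank = 2 * m - 1
    apply RegNil.matrix_rank_of_pow_ne_zero _ (by rw [Fintype.card_sum, Fintype.card_fin, two_mul])
      (by omega)
    · rw [← map_one (Lrep F m), ← map_sub, ← map_pow, hew, mul_pow, rt_pow, zero_mul, map_zero]
    · rw [← map_one (Lrep F m), ← map_sub, ← map_pow, hew, mul_pow]
      intro h
      have h5 := Algebra.leftMulMatrix_injective (beta F m) (h.trans (map_zero _).symm)
      have h6 := (hwu.pow (2 * m - 1)).mul_left_injective (h5.trans (zero_mul _).symm)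
      have h7 : (rt F (2 * m)) ^ (2 * m - 1) = pbasis F (2 * m) ⟨2 * m - 1, by omega⟩ :=
        (pbasis_apply F _ ⟨2 * m - 1, by omega⟩).symm
      rw [h7] at h6
      exact (pbasis F (2 * m)).ne_zero _ h6

end Cfsg.Agent.Helper17.RegUnipEx
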