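import Mathlib
import Cfsg.Agent.Lib.Helper17.RegNil2
import Cfsg.Agent.Lib.Helper17.RegUnipSp
import Cfsg.Agent.Lib.Helper17.CayleyNorm
import Cfsg.Agent.Lib.Helper17.RegUnipExists

/-!
# Regular unipotent elements of `Sp_2m(q)`, `q` odd: two classes (helper17)
-/

set_option autoImplicit false
set_option linter.unusedSectionVars false

namespace Cfsg.Agent.Helper17.RegUnip

open Matrix Polynomial Cfsg.Agent.Helper17.Trunc Cfsg.Agent.Helper17 Cfsg.Agent.Helper17.Cayley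

variable {F : Type*} [Field F] {m : ℕ}

local notation "Mat" => Matrix (Fin m ⊕ Fin m) (Fin m ⊕ Fin m) F
local notation "Jm" => Matrix.J (Fin m) F
local notation "Spm" => Matrix.symplecticGroup (Fin m) F

/-- regular unipotent -/
def Reg (u : Spm) : Prop :=
  ((u : Mat) - 1) ^ (2 * m) = 0 ∧ ((u : Mat) - 1).rank = 2 * m - 1

theorem card_sum_fin : Fintype.card (Fin m ⊕ Fin m) = 2 * m := by
  rw [Fintype.card_sum, Fintype.card_fin, two_mul]

theorem J_mul_left_cancel {X Y : Mat} (h : Jm * X = Jm * Y) : X = Y := by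
  have h1 := congrArg (fun Z => Jm * Z) h
  simp only [← mul_assoc, Matrix.J_squared] at h1
  simpa using h1

/-- similar regular unipotents -/
theorem exists_conj (hm : 0 < m) {u₀ u : Spm} (h₀ : Reg u₀) (h : Reg u) :
    ∃ H Hi : Mat, H * Hi = 1 ∧ Hi * H = 1 ∧ H * (u₀ : Mat) = (u : Mat) * H := by
  obtain ⟨H, Hi, h1, h2, h3⟩ := RegNil.matrix_exists_conj ((u₀ : Mat) - 1) ((u : Mat) - 1)
    card_sum_fin (by omega) h₀.1 h₀.2 h.1 h.2
  refine ⟨H, Hi, h1, h2, ?_⟩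
  rw [mul_sub, sub_mul, mul_one, one_mul] at h3
  exact sub_left_injective h3

/-- the data relating a conjugate of `u₀` to `u₀` -/
structure Rel (u₀ : Spm) (hτn : tau u₀ ^ (2 * m) = 0) (u : Spm) (H Hi : Mat)
    (a : TP F (2 * m)) : Prop where
  hHHi : H * Hi = 1
  hHiH : Hi * H = 1
  hconj : H * (u₀ : Mat) = (u : Mat) * H
  hform : Hᵀ * Jm * H = Jm * Psi (tau u₀) hτn a

theorem rel_one (u₀ : Spm) (hτn : tau u₀ ^ (2 * m) = 0) : Rel u₀ hτn u₀ 1 1 1 where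
  hHHi := one_mul 1
  hHiH := one_mul 1
  hconj := by rw [one_mul, mul_one]
  hform := by rw [map_one, transpose_one, one_mul, mul_one]


theorem coe_mem_J (u : Spm) : (u : Mat)ᵀ * Jm * (u : Mat) = Jm := SymplecticGroup.mem_iff'.1 u.2

/-- the self-adjoint unit attached to a conjugating matrix -/
theorem exists_rel (h2 : (2 : F) ≠ 0) (hm : 0 < m) {u₀ u : Spm} (h₀ : Reg u₀)
    (hτn : tau u₀ ^ (2 * m) = 0) {H Hi : Mat} (hHHi : H * Hi = 1) (hHiH : Hi * H = 1)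
    (hconj : H * (u₀ : Mat) = (u : Mat) * H) :
    ∃ a : TP F (2 * m), sigma F (2 * m) a = a ∧ a ∉ nilradical (TP F (2 * m)) ∧
      Rel u₀ hτn u H Hi a := by
  have hd := card_sum_fin (m := m)
  have hd0 : 0 < 2 * m := by omega
  have hτr : (tau u₀).rank = 2 * m - 1 := by rw [tau_rank h2 u₀ ⟨_, h₀.1⟩, h₀.2]
  have hsk := tau_skew u₀
  set M : Mat := Hᵀ * Jm * H with hM
  set c : Mat := -Jm * M with hc
  have hJc : Jm * c = M := by
    rw [hc, ← mul_assoc, mul_neg, Matrix.J_squared, neg_neg, one_mul]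
  -- `M` is preserved by `u₀`
  have hMu : (u₀ : Mat)ᵀ * M * (u₀ : Mat) = M := by
    have e1 : (u₀ : Mat)ᵀ * M * (u₀ : Mat) = (H * (u₀ : Mat))ᵀ * Jm * (H * (u₀ : Mat)) := by
      rw [hM, transpose_mul]
      simp only [mul_assoc]
    rw [e1, hconj, transpose_mul]
    have e2 : Hᵀ * (u : Mat)ᵀ * Jm * ((u : Mat) * H) = Hᵀ * ((u : Mat)ᵀ * Jm * (u : Mat)) * H := by
      simp only [mul_assoc]
    rw [e2, coe_mem_J]
  -- `c` commutes with `u₀`
  have hcu : Commute c (u₀ : Mat) := by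
    have e1 : Jm * (((u₀⁻¹ : Spm) : Mat) * c * (u₀ : Mat)) = Jm * c := by
      rw [hJc]
      have : Jm * (((u₀⁻¹ : Spm) : Mat) * c * (u₀ : Mat)) = (u₀ : Mat)ᵀ * (Jm * c) * (u₀ : Mat) := by
        rw [← mul_assoc, ← mul_assoc, ← transpose_mul_J u₀]
        simp only [mul_assoc]
      rw [this, hJc, hMu]
    have e2 := J_mul_left_cancel e1
    show c * (u₀ : Mat) = (u₀ : Mat) * c
    calc c * (u₀ : Mat) = ((u₀ : Mat) * ((u₀⁻¹ : Spm) : Mat)) * c * (u₀ : Mat) := by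
          rw [coe_mul_coe_inv, one_mul]
      _ = (u₀ : Mat) * (((u₀⁻¹ : Spm) : Mat) * c * (u₀ : Mat)) := by simp only [mul_assoc]
      _ = (u₀ : Mat) * c := by rw [e2]
  obtain ⟨a, ha⟩ := exists_Psi_eq (tau u₀) c hd hd0 hτn hτr (commute_tau_of_commute u₀ c hcu)
  have hinj := Psi_injective (tau u₀) hd hd0 hτn hτr
  have hMa : M = Jm * Psi (tau u₀) hτn a := by rw [ha, hJc]
  refine ⟨a, ?_, ?_, ⟨hHHi, hHiH, hconj, hMa⟩⟩
  · -- self-adjoint
    have hMt : Mᵀ = -M := by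
      rw [hM, transpose_mul, transpose_mul, transpose_transpose, Matrix.J_transpose]
      simp only [mul_assoc, neg_mul, mul_neg]
    have h3 : Mᵀ = -(Jm * Psi (tau u₀) hτn (sigma F (2 * m) a)) := by
      rw [hMa, transpose_mul, Matrix.J_transpose, mul_neg, Psi_transpose_mul _ _ hτn hsk]
    rw [hMt, hMa, neg_inj] at h3
    exact hinj (J_mul_left_cancel h3).symm
  · -- not nilpotent
    intro hn
    rw [mem_nilradical] at hn
    obtain ⟨k, hk⟩ := hn
    have hck : c ^ k = 0 := by rw [← ha, ← map_pow, hk, map_zero]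
    have hcu : IsUnit c := by
      rw [hc, hM]
      have hJu : IsUnit (-Jm : Mat) := by
        apply IsUnit.of_mul_eq_one (Jm)
        rw [neg_mul, Matrix.J_squared, neg_neg]
      have hJu' : IsUnit (Jm : Mat) := by
        apply IsUnit.of_mul_eq_one (-Jm)
        rw [mul_neg, Matrix.J_squared, neg_neg]
      have hHu : IsUnit H := IsUnit.of_mul_eq_one _ hHHi
      have hHtu : IsUnit Hᵀ := by
        apply IsUnit.of_mul_eq_one Hiᵀ
        rw [← transpose_mul, hHiH, transpose_one]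
      exact hJu.mul ((hHtu.mul hJu').mul hHu)
    have : Nonempty (Fin m ⊕ Fin m) := ⟨Sum.inl ⟨0, hm⟩⟩
    have h5 := hcu.pow k
    rw [hck] at h5
    exact not_isUnit_zero h5


theorem Rel.inv_conj {u₀ : Spm} {hτn : tau u₀ ^ (2 * m) = 0} {u : Spm} {H Hi : Mat}
    {a : TP F (2 * m)} (r : Rel u₀ hτn u H Hi a) : Hi * (u : Mat) = (u₀ : Mat) * Hi := by
  calc Hi * (u : Mat) = Hi * (u : Mat) * (H * Hi) := by rw [r.hHHi, mul_one]
    _ = Hi * ((u : Mat) * H) * Hi := by simp only [mul_assoc]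
    _ = Hi * (H * (u₀ : Mat)) * Hi := by rw [r.hconj]
    _ = (Hi * H) * (u₀ : Mat) * Hi := by simp only [mul_assoc]
    _ = (u₀ : Mat) * Hi := by rw [r.hHiH, one_mul]

/-- conjugacy from a norm relation -/
theorem isConj_of_rel {u₀ : Spm} {hτn : tau u₀ ^ (2 * m) = 0} {u u' : Spm} {H Hi H' Hi' : Mat}
    {a a' : TP F (2 * m)} (r : Rel u₀ hτn u H Hi a) (r' : Rel u₀ hτn u' H' Hi' a')
    {e : TP F (2 * m)} (he : a = sigma F (2 * m) e * e * a') : IsConj u u' := by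
  have hsk := tau_skew u₀
  set E : Mat := Psi (tau u₀) hτn e with hE
  set K : Mat := H' * E * Hi with hK
  have hEu : Commute (u₀ : Mat) E := Psi_commute (tau u₀) _ hτn (commute_tau u₀) e
  have hKmem : K ∈ Spm := by
    rw [SymplecticGroup.mem_iff']
    have e1 : Kᵀ * Jm * K = Hiᵀ * (Eᵀ * (H'ᵀ * Jm * H') * E) * Hi := by
      rw [hK, transpose_mul, transpose_mul]
      simp only [mul_assoc]
    have e2 : Eᵀ * (H'ᵀ * Jm * H') * E = Jm * Psi (tau u₀) hτn a := by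
      rw [r'.hform, ← mul_assoc, hE, Psi_transpose_mul _ _ hτn hsk, mul_assoc, mul_assoc, ← map_mul,
        ← map_mul, he]
      congr 2
      ring
    rw [e1, e2, ← r.hform]
    have e3 : Hiᵀ * (Hᵀ * Jm * H) * Hi = (H * Hi)ᵀ * Jm * (H * Hi) := by
      rw [transpose_mul]
      simp only [mul_assoc]
    rw [e3, r.hHHi, transpose_one, one_mul, mul_one]
  have hKu : K * (u : Mat) = (u' : Mat) * K := by
    calc K * (u : Mat) = H' * E * (Hi * (u : Mat)) := by rw [hK]; simp only [mul_assoc]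
      _ = H' * (E * (u₀ : Mat)) * Hi := by rw [r.inv_conj]; simp only [mul_assoc]
      _ = H' * ((u₀ : Mat) * E) * Hi := by rw [hEu.eq]
      _ = (H' * (u₀ : Mat)) * E * Hi := by simp only [mul_assoc]
      _ = (u' : Mat) * K := by rw [r'.hconj, hK]; simp only [mul_assoc]
  rw [isConj_iff]
  refine ⟨⟨K, hKmem⟩, ?_⟩
  rw [mul_inv_eq_iff_eq_mul]
  apply Subtype.ext
  exact hKu


/-- the similitude `diag(ν, 1)` -/
def Hsim (ν : F) : Mat := Matrix.fromBlocks (ν • (1 : Matrix (Fin m) (Fin m) F)) 0 0 1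

theorem Hsim_mul (ν μ : F) : (Hsim ν : Mat) * Hsim μ = Hsim (ν * μ) := by
  unfold Hsim
  rw [Matrix.fromBlocks_multiply]
  simp [mul_smul, smul_comm μ ν]

theorem Hsim_one : (Hsim 1 : Mat) = 1 := by
  unfold Hsim
  rw [one_smul, Matrix.fromBlocks_one]

theorem Hsim_form (ν : F) : (Hsim ν : Mat)ᵀ * Jm * Hsim ν = ν • Jm := by
  unfold Hsim
  rw [Matrix.J, Matrix.fromBlocks_transpose, Matrix.fromBlocks_multiply, Matrix.fromBlocks_multiply,
    Matrix.fromBlocks_smul]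
  simp

theorem conj_mem_of_form {u₀ : Spm} {H Hi : Mat} (hHHi : H * Hi = 1)
    {ν : F} (hν : ν ≠ 0) (hH : Hᵀ * Jm * H = ν • Jm) :
    H * (u₀ : Mat) * Hi ∈ Spm := by
  have hHi : Hiᵀ * Jm * Hi = ν⁻¹ • Jm := by
    have e1 : Hiᵀ * (Hᵀ * Jm * H) * Hi = Jm := by
      have : Hiᵀ * (Hᵀ * Jm * H) * Hi = (H * Hi)ᵀ * Jm * (H * Hi) := by
        rw [transpose_mul]
        simp only [mul_assoc]
      rw [this, hHHi, transpose_one, one_mul, mul_one]
    rw [hH, Matrix.mul_smul, Matrix.smul_mul] at e1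
    calc Hiᵀ * Jm * Hi = ν⁻¹ • (ν • (Hiᵀ * Jm * Hi)) := by
          rw [smul_smul, inv_mul_cancel₀ hν, one_smul]
      _ = ν⁻¹ • Jm := by rw [e1]
  rw [SymplecticGroup.mem_iff']
  have e2 : (H * (u₀ : Mat) * Hi)ᵀ * Jm * (H * (u₀ : Mat) * Hi) =
      Hiᵀ * ((u₀ : Mat)ᵀ * (Hᵀ * Jm * H) * (u₀ : Mat)) * Hi := by
    rw [transpose_mul, transpose_mul]
    simp only [mul_assoc]
  rw [e2, hH, Matrix.mul_smul, Matrix.smul_mul, coe_mem_J, Matrix.mul_smul, Matrix.smul_mul, hHi,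
    smul_smul, mul_inv_cancel₀ hν, one_smul]

theorem conj_pow {H Hi : Mat} (hHiH : Hi * H = 1) (N : Mat) (k : ℕ) :
    (H * N * Hi) ^ k * H = H * N ^ k := by
  induction k with
  | zero => simp
  | succ k ih =>
    rw [pow_succ', mul_assoc, ih, pow_succ']
    have : H * N * Hi * (H * N ^ k) = H * N * (Hi * H) * N ^ k := by simp only [mul_assoc]
    rw [this, hHiH, mul_one, mul_assoc]

/-- a conjugate of `u₀` by a similitude with multiplier `ν` -/
theorem exists_second {u₀ : Spm} (h₀ : Reg u₀) (hτn : tau u₀ ^ (2 * m) = 0) {ν : F} (hν : ν ≠ 0) :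
    ∃ u₁ : Spm, Reg u₁ ∧ Rel u₀ hτn u₁ (Hsim ν) (Hsim ν⁻¹) (algebraMap F (TP F (2 * m)) ν) := by
  have h1 : (Hsim ν : Mat) * Hsim ν⁻¹ = 1 := by rw [Hsim_mul, mul_inv_cancel₀ hν, Hsim_one]
  have h2 : (Hsim ν⁻¹ : Mat) * Hsim ν = 1 := by rw [Hsim_mul, inv_mul_cancel₀ hν, Hsim_one]
  have hu1 : IsUnit (Hsim ν : Mat).det :=
    (Matrix.isUnit_iff_isUnit_det _).1 (IsUnit.of_mul_eq_one _ h1)
  have hu2 : IsUnit (Hsim ν⁻¹ : Mat).det :=
    (Matrix.isUnit_iff_isUnit_det _).1 (IsUnit.of_mul_eq_one _ h2)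
  refine ⟨⟨(Hsim ν : Mat) * (u₀ : Mat) * Hsim ν⁻¹, conj_mem_of_form h1 hν (Hsim_form ν)⟩, ?_, ?_⟩
  · have e : (Hsim ν : Mat) * (u₀ : Mat) * Hsim ν⁻¹ - 1 =
        Hsim ν * ((u₀ : Mat) - 1) * Hsim ν⁻¹ := by
      rw [mul_sub, sub_mul, mul_one, h1]
    constructor
    · show ((Hsim ν : Mat) * (u₀ : Mat) * Hsim ν⁻¹ - 1) ^ (2 * m) = 0
      rw [e]
      have h3 := conj_pow h2 ((u₀ : Mat) - 1) (2 * m)
      rw [h₀.1, mul_zero] at h3
      have h4 := congrArg (fun X => X * (Hsim ν⁻¹ : Mat)) h3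
      simp only [zero_mul] at h4
      rw [mul_assoc, h1, mul_one] at h4
      exact h4
    · show ((Hsim ν : Mat) * (u₀ : Mat) * Hsim ν⁻¹ - 1).rank = 2 * m - 1
      rw [e, Matrix.rank_mul_eq_left_of_isUnit_det _ _ hu2,
        Matrix.rank_mul_eq_right_of_isUnit_det _ _ hu1, h₀.2]
  · refine ⟨h1, h2, ?_, ?_⟩
    · show (Hsim ν : Mat) * (u₀ : Mat) = (Hsim ν : Mat) * (u₀ : Mat) * Hsim ν⁻¹ * Hsim ν
      rw [mul_assoc _ (Hsim ν⁻¹ : Mat), h2, mul_one]
    · rw [Hsim_form, AlgHom.commutes, Algebra.algebraMap_eq_smul_one, Matrix.mul_smul, mul_one]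

/-- a conjugating element gives a norm relation -/
theorem exists_norm_of_isConj (h2 : (2 : F) ≠ 0) (hm : 0 < m) {u₀ : Spm} (h₀ : Reg u₀)
    {hτn : tau u₀ ^ (2 * m) = 0} {u₁ : Spm} {H Hi : Mat} {a : TP F (2 * m)}
    (r : Rel u₀ hτn u₁ H Hi a) (hc : IsConj u₀ u₁) :
    ∃ e : TP F (2 * m), sigma F (2 * m) e * e * a = 1 := by
  have hd := card_sum_fin (m := m)
  have hd0 : 0 < 2 * m := by omega
  have hτr : (tau u₀).rank = 2 * m - 1 := by rw [tau_rank h2 u₀ ⟨_, h₀.1⟩, h₀.2]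
  have hsk := tau_skew u₀
  have hinj := Psi_injective (tau u₀) hd hd0 hτn hτr
  rw [isConj_iff] at hc
  obtain ⟨k, hk⟩ := hc
  rw [mul_inv_eq_iff_eq_mul] at hk
  have hK : (k : Mat) * (u₀ : Mat) = (u₁ : Mat) * (k : Mat) :=
    congrArg (fun x : Spm => (x : Mat)) hk
  set E : Mat := Hi * (k : Mat) with hE
  have hEu : Commute E (u₀ : Mat) := by
    show E * (u₀ : Mat) = (u₀ : Mat) * E
    calc E * (u₀ : Mat) = Hi * ((k : Mat) * (u₀ : Mat)) := by rw [hE, mul_assoc]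
      _ = (Hi * (u₁ : Mat)) * (k : Mat) := by rw [hK, mul_assoc]
      _ = (u₀ : Mat) * E := by rw [r.inv_conj, hE, mul_assoc]
  obtain ⟨e, he⟩ := exists_Psi_eq (tau u₀) E hd hd0 hτn hτr (commute_tau_of_commute u₀ E hEu)
  have hkE : (k : Mat) = H * E := by rw [hE, ← mul_assoc, r.hHHi, one_mul]
  have h3 := coe_mem_J k
  rw [hkE, transpose_mul] at h3
  have h4 : Eᵀ * Hᵀ * Jm * (H * E) = Eᵀ * (Hᵀ * Jm * H) * E := by simp only [mul_assoc]
  rw [h4, r.hform, ← he, ← mul_assoc, Psi_transpose_mul _ _ hτn hsk, mul_assoc, mul_assoc, ← map_mul,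
    ← map_mul] at h3
  have h5 := J_mul_cancel h3
  refine ⟨e, ?_⟩
  apply hinj
  rw [map_one, ← h5]
  congr 1
  ring


/-- the regular unipotent elements of `Sp_2m(F)` form exactly two classes -/
theorem card_classes [Fintype F] (h2 : (2 : F) ≠ 0) (hm : 0 < m) :
    Nat.card {C : ConjClasses ↥Spm // ∃ u : Spm, ConjClasses.mk u = C ∧
      ((u : Mat) - 1) ^ (2 * m) = 0 ∧ ((u : Mat) - 1).rank = 2 * m - 1} = 2 := by
  have hnt : Nontrivial (TP F (2 * m)) := nontrivial_TP F _ (by omega)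
  have hloc := isLocInv F (2 * m) h2
  obtain ⟨u₀, h₀⟩ := RegUnipEx.exists_regular_unipotent F m h2 hm
  have hR₀ : Reg u₀ := h₀
  have hτn := tau_pow u₀ h₀.1
  have hchar : ringChar F ≠ 2 := by
    intro h
    apply h2
    have := (ringChar.spec F 2).2 (by rw [h])
    exact_mod_cast this
  obtain ⟨ν, hν⟩ := FiniteField.exists_nonsquare hchar
  have hν0 : ν ≠ 0 := by
    rintro rfl
    exact hν ⟨0, by simp⟩
  obtain ⟨u₁, hR₁, r₁⟩ := exists_second hR₀ hτn hν0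
  have hne : ¬ IsConj u₀ u₁ := by
    intro hc
    obtain ⟨e, he⟩ := exists_norm_of_isConj h2 hm hR₀ r₁ hc
    have h3 : (sigma F (2 * m) : TP F (2 * m) →+* TP F (2 * m)) e * e =
        algebraMap F (TP F (2 * m)) ν⁻¹ := by
      have h4 : algebraMap F (TP F (2 * m)) ν * algebraMap F (TP F (2 * m)) ν⁻¹ = 1 := by
        rw [← map_mul, mul_inv_cancel₀ hν0, map_one]
      calc (sigma F (2 * m) : TP F (2 * m) →+* TP F (2 * m)) e * e
          = sigma F (2 * m) e * e * (algebraMap F (TP F (2 * m)) ν *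
              algebraMap F (TP F (2 * m)) ν⁻¹) := by rw [h4, mul_one]; rfl
        _ = (sigma F (2 * m) e * e * algebraMap F (TP F (2 * m)) ν) *
              algebraMap F (TP F (2 * m)) ν⁻¹ := by ring
        _ = algebraMap F (TP F (2 * m)) ν⁻¹ := by rw [he, one_mul]
    have h5 := hloc.isSquare_of_norm_eq h3
    apply hν
    have := h5.inv
    rwa [inv_inv] at this
  have hall : ∀ u : Spm, Reg u → IsConj u u₀ ∨ IsConj u u₁ := by
    intro u hu
    obtain ⟨H, Hi, hHHi, hHiH, hconj⟩ := exists_conj hm hR₀ hu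
    obtain ⟨a, ha1, ha2, r⟩ := exists_rel h2 hm hR₀ hτn hHHi hHiH hconj
    rcases hloc.exists_norm_or ha1 ha2 hν with ⟨e, he⟩ | ⟨e, he⟩
    · left
      exact isConj_of_rel r (rel_one u₀ hτn) (e := e) (by rw [mul_one]; exact he)
    · right
      exact isConj_of_rel r r₁ (e := e) he
  have hset : {C : ConjClasses ↥Spm | ∃ u : Spm, ConjClasses.mk u = C ∧
      ((u : Mat) - 1) ^ (2 * m) = 0 ∧ ((u : Mat) - 1).rank = 2 * m - 1} =
      {ConjClasses.mk u₀, ConjClasses.mk u₁} := by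
    ext C
    simp only [Set.mem_ofPred_eq, Set.mem_insert_iff, Set.mem_singleton_iff]
    constructor
    · rintro ⟨u, rfl, hu⟩
      rcases hall u hu with h | h
      · left
        exact ConjClasses.mk_eq_mk_iff_isConj.2 h
      · right
        exact ConjClasses.mk_eq_mk_iff_isConj.2 h
    · rintro (rfl | rfl)
      · exact ⟨u₀, rfl, h₀⟩
      · exact ⟨u₁, rfl, hR₁⟩
  have hne' : (ConjClasses.mk u₀ : ConjClasses ↥Spm) ≠ ConjClasses.mk u₁ := by
    intro h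
    exact hne (ConjClasses.mk_eq_mk_iff_isConj.1 h)
  show Nat.card ↥{C : ConjClasses ↥Spm | ∃ u : Spm, ConjClasses.mk u = C ∧
      ((u : Mat) - 1) ^ (2 * m) = 0 ∧ ((u : Mat) - 1).rank = 2 * m - 1} = 2
  rw [hset, Nat.card_coe_set_eq, Set.ncard_pair hne']

end Cfsg.Agent.Helper17.RegUnip
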