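import Mathlib
import Cfsg.Agent.Lib.Helper17.SLkDefs

open Polynomial

namespace Cfsg.Agent.Helper17.SLk

open Cfsg.Agent.Helper17.GLk

universe u

section
variable {F : Type u} [Field F]

theorem supp17_nrm_monic (p : F[X]) (hp : p ≠ 0) : (nrm p).Monic := by
  classical
  unfold nrm
  exact Polynomial.monic_normalize hp

theorem supp17_nrm_natDegree (p : F[X]) (hp : p ≠ 0) : (nrm p).natDegree = p.natDegree := by
  rw [nrm_eq]
  have : p.leadingCoeff⁻¹ ≠ 0 := inv_ne_zero (leadingCoeff_ne_zero.mpr hp)
  rw [natDegree_mul_C this]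

theorem supp17_ne_one_iff {ι : Type u} [Fintype ι] {p : ι → F[X]} {e : ι → ℕ}
    (hp : ∀ i, Irreducible (p i)) (j : ℕ) :
    tupleOfDecomp p e j ≠ 1 ↔ ∃ i, e i = j := by
  classical
  rw [tupleOfDecomp_eq]
  constructor
  · intro h
    by_contra hne
    apply h
    have : Finset.univ.filter (fun i => e i = j) = ∅ := by
      rw [Finset.eq_empty_iff_forall_notMem]
      intro i hi
      rw [Finset.mem_filter] at hi
      exact hne ⟨i, hi.2⟩
    rw [this, Finset.prod_empty]
  · rintro ⟨i, hi⟩ h
    have hmon : ∀ k ∈ Finset.univ.filter (fun i => e i = j), (nrm (p k)).Monic :=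
      fun k _ => supp17_nrm_monic (p k) (hp k).ne_zero
    have hdeg := Polynomial.natDegree_prod_of_monic _ _ hmon
    rw [h, natDegree_one] at hdeg
    have hmem : i ∈ Finset.univ.filter (fun i => e i = j) := by
      rw [Finset.mem_filter]; exact ⟨Finset.mem_univ _, hi⟩
    have h1 : (nrm (p i)).natDegree ≤ ∑ k ∈ Finset.univ.filter (fun i => e i = j),
        (nrm (p k)).natDegree :=
      Finset.single_le_sum (f := fun k => (nrm (p k)).natDegree) (fun _ _ => Nat.zero_le _) hmem
    rw [supp17_nrm_natDegree _ (hp i).ne_zero] at h1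
    have h2 : 0 < (p i).natDegree := (hp i).natDegree_pos
    omega

/-- PIECE SLK-SUPP -/
theorem gam_tuple {ι : Type u} [Fintype ι] {p : ι → F[X]} {e : ι → ℕ} (n : ℕ)
    (hp : ∀ i, Irreducible (p i)) (he : ∀ i, 1 ≤ e i)
    (hdim : ∑ i, e i * (p i).natDegree = n) :
    gam (fun j : Fin n => tupleOfDecomp p e ((j : ℕ) + 1)) = Finset.univ.gcd e := by
  classical
  unfold gam
  have hle : ∀ i, e i ≤ n := by
    intro i
    have h1 : e i * (p i).natDegree ≤ ∑ i, e i * (p i).natDegree :=
      Finset.single_le_sum (f := fun i => e i * (p i).natDegree) (fun _ _ => Nat.zero_le _)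
        (Finset.mem_univ i)
    have h2 : 0 < (p i).natDegree := (hp i).natDegree_pos
    calc e i = e i * 1 := (mul_one _).symm
      _ ≤ e i * (p i).natDegree := Nat.mul_le_mul_left _ h2
      _ ≤ n := by rw [← hdim]; exact h1
  apply Nat.dvd_antisymm
  · -- gcd over support divides each `e i`
    apply Finset.dvd_gcd
    intro i _
    have hj : e i - 1 < n := by have := hle i; have := he i; omega
    have hmem : (⟨e i - 1, hj⟩ : Fin n) ∈ Finset.univ.filter
        (fun j : Fin n => tupleOfDecomp p e ((j : ℕ) + 1) ≠ 1) := by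
      rw [Finset.mem_filter]
      refine ⟨Finset.mem_univ _, ?_⟩
      rw [supp17_ne_one_iff hp]
      exact ⟨i, by have := he i; simp only; omega⟩
    have := Finset.gcd_dvd (f := fun j : Fin n => (j : ℕ) + 1) hmem
    have h3 : ((⟨e i - 1, hj⟩ : Fin n) : ℕ) + 1 = e i := by have := he i; simp only; omega
    rw [h3] at this
    convert this
  · apply Finset.dvd_gcd
    intro j hj
    rw [Finset.mem_filter, supp17_ne_one_iff hp] at hj
    obtain ⟨i, hi⟩ := hj.2
    rw [← hi]
    exact Finset.gcd_dvd (Finset.mem_univ i)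

end

end Cfsg.Agent.Helper17.SLk
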