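import Mathlib

/-!
# Restriction of scalars for matrix groups (helper17)

Given a field extension `K / F` and an `F`-linear identification `Ψ : (ι → F) ≃ (Fin m → K)`, every
`m × m` matrix over `K` becomes an `ι × ι` matrix over `F`; this is an injective monoid hom.
-/

set_option autoImplicit false

namespace Cfsg.Agent.Helper17

theorem exists_hom_of_linearEquiv {K F : Type*} [Field K] [Field F] [Algebra F K] {ι : Type}
    [Fintype ι] [DecidableEq ι] (m : ℕ) (Ψ : (ι → F) ≃ₗ[F] (Fin m → K)) :
    ∃ T : Matrix (Fin m) (Fin m) K →* Matrix ι ι F, Function.Injective T ∧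
      ∀ M w, Ψ ((T M).mulVec w) = M.mulVec (Ψ w) := by
  classical
  let f : Matrix (Fin m) (Fin m) K → ((ι → F) →ₗ[F] (ι → F)) := fun M =>
    Ψ.symm.toLinearMap ∘ₗ ((Matrix.toLin' M).restrictScalars F) ∘ₗ Ψ.toLinearMap
  have hf : ∀ M w, f M w = Ψ.symm (M.mulVec (Ψ w)) := fun M w => by
    simp [f, Matrix.toLin'_apply]
  let T : Matrix (Fin m) (Fin m) K →* Matrix ι ι F :=
    { toFun := fun M => LinearMap.toMatrix' (f M)
      map_one' := by
        have : f 1 = LinearMap.id := by
          apply LinearMap.ext; intro w
          simp [hf]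
        rw [this, LinearMap.toMatrix'_id]
      map_mul' := fun M N => by
        have : f (M * N) = f M ∘ₗ f N := by
          apply LinearMap.ext; intro w
          simp [hf, Matrix.mulVec_mulVec]
        rw [this, LinearMap.toMatrix'_comp] }
  refine ⟨T, ?_, ?_⟩
  · intro M N h
    have h1 : f M = f N := LinearMap.toMatrix'.injective h
    apply Matrix.toLin'.injective
    apply LinearMap.ext; intro v
    have := congrArg (fun g => Ψ (g (Ψ.symm v))) h1
    simpa [hf] using this
  · intro M w
    show Ψ ((LinearMap.toMatrix' (f M)).mulVec w) = _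
    rw [LinearMap.toMatrix'_mulVec, hf, LinearEquiv.apply_symm_apply]

end Cfsg.Agent.Helper17
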