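import Mathlib
import Cfsg.Agent.Lib.Helper23.Sp4Defs

/-!
# Piece A2 of S6002 (helper17 for helper23): `MData` from the hypotheses of the statement
-/

set_option autoImplicit false
set_option linter.unusedSectionVars false
set_option linter.unusedVariables false

namespace Cfsg.Agent.Helper17.Sp4A2

open Matrix Cfsg.Agent.Helper23.Sp4
open scoped commutatorElement

section core

variable {F : Type*} [Field F] {ι : Type} [Fintype ι] [DecidableEq ι]

/-- the facts proved in the original index type -/
structure MCore (R : Subgroup (GL ι F)) : Prop where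
  comm : ∀ x ∈ R, ∀ y ∈ R, x * y = y * x ∨ x * y = -(y * x)
  sq : ∀ x ∈ R, x * x = 1 ∨ x * x = -1
  neg_mem : (-1 : GL ι F) ∈ R
  scalar : ∀ x ∈ R, (∃ c : F, (x : Matrix ι ι F) = c • (1 : Matrix ι ι F)) → x = 1 ∨ x = -1
  minus : ∀ s ∈ R, ∀ t ∈ R, s * s = 1 → t * t = 1 → s * t = t * s →
    s = 1 ∨ s = -1 ∨ t = 1 ∨ t = -1 ∨ s = t ∨ s = -t

theorem neg_one_ne_one [Nonempty ι] (h2 : (2 : F) ≠ 0) : (-1 : GL ι F) ≠ 1 := by
  intro h
  have h1 := congrArg (fun g : GL ι F => (g : Matrix ι ι F)) h
  simp only [Units.val_neg, Units.val_one] at h1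
  obtain ⟨a⟩ := ‹Nonempty ι›
  have h3 := congrFun (congrFun h1 a) a
  simp at h3
  apply h2
  linear_combination -h3

theorem neg_ne_self [Nonempty ι] (h2 : (2 : F) ≠ 0) (s : GL ι F) : s ≠ -s := by
  intro h
  apply neg_one_ne_one (ι := ι) h2
  have : s * 1 = s * (-1) := by rw [mul_one, mul_neg, mul_one]; exact h
  exact (mul_left_cancel this).symm

theorem mcore_of_hyp [Finite F] [Nonempty ι] (h2 : (2 : F) ≠ 0) (R : Subgroup (GL ι F))
    (hcentM : ∀ M : Matrix ι ι F,
      (∀ x ∈ R, M * (x : Matrix ι ι F) = (x : Matrix ι ι F) * M) →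
      ∃ c : F, M = c • (1 : Matrix ι ι F))
    (hR5 : Nat.card R = 2 ^ 5) (hRZ : Nat.card (Subgroup.center R) = 2)
    (hRm : Cfsg.Geo.IsOfMinusType 2 R) (hcl : commutator R ≤ Subgroup.center R) :
    MCore R := by
  classical
  -- the centre is `{1, -1}`
  obtain ⟨z, hz1, hzu⟩ := (Nat.card_eq_two_iff' (1 : Subgroup.center ↥R)).1 hRZ
  have hz2 : z ^ 2 = 1 := by
    have := pow_card_eq_one' (G := Subgroup.center ↥R) (x := z)
    rwa [hRZ] at this
  -- `z` as a matrix
  set zg : GL ι F := ((z : ↥R) : GL ι F) with hzg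
  have hzcomm : ∀ x ∈ R, zg * x = x * zg := by
    intro x hx
    have h1 := (Subgroup.mem_center_iff.1 z.2) ⟨x, hx⟩
    have h2 := congrArg Subtype.val h1
    simpa using h2.symm
  obtain ⟨c, hc⟩ := hcentM (zg : Matrix ι ι F) (by
    intro x hx
    rw [← Units.val_mul, ← Units.val_mul, hzcomm x hx])
  have hzg2 : zg ^ 2 = 1 := by
    have h1 := congrArg (fun w : Subgroup.center ↥R => ((w : ↥R) : GL ι F)) hz2
    simpa using h1
  have hzg1 : zg ≠ 1 := by
    intro h
    apply hz1
    apply Subtype.ext
    apply Subtype.ext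
    exact h
  have hc2 : c ^ 2 = 1 := by
    have h1 := congrArg (fun w : GL ι F => (w : Matrix ι ι F)) hzg2
    simp only [Units.val_pow_eq_pow_val, Units.val_one] at h1
    rw [hc, smul_pow, one_pow] at h1
    obtain ⟨a⟩ := ‹Nonempty ι›
    have h3 := congrFun (congrFun h1 a) a
    simpa using h3
  have hcneg : c = -1 := by
    have h1 : (c - 1) * (c + 1) = 0 := by linear_combination hc2
    rcases mul_eq_zero.1 h1 with h | h
    · exfalso
      apply hzg1
      apply Units.ext
      rw [hc, sub_eq_zero.1 h, one_smul, Units.val_one]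
    · linear_combination h
  have hzneg : zg = -1 := by
    apply Units.ext
    rw [hc, hcneg, Units.val_neg, Units.val_one, neg_one_smul]
  have hnegR : (-1 : GL ι F) ∈ R := by
    rw [← hzneg]
    exact (z : ↥R).2
  -- central elements are `±1`
  have hcen : ∀ w ∈ R, (∀ x ∈ R, w * x = x * w) → w = 1 ∨ w = -1 := by
    intro w hw hwc
    have hwZ : (⟨w, hw⟩ : ↥R) ∈ Subgroup.center ↥R := by
      rw [Subgroup.mem_center_iff]
      intro g
      apply Subtype.ext
      exact (hwc g g.2).symm
    by_cases h1 : (⟨⟨w, hw⟩, hwZ⟩ : Subgroup.center ↥R) = 1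
    · left
      have := congrArg (fun u : Subgroup.center ↥R => ((u : ↥R) : GL ι F)) h1
      simpa using this
    · right
      have := hzu _ h1
      have h3 := congrArg (fun u : Subgroup.center ↥R => ((u : ↥R) : GL ι F)) this
      simp only at h3
      rw [← hzneg]
      exact h3
  -- commutators
  have hcomm : ∀ x ∈ R, ∀ y ∈ R, x * y = y * x ∨ x * y = -(y * x) := by
    intro x hx y hy
    have hz' : ⁅(⟨x, hx⟩ : ↥R), (⟨y, hy⟩ : ↥R)⁆ ∈ Subgroup.center ↥R := by
      apply hcl
      rw [commutator_def]
      exact Subgroup.commutator_mem_commutator (Subgroup.mem_top _) (Subgroup.mem_top _)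
    set k : ↥R := ⁅(⟨x, hx⟩ : ↥R), (⟨y, hy⟩ : ↥R)⁆ with hk
    have hkval : (k : GL ι F) = x * y * x⁻¹ * y⁻¹ := by
      rw [hk, commutatorElement_def]
      rfl
    have hkc : ∀ w ∈ R, (k : GL ι F) * w = w * (k : GL ι F) := by
      intro w hw
      have h1 := (Subgroup.mem_center_iff.1 hz') ⟨w, hw⟩
      have h2 := congrArg Subtype.val h1
      simpa using h2.symm
    have hxy : x * y = (k : GL ι F) * (y * x) := by rw [hkval]; group
    rcases hcen (k : GL ι F) k.2 hkc with h | h
    · left; rw [hxy, h, one_mul]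
    · right; rw [hxy, h, neg_mul, one_mul]
  -- squares
  have hsq : ∀ x ∈ R, x * x = 1 ∨ x * x = -1 := by
    intro x hx
    apply hcen (x * x) (R.mul_mem hx hx)
    intro y hy
    rcases hcomm x hx y hy with h | h
    · calc x * x * y = x * (x * y) := by group
        _ = x * (y * x) := by rw [h]
        _ = (x * y) * x := by group
        _ = y * x * x := by rw [h]
        _ = y * (x * x) := by group
    · calc x * x * y = x * (x * y) := by group
        _ = x * (-(y * x)) := by rw [h]
        _ = -((x * y) * x) := by rw [mul_neg, mul_assoc]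
        _ = -(-(y * x) * x) := by rw [h]
        _ = y * (x * x) := by rw [neg_mul, neg_neg, mul_assoc]
  refine ⟨hcomm, hsq, hnegR, ?_, ?_⟩
  · -- scalar elements
    intro x hx ⟨d, hd⟩
    apply hcen x hx
    intro y hy
    apply Units.ext
    rw [Units.val_mul, Units.val_mul, hd, Matrix.smul_mul, Matrix.one_mul, Matrix.mul_smul,
      Matrix.mul_one]
  · -- minus type
    intro s hs t ht hss htt hst
    by_contra hcon
    push Not at hcon
    obtain ⟨hs1, hs2, ht1, ht2, hst1, hst2⟩ := hcon
    set s' : ↥R := ⟨s, hs⟩ with hs'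
    set t' : ↥R := ⟨t, ht⟩ with ht'
    set n' : ↥R := ⟨-1, hnegR⟩ with hn'
    have hn's : n' * s' = s' * n' := by
      apply Subtype.ext
      show (-1 : GL ι F) * s = s * (-1)
      rw [neg_mul, one_mul, mul_neg, mul_one]
    have hn't : n' * t' = t' * n' := by
      apply Subtype.ext
      show (-1 : GL ι F) * t = t * (-1)
      rw [neg_mul, one_mul, mul_neg, mul_one]
    have hs't : s' * t' = t' * s' := Subtype.ext hst
    have hcommK : ∀ x ∈ ({n', s', t'} : Set ↥R), ∀ y ∈ ({n', s', t'} : Set ↥R),
        x * y = y * x := by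
      intro x hx y hy
      simp only [Set.mem_insert_iff, Set.mem_singleton_iff] at hx hy
      rcases hx with rfl | rfl | rfl <;> rcases hy with rfl | rfl | rfl <;>
        first | rfl | assumption | (symm; assumption)
    set A : Subgroup ↥R := Subgroup.closure {n', s', t'} with hA
    have hAc : IsMulCommutative A := Subgroup.isMulCommutative_closure hcommK
    have hAinv : ∀ x ∈ A, x * x = 1 := by
      intro x hx
      induction hx using Subgroup.closure_induction with
      | mem y hy =>
        simp only [Set.mem_insert_iff, Set.mem_singleton_iff] at hy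
        rcases hy with rfl | rfl | rfl
        · apply Subtype.ext
          show (-1 : GL ι F) * (-1) = 1
          rw [neg_mul_neg, one_mul]
        · exact Subtype.ext hss
        · exact Subtype.ext htt
      | one => exact one_mul 1
      | mul a b ha hb iha ihb =>
        have hab : a * b = b * a := by
          have := hAc.is_comm.comm ⟨a, ha⟩ ⟨b, hb⟩
          exact congrArg Subtype.val this
        calc a * b * (a * b) = a * (b * a) * b := by group
          _ = a * (a * b) * b := by rw [hab]
          _ = (a * a) * (b * b) := by group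
          _ = 1 := by rw [iha, ihb, one_mul]
      | inv a ha iha =>
        have : a⁻¹ = a := by
          have h1 : a * a⁻¹ = a * a := by rw [mul_inv_cancel, iha]
          exact mul_left_cancel h1
        rw [this, iha]
    have hlt := hRm A hAc hAinv
    -- five distinct elements
    have hFinR : Finite ↥R := Nat.finite_of_card_ne_zero (by rw [hR5]; norm_num)
    have hdvd : Nat.card A ∣ 2 ^ 5 := by
      rw [← hR5]
      exact Subgroup.card_subgroup_dvd_card A
    obtain ⟨k, hk5, hk⟩ := (Nat.dvd_prime_pow Nat.prime_two).1 hdvd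
    have hk3 : k < 3 := by
      by_contra hcon
      have : 2 ^ 3 ≤ 2 ^ k := Nat.pow_le_pow_right (by norm_num) (by omega)
      omega
    have hle4 : Nat.card A ≤ 4 := by
      rw [hk]
      have : 2 ^ k ≤ 2 ^ 2 := Nat.pow_le_pow_right (by norm_num) (by omega)
      omega
    have hnA : n' ∈ A := Subgroup.subset_closure (by simp)
    have hsA : s' ∈ A := Subgroup.subset_closure (by simp)
    have htA : t' ∈ A := Subgroup.subset_closure (by simp)
    let f : Fin 5 → A := ![1, ⟨n', hnA⟩, ⟨s', hsA⟩, ⟨n' * s', A.mul_mem hnA hsA⟩, ⟨t', htA⟩]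
    have hval : ∀ j : Fin 5, (((f j : A) : ↥R) : GL ι F) = ![1, -1, s, -s, t] j := by
      intro j
      fin_cases j
      · rfl
      · rfl
      · rfl
      · show (-1 : GL ι F) * s = -s
        rw [neg_mul, one_mul]
      · rfl
    have h11 : (1 : GL ι F) ≠ -1 := (neg_one_ne_one (ι := ι) h2).symm
    have hsns : s ≠ -s := neg_ne_self h2 s
    have hfinj : Function.Injective f := by
      intro a b hab
      have h1 : ![1, -1, s, -s, t] a = ![1, -1, s, -s, t] b := by
        rw [← hval a, ← hval b, hab]
      have e1 : (1 : GL ι F) ≠ -s := fun h => hs2 (by rw [h, neg_neg])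
      have e2 : (-1 : GL ι F) ≠ -s := fun h => hs1 (neg_injective h).symm
      have e3 : -s ≠ t := fun h => hst2 (by rw [← h, neg_neg])
      fin_cases a <;> fin_cases b <;> first | rfl | (exfalso; simp at h1; tauto)
    have hFinA : Finite A := inferInstance
    have := Nat.card_le_card_of_injective f hfinj
    rw [Nat.card_eq_fintype_card, Fintype.card_fin] at this
    omega

end core

section transport

variable {F : Type*} [Field F]

theorem rho_neg (g : GL I4 F) : (rho (-g) : GL (Fin 4) F) = -rho g := by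
  apply Units.ext
  rw [Units.val_neg, rho_val, rho_val, Units.val_neg]
  ext a b
  simp

theorem rho_symm_val (g : GL I4 F) :
    (Matrix.reindexAlgEquiv F F (finSumFinEquiv : Fin 2 ⊕ Fin 2 ≃ Fin 4)).symm
      ((rho g : GL (Fin 4) F) : Matrix (Fin 4) (Fin 4) F) = (g : Matrix I4 I4 F) := by
  rw [rho_val, ← Matrix.reindexAlgEquiv_apply F F, AlgEquiv.symm_apply_apply]

/-- **Piece A2**. -/
theorem mdata_of_hyp [Fintype F] (h2 : (2 : F) ≠ 0) (R : Subgroup (GL I4 F))
    (hRs : Cfsg.Geo.IsSymplecticTypeGroup 2 R)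
    (hRi : Cfsg.Geo.ActsAbsolutelyIrreducibly (Cfsg.Geo.matrixSet R))
    (hR5 : Nat.card R = 2 ^ 5) (hRZ : Nat.card (Subgroup.center R) = 2)
    (hRm : Cfsg.Geo.IsOfMinusType 2 R) (hcl : commutator R ≤ Subgroup.center R) :
    MData (R.map (rho : GL I4 F ≃* GL (Fin 4) F).toMonoidHom) := by
  have hcentM : ∀ M : Matrix I4 I4 F,
      (∀ x ∈ R, M * (x : Matrix I4 I4 F) = (x : Matrix I4 I4 F) * M) →
      ∃ c : F, M = c • (1 : Matrix I4 I4 F) := by
    intro M hM
    apply hRi.2 M
    rintro _ ⟨x, hx, rfl⟩
    exact hM x hx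
  have hcore := mcore_of_hyp h2 R hcentM hR5 hRZ hRm hcl
  set E := Matrix.reindexAlgEquiv F F (finSumFinEquiv : Fin 2 ⊕ Fin 2 ≃ Fin 4) with hE
  have hmem : ∀ x' : GL (Fin 4) F, x' ∈ R.map (rho : GL I4 F ≃* GL (Fin 4) F).toMonoidHom ↔
      ∃ x ∈ R, rho x = x' := by
    intro x'
    rfl
  have hinj : Function.Injective (rho : GL I4 F → GL (Fin 4) F) := (rho (F := F)).injective
  refine ⟨h2, ?_, ?_, ?_, ?_, ?_, ?_, ?_⟩
  · -- commutant
    intro M hM
    obtain ⟨c, hc⟩ := hcentM (E.symm M) (by
      intro x hx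
      have h1 := hM (rho x) ((hmem _).2 ⟨x, hx, rfl⟩)
      have h3 := congrArg E.symm h1
      rw [map_mul, map_mul, hE, rho_symm_val] at h3
      exact h3)
    refine ⟨c, ?_⟩
    have h1 := congrArg E hc
    rw [AlgEquiv.apply_symm_apply, map_smul, map_one] at h1
    exact h1
  · -- comm
    intro x' hx' y' hy'
    obtain ⟨x, hx, rfl⟩ := (hmem _).1 hx'
    obtain ⟨y, hy, rfl⟩ := (hmem _).1 hy'
    rcases hcore.comm x hx y hy with h | h
    · left; rw [← map_mul, ← map_mul, h]
    · right; rw [← map_mul, ← map_mul, h, rho_neg]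
  · -- sq
    intro x' hx'
    obtain ⟨x, hx, rfl⟩ := (hmem _).1 hx'
    rcases hcore.sq x hx with h | h
    · left; rw [← map_mul, h, map_one]
    · right; rw [← map_mul, h, rho_neg, map_one]
  · -- card
    have hinj' : Function.Injective (rho : GL I4 F ≃* GL (Fin 4) F).toMonoidHom :=
      (rho (F := F)).injective
    rw [Subgroup.card_map_of_injective hinj', hR5]
    norm_num
  · -- neg_mem
    rw [hmem]
    exact ⟨-1, hcore.neg_mem, by rw [rho_neg, map_one]⟩
  · -- scalar
    intro x' hx' hsc
    obtain ⟨x, hx, rfl⟩ := (hmem _).1 hx'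
    obtain ⟨c, hc⟩ := (Cfsg.Geo.mem_scalars_iff _).1 hsc
    have h1 := congrArg E.symm hc
    rw [hE, rho_symm_val, map_smul, map_one] at h1
    rcases hcore.scalar x hx ⟨(c : F), h1⟩ with h | h
    · left; rw [h, map_one]
    · right; rw [h, rho_neg, map_one]
  · -- minus
    intro s' hs' t' ht' hss htt hst
    obtain ⟨s, hs, rfl⟩ := (hmem _).1 hs'
    obtain ⟨t, ht, rfl⟩ := (hmem _).1 ht'
    have hss' : s * s = 1 := by
      apply hinj
      rw [map_mul, hss, map_one]
    have htt' : t * t = 1 := by
      apply hinj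
      rw [map_mul, htt, map_one]
    have hst' : s * t = t * s := by
      apply hinj
      rw [map_mul, map_mul, hst]
    rcases hcore.minus s hs t ht hss' htt' hst' with h | h | h | h | h | h
    · left; rw [h, map_one]
    · right; left; rw [h, rho_neg, map_one]
    · right; right; left; rw [h, map_one]
    · right; right; right; left; rw [h, rho_neg, map_one]
    · right; right; right; right; left; rw [h]
    · right; right; right; right; right; rw [h, rho_neg]

end transport

end Cfsg.Agent.Helper17.Sp4A2
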