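import Mathlib
import Cfsg.Agent.Lib.Helper17.UnipotentGL
import Cfsg.Agent.S2421

/-!
# The Steinberg character of `GL_n(q)` (helper17)

`St n F = unipotentCharacterGL n F (fun _ => 1)`: `St_irr` (irreducible), `St_one` (degree
`q^(n(n-1)/2)`), `St_central` (central elements lying in all parabolics act trivially),
`St_scalar` (value at scalar matrices).
-/

set_option autoImplicit false
set_option linter.unusedSectionVars false

namespace Cfsg.Agent.Helper17.StGL

open Cfsg Finset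
open Cfsg.Agent.Helper17.QVand
open scoped MatrixGroups

/-- the Steinberg character of `GL_n` -/
noncomputable def St (n : ℕ) (F : Type*) [Field F] : GL (Fin n) F → ℂ :=
  Cfsg.unipotentCharacterGL n F (fun _ => 1)

theorem St_irr {F : Type*} [Field F] [Fintype F] {n : ℕ} :
    Cfsg.IsIrrCharacter (GL (Fin n) F) (St n F) :=
  Cfsg.Agent.S2421.result (fun _ => 1) (fun _ _ _ => le_rfl) (by simp)

theorem Qn_sub (q i j : ℕ) (h : i < j) :
    ((Qn q (1 + j) : ℕ) : ℂ) - ((Qn q (1 + i) : ℕ) : ℂ) = (q : ℂ) ^ (i + 1) * ((Qn q (j - i) : ℕ) : ℂ) := by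
  have h1 := Qn_split q (1 + j) (1 + i) (by omega)
  have h2 : 1 + j - (1 + i) = j - i := by omega
  rw [h2] at h1
  rw [h1]
  push_cast
  rw [add_comm 1 i]
  ring

theorem prod_Qn_reflect (q j : ℕ) : ∏ i ∈ range j, Qn q (j - i) = Qf q j := by
  unfold Qf
  rw [← Finset.prod_range_reflect (fun k => Qn q (k + 1)) j]
  apply Finset.prod_congr rfl
  intro i hi
  rw [mem_range] at hi
  congr 1
  omega

theorem key_prod (q n : ℕ) :
    ∏ i ∈ range n, ∏ j ∈ range n,
      (if i < j then (((Qn q (1 + j) : ℕ) : ℂ) - ((Qn q (1 + i) : ℕ) : ℂ)) else 1) =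
    (q : ℂ) ^ (∑ j ∈ range n, ∑ i ∈ range j, (i + 1)) * ∏ j ∈ range n, ((Qf q j : ℕ) : ℂ) := by
  rw [Finset.prod_comm]
  have h1 : ∀ j ∈ range n, ∏ i ∈ range n,
      (if i < j then (((Qn q (1 + j) : ℕ) : ℂ) - ((Qn q (1 + i) : ℕ) : ℂ)) else 1) =
      (q : ℂ) ^ (∑ i ∈ range j, (i + 1)) * ((Qf q j : ℕ) : ℂ) := by
    intro j hj
    rw [mem_range] at hj
    rw [← Finset.prod_filter]
    have hf : (range n).filter (fun i => i < j) = range j := by
      ext i
      simp only [mem_filter, mem_range]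
      omega
    rw [hf]
    have h2 : ∀ i ∈ range j, (((Qn q (1 + j) : ℕ) : ℂ) - ((Qn q (1 + i) : ℕ) : ℂ)) =
        (q : ℂ) ^ (i + 1) * ((Qn q (j - i) : ℕ) : ℂ) := by
      intro i hi
      exact Qn_sub q i j (mem_range.1 hi)
    rw [Finset.prod_congr rfl h2, Finset.prod_mul_distrib, Finset.prod_pow_eq_pow_sum,
      ← prod_Qn_reflect, Nat.cast_prod]
  rw [Finset.prod_congr rfl h1, Finset.prod_mul_distrib, Finset.prod_pow_eq_pow_sum]

theorem exp_eq (n : ℕ) :
    ∑ j ∈ range n, ∑ i ∈ range j, (i + 1) = n * (n - 1) * (n - 2) / 6 + n * (n - 1) / 2 := by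
  rw [← sum_tri, ← Finset.sum_range_id, ← Finset.sum_add_distrib]
  apply Finset.sum_congr rfl
  intro j _
  rw [Finset.sum_add_distrib]
  simp

theorem St_one {F : Type*} [Field F] [Fintype F] {n : ℕ} :
    St n F 1 = (Fintype.card F : ℂ) ^ (n * (n - 1) / 2) := by
  classical
  have h := Cfsg.Agent.S2424.result (F := F) (q := Fintype.card F) rfl (n := n) (fun _ => 1)
    (fun _ _ _ => le_rfl) (by simp)
  set q := Fintype.card F with hq
  have hq0 : (q : ℂ) ≠ 0 := by
    have : 0 < q := Fintype.card_pos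
    exact_mod_cast this.ne'
  -- the left side
  have hL : ∏ i : Fin n, ∏ j ∈ Finset.range (1 + i.val),
      ((∑ l ∈ Finset.range (j + 1), q ^ l : ℕ) : ℂ) = ∏ i ∈ range n, ((Qf q (i + 1) : ℕ) : ℂ) := by
    rw [← Fin.prod_univ_eq_prod_range (fun i => ((Qf q (i + 1) : ℕ) : ℂ)) n]
    apply Finset.prod_congr rfl
    intro i _
    unfold Qf Qn
    rw [Nat.cast_prod, add_comm 1 i.val]
  have hR1 : ∏ j ∈ Finset.range n, ((∑ l ∈ Finset.range (j + 1), q ^ l : ℕ) : ℂ) =
      ((Qf q n : ℕ) : ℂ) := by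
    unfold Qf Qn
    rw [Nat.cast_prod]
  have hR2 : ∏ i : Fin n, ∏ j ∈ Finset.univ.filter (fun j : Fin n => i < j),
      (((∑ l ∈ Finset.range (1 + j.val), q ^ l : ℕ) : ℂ) -
        ((∑ l ∈ Finset.range (1 + i.val), q ^ l : ℕ) : ℂ)) =
      ∏ i ∈ range n, ∏ j ∈ range n,
        (if i < j then (((Qn q (1 + j) : ℕ) : ℂ) - ((Qn q (1 + i) : ℕ) : ℂ)) else 1) := by
    rw [← Fin.prod_univ_eq_prod_range (fun i => ∏ j ∈ range n,
        (if i < j then (((Qn q (1 + j) : ℕ) : ℂ) - ((Qn q (1 + i) : ℕ) : ℂ)) else 1)) n]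
    apply Finset.prod_congr rfl
    intro i _
    rw [Finset.prod_filter,
      ← Fin.prod_univ_eq_prod_range (fun j =>
        (if i.val < j then (((Qn q (1 + j) : ℕ) : ℂ) - ((Qn q (1 + i.val) : ℕ) : ℂ)) else 1)) n]
    apply Finset.prod_congr rfl
    intro j _
    rfl
  rw [hL, hR1, hR2, key_prod, exp_eq] at h
  -- `W = ∏ Qf (i+1) = Qf n * ∏ Qf j`
  have hW : ∏ i ∈ range n, ((Qf q (i + 1) : ℕ) : ℂ) =
      ((Qf q n : ℕ) : ℂ) * ∏ j ∈ range n, ((Qf q j : ℕ) : ℂ) := by
    have h1 := Finset.prod_range_succ' (fun k => ((Qf q k : ℕ) : ℂ)) n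
    have h2 := Finset.prod_range_succ (fun k => ((Qf q k : ℕ) : ℂ)) n
    rw [h1] at h2
    have h0 : ((Qf q 0 : ℕ) : ℂ) = 1 := by simp [Qf]
    rw [h0, mul_one] at h2
    rw [h2, mul_comm]
  have hW0 : ∏ i ∈ range n, ((Qf q (i + 1) : ℕ) : ℂ) ≠ 0 := by
    apply Finset.prod_ne_zero_iff.2
    intro i _
    exact_mod_cast (Qf_pos q (i + 1)).ne'
  -- cancel
  have h3 : St n F 1 * (q : ℂ) ^ (n * (n - 1) * (n - 2) / 6) =
      (q : ℂ) ^ (n * (n - 1) / 2) * (q : ℂ) ^ (n * (n - 1) * (n - 2) / 6) := by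
    apply mul_right_cancel₀ hW0
    show Cfsg.unipotentCharacterGL n F (fun _ => 1) 1 * (q : ℂ) ^ (n * (n - 1) * (n - 2) / 6) *
      ∏ i ∈ range n, ((Qf q (i + 1) : ℕ) : ℂ) = _
    rw [h, hW, pow_add]
    ring
  exact mul_right_cancel₀ (pow_ne_zero _ hq0) h3

section Central

variable {G : Type*} [Group G]

/-- a central element of `G` lying in `H` fixes every coset of `H` -/
theorem fixedPointCharacter_central (H : Subgroup G) (z : G) (hz : z ∈ Subgroup.center G)
    (hzH : z ∈ H) : Cfsg.fixedPointCharacter H z = Cfsg.fixedPointCharacter H 1 := by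
  unfold Cfsg.fixedPointCharacter
  have hset : MulAction.fixedBy (G ⧸ H) z = MulAction.fixedBy (G ⧸ H) (1 : G) := by
    ext x
    simp only [MulAction.mem_fixedBy, one_smul, iff_true]
    induction x using QuotientGroup.induction_on with
    | H g =>
      show ((z * g : G) : G ⧸ H) = (g : G ⧸ H)
      rw [QuotientGroup.eq]
      have hc : z * g = g * z := (Subgroup.mem_center_iff.1 hz g).symm
      have : (z * g)⁻¹ * g = z⁻¹ := by
        rw [hc]; group
      rw [this]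
      exact H.inv_mem hzH
  rw [hset]

end Central

theorem unipotent_central {F : Type*} [Field F] {n : ℕ} (ν : Fin n → ℕ) (z : GL (Fin n) F)
    (hz : z ∈ Subgroup.center (GL (Fin n) F)) (hzP : ∀ μ : Fin n → ℕ, z ∈ Cfsg.parabolicGL n F μ) :
    Cfsg.unipotentCharacterGL n F ν z = Cfsg.unipotentCharacterGL n F ν 1 := by
  unfold Cfsg.unipotentCharacterGL
  apply Finset.sum_congr rfl
  intro κ _
  split_ifs
  · rw [fixedPointCharacter_central _ z hz (hzP _)]
  · rfl

/-- scalar matrices in `GL_n` -/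
theorem scalar_mem_center {F : Type*} [Field F] {n : ℕ} (z : GL (Fin n) F) (r : F)
    (hr : (z : Matrix (Fin n) (Fin n) F) = Matrix.scalar (Fin n) r) :
    z ∈ Subgroup.center (GL (Fin n) F) := by
  rw [Subgroup.mem_center_iff]
  intro g
  apply Units.ext
  rw [Units.val_mul, Units.val_mul, hr]
  exact (Matrix.scalar_commute r (fun r' => Commute.all _ _) _).symm.eq

theorem scalar_mem_parabolic {F : Type*} [Field F] {n : ℕ} (z : GL (Fin n) F) (r : F)
    (hr : (z : Matrix (Fin n) (Fin n) F) = Matrix.scalar (Fin n) r) (μ : Fin n → ℕ) :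
    z ∈ Cfsg.parabolicGL n F μ := by
  show (z : Matrix (Fin n) (Fin n) F).BlockTriangular (Cfsg.compLabel μ)
  rw [hr]
  intro i j hij
  have hne : i ≠ j := fun h => by rw [h] at hij; exact lt_irrefl _ hij
  simp [Matrix.scalar_apply, Matrix.diagonal_apply_ne _ hne]

theorem St_scalar {F : Type*} [Field F] {n : ℕ} (z : GL (Fin n) F) (r : F)
    (hr : (z : Matrix (Fin n) (Fin n) F) = Matrix.scalar (Fin n) r) :
    St n F z = St n F 1 :=
  unipotent_central _ z (scalar_mem_center z r hr) (scalar_mem_parabolic z r hr)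

end Cfsg.Agent.Helper17.StGL
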