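import Mathlib

/-!
# Sylow `p`-subgroups of alternating groups: abelian iff the degree is `< p²` (helper17)
-/

set_option autoImplicit false
set_option linter.unusedSectionVars false

namespace Cfsg.Agent.Helper17.SylowAlt

open Equiv

/-- a `p`-group of permutations of fewer than `p²` points is commutative -/
theorem comm_of_card_lt {Ω : Type*} [Fintype Ω] [DecidableEq Ω] {p : ℕ} [hp : Fact p.Prime]
    (P : Subgroup (Perm Ω)) (hP : IsPGroup p P) (hlt : Fintype.card Ω < p ^ 2)
    {g h : Perm Ω} (hg : g ∈ P) (hh : h ∈ P) : g * h = h * g := by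
  apply Equiv.ext
  intro x
  -- the orbit of `x`
  let O := MulAction.orbit P x
  obtain ⟨k, hk⟩ := hP.card_orbit x
  have hO : Nat.card O ≤ Fintype.card Ω := by
    rw [← Nat.card_eq_fintype_card]
    exact Nat.card_le_card_of_injective (fun z : O => (z : Ω)) Subtype.val_injective
  have hk1 : k ≤ 1 := by
    by_contra hcon
    have h2 : 2 ≤ k := by omega
    have := Nat.pow_le_pow_right hp.out.pos h2
    rw [hk] at hO
    omega
  have hOp : Nat.card O ≤ p := by
    rw [hk]
    calc p ^ k ≤ p ^ 1 := Nat.pow_le_pow_right hp.out.pos hk1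
      _ = p := pow_one p
  -- the action on the orbit
  let φ : P →* Perm O := MulAction.toPermHom P O
  have hR : IsPGroup p φ.range := hP.of_surjective φ.rangeRestrict φ.rangeRestrict_surjective
  obtain ⟨j, hj⟩ := IsPGroup.iff_card.1 hR
  have hdvd : Nat.card φ.range ∣ Nat.card (Perm O) := Subgroup.card_subgroup_dvd_card _
  have hperm : Nat.card (Perm O) ∣ p.factorial := by
    have : Fintype O := Fintype.ofFinite O
    rw [Nat.card_eq_fintype_card, Fintype.card_perm]
    apply Nat.factorial_dvd_factorial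
    rw [← Nat.card_eq_fintype_card]
    exact hOp
  have hj1 : j ≤ 1 := by
    by_contra hcon
    have h2 : 2 ≤ j := by omega
    have h3 : p ^ 2 ∣ p.factorial := by
      refine dvd_trans (pow_dvd_pow p h2) ?_
      rw [← hj]
      exact hdvd.trans hperm
    have h4 : p.factorial = p * (p - 1).factorial := by
      have : p = (p - 1) + 1 := by have := hp.out.pos; omega
      conv_lhs => rw [this, Nat.factorial_succ]
      rw [← this]
    rw [h4, pow_two] at h3
    have h5 : p ∣ (p - 1).factorial := Nat.dvd_of_mul_dvd_mul_left hp.out.pos h3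
    have h6 := (hp.out.dvd_factorial).1 h5
    have := hp.out.pos
    omega
  have hcomm : ∀ a b : φ.range, a * b = b * a := by
    rcases Nat.eq_zero_or_pos j with h0 | h0
    · rw [h0, pow_zero] at hj
      have : Subsingleton φ.range := (Nat.card_eq_one_iff_unique.1 hj).1
      intro a b
      exact Subsingleton.elim _ _
    · have hj' : j = 1 := by omega
      rw [hj', pow_one] at hj
      have hc : IsCyclic φ.range := isCyclic_of_prime_card hj
      intro a b
      exact hc.commGroup.mul_comm a b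
  have h1 := hcomm ⟨φ ⟨g, hg⟩, ⟨_, rfl⟩⟩ ⟨φ ⟨h, hh⟩, ⟨_, rfl⟩⟩
  have h2 := congrArg (fun s : φ.range => ((s : Perm O) ⟨x, MulAction.mem_orbit_self x⟩ : Ω)) h1
  exact h2


section Heis

variable (p : ℕ) [hp : Fact p.Prime]

/-- the Heisenberg-type group of maps `(x, y) ↦ (x + c, y + a x + b)` -/
def heis : Subgroup (Perm (ZMod p × ZMod p)) where
  carrier := {σ | ∃ c a b : ZMod p, ∀ z, σ z = (z.1 + c, z.2 + a * z.1 + b)}
  one_mem' := ⟨0, 0, 0, fun z => by simp⟩
  mul_mem' := by
    rintro σ τ ⟨c, a, b, h1⟩ ⟨c', a', b', h2⟩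
    refine ⟨c' + c, a' + a, b' + a * c' + b, fun z => ?_⟩
    rw [Perm.mul_apply, h2, h1]
    ext
    · simp only
      ring
    · simp only
      ring
  inv_mem' := by
    rintro σ ⟨c, a, b, h1⟩
    refine ⟨-c, -a, a * c - b, fun z => ?_⟩
    rw [Perm.inv_def, Equiv.symm_apply_eq, h1]
    ext
    · simp only
      ring
    · simp only
      ring

theorem heis_pow {σ : Perm (ZMod p × ZMod p)} {c a b : ZMod p}
    (h : ∀ z, σ z = (z.1 + c, z.2 + a * z.1 + b)) (k : ℕ) :
    ∃ b' : ZMod p, ∀ z, (σ ^ k) z = (z.1 + k * c, z.2 + k * a * z.1 + b') := by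
  induction k with
  | zero => exact ⟨0, fun z => by simp⟩
  | succ k ih =>
    obtain ⟨b', hb'⟩ := ih
    refine ⟨b' + a * (k * c) + b, fun z => ?_⟩
    rw [pow_succ', Perm.mul_apply, hb', h]
    ext
    · simp only
      push_cast
      ring
    · simp only
      push_cast
      ring

theorem heis_isPGroup : IsPGroup p (heis p) := by
  rintro ⟨σ, c, a, b, h⟩
  refine ⟨2, ?_⟩
  apply Subtype.ext
  show σ ^ (p ^ 2) = 1
  obtain ⟨b', hb'⟩ := heis_pow p h p
  have h1 : ∀ z, (σ ^ p) z = (z.1 + 0, z.2 + 0 * z.1 + b') := by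
    intro z
    rw [hb']
    simp
  obtain ⟨b'', hb''⟩ := heis_pow p h1 p
  rw [pow_two, pow_mul]
  apply Equiv.ext
  intro z
  rw [hb'']
  simp only [mul_zero, add_zero, zero_mul] at hb'' ⊢
  have h2 := hb'' 0
  -- `b''` is `p * b' = 0`
  have h3 : ∀ k : ℕ, ∀ z, ((σ ^ p) ^ k) z = (z.1, z.2 + k * b') := by
    intro k
    induction k with
    | zero => intro z; simp
    | succ k ih =>
      intro z
      rw [pow_succ', Perm.mul_apply, ih, h1]
      ext
      · simp
      · simp only
        push_cast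
        ring
  have h4 := h3 p 0
  rw [h2] at h4
  have h5 : b'' = 0 := by
    have := congrArg Prod.snd h4
    simpa using this
  rw [h5, add_zero]
  rfl

/-- `(x, y) ↦ (x + 1, y)` -/
def heisA : Perm (ZMod p × ZMod p) where
  toFun z := (z.1 + 1, z.2)
  invFun z := (z.1 - 1, z.2)
  left_inv z := by simp
  right_inv z := by simp

/-- `(x, y) ↦ (x, y + x)` -/
def heisB : Perm (ZMod p × ZMod p) where
  toFun z := (z.1, z.2 + z.1)
  invFun z := (z.1, z.2 - z.1)
  left_inv z := by simp
  right_inv z := by simp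

theorem heisA_mem : heisA p ∈ heis p := ⟨1, 0, 0, fun z => by simp [heisA]⟩

theorem heisB_mem : heisB p ∈ heis p := ⟨0, 1, 0, fun z => by simp [heisB]⟩

theorem heis_not_comm : heisA p * heisB p ≠ heisB p * heisA p := by
  intro h
  have h1 := congrArg (fun σ : Perm (ZMod p × ZMod p) => (σ (0, 0)).2) h
  simp [heisA, heisB] at h1

end Heis


/-- if a Sylow `p`-subgroup of `A_n` is commutative then so is every `p`-group embedded in `A_n` -/
theorem comm_of_sylow_comm {n p : ℕ} [Fact p.Prime] (S : Sylow p (alternatingGroup (Fin n)))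
    (hS : IsMulCommutative S) {X : Type*} (ψ : Perm X →* Perm (Fin n))
    (hψ : Function.Injective ψ) (H : Subgroup (Perm X)) (hH : IsPGroup p H)
    (himg : ∀ σ ∈ H, ψ σ ∈ alternatingGroup (Fin n)) {σ τ : Perm X} (hσ : σ ∈ H) (hτ : τ ∈ H) :
    σ * τ = τ * σ := by
  let Q : Subgroup (alternatingGroup (Fin n)) := (H.map ψ).comap (alternatingGroup (Fin n)).subtype
  have hQ : IsPGroup p Q :=
    (hH.map ψ).comap_of_injective _ (alternatingGroup (Fin n)).subtype_injective
  obtain ⟨S', hS'⟩ := hQ.exists_le_sylow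
  obtain ⟨g, rfl⟩ := MulAction.exists_smul_eq (alternatingGroup (Fin n)) S S'
  let a : alternatingGroup (Fin n) := ⟨ψ σ, himg σ hσ⟩
  let b : alternatingGroup (Fin n) := ⟨ψ τ, himg τ hτ⟩
  have haQ : a ∈ Q := ⟨σ, hσ, rfl⟩
  have hbQ : b ∈ Q := ⟨τ, hτ, rfl⟩
  have ha := hS' haQ
  have hb := hS' hbQ
  rw [Sylow.coe_subgroup_smul, Subgroup.mem_smul_pointwise_iff_exists] at ha hb
  obtain ⟨s₁, hs₁, e₁⟩ := ha
  obtain ⟨s₂, hs₂, e₂⟩ := hb
  have hcomm : s₁ * s₂ = s₂ * s₁ := by
    have := hS.is_comm.comm (⟨s₁, hs₁⟩ : S) ⟨s₂, hs₂⟩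
    exact congrArg Subtype.val this
  have hab : a * b = b * a := by
    rw [← e₁, ← e₂]
    simp only [MulAut.smul_def, MulAut.conj_apply]
    calc g * s₁ * g⁻¹ * (g * s₂ * g⁻¹) = g * (s₁ * s₂) * g⁻¹ := by group
      _ = g * (s₂ * s₁) * g⁻¹ := by rw [hcomm]
      _ = g * s₂ * g⁻¹ * (g * s₁ * g⁻¹) := by group
  apply hψ
  rw [map_mul, map_mul]
  exact congrArg (fun x : alternatingGroup (Fin n) => (x : Perm (Fin n))) hab

/-- elements of odd order are even permutations -/
theorem sign_eq_one_of_pow {α : Type*} [Fintype α] [DecidableEq α] (σ : Perm α) {k : ℕ} (hk : Odd k)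
    (h : σ ^ k = 1) : Perm.sign σ = 1 := by
  have h1 : (Perm.sign σ) ^ k = 1 := by rw [← map_pow, h, map_one]
  rcases Int.units_eq_one_or (Perm.sign σ) with h2 | h2
  · exact h2
  · rw [h2, hk.neg_one_pow] at h1
    exact absurd h1 (by decide)

/-- the sign-correcting homomorphism `Perm X → Perm (X ⊕ Fin 2)` -/
def signFix (X : Type*) [Fintype X] [DecidableEq X] : Perm X →* Perm (X ⊕ Fin 2) where
  toFun σ := Equiv.sumCongr σ (if Perm.sign σ = 1 then 1 else Equiv.swap 0 1)
  map_one' := by
    simp only [map_one, if_true]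
    ext z
    rcases z with z | z <;> simp
  map_mul' σ τ := by
    rcases Int.units_eq_one_or (Perm.sign σ) with h1 | h1 <;>
    rcases Int.units_eq_one_or (Perm.sign τ) with h2 | h2
    all_goals
      simp only [map_mul, h1, h2]
      ext z
      rcases z with z | z
      · simp
      · simp only [Perm.mul_apply]
        norm_num

theorem signFix_injective (X : Type*) [Fintype X] [DecidableEq X] :
    Function.Injective (signFix X) := by
  intro σ τ h
  apply Equiv.ext
  intro x
  have := congrArg (fun π : Perm (X ⊕ Fin 2) => π (Sum.inl x)) h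
  simpa [signFix] using this

theorem sign_signFix (X : Type*) [Fintype X] [DecidableEq X] (σ : Perm X) :
    Perm.sign (signFix X σ) = 1 := by
  show Perm.sign (Equiv.sumCongr σ (if Perm.sign σ = 1 then 1 else Equiv.swap 0 1)) = 1
  have : Perm.sign (Equiv.sumCongr σ (if Perm.sign σ = 1 then 1 else Equiv.swap (0 : Fin 2) 1)) =
      Perm.sign σ * Perm.sign (if Perm.sign σ = 1 then (1 : Perm (Fin 2)) else Equiv.swap 0 1) :=
    Perm.sign_sumCongr σ _
  rw [this]
  rcases Int.units_eq_one_or (Perm.sign σ) with h1 | h1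
  · rw [h1]
    simp
  · rw [h1]
    simp [Perm.sign_swap]

end Cfsg.Agent.Helper17.SylowAlt
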