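import Mathlib
import Cfsg.Agent.Lib.Helper17.Sym4T
import Cfsg.Agent.Lib.Helper13.SemisimpleCharpolyGL

/-!
# Conjugating into the normaliser via characteristic polynomials (helper17)
-/

set_option autoImplicit false

namespace Cfsg.Agent.Helper17.Sym4

open Matrix Cfsg.Agent.Helper17.ExtraEig

variable {F : Type*} [Field F]

theorem mem_specialLinear_iff4 (g : GL (Fin 4) F) :
    g ∈ Cfsg.Geo.specialLinear (Fin 4) F ↔ (g : Matrix (Fin 4) (Fin 4) F).det = 1 := by
  unfold Cfsg.Geo.specialLinear
  rw [MonoidHom.mem_ker, Units.ext_iff, Matrix.GeneralLinearGroup.val_det_apply, Units.val_one]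

variable [Fintype F] {p : ℕ} [Fact p.Prime] [CharP F p]

/-- An element of `SL₄` of order prime to `p` is `SL₄`-conjugate into a subgroup `N` as soon as
some `GL₄`-conjugate of an element of `N` of order prime to `p` has the same characteristic
polynomial. -/
theorem conj_into_of_charpoly4 (N : Subgroup (GL (Fin 4) F)) (x y : GL (Fin 4) F)
    (hx : x ∈ Cfsg.Geo.specialLinear (Fin 4) F) (hyN : y ∈ N)
    (hxo : (orderOf x).Coprime p) (hyo : (orderOf y).Coprime p)
    (hc : (y : Matrix (Fin 4) (Fin 4) F).charpoly = (x : Matrix (Fin 4) (Fin 4) F).charpoly) :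
    ∃ g ∈ Cfsg.Geo.specialLinear (Fin 4) F, g⁻¹ * x * g ∈ N := by
  have hdx := (mem_specialLinear_iff4 x).1 hx
  have hdy : (y : Matrix (Fin 4) (Fin 4) F).det = 1 := by
    rw [Matrix.det_eq_sign_charpoly_coeff, hc, ← Matrix.det_eq_sign_charpoly_coeff, hdx]
  set sx : SpecialLinearGroup (Fin 4) F := ⟨x, hdx⟩ with hsx
  set sy : SpecialLinearGroup (Fin 4) F := ⟨y, hdy⟩ with hsy
  have ex : SpecialLinearGroup.toGL sx = x := Units.ext rfl
  have ey : SpecialLinearGroup.toGL sy = y := Units.ext rfl
  have hord : ∀ (s : SpecialLinearGroup (Fin 4) F),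
      orderOf s = orderOf (SpecialLinearGroup.toGL s) := fun s =>
    (orderOf_injective SpecialLinearGroup.toGL SpecialLinearGroup.toGL_injective s).symm
  have hcx : (orderOf sx).Coprime p := by rw [hord, ex]; exact hxo
  have hcy : (orderOf sy).Coprime p := by rw [hord, ey]; exact hyo
  have hconj := Cfsg.Agent.Helper13.SS.sl_isConj_of_charpoly_eq (p := p) sy sx hcy hcx hc
  obtain ⟨c, hc'⟩ := isConj_iff.1 hconj
  refine ⟨SpecialLinearGroup.toGL c, ?_, ?_⟩
  · rw [mem_specialLinear_iff4]
    exact c.2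
  · have : (SpecialLinearGroup.toGL c)⁻¹ * x * SpecialLinearGroup.toGL c = y := by
      rw [← ex, ← hc', map_mul, map_mul, map_inv, ey]
      group
    rw [this]; exact hyN

end Cfsg.Agent.Helper17.Sym4
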