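import Mathlib
import Cfsg.Agent.Lib.Helper17.Sym4U

/-!
# The "if" direction (helper17)
-/

set_option autoImplicit false

namespace Cfsg.Agent.Helper17.Sym4

open Matrix Cfsg.Agent.Helper17.ExtraEig

variable {F : Type*} [Field F] [Fintype F] {p : ℕ} [Fact p.Prime] [CharP F p]
  {R : Subgroup (GL (Fin 4) F)}

omit [Fintype F] [Fact p.Prime] [CharP F p] in
theorem sc_mul (c d : Fˣ) : (sc c : GL (Fin 4) F) * sc d = sc (c * d) := by
  apply Units.ext
  rw [Units.val_mul, sc_val, sc_val, sc_val, Matrix.smul_mul, Matrix.one_mul, smul_smul,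
    Units.val_mul]

omit [Fact p.Prime] [CharP F p] in
theorem sc_one : (sc (1 : Fˣ) : GL (Fin 4) F) = 1 := (sc_eq_one_iff 1).2 rfl

omit [Fintype F] [Fact p.Prime] [CharP F p] in
theorem mem_scalars_iff_sc (g : GL (Fin 4) F) :
    g ∈ Cfsg.Geo.scalars (Fin 4) F ↔ ∃ c : Fˣ, g = sc c := by
  rw [Cfsg.Geo.mem_scalars_iff]
  constructor
  · rintro ⟨c, hc⟩
    exact ⟨c, Units.ext hc⟩
  · rintro ⟨c, rfl⟩
    exact ⟨c, rfl⟩

omit [Fact p.Prime] [CharP F p] in
theorem sc_mem_normalizer (R : Subgroup (GL (Fin 4) F)) (c : Fˣ) :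
    sc c ∈ Cfsg.Geo.subgroupNormalizer R := by
  unfold Cfsg.Geo.subgroupNormalizer
  rw [Subgroup.mem_normalizer_iff]
  intro h
  have : sc c * h * (sc c)⁻¹ = h := by
    rw [scalar_comm (sc_mem_scalars c) h]; group
  rw [this]

theorem sc_pow_card_sub_one (hF : Fintype.card F = p) (c : Fˣ) :
    (sc c : GL (Fin 4) F) ^ (p - 1) = 1 := by
  rw [sc_pow, sc_eq_one_iff]
  have : Nat.card Fˣ = p - 1 := by rw [Nat.card_units, Nat.card_eq_fintype_card, hF]
  rw [← this]
  exact pow_card_eq_one'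

omit [Fintype F] [CharP F p] in
theorem coprime_pred : (p - 1).Coprime p := by
  have hp : p.Prime := Fact.out
  apply Nat.Coprime.symm
  rw [Nat.Prime.coprime_iff_not_dvd hp]
  intro h
  have h1 := hp.two_le
  have := Nat.le_of_dvd (by omega) h
  omega

/-- The order of an element with a scalar `r`-th power is prime to `p`. -/
theorem coprime_orderOf (hF : Fintype.card F = p) {x : GL (Fin 4) F} {r : ℕ} (hr : r.Coprime p)
    (hx : x ^ r ∈ Cfsg.Geo.scalars (Fin 4) F) : (orderOf x).Coprime p := by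
  obtain ⟨c, hc⟩ := (mem_scalars_iff_sc _).1 hx
  have h1 : x ^ (r * (p - 1)) = 1 := by
    rw [pow_mul, hc, sc_pow_card_sub_one hF]
  exact Nat.Coprime.coprime_dvd_left (orderOf_dvd_of_pow_eq_one h1)
    (Nat.Coprime.mul_left hr coprime_pred)

/-- From the standard form: elements of `N(R0 i)` give elements of `N(R)`. -/
theorem conj_via_standard (hF : Fintype.card F = p) {i : Fˣ} {P : GL (Fin 4) F}
    (hRP : R = (R0 i).map (MulAut.conj P).toMonoidHom) (x y : GL (Fin 4) F)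
    (hx : x ∈ Cfsg.Geo.specialLinear (Fin 4) F)
    (hy : y ∈ Subgroup.normalizer (R0 i : Set (GL (Fin 4) F)))
    (hxo : (orderOf x).Coprime p) (hyo : (orderOf y).Coprime p)
    (hc : (y : Matrix (Fin 4) (Fin 4) F).charpoly = (x : Matrix (Fin 4) (Fin 4) F).charpoly) :
    ∃ g ∈ Cfsg.Geo.specialLinear (Fin 4) F, g⁻¹ * x * g ∈ Cfsg.Geo.subgroupNormalizer R := by
  have _ := hF
  have hy' : P * y * P⁻¹ ∈ Cfsg.Geo.subgroupNormalizer R := by
    unfold Cfsg.Geo.subgroupNormalizer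
    rw [hRP]
    exact mem_normalizer_map (R0 i) P y hy
  apply conj_into_of_charpoly4 (Cfsg.Geo.subgroupNormalizer R) x (P * y * P⁻¹) hx hy' hxo
  · have : orderOf (P * y * P⁻¹) = orderOf y := by
      have h1 : P * y * P⁻¹ = (MulAut.conj P) y := rfl
      rw [h1]
      exact orderOf_injective (MulAut.conj P).toMonoidHom (MulAut.conj P).injective y
    rw [this]; exact hyo
  · rw [Units.val_mul, Units.val_mul]
    have := Matrix.charpoly_units_conj P (y : Matrix (Fin 4) (Fin 4) F)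
    have h2 : ((P⁻¹ : GL (Fin 4) F) : Matrix (Fin 4) (Fin 4) F) =
        (P : Matrix (Fin 4) (Fin 4) F)⁻¹ := by
      exact Matrix.coe_units_inv P
    rw [h2, this, hc]

/-- The odd cases `r = 3, 5`. -/
theorem backward_odd (hF : Fintype.card F = p) {i : Fˣ} {P : GL (Fin 4) F}
    (hRP : R = (R0 i).map (MulAut.conj P).toMonoidHom) {r : ℕ} (hrp : r.Coprime p)
    (hr1 : (p - 1).Coprime r)
    (Q : ∀ x : GL (Fin 4) F, x ^ r = 1 → x ≠ 1 →
      ∃ y : GL (Fin 4) F, y ∈ Subgroup.normalizer (R0 i : Set (GL (Fin 4) F)) ∧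
        (y : Matrix (Fin 4) (Fin 4) F).charpoly = (x : Matrix (Fin 4) (Fin 4) F).charpoly ∧
        y ^ r = 1)
    (x : GL (Fin 4) F) (hx : x ∈ Cfsg.Geo.specialLinear (Fin 4) F)
    (hxr : x ^ r ∈ Cfsg.Geo.scalars (Fin 4) F) (hns : x ∉ Cfsg.Geo.scalars (Fin 4) F) :
    ∃ g ∈ Cfsg.Geo.specialLinear (Fin 4) F, g⁻¹ * x * g ∈ Cfsg.Geo.subgroupNormalizer R := by
  obtain ⟨z, hz⟩ := (mem_scalars_iff_sc _).1 hxr
  have hcard : (Nat.card Fˣ).Coprime r := by
    rw [Nat.card_units, Nat.card_eq_fintype_card, hF]; exact hr1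
  obtain ⟨w, hw⟩ : ∃ w : Fˣ, w ^ r = z := ⟨(powCoprime hcard).symm z, (powCoprime hcard).apply_symm_apply z⟩
  set x' : GL (Fin 4) F := sc w⁻¹ * x with hx'
  have hxx' : x = sc w * x' := by
    rw [hx', ← mul_assoc, sc_mul, mul_inv_cancel, sc_one, one_mul]
  have hx'r : x' ^ r = 1 := by
    rw [hx', (Commute.mul_pow (scalar_comm (sc_mem_scalars w⁻¹) x) r), hz, sc_pow, sc_mul, inv_pow,
      hw, inv_mul_cancel, sc_one]
  have hx'1 : x' ≠ 1 := by
    intro h
    apply hns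
    rw [hxx', h, mul_one]
    exact sc_mem_scalars w
  have hx'SL : x' ∈ Cfsg.Geo.specialLinear (Fin 4) F := by
    unfold Cfsg.Geo.specialLinear
    rw [MonoidHom.mem_ker]
    have h1 : (Matrix.GeneralLinearGroup.det x') ^ r = 1 := by
      rw [← map_pow, hx'r, map_one]
    have h2 : (powCoprime hcard) (Matrix.GeneralLinearGroup.det x') = (powCoprime hcard) 1 := by
      show (Matrix.GeneralLinearGroup.det x') ^ r = 1 ^ r
      rw [h1, one_pow]
    exact (powCoprime hcard).injective h2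
  obtain ⟨y, hyN, hyc, hyr⟩ := Q x' hx'r hx'1
  have hxo : (orderOf x').Coprime p :=
    Nat.Coprime.coprime_dvd_left (orderOf_dvd_of_pow_eq_one hx'r) hrp
  have hyo : (orderOf y).Coprime p :=
    Nat.Coprime.coprime_dvd_left (orderOf_dvd_of_pow_eq_one hyr) hrp
  obtain ⟨g, hg, hgN⟩ := conj_via_standard hF hRP x' y hx'SL hyN hxo hyo hyc
  refine ⟨g, hg, ?_⟩
  have : g⁻¹ * x * g = sc w * (g⁻¹ * x' * g) := by
    rw [hxx']
    have := scalar_comm (sc_mem_scalars w) g⁻¹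
    calc g⁻¹ * (sc w * x') * g = (g⁻¹ * sc w) * x' * g := by group
      _ = (sc w * g⁻¹) * x' * g := by rw [this]
      _ = sc w * (g⁻¹ * x' * g) := by group
  rw [this]
  exact (Cfsg.Geo.subgroupNormalizer R).mul_mem (sc_mem_normalizer R w) hgN

end Cfsg.Agent.Helper17.Sym4
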