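import Mathlib
import Cfsg.Agent.Lib.Helper17.Sym4V
import Cfsg.Agent.Lib.Helper23.Sym4Q1
import Cfsg.Agent.Lib.Helper23.Sym4P34

/-!
# The "only if" direction (helper17)
-/

set_option autoImplicit false

namespace Cfsg.Agent.Helper17.Sym4

open Matrix Cfsg.Agent.Helper17.ExtraEig

variable {F : Type*} [Field F] [Fintype F] {p : ℕ} [Fact p.Prime] [CharP F p]
  {R : Subgroup (GL (Fin 4) F)}

omit [Fintype F] [Fact p.Prime] [CharP F p] in
theorem not_mem_scalars_iff (x : GL (Fin 4) F) :
    x ∉ Cfsg.Geo.scalars (Fin 4) F ↔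
      ∀ z : F, (x : Matrix (Fin 4) (Fin 4) F) ≠ z • (1 : Matrix (Fin 4) (Fin 4) F) := by
  constructor
  · intro h z hz
    apply h
    have hz0 : z ≠ 0 := by
      rintro rfl
      rw [zero_smul] at hz
      have h1 : IsUnit ((x : GL (Fin 4) F) : Matrix (Fin 4) (Fin 4) F) := x.isUnit
      rw [hz] at h1
      exact not_isUnit_zero h1
    exact (Cfsg.Geo.mem_scalars_iff x).2 ⟨Units.mk0 z hz0, hz⟩
  · intro h hx
    obtain ⟨c, hc⟩ := (Cfsg.Geo.mem_scalars_iff x).1 hx
    exact h c hc

omit [Fintype F] [Fact p.Prime] [CharP F p] in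
/-- An element normalising `R` normalises `R ⊔ scalars`. -/
theorem normalizes_RZ {g : GL (Fin 4) F} (hg : g ∈ Cfsg.Geo.subgroupNormalizer R) :
    ∀ w, w ∈ R ⊔ Cfsg.Geo.scalars (Fin 4) F ↔ g * w * g⁻¹ ∈ R ⊔ Cfsg.Geo.scalars (Fin 4) F := by
  have hN : ∀ w, w ∈ R ↔ g * w * g⁻¹ ∈ R := by
    unfold Cfsg.Geo.subgroupNormalizer at hg
    exact Subgroup.mem_normalizer_iff.1 hg
  intro w
  rw [mem_RZ_iff, mem_RZ_iff]
  constructor
  · rintro ⟨x, hx, z, hz, rfl⟩
    refine ⟨g * x * g⁻¹, (hN x).1 hx, z, hz, ?_⟩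
    have := scalar_comm hz g⁻¹
    calc g * (x * z) * g⁻¹ = g * x * (z * g⁻¹) := by group
      _ = g * x * (g⁻¹ * z) := by rw [this]
      _ = g * x * g⁻¹ * z := by group
  · rintro ⟨x, hx, z, hz, h⟩
    refine ⟨g⁻¹ * x * g, ?_, z, hz, ?_⟩
    · rw [hN]
      have : g * (g⁻¹ * x * g) * g⁻¹ = x := by group
      rw [this]; exact hx
    · have h1 : w = g⁻¹ * (x * z) * g := by rw [← h]; group
      rw [h1]
      have := scalar_comm hz g
      calc g⁻¹ * (x * z) * g = g⁻¹ * x * (z * g) := by group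
        _ = g⁻¹ * x * (g * z) := by rw [this]
        _ = g⁻¹ * x * g * z := by group

omit [Fintype F] [Fact p.Prime] [CharP F p] in
theorem conj_not_scalar {x h : GL (Fin 4) F} (hx : x ∉ Cfsg.Geo.scalars (Fin 4) F) :
    h⁻¹ * x * h ∉ Cfsg.Geo.scalars (Fin 4) F := by
  intro hg
  apply hx
  have h1 := scalar_comm hg h
  have : x = h * (h⁻¹ * x * h) * h⁻¹ := by group
  rw [this, ← h1]
  have : h⁻¹ * x * h * h * h⁻¹ = h⁻¹ * x * h := by group
  rw [this]; exact hg

omit [Fintype F] [Fact p.Prime] [CharP F p] in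
theorem trace_conj (x h : GL (Fin 4) F) :
    ((h⁻¹ * x * h : GL (Fin 4) F) : Matrix (Fin 4) (Fin 4) F).trace =
      (x : Matrix (Fin 4) (Fin 4) F).trace := by
  rw [Units.val_mul, Units.val_mul]
  exact Matrix.trace_units_conj' h _

/-- The "only if" direction. -/
theorem forward (hF : Fintype.card F = p) (hp4 : p % 4 = 1) (hS : SymData R) {r : ℕ}
    [hr : Fact r.Prime]
    (hΩ : r ∣ (Cfsg.Geo.subgroupNormalizer R).relIndex (Cfsg.Geo.specialLinear (Fin 4) F))
    (hall : ∀ x ∈ Cfsg.Geo.specialLinear (Fin 4) F,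
      (∃ z : F, ((x ^ r : GL (Fin 4) F) : Matrix (Fin 4) (Fin 4) F) =
        z • (1 : Matrix (Fin 4) (Fin 4) F)) →
      (∀ z : F, (x : Matrix (Fin 4) (Fin 4) F) ≠ z • (1 : Matrix (Fin 4) (Fin 4) F)) →
      ∃ g ∈ Cfsg.Geo.specialLinear (Fin 4) F,
        g⁻¹ * x * g ∈ Cfsg.Geo.subgroupNormalizer R) :
    r = 2 ∨ (r = 3 ∧ p % 3 = 2) ∨ (r = 5 ∧ orderOf (p : ZMod 5) = 4) := by
  classical
  have hpp : p.Prime := Fact.out
  have hrp : r.Prime := hr.out
  have hp5 : 5 ≤ p := by
    have := hpp.two_le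
    by_contra hcon
    have : p = 2 ∨ p = 3 ∨ p = 4 := by omega
    rcases this with rfl | rfl | rfl <;> omega
  have hp2 : p ≠ 2 := by omega
  haveI : NeZero 4 := ⟨by norm_num⟩
  -- the basic consequence of `hall`
  have key : ∀ x ∈ Cfsg.Geo.specialLinear (Fin 4) F, x ^ r = 1 →
      (∀ z : F, (x : Matrix (Fin 4) (Fin 4) F) ≠ z • (1 : Matrix (Fin 4) (Fin 4) F)) →
      ∃ h : GL (Fin 4) F, h⁻¹ * x * h ∈ Cfsg.Geo.subgroupNormalizer R ∧
        (h⁻¹ * x * h) ^ r = 1 ∧ h⁻¹ * x * h ∉ Cfsg.Geo.scalars (Fin 4) F := by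
    intro x hx hxr hns
    obtain ⟨g, -, hg⟩ := hall x hx ⟨1, by rw [hxr, Units.val_one, one_smul]⟩ hns
    refine ⟨g, hg, ?_, conj_not_scalar ((not_mem_scalars_iff x).2 hns)⟩
    have : g⁻¹ * x * g = g⁻¹ * x * g⁻¹⁻¹ := by rw [inv_inv]
    rw [this, conj_pow, hxr]; group
  by_cases hrp' : r = p
  · -- a transvection
    exfalso
    subst hrp'
    obtain ⟨x, hx, hxr, hns, hdim⟩ := Cfsg.Agent.Helper23.Sym4Q1.exists_transvection (F := F) (p := r)
    obtain ⟨h, hgN, hgr, hgs⟩ := key x hx hxr hns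
    set g := h⁻¹ * x * h with hg
    have hE := hS.ext
    have hN := normalizes_RZ hgN
    have hdim' : 3 ≤ Module.finrank F (eig g 1) := by
      have h1 := finrank_eig_conj x h⁻¹ (1 : F)
      rw [inv_inv] at h1
      rw [hg, h1]
      exact hdim
    have hodd : Odd r := hpp.odd_of_ne_two hp2
    by_cases hA : ∀ x ∈ R, ∃ t : F, TC g x t
    · have := caseA hE hpp hgr hgs hA 1
      nlinarith
    · push Not at hA
      obtain ⟨x₀, hx₀, hB⟩ := hA
      have := caseB_coprime hE hN hpp hodd hp2 hgr hx₀ hB 1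
      omega
  · by_cases hr2 : r = 2
    · exact Or.inl hr2
    by_cases hr3 : r = 3
    · by_cases hp3 : p % 3 = 2
      · exact Or.inr (Or.inl ⟨hr3, hp3⟩)
      · exfalso
        subst hr3
        have hp31 : p % 3 = 1 := by
          have : p % 3 ≠ 0 := by
            intro h0
            have := (Nat.prime_dvd_prime_iff_eq Nat.prime_three hpp).1 (Nat.dvd_of_mod_eq_zero h0)
            omega
          omega
        have h3 : (3 : F) ≠ 0 := by
          intro h
          have h' : ((3 : ℕ) : F) = 0 := by exact_mod_cast h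
          rw [CharP.cast_eq_zero_iff F p 3] at h'
          have := (Nat.prime_dvd_prime_iff_eq hpp Nat.prime_three).1 h'
          omega
        obtain ⟨ω, hω⟩ : ∃ ω : F, ω ^ 2 + ω + 1 = 0 := by
          haveI : Fact (Nat.Prime 3) := ⟨Nat.prime_three⟩
          have hdvd : 3 ∣ Nat.card Fˣ := by
            rw [Nat.card_units, Nat.card_eq_fintype_card, hF]
            omega
          obtain ⟨u, hu⟩ := exists_prime_orderOf_dvd_card' 3 hdvd
          have hu3 : (u : F) ^ 3 = 1 := by
            rw [← Units.val_pow_eq_pow_val, ← hu, pow_orderOf_eq_one, Units.val_one]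
          have hu1 : (u : F) ≠ 1 := by
            intro h
            have : u = 1 := Units.ext h
            rw [this, orderOf_one] at hu
            norm_num at hu
          refine ⟨(u : F), ?_⟩
          have : ((u : F) - 1) * ((u : F) ^ 2 + u + 1) = 0 := by linear_combination hu3
          rcases mul_eq_zero.1 this with h | h
          · exact absurd (sub_eq_zero.1 h) hu1
          · exact h
        obtain ⟨x, hx, hxr, hns, htr⟩ := Cfsg.Agent.Helper23.Sym4Q1.exists_x3 h3 ω hω
        obtain ⟨h, hgN, hgr, hgs⟩ := key x hx hxr hns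
        have hgr' : (h⁻¹ * x * h) ^ 3 ∈ Cfsg.Geo.scalars (Fin 4) F := by
          rw [hgr]; exact Subgroup.one_mem _
        have h1 := hS.trace_three hgN hgr' hgs
        have e1 := trace_conj x h
        have e2 : (((h⁻¹ * x * h)⁻¹ : GL (Fin 4) F) : Matrix (Fin 4) (Fin 4) F).trace =
            ((x⁻¹ : GL (Fin 4) F) : Matrix (Fin 4) (Fin 4) F).trace := by
          have : (h⁻¹ * x * h)⁻¹ = h⁻¹ * x⁻¹ * h := by group
          rw [this]; exact trace_conj x⁻¹ h
        rw [e1, e2, htr] at h1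
        rcases h1 with h1 | h1
        · have h6 : ((6 : ℕ) : F) = 0 := by push_cast; linear_combination h1
          rw [CharP.cast_eq_zero_iff F p 6] at h6
          have h7 : p ∣ 2 * 3 := h6
          rcases (Nat.Prime.dvd_mul hpp).1 h7 with h8 | h8
          · have := (Nat.prime_dvd_prime_iff_eq hpp Nat.prime_two).1 h8; omega
          · have := (Nat.prime_dvd_prime_iff_eq hpp Nat.prime_three).1 h8; omega
        · have h6 : ((3 : ℕ) : F) = 0 := by push_cast; linear_combination h1
          exact h3 (by exact_mod_cast h6)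
    by_cases hr5 : r = 5
    · by_cases hord : orderOf (p : ZMod 5) = 4
      · exact Or.inr (Or.inr ⟨hr5, hord⟩)
      · exfalso
        subst hr5
        have hp5' : p ≠ 5 := fun h => hrp' h.symm
        obtain ⟨τ, hτ⟩ := Cfsg.Agent.Helper23.Sym4P34.exists_golden hF hp2 hp5' hord
        obtain ⟨x, hx, hxr, hns, htr⟩ := Cfsg.Agent.Helper23.Sym4Q1.exists_x5 τ hτ
        obtain ⟨h, hgN, hgr, hgs⟩ := key x hx hxr hns
        have hgr' : (h⁻¹ * x * h) ^ 5 ∈ Cfsg.Geo.scalars (Fin 4) F := by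
          rw [hgr]; exact Subgroup.one_mem _
        have h1 := hS.trace_five hgN hgr' hgs
        have e1 := trace_conj x h
        have e2 : (((h⁻¹ * x * h)⁻¹ : GL (Fin 4) F) : Matrix (Fin 4) (Fin 4) F).trace =
            ((x⁻¹ : GL (Fin 4) F) : Matrix (Fin 4) (Fin 4) F).trace := by
          have : (h⁻¹ * x * h)⁻¹ = h⁻¹ * x⁻¹ * h := by group
          rw [this]; exact trace_conj x⁻¹ h
        rw [e1, e2, htr] at h1
        have h5 : ((5 : ℕ) : F) = 0 := by
          push_cast
          linear_combination 4 * h1 - (4 * τ + 3) * (4 * hτ - h1)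
        rw [CharP.cast_eq_zero_iff F p 5] at h5
        have := (Nat.prime_dvd_prime_iff_eq hpp Nat.prime_five).1 h5
        exact hp5' this
    · -- r ≥ 7
      exfalso
      have hr7 : 7 ≤ r := by
        have := hrp.two_le
        by_contra hcon
        have : r = 4 ∨ r = 6 := by omega
        rcases this with rfl | rfl
        · exact absurd hrp (by norm_num)
        · exact absurd hrp (by norm_num)
      have hdvd : r ∣ Nat.card ↥(Cfsg.Geo.specialLinear (Fin 4) F) :=
        dvd_trans hΩ (Subgroup.index_dvd_card _)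
      obtain ⟨x, hx⟩ := exists_prime_orderOf_dvd_card' r hdvd
      have hxr : (x : GL (Fin 4) F) ^ r = 1 := by
        have := pow_orderOf_eq_one x
        rw [hx] at this
        have h' := congrArg Subtype.val this
        simpa using h'
      have hdet := (mem_specialLinear_iff4 (x : GL (Fin 4) F)).1 x.2
      have hns : ∀ z : F, ((x : GL (Fin 4) F) : Matrix (Fin 4) (Fin 4) F) ≠
          z • (1 : Matrix (Fin 4) (Fin 4) F) := by
        intro z hz
        rw [hz, Matrix.det_smul, Fintype.card_fin, Matrix.det_one, mul_one] at hdet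
        have h4 : (x : GL (Fin 4) F) ^ 4 = 1 := by
          apply Units.ext
          rw [Units.val_pow_eq_pow_val, hz, smul_pow, one_pow, hdet, one_smul, Units.val_one]
        have h5 : x ^ 4 = 1 := by
          apply Subtype.ext
          simpa using h4
        have h6 := orderOf_dvd_of_pow_eq_one h5
        rw [hx] at h6
        have := Nat.le_of_dvd (by norm_num) h6
        omega
      obtain ⟨h, hgN, hgr, hgs⟩ := key x x.2 hxr hns
      have hgr' : (h⁻¹ * x * h) ^ r ∈ Cfsg.Geo.scalars (Fin 4) F := by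
        rw [hgr]; exact Subgroup.one_mem _
      exact hgs (hS.scalar_of_seven_le hgN hr7 hgr')

end Cfsg.Agent.Helper17.Sym4
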