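import Mathlib
import Cfsg.Agent.Lib.Helper17.Sym4W
import Cfsg.Agent.Lib.Helper15.Sym4Q3
import Cfsg.Agent.Lib.Helper16.Sym4Q3two

/-!
# The "if" direction, assembled (helper17)
-/

set_option autoImplicit false

namespace Cfsg.Agent.Helper17.Sym4

open Matrix Cfsg.Agent.Helper17.ExtraEig

variable {F : Type*} [Field F] [Fintype F] {p : ℕ} [Fact p.Prime] [CharP F p]
  {R : Subgroup (GL (Fin 4) F)}

omit [Fintype F] [Fact p.Prime] [CharP F p] in
theorem mem_scalars_of_eq_smul {g : GL (Fin 4) F} {z : F}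
    (h : (g : Matrix (Fin 4) (Fin 4) F) = z • (1 : Matrix (Fin 4) (Fin 4) F)) :
    g ∈ Cfsg.Geo.scalars (Fin 4) F := by
  by_contra hcon
  exact (not_mem_scalars_iff g).1 hcon z h

theorem sq_ne_one_of_orderOf {a : ZMod 5} (h : orderOf a = 4) : a ^ 2 ≠ 1 ∧ a ^ 4 = 1 := by
  constructor
  · intro h2
    have := orderOf_dvd_of_pow_eq_one h2
    rw [h] at this
    omega
  · rw [← h]; exact pow_orderOf_eq_one a

/-- The "if" direction. -/
theorem backward (hF : Fintype.card F = p) (hp4 : p % 4 = 1) (hS : SymData R) {r : ℕ}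
    (hr : r = 2 ∨ (r = 3 ∧ p % 3 = 2) ∨ (r = 5 ∧ orderOf (p : ZMod 5) = 4))
    (x : GL (Fin 4) F) (hx : x ∈ Cfsg.Geo.specialLinear (Fin 4) F)
    (hxr : ∃ z : F, ((x ^ r : GL (Fin 4) F) : Matrix (Fin 4) (Fin 4) F) =
        z • (1 : Matrix (Fin 4) (Fin 4) F))
    (hns : ∀ z : F, (x : Matrix (Fin 4) (Fin 4) F) ≠ z • (1 : Matrix (Fin 4) (Fin 4) F)) :
    ∃ g ∈ Cfsg.Geo.specialLinear (Fin 4) F,
      g⁻¹ * x * g ∈ Cfsg.Geo.subgroupNormalizer R := by
  have hpp : p.Prime := Fact.out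
  have hp5 : 5 ≤ p := by
    have := hpp.two_le
    by_contra hcon
    have : p = 2 ∨ p = 3 ∨ p = 4 := by omega
    rcases this with rfl | rfl | rfl <;> omega
  have hp2 : p ≠ 2 := by omega
  obtain ⟨i, P, hi, hRP⟩ := hS.exists_standard
  obtain ⟨z, hz⟩ := hxr
  have hxs : x ^ r ∈ Cfsg.Geo.scalars (Fin 4) F := mem_scalars_of_eq_smul hz
  have hnss : x ∉ Cfsg.Geo.scalars (Fin 4) F := (not_mem_scalars_iff x).2 hns
  rcases hr with rfl | ⟨rfl, hp3⟩ | ⟨rfl, hord⟩
  · -- r = 2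
    have hz' : (x : Matrix (Fin 4) (Fin 4) F) * (x : Matrix (Fin 4) (Fin 4) F) = z • 1 := by
      rw [← hz, pow_two, Units.val_mul]
    obtain ⟨y, hyN, hyc, hyo⟩ := Cfsg.Agent.Helper16.Sym4Q3two.exists_normalizer_charpoly_two (p := p) hp2 i hi x hx z hz' hns
    have hxo : (orderOf x).Coprime p := by
      apply coprime_orderOf hF (r := 2) _ hxs
      exact (Nat.coprime_primes Nat.prime_two hpp).2 (fun h => hp2 h.symm)
    exact conj_via_standard hF hRP x y hx hyN hxo hyo hyc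
  · -- r = 3
    have h3p : Nat.Coprime 3 p := (Nat.coprime_primes Nat.prime_three hpp).2 (by omega)
    have h31 : (p - 1).Coprime 3 := by
      apply Nat.Coprime.symm
      rw [Nat.Prime.coprime_iff_not_dvd Nat.prime_three]
      omega
    exact backward_odd hF hRP h3p h31
      (fun x' h1 h2 => Cfsg.Agent.Helper15.Sym4Q3.exists_normalizer_charpoly_three hF hp2 hp3 i hi x' h1 h2) x hx hxs hnss
  · -- r = 5
    obtain ⟨hsq, hfour⟩ := sq_ne_one_of_orderOf hord
    have hp5' : p ≠ 5 := by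
      intro h5
      rw [h5, ZMod.natCast_self, zero_pow (by norm_num)] at hfour
      exact absurd hfour (by decide)
    have h5p : Nat.Coprime 5 p := (Nat.coprime_primes Nat.prime_five hpp).2 (fun h => hp5' h.symm)
    have h51 : (p - 1).Coprime 5 := by
      apply Nat.Coprime.symm
      rw [Nat.Prime.coprime_iff_not_dvd Nat.prime_five]
      intro hd
      apply hsq
      have h1 : ((p - 1 : ℕ) : ZMod 5) = 0 := (ZMod.natCast_eq_zero_iff _ _).2 hd
      have h2 : (p : ZMod 5) = 1 := by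
        have : p = (p - 1) + 1 := by omega
        rw [this, Nat.cast_add, h1, zero_add, Nat.cast_one]
      rw [h2, one_pow]
    exact backward_odd hF hRP h5p h51
      (fun x' h1 h2 => Cfsg.Agent.Helper15.Sym4Q3.exists_normalizer_charpoly_five hF hp2 hord i hi x' h1 h2) x hx hxs hnss

/-- **S6000**, both directions. -/
theorem main (hF : Fintype.card F = p) (hp4 : p % 4 = 1)
    (R : Subgroup (GL (Fin 4) F)) (hR : Cfsg.Geo.IsLinearSymplecticTypeData 2 R)
    (hR6 : Nat.card R = 2 ^ 6) (r : ℕ) [Fact r.Prime]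
    (hΩ : r ∣ (Cfsg.Geo.subgroupNormalizer R).relIndex (Cfsg.Geo.specialLinear (Fin 4) F)) :
    (∀ x ∈ Cfsg.Geo.specialLinear (Fin 4) F,
      (∃ z : F, ((x ^ r : GL (Fin 4) F) : Matrix (Fin 4) (Fin 4) F) =
        z • (1 : Matrix (Fin 4) (Fin 4) F)) →
      (∀ z : F, (x : Matrix (Fin 4) (Fin 4) F) ≠ z • (1 : Matrix (Fin 4) (Fin 4) F)) →
      ∃ g ∈ Cfsg.Geo.specialLinear (Fin 4) F,
        g⁻¹ * x * g ∈ Cfsg.Geo.subgroupNormalizer R) ↔
    (r = 2 ∨ (r = 3 ∧ p % 3 = 2) ∨ (r = 5 ∧ orderOf (p : ZMod 5) = 4)) := by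
  have hpp : p.Prime := Fact.out
  have h2 : (2 : F) ≠ 0 := by
    intro h
    have h' : ((2 : ℕ) : F) = 0 := by exact_mod_cast h
    rw [CharP.cast_eq_zero_iff F p 2] at h'
    have := (Nat.prime_dvd_prime_iff_eq hpp Nat.prime_two).1 h'
    omega
  have hS := symData_of_hyp h2 R hR hR6
  constructor
  · intro hall
    exact forward hF hp4 hS hΩ hall
  · intro hr x hx hxr hns
    exact backward hF hp4 hS hr x hx hxr hns

end Cfsg.Agent.Helper17.Sym4
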