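import Mathlib
import Cfsg.Agent.Lib.Helper2.SympCard

/-!
# Centraliser of a symplectic transvection in characteristic two (helper17)

Built on helper2's symplectic API (`Cfsg.Agent.Helper2.Symp`): an element `t` of `Sp_2m(F)` with
`rank (t - 1) = 1` is a transvection `tv u c`; in characteristic two its centraliser is the
stabiliser of the vector `u`, of order `|Sp_2m(q)| / (q^(2m) - 1)`.
-/

set_option autoImplicit false

namespace Cfsg.Agent.Helper17.SympT

open Module Cfsg.Agent.Helper2.Symp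
open scoped Cfsg.Agent.Helper2.Symp

variable {m : ℕ} {F : Type*} [Field F]

/-- the linear functional `x ↦ Bf x z` -/
noncomputable def BfR (z : Fin m ⊕ Fin m → F) : (Fin m ⊕ Fin m → F) →ₗ[F] F where
  toFun x := Bf x z
  map_add' x y := Bf_add_left x y z
  map_smul' a x := by rw [Bf_smul_left]; rfl

theorem smul_sub_eq (t : Matrix.symplecticGroup (Fin m) F) (x : Fin m ⊕ Fin m → F) :
    ((t : Matrix (Fin m ⊕ Fin m) (Fin m ⊕ Fin m) F) - 1).mulVecLin x = t • x - x := by
  rw [Matrix.mulVecLin_apply, Matrix.sub_mulVec, Matrix.one_mulVec]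
  rfl

/-- a symplectic matrix with `t - 1` of rank one is a transvection -/
theorem exists_eq_tv_of_rank (t : Matrix.symplecticGroup (Fin m) F)
    (ht : ((t : Matrix (Fin m ⊕ Fin m) (Fin m ⊕ Fin m) F) - 1).rank = 1) :
    ∃ (u : Fin m ⊕ Fin m → F) (c : F), u ≠ 0 ∧ c ≠ 0 ∧ t = tv u c := by
  rw [Matrix.rank] at ht
  obtain ⟨a', ha'0, ha'⟩ := finrank_eq_one_iff'.1 ht
  have hu0 : (a' : Fin m ⊕ Fin m → F) ≠ 0 := fun h0 => ha'0 (Subtype.ext h0)
  set u : Fin m ⊕ Fin m → F := (a' : Fin m ⊕ Fin m → F) with hu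
  have hspan : ∀ x, ∃ c : F, c • u = t • x - x := by
    intro x
    obtain ⟨c, hc⟩ := ha' ⟨_, LinearMap.mem_range_self _ x⟩
    refine ⟨c, ?_⟩
    rw [hu, ← Submodule.coe_smul, hc, ← smul_sub_eq]
  obtain ⟨z, hz⟩ := exists_Bf_ne_zero hu0
  set φ : (Fin m ⊕ Fin m → F) → F := fun x => Bf (t • x - x) z * (Bf u z)⁻¹ with hφ
  have hφu : ∀ x, t • x - x = φ x • u := by
    intro x
    obtain ⟨c, hc⟩ := hspan x
    rw [hφ]
    simp only
    rw [← hc, Bf_smul_left, mul_assoc, mul_inv_cancel₀ hz, mul_one]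
  have htx : ∀ x, t • x = x + φ x • u := by
    intro x
    rw [← hφu x]; abel
  have hkey : ∀ x y, φ y * Bf x u = φ x * Bf y u := by
    intro x y
    have h1 := Bf_smul_smul t x y
    rw [htx x, htx y, Bf_add_left, Bf_add_right, Bf_add_right, Bf_smul_left, Bf_smul_left,
      Bf_smul_right, Bf_smul_right, Bf_self, Bf_skew u y] at h1
    linear_combination h1
  obtain ⟨x₀, hx₀⟩ : ∃ x₀, φ x₀ ≠ 0 := by
    by_contra hcon
    push Not at hcon
    apply ha'0
    obtain ⟨c, hc⟩ := ha' ⟨_, LinearMap.mem_range_self _ u⟩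
    have hmem := a'.2
    obtain ⟨x, hx⟩ := hmem
    apply Subtype.ext
    show (a' : Fin m ⊕ Fin m → F) = 0
    rw [← hx, smul_sub_eq, hφu x, hcon x, zero_smul]
  obtain ⟨y₀, hy₀⟩ := exists_Bf_ne_zero hu0
  have hy₀' : Bf y₀ u ≠ 0 := by
    rw [Bf_skew]; exact neg_ne_zero.2 hy₀
  have hx₀u : Bf x₀ u ≠ 0 := by
    intro h0
    have := hkey x₀ y₀
    rw [h0, mul_zero] at this
    rcases mul_eq_zero.1 this.symm with h | h
    · exact hx₀ h
    · exact hy₀' h
  refine ⟨u, φ x₀ * (Bf x₀ u)⁻¹, hu0, mul_ne_zero hx₀ (inv_ne_zero hx₀u), ?_⟩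
  apply ext_smul
  intro x
  rw [htx x, tv_smul]
  congr 2
  have := hkey x₀ x
  field_simp
  linear_combination this

/-- conjugating a transvection -/
theorem mul_tv (g : Matrix.symplecticGroup (Fin m) F) (u : Fin m ⊕ Fin m → F) (c : F) :
    g * tv u c = tv (g • u) c * g := by
  apply ext_smul
  intro x
  rw [mul_smul, mul_smul, tv_smul, tv_smul, smul_add, smul_comm_class_apply]
  rw [← Bf_smul_smul g x u]
where
  smul_comm_class_apply : ∀ {a : F} {g : Matrix.symplecticGroup (Fin m) F}
      {v : Fin m ⊕ Fin m → F}, g • (a • v) = a • (g • v) := by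
    intro a g v
    rw [smul_def g, smul_def g, Matrix.mulVec_smul]

/-- in characteristic two, the centraliser of a transvection is the stabiliser of its centre -/
theorem mem_centralizer_tv_iff [CharP F 2] {u : Fin m ⊕ Fin m → F} (hu : u ≠ 0) {c : F}
    (hc : c ≠ 0) (g : Matrix.symplecticGroup (Fin m) F) :
    g ∈ Subgroup.centralizer ({tv u c} : Set (Matrix.symplecticGroup (Fin m) F)) ↔ g • u = u := by
  rw [Subgroup.mem_centralizer_iff]
  constructor
  · intro h
    have h1 := h (tv u c) (Set.mem_singleton _)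
    rw [mul_tv g u c] at h1
    have h2 : tv u c = tv (g • u) c := mul_right_cancel h1
    obtain ⟨x, hx⟩ := exists_Bf_ne_zero hu
    have hx' : Bf x u ≠ 0 := by rw [Bf_skew]; exact neg_ne_zero.2 hx
    -- apply both sides to a vector
    have h3 : ∀ y, (c * Bf y u) • u = (c * Bf y (g • u)) • (g • u) := by
      intro y
      have := congrArg (fun s => s • y) h2
      simp only [tv_smul] at this
      exact add_left_cancel this
    -- `g • u = l • u`
    have h4 := h3 x
    set l : F := (c * Bf x (g • u))⁻¹ * (c * Bf x u) with hl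
    have hgu0 : c * Bf x (g • u) ≠ 0 := by
      intro h0
      rw [h0, zero_smul] at h4
      exact (smul_ne_zero (mul_ne_zero hc hx') hu) h4
    have hl0 : l ≠ 0 := mul_ne_zero (inv_ne_zero hgu0) (mul_ne_zero hc hx')
    have h5 : g • u = l • u := by
      rw [hl, mul_smul, h4, smul_smul, inv_mul_cancel₀ hgu0, one_smul]
    -- `l² = 1`
    have h6 := h3 x
    rw [h5, Bf_smul_right, smul_smul] at h6
    have h7 : c * Bf x u = c * (l * Bf x u) * l := by
      have := congrArg (fun v => Bf x v) h6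
      simp only [Bf_smul_right] at this
      exact mul_right_cancel₀ hx' this
    have h8 : l * l = 1 := by
      have h9 : c * Bf x u * (l * l) = c * Bf x u * 1 := by rw [mul_one]; linear_combination -h7
      exact mul_left_cancel₀ (mul_ne_zero hc hx') h9
    have h10 : (l - 1) * (l - 1) = 0 := by
      have h2' : (2 : F) = 0 := CharTwo.two_eq_zero
      linear_combination h8 + (1 - l) * h2'
    have h11 : l = 1 := by
      rcases mul_eq_zero.1 h10 with h | h <;> exact sub_eq_zero.1 h
    rw [h5, h11, one_smul]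
  · intro h t ht
    rw [Set.mem_singleton_iff] at ht
    subst ht
    rw [mul_tv g u c, h]

/-- the centraliser of a transvection is a vector stabiliser -/
theorem centralizer_tv_eq [CharP F 2] {u : Fin m ⊕ Fin m → F} (hu : u ≠ 0) {c : F}
    (hc : c ≠ 0) :
    Subgroup.centralizer ({tv u c} : Set (Matrix.symplecticGroup (Fin m) F))
      = MulAction.stabilizer (Matrix.symplecticGroup (Fin m) F) u := by
  ext g
  rw [mem_centralizer_tv_iff hu hc, MulAction.mem_stabilizer_iff]

/-- the symplectic group is transitive on non-zero vectors -/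
theorem orbit_eq_ne_zero {u : Fin m ⊕ Fin m → F} (hu : u ≠ 0) :
    MulAction.orbit (Matrix.symplecticGroup (Fin m) F) u = {v | v ≠ 0} := by
  ext w
  constructor
  · rintro ⟨g, rfl⟩
    intro h0
    apply hu
    have : g⁻¹ • (g • u) = g⁻¹ • (0 : Fin m ⊕ Fin m → F) := by
      simp only at h0
      rw [h0]
    rw [inv_smul_smul, smul_zero] at this
    exact this
  · intro hw
    obtain ⟨g, -, hg⟩ := trans_vec (isND_top (m := m) (F := F)) (Submodule.mem_top : u ∈ ⊤)
      (Submodule.mem_top : w ∈ ⊤) hu hw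
    exact ⟨g, hg⟩

theorem card_centralizer_tv [Fintype F] [CharP F 2] {u : Fin m ⊕ Fin m → F} (hu : u ≠ 0) {c : F}
    (hc : c ≠ 0) :
    Nat.card ↥(Subgroup.centralizer ({tv u c} : Set (Matrix.symplecticGroup (Fin m) F)))
      * (Fintype.card F ^ (2 * m) - 1) = Nat.card (Matrix.symplecticGroup (Fin m) F) := by
  rw [centralizer_tv_eq hu hc]
  have h1 := Subgroup.card_mul_index
    (MulAction.stabilizer (Matrix.symplecticGroup (Fin m) F) u)
  rw [MulAction.index_stabilizer, orbit_eq_ne_zero hu] at h1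
  have h2 : ({v | v ≠ 0} : Set (Fin m ⊕ Fin m → F)) = ({0} : Set (Fin m ⊕ Fin m → F))ᶜ := by
    ext v; simp
  have h3 : Nat.card (Fin m ⊕ Fin m → F) = Fintype.card F ^ (2 * m) := by
    rw [Nat.card_eq_fintype_card, Fintype.card_fun, Fintype.card_sum, Fintype.card_fin, ← two_mul]
  rw [h2, Set.ncard_compl, Set.ncard_singleton, h3] at h1
  exact h1

/-- the order of the centraliser of a rank one element of `Sp_2m(q)`, `q` even -/
theorem card_centralizer_of_rank [Fintype F] [CharP F 2] (hm : 1 ≤ m)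
    (t : Matrix.symplecticGroup (Fin m) F)
    (ht : ((t : Matrix (Fin m ⊕ Fin m) (Fin m ⊕ Fin m) F) - 1).rank = 1) :
    Nat.card ↥(Subgroup.centralizer ({t} : Set (Matrix.symplecticGroup (Fin m) F)))
      = Fintype.card F ^ (2 * m - 1) * (Fintype.card F ^ ((m - 1) ^ 2)
        * ∏ i : Fin (m - 1), (Fintype.card F ^ (2 * ((i : ℕ) + 1)) - 1)) := by
  obtain ⟨u, c, hu, hc, rfl⟩ := exists_eq_tv_of_rank t ht
  have h1 := card_centralizer_tv (m := m) hu hc
  rw [card_symplecticGroup] at h1
  obtain ⟨k, rfl⟩ : ∃ k, m = k + 1 := ⟨m - 1, by omega⟩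
  have hq : 1 < Fintype.card F := Fintype.one_lt_card
  have hpos : 0 < Fintype.card F ^ (2 * (k + 1)) - 1 := by
    have : 1 < Fintype.card F ^ (2 * (k + 1)) := Nat.one_lt_pow (by omega) hq
    omega
  rw [Finset.prod_range_succ] at h1
  apply Nat.eq_of_mul_eq_mul_right hpos
  rw [h1, Fin.prod_univ_eq_prod_range (fun i => Fintype.card F ^ (2 * (i + 1)) - 1)]
  simp only [Nat.add_sub_cancel]
  have h3 : Fintype.card F ^ ((k + 1) ^ 2)
      = Fintype.card F ^ (2 * (k + 1) - 1) * Fintype.card F ^ (k ^ 2) := by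
    rw [← pow_add]
    congr 1
    have : 2 * (k + 1) - 1 = 2 * k + 1 := by omega
    rw [this]; ring
  rw [h3]
  ring

end Cfsg.Agent.Helper17.SympT
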