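import Mathlib

/-!
# Groups of symplectic maps that are elementary abelian modulo `±1` (helper17)

Let `G` be a finite group acting faithfully on a symplectic space of dimension `2m` over a field
of odd characteristic, with a central involution `z` acting as `-1`, such that squares and
commutators all lie in `{1, z}`. For a maximal elementary abelian 2-subgroup `A` of `G`:
`|C_G(A) : A| ≤ 4` and `|G : C_G(A)| ≤ m`.
-/

set_option autoImplicit false

namespace Cfsg.Agent.Helper17.SympTwo

section group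

variable {G : Type*} [Group G]

/-- a subgroup whose members are commuting involutions -/
def IsEA (A : Subgroup G) : Prop :=
  (∀ a ∈ A, a * a = 1) ∧ ∀ a ∈ A, ∀ b ∈ A, a * b = b * a

theorem card_le_two_mul [Finite G] {H K : Subgroup G}
    (h : ∀ y ∈ K, ∀ y' ∈ K, y ∉ H → y' ∉ H → y⁻¹ * y' ∈ H) :
    Nat.card K ≤ 2 * Nat.card H := by
  classical
  by_cases hKH : K ≤ H
  · have := Subgroup.card_le_of_le hKH
    omega
  · obtain ⟨y₀, hy₀K, hy₀H⟩ := SetLike.not_le_iff_exists.1 hKH
    have hsub : (K : Set G) ⊆ (H : Set G) ∪ (fun x => y₀ * x) '' (H : Set G) := by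
      intro y hy
      by_cases hyH : y ∈ H
      · exact Or.inl hyH
      · exact Or.inr ⟨y₀⁻¹ * y, h y₀ hy₀K y hy hy₀H hyH, by group⟩
    have h1 : Nat.card K = (K : Set G).ncard := Nat.card_coe_set_eq _
    have h2 : Nat.card H = (H : Set G).ncard := Nat.card_coe_set_eq _
    rw [h1, h2]
    calc (K : Set G).ncard ≤ ((H : Set G) ∪ (fun x => y₀ * x) '' (H : Set G)).ncard :=
          Set.ncard_le_ncard hsub (Set.toFinite _)
      _ ≤ (H : Set G).ncard + ((fun x => y₀ * x) '' (H : Set G)).ncard := Set.ncard_union_le _ _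
      _ ≤ (H : Set G).ncard + (H : Set G).ncard :=
          Nat.add_le_add_left (Set.ncard_image_le (Set.toFinite (H : Set G))) _
      _ = 2 * (H : Set G).ncard := by ring

/-- the involutions in the centre of the centraliser of `S`, with the identity -/
def omegaCC (S : Set G) : Subgroup G where
  carrier := {g | g ∈ Subgroup.centralizer S ∧
    g ∈ Subgroup.centralizer (Subgroup.centralizer S : Set G) ∧ g * g = 1}
  one_mem' := ⟨one_mem _, one_mem _, by simp⟩
  mul_mem' := by
    rintro a b ⟨ha1, ha2, ha3⟩ ⟨hb1, hb2, hb3⟩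
    refine ⟨mul_mem ha1 hb1, mul_mem ha2 hb2, ?_⟩
    have hab : b * a = a * b := (Subgroup.mem_centralizer_iff.1 ha2) b hb1
    calc a * b * (a * b) = a * (b * a) * b := by group
      _ = a * (a * b) * b := by rw [hab]
      _ = (a * a) * (b * b) := by group
      _ = 1 := by rw [ha3, hb3, one_mul]
  inv_mem' := by
    rintro a ⟨ha1, ha2, ha3⟩
    refine ⟨inv_mem ha1, inv_mem ha2, ?_⟩
    have : a⁻¹ = a := inv_eq_of_mul_eq_one_left ha3
    rw [this]
    exact ha3

theorem exists_maximal_EA [Finite G] :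
    ∃ A : Subgroup G, IsEA A ∧ ∀ y : G, y * y = 1 → (∀ a ∈ A, y * a = a * y) → y ∈ A := by
  have hbot : IsEA (⊥ : Subgroup G) := by
    refine ⟨fun a ha => ?_, fun a ha b hb => ?_⟩
    · rw [Subgroup.mem_bot] at ha
      rw [ha, one_mul]
    · rw [Subgroup.mem_bot] at ha hb
      rw [ha, hb]
  obtain ⟨A, -, hA⟩ := Finite.exists_le_maximal (p := fun A : Subgroup G => IsEA A) hbot
  refine ⟨A, hA.prop, ?_⟩
  intro y hy hyA
  set S : Set G := (A : Set G) ∪ {y} with hS
  have hScomm : ∀ s ∈ S, ∀ t ∈ S, s * t = t * s := by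
    rintro s (hs | hs) t (ht | ht)
    · exact hA.prop.2 s hs t ht
    · rw [Set.mem_singleton_iff] at ht
      rw [ht]
      exact (hyA s hs).symm
    · rw [Set.mem_singleton_iff] at hs
      rw [hs]
      exact hyA t ht
    · rw [Set.mem_singleton_iff] at hs ht
      rw [hs, ht]
  have hSsq : ∀ s ∈ S, s * s = 1 := by
    rintro s (hs | hs)
    · exact hA.prop.1 s hs
    · rw [Set.mem_singleton_iff] at hs
      rw [hs]
      exact hy
  have hSle : S ⊆ omegaCC S := by
    intro s hs
    refine ⟨?_, ?_, hSsq s hs⟩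
    · rw [Subgroup.mem_centralizer_iff]
      intro t ht
      exact hScomm t ht s hs
    · rw [Subgroup.mem_centralizer_iff]
      intro t ht
      exact ((Subgroup.mem_centralizer_iff.1 ht) s hs).symm
  have hEA : IsEA (omegaCC S) := by
    refine ⟨fun a ha => ha.2.2, fun a ha b hb => ?_⟩
    exact (Subgroup.mem_centralizer_iff.1 hb.2.1) a ha.1
  have hle : A ≤ omegaCC S := fun a ha => hSle (Or.inl ha)
  exact hA.le_of_ge hEA hle (hSle (Or.inr rfl))

/-- `z` is a central involution (or trivial) and all squares and commutators lie in `{1, z}` -/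
structure IsPE (z : G) : Prop where
  central : ∀ g : G, z * g = g * z
  sq : z * z = 1
  hsq : ∀ x : G, x * x = 1 ∨ x * x = z
  hcm : ∀ x y : G, x * y = y * x ∨ x * y = z * (y * x)

theorem comm_of_ac {z x y y' : G} (hc : ∀ g : G, z * g = g * z)
    (h1 : y * x = z * (x * y)) (h2 : y' * x = z * (x * y')) :
    y⁻¹ * y' * x = x * (y⁻¹ * y') := by
  have h3 : x * y⁻¹ = z * (y⁻¹ * x) := by
    calc x * y⁻¹ = y⁻¹ * (y * x) * y⁻¹ := by group
      _ = y⁻¹ * (z * (x * y)) * y⁻¹ := by rw [h1]
      _ = y⁻¹ * z * x := by group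
      _ = z * y⁻¹ * x := by rw [hc y⁻¹]
      _ = z * (y⁻¹ * x) := mul_assoc _ _ _
  calc y⁻¹ * y' * x = y⁻¹ * (y' * x) := mul_assoc _ _ _
    _ = y⁻¹ * (z * (x * y')) := by rw [h2]
    _ = (y⁻¹ * z) * x * y' := by group
    _ = (z * y⁻¹) * x * y' := by rw [hc y⁻¹]
    _ = z * (y⁻¹ * x) * y' := by group
    _ = x * y⁻¹ * y' := by rw [← h3]
    _ = x * (y⁻¹ * y') := mul_assoc _ _ _

theorem comm_of_comm {x y y' : G} (h1 : y * x = x * y) (h2 : y' * x = x * y') :
    y⁻¹ * y' * x = x * (y⁻¹ * y') := by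
  have h3 : x * y⁻¹ = y⁻¹ * x := by
    calc x * y⁻¹ = y⁻¹ * (y * x) * y⁻¹ := by group
      _ = y⁻¹ * (x * y) * y⁻¹ := by rw [h1]
      _ = y⁻¹ * x := by group
  calc y⁻¹ * y' * x = y⁻¹ * (y' * x) := mul_assoc _ _ _
    _ = y⁻¹ * (x * y') := by rw [h2]
    _ = (y⁻¹ * x) * y' := by group
    _ = x * y⁻¹ * y' := by rw [← h3]
    _ = x * (y⁻¹ * y') := mul_assoc _ _ _

theorem card_centralizer_le [Finite G] {z : G} (hz : IsPE z) {A : Subgroup G}
    (hmax : ∀ y : G, y * y = 1 → (∀ a ∈ A, y * a = a * y) → y ∈ A) :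
    Nat.card (Subgroup.centralizer (A : Set G)) ≤ 4 * Nat.card A := by
  set D := Subgroup.centralizer (A : Set G) with hD
  have hDmem : ∀ y, y ∈ D ↔ ∀ a ∈ A, y * a = a * y := by
    intro y
    rw [hD, Subgroup.mem_centralizer_iff]
    constructor
    · intro h a ha
      exact (h a ha).symm
    · intro h a ha
      exact (h a ha).symm
  by_cases hDA : D ≤ A
  · have := Subgroup.card_le_of_le hDA
    omega
  obtain ⟨x, hxD, hxA⟩ := SetLike.not_le_iff_exists.1 hDA
  have hxx : x * x = z := by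
    rcases hz.hsq x with h | h
    · exact absurd (hmax x h ((hDmem x).1 hxD)) hxA
    · exact h
  set C := D ⊓ Subgroup.centralizer ({x} : Set G) with hC
  have hCmem : ∀ y, y ∈ C ↔ y ∈ D ∧ y * x = x * y := by
    intro y
    rw [hC, Subgroup.mem_inf, Subgroup.mem_centralizer_iff]
    constructor
    · rintro ⟨h1, h2⟩
      exact ⟨h1, (h2 x rfl).symm⟩
    · rintro ⟨h1, h2⟩
      refine ⟨h1, ?_⟩
      intro h hh
      rw [Set.mem_singleton_iff] at hh
      rw [hh]
      exact h2.symm
  have h1 : Nat.card D ≤ 2 * Nat.card C := by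
    apply card_le_two_mul
    intro y hy y' hy' hyC hy'C
    rw [hCmem]
    refine ⟨mul_mem (inv_mem hy) hy', ?_⟩
    have e1 : y * x = z * (x * y) := by
      rcases hz.hcm y x with h | h
      · exact absurd ((hCmem y).2 ⟨hy, h⟩) hyC
      · exact h
    have e2 : y' * x = z * (x * y') := by
      rcases hz.hcm y' x with h | h
      · exact absurd ((hCmem y').2 ⟨hy', h⟩) hy'C
      · exact h
    exact comm_of_ac hz.central e1 e2
  have h2 : Nat.card C ≤ 2 * Nat.card A := by
    apply card_le_two_mul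
    intro y hy y' hy' hyA hy'A
    have key : ∀ w, w ∈ C → w ∉ A → x * w ∈ A := by
      intro w hw hwA
      obtain ⟨hwD, hwx⟩ := (hCmem w).1 hw
      have hww : w * w = z := by
        rcases hz.hsq w with h | h
        · exact absurd (hmax w h ((hDmem w).1 hwD)) hwA
        · exact h
      apply hmax
      · calc x * w * (x * w) = x * (w * x) * w := by group
          _ = x * (x * w) * w := by rw [hwx]
          _ = (x * x) * (w * w) := by group
          _ = 1 := by rw [hxx, hww, hz.sq]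
      · exact (hDmem _).1 (mul_mem hxD hwD)
    have e1 := key y hy hyA
    have e2 := key y' hy' hy'A
    have : y⁻¹ * y' = (x * y)⁻¹ * (x * y') := by group
    rw [this]
    exact mul_mem (inv_mem e1) e2
  omega

end group

section eigen

variable {F : Type*} [Field F] {V : Type*} [AddCommGroup V] [Module F V]

/-- a common eigenvector of a finite set of commuting involutions, inside an invariant subspace -/
theorem exists_common_eigenvector (S : Finset (Module.End F V))
    (hS : ∀ s ∈ S, s * s = 1) (hc : ∀ s ∈ S, ∀ t ∈ S, s * t = t * s) :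
    ∀ W : Submodule F V, W ≠ ⊥ → (∀ s ∈ S, ∀ w ∈ W, s w ∈ W) →
      ∃ v ∈ W, v ≠ 0 ∧ ∀ s ∈ S, s v = v ∨ s v = -v := by
  classical
  induction S using Finset.induction_on with
  | empty =>
    intro W hW _
    obtain ⟨v, hv, hv0⟩ := (Submodule.ne_bot_iff W).1 hW
    exact ⟨v, hv, hv0, by simp⟩
  | insert s S hs ih =>
    intro W hW hinv
    have hS' : ∀ t ∈ S, t * t = 1 := fun t ht => hS t (Finset.mem_insert_of_mem ht)
    have hc' : ∀ t ∈ S, ∀ u ∈ S, t * u = u * t := fun t ht u hu =>
      hc t (Finset.mem_insert_of_mem ht) u (Finset.mem_insert_of_mem hu)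
    have hss : s * s = 1 := hS s (Finset.mem_insert_self _ _)
    have hst : ∀ t ∈ S, s * t = t * s := fun t ht =>
      hc s (Finset.mem_insert_self _ _) t (Finset.mem_insert_of_mem ht)
    have hssv : ∀ v, s (s v) = v := by
      intro v
      rw [← Module.End.mul_apply, hss]
      rfl
    have hstv : ∀ t ∈ S, ∀ v, s (t v) = t (s v) := by
      intro t ht v
      rw [← Module.End.mul_apply, hst t ht]
      rfl
    have hWinv : ∀ t ∈ S, ∀ w ∈ W, t w ∈ W := fun t ht =>
      hinv t (Finset.mem_insert_of_mem ht)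
    have hsW : ∀ w ∈ W, s w ∈ W := hinv s (Finset.mem_insert_self _ _)
    -- the subspaces of `W` where `s` is `1`, `-1`
    let Wp : Submodule F V :=
      { carrier := {w | w ∈ W ∧ s w = w}
        add_mem' := by
          rintro a b ⟨ha1, ha2⟩ ⟨hb1, hb2⟩
          exact ⟨W.add_mem ha1 hb1, by rw [map_add, ha2, hb2]⟩
        zero_mem' := ⟨W.zero_mem, map_zero _⟩
        smul_mem' := by
          rintro c a ⟨ha1, ha2⟩
          exact ⟨W.smul_mem c ha1, by rw [map_smul, ha2]⟩ }
    let Wm : Submodule F V :=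
      { carrier := {w | w ∈ W ∧ s w = -w}
        add_mem' := by
          rintro a b ⟨ha1, ha2⟩ ⟨hb1, hb2⟩
          exact ⟨W.add_mem ha1 hb1, by rw [map_add, ha2, hb2, neg_add]⟩
        zero_mem' := ⟨W.zero_mem, by rw [map_zero, neg_zero]⟩
        smul_mem' := by
          rintro c a ⟨ha1, ha2⟩
          exact ⟨W.smul_mem c ha1, by rw [map_smul, ha2, smul_neg]⟩ }
    have hWp_inv : ∀ t ∈ S, ∀ w ∈ Wp, t w ∈ Wp := by
      rintro t ht w ⟨hw1, hw2⟩
      exact ⟨hWinv t ht w hw1, by rw [hstv t ht, hw2]⟩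
    have hWm_inv : ∀ t ∈ S, ∀ w ∈ Wm, t w ∈ Wm := by
      rintro t ht w ⟨hw1, hw2⟩
      exact ⟨hWinv t ht w hw1, by rw [hstv t ht, hw2, map_neg]⟩
    by_cases hWp : Wp = ⊥
    · have hWm : Wm ≠ ⊥ := by
        obtain ⟨w, hw, hw0⟩ := (Submodule.ne_bot_iff W).1 hW
        have h1 : w + s w ∈ Wp := ⟨W.add_mem hw (hsW w hw), by rw [map_add, hssv, add_comm]⟩
        rw [hWp, Submodule.mem_bot] at h1
        have h2 : w ∈ Wm := ⟨hw, eq_neg_of_add_eq_zero_right h1⟩
        intro hbot
        rw [hbot, Submodule.mem_bot] at h2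
        exact hw0 h2
      obtain ⟨v, hv, hv0, hvS⟩ := ih hS' hc' Wm hWm hWm_inv
      refine ⟨v, hv.1, hv0, ?_⟩
      intro u hu
      rcases Finset.mem_insert.1 hu with rfl | hu
      · exact Or.inr hv.2
      · exact hvS u hu
    · obtain ⟨v, hv, hv0, hvS⟩ := ih hS' hc' Wp hWp hWp_inv
      refine ⟨v, hv.1, hv0, ?_⟩
      intro u hu
      rcases Finset.mem_insert.1 hu with rfl | hu
      · exact Or.inl hv.2
      · exact hvS u hu

end eigen

section main

variable {G : Type*} [Group G] {F : Type*} [Field F] {V : Type*} [AddCommGroup V]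
  [Module F V] (B : LinearMap.BilinForm F V) (ρ : G →* Module.End F V)

open Classical in
/-- the sign with which the members of `A` act on `w` -/
noncomputable def chi (A : Subgroup G) (w : V) : A → F :=
  fun a => if ρ a w = w then 1 else -1

theorem chi_eq_one_or (A : Subgroup G) (w : V) (a : A) :
    chi ρ A w a = 1 ∨ chi ρ A w a = -1 := by
  unfold chi
  split_ifs
  · exact Or.inl rfl
  · exact Or.inr rfl

theorem chi_eq_of_apply (h2 : (2 : F) ≠ 0) {A : Subgroup G} {w : V} (hw : w ≠ 0) (a : A) {c : F}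
    (hc : c = 1 ∨ c = -1) (h : ρ a w = c • w) : chi ρ A w a = c := by
  unfold chi
  rcases hc with rfl | rfl
  · rw [one_smul] at h
    rw [if_pos h]
  · rw [neg_one_smul] at h
    rw [if_neg]
    intro h'
    rw [h] at h'
    have h0 : (2 : F) • w = 0 := by
      rw [two_smul]
      nth_rewrite 1 [← h']
      exact neg_add_cancel w
    exact hw ((smul_eq_zero.1 h0).resolve_left h2)

variable {B ρ}

theorem apply_apply_eigen {z : G} (hz : IsPE z) (hρz : ∀ v, ρ z v = -v) {A : Subgroup G} {v₁ : V}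
    (hv₁ : ∀ a ∈ A, ρ a v₁ = v₁ ∨ ρ a v₁ = -v₁) (g a : G) (ha : a ∈ A) :
    ρ a (ρ g v₁) = ρ g v₁ ∨ ρ a (ρ g v₁) = -ρ g v₁ := by
  have key : ρ a (ρ g v₁) = ρ (a * g) v₁ := by
    rw [map_mul]
    rfl
  rcases hz.hcm a g with h | h
  · have e : ρ (a * g) v₁ = ρ g (ρ a v₁) := by
      rw [h, map_mul]
      rfl
    rw [key, e]
    rcases hv₁ a ha with h' | h'
    · rw [h']
      exact Or.inl rfl
    · rw [h', map_neg]
      exact Or.inr rfl
  · have e : ρ (a * g) v₁ = -ρ g (ρ a v₁) := by
      rw [h, map_mul, map_mul]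
      exact hρz _
    rw [key, e]
    rcases hv₁ a ha with h' | h'
    · rw [h']
      exact Or.inr rfl
    · rw [h', map_neg, neg_neg]
      exact Or.inl rfl

theorem card_le_mul_card_centralizer [Finite G] [FiniteDimensional F V] (h2 : (2 : F) ≠ 0)
    (hBalt : B.IsAlt) (hBnd : B.Nondegenerate)
    (hρB : ∀ g v w, B (ρ g v) (ρ g w) = B v w) {z : G} (hz : IsPE z) (hρz : ∀ v, ρ z v = -v)
    {m : ℕ} (hdim : Module.finrank F V = 2 * m) (hm : 0 < m) (A : Subgroup G) (hA : IsEA A) :
    Nat.card G ≤ m * Nat.card (Subgroup.centralizer (A : Set G)) := by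
  classical
  have : Fintype ↥A := Fintype.ofFinite ↥A
  have : Nontrivial V := by
    apply Module.nontrivial_of_finrank_pos (R := F)
    omega
  obtain ⟨v₁, -, hv₁0, hv₁⟩ := exists_common_eigenvector
    ((Finset.univ : Finset ↥A).image (fun a : ↥A => ρ (a : G)))
    (by
      intro s hs
      obtain ⟨a, -, rfl⟩ := Finset.mem_image.1 hs
      rw [← map_mul, hA.1 a a.2, map_one])
    (by
      intro s hs t ht
      obtain ⟨a, -, rfl⟩ := Finset.mem_image.1 hs
      obtain ⟨b, -, rfl⟩ := Finset.mem_image.1 ht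
      rw [← map_mul, ← map_mul, hA.2 a a.2 b b.2])
    ⊤ top_ne_bot (fun _ _ _ _ => Submodule.mem_top)
  have hv₁' : ∀ a ∈ A, ρ a v₁ = v₁ ∨ ρ a v₁ = -v₁ := fun a ha =>
    hv₁ (ρ a) (Finset.mem_image.2 ⟨⟨a, ha⟩, Finset.mem_univ _, rfl⟩)
  have hinj : ∀ g : G, ∀ v, ρ g v = 0 → v = 0 := by
    intro g v hv
    have : ρ g⁻¹ (ρ g v) = v := by
      rw [← Module.End.mul_apply, ← map_mul, inv_mul_cancel, map_one]
      rfl
    rw [← this, hv, map_zero]
  have hw0 : ∀ g, ρ g v₁ ≠ 0 := fun g h => hv₁0 (hinj g v₁ h)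
  have hweig : ∀ g : G, ∀ a ∈ A, ρ a (ρ g v₁) = ρ g v₁ ∨ ρ a (ρ g v₁) = -ρ g v₁ :=
    fun g a ha => apply_apply_eigen hz hρz hv₁' g a ha
  let Φ : G → (A → F) := fun g => chi ρ A (ρ g v₁)
  have hΦ : ∀ g (a : A), ρ a (ρ g v₁) = Φ g a • ρ g v₁ := by
    intro g a
    show _ = chi ρ A (ρ g v₁) a • _
    unfold chi
    split_ifs with h
    · rw [one_smul]
      exact h
    · rw [neg_one_smul]
      exact (hweig g a a.2).resolve_left h
  have hΦpm : ∀ g a, Φ g a = 1 ∨ Φ g a = -1 := fun g a => chi_eq_one_or ρ A _ a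
  have hne : (1 : F) ≠ -1 := by
    intro h
    apply h2
    linear_combination h
  have hfib : ∀ g g', Φ g = Φ g' → g⁻¹ * g' ∈ Subgroup.centralizer (A : Set G) := by
    intro g g' hgg
    rw [Subgroup.mem_centralizer_iff]
    intro a ha
    symm
    have hε : ∃ ε : F, (ε = 1 ∨ ε = -1) ∧ ρ a v₁ = ε • v₁ := by
      rcases hv₁' a ha with h | h
      · exact ⟨1, Or.inl rfl, by rw [one_smul]; exact h⟩
      · exact ⟨-1, Or.inr rfl, by rw [neg_one_smul]; exact h⟩
    obtain ⟨ε, hε1, hε2⟩ := hε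
    have hnε : -ε = 1 ∨ -ε = -1 := by
      rcases hε1 with rfl | rfl
      · exact Or.inr rfl
      · exact Or.inl (neg_neg 1)
    have hεne : ε ≠ -ε := by
      rcases hε1 with rfl | rfl
      · exact hne
      · rw [neg_neg]
        exact hne.symm
    have ecomm : ∀ k : G, k * a = a * k → ρ a (ρ k v₁) = ε • ρ k v₁ := by
      intro k h
      calc ρ a (ρ k v₁) = ρ (a * k) v₁ := by rw [map_mul]; rfl
        _ = ρ (k * a) v₁ := by rw [h]
        _ = ρ k (ρ a v₁) := by rw [map_mul]; rfl
        _ = ε • ρ k v₁ := by rw [hε2, map_smul]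
    have eanti : ∀ k : G, k * a = z * (a * k) → ρ a (ρ k v₁) = (-ε) • ρ k v₁ := by
      intro k h
      have h'' : a * k = z * (k * a) := by
        rw [h, ← mul_assoc, hz.sq, one_mul]
      calc ρ a (ρ k v₁) = ρ (a * k) v₁ := by rw [map_mul]; rfl
        _ = ρ (z * (k * a)) v₁ := by rw [h'']
        _ = ρ z (ρ k (ρ a v₁)) := by rw [map_mul, map_mul]; rfl
        _ = (-ε) • ρ k v₁ := by rw [hρz, hε2, map_smul, neg_smul]
    rcases hz.hcm g a with h | h <;> rcases hz.hcm g' a with h' | h'
    · exact comm_of_comm h h'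
    · exfalso
      have c1 := chi_eq_of_apply ρ h2 (hw0 g) ⟨a, ha⟩ hε1 (ecomm g h)
      have c2 := chi_eq_of_apply ρ h2 (hw0 g') ⟨a, ha⟩ hnε (eanti g' h')
      exact hεne (c1.symm.trans ((congrFun hgg ⟨a, ha⟩).trans c2))
    · exfalso
      have c1 := chi_eq_of_apply ρ h2 (hw0 g) ⟨a, ha⟩ hnε (eanti g h)
      have c2 := chi_eq_of_apply ρ h2 (hw0 g') ⟨a, ha⟩ hε1 (ecomm g' h')
      exact hεne (c2.symm.trans ((congrFun hgg ⟨a, ha⟩).symm.trans c1))
    · exact comm_of_ac hz.central h h'
  have hcount : Nat.card G ≤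
      Nat.card (Set.range Φ) * Nat.card (Subgroup.centralizer (A : Set G)) := by
    rw [← Nat.card_prod]
    let rep : Set.range Φ → G := fun χ => χ.2.choose
    have hrep : ∀ χ : Set.range Φ, Φ (rep χ) = χ.1 := fun χ => χ.2.choose_spec
    refine Nat.card_le_card_of_injective
      (fun g => ((⟨Φ g, g, rfl⟩, ⟨(rep ⟨Φ g, g, rfl⟩)⁻¹ * g, hfib _ _ (hrep _)⟩) :
        Set.range Φ × Subgroup.centralizer (A : Set G))) ?_
    intro g g' hgg
    simp only [Prod.mk.injEq, Subtype.mk.injEq] at hgg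
    obtain ⟨h1, h3⟩ := hgg
    rw [h1] at h3
    exact mul_left_cancel h3
  have hrange : Nat.card (Set.range Φ) ≤ m := by
    have : Fintype ↥(Set.range Φ) := Fintype.ofFinite _
    let rep : Set.range Φ → G := fun χ => χ.2.choose
    have hrep : ∀ χ : Set.range Φ, Φ (rep χ) = χ.1 := fun χ => χ.2.choose_spec
    let u : Set.range Φ → V := fun χ => ρ (rep χ) v₁
    have hu0 : ∀ χ, u χ ≠ 0 := fun χ => hw0 _
    have hueig : ∀ (χ : Set.range Φ) (a : A), ρ a (u χ) = χ.1 a • u χ := by
      intro χ a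
      rw [← hrep χ]
      exact hΦ _ a
    have hχpm : ∀ (χ : Set.range Φ) (a : A), χ.1 a = 1 ∨ χ.1 a = -1 := by
      intro χ a
      rw [← hrep χ]
      exact hΦpm _ a
    have hind : iSupIndep fun χ : A → F => ⨅ a : A, (ρ a).maxGenEigenspace (χ a) := by
      apply Module.End.independent_iInf_maxGenEigenspace_of_forall_mapsTo
      intro a b φ
      apply Module.End.mapsTo_maxGenEigenspace_of_comm
      show Commute (ρ b) (ρ a)
      rw [commute_iff_eq, ← map_mul, ← map_mul, hA.2 b b.2 a a.2]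
    have hli : LinearIndependent F u := by
      apply iSupIndep.linearIndependent _ (hind.comp Subtype.val_injective)
      · intro χ
        simp only [Function.comp]
        rw [Submodule.mem_iInf]
        intro a
        apply Module.End.eigenspace_le_maxGenEigenspace
        rw [Module.End.mem_eigenspace_iff]
        exact hueig χ a
      · exact hu0
    have hfr := finrank_span_eq_card hli
    have hB0 : ∀ χ χ' : Set.range Φ, B (u χ) (u χ') = 0 := by
      intro χ χ'
      by_cases hχ : χ = χ'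
      · rw [hχ]
        exact hBalt _
      · have hχ' : χ.1 ≠ χ'.1 := fun h => hχ (Subtype.ext h)
        obtain ⟨a, ha⟩ := Function.ne_iff.1 hχ'
        have h3 : B (u χ) (u χ') = χ.1 a * χ'.1 a * B (u χ) (u χ') := by
          conv_lhs => rw [← hρB a (u χ) (u χ'), hueig χ a, hueig χ' a]
          simp only [map_smul, LinearMap.smul_apply, smul_eq_mul]
          ring
        have h4 : χ.1 a * χ'.1 a = -1 := by
          rcases hχpm χ a with e1 | e1 <;> rcases hχpm χ' a with e2 | e2
          · exact absurd (e1.trans e2.symm) ha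
          · rw [e1, e2]; ring
          · rw [e1, e2]; ring
          · exact absurd (e1.trans e2.symm) ha
        rw [h4] at h3
        have h5 : (2 : F) * B (u χ) (u χ') = 0 := by linear_combination h3
        exact (mul_eq_zero.1 h5).resolve_left h2
    set U := Submodule.span F (Set.range u) with hU
    have hiso : U ≤ B.orthogonal U := by
      rw [hU, Submodule.span_le]
      rintro _ ⟨χ', rfl⟩
      rw [SetLike.mem_coe, LinearMap.BilinForm.mem_orthogonal_iff]
      intro n hn
      have hle : Submodule.span F (Set.range u) ≤ LinearMap.ker (LinearMap.flip B (u χ')) := by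
        rw [Submodule.span_le]
        rintro _ ⟨χ, rfl⟩
        rw [SetLike.mem_coe, LinearMap.mem_ker, LinearMap.flip_apply]
        exact hB0 χ χ'
      have := hle hn
      rw [LinearMap.mem_ker, LinearMap.flip_apply] at this
      exact this
    have h3 := LinearMap.BilinForm.finrank_orthogonal hBnd U
    have h4 := Submodule.finrank_mono hiso
    have h5 : Module.finrank F U ≤ Module.finrank F V := Submodule.finrank_le U
    rw [Nat.card_eq_fintype_card, ← hfr]
    omega
  calc Nat.card G ≤ Nat.card (Set.range Φ) * Nat.card (Subgroup.centralizer (A : Set G)) := hcount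
    _ ≤ m * Nat.card (Subgroup.centralizer (A : Set G)) := Nat.mul_le_mul_right _ hrange

/-- the order of a group of symplectic maps that is elementary abelian modulo `±1` -/
theorem card_le [Finite G] [FiniteDimensional F V] (h2 : (2 : F) ≠ 0)
    (hBalt : B.IsAlt) (hBnd : B.Nondegenerate)
    (hρB : ∀ g v w, B (ρ g v) (ρ g w) = B v w) {z : G} (hz : IsPE z) (hρz : ∀ v, ρ z v = -v)
    {m : ℕ} (hdim : Module.finrank F V = 2 * m) (hm : 0 < m)
    (hrank : ∀ A : Subgroup G, IsEA A → Nat.card A ≤ 2 ^ m) :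
    Nat.card G ≤ m * 2 ^ (m + 2) := by
  obtain ⟨A, hA, hmax⟩ := exists_maximal_EA (G := G)
  have h1 := card_le_mul_card_centralizer h2 hBalt hBnd hρB hz hρz hdim hm A hA
  have h3 := card_centralizer_le hz hmax
  have h4 := hrank A hA
  calc Nat.card G ≤ m * Nat.card (Subgroup.centralizer (A : Set G)) := h1
    _ ≤ m * (4 * 2 ^ m) := by
        apply Nat.mul_le_mul_left
        omega
    _ = m * 2 ^ (m + 2) := by ring

end main

end Cfsg.Agent.Helper17.SympTwo
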