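import Mathlib
import Cfsg.Prelude.Def_Classical
import Cfsg.Prelude.Def_CaseTheorems
import Cfsg.Prelude.Def_EvenType
import Cfsg.Agent.Lib.Helper17.SympTwo
import Cfsg.Agent.Lib.Helper2.SpCenter
import Cfsg.Agent.S2234

/-!
# Elementary abelian 2-subgroups of `PSp_{2m}(q)`, `q` odd (helper17)

For `m ≥ 3` and `q` odd, `PSp_{2m}(q)` has no elementary abelian 2-subgroup of order `2 ^ (2m)`.
-/

set_option autoImplicit false

namespace Cfsg.Agent.Helper17.SympTwo

open Matrix

section mat

variable {n : Type*} [Fintype n] [DecidableEq n] {F : Type*} [Field F]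

/-- matrices acting on column vectors, as a monoid homomorphism -/
def matEnd (n : Type*) [Fintype n] [DecidableEq n] (F : Type*) [Field F] :
    Matrix n n F →* Module.End F (n → F) where
  toFun M := Matrix.mulVecLin M
  map_one' := Matrix.mulVecLin_one
  map_mul' M N := Matrix.mulVecLin_mul M N

@[simp] theorem matEnd_apply (M : Matrix n n F) (v : n → F) : matEnd n F M v = M *ᵥ v := rfl

end mat

theorem two_pow_bound (k : ℕ) : k + 3 < 2 ^ (k + 2) := by
  induction k with
  | zero => norm_num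
  | succ k ih =>
    rw [show k + 1 + 2 = (k + 2) + 1 by ring, pow_succ]
    omega

theorem mul_two_pow_lt {m : ℕ} (hm : 3 ≤ m) : m * 2 ^ (m + 2) < 2 ^ (2 * m + 1) := by
  obtain ⟨k, rfl⟩ : ∃ k, m = k + 3 := ⟨m - 3, by omega⟩
  have h := two_pow_bound k
  have e : 2 ^ (2 * (k + 3) + 1) = 2 ^ (k + 2) * 2 ^ (k + 3 + 2) := by
    rw [← pow_add]
    congr 1
    ring
  rw [e]
  exact Nat.mul_lt_mul_of_pos_right h (by positivity)

section symp

variable {F : Type*} [Field F]

theorem J_alt (h2 : (2 : F) ≠ 0) (m : ℕ) :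
    (Matrix.toBilin' (Matrix.J (Fin m) F)).IsAlt := by
  intro x
  rw [Matrix.toBilin'_apply']
  have h : x ⬝ᵥ (Matrix.J (Fin m) F) *ᵥ x = -(x ⬝ᵥ (Matrix.J (Fin m) F) *ᵥ x) := by
    conv_lhs => rw [Matrix.dotProduct_mulVec, ← Matrix.mulVec_transpose, Matrix.J_transpose,
      Matrix.neg_mulVec, neg_dotProduct, dotProduct_comm]
  have h' : (2 : F) * (x ⬝ᵥ (Matrix.J (Fin m) F) *ᵥ x) = 0 := by linear_combination h
  exact (mul_eq_zero.1 h').resolve_left h2

theorem J_nondeg (m : ℕ) : (Matrix.toBilin' (Matrix.J (Fin m) F)).Nondegenerate := by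
  rw [Matrix.nondegenerate_toBilin'_iff]
  apply Matrix.nondegenerate_of_det_ne_zero
  exact (Matrix.isUnit_det_J (Fin m) F).ne_zero

theorem J_preserved (m : ℕ) {g : Matrix (Fin m ⊕ Fin m) (Fin m ⊕ Fin m) F}
    (hg : g ∈ Matrix.symplecticGroup (Fin m) F) (v w : Fin m ⊕ Fin m → F) :
    Matrix.toBilin' (Matrix.J (Fin m) F) (g *ᵥ v) (g *ᵥ w) =
      Matrix.toBilin' (Matrix.J (Fin m) F) v w := by
  have h := Matrix.toBilin'_comp (Matrix.J (Fin m) F) g g
  rw [(SymplecticGroup.mem_iff').1 hg] at h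
  have h' := congrArg (fun b : LinearMap.BilinForm F (Fin m ⊕ Fin m → F) => b v w) h
  simpa using h'

end symp

section main

variable {F : Type*} [Field F] [Fintype F]

theorem two_ne_zero_of_odd (hodd : Odd (Fintype.card F)) : (2 : F) ≠ 0 := by
  apply Ring.two_ne_zero
  intro h
  have := FiniteField.even_card_of_char_two h
  rw [Nat.odd_iff] at hodd
  omega

open Cfsg.Agent.Helper2.Sp in
/-- `PSp_{2m}(q)`, `q` odd, `m ≥ 3`, has no elementary abelian 2-subgroup of order `2 ^ (2m)` -/
theorem not_pRankAtLeast_PSp (hodd : Odd (Fintype.card F)) (m : ℕ) (hm : 3 ≤ m) :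
    ¬ Cfsg.PRankAtLeast 2 (2 * m) (Cfsg.PSp m F) := by
  classical
  rintro ⟨H, hHc, hHe, hHcard⟩
  have h2 : (2 : F) ≠ 0 := two_ne_zero_of_odd hodd
  have : Nonempty (Fin m) := ⟨⟨0, by omega⟩⟩
  let π : Matrix.symplecticGroup (Fin m) F →* Cfsg.PSp m F := QuotientGroup.mk' _
  have hπ : ∀ x, π x = 1 ↔ x ∈ Subgroup.center (Matrix.symplecticGroup (Fin m) F) :=
    fun x => QuotientGroup.eq_one_iff x
  let E : Subgroup (Matrix.symplecticGroup (Fin m) F) := H.comap π
  have hnegZ : negOne (Fin m) F ∈ Subgroup.center (Matrix.symplecticGroup (Fin m) F) :=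
    negOne_mem_center
  have hnegE : negOne (Fin m) F ∈ E := by
    show π (negOne (Fin m) F) ∈ H
    rw [(hπ _).2 hnegZ]
    exact one_mem H
  let z : E := ⟨negOne (Fin m) F, hnegE⟩
  have hzc : ∀ g : Matrix.symplecticGroup (Fin m) F, negOne (Fin m) F * g = g * negOne (Fin m) F :=
    fun g => ((Subgroup.mem_center_iff.1 hnegZ) g).symm
  have hz : IsPE z := by
    refine ⟨fun g => Subtype.ext (hzc g.1), ?_, ?_, ?_⟩
    · apply Subtype.ext
      apply Subtype.ext
      show (-1 : Matrix (Fin m ⊕ Fin m) (Fin m ⊕ Fin m) F) * (-1) = 1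
      simp
    · intro x
      have hx : π x.1 ∈ H := x.2
      have h1 := hHe _ hx
      rw [pow_two, ← map_mul, hπ, mem_center_iff] at h1
      rcases h1 with h1 | h1
      · exact Or.inl (Subtype.ext h1)
      · exact Or.inr (Subtype.ext h1)
    · intro x y
      have hx : π x.1 ∈ H := x.2
      have hy : π y.1 ∈ H := y.2
      have h1 : π x.1 * π y.1 = π y.1 * π x.1 :=
        setLike_mul_comm hx hy
      rw [← map_mul, ← map_mul] at h1
      have h3 : π ((y.1 * x.1)⁻¹ * (x.1 * y.1)) = 1 := by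
        rw [map_mul, map_inv, h1, inv_mul_cancel]
      rw [hπ, mem_center_iff] at h3
      rcases h3 with h3 | h3
      · left
        apply Subtype.ext
        exact (inv_mul_eq_one.1 h3).symm
      · right
        apply Subtype.ext
        show x.1 * y.1 = negOne (Fin m) F * (y.1 * x.1)
        rw [hzc]
        exact inv_mul_eq_iff_eq_mul.1 h3
  let ρ : E →* Module.End F (Fin m ⊕ Fin m → F) :=
    (matEnd (Fin m ⊕ Fin m) F).comp ((Matrix.symplecticGroup (Fin m) F).subtype.comp E.subtype)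
  have hρ : ∀ (g : E) (v : Fin m ⊕ Fin m → F), ρ g v = g.1.1 *ᵥ v := fun g v => rfl
  have hρB : ∀ (g : E) (v w : Fin m ⊕ Fin m → F),
      Matrix.toBilin' (Matrix.J (Fin m) F) (ρ g v) (ρ g w) =
        Matrix.toBilin' (Matrix.J (Fin m) F) v w := by
    intro g v w
    rw [hρ, hρ]
    exact J_preserved m g.1.2 v w
  have hρz : ∀ v, ρ z v = -v := by
    intro v
    rw [hρ]
    show (-1 : Matrix (Fin m ⊕ Fin m) (Fin m ⊕ Fin m) F) *ᵥ v = -v
    rw [Matrix.neg_mulVec, Matrix.one_mulVec]
  have hdim : Module.finrank F (Fin m ⊕ Fin m → F) = 2 * m := by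
    rw [Module.finrank_fintype_fun_eq_card, Fintype.card_sum, Fintype.card_fin, two_mul]
  have hrank : ∀ A : Subgroup ↥E, IsEA A → Nat.card A ≤ 2 ^ m := by
    intro A hA
    have hcomm : IsMulCommutative (A.map E.subtype) := by
      apply IsMulCommutative.of_setLike_mul_comm
      rintro _ ⟨a, ha, rfl⟩ _ ⟨b, hb, rfl⟩
      rw [← map_mul, ← map_mul, hA.2 a ha b hb]
    have hexp : ∀ a ∈ A.map E.subtype, a ^ 2 = 1 := by
      rintro _ ⟨a, ha, rfl⟩
      rw [← map_pow, pow_two, hA.1 a ha, map_one]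
    have hle := (Cfsg.Agent.S2234.result hodd m (by omega)).2 (A.map E.subtype) hcomm hexp
    rwa [Subgroup.card_map_of_injective E.subtype_injective] at hle
  have hcardE := card_le (G := E) h2 (J_alt h2 m) (J_nondeg m) hρB hz hρz hdim (by omega) hrank
  -- the order of `E`
  let f : E →* Cfsg.PSp m F := π.comp E.subtype
  have hrange : f.range = H := by
    show (π.comp E.subtype).range = H
    rw [MonoidHom.range_comp, Subgroup.range_subtype]
    exact Subgroup.map_comap_eq_self_of_surjective (QuotientGroup.mk'_surjective _) H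
  have hker : 2 ≤ Nat.card f.ker := by
    have hne : f.ker ≠ ⊥ := by
      intro hbot
      have hzk : z ∈ f.ker := by
        rw [MonoidHom.mem_ker]
        exact (hπ _).2 hnegZ
      rw [hbot, Subgroup.mem_bot] at hzk
      have h3 := congrArg (fun x : E => ((x.1 : Matrix.symplecticGroup (Fin m) F) :
        Matrix (Fin m ⊕ Fin m) (Fin m ⊕ Fin m) F) (Sum.inl ⟨0, by omega⟩) (Sum.inl ⟨0, by omega⟩)) hzk
      simp only [z, negOne_coe] at h3
      have h4 : (-1 : F) = 1 := by simpa using h3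
      apply h2
      linear_combination -h4
    have := (Subgroup.one_lt_card_iff_ne_bot f.ker).2 hne
    omega
  have hcard : Nat.card f.ker * Nat.card H = Nat.card E := by
    rw [← hrange, ← Subgroup.index_ker]
    exact Subgroup.card_mul_index _
  have hlt := mul_two_pow_lt hm
  have h5 : 2 ^ (2 * m + 1) ≤ Nat.card E := by
    rw [← hcard, pow_succ, mul_comm]
    exact Nat.mul_le_mul hker hHcard
  omega

end main

end Cfsg.Agent.Helper17.SympTwo
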