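import Mathlib
import Cfsg.Agent.Lib.Helper20.TCDefs

/-!
# S3104 piece CFRANGE (helper17 for helper20): the range of an injective hom from a group with
trivial 2-core and trivial odd core is core-free.
-/

set_option autoImplicit false

namespace Cfsg.Agent.Helper20.TC

open Cfsg Cfsg.Agent.Helper20.GL4Sub
open scoped Pointwise

/-- PIECE CFRANGE. -/
theorem coreFree_range {Q : Type*} [Group Q] [Finite Q] (f : Q →* A8) (hf : Function.Injective f)
    (hO : Cfsg.pPrimeCore 2 Q = ⊥) (hO2 : Cfsg.pCore 2 Q = ⊥) : CoreFree f.range := by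
  intro M hMK hKM hM
  -- the pullback of `M` to `Q`
  have hnormal : (M.comap f).Normal := by
    refine ⟨fun n hn g => ?_⟩
    rw [Subgroup.mem_comap] at hn ⊢
    have hg : f g ∈ f.range := ⟨g, rfl⟩
    have := (Subgroup.mem_normalizer_iff.1 (hKM hg) _).1 hn
    simpa using this
  -- the map to `M`
  let φ : (M.comap f) →* M :=
    { toFun := fun x => ⟨f (x : Q), by
        have := x.2
        rw [Subgroup.mem_comap] at this
        exact this⟩
      map_one' := by
        apply Subtype.ext
        simp
      map_mul' := fun x y => by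
        apply Subtype.ext
        exact map_mul f (x : Q) (y : Q) }
  have hφinj : Function.Injective φ := by
    intro x y hxy
    have h1 : f (x : Q) = f (y : Q) := congrArg Subtype.val hxy
    exact Subtype.ext (hf h1)
  have hφsurj : Function.Surjective φ := by
    rintro ⟨m, hm⟩
    obtain ⟨h, rfl⟩ := hMK hm
    exact ⟨⟨h, by rw [Subgroup.mem_comap]; exact hm⟩, rfl⟩
  have hbot : M.comap f = ⊥ := by
    rcases hM with hp | hc
    · rw [eq_bot_iff, ← hO2]
      apply le_sSup
      exact ⟨hnormal, hp.of_injective φ hφinj⟩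
    · rw [eq_bot_iff, ← hO]
      apply le_sSup
      refine ⟨hnormal, ?_⟩
      rw [Nat.card_congr (Equiv.ofBijective φ ⟨hφinj, hφsurj⟩)]
      exact hc
  rw [eq_bot_iff]
  intro m hm
  obtain ⟨h, rfl⟩ := hMK hm
  have hmem : h ∈ M.comap f := by
    rw [Subgroup.mem_comap]
    exact hm
  rw [hbot, Subgroup.mem_bot] at hmem
  rw [Subgroup.mem_bot, hmem, map_one]

end Cfsg.Agent.Helper20.TC
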