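import Mathlib
import Cfsg.Agent.Lib.Helper20.TCDefs
import Cfsg.Agent.Lib.Helper12.FrattiniAct

/-!
# S3104 piece E16A (helper17 for helper20): the Frattini quotient of `O₂(X)` is elementary abelian
of order at most 16 (first half of `Cfsg.Agent.S3103.result`).
-/

open scoped commutatorElement

set_option autoImplicit false

namespace Cfsg.Agent.Helper20.TC

open Cfsg Cfsg.Agent.Helper20.GL4Sub
open scoped Pointwise

/-- PIECE E16A. -/
theorem frattini_quot_small {X : Type*} [Group X] [Finite X]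
    (h4 : Cfsg.SectionalPRankLE 2 4 ↥(Cfsg.pCore 2 X)) :
    (∀ a b : ↥(Cfsg.pCore 2 X) ⧸ frattini ↥(Cfsg.pCore 2 X), a * b = b * a) ∧
      (∀ a : ↥(Cfsg.pCore 2 X) ⧸ frattini ↥(Cfsg.pCore 2 X), a ^ 2 = 1) ∧
      Nat.card (↥(Cfsg.pCore 2 X) ⧸ frattini ↥(Cfsg.pCore 2 X)) ≤ 16 := by
  classical
  have hQp : IsPGroup 2 ↥(Cfsg.pCore 2 X) := Cfsg.Agent.Helper14.pCore_isPGroup 2 X
  have h12 := Cfsg.Agent.S0012.result (G := ↥(Cfsg.pCore 2 X)) 2 hQp
  have hcomm : ∀ a b : ↥(Cfsg.pCore 2 X) ⧸ frattini ↥(Cfsg.pCore 2 X), a * b = b * a := by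
    intro a b
    induction a using QuotientGroup.induction_on with
    | H a =>
      induction b using QuotientGroup.induction_on with
      | H b =>
        rw [← QuotientGroup.mk_mul, ← QuotientGroup.mk_mul, QuotientGroup.eq]
        apply h12.1
        have : (a * b)⁻¹ * (b * a) = ⁅b⁻¹, a⁻¹⁆ := by
          rw [commutatorElement_def]
          group
        rw [this, commutator_def]
        exact Subgroup.commutator_mem_commutator (Subgroup.mem_top _) (Subgroup.mem_top _)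
  have hexp : ∀ a : ↥(Cfsg.pCore 2 X) ⧸ frattini ↥(Cfsg.pCore 2 X), a ^ 2 = 1 := by
    intro a
    induction a using QuotientGroup.induction_on with
    | H a =>
      rw [← QuotientGroup.mk_pow, QuotientGroup.eq_one_iff]
      exact h12.2 a
  have hcard : Nat.card (↥(Cfsg.pCore 2 X) ⧸ frattini ↥(Cfsg.pCore 2 X)) ≤ 16 := by
    have h := h4 (⊤ : Subgroup ↥(Cfsg.pCore 2 X))
      ((frattini ↥(Cfsg.pCore 2 X)).subgroupOf ⊤)
    have hmap : Subgroup.map ((Subgroup.topEquiv : ↥(⊤ : Subgroup ↥(Cfsg.pCore 2 X)) ≃* _) :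
        ↥(⊤ : Subgroup ↥(Cfsg.pCore 2 X)) →* ↥(Cfsg.pCore 2 X))
        ((frattini ↥(Cfsg.pCore 2 X)).subgroupOf ⊤) = frattini ↥(Cfsg.pCore 2 X) := by
      ext y
      constructor
      · rintro ⟨z, hz, rfl⟩
        exact hz
      · intro hy
        exact ⟨⟨y, Subgroup.mem_top y⟩, hy, rfl⟩
    let ι := QuotientGroup.congr ((frattini ↥(Cfsg.pCore 2 X)).subgroupOf ⊤)
      (frattini ↥(Cfsg.pCore 2 X)) Subgroup.topEquiv hmap
    have hA := h ⊤ ⟨⟨fun a b => by
        apply Subtype.ext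
        apply ι.injective
        show ι (a.1 * b.1) = ι (b.1 * a.1)
        rw [map_mul, map_mul]
        exact hcomm _ _⟩⟩ (by
      intro a _
      apply ι.injective
      rw [map_pow, map_one]
      exact hexp _)
    rw [Subgroup.card_top, Nat.card_congr ι.toEquiv] at hA
    exact hA
  exact ⟨hcomm, hexp, hcard⟩

end Cfsg.Agent.Helper20.TC
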