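import Mathlib
import Cfsg.Agent.Lib.Helper20.TCDefs

/-!
# S3104 piece MINAB (helper17 for helper20): a minimal `K`-invariant subgroup of an odd normal subgroup
of `K ≤ A8` is elementary abelian of order 3, 5, 7 or 9.
-/

set_option autoImplicit false

namespace Cfsg.Agent.Helper20.TC

open Cfsg Cfsg.Agent.Helper20.GL4Sub
open scoped Pointwise commutatorElement

namespace MINAB

/-- `K` normalizes `T` as soon as it maps `T` into itself by conjugation -/
theorem le_normalizer_of_conj {G : Type*} [Group G] (K T : Subgroup G)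
    (h : ∀ k ∈ K, ∀ t ∈ T, k * t * k⁻¹ ∈ T) : K ≤ Subgroup.normalizer (T : Set G) := by
  intro k hk
  rw [Subgroup.mem_normalizer_iff]
  intro t
  constructor
  · exact h k hk t
  · intro ht
    have := h k⁻¹ (K.inv_mem hk) _ ht
    have e : k⁻¹ * (k * t * k⁻¹) * k⁻¹⁻¹ = t := by group
    rwa [e] at this

/-- conjugation by an element of the normalizer preserves the subgroup -/
theorem conj_mem_of_mem_normalizer {G : Type*} [Group G] {K M : Subgroup G}
    (hn : K ≤ Subgroup.normalizer (M : Set G)) {k m : G} (hk : k ∈ K) (hm : m ∈ M) :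
    k * m * k⁻¹ ∈ M :=
  (Subgroup.mem_normalizer_iff.1 (hn hk) m).1 hm

/-- the `p`-torsion of a commutative subgroup -/
def tors {G : Type*} [Group G] (M : Subgroup G) (hc : ∀ a ∈ M, ∀ b ∈ M, a * b = b * a) (p : ℕ) :
    Subgroup G where
  carrier := {m | m ∈ M ∧ m ^ p = 1}
  mul_mem' := by
    rintro a b ⟨ha, ha'⟩ ⟨hb, hb'⟩
    refine ⟨M.mul_mem ha hb, ?_⟩
    have hcom : Commute a b := hc a ha b hb
    rw [hcom.mul_pow, ha', hb', one_mul]
  one_mem' := ⟨M.one_mem, one_pow p⟩
  inv_mem' := by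
    rintro a ⟨ha, ha'⟩
    exact ⟨M.inv_mem ha, by rw [inv_pow, ha', inv_one]⟩

theorem mem_tors {G : Type*} [Group G] (M : Subgroup G) (hc : ∀ a ∈ M, ∀ b ∈ M, a * b = b * a) (p : ℕ)
    (m : G) : m ∈ tors M hc p ↔ m ∈ M ∧ m ^ p = 1 := Iff.rfl

/-- a prime divisor of 315 -/
theorem prime_dvd_315 {p : ℕ} (hp : p.Prime) (h : p ∣ 315) : p = 3 ∨ p = 5 ∨ p = 7 := by
  have e : (315 : ℕ) = 3 * (3 * (5 * 7)) := by norm_num
  rw [e] at h
  rcases (Nat.Prime.dvd_mul hp).1 h with h | h
  · exact Or.inl ((Nat.prime_dvd_prime_iff_eq hp Nat.prime_three).1 h)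
  rcases (Nat.Prime.dvd_mul hp).1 h with h | h
  · exact Or.inl ((Nat.prime_dvd_prime_iff_eq hp Nat.prime_three).1 h)
  rcases (Nat.Prime.dvd_mul hp).1 h with h | h
  · exact Or.inr (Or.inl ((Nat.prime_dvd_prime_iff_eq hp Nat.prime_five).1 h))
  · exact Or.inr (Or.inr ((Nat.prime_dvd_prime_iff_eq hp (by norm_num : Nat.Prime 7)).1 h))

/-- the prime powers dividing 315 -/
theorem pow_dvd_315 {p n : ℕ} (hp : p.Prime) (hn : n ≠ 0) (h : p ^ n ∣ 315) :
    (p = 3 ∧ (p ^ n = 3 ∨ p ^ n = 9)) ∨ p ^ n = 5 ∨ p ^ n = 7 := by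
  have hpd : p ∣ 315 := (dvd_pow_self p hn).trans h
  rcases prime_dvd_315 hp hpd with rfl | rfl | rfl
  · left
    refine ⟨rfl, ?_⟩
    have hn2 : n ≤ 2 := by
      by_contra hcon
      push Not at hcon
      have : (3 : ℕ) ^ 3 ∣ 315 := (pow_dvd_pow 3 hcon).trans h
      norm_num at this
    interval_cases n
    · exact absurd rfl hn
    · left; norm_num
    · right; norm_num
  · right; left
    have hn1 : n ≤ 1 := by
      by_contra hcon
      push Not at hcon
      have : (5 : ℕ) ^ 2 ∣ 315 := (pow_dvd_pow 5 hcon).trans h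
      norm_num at this
    interval_cases n
    · exact absurd rfl hn
    · norm_num
  · right; right
    have hn1 : n ≤ 1 := by
      by_contra hcon
      push Not at hcon
      have : (7 : ℕ) ^ 2 ∣ 315 := (pow_dvd_pow 7 hcon).trans h
      norm_num at this
    interval_cases n
    · exact absurd rfl hn
    · norm_num

end MINAB

open MINAB in
/-- PIECE MINAB. -/
theorem exists_min_ab (hS : SolvSmall) (K N : Subgroup A8) (hNK : N ≤ K)
    (hnorm : K ≤ Subgroup.normalizer (N : Set A8)) (hN1 : N ≠ ⊥)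
    (hodd : (Nat.card N).Coprime 2) :
    ∃ M : Subgroup A8, M ≤ K ∧ K ≤ Subgroup.normalizer (M : Set A8) ∧ M ≠ ⊥ ∧
      (∀ a ∈ M, ∀ b ∈ M, a * b = b * a) ∧
      (Nat.card M = 3 ∨ Nat.card M = 5 ∨ Nat.card M = 7 ∨ Nat.card M = 9) ∧
      (Nat.card M = 9 → ∀ a ∈ M, a ^ 3 = 1) := by
  classical
  -- a `K`-invariant nontrivial subgroup of `N` of minimal order
  have hex : ∃ n, ∃ M : Subgroup A8,
      (M ≤ N ∧ M ≠ ⊥ ∧ K ≤ Subgroup.normalizer (M : Set A8)) ∧ Nat.card M = n :=
    ⟨_, N, ⟨le_rfl, hN1, hnorm⟩, rfl⟩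
  obtain ⟨M, ⟨hMN, hM1, hMnorm⟩, hMn⟩ := Nat.find_spec hex
  have hmin : ∀ M' : Subgroup A8, M' ≤ M → K ≤ Subgroup.normalizer (M' : Set A8) →
      M' = ⊥ ∨ M' = M := by
    intro M' hle hn
    by_cases h1 : M' = ⊥
    · exact Or.inl h1
    · right
      have h2 : Nat.card M ≤ Nat.card M' := by
        rw [hMn]
        exact Nat.find_min' hex ⟨M', ⟨hle.trans hMN, h1, hn⟩, rfl⟩
      exact Subgroup.eq_of_le_of_card_ge hle h2
  -- the order of `M` divides 315
  have hdN : Nat.card N ∣ 315 := by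
    have h1 : Nat.card N ∣ Nat.card A8 := Subgroup.card_subgroup_dvd_card N
    rw [card_A8] at h1
    have h2 : (20160 : ℕ) = 2 ^ 6 * 315 := by norm_num
    rw [h2] at h1
    exact Nat.Coprime.dvd_of_dvd_mul_left (Nat.Coprime.pow_right 6 hodd) h1
  have hdM : Nat.card M ∣ 315 := (Subgroup.card_dvd_of_le hMN).trans hdN
  have hle315 : Nat.card M ≤ 315 := Nat.le_of_dvd (by norm_num) hdM
  have hnot : ∀ d : ℕ, 2 ∣ d → ¬ d ∣ Nat.card M := by
    intro d h2 hd
    have : 2 ∣ 315 := (h2.trans hd).trans hdM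
    norm_num at this
  -- `M` is solvable
  have hsol : Group.IsSolvable ↥M :=
    hS ↥M (by omega) (hnot 60 (by norm_num)) (hnot 168 (by norm_num)) (hnot 360 (by norm_num))
      (hnot 504 (by norm_num)) (hnot 660 (by norm_num)) (hnot 1092 (by norm_num))
  have hnt : Nontrivial ↥M := (Subgroup.nontrivial_iff_ne_bot M).2 hM1
  -- `M` is commutative
  have hcomm_lt : ⁅M, M⁆ < M := by
    have h1 := Group.IsSolvable.commutator_lt_top_of_nontrivial ↥M
    have h2 : (commutator ↥M).map M.subtype < (⊤ : Subgroup ↥M).map M.subtype :=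
      (Subgroup.map_subtype_lt_map_subtype).2 h1
    rw [Subgroup.map_subtype_commutator, ← MonoidHom.range_eq_map, M.range_subtype] at h2
    exact h2
  have hcomm_norm : K ≤ Subgroup.normalizer ((⁅M, M⁆ : Subgroup A8) : Set A8) := by
    apply le_normalizer_of_conj
    intro k hk t ht
    have h1 : t ∈ ⁅M, M⁆ → k * t * k⁻¹ ∈ ⁅M, M⁆ := by
      intro ht
      have h2 : (MulAut.conj k).toMonoidHom t ∈ (⁅M, M⁆).map (MulAut.conj k).toMonoidHom :=
        Subgroup.mem_map_of_mem _ ht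
      rw [Subgroup.map_commutator] at h2
      have h3 : M.map (MulAut.conj k).toMonoidHom ≤ M := by
        rintro _ ⟨m, hm, rfl⟩
        exact conj_mem_of_mem_normalizer hMnorm hk hm
      have h4 := Subgroup.commutator_mono h3 h3 h2
      simpa using h4
    exact h1 ht
  have hcomm_bot : ⁅M, M⁆ = ⊥ := by
    rcases hmin _ hcomm_lt.le hcomm_norm with h | h
    · exact h
    · exact absurd h hcomm_lt.ne
  have hc : ∀ a ∈ M, ∀ b ∈ M, a * b = b * a := by
    intro a ha b hb
    have h1 : ⁅a, b⁆ ∈ ⁅M, M⁆ := Subgroup.commutator_mem_commutator ha hb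
    rw [hcomm_bot, Subgroup.mem_bot, commutatorElement_eq_one_iff_mul_comm] at h1
    exact h1
  -- a prime divisor of the order
  have hcard1 : Nat.card M ≠ 1 := by
    intro h
    exact hM1 ((Subgroup.card_eq_one).1 h)
  obtain ⟨p, hp, hpd⟩ := Nat.exists_prime_and_dvd hcard1
  have : Fact p.Prime := ⟨hp⟩
  obtain ⟨x, hx⟩ := exists_prime_orderOf_dvd_card' (G := ↥M) p hpd
  -- the `p`-torsion is everything
  have htors_norm : K ≤ Subgroup.normalizer ((tors M hc p : Subgroup A8) : Set A8) := by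
    apply le_normalizer_of_conj
    rintro k hk t ⟨htM, htp⟩
    refine ⟨conj_mem_of_mem_normalizer hMnorm hk htM, ?_⟩
    rw [conj_pow, htp, mul_one, mul_inv_cancel]
  have htors_le : tors M hc p ≤ M := fun m hm => hm.1
  have htors_ne : tors M hc p ≠ ⊥ := by
    intro h
    have hxm : (x : A8) ∈ tors M hc p := by
      refine ⟨x.2, ?_⟩
      have : x ^ p = 1 := by rw [← hx]; exact pow_orderOf_eq_one x
      have := congrArg Subtype.val this
      simpa using this
    rw [h, Subgroup.mem_bot] at hxm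
    have hx1 : x = 1 := Subtype.ext hxm
    rw [hx1, orderOf_one] at hx
    exact hp.one_lt.ne hx
  have htors : tors M hc p = M := by
    rcases hmin _ htors_le htors_norm with h | h
    · exact absurd h htors_ne
    · exact h
  have hexp : ∀ a ∈ M, a ^ p = 1 := by
    intro a ha
    have : a ∈ tors M hc p := by rw [htors]; exact ha
    exact this.2
  -- so `M` is a `p`-group
  have hpg : IsPGroup p ↥M := by
    intro g
    refine ⟨1, ?_⟩
    rw [pow_one]
    apply Subtype.ext
    have := hexp g g.2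
    simpa using this
  obtain ⟨n, hn⟩ := IsPGroup.iff_card.1 hpg
  have hn0 : n ≠ 0 := by
    intro h
    rw [h, pow_zero] at hn
    exact hcard1 hn
  rw [hn] at hdM
  refine ⟨M, hMN.trans hNK, hMnorm, hM1, hc, ?_, ?_⟩
  · rw [hn]
    rcases pow_dvd_315 hp hn0 hdM with ⟨_, h | h⟩ | h | h
    · exact Or.inl h
    · exact Or.inr (Or.inr (Or.inr h))
    · exact Or.inr (Or.inl h)
    · exact Or.inr (Or.inr (Or.inl h))
  · intro h9 a ha
    rw [hn] at h9
    have hp3 : p = 3 := by
      rcases pow_dvd_315 hp hn0 hdM with ⟨h3, _⟩ | h | h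
      · exact h3
      · omega
      · omega
    rw [← hp3]
    exact hexp a ha

end Cfsg.Agent.Helper20.TC
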