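import Mathlib
import Cfsg.Agent.Lib.Helper20.TCDefs

/-!
# S3104 piece SFIN (helper17 for helper20): a section `Y / N` of exponent 2 and order 32 contradicts
sectional 2-rank at most 4.
-/

set_option autoImplicit false

namespace Cfsg.Agent.Helper20.TC

open Cfsg Cfsg.Agent.Helper20.GL4Sub
open scoped Pointwise

namespace SFIN

/-- a group of exponent 2 is commutative -/
theorem comm_of_sq {Q : Type*} [Group Q] (h : ∀ a : Q, a ^ 2 = 1) (a b : Q) : a * b = b * a := by
  have ha : a⁻¹ = a := by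
    have := h a
    rw [sq] at this
    exact inv_eq_of_mul_eq_one_left this
  have hb : b⁻¹ = b := by
    have := h b
    rw [sq] at this
    exact inv_eq_of_mul_eq_one_left this
  have hab : (a * b)⁻¹ = a * b := by
    have := h (a * b)
    rw [sq] at this
    exact inv_eq_of_mul_eq_one_left this
  calc a * b = (a * b)⁻¹ := hab.symm
    _ = b⁻¹ * a⁻¹ := mul_inv_rev a b
    _ = b * a := by rw [ha, hb]

end SFIN

/-- PIECE SFIN. -/
theorem not_rank_of_section {X : Type*} [Group X] [Finite X] (Y N : Subgroup X) (hNY : N ≤ Y)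
    (hnorm : Y ≤ Subgroup.normalizer (N : Set X)) (hsq : ∀ y ∈ Y, y ^ 2 ∈ N)
    (hcard : Nat.card ↥Y = 32 * Nat.card ↥N) : ¬ Cfsg.SectionalPRankLE 2 4 X := by
  intro h
  have hN' : (N.subgroupOf Y).Normal := Subgroup.normal_subgroupOf_iff_le_normalizer hNY |>.2 hnorm
  have hexp : ∀ a : ↥Y ⧸ N.subgroupOf Y, a ^ 2 = 1 := by
    intro a
    induction a using QuotientGroup.induction_on with
    | H a =>
      rw [← QuotientGroup.mk_pow, QuotientGroup.eq_one_iff, Subgroup.mem_subgroupOf]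
      exact hsq a a.2
  have hcomm := SFIN.comm_of_sq hexp
  have hA := h Y (N.subgroupOf Y) ⊤ ⟨⟨fun a b => Subtype.ext (hcomm a.1 b.1)⟩⟩
    (fun a _ => hexp a)
  rw [Subgroup.card_top] at hA
  have h1 : Nat.card (↥Y ⧸ N.subgroupOf Y) * Nat.card (N.subgroupOf Y) = Nat.card Y :=
    (Subgroup.card_eq_card_quotient_mul_card_subgroup (N.subgroupOf Y)).symm
  have h2 : Nat.card (N.subgroupOf Y) = Nat.card N :=
    Nat.card_congr (Subgroup.subgroupOfEquivOfLe hNY).toEquiv
  rw [h2, hcard] at h1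
  have hpos : 0 < Nat.card N := Nat.card_pos
  have h3 : Nat.card (↥Y ⧸ N.subgroupOf Y) = 32 := Nat.eq_of_mul_eq_mul_right hpos h1
  rw [h3] at hA
  norm_num at hA

end Cfsg.Agent.Helper20.TC
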