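import Cfsg.Agent.Lib.Helper17.TSLDefs
import Cfsg.Agent.Lib.Helper17.SympTransvCent
import Cfsg.Agent.Lib.Helper2.SympCard

/-!
# S3366, piece CARDSTAB (helper17): the stabiliser of a nonzero vector in `Sp(4,3)` has order 648
-/

set_option autoImplicit false

namespace Cfsg.Agent.Helper17.TSL

open Cfsg.Agent.Helper2.Symp
open scoped Cfsg.Agent.Helper2.Symp

theorem cardstab_u0_ne : u0 ≠ 0 := eV_ne_zero (m := 2) (F := ZMod 3) 0

theorem cardstab_card_G3 : Nat.card G3 = 51840 := by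
  have h := card_symplecticGroup (F := ZMod 3) 2
  rw [ZMod.card] at h
  rw [h]
  norm_num [Finset.prod_range_succ]

theorem card_stab : Nat.card (MulAction.stabilizer G3 u0) = 648 := by
  have h1 := Subgroup.card_mul_index (MulAction.stabilizer G3 u0)
  rw [MulAction.index_stabilizer, Cfsg.Agent.Helper17.SympT.orbit_eq_ne_zero cardstab_u0_ne] at h1
  have h2 : ({v | v ≠ 0} : Set (Fin 2 ⊕ Fin 2 → ZMod 3)) = ({0} : Set (Fin 2 ⊕ Fin 2 → ZMod 3))ᶜ := by
    ext v; simp
  have h3 : Nat.card (Fin 2 ⊕ Fin 2 → ZMod 3) = 81 := by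
    rw [Nat.card_eq_fintype_card, Fintype.card_fun, Fintype.card_sum, Fintype.card_fin, ZMod.card]
    norm_num
  rw [h2, Set.ncard_compl, Set.ncard_singleton, h3, cardstab_card_G3] at h1
  omega

end Cfsg.Agent.Helper17.TSL
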