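import Cfsg.Prelude.Def_Classical
import Cfsg.Agent.Lib.Helper17.TSLDefs
import Cfsg.Agent.Lib.Helper17.TSLCARDSTAB
import Cfsg.Agent.S0246
import Cfsg.Agent.S0247

/-!
# S3366, piece PSPISO (helper17): `PSp(4, F) ≃* PSp(4, ZMod 3)` for a field of three elements, and the
order of `PSp(4,3)`
-/

set_option autoImplicit false

namespace Cfsg.Agent.Helper17.TSL

theorem pspiso_map_center {G H : Type*} [Group G] [Group H] (f : G ≃* H) :
    (Subgroup.center G).map (f : G →* H) = Subgroup.center H := by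
  ext y
  constructor
  · rintro ⟨x, hx, rfl⟩
    rw [Subgroup.mem_center_iff]
    intro h
    obtain ⟨g, rfl⟩ := f.surjective h
    have := Subgroup.mem_center_iff.mp hx g
    change f g * f x = f x * f g
    rw [← map_mul, ← map_mul, this]
  · intro hy
    refine ⟨f.symm y, ?_, f.apply_symm_apply y⟩
    rw [SetLike.mem_coe, Subgroup.mem_center_iff]
    intro g
    apply f.injective
    rw [map_mul, map_mul, f.apply_symm_apply]
    exact Subgroup.mem_center_iff.mp hy (f g)

theorem psp_iso (F : Type*) [Field F] [Fintype F] (hF : Fintype.card F = 3) :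
    Nonempty (Cfsg.PSp 2 (ZMod 3) ≃* Cfsg.PSp 2 F) := by
  have : Fact (Nat.Prime 3) := ⟨Nat.prime_three⟩
  let e : ZMod 3 ≃+* F := ZMod.ringEquivOfPrime F Nat.prime_three hF
  let f : Matrix.symplecticGroup (Fin 2) (ZMod 3) ≃* Matrix.symplecticGroup (Fin 2) F :=
    Cfsg.Agent.S0247.spMapEquiv e
  exact ⟨QuotientGroup.congr (Subgroup.center (Matrix.symplecticGroup (Fin 2) (ZMod 3)))
    (Subgroup.center (Matrix.symplecticGroup (Fin 2) F)) f (pspiso_map_center f)⟩

theorem card_psp : Nat.card (Cfsg.PSp 2 (ZMod 3)) = 25920 := by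
  have h1 : Nat.card (Matrix.symplecticGroup (Fin 2) (ZMod 3)) = 51840 := cardstab_card_G3
  have h2 := Cfsg.Agent.S0246.result (F := ZMod 3) (q := 3) (ZMod.card 3) 2 (by norm_num)
  have h3 := Subgroup.card_eq_card_quotient_mul_card_subgroup
    (Subgroup.center (Matrix.symplecticGroup (Fin 2) (ZMod 3)))
  rw [h1, h2] at h3
  norm_num at h3
  change Nat.card (Matrix.symplecticGroup (Fin 2) (ZMod 3) ⧸
    Subgroup.center (Matrix.symplecticGroup (Fin 2) (ZMod 3))) = 25920
  omega

end Cfsg.Agent.Helper17.TSL
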