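import Mathlib

/-!
# S3366, piece SDP (helper17 backup): homomorphisms out of an internal semidirect product
-/


set_option autoImplicit false

namespace Cfsg.Agent.Helper17.TSL

theorem sdp_hom {X Y : Type*} [Group X] [Group Y] (R K : Subgroup X) (hn : R.Normal)
    (hRK : K ⊓ R = ⊥) (hcov : ∀ g : X, ∃ r ∈ R, ∃ k ∈ K, g = r * k)
    (ρ : R →* Y) (lam : K →* Y)
    (heq : ∀ (k : K) (r : R),
      ρ ⟨(k : X) * r * (k : X)⁻¹, hn.conj_mem r r.2 k⟩ = lam k * ρ r * (lam k)⁻¹) :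
    ∃ Φ : X →* Y, (∀ r : R, Φ r = ρ r) ∧ (∀ k : K, Φ k = lam k) := by
  classical
  -- uniqueness of the decomposition
  have huniq : ∀ (r r' : R) (k k' : K), (r : X) * k = r' * k' → r = r' ∧ k = k' := by
    intro r r' k k' h
    have h1 : (r' : X)⁻¹ * r = k' * (k : X)⁻¹ := by
      have : (r' : X)⁻¹ * ((r : X) * k) * (k : X)⁻¹ = (r' : X)⁻¹ * ((r' : X) * k') * (k : X)⁻¹ := by
        rw [h]
      simpa [mul_assoc] using this
    have h2 : (r' : X)⁻¹ * r ∈ K ⊓ R :=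
      ⟨by rw [h1]; exact K.mul_mem k'.2 (K.inv_mem k.2), R.mul_mem (R.inv_mem r'.2) r.2⟩
    rw [hRK, Subgroup.mem_bot] at h2
    have h3 : (r : X) = r' := by
      have := congrArg (fun z => (r' : X) * z) h2
      simpa using this
    have h4 : (k : X) = k' := by
      rw [h3] at h
      exact mul_left_cancel h
    exact ⟨Subtype.ext h3, Subtype.ext h4⟩
  choose fr hfr fk hfk hdec using hcov
  let Φf : X → Y := fun g => ρ ⟨fr g, hfr g⟩ * lam ⟨fk g, hfk g⟩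
  have hΦ : ∀ (r : R) (k : K), Φf ((r : X) * k) = ρ r * lam k := by
    intro r k
    have h := hdec ((r : X) * k)
    obtain ⟨h1, h2⟩ := huniq r ⟨fr _, hfr _⟩ k ⟨fk _, hfk _⟩ h
    show ρ ⟨fr _, hfr _⟩ * lam ⟨fk _, hfk _⟩ = ρ r * lam k
    rw [← h1, ← h2]
  have hmul : ∀ a b : X, Φf (a * b) = Φf a * Φf b := by
    intro a b
    obtain ⟨r, hr, k, hk, rfl⟩ : ∃ r ∈ R, ∃ k ∈ K, a = r * k := ⟨fr a, hfr a, fk a, hfk a, hdec a⟩
    obtain ⟨r', hr', k', hk', rfl⟩ : ∃ r ∈ R, ∃ k ∈ K, b = r * k := ⟨fr b, hfr b, fk b, hfk b, hdec b⟩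
    have e1 : r * k * (r' * k') = (r * (k * r' * k⁻¹)) * (k * k') := by group
    have hc : k * r' * k⁻¹ ∈ R := hn.conj_mem r' hr' k
    have e2 := hΦ (⟨r, hr⟩ * ⟨k * r' * k⁻¹, hc⟩) (⟨k, hk⟩ * ⟨k', hk'⟩)
    simp only [Subgroup.coe_mul] at e2
    rw [e1, e2, hΦ ⟨r, hr⟩ ⟨k, hk⟩, hΦ ⟨r', hr'⟩ ⟨k', hk'⟩, map_mul, map_mul]
    have := heq ⟨k, hk⟩ ⟨r', hr'⟩
    simp only at this
    rw [this]
    group
  refine ⟨MonoidHom.mk' Φf hmul, ?_, ?_⟩
  · intro r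
    have := hΦ r 1
    simpa using this
  · intro k
    have := hΦ 1 k
    simpa using this

end Cfsg.Agent.Helper17.TSL
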