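import Cfsg.Agent.Lib.Helper11.TSLGELTW
import Cfsg.Agent.Lib.Helper11.TSLKW
import Cfsg.Agent.Lib.Helper12.TSLT
import Cfsg.Agent.Lib.Helper16.TSLNF
import Cfsg.Agent.Lib.Helper17.TSLCARDSTAB
import Cfsg.Agent.Lib.Helper17.TSLSDP
import Cfsg.Agent.Lib.Helper19.TSLHOM
import Cfsg.Agent.Lib.Helper19.TSLINVNF
import Cfsg.Agent.Lib.Helper2.TSLLIFT
import Cfsg.Agent.Lib.Helper2.TSLZCENT
import Cfsg.Agent.Lib.Helper24.TSLCENT
import Cfsg.Agent.Lib.Helper1.TSLMATCore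
import Cfsg.Agent.Lib.Helper1.TSLXYCore
import Cfsg.Agent.Lib.Helper9.TSLISOCore
import Cfsg.Agent.Lib.Lead.TSLKAPPA

/-!
# S3366: wrappers of the cores (helper17), under the names `wrap_*` (no clash with the pieces of the same content)
-/

set_option autoImplicit false

namespace Cfsg.Agent.Helper17.TSL

variable {X : Type*} [Group X] [Finite X] (S : Setup X)

theorem wrap_xy (t : X) (ht : t * t = 1) (hπ : S.π t = negOne) :
    ∃ x ∈ S.R, ∃ y ∈ S.R, t * x * t⁻¹ = x⁻¹ ∧ t * y * t⁻¹ = y⁻¹ ∧ x * y * x⁻¹ * y⁻¹ ≠ 1 :=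
  xy_core S t (fun r hr => (lift_unique S t ht hπ r hr).exists)

theorem wrap_mat (t : X) (ht : t * t = 1) (hπ : S.π t = negOne)
    (x y : X) (hx : x ∈ S.R) (hy : y ∈ S.R) (hxt : t * x * t⁻¹ = x⁻¹) (hyt : t * y * t⁻¹ = y⁻¹)
    (hxy : x * y * x⁻¹ * y⁻¹ ≠ 1) (k : X) (hk : k * t = t * k) :
    ∃ m : SL23, ActsBy x y k m :=
  mat_core S t x y hx hy hxt hyt hxy k hk
    (fun i hi hit => inv_normal_form S t ht hπ x y hx hy hxt hyt hxy i hi hit)
    (fun g w hw => Z_central S g w hw)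

theorem wrap_kappa (t : X) (ht : t * t = 1) (hπ : S.π t = negOne)
    (K : Subgroup X) (hKt : ∀ k ∈ K, k * t = t * k) (hKR : K ⊓ S.R = ⊥) (hKc : Nat.card K = 24)
    (htK : t ∈ K) (x y : X) (hx : x ∈ S.R) (hy : y ∈ S.R) (hxt : t * x * t⁻¹ = x⁻¹)
    (hyt : t * y * t⁻¹ = y⁻¹) (hxy : x * y * x⁻¹ * y⁻¹ ≠ 1) :
    ∃ κ : K →* SL23, Function.Injective κ ∧ ∀ k : K, ActsBy x y (k : X) (κ k) := by
  refine kappa_core S t hπ K hKR hKc htK x y hx hy hxy ?_ ?_ ?_ ?_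
  · intro k hk
    exact wrap_mat S t ht hπ x y hx hy hxt hyt hxy k (hKt k hk)
  · intro r hr
    obtain ⟨abc, h, -⟩ := normal_form S x y hx hy hxy r hr
    exact ⟨abc.1, abc.2.1, abc.2.2, h⟩
  · intro x' y' hx' hy'
    refine exists_hom S x y hx hy hxy x' y' hx' hy' ?_ ?_ ?_
    · exact mul_comm _ _
    · exact mul_comm _ _
    · have : x' * y' * x'⁻¹ * y'⁻¹ = 1 := by
        rw [mul_comm x' y', mul_assoc, mul_assoc, mul_inv_cancel_left, mul_inv_cancel]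
      rw [this, one_pow]
  · intro r hr hc
    exact cent_t S t ht hπ r hr hc

include S in
theorem wrap_iso : Nonempty (X ≃* MulAction.stabilizer G3 u0) := by
  refine iso_core S (exists_t S) (fun t ht hπ => exists_K S t ht hπ)
    (fun t ht hπ => wrap_xy S t ht hπ)
    (fun x y hx hy hxy r hr => normal_form S x y hx hy hxy r hr)
    (fun x y hx hy hxy x' y' hx' hy' hzx hzy hz3 => exists_hom S x y hx hy hxy x' y' hx' hy' hzx hzy hz3)
    (fun t ht hπ K hKt hKR hKc htK x y hx hy hxt hyt hxy =>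
      wrap_kappa S t ht hπ K hKt hKR hKc htK x y hx hy hxt hyt hxy)
    (fun R K hn hRK hcov ρ lam heq => sdp_hom R K hn hRK hcov ρ lam heq)
    card_stab

end Cfsg.Agent.Helper17.TSL
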