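import Mathlib
import Cfsg.Prelude.Def_Solvable
import Cfsg.Prelude.Def_CaseTheorems
import Cfsg.Prelude.Def_Transfer
import Cfsg.Prelude.Def_Classical
import Cfsg.Agent.Lib.Helper17.TSLDefs
import Cfsg.Agent.Lib.Helper17.TSLCARDSTAB
import Cfsg.Agent.Lib.Helper17.TSLPSPISO
import Cfsg.Agent.Lib.Helper12.TSLSETUP
import Cfsg.Agent.Lib.Helper17.TSLWrap
import Cfsg.Agent.Lib.Helper24.TSLCENTISO
import Cfsg.Agent.Lib.Helper16.TSLSYL
import Cfsg.Agent.Lib.Helper16.TSLTRANSPORT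

/-!
# S3366: final assembly (helper17)

A finite group `X` with `O_3(X)` extraspecial of order 27 and exponent 3, `X / O_3(X) ≃ SL(2,3)`, `O_2(X) = 1` and an
elementary abelian subgroup of order 27 is isomorphic to the centraliser in `PSp(4,3)` of a 3-central element of
order 3.  Pieces by helper1, helper2, helper6, helper9, helper11, helper12, helper16, helper19, helper24, lead.
-/

set_option autoImplicit false

namespace Cfsg.Agent.Helper17.TSL

theorem final {X : Type*} [Group X] [Finite X]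
    (hR : Cfsg.IsExtraspecial 3 (Cfsg.pCore 3 X)) (hRcard : Nat.card (Cfsg.pCore 3 X) = 27)
    (hRexp : ∀ r ∈ Cfsg.pCore 3 X, r ^ 3 = 1)
    (e : X ⧸ Cfsg.pCore 3 X ≃* Matrix.SpecialLinearGroup (Fin 2) (ZMod 3))
    (hO2 : Cfsg.pCore 2 X = ⊥)
    (hE : ∃ E : Subgroup X, IsMulCommutative E ∧ (∀ a ∈ E, a ^ 3 = 1) ∧ Nat.card E = 27)
    (F : Type*) [Field F] [Fintype F] (hF : Fintype.card F = 3) :
    ∃ (c : Cfsg.PSp 2 F) (S : Sylow 3 (Cfsg.PSp 2 F)), orderOf c = 3 ∧ c ∈ (S : Subgroup (Cfsg.PSp 2 F)) ∧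
      c ∈ Subgroup.centralizer ((S : Subgroup (Cfsg.PSp 2 F)) : Set (Cfsg.PSp 2 F)) ∧
      Nonempty (X ≃* Subgroup.centralizer ({c} : Set (Cfsg.PSp 2 F))) := by
  obtain ⟨S⟩ := exists_setup hR hRcard hRexp e hO2 hE
  obtain ⟨e1⟩ := wrap_iso S
  obtain ⟨c, hc, ⟨e2⟩⟩ := cent_iso
  have hcard : Nat.card (Subgroup.centralizer ({c} : Set (Cfsg.PSp 2 (ZMod 3)))) = 648 := by
    rw [← Nat.card_congr e2.toEquiv, card_stab]
  have : Finite (Cfsg.PSp 2 (ZMod 3)) := Nat.finite_of_card_ne_zero (by rw [card_psp]; norm_num)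
  obtain ⟨P, hcP, hcC⟩ := exists_sylow_of_card c hc hcard card_psp
  obtain ⟨j⟩ := psp_iso F hF
  exact transport j ⟨c, P, hc, hcP, hcC, ⟨e1.trans e2⟩⟩

end Cfsg.Agent.Helper17.TSL
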