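import Mathlib
import Cfsg.Agent.Lib.Helper18.TT2SYL
import Cfsg.Agent.Lib.Helper23.TT2REG

/-!
# S3401: a transitive normal subgroup of a 2-transitive group of degree `≡ 2 mod 4` is 2-transitive
-/

set_option autoImplicit false

namespace Cfsg.Agent.Helper17.TT2

variable {G : Type*} [Group G] [Finite G] {Ω : Type*} [MulAction G Ω] [Finite Ω]

/-- conjugation transports `N ⊓ G_a` to `N ⊓ G_{ga}` -/
theorem mem_inf_stab_conj (N : Subgroup G) [hN : N.Normal] (g : G) (a : Ω) (x : G) :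
    x ∈ N ⊓ MulAction.stabilizer G a ↔
      g * x * g⁻¹ ∈ N ⊓ MulAction.stabilizer G (g • a) := by
  rw [Subgroup.mem_inf, Subgroup.mem_inf, MulAction.mem_stabilizer_iff,
    MulAction.mem_stabilizer_iff]
  have h1 : x ∈ N ↔ g * x * g⁻¹ ∈ N := by
    constructor
    · intro h; exact hN.conj_mem x h g
    · intro h
      have := hN.conj_mem _ h g⁻¹
      simpa [mul_assoc] using this
  have h2 : x • a = a ↔ (g * x * g⁻¹) • g • a = g • a := by
    rw [mul_smul, mul_smul, inv_smul_smul]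
    constructor
    · intro h; rw [h]
    · intro h; exact (MulAction.injective g) h
  rw [h1, h2]

/-- two-point version -/
theorem mem_inf_stab_conj₂ (N : Subgroup G) [hN : N.Normal] (g : G) (a b : Ω) (x : G) :
    x ∈ N ⊓ MulAction.stabilizer G a ⊓ MulAction.stabilizer G b ↔
      g * x * g⁻¹ ∈ N ⊓ MulAction.stabilizer G (g • a) ⊓ MulAction.stabilizer G (g • b) := by
  rw [Subgroup.mem_inf, Subgroup.mem_inf (p := N ⊓ MulAction.stabilizer G (g • a)),
    mem_inf_stab_conj N g a x, MulAction.mem_stabilizer_iff, MulAction.mem_stabilizer_iff]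
  have h2 : x • b = b ↔ (g * x * g⁻¹) • g • b = g • b := by
    rw [mul_smul, mul_smul, inv_smul_smul]
    constructor
    · intro h; rw [h]
    · intro h; exact (MulAction.injective g) h
  rw [h2]

/-- elements of the normalizer of `Q` preserve the fixed points of `Q` -/
theorem smul_mem_fix_of_mem_normalizer (Q : Subgroup G) {y : G}
    (hy : y ∈ Subgroup.normalizer (Q : Set G)) {β : Ω} (hβ : ∀ q ∈ Q, q • β = β) :
    ∀ q ∈ Q, q • y • β = y • β := by
  intro q hq
  have h1 : y⁻¹ * q * y ∈ Q := by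
    have := (Subgroup.mem_normalizer_iff.1 hy (y⁻¹ * q * y))
    rw [this]
    have e : y * (y⁻¹ * q * y) * y⁻¹ = q := by group
    rw [e]; exact hq
  have h2 := hβ _ h1
  calc q • y • β = y • (y⁻¹ * q * y) • β := by
        rw [← mul_smul, ← mul_smul]; congr 1; group
    _ = y • β := by rw [h2]

/-- `2`-adic valuation of a number `≡ 2 mod 4` -/
theorem factorization_two_of_mod_four {n : ℕ} (h : n % 4 = 2) : n.factorization 2 = 1 := by
  have h2 : 2 ∣ n := by omega
  have h4 : ¬ 4 ∣ n := by omega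
  have hn0 : n ≠ 0 := by omega
  have h1 : 1 ≤ n.factorization 2 :=
    (Nat.prime_two.dvd_iff_one_le_factorization hn0).1 h2
  have h3 : ¬ 2 ≤ n.factorization 2 := by
    intro hle
    apply h4
    have : 2 ^ 2 ∣ n := (Nat.prime_two.pow_dvd_iff_le_factorization hn0).2 hle
    simpa using this
  omega

/-- cardinality of a subgroup `H ≤ K` via the relative index -/
theorem card_eq_relIndex_mul (H K : Subgroup G) (h : H ≤ K) :
    Nat.card K = H.relIndex K * Nat.card H := by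
  have h1 := Subgroup.card_mul_index (H.subgroupOf K)
  have h2 : Nat.card (H.subgroupOf K) = Nat.card H :=
    Nat.card_congr (Subgroup.subgroupOfEquivOfLe h).toEquiv
  rw [h2] at h1
  rw [← h1, mul_comm]
  rfl

/-- orbit-stabilizer for a transitive subgroup -/
theorem card_eq_card_mul_of_transitive (N : Subgroup G) (hNt : ∀ a b : Ω, ∃ g ∈ N, g • a = b)
    (a : Ω) : Nat.card N = Nat.card Ω * Nat.card (N ⊓ MulAction.stabilizer G a : Subgroup G) := by
  have h1 := card_eq_relIndex_mul (N ⊓ MulAction.stabilizer G a) N inf_le_left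
  have h2 : (N ⊓ MulAction.stabilizer G a).relIndex N = Nat.card Ω := by
    rw [Subgroup.inf_relIndex_left]
    have h3 : (MulAction.stabilizer G a).subgroupOf N = MulAction.stabilizer N a := by
      ext x
      rw [Subgroup.mem_subgroupOf, MulAction.mem_stabilizer_iff, MulAction.mem_stabilizer_iff]
      rfl
    rw [Subgroup.relIndex, h3, MulAction.index_stabilizer]
    have h4 : MulAction.orbit N a = Set.univ := by
      ext b
      simp only [Set.mem_univ, iff_true]
      obtain ⟨g, hg, hgb⟩ := hNt a b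
      exact ⟨⟨g, hg⟩, hgb⟩
    rw [h4, Set.ncard_univ]
  rw [h1, h2]

/-- a subgroup of Sylow order in `K` is of Sylow order in any intermediate subgroup -/
theorem sylow_card_of_le (Q H K : Subgroup G) (hQH : Q ≤ H) (hHK : H ≤ K)
    (hc : Nat.card Q = 2 ^ (Nat.card K).factorization 2) :
    Nat.card Q = 2 ^ (Nat.card H).factorization 2 := by
  have hH0 : Nat.card H ≠ 0 := Nat.card_pos.ne'
  have hK0 : Nat.card K ≠ 0 := Nat.card_pos.ne'
  have h1 : Nat.card Q ∣ Nat.card H := Subgroup.card_dvd_of_le hQH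
  have h2 : Nat.card H ∣ Nat.card K := Subgroup.card_dvd_of_le hHK
  have h3 : (Nat.card K).factorization 2 ≤ (Nat.card H).factorization 2 := by
    rw [hc] at h1
    exact (Nat.prime_two.pow_dvd_iff_le_factorization hH0).1 h1
  have h4 : (Nat.card H).factorization 2 ≤ (Nat.card K).factorization 2 :=
    (Nat.factorization_le_iff_dvd hH0 hK0).2 h2 2
  rw [hc, le_antisymm h3 h4]

/-- membership in a conjugate, in `map` form -/
theorem mem_map_conj (Q : Subgroup G) (g x : G) :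
    g * x * g⁻¹ ∈ Q.map (MulAut.conj g).toMonoidHom ↔ x ∈ Q := by
  rw [Subgroup.mem_map]
  constructor
  · rintro ⟨q, hq, hqe⟩
    have h1 : g * q * g⁻¹ = g * x * g⁻¹ := by simpa using hqe
    have h2 : q = x := by
      have := mul_right_cancel h1
      exact mul_left_cancel this
    rwa [← h2]
  · intro hx
    exact ⟨x, hx, by simp⟩

section Config

variable (N : Subgroup G) [hNn : N.Normal]
  (h2 : ∀ a b c d : Ω, a ≠ b → c ≠ d → ∃ g : G, g • a = c ∧ g • b = d)
  (hNt : ∀ a b : Ω, ∃ g ∈ N, g • a = b)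
  (a : Ω) (Q : Subgroup G) (hQNa : Q ≤ N ⊓ MulAction.stabilizer G a) (hQ2 : IsPGroup 2 Q)
  (hQc : Nat.card Q = 2 ^ (Nat.card (N ⊓ MulAction.stabilizer G a : Subgroup G)).factorization 2)

include hNn hNt in
theorem card_inf_stab_eq (β : Ω) :
    Nat.card (N ⊓ MulAction.stabilizer G β : Subgroup G)
      = Nat.card (N ⊓ MulAction.stabilizer G a : Subgroup G) := by
  obtain ⟨n0, -, hn0⟩ := hNt a β
  exact (card_eq_of_conj n0 (N ⊓ MulAction.stabilizer G a) (N ⊓ MulAction.stabilizer G β)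
    (fun x => by rw [← hn0]; exact mem_inf_stab_conj N n0 a x)).symm

include hNn h2 hNt hQNa hQ2 hQc in
/-- (C) the normalizer of `Q` is 2-transitive on the fixed points of `Q` -/
theorem two_trans_normalizer {β β' γ : Ω} (hβ : ∀ q ∈ Q, q • β = β) (hβ' : ∀ q ∈ Q, q • β' = β')
    (hγ : ∀ q ∈ Q, q • γ = γ) (h1 : β' ≠ β) (h3 : γ ≠ β) :
    ∃ x ∈ Subgroup.normalizer (Q : Set G), x • β = β ∧ x • β' = γ := by
  obtain ⟨g, hgβ, hgβ'⟩ := h2 β β' β γ (Ne.symm h1) (Ne.symm h3)
  have hcardβ := card_inf_stab_eq N hNt a β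
  have hQH : Q ≤ N ⊓ MulAction.stabilizer G β ⊓ MulAction.stabilizer G γ := by
    intro q hq
    refine Subgroup.mem_inf.2 ⟨Subgroup.mem_inf.2 ⟨(Subgroup.mem_inf.1 (hQNa hq)).1, ?_⟩, ?_⟩
    · exact MulAction.mem_stabilizer_iff.2 (hβ q hq)
    · exact MulAction.mem_stabilizer_iff.2 (hγ q hq)
  have hQ'H : Q.map (MulAut.conj g).toMonoidHom
      ≤ N ⊓ MulAction.stabilizer G β ⊓ MulAction.stabilizer G γ := by
    rintro y ⟨q, hq, rfl⟩
    have hq' := hQH hq
    have := (mem_inf_stab_conj₂ N g β β' q).1 (by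
      refine Subgroup.mem_inf.2 ⟨Subgroup.mem_inf.2 ⟨(Subgroup.mem_inf.1 (hQNa hq)).1, ?_⟩, ?_⟩
      · exact MulAction.mem_stabilizer_iff.2 (hβ q hq)
      · exact MulAction.mem_stabilizer_iff.2 (hβ' q hq))
    rw [hgβ, hgβ'] at this
    simpa using this
  have hQ'2 : IsPGroup 2 (Q.map (MulAut.conj g).toMonoidHom) := hQ2.map _
  have hcardQ' : Nat.card (Q.map (MulAut.conj g).toMonoidHom) = Nat.card Q :=
    Subgroup.card_map_of_injective (MulAut.conj g).injective
  have hQcH : Nat.card Q = 2 ^ (Nat.card (N ⊓ MulAction.stabilizer G β ⊓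
      MulAction.stabilizer G γ : Subgroup G)).factorization 2 :=
    sylow_card_of_le Q _ (N ⊓ MulAction.stabilizer G β) hQH inf_le_left
      (by rw [hcardβ]; exact hQc)
  obtain ⟨h, hhH, hh⟩ := sylow_sub_conj Nat.prime_two _ _ Q hQ'H hQH hQ'2 hQ2
    (hcardQ'.trans hQcH) hcardQ'.symm
  have hhβ : h • β = β :=
    MulAction.mem_stabilizer_iff.1 (Subgroup.mem_inf.1 (Subgroup.mem_inf.1 hhH).1).2
  have hhγ : h • γ = γ := MulAction.mem_stabilizer_iff.1 (Subgroup.mem_inf.1 hhH).2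
  refine ⟨h * g, ?_, ?_, ?_⟩
  · rw [Subgroup.mem_normalizer_iff]
    intro x
    have e : h * g * x * (h * g)⁻¹ = h * (g * x * g⁻¹) * h⁻¹ := by group
    rw [e, ← hh, mem_map_conj]
  · rw [mul_smul, hgβ, hhβ]
  · rw [mul_smul, hgβ', hhγ]

include hNn hNt hQNa hQ2 hQc in
/-- (E) Witt: `N ⊓ N_G(Q)` is transitive on the fixed points of `Q` -/
theorem witt {β : Ω} (hβ : ∀ q ∈ Q, q • β = β) :
    ∃ x ∈ N ⊓ Subgroup.normalizer (Q : Set G), x • a = β := by
  obtain ⟨g, hgN, hga⟩ := hNt a β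
  have hcardβ := card_inf_stab_eq N hNt a β
  have hQH : Q ≤ N ⊓ MulAction.stabilizer G β := by
    intro q hq
    exact Subgroup.mem_inf.2 ⟨(Subgroup.mem_inf.1 (hQNa hq)).1,
      MulAction.mem_stabilizer_iff.2 (hβ q hq)⟩
  have hQ'H : Q.map (MulAut.conj g).toMonoidHom ≤ N ⊓ MulAction.stabilizer G β := by
    rintro y ⟨q, hq, rfl⟩
    have := (mem_inf_stab_conj N g a q).1 (hQNa hq)
    rw [hga] at this
    simpa using this
  have hQ'2 : IsPGroup 2 (Q.map (MulAut.conj g).toMonoidHom) := hQ2.map _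
  have hcardQ' : Nat.card (Q.map (MulAut.conj g).toMonoidHom) = Nat.card Q :=
    Subgroup.card_map_of_injective (MulAut.conj g).injective
  have hQcH : Nat.card Q = 2 ^ (Nat.card (N ⊓ MulAction.stabilizer G β :
      Subgroup G)).factorization 2 := by rw [hcardβ]; exact hQc
  obtain ⟨h, hhH, hh⟩ := sylow_sub_conj Nat.prime_two _ _ Q hQ'H hQH hQ'2 hQ2
    (hcardQ'.trans hQcH) hcardQ'.symm
  have hhβ : h • β = β := MulAction.mem_stabilizer_iff.1 (Subgroup.mem_inf.1 hhH).2
  refine ⟨h * g, Subgroup.mem_inf.2 ⟨N.mul_mem (Subgroup.mem_inf.1 hhH).1 hgN, ?_⟩, ?_⟩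
  · rw [Subgroup.mem_normalizer_iff]
    intro x
    have e : h * g * x * (h * g)⁻¹ = h * (g * x * g⁻¹) * h⁻¹ := by group
    rw [e, ← hh, mem_map_conj]
  · rw [mul_smul, hga, hhβ]

include hNn h2 hNt hQNa hQ2 hQc in
/-- (G) every point `b ≠ a` can be moved by `N_a` to a fixed point of `Q` other than `a` -/
theorem meets_fix (hn : Nat.card Ω % 4 = 2) {b : Ω} (hb : b ≠ a) :
    ∃ h ∈ N ⊓ MulAction.stabilizer G a, (∀ q ∈ Q, q • h • b = h • b) ∧ h • b ≠ a := by
  have hdvd : 2 ∣ Nat.card Ω := by omega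
  haveI : Fact (Nat.Prime 2) := ⟨Nat.prime_two⟩
  have haF : a ∈ MulAction.fixedPoints Q Ω := by
    intro q
    exact MulAction.mem_stabilizer_iff.1 (Subgroup.mem_inf.1 (hQNa q.2)).2
  obtain ⟨b₀, hb₀F, hab₀⟩ :=
    hQ2.exists_fixed_point_of_prime_dvd_card_of_fixed_point Ω hdvd haF
  have hb₀ : ∀ q ∈ Q, q • b₀ = b₀ := fun q hq => hb₀F ⟨q, hq⟩
  obtain ⟨g, hga, hgb⟩ := h2 a b₀ a b hab₀ (Ne.symm hb)
  have hcard : Nat.card (N ⊓ MulAction.stabilizer G a ⊓ MulAction.stabilizer G b : Subgroup G)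
      = Nat.card (N ⊓ MulAction.stabilizer G a ⊓ MulAction.stabilizer G b₀ : Subgroup G) :=
    (card_eq_of_conj g _ _ (fun x => by
      have := mem_inf_stab_conj₂ N g a b₀ x
      rwa [hga, hgb] at this)).symm
  have hQN0 : Q ≤ N ⊓ MulAction.stabilizer G a ⊓ MulAction.stabilizer G b₀ := by
    intro q hq
    exact Subgroup.mem_inf.2 ⟨hQNa hq, MulAction.mem_stabilizer_iff.2 (hb₀ q hq)⟩
  have hQcN0 := sylow_card_of_le Q _ (N ⊓ MulAction.stabilizer G a) hQN0 inf_le_left hQc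
  obtain ⟨Qb, -, hQbH, hQb2, hQbc⟩ := exists_sylow_sub Nat.prime_two
    (N ⊓ MulAction.stabilizer G a ⊓ MulAction.stabilizer G b) ⊥ bot_le IsPGroup.of_bot
  have hQbc' : Nat.card Qb = Nat.card Q := by rw [hQbc, hcard, ← hQcN0]
  obtain ⟨h, hhNa, hh⟩ := sylow_sub_conj Nat.prime_two (N ⊓ MulAction.stabilizer G a) Qb Q
    (hQbH.trans inf_le_left) hQNa hQb2 hQ2 (hQbc'.trans hQc) hQbc'.symm
  refine ⟨h, hhNa, ?_, ?_⟩
  · intro q hq
    have hx : h⁻¹ * q * h ∈ Qb := by
      rw [hh]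
      have e : h * (h⁻¹ * q * h) * h⁻¹ = q := by group
      rw [e]; exact hq
    have hxb : (h⁻¹ * q * h) • b = b :=
      MulAction.mem_stabilizer_iff.1 (Subgroup.mem_inf.1 (hQbH hx)).2
    calc q • h • b = h • (h⁻¹ * q * h) • b := by
          rw [← mul_smul, ← mul_smul]; congr 1; group
      _ = h • b := by rw [hxb]
  · intro hcon
    have hha : h • a = a := MulAction.mem_stabilizer_iff.1 (Subgroup.mem_inf.1 hhNa).2
    exact hb (MulAction.injective h (hcon.trans hha.symm))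

include hNn hNt hQNa hQ2 hQc in
/-- (A) `|N_N(Q) : Q| ≡ 2 mod 4` -/
theorem relIndex_mod_four (hn : Nat.card Ω % 4 = 2) :
    Q.relIndex (N ⊓ Subgroup.normalizer (Q : Set G)) % 4 = 2 := by
  have hcardN := card_eq_card_mul_of_transitive N hNt a
  have hΩ0 : Nat.card Ω ≠ 0 := by omega
  have hNa0 : Nat.card (N ⊓ MulAction.stabilizer G a : Subgroup G) ≠ 0 := Nat.card_pos.ne'
  have hv : (Nat.card N).factorization 2
      = (Nat.card (N ⊓ MulAction.stabilizer G a : Subgroup G)).factorization 2 + 1 := by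
    rw [hcardN, Nat.factorization_mul hΩ0 hNa0, Finsupp.add_apply,
      factorization_two_of_mod_four hn]
    ring
  obtain ⟨S, hQS, hSN, hS2, hSc⟩ :=
    exists_sylow_sub Nat.prime_two N Q (hQNa.trans inf_le_left) hQ2
  have hScard : Nat.card S = 2 * Nat.card Q := by rw [hSc, hv, pow_succ, hQc]; ring
  have hrel : Q.relIndex S = 2 := by
    have h1 := card_eq_relIndex_mul Q S hQS
    rw [hScard] at h1
    have hpos : 0 < Nat.card Q := Nat.card_pos
    exact (Nat.eq_of_mul_eq_mul_right hpos h1).symm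
  have hnormal : (Q.subgroupOf S).Normal := Subgroup.normal_of_index_eq_two hrel
  have hSnorm : S ≤ Subgroup.normalizer (Q : Set G) :=
    (Subgroup.normal_subgroupOf_iff_le_normalizer hQS).1 hnormal
  have hSR : S ≤ N ⊓ Subgroup.normalizer (Q : Set G) := le_inf hSN hSnorm
  have h1 := Subgroup.relIndex_mul_relIndex Q S (N ⊓ Subgroup.normalizer (Q : Set G)) hQS hSR
  have h2' := Subgroup.relIndex_mul_relIndex S (N ⊓ Subgroup.normalizer (Q : Set G)) N hSR
    inf_le_left
  have h3 : ¬ 2 ∣ S.relIndex N := by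
    intro hd
    have h4 := card_eq_relIndex_mul S N hSN
    rw [hSc] at h4
    have h5 : 2 ^ ((Nat.card N).factorization 2 + 1) ∣
        S.relIndex N * 2 ^ (Nat.card N).factorization 2 := by
      rw [pow_succ, mul_comm]
      exact Nat.mul_dvd_mul_right hd _
    rw [← h4] at h5
    have := (Nat.prime_two.pow_dvd_iff_le_factorization Nat.card_pos.ne').1 h5
    omega
  have h4 : ¬ 2 ∣ S.relIndex (N ⊓ Subgroup.normalizer (Q : Set G)) := by
    intro hd
    apply h3
    rw [← h2']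
    exact Dvd.dvd.mul_right hd _
  rw [← h1, hrel]
  omega

end Config

/-- MAIN: a transitive normal subgroup of a 2-transitive group of degree `≡ 2 mod 4` is 2-transitive. -/
theorem normal_two_transitive
    (h2 : ∀ a b c d : Ω, a ≠ b → c ≠ d → ∃ g : G, g • a = c ∧ g • b = d)
    (hn : Nat.card Ω % 4 = 2)
    (N : Subgroup G) [hNn : N.Normal] (hNt : ∀ a b : Ω, ∃ g ∈ N, g • a = b) :
    ∀ a b c : Ω, b ≠ a → c ≠ a → ∃ g ∈ N, g • a = a ∧ g • b = c := by
  intro a b c hb hc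
  haveI : Fact (Nat.Prime 2) := ⟨Nat.prime_two⟩
  obtain ⟨Q, -, hQNa, hQ2, hQc⟩ := exists_sylow_sub Nat.prime_two
    (N ⊓ MulAction.stabilizer G a) ⊥ bot_le IsPGroup.of_bot
  have hQR : Q ≤ N ⊓ Subgroup.normalizer (Q : Set G) :=
    le_inf (hQNa.trans inf_le_left) Subgroup.le_normalizer
  have hidx := relIndex_mod_four N hNt a Q hQNa hQ2 hQc hn
  obtain ⟨D, hQD, hDR, hDidx, hDodd, hDchar⟩ :=
    exists_index_two (N ⊓ Subgroup.normalizer (Q : Set G)) Q hQR inf_le_right hidx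
  have haF : ∀ q ∈ Q, q • a = a := fun q hq =>
    MulAction.mem_stabilizer_iff.1 (Subgroup.mem_inf.1 (hQNa hq)).2
  -- (D) `D` fixes the fixed points of `Q` pointwise
  have hDfix : ∀ x ∈ D, ∀ β : Ω, (∀ q ∈ Q, q • β = β) → x • β = β := by
    intro x hxD β hβ
    by_contra hne
    have hxn : x ∈ Subgroup.normalizer (Q : Set G) := (Subgroup.mem_inf.1 (hDR hxD)).2
    have hFeq : MulAction.fixedPoints Q Ω = MulAction.orbit D β := by
      ext γ
      constructor
      · intro hγF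
        have hγ : ∀ q ∈ Q, q • γ = γ := fun q hq => hγF ⟨q, hq⟩
        by_cases hγβ : γ = β
        · rw [hγβ]; exact MulAction.mem_orbit_self β
        · have hxβF := smul_mem_fix_of_mem_normalizer Q hxn hβ
          obtain ⟨g, hgn, hgβ, hgxβ⟩ :=
            two_trans_normalizer N h2 hNt a Q hQNa hQ2 hQc hβ hxβF hγ hne hγβ
          have hconj : g * x * g⁻¹ ∈ D := by
            rw [hDchar]
            obtain ⟨hxR, m, hm, hxm⟩ := (hDchar x).1 hxD
            refine ⟨?_, m, hm, ?_⟩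
            · refine Subgroup.mem_inf.2 ⟨hNn.conj_mem x (Subgroup.mem_inf.1 hxR).1 g, ?_⟩
              exact Subgroup.mul_mem _ (Subgroup.mul_mem _ hgn hxn) (Subgroup.inv_mem _ hgn)
            · rw [conj_pow]
              exact (Subgroup.mem_normalizer_iff.1 hgn _).1 hxm
          refine ⟨⟨g * x * g⁻¹, hconj⟩, ?_⟩
          show (g * x * g⁻¹) • β = γ
          have hinv : g⁻¹ • β = β := by rw [inv_smul_eq_iff, hgβ]
          rw [mul_smul, mul_smul, hinv, hgxβ]
      · rintro ⟨d, rfl⟩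
        intro q
        exact smul_mem_fix_of_mem_normalizer Q (Subgroup.mem_inf.1 (hDR d.2)).2 hβ q q.2
    have hodd : Odd (Nat.card (MulAction.fixedPoints Q Ω)) := by
      rw [hFeq, Nat.card_coe_set_eq, ← MulAction.index_stabilizer]
      have hle : Q.subgroupOf D ≤ MulAction.stabilizer D β := by
        intro d hd
        rw [Subgroup.mem_subgroupOf] at hd
        exact MulAction.mem_stabilizer_iff.2 (hβ _ hd)
      have hdvd := Subgroup.index_dvd_of_le hle
      exact Odd.of_dvd_nat hDodd hdvd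
    have hmod : Nat.card Ω % 2 = Nat.card (MulAction.fixedPoints Q Ω) % 2 :=
      hQ2.card_modEq_card_fixedPoints Ω
    rcases hodd with ⟨k, hk⟩
    omega
  -- (F) the fixed points of `Q` are `a` and one more point
  obtain ⟨u, hu⟩ := Subgroup.index_eq_two_iff.1 hDidx
  have hun : (u : G) ∈ Subgroup.normalizer (Q : Set G) := (Subgroup.mem_inf.1 u.2).2
  have ha'F : ∀ q ∈ Q, q • (u : G)⁻¹ • a = (u : G)⁻¹ • a :=
    smul_mem_fix_of_mem_normalizer Q (Subgroup.inv_mem _ hun) haF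
  have hF : ∀ β : Ω, (∀ q ∈ Q, q • β = β) → β = a ∨ β = (u : G)⁻¹ • a := by
    intro β hβ
    obtain ⟨x, hxR, hxa⟩ := witt N hNt a Q hQNa hQ2 hQc hβ
    rcases hu ⟨x, hxR⟩ with ⟨h1, -⟩ | ⟨h1, -⟩
    · right
      have hxu : x * (u : G) ∈ D := h1
      have h3 := hDfix _ hxu _ ha'F
      rw [mul_smul, smul_inv_smul, hxa] at h3
      exact h3
    · left
      have hx : x ∈ D := h1
      have h3 := hDfix x hx a haF
      rw [← hxa, h3]
  -- (G), (H)
  obtain ⟨hb', hhbNa, hhbF, hhba⟩ := meets_fix N h2 hNt a Q hQNa hQ2 hQc hn hb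
  obtain ⟨hc', hhcNa, hhcF, hhca⟩ := meets_fix N h2 hNt a Q hQNa hQ2 hQc hn hc
  have e1 : hb' • b = (u : G)⁻¹ • a := (hF _ hhbF).resolve_left hhba
  have e2 : hc' • c = (u : G)⁻¹ • a := (hF _ hhcF).resolve_left hhca
  have hba : hb' • a = a := MulAction.mem_stabilizer_iff.1 (Subgroup.mem_inf.1 hhbNa).2
  have hca : hc' • a = a := MulAction.mem_stabilizer_iff.1 (Subgroup.mem_inf.1 hhcNa).2
  refine ⟨hc'⁻¹ * hb', N.mul_mem (N.inv_mem (Subgroup.mem_inf.1 hhcNa).1)
    (Subgroup.mem_inf.1 hhbNa).1, ?_, ?_⟩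
  · rw [mul_smul, hba, inv_smul_eq_iff, hca]
  · rw [mul_smul, e1, ← e2, inv_smul_smul]

end Cfsg.Agent.Helper17.TT2
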