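import Mathlib
import Cfsg.Agent.Lib.Helper17.TT2Main

/-!
# S3401: the unique minimal normal subgroup of a 2-transitive group of degree `≡ 2 mod 4`
-/

set_option autoImplicit false

namespace Cfsg.Agent.Helper17.TT2

section Fin
variable {G : Type*} [Group G] [Finite G] {Ω : Type*} [MulAction G Ω] [Finite Ω]

/-- Theorem A: unique minimal normal subgroup, 2-transitive with trivial centralizer. -/
theorem exists_minimal_normal [FaithfulSMul G Ω]
    (h2 : ∀ a b c d : Ω, a ≠ b → c ≠ d → ∃ g : G, g • a = c ∧ g • b = d)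
    (hn : Nat.card Ω % 4 = 2) (hn2 : 2 < Nat.card Ω) :
    ∃ M : Subgroup G, M.Normal ∧ M ≠ ⊥ ∧ (∀ N : Subgroup G, N.Normal → N ≠ ⊥ → M ≤ N) ∧
      (∀ a b c d : Ω, a ≠ b → c ≠ d → ∃ g ∈ M, g • a = c ∧ g • b = d) ∧
      Subgroup.centralizer (M : Set G) = ⊥ := by
  classical
  -- two distinct points
  haveI : Nontrivial Ω := by
    rw [← Finite.one_lt_card_iff_nontrivial]; omega
  obtain ⟨a₀, b₀, hab₀⟩ := exists_pair_ne Ω
  -- `⊤ ≠ ⊥`
  have htop : (⊤ : Subgroup G) ≠ ⊥ := by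
    intro h
    obtain ⟨g, hg, -⟩ := h2 a₀ b₀ b₀ a₀ hab₀ (Ne.symm hab₀)
    have : g ∈ (⊥ : Subgroup G) := h ▸ Subgroup.mem_top g
    rw [Subgroup.mem_bot] at this
    rw [this, one_smul] at hg
    exact hab₀ hg
  -- minimal nontrivial normal subgroup
  obtain ⟨M, ⟨hMn, hMne⟩, hMmin⟩ := WellFounded.has_min
    (measure (fun H : Subgroup G => Nat.card H)).wf
    {H : Subgroup G | H.Normal ∧ H ≠ ⊥} ⟨⊤, inferInstance, htop⟩
  haveI := hMn
  have hMt : ∀ a b : Ω, ∃ g ∈ M, g • a = b := normal_transitive h2 M hMne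
  have hM2' := normal_two_transitive h2 hn M hMt
  have hM2 : ∀ a b c d : Ω, a ≠ b → c ≠ d → ∃ g ∈ M, g • a = c ∧ g • b = d := by
    intro a b c d hab hcd
    obtain ⟨g1, hg1, hg1a⟩ := hMt a c
    have h1 : g1 • b ≠ c := by
      intro h
      rw [← hg1a] at h
      exact hab ((MulAction.injective g1) h).symm
    obtain ⟨g2, hg2, hg2c, hg2b⟩ := hM2' c (g1 • b) d h1 (Ne.symm hcd)
    refine ⟨g2 * g1, M.mul_mem hg2 hg1, ?_, ?_⟩
    · rw [mul_smul, hg1a, hg2c]
    · rw [mul_smul, hg2b]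
  -- centralizer trivial
  have hC : Subgroup.centralizer (M : Set G) = ⊥ := by
    by_contra hCne
    have hCt : ∀ a b : Ω, ∃ g ∈ Subgroup.centralizer (M : Set G), g • a = b :=
      normal_transitive h2 (Subgroup.centralizer (M : Set G)) hCne
    have hMC : M ≤ Subgroup.centralizer ((Subgroup.centralizer (M : Set G) : Subgroup G) : Set G) := by
      intro m hm
      rw [Subgroup.mem_centralizer_iff]
      intro c hc
      exact ((Subgroup.mem_centralizer_iff.1 hc) m hm).symm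
    have hreg : M ⊓ MulAction.stabilizer G a₀ = ⊥ := by
      rw [Subgroup.eq_bot_iff_forall]
      rintro m ⟨hm, hma⟩
      exact eq_one_of_centralizer_fix (Subgroup.centralizer (M : Set G)) hCt (hMC hm)
        (MulAction.mem_stabilizer_iff.1 hma)
    exact not_regular h2 hn hn2 M hMt a₀ hreg
  refine ⟨M, hMn, hMne, ?_, hM2, hC⟩
  intro N hNn hNne
  haveI := hNn
  by_cases hNM : N ⊓ M = ⊥
  · exfalso
    apply hNne
    rw [Subgroup.eq_bot_iff_forall]
    intro n hn'
    have hnC : n ∈ Subgroup.centralizer (M : Set G) := by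
      rw [Subgroup.mem_centralizer_iff]
      intro m hm
      have hmem : n * m * n⁻¹ * m⁻¹ ∈ N ⊓ M := by
        refine ⟨?_, ?_⟩
        · have : n * m * n⁻¹ * m⁻¹ = n * (m * n⁻¹ * m⁻¹) := by group
          rw [this]
          exact N.mul_mem hn' (hNn.conj_mem _ (N.inv_mem hn') m)
        · exact M.mul_mem (hMn.conj_mem _ hm n) (M.inv_mem hm)
      rw [hNM, Subgroup.mem_bot] at hmem
      have : n * m = (n * m * n⁻¹ * m⁻¹) * (m * n) := by group
      rw [this, hmem, one_mul]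
    rw [hC, Subgroup.mem_bot] at hnC
    exact hnC
  · have hle : N ⊓ M ≤ M := inf_le_right
    have hcard : Nat.card M ≤ Nat.card (N ⊓ M : Subgroup G) := by
      by_contra hlt
      push Not at hlt
      exact hMmin (N ⊓ M) ⟨inferInstance, hNM⟩ hlt
    have heq : N ⊓ M = M := Subgroup.eq_of_le_of_card_ge hle hcard
    rw [← heq]
    exact inf_le_left

/-- Theorem B: the minimal normal subgroup is simple. -/
theorem exists_minimal_normal_simple [FaithfulSMul G Ω]
    (h2 : ∀ a b c d : Ω, a ≠ b → c ≠ d → ∃ g : G, g • a = c ∧ g • b = d)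
    (hn : Nat.card Ω % 4 = 2) (hn2 : 2 < Nat.card Ω) :
    ∃ M : Subgroup G, M.Normal ∧ M ≠ ⊥ ∧ (∀ N : Subgroup G, N.Normal → N ≠ ⊥ → M ≤ N) ∧
      IsSimpleGroup ↥M ∧
      (∀ a b c d : Ω, a ≠ b → c ≠ d → ∃ g ∈ M, g • a = c ∧ g • b = d) ∧
      Subgroup.centralizer (M : Set G) = ⊥ := by
  classical
  obtain ⟨M, hMn, hMne, hMmin, hM2, hC⟩ := exists_minimal_normal h2 hn hn2
  haveI := hMn
  refine ⟨M, hMn, hMne, hMmin, ?_, hM2, hC⟩
  -- the group `↥M` acts faithfully and 2-transitively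
  have h2M : ∀ a b c d : Ω, a ≠ b → c ≠ d → ∃ g : ↥M, g • a = c ∧ g • b = d := by
    intro a b c d hab hcd
    obtain ⟨g, hg, h1, h2'⟩ := hM2 a b c d hab hcd
    exact ⟨⟨g, hg⟩, h1, h2'⟩
  obtain ⟨M₁, hM₁n, hM₁ne, hM₁min, -, -⟩ := exists_minimal_normal (G := ↥M) (Ω := Ω) h2M hn hn2
  haveI := hM₁n
  -- `M₁` is invariant under conjugation by `G`
  have hinv : ∀ g : G, M₁.map (MulAut.conjNormal g : ↥M ≃* ↥M).toMonoidHom = M₁ := by
    intro g
    have hnorm : (M₁.map (MulAut.conjNormal g : ↥M ≃* ↥M).toMonoidHom).Normal :=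
      Subgroup.Normal.map hM₁n _ (MulEquiv.surjective _)
    have hne : M₁.map (MulAut.conjNormal g : ↥M ≃* ↥M).toMonoidHom ≠ ⊥ := by
      intro h
      rw [Subgroup.map_eq_bot_iff_of_injective _ (MulEquiv.injective _)] at h
      exact hM₁ne h
    have hle := hM₁min _ hnorm hne
    have hcard : Nat.card (M₁.map (MulAut.conjNormal g : ↥M ≃* ↥M).toMonoidHom) = Nat.card M₁ :=
      Subgroup.card_map_of_injective (MulEquiv.injective _)
    exact (Subgroup.eq_of_le_of_card_ge hle hcard.le).symm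
  -- the image of `M₁` in `G` is normal
  have hnormal : (M₁.map M.subtype).Normal := by
    constructor
    rintro x ⟨y, hy, rfl⟩ g
    have hmem : (MulAut.conjNormal g : ↥M ≃* ↥M) y ∈ M₁ := by
      have : (MulAut.conjNormal g : ↥M ≃* ↥M).toMonoidHom y ∈
          M₁.map (MulAut.conjNormal g : ↥M ≃* ↥M).toMonoidHom := Subgroup.mem_map_of_mem _ hy
      rw [hinv g] at this
      exact this
    refine ⟨_, hmem, ?_⟩
    simp [MulAut.conjNormal_apply]
  have hne' : M₁.map M.subtype ≠ ⊥ := by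
    intro h
    rw [Subgroup.map_eq_bot_iff_of_injective _ M.subtype_injective] at h
    exact hM₁ne h
  have hMle : M ≤ M₁.map M.subtype := hMmin _ hnormal hne'
  have htop : M₁ = ⊤ := by
    rw [eq_top_iff]
    intro x _
    obtain ⟨y, hy, hyx⟩ := hMle x.2
    have : y = x := Subtype.ext hyx
    rw [← this]; exact hy
  haveI : Nontrivial ↥M := by
    rw [Subgroup.nontrivial_iff_ne_bot]; exact hMne
  refine { eq_bot_or_eq_top_of_normal := ?_ }
  intro H hH
  by_cases hHb : H = ⊥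
  · exact Or.inl hHb
  · right
    rw [eq_top_iff, ← htop]
    exact hM₁min H hH hHb

end Fin

end Cfsg.Agent.Helper17.TT2
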