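import Mathlib
import Cfsg.Agent.Lib.Helper17.USym4B
import Cfsg.Agent.Lib.Helper17.Sym4U
import Cfsg.Agent.Lib.Helper16.Sym4P1

/-!
# `SymData` from the hypotheses of S6001, the unitary standard form, and conjugacy in `SU₄`
(helper17)
-/

set_option autoImplicit false
set_option linter.unusedSectionVars false
set_option linter.unusedVariables false
set_option linter.style.haveILetI false

namespace Cfsg.Agent.Helper17.USym4

open Matrix Cfsg.Agent.Helper17.ExtraEig Cfsg.Agent.Helper17.Sym4 Cfsg.Agent.Helper11.Herm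
open scoped commutatorElement

section parts

variable {F : Type*} [Field F]

/-- Construction of `SymData` from the separate hypotheses. -/
theorem symData_of_parts [Fintype F] (h2 : (2 : F) ≠ 0) (R : Subgroup (GL (Fin 4) F))
    (hsym : Cfsg.Geo.IsSymplecticTypeGroup 2 R)
    (hirr : Cfsg.Geo.ActsAbsolutelyIrreducibly (Cfsg.Geo.matrixSet R))
    (hR6 : Nat.card R = 2 ^ 6) (hZ : Nat.card (Subgroup.center ↥R) = 4) : SymData R := by
  have hexp : Monoid.exponent ↥R = 4 := by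
    rw [hsym.exponent_eq]
    norm_num
  have hexp4 : ∀ x ∈ R, x ^ 4 = 1 := by
    intro x hx
    have h1 : (⟨x, hx⟩ : ↥R) ^ Monoid.exponent ↥R = 1 := Monoid.pow_exponent_eq_one _
    rw [hexp] at h1
    have := congrArg Subtype.val h1
    simpa using this
  have hcentM : ∀ M : Matrix (Fin 4) (Fin 4) F,
      (∀ x ∈ R, M * (x : Matrix (Fin 4) (Fin 4) F) = (x : Matrix (Fin 4) (Fin 4) F) * M) →
      ∃ c : F, M = c • (1 : Matrix (Fin 4) (Fin 4) F) := by
    intro M hM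
    apply hirr.2 M
    rintro _ ⟨x, hx, rfl⟩
    exact hM x hx
  have hcent : ∀ w : GL (Fin 4) F, (∀ x ∈ R, w * x = x * w) →
      w ∈ Cfsg.Geo.scalars (Fin 4) F := by
    intro w hw
    obtain ⟨c, hc⟩ := hcentM (w : Matrix (Fin 4) (Fin 4) F) (by
      intro x hx
      have := hw x hx
      rw [← Units.val_mul, ← Units.val_mul, this])
    have hc0 : c ≠ 0 := by
      rintro rfl
      rw [zero_smul] at hc
      have h1 : IsUnit ((w : GL (Fin 4) F) : Matrix (Fin 4) (Fin 4) F) := w.isUnit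
      rw [hc] at h1
      exact not_isUnit_zero h1
    exact (Cfsg.Geo.mem_scalars_iff w).2 ⟨Units.mk0 c hc0, hc⟩
  have hclass := Cfsg.Agent.Helper16.Sym4P1.commutator_le_center_of_char_cyclic
    (G := ↥R) hsym.pGroup hsym.cyclic_of_characteristic hexp hZ
  refine ⟨hcent, hcentM, ?_, hexp4, by rw [hR6]; norm_num, hZ, h2⟩
  intro x hx y hy
  have hz' : ⁅(⟨x, hx⟩ : ↥R), (⟨y, hy⟩ : ↥R)⁆ ∈ Subgroup.center ↥R := by
    apply hclass
    rw [commutator_def]
    exact Subgroup.commutator_mem_commutator (Subgroup.mem_top _) (Subgroup.mem_top _)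
  set z' : ↥R := ⁅(⟨x, hx⟩ : ↥R), (⟨y, hy⟩ : ↥R)⁆ with hz'def
  have hzval : (z' : GL (Fin 4) F) = x * y * x⁻¹ * y⁻¹ := by
    rw [hz'def, commutatorElement_def]
    rfl
  have hzs : (z' : GL (Fin 4) F) ∈ Cfsg.Geo.scalars (Fin 4) F := by
    apply hcent
    intro w hw
    have h1 := (Subgroup.mem_center_iff.1 hz') ⟨w, hw⟩
    have h2 := congrArg Subtype.val h1
    simpa using h2.symm
  obtain ⟨s, hs⟩ := (Cfsg.Geo.mem_scalars_iff _).1 hzs
  have hTC : TC x y (s : F) := by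
    rw [TC_iff_mul]
    have h1 : x * y = (z' : GL (Fin 4) F) * (y * x) := by rw [hzval]; group
    rw [h1, Units.val_mul, hs, Matrix.smul_mul, Matrix.one_mul]
  have h6 : (s : F) ^ 6 = 1 :=
    TC.pow_six hTC (hexp4 x hx) (hexp4 y hy) (hexp4 _ (R.mul_mem hy hx))
  have h4 : (s : F) ^ 4 = 1 := by
    have h1 := hexp4 _ z'.2
    have h2 := congrArg (fun u : GL (Fin 4) F => (u : Matrix (Fin 4) (Fin 4) F)) h1
    simp only [Units.val_pow_eq_pow_val, Units.val_one] at h2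
    rw [hs, smul_pow, one_pow] at h2
    have h3 := congrFun (congrFun h2 0) 0
    simpa using h3
  refine ⟨(s : F), ?_, hTC⟩
  have hs0 : (s : F) ≠ 0 := s.ne_zero
  have : (s : F) ^ 4 * (s : F) ^ 2 = (s : F) ^ 4 * 1 := by
    rw [mul_one, h4, one_mul]
    have h7 : (s : F) ^ 6 = (s : F) ^ 4 * (s : F) ^ 2 := by ring
    rw [h7, h4, one_mul] at h6
    exact h6
  exact mul_left_cancel₀ (pow_ne_zero 4 hs0) this

end parts

section fin

variable {F : Type*} [Field F] [Fintype F] {p : ℕ} [Fact p.Prime] [CharP F p]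
variable {R : Subgroup (GL (Fin 4) F)}

theorem mem_GU_iff_pres4 (g : GL (Fin 4) F) :
    g ∈ Cfsg.GU 4 F p ↔ Cfsg.Agent.Helper13.Uni.Pres p (g : Matrix (Fin 4) (Fin 4) F) := Iff.rfl

/-- **Unitary standard form**: `R` is conjugate to the standard group by a unitary matrix. -/
theorem exists_standardU (hF : Fintype.card F = p ^ 2) (hp4 : p % 4 = 3) (hS : SymData R)
    (hRU : R ≤ Cfsg.GU 4 F p) :
    ∃ (i : Fˣ) (P : GL (Fin 4) F), (i : F) ^ 2 = -1 ∧ P ∈ Cfsg.GU 4 F p ∧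
      R = (R0 i).map (MulAut.conj P).toMonoidHom := by
  obtain ⟨φ, hφ⟩ := exists_frob hF
  have hφφ := frob_frob hF φ hφ
  obtain ⟨i, P, hi, hRP⟩ := hS.exists_standard
  have h2 := hS.two_ne
  have hR0U := R0_le_GU hF hp4 i hi
  obtain ⟨c, hc⟩ := scalar_of_conj_unitary φ (A := R0 i)
    (fun g hg => (mem_GU_iff_isU φ hφ 4 g).1 (hR0U hg)) P
    (fun g hg => (mem_GU_iff_isU φ hφ 4 _).1 (hRU (by
      rw [hRP]
      exact ⟨g, hg, rfl⟩))) (R0_commutant h2 i)
  set Pm : Matrix (Fin 4) (Fin 4) F := (P : Matrix (Fin 4) (Fin 4) F) with hPm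
  -- `c ≠ 0`
  have hdetP : Pm.det ≠ 0 := by
    have := P.isUnit
    rw [Matrix.isUnit_iff_isUnit_det] at this
    exact this.ne_zero
  have hc0 : c ≠ 0 := by
    rintro rfl
    have := congrArg Matrix.det hc
    rw [zero_smul, Matrix.det_mul, Matrix.det_transpose, Matrix.det_zero,
      ← RingHom.mapMatrix_apply, ← RingHom.map_det] at this
    rcases mul_eq_zero.1 this with h | h
    · exact hdetP h
    · exact hdetP ((map_eq_zero φ).1 h)
  -- `φ c = c`
  have hcφ : φ c = c := by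
    have e1 : (Pmᵀ * Pm.map φ).map φ = (Pmᵀ * Pm.map φ)ᵀ := by
      rw [Matrix.map_mul, Matrix.transpose_mul, Matrix.transpose_transpose, Matrix.transpose_map]
      congr 1
      ext a b
      simp [hφφ]
    rw [hc] at e1
    have := congrFun (congrFun e1 0) 0
    simpa using this
  obtain ⟨l, hl0, hl⟩ := frob_norm_surj hF φ hφ c⁻¹ (inv_ne_zero hc0) (by rw [map_inv₀, hcφ])
  set lu : Fˣ := Units.mk0 l hl0 with hlu
  refine ⟨i, sc lu * P, hi, ?_, ?_⟩
  · rw [mem_GU_iff_isU φ hφ, Units.val_mul, sc_val, Matrix.smul_mul, Matrix.one_mul]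
    unfold IsU
    rw [Matrix.transpose_smul]
    have : (l • Pm).map φ = φ l • Pm.map φ := by
      ext a b
      simp
    rw [hlu, Units.val_mk0, this, Matrix.smul_mul, Matrix.mul_smul, smul_smul, hc, smul_smul,
      hl, inv_mul_cancel₀ hc0, one_smul]
  · rw [hRP]
    have : MulAut.conj (sc lu * P) = MulAut.conj P := by
      apply MulEquiv.ext
      intro g
      simp only [MulAut.conj_apply]
      have hcomm := scalar_comm (sc_mem_scalars lu) (P * g * P⁻¹)
      calc sc lu * P * g * (sc lu * P)⁻¹ = sc lu * (P * g * P⁻¹) * (sc lu)⁻¹ := by group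
        _ = P * g * P⁻¹ := by rw [hcomm]; group
    rw [this]

/-- elements of `SU₄` of order prime to `p` with the same characteristic polynomial are
conjugate in `SU₄`. -/
theorem su_conj_into_of_charpoly4 (hF : Fintype.card F = p ^ 2) (N : Subgroup (GL (Fin 4) F))
    (x y : GL (Fin 4) F)
    (hx : x ∈ Cfsg.GU 4 F p ⊓ Cfsg.Geo.specialLinear (Fin 4) F)
    (hy : y ∈ Cfsg.GU 4 F p ⊓ Cfsg.Geo.specialLinear (Fin 4) F)
    (hyN : y ∈ N) (k : ℕ) (hk1 : 1 ≤ k) (hk : k.Coprime p) (hxk : x ^ k = 1) (hyk : y ^ k = 1)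
    (hc : (x : Matrix (Fin 4) (Fin 4) F).charpoly = (y : Matrix (Fin 4) (Fin 4) F).charpoly) :
    ∃ g ∈ Cfsg.GU 4 F p ⊓ Cfsg.Geo.specialLinear (Fin 4) F, g⁻¹ * x * g ∈ N := by
  have hPx : Cfsg.Agent.Helper13.Uni.Pres p (x : Matrix (Fin 4) (Fin 4) F) :=
    (mem_GU_iff_pres4 x).1 (Subgroup.mem_inf.1 hx).1
  have hPy : Cfsg.Agent.Helper13.Uni.Pres p (y : Matrix (Fin 4) (Fin 4) F) :=
    (mem_GU_iff_pres4 y).1 (Subgroup.mem_inf.1 hy).1
  have hkF : (k : F) ≠ 0 := Cfsg.Agent.Helper13.SS.cast_ne_zero_of_coprime hk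
  have hxk' : (x : Matrix (Fin 4) (Fin 4) F) ^ k = 1 := by
    rw [← Units.val_pow_eq_pow_val, hxk, Units.val_one]
  have hyk' : (y : Matrix (Fin 4) (Fin 4) F) ^ k = 1 := by
    rw [← Units.val_pow_eq_pow_val, hyk, Units.val_one]
  obtain ⟨Ym, hPY, hYy⟩ := Cfsg.Agent.Helper13.Uni.exists_unitary_conj_of_charpoly hF p 4
    (y : Matrix (Fin 4) (Fin 4) F) (x : Matrix (Fin 4) (Fin 4) F) hPy hPx k hk1 hkF hyk' hxk'
    hc.symm
  have hdn := Cfsg.Agent.Helper13.Uni.Pres.det_norm hF hPY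
  have hd0 : Ym.det ≠ 0 := by
    intro h
    rw [h, zero_mul] at hdn
    exact zero_ne_one hdn
  obtain ⟨c, hPc, hcy, hcdet⟩ := Cfsg.Agent.Helper13.Uni.exists_unitary_commute_det hF p 4
    (by norm_num) (y : Matrix (Fin 4) (Fin 4) F) hPy k hk1 hkF hyk' (Ym.det)⁻¹ (by
      rw [inv_pow, ← mul_inv, hdn, inv_one])
  set gm : Matrix (Fin 4) (Fin 4) F := Ym * c with hgm
  have hgdet : gm.det = 1 := by rw [hgm, Matrix.det_mul, hcdet, mul_inv_cancel₀ hd0]
  set g : GL (Fin 4) F := SpecialLinearGroup.toGL ⟨gm, hgdet⟩ with hg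
  have hgval : (g : Matrix (Fin 4) (Fin 4) F) = gm := rfl
  have hPg : Cfsg.Agent.Helper13.Uni.Pres p gm := by
    intro u v
    rw [hgm, ← Matrix.mulVec_mulVec, ← Matrix.mulVec_mulVec, hPY, hPc]
  have hgxy : g * y = x * g := by
    apply Units.ext
    rw [Units.val_mul, Units.val_mul, hgval, hgm, mul_assoc, hcy, ← mul_assoc, hYy, mul_assoc]
  refine ⟨g, Subgroup.mem_inf.2 ⟨(mem_GU_iff_pres4 g).2 hPg, ?_⟩, ?_⟩
  · rw [mem_specialLinear_iff4]
    exact hgdet
  · have : g⁻¹ * x * g = y := by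
      rw [mul_assoc, ← hgxy, ← mul_assoc, inv_mul_cancel, one_mul]
    rw [this]; exact hyN

end fin

end Cfsg.Agent.Helper17.USym4
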