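import Mathlib
import Cfsg.Agent.Lib.Helper17.USym4B
import Cfsg.Agent.Lib.Helper13.SemisimpleCharpolyGL
import Cfsg.Agent.Lib.Helper15.Sym4Q3

/-!
# Traces from kernel dimensions (helper17, for S6001)
-/

set_option autoImplicit false
set_option linter.unusedSectionVars false
set_option linter.unusedVariables false

namespace Cfsg.Agent.Helper17.USym4

open Matrix Polynomial Module Cfsg.Agent.Helper17.Sym4 Cfsg.Agent.Helper13.SS

section trace

variable {F : Type*} [Field F]

/-- The trace of an element killed by a product of distinct monic irreducible polynomials, in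
terms of the dimensions of the kernels. -/
theorem trace_eq_neg_sum (x : GL (Fin 4) F) (S : Finset F[X]) (hirr : ∀ f ∈ S, Irreducible f)
    (hmon : ∀ f ∈ S, f.Monic) (hk : aeval (L x) (∏ f ∈ S, f) = 0) :
    (x : Matrix (Fin 4) (Fin 4) F).trace =
      - ∑ f ∈ S, (kdim (L x) f / f.natDegree) • f.nextCoeff := by
  have h1 := charpoly_eq_prod S hirr hmon (L x) hk
  rw [charpoly_L] at h1
  rw [Matrix.trace_eq_neg_charpoly_nextCoeff, h1,
    Monic.nextCoeff_prod _ _ (fun f hf => (hmon f hf).pow _)]
  congr 1
  apply Finset.sum_congr rfl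
  intro f hf
  exact (hmon f hf).nextCoeff_pow _

/-- the kernel of `B ^ k * T` for invertible `B` -/
theorem ker_pow_mul {V : Type*} [AddCommGroup V] [Module F V] (A B T : Module.End F V)
    (hAB : A * B = 1) (k : ℕ) : LinearMap.ker (B ^ k * T) = LinearMap.ker T := by
  have h3 : A ^ k * B ^ k = 1 := by
    induction k with
    | zero => simp
    | succ k ih =>
      calc A ^ (k + 1) * B ^ (k + 1) = A ^ k * (A * B) * B ^ k := by
            rw [pow_succ, pow_succ']; simp only [mul_assoc]
        _ = 1 := by rw [hAB, mul_one, ih]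
  ext v
  simp only [LinearMap.mem_ker, Module.End.mul_apply]
  constructor
  · intro h
    have h2 : (A ^ k * B ^ k) (T v) = 0 := by
      rw [Module.End.mul_apply, h, map_zero]
    rwa [h3, Module.End.one_apply] at h2
  · intro h
    rw [h, map_zero]

end trace

section cast

variable {F : Type*} [Field F] {p : ℕ} [Fact p.Prime] [CharP F p]

theorem natCast_inj_of_lt {a b : ℕ} (ha : a < p) (hb : b < p) (h : (a : F) = (b : F)) : a = b := by
  have h1 := (CharP.natCast_eq_natCast F p).1 h
  exact Nat.ModEq.eq_of_lt_of_lt h1 ha hb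

end cast

end Cfsg.Agent.Helper17.USym4
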