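import Mathlib
import Cfsg.Agent.Lib.Helper17.USym4E

/-!
# Piece U5 of S6001: elements of order three of `GU₄(p)`, `p ≡ 1 (mod 3)` (helper17)
-/

set_option autoImplicit false
set_option linter.unusedSectionVars false
set_option linter.unusedVariables false

namespace Cfsg.Agent.Helper17.USym4

open Matrix Polynomial Module Cfsg.Agent.Helper17.Sym4 Cfsg.Agent.Helper13.SS

section inv

variable {F : Type*} [Field F]

theorem kdim_inv_linear (x : GL (Fin 4) F) (μ ν : F) (h : μ * ν = 1) :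
    kdim (L x⁻¹) (X - C μ) = kdim (L x) (X - C ν) := by
  set A := L x with hA
  set B := L x⁻¹ with hB
  have hAB : A * B = 1 := by
    rw [hA, hB, ← Cfsg.Agent.Helper13.SS.L_mul, mul_inv_cancel, L_one]
  have hBA : B * A = 1 := by
    rw [hA, hB, ← Cfsg.Agent.Helper13.SS.L_mul, inv_mul_cancel, L_one]
  unfold kdim
  have hker : LinearMap.ker (aeval B (X - C μ)) = LinearMap.ker (aeval A (X - C ν)) := by
    ext v
    simp only [LinearMap.mem_ker, map_sub, aeval_X, aeval_C, LinearMap.sub_apply,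
      Module.algebraMap_end_apply, sub_eq_zero]
    constructor
    · intro h1
      have h2 := congrArg A h1
      rw [← Module.End.mul_apply, hAB, Module.End.one_apply, map_smul] at h2
      calc A v = (μ * ν) • A v := by rw [h, one_smul]
        _ = ν • (μ • A v) := by rw [smul_smul, mul_comm]
        _ = ν • v := by rw [← h2]
    · intro h1
      have h2 := congrArg B h1
      rw [← Module.End.mul_apply, hBA, Module.End.one_apply, map_smul] at h2
      calc B v = (μ * ν) • B v := by rw [h, one_smul]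
        _ = μ • (ν • B v) := by rw [smul_smul]
        _ = μ • v := by rw [← h2]
  rw [hker]

end inv

section classify

variable {F : Type*} [Field F]

/-- Kernel dimensions and traces for an element of order three, `ω` a primitive cube root of
unity: if `tr x⁻¹ = tr x` then the `ω`- and `ω²`-eigenspaces have the same dimension (as elements
of `F`). -/
theorem three_data (h3 : (3 : F) ≠ 0) (ω : F) (hω : ω ^ 2 + ω + 1 = 0) (x : GL (Fin 4) F)
    (hx3 : x ^ 3 = 1) :
    ∃ a b c : ℕ, a + (b + c) = 4 ∧ a = kdim (L x) (X - C (1 : F)) ∧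
      (x : Matrix (Fin 4) (Fin 4) F).trace = (a : F) + (b : F) * ω + (c : F) * ω ^ 2 ∧
      ((x⁻¹ : GL (Fin 4) F) : Matrix (Fin 4) (Fin 4) F).trace =
        (a : F) + (c : F) * ω + (b : F) * ω ^ 2 ∧
      (x : Matrix (Fin 4) (Fin 4) F).charpoly =
        (X - C (1 : F)) ^ a * ((X - C ω) ^ b * (X - C (ω ^ 2)) ^ c) := by
  classical
  have hω3 : ω ^ 3 = 1 := by linear_combination (ω - 1) * hω
  have hω1 : ω ≠ 1 := by
    rintro rfl
    apply h3
    linear_combination hω
  have hω21 : ω ^ 2 ≠ 1 := by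
    intro h
    apply hω1
    have : ω = -2 := by linear_combination hω - h
    have h4 : (3 : F) = 0 := by
      have h5 := h
      rw [this] at h5
      linear_combination h5
    exact absurd h4 h3
  have hωω2 : ω ≠ ω ^ 2 := by
    intro h
    apply hω1
    have h0 : ω ≠ 0 := by
      rintro rfl
      simp at hω3
    have : ω * 1 = ω * ω := by rw [mul_one, ← pow_two]; exact h
    exact (mul_left_cancel₀ h0 this).symm
  have hn01 : (X - C (1 : F)) ≠ X - C ω := by
    intro h
    have := congrArg (Polynomial.eval 1) h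
    simp at this
    exact hω1 (sub_eq_zero.1 this.symm).symm
  have hn02 : (X - C (1 : F)) ≠ X - C (ω ^ 2) := by
    intro h
    have := congrArg (Polynomial.eval 1) h
    simp at this
    exact hω21 (sub_eq_zero.1 this.symm).symm
  have hn12 : (X - C ω : F[X]) ≠ X - C (ω ^ 2) := by
    intro h
    have := congrArg (Polynomial.eval ω) h
    simp at this
    exact hωω2 (sub_eq_zero.1 this.symm)
  set S : Finset F[X] := {X - C (1 : F), X - C ω, X - C (ω ^ 2)} with hS
  have hirr : ∀ f ∈ S, Irreducible f := by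
    intro f hf
    rw [hS, Finset.mem_insert, Finset.mem_insert, Finset.mem_singleton] at hf
    rcases hf with rfl | rfl | rfl <;> exact irreducible_X_sub_C _
  have hmon : ∀ f ∈ S, f.Monic := by
    intro f hf
    rw [hS, Finset.mem_insert, Finset.mem_insert, Finset.mem_singleton] at hf
    rcases hf with rfl | rfl | rfl <;> exact monic_X_sub_C _
  have hnotin : (X - C (1 : F)) ∉ ({X - C ω, X - C (ω ^ 2)} : Finset F[X]) := by
    rw [Finset.mem_insert, Finset.mem_singleton]
    rintro (h | h)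
    · exact hn01 h
    · exact hn02 h
  have hprod : ∏ f ∈ S, f = X ^ 3 - 1 := by
    rw [hS, Finset.prod_insert hnotin, Finset.prod_pair hn12]
    have hC : (C ω : F[X]) ^ 2 + C ω + 1 = 0 := by
      rw [← C_pow, ← C_add, ← C_1, ← C_add, hω, C_0]
    rw [C_pow, C_1]
    linear_combination ((X - 1) * (C ω - 1 - X)) * hC
  have hsumS : ∀ g : F[X] → ℕ, ∑ f ∈ S, g f =
      g (X - C (1 : F)) + (g (X - C ω) + g (X - C (ω ^ 2))) := by
    intro g
    rw [hS, Finset.sum_insert hnotin, Finset.sum_pair hn12]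
  have hsumF : ∀ g : F[X] → F, ∑ f ∈ S, g f =
      g (X - C (1 : F)) + (g (X - C ω) + g (X - C (ω ^ 2))) := by
    intro g
    rw [hS, Finset.sum_insert hnotin, Finset.sum_pair hn12]
  have hkx : aeval (L x) (∏ f ∈ S, f) = 0 := by
    rw [hprod]; exact (pow_eq_one_iff x 3).1 hx3
  have hxi3 : x⁻¹ ^ 3 = 1 := by rw [inv_pow, hx3, inv_one]
  have hkxi : aeval (L x⁻¹) (∏ f ∈ S, f) = 0 := by
    rw [hprod]; exact (pow_eq_one_iff x⁻¹ 3).1 hxi3
  refine ⟨kdim (L x) (X - C (1 : F)), kdim (L x) (X - C ω), kdim (L x) (X - C (ω ^ 2)), ?_, rfl,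
    ?_, ?_, ?_⟩
  · have := finrank_eq_sum_kdim (L x) S (pairwise_coprime_of_monic_irreducible S hirr hmon) hkx
    rw [Module.finrank_fin_fun, hsumS] at this
    exact this.symm
  · rw [trace_eq_neg_sum x S hirr hmon hkx, hsumF]
    simp only [natDegree_X_sub_C, Nat.div_one, nextCoeff_X_sub_C, nsmul_eq_mul]
    ring
  · rw [trace_eq_neg_sum x⁻¹ S hirr hmon hkxi, hsumF,
      kdim_inv_linear x 1 1 (by ring), kdim_inv_linear x ω (ω ^ 2) (by linear_combination hω3),
      kdim_inv_linear x (ω ^ 2) ω (by linear_combination hω3)]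
    simp only [natDegree_X_sub_C, Nat.div_one, nextCoeff_X_sub_C, nsmul_eq_mul]
    ring
  · have hchar := charpoly_eq_prod S hirr hmon (L x) hkx
    rw [charpoly_L] at hchar
    rw [hchar, hS, Finset.prod_insert hnotin, Finset.prod_pair hn12]
    simp only [natDegree_X_sub_C, Nat.div_one]

/-- With `tr x⁻¹ = tr x` the two nontrivial eigenspaces have the same dimension. -/
theorem three_cases {p : ℕ} [Fact p.Prime] [CharP F p] (hp5 : 5 ≤ p) (ω : F)
    (hω : ω ^ 2 + ω + 1 = 0) (x : GL (Fin 4) F) (hx3 : x ^ 3 = 1)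
    (htr : ((x⁻¹ : GL (Fin 4) F) : Matrix (Fin 4) (Fin 4) F).trace =
      (x : Matrix (Fin 4) (Fin 4) F).trace) :
    ∃ a b : ℕ, a + 2 * b = 4 ∧ a = kdim (L x) (X - C (1 : F)) ∧
      (x : Matrix (Fin 4) (Fin 4) F).trace = (a : F) - (b : F) ∧
      (x : Matrix (Fin 4) (Fin 4) F).charpoly =
        (X - C (1 : F)) ^ a * ((X - C ω) ^ b * (X - C (ω ^ 2)) ^ b) := by
  have hpp : p.Prime := Fact.out
  have h3 : (3 : F) ≠ 0 := by
    intro h
    have h' : ((3 : ℕ) : F) = 0 := by exact_mod_cast h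
    rw [CharP.cast_eq_zero_iff F p 3] at h'
    have := Nat.le_of_dvd (by norm_num) h'
    omega
  obtain ⟨a, b, c, hsum, ha, htx, htxi, hchar⟩ := three_data h3 ω hω x hx3
  have hωω2 : ω - ω ^ 2 ≠ 0 := by
    intro h
    apply h3
    have h1 : ω = ω ^ 2 := sub_eq_zero.1 h
    have h2 : 2 * ω + 1 = 0 := by
      have := hω
      rw [← h1] at this
      linear_combination this
    linear_combination (4 : F) * hω - (2 * ω + 1) * h2
  have hbc : (b : F) = (c : F) := by
    rw [htx, htxi] at htr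
    have h1 : ((b : F) - (c : F)) * (ω - ω ^ 2) = 0 := by linear_combination -htr
    rcases mul_eq_zero.1 h1 with h | h
    · exact sub_eq_zero.1 h
    · exact absurd h hωω2
  have hbc' : b = c := natCast_inj_of_lt (F := F) (p := p) (by omega) (by omega) hbc
  subst hbc'
  refine ⟨a, b, by omega, ha, ?_, hchar⟩
  rw [htx]
  linear_combination (b : F) * hω

/-- Elements of order three with `tr x⁻¹ = tr x` and the same trace have the same characteristic
polynomial. -/
theorem charpoly_eq_of_trace_three {p : ℕ} [Fact p.Prime] [CharP F p] (hp5 : 5 ≤ p) (ω : F)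
    (hω : ω ^ 2 + ω + 1 = 0) (x y : GL (Fin 4) F) (hx3 : x ^ 3 = 1) (hy3 : y ^ 3 = 1)
    (hx : ((x⁻¹ : GL (Fin 4) F) : Matrix (Fin 4) (Fin 4) F).trace =
      (x : Matrix (Fin 4) (Fin 4) F).trace)
    (hy : ((y⁻¹ : GL (Fin 4) F) : Matrix (Fin 4) (Fin 4) F).trace =
      (y : Matrix (Fin 4) (Fin 4) F).trace)
    (hxy : (y : Matrix (Fin 4) (Fin 4) F).trace = (x : Matrix (Fin 4) (Fin 4) F).trace) :
    (y : Matrix (Fin 4) (Fin 4) F).charpoly = (x : Matrix (Fin 4) (Fin 4) F).charpoly := by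
  have hpp : p.Prime := Fact.out
  have h3 : (3 : F) ≠ 0 := by
    intro h
    have h' : ((3 : ℕ) : F) = 0 := by exact_mod_cast h
    rw [CharP.cast_eq_zero_iff F p 3] at h'
    have := Nat.le_of_dvd (by norm_num) h'
    omega
  obtain ⟨a, b, hab, -, htx, hcx⟩ := three_cases hp5 ω hω x hx3 hx
  obtain ⟨a', b', hab', -, hty, hcy⟩ := three_cases hp5 ω hω y hy3 hy
  have e1 : ((a + 2 * b : ℕ) : F) = ((a' + 2 * b' : ℕ) : F) := by rw [hab, hab']
  push_cast at e1
  rw [htx, hty] at hxy
  have hb : (b : F) = (b' : F) := by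
    have h1 : (3 : F) * ((b : F) - (b' : F)) = 0 := by linear_combination e1 + hxy
    rcases mul_eq_zero.1 h1 with h | h
    · exact absurd h h3
    · exact sub_eq_zero.1 h
  have hb' : b = b' := natCast_inj_of_lt (F := F) (p := p) (by omega) (by omega) hb
  have ha' : a = a' := by omega
  rw [hcx, hcy, hb', ha']

end classify

section main

variable {F : Type*} [Field F] [Fintype F] {p : ℕ} [Fact p.Prime] [CharP F p]

/-- **Piece U5**. -/
theorem exists_normalizer_charpoly_threeU (hF : Fintype.card F = p ^ 2) (hp4 : p % 4 = 3)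
    (hp3 : p % 3 = 1) (i : Fˣ) (hi : (i : F) ^ 2 = -1) (x : GL (Fin 4) F)
    (hxU : x ∈ Cfsg.GU 4 F p) (hx3 : x ^ 3 = 1) (hx1 : x ≠ 1) :
    ∃ y : GL (Fin 4) F, y ∈ Subgroup.normalizer (R0 i : Set (GL (Fin 4) F)) ∧
      (y : Matrix (Fin 4) (Fin 4) F).charpoly = (x : Matrix (Fin 4) (Fin 4) F).charpoly ∧
      y ^ 3 = 1 := by
  have hpp : p.Prime := Fact.out
  have hp5 : 5 ≤ p := by
    have := hpp.two_le
    omega
  have h2 : (2 : F) ≠ 0 := two_ne_zero_of_mod_four hp4
  -- a primitive cube root of unity fixed by the Frobenius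
  obtain ⟨ω, hω, hωp⟩ : ∃ ω : F, ω ^ 2 + ω + 1 = 0 ∧ ω ^ p = ω := by
    haveI : Fact (Nat.Prime 3) := ⟨Nat.prime_three⟩
    have hdvd : 3 ∣ Nat.card Fˣ := by
      rw [Nat.card_units, Nat.card_eq_fintype_card, hF]
      have : p ^ 2 - 1 = (p + 1) * (p - 1) := by
        have := Nat.sq_sub_sq p 1
        rw [one_pow] at this
        exact this
      rw [this]
      exact Dvd.dvd.mul_left (by omega) _
    obtain ⟨u, hu⟩ := exists_prime_orderOf_dvd_card' 3 hdvd
    have hu3 : (u : F) ^ 3 = 1 := by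
      rw [← Units.val_pow_eq_pow_val, ← hu, pow_orderOf_eq_one, Units.val_one]
    have hu1 : (u : F) ≠ 1 := by
      intro h
      have : u = 1 := Units.ext h
      rw [this, orderOf_one] at hu
      norm_num at hu
    refine ⟨(u : F), ?_, ?_⟩
    · have : ((u : F) - 1) * ((u : F) ^ 2 + u + 1) = 0 := by linear_combination hu3
      rcases mul_eq_zero.1 this with h | h
      · exact absurd (sub_eq_zero.1 h) hu1
      · exact h
    · obtain ⟨k, hk⟩ : ∃ k, p = 3 * k + 1 := ⟨p / 3, by omega⟩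
      rw [hk, pow_succ, pow_mul, hu3, one_pow, one_mul]
  -- `tr x⁻¹ = tr x`
  have h3 : (3 : F) ≠ 0 := by
    intro h
    have h' : ((3 : ℕ) : F) = 0 := by exact_mod_cast h
    rw [CharP.cast_eq_zero_iff F p 3] at h'
    have := Nat.le_of_dvd (by norm_num) h'
    omega
  have htrx : ((x⁻¹ : GL (Fin 4) F) : Matrix (Fin 4) (Fin 4) F).trace =
      (x : Matrix (Fin 4) (Fin 4) F).trace := by
    obtain ⟨a, b, c, -, -, htx, -, -⟩ := three_data h3 ω hω x hx3
    rw [trace_inv_of_mem_GU hF hxU, htx]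
    have := frobenius_def (R := F) p ((a : F) + (b : F) * ω + (c : F) * ω ^ 2)
    rw [← this]
    simp only [map_add, map_mul, map_natCast, map_pow, frobenius_def, hωp]
  obtain ⟨a, b, hab, ha, htx, -⟩ := three_cases hp5 ω hω x hx3 htrx
  have ha4 : a ≠ 4 := by
    rw [ha]
    exact Cfsg.Agent.Helper15.Sym4Q3.kdim_one_ne_four x hx1
  have hb : b = 1 ∨ b = 2 := by omega
  rcases hb with hb | hb
  · -- `y1`
    have ha2 : a = 2 := by omega
    set y := Cfsg.Agent.Helper12.Sym4E.Y1 (i : F) hi h2 with hy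
    have hyN : y ∈ Subgroup.normalizer (R0 i : Set (GL (Fin 4) F)) := by
      apply Cfsg.Agent.Helper12.Sym4E.mem_norm_of_rel i y (sc i * (A1 * B1)) (sc i * (A2 * B2)) A1 A2
        (mul_mem (sc_mem_R0 i) (mul_mem (A1_mem_R0 i) (B1_mem_R0 i)))
        (mul_mem (sc_mem_R0 i) (mul_mem (A2_mem_R0 i) (B2_mem_R0 i)))
        (A1_mem_R0 i) (A2_mem_R0 i)
      · exact Cfsg.Agent.Helper12.Sym4E.Y1m_A1 _ hi h2
      · exact Cfsg.Agent.Helper12.Sym4E.Y1m_A2 _ hi h2
      · exact Cfsg.Agent.Helper12.Sym4E.Y1m_B1 _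
      · exact Cfsg.Agent.Helper12.Sym4E.Y1m_B2 _
    have hy3 : y ^ 3 = 1 := by
      apply Units.ext
      rw [Units.val_pow_eq_pow_val]
      show Cfsg.Agent.Helper12.Sym4E.Y1m (i : F) ^ 3 = 1
      rw [pow_succ, pow_two, Cfsg.Agent.Helper12.Sym4E.Y1m_mul_self _ hi h2,
        Cfsg.Agent.Helper12.Sym4E.Y1sq_mul _ hi h2]
    have hty : (y : Matrix (Fin 4) (Fin 4) F).trace = 1 := by
      show (Cfsg.Agent.Helper12.Sym4E.Y1m (i : F)).trace = 1
      simp only [Matrix.trace, Fin.sum_univ_four, Matrix.diag, Cfsg.Agent.Helper12.Sym4E.Y1m]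
      simp
      field_simp
      ring
    have htyi : ((y⁻¹ : GL (Fin 4) F) : Matrix (Fin 4) (Fin 4) F).trace = 1 := by
      show (Cfsg.Agent.Helper12.Sym4E.Y1sq (i : F)).trace = 1
      simp only [Matrix.trace, Fin.sum_univ_four, Matrix.diag, Cfsg.Agent.Helper12.Sym4E.Y1sq]
      simp
      field_simp
      ring
    refine ⟨y, hyN, ?_, hy3⟩
    apply charpoly_eq_of_trace_three hp5 ω hω x y hx3 hy3 htrx (by rw [hty, htyi])
    rw [hty, htx, ha2, hb]
    norm_num
  · -- `y0`
    have ha0 : a = 0 := by omega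
    set y := Cfsg.Agent.Helper12.Sym4E.Y0 (i : F) hi h2 with hy
    have hyN : y ∈ Subgroup.normalizer (R0 i : Set (GL (Fin 4) F)) := by
      apply Cfsg.Agent.Helper12.Sym4E.mem_norm_of_rel i y (sc i * (A1 * B1)) A2 A1 B2
        (mul_mem (sc_mem_R0 i) (mul_mem (A1_mem_R0 i) (B1_mem_R0 i))) (A2_mem_R0 i)
        (A1_mem_R0 i) (B2_mem_R0 i)
      · exact Cfsg.Agent.Helper12.Sym4E.Y0m_A1 _ hi h2
      · exact Cfsg.Agent.Helper12.Sym4E.Y0m_A2 _
      · exact Cfsg.Agent.Helper12.Sym4E.Y0m_B1 _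
      · exact Cfsg.Agent.Helper12.Sym4E.Y0m_B2 _
    have hq := Cfsg.Agent.Helper12.Sym4E.Y0m_quad (i : F) hi h2
    set M := Cfsg.Agent.Helper12.Sym4E.Y0m (i : F) with hM
    have hM2 : M * M = -M - 1 := by
      rw [← sub_eq_zero, ← hq]; abel
    have hy3 : y ^ 3 = 1 := by
      apply Units.ext
      rw [Units.val_pow_eq_pow_val, Units.val_one]
      show M ^ 3 = 1
      rw [pow_succ, pow_two, hM2, sub_mul, neg_mul, hM2, one_mul]
      abel
    have hty : (y : Matrix (Fin 4) (Fin 4) F).trace = -2 := by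
      show M.trace = -2
      rw [hM]
      simp only [Matrix.trace, Fin.sum_univ_four, Matrix.diag, Cfsg.Agent.Helper12.Sym4E.Y0m]
      simp
      field_simp
      ring
    have htyi : ((y⁻¹ : GL (Fin 4) F) : Matrix (Fin 4) (Fin 4) F).trace = -2 := by
      show (-M - 1).trace = -2
      rw [Matrix.trace_sub, Matrix.trace_neg, Matrix.trace_one, Fintype.card_fin]
      have : M.trace = -2 := hty
      rw [this]
      norm_num
    refine ⟨y, hyN, ?_, hy3⟩
    apply charpoly_eq_of_trace_three hp5 ω hω x y hx3 hy3 htrx (by rw [hty, htyi])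
    rw [hty, htx, ha0, hb]
    norm_num

end main

end Cfsg.Agent.Helper17.USym4
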