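import Mathlib
import Cfsg.Agent.Lib.Helper17.USym4E

/-!
# Piece U6 of S6001: elements of order five of `GU₄(p)`, `p ≡ ±2 (mod 5)` (helper17)
-/

set_option autoImplicit false
set_option linter.unusedSectionVars false
set_option linter.unusedVariables false

namespace Cfsg.Agent.Helper17.USym4

open Matrix Polynomial Module Cfsg.Agent.Helper17.Sym4 Cfsg.Agent.Helper13.SS

section arith

variable {F : Type*} [Field F] [Fintype F] {p : ℕ} [Fact p.Prime] [CharP F p]

theorem zmod5_sq_aux : ∀ b : ZMod 5, (b * b) ^ 2 ≠ 1 → (b * b) ^ 4 = 1 → False := by decide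

theorem ne_five_of_ord (hord : orderOf (p : ZMod 5) = 4) : p ≠ 5 := by
  intro h5
  have h4 : (p : ZMod 5) ^ 4 = 1 := by rw [← hord]; exact pow_orderOf_eq_one _
  rw [h5, ZMod.natCast_self, zero_pow (by norm_num)] at h4
  exact absurd h4 (by decide)

theorem five_ne_zero_of_ord (hord : orderOf (p : ZMod 5) = 4) : (5 : F) ≠ 0 := by
  have hpp : p.Prime := Fact.out
  intro h
  have h' : ((5 : ℕ) : F) = 0 := by exact_mod_cast h
  rw [CharP.cast_eq_zero_iff F p 5] at h'
  exact ne_five_of_ord hord ((Nat.prime_dvd_prime_iff_eq hpp Nat.prime_five).1 h')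

/-- `5` is not a square modulo `p`. -/
theorem not_isSquare_five (hp2 : p ≠ 2) (hord : orderOf (p : ZMod 5) = 4) :
    ¬ IsSquare ((5 : ℕ) : ZMod p) := by
  haveI : Fact (Nat.Prime 5) := ⟨Nat.prime_five⟩
  intro h
  have h1 := (ZMod.exists_sq_eq_prime_iff_of_mod_four_eq_one (p := 5) (q := p) (by norm_num)
    hp2).2 h
  obtain ⟨b, hb⟩ := h1
  have h2 : (p : ZMod 5) ^ 2 ≠ 1 := by
    intro h2
    have := orderOf_dvd_of_pow_eq_one h2
    rw [hord] at this
    omega
  have h4 : (p : ZMod 5) ^ 4 = 1 := by rw [← hord]; exact pow_orderOf_eq_one _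
  rw [hb] at h2 h4
  exact zmod5_sq_aux b h2 h4

/-- `5` does not divide `p ^ 2 - 1`. -/
theorem five_not_dvd (hord : orderOf (p : ZMod 5) = 4) : ¬ 5 ∣ p ^ 2 - 1 := by
  have hpp : p.Prime := Fact.out
  intro hd
  have h2 : (p : ZMod 5) ^ 2 = 1 := by
    have h1 : ((p ^ 2 - 1 : ℕ) : ZMod 5) = 0 := (ZMod.natCast_eq_zero_iff _ _).2 hd
    have h3 : p ^ 2 = (p ^ 2 - 1) + 1 := by
      have : 1 ≤ p ^ 2 := Nat.one_le_pow _ _ hpp.pos
      omega
    have h4 : ((p ^ 2 : ℕ) : ZMod 5) = 1 := by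
      rw [h3, Nat.cast_add, h1, zero_add, Nat.cast_one]
    rw [← h4, Nat.cast_pow]
  have := orderOf_dvd_of_pow_eq_one h2
  rw [hord] at this
  omega

/-- `5` is a square in the field with `p ^ 2` elements. -/
theorem exists_sqrt_five (hF : Fintype.card F = p ^ 2) (hp4 : p % 4 = 3)
    (hord : orderOf (p : ZMod 5) = 4) : ∃ s : F, s * s = 5 := by
  have hpp : p.Prime := Fact.out
  have h5 := five_ne_zero_of_ord (F := F) hord
  have hchar : ringChar F ≠ 2 := by
    rw [ringChar.eq F p]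
    omega
  have hsq : IsSquare (5 : F) := by
    rw [FiniteField.isSquare_iff hchar h5, hF]
    -- `5 ^ (p - 1) = 1`
    have h1 : (5 : F) ^ (p - 1) = 1 := by
      have h50 : (5 : ZMod p) ≠ 0 := by
        intro h
        have h' : ((5 : ℕ) : ZMod p) = 0 := by exact_mod_cast h
        rw [ZMod.natCast_eq_zero_iff] at h'
        exact ne_five_of_ord hord ((Nat.prime_dvd_prime_iff_eq hpp Nat.prime_five).1 h')
      have := congrArg (ZMod.castHom (dvd_refl p) F) (ZMod.pow_card_sub_one_eq_one h50)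
      rw [map_pow, map_one, map_ofNat] at this
      exact this
    obtain ⟨k, hk⟩ : ∃ k, p + 1 = 4 * k := ⟨(p + 1) / 4, by omega⟩
    have h2 : p ^ 2 / 2 = (p - 1) * (2 * k) := by
      have h3 : p ^ 2 = (p - 1) * (p + 1) + 1 := by
        have : 1 ≤ p := hpp.pos
        obtain ⟨m, rfl⟩ : ∃ m, p = m + 1 := ⟨p - 1, by omega⟩
        simp only [Nat.add_sub_cancel]
        ring
      rw [h3, hk]
      have : (p - 1) * (4 * k) + 1 = 2 * ((p - 1) * (2 * k)) + 1 := by ring
      rw [this]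
      omega
    rw [h2, pow_mul, h1, one_pow]
  obtain ⟨s, hs⟩ := hsq
  exact ⟨s, hs.symm⟩

/-- The golden ratio in `F`, and its Frobenius conjugate. -/
theorem exists_goldenU (hF : Fintype.card F = p ^ 2) (hp4 : p % 4 = 3)
    (hord : orderOf (p : ZMod 5) = 4) :
    ∃ τ : F, τ ^ 2 + τ - 1 = 0 ∧ τ ^ p = -1 - τ := by
  have hpp : p.Prime := Fact.out
  have hp2 : p ≠ 2 := by omega
  have h2 : (2 : F) ≠ 0 := two_ne_zero_of_mod_four hp4
  obtain ⟨s, hs⟩ := exists_sqrt_five hF hp4 hord
  set τ : F := (-1 + s) / 2 with hτ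
  have hτ2 : τ ^ 2 + τ - 1 = 0 := by
    rw [hτ]
    field_simp
    linear_combination hs
  refine ⟨τ, hτ2, ?_⟩
  -- `τ ^ p` is a root as well
  have h1 : (τ ^ p) ^ 2 + τ ^ p - 1 = 0 := by
    have := congrArg (frobenius F p) hτ2
    simp only [map_add, map_sub, map_pow, map_one, map_zero, frobenius_def] at this
    rw [← this]
  have h3 : (τ ^ p - τ) * (τ ^ p - (-1 - τ)) = 0 := by linear_combination h1 - hτ2
  rcases mul_eq_zero.1 h3 with h | h
  · exfalso
    have h4 : τ ^ p = τ := sub_eq_zero.1 h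
    have h5 : τ ∈ (⊥ : Subfield F) := (Subfield.mem_bot_iff_pow_eq_self F p).2 h4
    rw [← ZMod.fieldRange_castHom_eq_bot p] at h5
    obtain ⟨t, ht⟩ := h5
    have h6 : t ^ 2 + t - 1 = 0 := by
      apply (ZMod.castHom (dvd_refl p) F).injective
      rw [map_sub, map_add, map_pow, map_one, map_zero, ht]
      exact hτ2
    apply not_isSquare_five hp2 hord
    refine ⟨2 * t + 1, ?_⟩
    push_cast
    linear_combination (-4 : ZMod p) * h6
  · exact sub_eq_zero.1 h

end arith

section poly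

variable {F : Type*} [Field F]

/-- the quadratic `X ^ 2 - τ X + 1` -/
noncomputable def qf (τ : F) : F[X] := X ^ 2 - C τ * X + 1

theorem qf_natDegree (τ : F) : (qf τ).natDegree = 2 := by
  unfold qf
  compute_degree!

theorem qf_monic (τ : F) : (qf τ).Monic := by
  unfold qf
  monicity!

theorem qf_nextCoeff (τ : F) : (qf τ).nextCoeff = -τ := by
  rw [nextCoeff_of_natDegree_pos (by rw [qf_natDegree]; norm_num), qf_natDegree]
  unfold qf
  simp [coeff_X, coeff_one]

theorem qf_eval (τ ζ : F) : (qf τ).eval ζ = ζ ^ 2 - τ * ζ + 1 := by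
  unfold qf
  simp

theorem qf_ne {τ τ' : F} (h : τ ≠ τ') : qf τ ≠ qf τ' := by
  intro h1
  apply h
  have := congrArg nextCoeff h1
  rw [qf_nextCoeff, qf_nextCoeff] at this
  exact neg_injective this

theorem qf_mul (τ : F) (hτ : τ ^ 2 + τ - 1 = 0) :
    qf τ * qf (-1 - τ) = X ^ 4 + X ^ 3 + X ^ 2 + X + 1 := by
  have hC : (C τ : F[X]) ^ 2 + C τ - 1 = 0 := by
    rw [← C_pow, ← C_add, ← C_1, ← C_sub, hτ, C_0]
  unfold qf
  rw [C_sub, C_neg, C_1]
  linear_combination (-(X : F[X]) ^ 2) * hC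

theorem X_sub_one_mul_qf (τ : F) (hτ : τ ^ 2 + τ - 1 = 0) :
    (X - C (1 : F)) * (qf τ * qf (-1 - τ)) = X ^ 5 - 1 := by
  rw [qf_mul τ hτ, C_1]
  ring

theorem X_sub_one_ne_qf (τ : F) : (X - C (1 : F)) ≠ qf τ := by
  intro h
  have := congrArg natDegree h
  rw [natDegree_X_sub_C, qf_natDegree] at this
  omega

/-- a root of `qf τ` is a primitive fifth root of unity -/
theorem pow_five_of_root (τ : F) (hτ : τ ^ 2 + τ - 1 = 0) (ζ : F) (hζ : ζ ^ 2 - τ * ζ + 1 = 0) :
    ζ ^ 5 = 1 := by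
  have := congrArg (Polynomial.eval ζ) (X_sub_one_mul_qf τ hτ)
  rw [eval_mul, eval_mul, qf_eval, hζ] at this
  simp at this
  linear_combination -this

theorem irreducible_qf [Fintype F] {p : ℕ} [Fact p.Prime] [CharP F p]
    (hF : Fintype.card F = p ^ 2) (hord : orderOf (p : ZMod 5) = 4) (τ : F)
    (hτ : τ ^ 2 + τ - 1 = 0) : Irreducible (qf τ) := by
  apply irreducible_of_degree_le_three_of_not_isRoot
  · rw [qf_natDegree]; decide
  · intro ζ hζ
    rw [IsRoot, qf_eval] at hζ
    have h5 := pow_five_of_root τ hτ ζ hζ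
    have hζ0 : ζ ≠ 0 := by
      rintro rfl
      simp at h5
    have hζ1 : ζ ≠ 1 := by
      rintro rfl
      have h50 := five_ne_zero_of_ord (F := F) hord
      apply h50
      have h2 : τ = 2 := by linear_combination -hζ
      rw [h2] at hτ
      linear_combination hτ
    set u : Fˣ := Units.mk0 ζ hζ0 with hu
    have hu5 : u ^ 5 = 1 := by
      apply Units.ext
      rw [Units.val_pow_eq_pow_val, Units.val_one]
      exact h5
    have hu1 : u ≠ 1 := by
      intro h
      apply hζ1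
      have h' : (u : F) = ((1 : Fˣ) : F) := by rw [h]
      rw [hu, Units.val_mk0, Units.val_one] at h'
      exact h'
    haveI : Fact (Nat.Prime 5) := ⟨Nat.prime_five⟩
    have ho : orderOf u = 5 := orderOf_eq_prime hu5 hu1
    have hd : 5 ∣ Nat.card Fˣ := by
      rw [← ho]
      exact orderOf_dvd_natCard u
    rw [Nat.card_units, Nat.card_eq_fintype_card, hF] at hd
    exact five_not_dvd hord hd

end poly

section inv

variable {F : Type*} [Field F]

theorem L_mul_inv (x : GL (Fin 4) F) : L x * L x⁻¹ = 1 := by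
  rw [← Cfsg.Agent.Helper13.SS.L_mul, mul_inv_cancel, L_one]

theorem L_inv_mul (x : GL (Fin 4) F) : L x⁻¹ * L x = 1 := by
  rw [← Cfsg.Agent.Helper13.SS.L_mul, inv_mul_cancel, L_one]

theorem kdim_inv_qf (x : GL (Fin 4) F) (τ : F) :
    kdim (L x⁻¹) (qf τ) = kdim (L x) (qf τ) := by
  set A := L x with hA
  set B := L x⁻¹ with hB
  have hAB : A * B = 1 := L_mul_inv x
  have hBA : B * A = 1 := L_inv_mul x
  set c : Module.End F (Fin 4 → F) := algebraMap F _ τ with hc
  have hcB : B * c = c * B := (Algebra.commutes τ B).symm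
  have e1 : B ^ 2 * A ^ 2 = 1 := by
    rw [pow_two, pow_two]
    calc B * B * (A * A) = B * (B * A) * A := by simp only [mul_assoc]
      _ = 1 := by rw [hBA, mul_one, hBA]
  have e2 : B ^ 2 * (c * A) = c * B := by
    rw [pow_two]
    calc B * B * (c * A) = B * (B * c) * A := by simp only [mul_assoc]
      _ = B * (c * B) * A := by rw [hcB]
      _ = (B * c) * (B * A) := by simp only [mul_assoc]
      _ = c * B := by rw [hBA, mul_one, hcB]
  have key : aeval B (qf τ) = B ^ 2 * aeval A (qf τ) := by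
    unfold qf
    simp only [map_add, map_sub, map_mul, map_pow, aeval_X, aeval_C, map_one]
    rw [mul_add, mul_sub, e1, e2, mul_one]
    abel
  unfold kdim
  rw [key, ker_pow_mul A B _ hAB 2]

theorem kdim_inv_one (x : GL (Fin 4) F) :
    kdim (L x⁻¹) (X - C (1 : F)) = kdim (L x) (X - C (1 : F)) := by
  set A := L x with hA
  set B := L x⁻¹ with hB
  have hAB : A * B = 1 := L_mul_inv x
  have hBA : B * A = 1 := L_inv_mul x
  unfold kdim
  have hker : LinearMap.ker (aeval B (X - C (1 : F))) =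
      LinearMap.ker (aeval A (X - C (1 : F))) := by
    ext v
    simp only [LinearMap.mem_ker, map_sub, aeval_X, aeval_C, map_one, LinearMap.sub_apply,
      Module.End.one_apply, sub_eq_zero]
    constructor
    · intro h
      have := congrArg A h
      rw [← Module.End.mul_apply, hAB, Module.End.one_apply] at this
      exact this.symm
    · intro h
      have := congrArg B h
      rw [← Module.End.mul_apply, hBA, Module.End.one_apply] at this
      exact this.symm
  rw [hker]

end inv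

section classify

variable {F : Type*} [Field F] [Fintype F] {p : ℕ} [Fact p.Prime] [CharP F p]

/-- **Classification**: a nontrivial element of order five of `GU₄(p)`, `p ≡ ±2 (mod 5)`, has
characteristic polynomial `X⁴ + X³ + X² + X + 1`. -/
theorem charpoly_of_pow_five (hF : Fintype.card F = p ^ 2) (hp4 : p % 4 = 3)
    (hord : orderOf (p : ZMod 5) = 4) {x : GL (Fin 4) F} (hxU : x ∈ Cfsg.GU 4 F p)
    (hx5 : x ^ 5 = 1) (hx1 : x ≠ 1) :
    (x : Matrix (Fin 4) (Fin 4) F).charpoly = X ^ 4 + X ^ 3 + X ^ 2 + X + 1 := by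
  classical
  have hpp : p.Prime := Fact.out
  have h5F := five_ne_zero_of_ord (F := F) hord
  obtain ⟨τ, hτ, hτp⟩ := exists_goldenU hF hp4 hord
  set τ' : F := -1 - τ with hτ'
  have hτ'2 : τ' ^ 2 + τ' - 1 = 0 := by rw [hτ']; linear_combination hτ
  have hτ'p : τ' ^ p = τ := by
    have := congrArg (frobenius F p) hτ'
    simp only [map_sub, map_neg, map_one, frobenius_def] at this
    rw [this, hτp]
    ring
  have hne : τ ≠ τ' := by
    intro h
    apply h5F
    have h1 : 2 * τ + 1 = 0 := by rw [hτ'] at h; linear_combination h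
    linear_combination (2 * τ + 1) * h1 - 4 * hτ
  -- the three factors
  have hn01 : (X - C (1 : F)) ≠ qf τ := X_sub_one_ne_qf τ
  have hn02 : (X - C (1 : F)) ≠ qf τ' := X_sub_one_ne_qf τ'
  have hn12 : qf τ ≠ qf τ' := qf_ne hne
  set S : Finset F[X] := {X - C (1 : F), qf τ, qf τ'} with hS
  have hirr : ∀ f ∈ S, Irreducible f := by
    intro f hf
    rw [hS, Finset.mem_insert, Finset.mem_insert, Finset.mem_singleton] at hf
    rcases hf with rfl | rfl | rfl
    · exact irreducible_X_sub_C 1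
    · exact irreducible_qf hF hord τ hτ
    · exact irreducible_qf hF hord τ' hτ'2
  have hmon : ∀ f ∈ S, f.Monic := by
    intro f hf
    rw [hS, Finset.mem_insert, Finset.mem_insert, Finset.mem_singleton] at hf
    rcases hf with rfl | rfl | rfl
    · exact monic_X_sub_C 1
    · exact qf_monic τ
    · exact qf_monic τ'
  have hnotin : (X - C (1 : F)) ∉ ({qf τ, qf τ'} : Finset F[X]) := by
    rw [Finset.mem_insert, Finset.mem_singleton]
    rintro (h | h)
    · exact hn01 h
    · exact hn02 h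
  have hprod : ∏ f ∈ S, f = X ^ 5 - 1 := by
    rw [hS, Finset.prod_insert hnotin, Finset.prod_pair hn12, hτ', X_sub_one_mul_qf τ hτ]
  have hsumS : ∀ g : F[X] → ℕ, ∑ f ∈ S, g f = g (X - C (1 : F)) + (g (qf τ) + g (qf τ')) := by
    intro g
    rw [hS, Finset.sum_insert hnotin, Finset.sum_pair hn12]
  have hsumF : ∀ g : F[X] → F, ∑ f ∈ S, g f = g (X - C (1 : F)) + (g (qf τ) + g (qf τ')) := by
    intro g
    rw [hS, Finset.sum_insert hnotin, Finset.sum_pair hn12]
  have hkx : aeval (L x) (∏ f ∈ S, f) = 0 := by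
    rw [hprod]; exact (pow_eq_one_iff x 5).1 hx5
  have hxi5 : x⁻¹ ^ 5 = 1 := by rw [inv_pow, hx5, inv_one]
  have hkxi : aeval (L x⁻¹) (∏ f ∈ S, f) = 0 := by
    rw [hprod]; exact (pow_eq_one_iff x⁻¹ 5).1 hxi5
  set k0 := kdim (L x) (X - C (1 : F)) with hk0
  set k1 := kdim (L x) (qf τ) with hk1
  set k2 := kdim (L x) (qf τ') with hk2
  have hsum : 4 = k0 + (k1 + k2) := by
    have := finrank_eq_sum_kdim (L x) S (pairwise_coprime_of_monic_irreducible S hirr hmon) hkx
    rw [Module.finrank_fin_fun, hsumS] at this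
    exact this
  obtain ⟨a, ha⟩ : 2 ∣ k1 := by
    have := dvd_kdim (L x) (qf τ) (irreducible_qf hF hord τ hτ)
    rwa [qf_natDegree] at this
  obtain ⟨b, hb⟩ : 2 ∣ k2 := by
    have := dvd_kdim (L x) (qf τ') (irreducible_qf hF hord τ' hτ'2)
    rwa [qf_natDegree] at this
  have hda : 2 * a / 2 = a := by omega
  have hdb : 2 * b / 2 = b := by omega
  -- the traces
  have htx : (x : Matrix (Fin 4) (Fin 4) F).trace = (k0 : F) + (a : F) * τ + (b : F) * τ' := by
    rw [trace_eq_neg_sum x S hirr hmon hkx, hsumF, natDegree_X_sub_C, qf_natDegree, qf_natDegree,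
      nextCoeff_X_sub_C, qf_nextCoeff, qf_nextCoeff, ← hk0, ← hk1, ← hk2, ha, hb, Nat.div_one,
      hda, hdb]
    simp only [nsmul_eq_mul]
    ring
  have htxi : ((x⁻¹ : GL (Fin 4) F) : Matrix (Fin 4) (Fin 4) F).trace =
      (k0 : F) + (a : F) * τ + (b : F) * τ' := by
    rw [trace_eq_neg_sum x⁻¹ S hirr hmon hkxi, hsumF, natDegree_X_sub_C, qf_natDegree,
      qf_natDegree, nextCoeff_X_sub_C, qf_nextCoeff, qf_nextCoeff, kdim_inv_one, kdim_inv_qf,
      kdim_inv_qf, ← hk0, ← hk1, ← hk2, ha, hb, Nat.div_one, hda, hdb]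
    simp only [nsmul_eq_mul]
    ring
  have hK := trace_inv_of_mem_GU hF hxU
  rw [htxi, htx] at hK
  have hfrob : ((k0 : F) + (a : F) * τ + (b : F) * τ') ^ p =
      (k0 : F) + (a : F) * τ' + (b : F) * τ := by
    have := frobenius_def (R := F) p ((k0 : F) + (a : F) * τ + (b : F) * τ')
    rw [← this]
    simp only [map_add, map_mul, map_natCast, frobenius_def, hτp, hτ'p]
  rw [hfrob] at hK
  have hab : (a : F) = (b : F) := by
    have h1 : ((a : F) - (b : F)) * (τ - τ') = 0 := by linear_combination hK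
    rcases mul_eq_zero.1 h1 with h | h
    · exact sub_eq_zero.1 h
    · exact absurd (sub_eq_zero.1 h) hne
  have hp3 : 3 ≤ p := by
    have := hpp.two_le
    omega
  have hab' : a = b := natCast_inj_of_lt (F := F) (p := p) (by omega) (by omega) hab
  have hk04 : k0 ≠ 4 := Cfsg.Agent.Helper15.Sym4Q3.kdim_one_ne_four x hx1
  have ha1 : a = 1 := by omega
  have hb1 : b = 1 := by omega
  have hk00 : k0 = 0 := by omega
  have hchar := charpoly_eq_prod S hirr hmon (L x) hkx
  rw [charpoly_L] at hchar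
  rw [hchar, hS, Finset.prod_insert hnotin, Finset.prod_pair hn12, ← hk0, ← hk1, ← hk2, ha, hb,
    hk00, ha1, hb1, qf_natDegree, qf_natDegree]
  simp only [Nat.zero_div, pow_zero, one_mul, mul_one, Nat.div_self (by norm_num : 0 < 2), pow_one]
  rw [hτ', qf_mul τ hτ]

/-- **Piece U6**. -/
theorem exists_normalizer_charpoly_fiveU (hF : Fintype.card F = p ^ 2) (hp4 : p % 4 = 3)
    (hord : orderOf (p : ZMod 5) = 4) (i : Fˣ) (hi : (i : F) ^ 2 = -1) (x : GL (Fin 4) F)
    (hxU : x ∈ Cfsg.GU 4 F p) (hx5 : x ^ 5 = 1) (hx1 : x ≠ 1) :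
    ∃ y : GL (Fin 4) F, y ∈ Subgroup.normalizer (R0 i : Set (GL (Fin 4) F)) ∧
      (y : Matrix (Fin 4) (Fin 4) F).charpoly = (x : Matrix (Fin 4) (Fin 4) F).charpoly ∧
      y ^ 5 = 1 := by
  have h2 : (2 : F) ≠ 0 := two_ne_zero_of_mod_four hp4
  obtain ⟨y5, hN, ⟨c, hc⟩, hns⟩ := Cfsg.Agent.Helper12.Sym4E.exists_y5 i hi h2
  -- `c` is a unit
  have hc0 : c ≠ 0 := by
    intro h0
    have h1 : ((y5 ^ 5 * (y5 ^ 5)⁻¹ : GL (Fin 4) F) : Matrix (Fin 4) (Fin 4) F) = 1 := by
      rw [mul_inv_cancel, Units.val_one]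
    rw [Units.val_mul, hc, h0, zero_smul, Matrix.zero_mul] at h1
    exact zero_ne_one h1
  -- fifth roots
  have hcop : (Nat.card Fˣ).Coprime 5 := by
    rw [Nat.card_units, Nat.card_eq_fintype_card, hF]
    apply Nat.Coprime.symm
    rw [Nat.Prime.coprime_iff_not_dvd (by norm_num : Nat.Prime 5)]
    exact five_not_dvd hord
  obtain ⟨u, hu⟩ := (powCoprime hcop).surjective (Units.mk0 c hc0)⁻¹
  have hu5 : u ^ 5 = (Units.mk0 c hc0)⁻¹ := hu
  have hcm : Commute (sc u) y5 := Cfsg.Agent.Helper15.Sym4Q3.sc_comm u y5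
  have hy5 : (sc u * y5) ^ 5 = 1 := by
    rw [hcm.mul_pow, Cfsg.Agent.Helper15.Sym4Q3.sc_pow, hu5]
    apply Units.ext
    rw [Units.val_mul, hc, sc_val, Matrix.smul_mul, Matrix.one_mul, smul_smul, Units.val_one,
      Units.val_inv_eq_inv_val, Units.val_mk0, inv_mul_cancel₀ hc0, one_smul]
  have hy1 : sc u * y5 ≠ 1 := by
    intro h
    have h1 : y5 = sc u⁻¹ := by
      have := congrArg (fun t => sc u⁻¹ * t) h
      simp only [mul_one] at this
      rw [← this, ← mul_assoc]
      have e : (sc u⁻¹ : GL (Fin 4) F) * sc u = 1 := by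
        apply Units.ext
        rw [Units.val_mul, sc_val, sc_val, Matrix.smul_mul, Matrix.one_mul, smul_smul,
          ← Units.val_mul, inv_mul_cancel, Units.val_one, one_smul, Units.val_one]
      rw [e, one_mul]
    exact hns _ (by rw [h1, sc_val])
  have hyN : sc u * y5 ∈ Subgroup.normalizer (R0 i : Set (GL (Fin 4) F)) :=
    mul_mem (Cfsg.Agent.Helper15.Sym4Q3.sc_mem_normalizer i u) hN
  -- the determinant of `y` is one
  have hdet : ((sc u * y5 : GL (Fin 4) F) : Matrix (Fin 4) (Fin 4) F).det = 1 := by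
    have h1 : (Matrix.GeneralLinearGroup.det (sc u * y5)) ^ 5 = 1 := by
      rw [← map_pow, hy5, map_one]
    have h3 : (powCoprime hcop) (Matrix.GeneralLinearGroup.det (sc u * y5)) =
        (powCoprime hcop) 1 := by
      show (Matrix.GeneralLinearGroup.det (sc u * y5)) ^ 5 = 1 ^ 5
      rw [h1, one_pow]
    have h4 := (powCoprime hcop).injective h3
    have h5 := congrArg Units.val h4
    rwa [Matrix.GeneralLinearGroup.val_det_apply, Units.val_one] at h5
  have hyU : sc u * y5 ∈ Cfsg.GU 4 F p :=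
    mem_GU_of_mem_normalizer_R0 hF hp4 i hi hyN hdet (by decide : Odd 5) hy5
  refine ⟨sc u * y5, hyN, ?_, hy5⟩
  rw [charpoly_of_pow_five hF hp4 hord hyU hy5 hy1, charpoly_of_pow_five hF hp4 hord hxU hx5 hx1]

end classify

end Cfsg.Agent.Helper17.USym4
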