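import Mathlib
import Cfsg.Agent.Lib.Helper17.USym4C
import Cfsg.Agent.Lib.Helper17.Sym4W
import Cfsg.Agent.Lib.Helper10.USym4U1
import Cfsg.Agent.Lib.Helper10.USym4U2
import Cfsg.Agent.Lib.Helper17.USym4F
import Cfsg.Agent.Lib.Helper17.USym4G
import Cfsg.Agent.Lib.Helper16.USym4U4
import Cfsg.Agent.Lib.Helper16.USym4U3

/-!
# S6001: both directions (helper17)
-/

set_option autoImplicit false
set_option linter.unusedSectionVars false
set_option linter.unusedVariables false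

namespace Cfsg.Agent.Helper17.USym4

open Matrix Cfsg.Agent.Helper17.ExtraEig Cfsg.Agent.Helper17.Sym4 Cfsg.Agent.Helper11.Herm

variable {F : Type*} [Field F] [Fintype F] {p : ℕ} [Fact p.Prime] [CharP F p]
  {R : Subgroup (GL (Fin 4) F)}

/-- The "only if" direction. -/
theorem forwardU (hF : Fintype.card F = p ^ 2) (hp4 : p % 4 = 3) (hS : SymData R) {r : ℕ}
    [hr : Fact r.Prime]
    (hΩ : r ∣ (Cfsg.Geo.subgroupNormalizer R).relIndex
      (Cfsg.GU 4 F p ⊓ Cfsg.Geo.specialLinear (Fin 4) F))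
    (hall : ∀ x ∈ Cfsg.GU 4 F p ⊓ Cfsg.Geo.specialLinear (Fin 4) F,
      (∃ z : F, ((x ^ r : GL (Fin 4) F) : Matrix (Fin 4) (Fin 4) F) =
        z • (1 : Matrix (Fin 4) (Fin 4) F)) →
      (∀ z : F, (x : Matrix (Fin 4) (Fin 4) F) ≠ z • (1 : Matrix (Fin 4) (Fin 4) F)) →
      ∃ g ∈ Cfsg.GU 4 F p ⊓ Cfsg.Geo.specialLinear (Fin 4) F,
        g⁻¹ * x * g ∈ Cfsg.Geo.subgroupNormalizer R) :
    r = 2 ∨ (r = 3 ∧ p % 3 = 1) ∨ (r = 5 ∧ orderOf (p : ZMod 5) = 4) := by
  classical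
  have hpp : p.Prime := Fact.out
  have hrp : r.Prime := hr.out
  have hp2 : p ≠ 2 := by omega
  haveI : NeZero 4 := ⟨by norm_num⟩
  -- the basic consequence of `hall`
  have key : ∀ x ∈ Cfsg.GU 4 F p ⊓ Cfsg.Geo.specialLinear (Fin 4) F, x ^ r = 1 →
      (∀ z : F, (x : Matrix (Fin 4) (Fin 4) F) ≠ z • (1 : Matrix (Fin 4) (Fin 4) F)) →
      ∃ h : GL (Fin 4) F, h⁻¹ * x * h ∈ Cfsg.Geo.subgroupNormalizer R ∧
        (h⁻¹ * x * h) ^ r = 1 ∧ h⁻¹ * x * h ∉ Cfsg.Geo.scalars (Fin 4) F := by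
    intro x hx hxr hns
    obtain ⟨g, -, hg⟩ := hall x hx ⟨1, by rw [hxr, Units.val_one, one_smul]⟩ hns
    refine ⟨g, hg, ?_, conj_not_scalar ((not_mem_scalars_iff x).2 hns)⟩
    have : g⁻¹ * x * g = g⁻¹ * x * g⁻¹⁻¹ := by rw [inv_inv]
    rw [this, conj_pow, hxr]; group
  by_cases hrp' : r = p
  · -- a transvection
    exfalso
    subst hrp'
    obtain ⟨x, hx, hxr, hns, hdim⟩ :=
      Cfsg.Agent.Helper10.USym4U1.exists_transvectionU (F := F) (p := r) hF hp2
    obtain ⟨h, hgN, hgr, hgs⟩ := key x hx hxr hns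
    set g := h⁻¹ * x * h with hg
    have hE := hS.ext
    have hN := normalizes_RZ hgN
    have hdim' : 3 ≤ Module.finrank F (eig g 1) := by
      have h1 := finrank_eig_conj x h⁻¹ (1 : F)
      rw [inv_inv] at h1
      rw [hg, h1]
      exact hdim
    have hodd : Odd r := hpp.odd_of_ne_two hp2
    by_cases hA : ∀ x ∈ R, ∃ t : F, TC g x t
    · have := caseA hE hpp hgr hgs hA 1
      have h3r : 3 ≤ r := by
        have := hpp.two_le
        omega
      nlinarith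
    · push Not at hA
      obtain ⟨x₀, hx₀, hB⟩ := hA
      have := caseB_coprime hE hN hpp hodd hp2 hgr hx₀ hB 1
      omega
  · by_cases hr2 : r = 2
    · exact Or.inl hr2
    by_cases hr3 : r = 3
    · by_cases hp3 : p % 3 = 1
      · exact Or.inr (Or.inl ⟨hr3, hp3⟩)
      · exfalso
        subst hr3
        have hp3' : p ≠ 3 := fun h => hrp' h.symm
        have hp32 : p % 3 = 2 := by
          have : p % 3 ≠ 0 := by
            intro h0
            have := (Nat.prime_dvd_prime_iff_eq Nat.prime_three hpp).1 (Nat.dvd_of_mod_eq_zero h0)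
            omega
          omega
        have h3 : (3 : F) ≠ 0 := by
          intro h
          have h' : ((3 : ℕ) : F) = 0 := by exact_mod_cast h
          rw [CharP.cast_eq_zero_iff F p 3] at h'
          have := (Nat.prime_dvd_prime_iff_eq hpp Nat.prime_three).1 h'
          omega
        obtain ⟨x, hx, hxr, hns, htr⟩ :=
          Cfsg.Agent.Helper10.USym4U2.exists_x3U (F := F) hF hp32
        obtain ⟨h, hgN, hgr, hgs⟩ := key x hx hxr hns
        have hgr' : (h⁻¹ * x * h) ^ 3 ∈ Cfsg.Geo.scalars (Fin 4) F := by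
          rw [hgr]; exact Subgroup.one_mem _
        have h1 := hS.trace_three hgN hgr' hgs
        have e1 := trace_conj x h
        have e2 : (((h⁻¹ * x * h)⁻¹ : GL (Fin 4) F) : Matrix (Fin 4) (Fin 4) F).trace =
            ((x⁻¹ : GL (Fin 4) F) : Matrix (Fin 4) (Fin 4) F).trace := by
          have : (h⁻¹ * x * h)⁻¹ = h⁻¹ * x⁻¹ * h := by group
          rw [this]; exact trace_conj x⁻¹ h
        rw [e1, e2, htr] at h1
        rcases h1 with h1 | h1
        · have h6 : ((6 : ℕ) : F) = 0 := by push_cast; linear_combination h1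
          rw [CharP.cast_eq_zero_iff F p 6] at h6
          have h7 : p ∣ 2 * 3 := h6
          rcases (Nat.Prime.dvd_mul hpp).1 h7 with h8 | h8
          · have := (Nat.prime_dvd_prime_iff_eq hpp Nat.prime_two).1 h8; omega
          · have := (Nat.prime_dvd_prime_iff_eq hpp Nat.prime_three).1 h8; omega
        · have h6 : ((3 : ℕ) : F) = 0 := by push_cast; linear_combination h1
          exact h3 (by exact_mod_cast h6)
    by_cases hr5 : r = 5
    · by_cases hord : orderOf (p : ZMod 5) = 4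
      · exact Or.inr (Or.inr ⟨hr5, hord⟩)
      · exfalso
        subst hr5
        have hp5' : p ≠ 5 := fun h => hrp' h.symm
        obtain ⟨τ, hτ, x, hx, hxr, hns, htr⟩ :=
          Cfsg.Agent.Helper16.USym4U3.exists_x5U (F := F) hF hp2 hp5' hord
        obtain ⟨h, hgN, hgr, hgs⟩ := key x hx hxr hns
        have hgr' : (h⁻¹ * x * h) ^ 5 ∈ Cfsg.Geo.scalars (Fin 4) F := by
          rw [hgr]; exact Subgroup.one_mem _
        have h1 := hS.trace_five hgN hgr' hgs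
        have e1 := trace_conj x h
        have e2 : (((h⁻¹ * x * h)⁻¹ : GL (Fin 4) F) : Matrix (Fin 4) (Fin 4) F).trace =
            ((x⁻¹ : GL (Fin 4) F) : Matrix (Fin 4) (Fin 4) F).trace := by
          have : (h⁻¹ * x * h)⁻¹ = h⁻¹ * x⁻¹ * h := by group
          rw [this]; exact trace_conj x⁻¹ h
        rw [e1, e2, htr] at h1
        have h5 : ((5 : ℕ) : F) = 0 := by
          push_cast
          linear_combination (3 * τ - 1) * (h1 - hτ) - 9 * hτ
        rw [CharP.cast_eq_zero_iff F p 5] at h5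
        have := (Nat.prime_dvd_prime_iff_eq hpp Nat.prime_five).1 h5
        exact hp5' this
    · -- r ≥ 7
      exfalso
      have hr7 : 7 ≤ r := by
        have := hrp.two_le
        by_contra hcon
        have : r = 4 ∨ r = 6 := by omega
        rcases this with rfl | rfl
        · exact absurd hrp (by norm_num)
        · exact absurd hrp (by norm_num)
      have hdvd : r ∣ Nat.card ↥(Cfsg.GU 4 F p ⊓ Cfsg.Geo.specialLinear (Fin 4) F) :=
        dvd_trans hΩ (Subgroup.index_dvd_card _)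
      obtain ⟨x, hx⟩ := exists_prime_orderOf_dvd_card' r hdvd
      have hxr : (x : GL (Fin 4) F) ^ r = 1 := by
        have := pow_orderOf_eq_one x
        rw [hx] at this
        have h' := congrArg Subtype.val this
        simpa using h'
      have hdet := (mem_specialLinear_iff4 (x : GL (Fin 4) F)).1 (Subgroup.mem_inf.1 x.2).2
      have hns : ∀ z : F, ((x : GL (Fin 4) F) : Matrix (Fin 4) (Fin 4) F) ≠
          z • (1 : Matrix (Fin 4) (Fin 4) F) := by
        intro z hz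
        rw [hz, Matrix.det_smul, Fintype.card_fin, Matrix.det_one, mul_one] at hdet
        have h4 : (x : GL (Fin 4) F) ^ 4 = 1 := by
          apply Units.ext
          rw [Units.val_pow_eq_pow_val, hz, smul_pow, one_pow, hdet, one_smul, Units.val_one]
        have h5 : x ^ 4 = 1 := by
          apply Subtype.ext
          simpa using h4
        have h6 := orderOf_dvd_of_pow_eq_one h5
        rw [hx] at h6
        have := Nat.le_of_dvd (by norm_num) h6
        omega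
      obtain ⟨h, hgN, hgr, hgs⟩ := key x x.2 hxr hns
      have hgr' : (h⁻¹ * x * h) ^ r ∈ Cfsg.Geo.scalars (Fin 4) F := by
        rw [hgr]; exact Subgroup.one_mem _
      exact hgs (hS.scalar_of_seven_le hgN hr7 hgr')

/-- scalars of norm one are unitary -/
theorem sc_mem_GU (hF : Fintype.card F = p ^ 2) {c : Fˣ} (hc : (c : F) * (c : F) ^ p = 1) :
    sc c ∈ Cfsg.GU 4 F p := by
  obtain ⟨φ, hφ⟩ := exists_frob hF
  rw [mem_GU_iff_isU φ hφ, sc_val]
  apply isU_smul_one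
  rw [hφ]
  exact hc

/-- fourth roots of unity have norm one -/
theorem norm_of_pow_four (hp4 : p % 4 = 3) {c : F} (hc : c ^ 4 = 1) : c * c ^ p = 1 := by
  obtain ⟨k, hk⟩ : ∃ k, p + 1 = 4 * k := ⟨(p + 1) / 4, by omega⟩
  rw [← pow_succ', hk, pow_mul, hc, one_pow]

theorem sc_mem_specialLinear {c : Fˣ} (hc : c ^ 4 = 1) :
    sc c ∈ Cfsg.Geo.specialLinear (Fin 4) F := by
  rw [mem_specialLinear_iff4, sc_val, Matrix.det_smul, Matrix.det_one, mul_one, Fintype.card_fin,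
    ← Units.val_pow_eq_pow_val, hc, Units.val_one]

/-- From the unitary standard form: unitary elements of `N(R0 i)` give elements of `N(R)`. -/
theorem conj_via_standardU (hF : Fintype.card F = p ^ 2) {i : Fˣ} {P : GL (Fin 4) F}
    (hPU : P ∈ Cfsg.GU 4 F p)
    (hRP : R = (R0 i).map (MulAut.conj P).toMonoidHom) (x y : GL (Fin 4) F)
    (hx : x ∈ Cfsg.GU 4 F p ⊓ Cfsg.Geo.specialLinear (Fin 4) F)
    (hy : y ∈ Subgroup.normalizer (R0 i : Set (GL (Fin 4) F))) (hyU : y ∈ Cfsg.GU 4 F p)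
    (k : ℕ) (hk1 : 1 ≤ k) (hk : k.Coprime p) (hxk : x ^ k = 1) (hyk : y ^ k = 1)
    (hc : (y : Matrix (Fin 4) (Fin 4) F).charpoly = (x : Matrix (Fin 4) (Fin 4) F).charpoly) :
    ∃ g ∈ Cfsg.GU 4 F p ⊓ Cfsg.Geo.specialLinear (Fin 4) F,
      g⁻¹ * x * g ∈ Cfsg.Geo.subgroupNormalizer R := by
  have hy' : P * y * P⁻¹ ∈ Cfsg.Geo.subgroupNormalizer R := by
    unfold Cfsg.Geo.subgroupNormalizer
    rw [hRP]
    exact mem_normalizer_map (R0 i) P y hy
  have hc' : ((P * y * P⁻¹ : GL (Fin 4) F) : Matrix (Fin 4) (Fin 4) F).charpoly =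
      (x : Matrix (Fin 4) (Fin 4) F).charpoly := by
    rw [Units.val_mul, Units.val_mul]
    have := Matrix.charpoly_units_conj P (y : Matrix (Fin 4) (Fin 4) F)
    have h2 : ((P⁻¹ : GL (Fin 4) F) : Matrix (Fin 4) (Fin 4) F) =
        (P : Matrix (Fin 4) (Fin 4) F)⁻¹ := Matrix.coe_units_inv P
    rw [h2, this, hc]
  have hdx := (mem_specialLinear_iff4 x).1 (Subgroup.mem_inf.1 hx).2
  have hdy : ((P * y * P⁻¹ : GL (Fin 4) F) : Matrix (Fin 4) (Fin 4) F).det = 1 := by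
    rw [Matrix.det_eq_sign_charpoly_coeff, hc', ← Matrix.det_eq_sign_charpoly_coeff, hdx]
  have hyG : P * y * P⁻¹ ∈ Cfsg.GU 4 F p ⊓ Cfsg.Geo.specialLinear (Fin 4) F :=
    Subgroup.mem_inf.2 ⟨mul_mem (mul_mem hPU hyU) (inv_mem hPU), (mem_specialLinear_iff4 _).2 hdy⟩
  have hyk' : (P * y * P⁻¹) ^ k = 1 := by
    rw [conj_pow, hyk, mul_one, mul_inv_cancel]
  exact su_conj_into_of_charpoly4 hF (Cfsg.Geo.subgroupNormalizer R) x (P * y * P⁻¹) hx hyG hy'
    k hk1 hk hxk hyk' hc'.symm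

/-- the scalar `z` of `x ^ r = z` for `x ∈ SL₄` is a fourth root of unity -/
theorem pow_four_of_scalar_pow {x : GL (Fin 4) F} (hx : x ∈ Cfsg.Geo.specialLinear (Fin 4) F)
    {r : ℕ} {z : Fˣ} (hz : x ^ r = sc z) : z ^ 4 = 1 := by
  have hdx := (mem_specialLinear_iff4 x).1 hx
  have h1 := congrArg (fun g : GL (Fin 4) F => (g : Matrix (Fin 4) (Fin 4) F).det) hz
  simp only [Units.val_pow_eq_pow_val, Matrix.det_pow, hdx, one_pow, sc_val, Matrix.det_smul,
    Matrix.det_one, mul_one, Fintype.card_fin] at h1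
  apply Units.ext
  rw [Units.val_pow_eq_pow_val, Units.val_one]
  exact h1.symm

/-- The odd cases `r = 3, 5`. -/
theorem backward_oddU (hF : Fintype.card F = p ^ 2) (hp4 : p % 4 = 3) {i : Fˣ}
    (hi : (i : F) ^ 2 = -1) {P : GL (Fin 4) F} (hPU : P ∈ Cfsg.GU 4 F p)
    (hRP : R = (R0 i).map (MulAut.conj P).toMonoidHom) {r : ℕ} (hrp : r.Coprime p)
    (hodd : Odd r)
    (Q : ∀ x : GL (Fin 4) F, x ∈ Cfsg.GU 4 F p → x ^ r = 1 → x ≠ 1 →
      ∃ y : GL (Fin 4) F, y ∈ Subgroup.normalizer (R0 i : Set (GL (Fin 4) F)) ∧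
        (y : Matrix (Fin 4) (Fin 4) F).charpoly = (x : Matrix (Fin 4) (Fin 4) F).charpoly ∧
        y ^ r = 1)
    (x : GL (Fin 4) F) (hx : x ∈ Cfsg.GU 4 F p ⊓ Cfsg.Geo.specialLinear (Fin 4) F)
    (hxr : x ^ r ∈ Cfsg.Geo.scalars (Fin 4) F) (hns : x ∉ Cfsg.Geo.scalars (Fin 4) F) :
    ∃ g ∈ Cfsg.GU 4 F p ⊓ Cfsg.Geo.specialLinear (Fin 4) F,
      g⁻¹ * x * g ∈ Cfsg.Geo.subgroupNormalizer R := by
  obtain ⟨hxU, hxS⟩ := Subgroup.mem_inf.1 hx
  obtain ⟨z, hz⟩ := (mem_scalars_iff_sc _).1 hxr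
  have hz4 : z ^ 4 = 1 := pow_four_of_scalar_pow hxS hz
  have hr1 : r ≥ 1 := by
    obtain ⟨m, hm⟩ := hodd
    omega
  -- `w = z ^ r` is an `r`-th root of `z`
  have hrr : r * r % 4 = 1 := by
    obtain ⟨m, hm⟩ := hodd
    rw [hm]
    have : (2 * m + 1) * (2 * m + 1) = 4 * (m * (m + 1)) + 1 := by ring
    rw [this]
    omega
  set w : Fˣ := z ^ r with hw
  have hwr : w ^ r = z := by
    rw [hw, ← pow_mul]
    obtain ⟨q, hq⟩ : ∃ q, r * r = 4 * q + 1 := ⟨r * r / 4, by omega⟩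
    rw [hq, pow_add, pow_mul, hz4, one_pow, one_mul, pow_one]
  have hw4 : w ^ 4 = 1 := by
    rw [hw, ← pow_mul, mul_comm, pow_mul, hz4, one_pow]
  have hwi4 : (w⁻¹) ^ 4 = 1 := by rw [inv_pow, hw4, inv_one]
  have hscU : ∀ c : Fˣ, c ^ 4 = 1 → sc c ∈ Cfsg.GU 4 F p := by
    intro c hc
    apply sc_mem_GU hF
    apply norm_of_pow_four hp4
    rw [← Units.val_pow_eq_pow_val, hc, Units.val_one]
  set x' : GL (Fin 4) F := sc w⁻¹ * x with hx'
  have hxx' : x = sc w * x' := by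
    rw [hx', ← mul_assoc, sc_mul, mul_inv_cancel, sc_one, one_mul]
  have hx'r : x' ^ r = 1 := by
    rw [hx', (Commute.mul_pow (scalar_comm (sc_mem_scalars w⁻¹) x) r), hz, sc_pow, sc_mul, inv_pow,
      hwr, inv_mul_cancel, sc_one]
  have hx'1 : x' ≠ 1 := by
    intro h
    apply hns
    rw [hxx', h, mul_one]
    exact sc_mem_scalars w
  have hx'G : x' ∈ Cfsg.GU 4 F p ⊓ Cfsg.Geo.specialLinear (Fin 4) F :=
    Subgroup.mem_inf.2 ⟨mul_mem (hscU _ hwi4) hxU, mul_mem (sc_mem_specialLinear hwi4) hxS⟩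
  obtain ⟨y, hyN, hyc, hyr⟩ := Q x' (Subgroup.mem_inf.1 hx'G).1 hx'r hx'1
  have hdx' := (mem_specialLinear_iff4 x').1 (Subgroup.mem_inf.1 hx'G).2
  have hdy : (y : Matrix (Fin 4) (Fin 4) F).det = 1 := by
    rw [Matrix.det_eq_sign_charpoly_coeff, hyc, ← Matrix.det_eq_sign_charpoly_coeff, hdx']
  have hyU : y ∈ Cfsg.GU 4 F p := mem_GU_of_mem_normalizer_R0 hF hp4 i hi hyN hdy hodd hyr
  obtain ⟨g, hg, hgN⟩ := conj_via_standardU hF hPU hRP x' y hx'G hyN hyU r hr1 hrp hx'r hyr hyc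
  refine ⟨g, hg, ?_⟩
  have : g⁻¹ * x * g = sc w * (g⁻¹ * x' * g) := by
    rw [hxx']
    have := scalar_comm (sc_mem_scalars w) g⁻¹
    calc g⁻¹ * (sc w * x') * g = (g⁻¹ * sc w) * x' * g := by group
      _ = (sc w * g⁻¹) * x' * g := by rw [this]
      _ = sc w * (g⁻¹ * x' * g) := by group
  rw [this]
  exact (Cfsg.Geo.subgroupNormalizer R).mul_mem (sc_mem_normalizer R w) hgN

theorem mem_scalars_of_eq_smul' {g : GL (Fin 4) F} {z : F}
    (h : (g : Matrix (Fin 4) (Fin 4) F) = z • (1 : Matrix (Fin 4) (Fin 4) F)) :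
    g ∈ Cfsg.Geo.scalars (Fin 4) F := by
  by_contra hcon
  exact (not_mem_scalars_iff g).1 hcon z h

theorem sq_ne_one_of_orderOf' {a : ZMod 5} (h : orderOf a = 4) : a ^ 2 ≠ 1 ∧ a ^ 4 = 1 := by
  constructor
  · intro h2
    have := orderOf_dvd_of_pow_eq_one h2
    rw [h] at this
    omega
  · rw [← h]; exact pow_orderOf_eq_one a

/-- The "if" direction. -/
theorem backwardU (hF : Fintype.card F = p ^ 2) (hp4 : p % 4 = 3) (hS : SymData R)
    (hRU : R ≤ Cfsg.GU 4 F p) {r : ℕ}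
    (hr : r = 2 ∨ (r = 3 ∧ p % 3 = 1) ∨ (r = 5 ∧ orderOf (p : ZMod 5) = 4))
    (x : GL (Fin 4) F) (hx : x ∈ Cfsg.GU 4 F p ⊓ Cfsg.Geo.specialLinear (Fin 4) F)
    (hxr : ∃ z : F, ((x ^ r : GL (Fin 4) F) : Matrix (Fin 4) (Fin 4) F) =
        z • (1 : Matrix (Fin 4) (Fin 4) F))
    (hns : ∀ z : F, (x : Matrix (Fin 4) (Fin 4) F) ≠ z • (1 : Matrix (Fin 4) (Fin 4) F)) :
    ∃ g ∈ Cfsg.GU 4 F p ⊓ Cfsg.Geo.specialLinear (Fin 4) F,
      g⁻¹ * x * g ∈ Cfsg.Geo.subgroupNormalizer R := by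
  have hpp : p.Prime := Fact.out
  have hp2 : p ≠ 2 := by omega
  obtain ⟨i, P, hi, hPU, hRP⟩ := exists_standardU hF hp4 hS hRU
  obtain ⟨z, hz⟩ := hxr
  have hxs : x ^ r ∈ Cfsg.Geo.scalars (Fin 4) F := mem_scalars_of_eq_smul' hz
  have hnss : x ∉ Cfsg.Geo.scalars (Fin 4) F := (not_mem_scalars_iff x).2 hns
  rcases hr with rfl | ⟨rfl, hp3⟩ | ⟨rfl, hord⟩
  · -- r = 2
    have hz' : (x : Matrix (Fin 4) (Fin 4) F) * (x : Matrix (Fin 4) (Fin 4) F) = z • 1 := by
      rw [← hz, pow_two, Units.val_mul]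
    obtain ⟨y, hyN, hyU, hyc, hy8⟩ :=
      Cfsg.Agent.Helper16.USym4U4.exists_normalizer_charpoly_twoU hF hp4 i hi x hx z hz' hns
    obtain ⟨zu, hzu⟩ := (mem_scalars_iff_sc _).1 hxs
    have hz4 : zu ^ 4 = 1 := pow_four_of_scalar_pow (Subgroup.mem_inf.1 hx).2 hzu
    have hx8 : x ^ 8 = 1 := by
      have : x ^ 8 = (x ^ 2) ^ 4 := by rw [← pow_mul]
      rw [this, hzu, sc_pow, hz4, sc_one]
    have h8p : Nat.Coprime 8 p := by
      have : Nat.Coprime (2 ^ 3) p :=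
        Nat.Coprime.pow_left 3 ((Nat.coprime_primes Nat.prime_two hpp).2 (Ne.symm hp2))
      exact this
    exact conj_via_standardU hF hPU hRP x y hx hyN hyU 8 (by norm_num) h8p hx8 hy8 hyc
  · -- r = 3
    have h3p : Nat.Coprime 3 p := (Nat.coprime_primes Nat.prime_three hpp).2 (by omega)
    exact backward_oddU hF hp4 hi hPU hRP h3p (by decide)
      (fun x' hU h1 h2 =>
        exists_normalizer_charpoly_threeU hF hp4 hp3 i hi x' hU h1 h2)
      x hx hxs hnss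
  · -- r = 5
    obtain ⟨hsq, hfour⟩ := sq_ne_one_of_orderOf' hord
    have hp5' : p ≠ 5 := by
      intro h5
      rw [h5, ZMod.natCast_self, zero_pow (by norm_num)] at hfour
      exact absurd hfour (by decide)
    have h5p : Nat.Coprime 5 p := (Nat.coprime_primes Nat.prime_five hpp).2 (fun h => hp5' h.symm)
    exact backward_oddU hF hp4 hi hPU hRP h5p (by decide)
      (fun x' hU h1 h2 =>
        exists_normalizer_charpoly_fiveU hF hp4 hord i hi x' hU h1 h2)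
      x hx hxs hnss

/-- **S6001**, both directions. -/
theorem mainU (hF : Fintype.card F = p ^ 2) (hp4 : p % 4 = 3)
    (R : Subgroup (GL (Fin 4) F)) (hRs : Cfsg.Geo.IsSymplecticTypeGroup 2 R)
    (hRi : Cfsg.Geo.ActsAbsolutelyIrreducibly (Cfsg.Geo.matrixSet R))
    (hRU : R ≤ Cfsg.GU 4 F p) (hR6 : Nat.card R = 2 ^ 6)
    (hRZ : Nat.card (Subgroup.center R) = 4) (r : ℕ) [Fact r.Prime]
    (hΩ : r ∣ (Cfsg.Geo.subgroupNormalizer R).relIndex
      (Cfsg.GU 4 F p ⊓ Cfsg.Geo.specialLinear (Fin 4) F)) :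
    (∀ x ∈ Cfsg.GU 4 F p ⊓ Cfsg.Geo.specialLinear (Fin 4) F,
      (∃ z : F, ((x ^ r : GL (Fin 4) F) : Matrix (Fin 4) (Fin 4) F) =
        z • (1 : Matrix (Fin 4) (Fin 4) F)) →
      (∀ z : F, (x : Matrix (Fin 4) (Fin 4) F) ≠ z • (1 : Matrix (Fin 4) (Fin 4) F)) →
      ∃ g ∈ Cfsg.GU 4 F p ⊓ Cfsg.Geo.specialLinear (Fin 4) F,
        g⁻¹ * x * g ∈ Cfsg.Geo.subgroupNormalizer R) ↔
    (r = 2 ∨ (r = 3 ∧ p % 3 = 1) ∨ (r = 5 ∧ orderOf (p : ZMod 5) = 4)) := by
  have h2 : (2 : F) ≠ 0 := two_ne_zero_of_mod_four hp4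
  have hS := symData_of_parts h2 R hRs hRi hR6 hRZ
  constructor
  · intro hall
    exact forwardU hF hp4 hS hΩ hall
  · intro hr x hx hxr hns
    exact backwardU hF hp4 hS hRU hr x hx hxr hns

end Cfsg.Agent.Helper17.USym4
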