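import Mathlib
import Cfsg.Prelude.Def_Classical
import Cfsg.Prelude.Def_LieClassical
import Cfsg.Agent.Lib.Helper17.QuadExt
import Cfsg.Agent.Lib.Helper17.ScalarRestrictHom

/-!
# Unitary groups inside orthogonal groups (helper17)

`exists_hom_isometryGroup`: if the Hermitian norm form `Σ x_i ^ (q+1)` on `K ^ m`, read over the
subfield `F` through an `F`-linear map `Ψ₀ : F ^ ι → K ^ m`, is the quadratic form `Q`
(with trivial radical, `#ι = 2 m`), then `GU_m(q)` embeds in the isometry group of `Q`.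

Also: surjectivity of the norm `x ↦ x * x ^ q`, and an explicit hyperbolic basis of `(K², N ⊕ N)`.
-/

set_option autoImplicit false

namespace Cfsg.Agent.Helper17

open Cfsg

theorem exists_hom_isometryGroup {K F : Type*} [Field K] [Fintype K] [Field F] [Fintype F] {q : ℕ}
    (hK : Fintype.card K = q ^ 2) (hF : Fintype.card F = q) [Algebra F K]
    {ι : Type} [Fintype ι] [DecidableEq ι] (m : ℕ) (hcard : Fintype.card ι = 2 * m)
    (Q : (ι → F) → F) (hrad : ∀ w, (∀ w', Q (w + w') = Q w') → w = 0)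
    (Ψ₀ : (ι → F) →ₗ[F] (Fin m → K))
    (hQ : ∀ w, hermForm m K q (Ψ₀ w) (Ψ₀ w) = algebraMap F K (Q w)) :
    ∃ φ : ↥(Cfsg.GU m K q) →* ↥(Cfsg.isometryGroup F Q), Function.Injective φ := by
  classical
  have hemb : Function.Injective (algebraMap F K) := (algebraMap F K).injective
  have hinj : Function.Injective Ψ₀ := by
    rw [← LinearMap.ker_eq_bot, LinearMap.ker_eq_bot']
    intro w hw
    apply hrad
    intro w'
    apply hemb
    rw [← hQ, ← hQ, map_add, hw, zero_add]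
  have hbij : Function.Bijective Ψ₀ := by
    apply Function.Injective.bijective_of_nat_card_le hinj
    rw [Nat.card_eq_fintype_card, Nat.card_eq_fintype_card, Fintype.card_fun, Fintype.card_fun,
      hcard, Fintype.card_fin, hK, hF, ← pow_mul]
  let Ψ : (ι → F) ≃ₗ[F] (Fin m → K) := LinearEquiv.ofBijective Ψ₀ hbij
  have hΨ : ∀ w, Ψ w = Ψ₀ w := fun w => rfl
  obtain ⟨T, hTinj, hT⟩ := exists_hom_of_linearEquiv m Ψ
  let φ₀ : ↥(Cfsg.GU m K q) →* Matrix.GeneralLinearGroup ι F :=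
    (Units.map T).comp (Cfsg.GU m K q).subtype
  have hmem : ∀ g, φ₀ g ∈ Cfsg.isometryGroup F Q := by
    intro g u v
    show Q ((T ((g : Matrix.GeneralLinearGroup (Fin m) K) : Matrix (Fin m) (Fin m) K)).mulVec u)
      = Q u
    apply hemb
    rw [← hQ, ← hQ, ← hΨ, ← hΨ, hT]
    exact g.2 _ _
  refine ⟨φ₀.codRestrict _ hmem, ?_⟩
  intro g g' h
  have h1 : φ₀ g = φ₀ g' := congrArg Subtype.val h
  have h2 : T ((g : Matrix.GeneralLinearGroup (Fin m) K) : Matrix (Fin m) (Fin m) K)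
      = T ((g' : Matrix.GeneralLinearGroup (Fin m) K) : Matrix (Fin m) (Fin m) K) :=
    congrArg Units.val h1
  exact Subtype.ext (Units.ext (hTinj h2))

/-- The norm `x ↦ x * x ^ q` of a quadratic extension of finite fields is onto the subfield. -/
theorem exists_norm_eq {K F : Type*} [Field K] [Fintype K] [Field F] [Fintype F] {q : ℕ}
    (hK : Fintype.card K = q ^ 2) (hF : Fintype.card F = q) (emb : F →+* K) (a : F) :
    ∃ x : K, x * x ^ q = emb a := by
  letI : Algebra F K := emb.toAlgebra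
  obtain ⟨x, hx⟩ := FiniteField.norm_surjective F K a
  refine ⟨x, ?_⟩
  have h := FiniteField.algebraMap_norm_eq_pow (K := F) (K' := K) (x := x)
  rw [hx, Nat.card_eq_fintype_card, Nat.card_eq_fintype_card, hK, hF] at h
  have hq1 : 1 < q := by rw [← hF]; exact Fintype.one_lt_card
  have hdiv : (q ^ 2 - 1) / (q - 1) = q + 1 := by
    have h1 : q ^ 2 - 1 = (q + 1) * (q - 1) := by
      obtain ⟨k, rfl⟩ : ∃ k, q = k + 1 := ⟨q - 1, by omega⟩
      simp only [Nat.add_sub_cancel]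
      have : (k + 1) ^ 2 = (k + 1 + 1) * k + 1 := by ring
      rw [this, Nat.add_sub_cancel]
    rw [h1, Nat.mul_div_cancel _ (by omega)]
  rw [hdiv, pow_succ'] at h
  exact h.symm

/-- An explicit hyperbolic basis for `N ⊕ N` on `K²`, `N x = x * σ x`. -/
theorem exists_hyp_data {K : Type*} [Field K] (σ : K →+* K) (hσσ : ∀ x, σ (σ x) = x) (θ : K)
    (hθ : σ θ ≠ θ) (ε : K) (hε : ε * σ ε = -1) :
    ∃ ε' x₁ x₂ : K, ε' * σ ε' = -1 ∧
      (1 + ε * σ ε') * σ x₁ + (1 + σ ε * ε') * x₁ = 1 ∧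
      (1 + ε * σ ε') * θ * σ x₁ + (1 + σ ε * ε') * σ θ * x₁ = 0 ∧
      (1 + ε * σ ε') * σ x₂ + (1 + σ ε * ε') * x₂ = 0 ∧
      (1 + ε * σ ε') * θ * σ x₂ + (1 + σ ε * ε') * σ θ * x₂ = 1 := by
  have hθ0 : θ ≠ 0 := by
    rintro rfl
    exact hθ (map_zero σ)
  have hσθ0 : σ θ ≠ 0 := fun h => hθ0 (by rw [← hσσ θ, h, map_zero])
  have hδ : θ - σ θ ≠ 0 := sub_ne_zero.2 (Ne.symm hθ)
  have hε0 : ε ≠ 0 := by
    rintro rfl
    rw [zero_mul] at hε
    exact zero_ne_one (neg_eq_zero.1 hε.symm).symm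
  -- `ζ` of norm one, not equal to one
  obtain ⟨ζ, hζ⟩ : ∃ ζ : K, ζ = σ θ / θ := ⟨_, rfl⟩
  have hσζ : σ ζ = θ / σ θ := by rw [hζ, map_div₀, hσσ]
  -- `c = 1 - σ ζ`
  have hc : (1 : K) + ε * σ (ε * ζ) = (σ θ - θ) / σ θ := by
    rw [map_mul, hσζ]
    field_simp
    linear_combination θ * hε
  have hc' : (1 : K) + σ ε * (ε * ζ) = (θ - σ θ) / θ := by
    rw [hζ]
    field_simp
    linear_combination σ θ * hε
  refine ⟨ε * ζ, θ / ((θ - σ θ) * ((θ - σ θ) / θ)), -1 / ((θ - σ θ) * ((θ - σ θ) / θ)), ?_, ?_, ?_,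
    ?_, ?_⟩
  · rw [map_mul, hσζ, hζ]
    field_simp
    linear_combination hε
  · rw [hc, hc']
    simp only [map_div₀, map_mul, map_sub, hσσ]
    field_simp
    ring
  · rw [hc, hc']
    simp only [map_div₀, map_mul, map_sub, hσσ]
    field_simp
    ring
  · rw [hc, hc']
    simp only [map_div₀, map_mul, map_sub, hσσ, map_neg, map_one]
    field_simp
    ring
  · rw [hc, hc']
    simp only [map_div₀, map_mul, map_sub, hσσ, map_neg, map_one]
    field_simp
    ring

end Cfsg.Agent.Helper17
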