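import Mathlib
import Cfsg.Agent.Lib.Helper23.ZS4Defs
import Cfsg.Agent.Lib.Helper14.ZS4CLASS
import Cfsg.Agent.Lib.Helper6.ZS4NS
import Cfsg.Agent.Lib.Helper3.ZS4INVOLM
import Cfsg.Agent.Lib.Helper3.ZS4MEMM

/-!
# S3222 piece CORE (helper17 for helper23): if `|G| > 144` the core of `C = C_G(t)` is trivial.
-/

set_option autoImplicit false

namespace Cfsg.Agent.Helper23.ZS4

open Equiv

variable {G : Type*} [Group G]

namespace CORE

/-- conjugates of an element of order 2 have order 2 -/
theorem orderOf_conj (g x : G) : orderOf (g * x * g⁻¹) = orderOf x := by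
  have : g * x * g⁻¹ = MulAut.conj g x := by simp [MulAut.conj_apply]
  rw [this]
  exact orderOf_injective (MulAut.conj g).toMonoidHom (MulAut.conj g).injective x

end CORE

/-- PIECE CORE. -/
theorem normalCore_eq_bot [Finite G] {t z v τ : G} (T : Sylow 2 G)
    (L : Loc t z v τ (T : Subgroup G)) (M : Subgroup G) [M.Normal] (hM2 : M.index = 2)
    (htM : t ∉ M) (hcard : 144 < Nat.card G) :
    (Subgroup.centralizer ({t} : Set G)).normalCore = ⊥ := by
  by_contra hne
  -- `C ≠ ⊤`
  have hC : Subgroup.centralizer ({t} : Set G) ≠ ⊤ := by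
    intro h
    have h1 := L.card_C
    rw [h, Subgroup.card_top] at h1
    omega
  -- `z` lies in the core
  have hzN : z ∈ (Subgroup.centralizer ({t} : Set G)).normalCore := by
    by_contra hz
    exact hne (normal_eq_bot T L hC _ hz)
  have hzM : z ∈ M := (mem_M L M hM2 htM).1
  -- the class of `z` consists of involutions of `C ∩ M`
  have hsub : {x' : G | ∃ g : G, x' = g * z * g⁻¹} ⊆
      {x : G | x ∈ Subgroup.centralizer ({t} : Set G) ∧ x ∈ M ∧ orderOf x = 2} := by
    rintro x ⟨g, rfl⟩
    refine ⟨?_, ?_, ?_⟩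
    · have hn : ((Subgroup.centralizer ({t} : Set G)).normalCore).Normal :=
        Subgroup.normalCore_normal _
      exact Subgroup.normalCore_le _ (hn.conj_mem z hzN g)
    · exact (inferInstance : M.Normal).conj_mem z hzM g
    · rw [CORE.orderOf_conj, L.hz]
  have hle : Set.ncard {x' : G | ∃ g : G, x' = g * z * g⁻¹} ≤ 9 :=
    (Set.ncard_le_ncard hsub (Set.toFinite _)).trans (invol_CM_le L M hM2 htM)
  have hcl := class_card z
  rw [L.cent_z, L.card_T] at hcl
  have : Nat.card G ≤ 9 * 16 := by
    rw [← hcl]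
    exact Nat.mul_le_mul_right 16 hle
  omega

end Cfsg.Agent.Helper23.ZS4
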